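import Groth.Agent.Lib.Helper4.TorLES
import Groth.Agent.Lib.Helper9.FlatCrit
import Mathlib.Algebra.Category.ModuleCat.Monoidal.Closed
import Mathlib.CategoryTheory.Abelian.LeftDerived

/-!
# Bridging `CategoryTheory.Tor` (first variable) and injectivity of tensored maps
-/

set_option autoImplicit false
universe u

open CategoryTheory MonoidalCategory Limits

namespace Groth.Agent.Lib.Helper21

open Groth.Agent.Lib.Helper4

variable {R : Type u} [CommRing R]

section H0

variable {X₁ X₂ : ModuleCat.{u} R} (f : X₁ ⟶ X₂) {S : ModuleCat.{u} R}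
  (Q : ProjectiveResolution S)

/-- Naturality of `fromLeftDerivedZero'` in the functor. -/
theorem fromLeftDerivedZero'_naturality_functor {F G : ModuleCat.{u} R ⥤ ModuleCat.{u} R}
    [F.Additive] [G.Additive] (α : F ⟶ G) :
    HomologicalComplex.opcyclesMap
        ((NatTrans.mapHomologicalComplex α (ComplexShape.down ℕ)).app Q.complex) 0 ≫
      Q.fromLeftDerivedZero' G = Q.fromLeftDerivedZero' F ≫ α.app S := by
  rw [← cancel_epi (HomologicalComplex.pOpcycles _ _)]
  simp only [HomologicalComplex.p_opcyclesMap_assoc, NatTrans.mapHomologicalComplex_app_f,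
    ProjectiveResolution.pOpcycles_comp_fromLeftDerivedZero',
    ProjectiveResolution.pOpcycles_comp_fromLeftDerivedZero'_assoc]
  exact (α.naturality (Q.π.f 0)).symm


/-- The comparison iso `H₀(X ⊗ Q) ≅ X ⊗ S`. -/
noncomputable def h0Iso (X : ModuleCat.{u} R) :
    ((((tensoringLeft (ModuleCat.{u} R)).obj X).mapHomologicalComplex
      (ComplexShape.down ℕ)).obj Q.complex).homology 0 ≅
      ((tensoringLeft (ModuleCat.{u} R)).obj X).obj S :=
  (ChainComplex.isoHomologyι₀ _) ≪≫
    asIso (Q.fromLeftDerivedZero' ((tensoringLeft (ModuleCat.{u} R)).obj X))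

theorem h0Iso_naturality :
    HomologicalComplex.homologyMap
        ((NatTrans.mapHomologicalComplex ((tensoringLeft (ModuleCat.{u} R)).map f)
          (ComplexShape.down ℕ)).app Q.complex) 0 ≫ (h0Iso Q X₂).hom =
      (h0Iso Q X₁).hom ≫ ((tensoringLeft (ModuleCat.{u} R)).map f).app S := by
  simp only [h0Iso, Iso.trans_hom, asIso_hom, Category.assoc]
  rw [← fromLeftDerivedZero'_naturality_functor Q ((tensoringLeft (ModuleCat.{u} R)).map f)]
  simp only [← Category.assoc]
  congr 1
  exact HomologicalComplex.homologyι_naturality _ 0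

end H0


section Main

variable (T : ShortComplex (ModuleCat.{u} R)) (S : ModuleCat.{u} R)

theorem mono_homologyMap_zero_iff :
    Mono (HomologicalComplex.homologyMap
      ((NatTrans.mapHomologicalComplex ((tensoringLeft (ModuleCat.{u} R)).map T.f)
          (ComplexShape.down ℕ)).app (projectiveResolution S).complex) 0) ↔
      Function.Injective (T.f.hom.rTensor S) := by
  have hsq := h0Iso_naturality T.f (projectiveResolution S)
  have hw : ((tensoringLeft (ModuleCat.{u} R)).map T.f).app S = T.f ▷ S := rfl
  rw [hw] at hsq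
  have hinj : Mono (T.f ▷ S) ↔ Function.Injective (T.f.hom.rTensor S) := by
    rw [ModuleCat.mono_iff_injective]
    rfl
  rw [← hinj]
  constructor
  · intro h
    have h1 : T.f ▷ S = (h0Iso (projectiveResolution S) T.X₁).inv ≫
        HomologicalComplex.homologyMap
          ((NatTrans.mapHomologicalComplex ((tensoringLeft (ModuleCat.{u} R)).map T.f)
            (ComplexShape.down ℕ)).app (projectiveResolution S).complex) 0 ≫
          (h0Iso (projectiveResolution S) T.X₂).hom := by
      rw [Iso.eq_inv_comp]
      exact hsq.symm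
    rw [h1]
    infer_instance
  · intro h
    have h1 : HomologicalComplex.homologyMap
          ((NatTrans.mapHomologicalComplex ((tensoringLeft (ModuleCat.{u} R)).map T.f)
            (ComplexShape.down ℕ)).app (projectiveResolution S).complex) 0 =
        (h0Iso (projectiveResolution S) T.X₁).hom ≫ T.f ▷ S ≫
          (h0Iso (projectiveResolution S) T.X₂).inv := by
      rw [← Category.assoc, Iso.eq_comp_inv]
      exact hsq
    rw [h1]
    infer_instance

/-- `Tor₁(X₃, S) = 0` implies `X₁ ⊗ S → X₂ ⊗ S` injective, for a short exact `X₁ → X₂ → X₃`. -/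
theorem injective_rTensor_of_isZero_tor_one (hT : T.ShortExact)
    (h : IsZero (((Tor (ModuleCat.{u} R) 1).obj T.X₃).obj S)) :
    Function.Injective (T.f.hom.rTensor S) := by
  rw [← mono_homologyMap_zero_iff]
  change Mono (HomologicalComplex.homologyMap
    (tensorSC T (projectiveResolution S).complex).f 0)
  have hS := tensorSC_shortExact T hT (projectiveResolution S).complex
    (fun n => (projectiveResolution S).projective n)
  have hex := hS.homology_exact₁ 1 0 (by simp)
  have h3' : IsZero ((tensorSC T (projectiveResolution S).complex).X₃.homology 1) :=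
    h.of_iso (torIsoHomology T.X₃ S 1).symm
  exact hex.mono_g (h3'.eq_of_src _ _)

/-- Conversely, if `Tor₁(X₂, S) = 0` and `X₁ ⊗ S → X₂ ⊗ S` is injective then `Tor₁(X₃, S) = 0`. -/
theorem isZero_tor_one_of_injective_rTensor (hT : T.ShortExact)
    (h2 : IsZero (((Tor (ModuleCat.{u} R) 1).obj T.X₂).obj S))
    (hinj : Function.Injective (T.f.hom.rTensor S)) :
    IsZero (((Tor (ModuleCat.{u} R) 1).obj T.X₃).obj S) := by
  have hmono : Mono (HomologicalComplex.homologyMap
      (tensorSC T (projectiveResolution S).complex).f 0) :=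
    (mono_homologyMap_zero_iff T S).mpr hinj
  have hS := tensorSC_shortExact T hT (projectiveResolution S).complex
    (fun n => (projectiveResolution S).projective n)
  have hex1 := hS.homology_exact₁ 1 0 (by simp)
  have hex3 := hS.homology_exact₃ 1 0 (by simp)
  have h2' : IsZero ((tensorSC T (projectiveResolution S).complex).X₂.homology 1) :=
    h2.of_iso (torIsoHomology T.X₂ S 1).symm
  have hδmono : Mono (hS.δ 1 0 (by simp)) := hex3.mono_g (h2'.eq_of_src _ _)
  have hδzero : hS.δ 1 0 (by simp) = 0 := by
    rw [← cancel_mono (HomologicalComplex.homologyMap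
      (tensorSC T (projectiveResolution S).complex).f 0), hS.δ_comp, zero_comp]
  have h3' : IsZero ((tensorSC T (projectiveResolution S).complex).X₃.homology 1) :=
    IsZero.of_mono_eq_zero _ hδzero
  exact h3'.of_iso (torIsoHomology T.X₃ S 1)

end Main


section Elementary

open Groth.Agent.Lib.Helper9

/-- `Tor₁(R/I, M) = 0` implies `I ⊗ M → R ⊗ M` injective. -/
theorem injective_rTensor_subtype_of_isZero_tor_one (R : Type u) [CommRing R] (I : Ideal R)
    (M : Type u) [AddCommGroup M] [Module R M]
    (h : Limits.IsZero (((CategoryTheory.Tor (ModuleCat.{u} R) 1).obj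
      (ModuleCat.of R (R ⧸ I))).obj (ModuleCat.of R M))) :
    Function.Injective (I.subtype.rTensor M) := by
  let i : ModuleCat.of R I ⟶ ModuleCat.of R R := ModuleCat.ofHom I.subtype
  let p : ModuleCat.of R R ⟶ ModuleCat.of R (R ⧸ I) := ModuleCat.ofHom I.mkQ
  have w : i ≫ p = 0 := by
    ext x
    simp only [i, p, ModuleCat.hom_comp, ModuleCat.hom_ofHom, LinearMap.comp_apply,
      ModuleCat.hom_zero, LinearMap.zero_apply, Submodule.subtype_apply, Submodule.mkQ_apply]
    exact (Submodule.Quotient.mk_eq_zero I).2 x.2
  have hS : (ShortComplex.mk i p w).ShortExact :=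
    ModuleCat.shortComplex_shortExact _ (LinearMap.exact_subtype_mkQ I)
      (Submodule.injective_subtype I) (Submodule.mkQ_surjective I)
  exact injective_rTensor_of_isZero_tor_one (ShortComplex.mk i p w) (ModuleCat.of R M) hS h

theorem injective_rTensor_ker_subtype_of_torOneVanish (R : Type u) [CommRing R] (M : Type u)
    [AddCommGroup M] [Module R M] (N : Type u) [AddCommGroup N] [Module R N]
    (htor : TorOneVanish R M N) (P : Type u) [AddCommGroup P] [Module R P]
    (g : P →ₗ[R] N) (hg : Function.Surjective g) :
    Function.Injective ((LinearMap.ker g).subtype.rTensor M) :=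
  htor (LinearMap.ker g) P (LinearMap.ker g).subtype g
    (Submodule.injective_subtype _) (LinearMap.exact_subtype_ker_map g) hg

/-- The elementary `Tor₁`-vanishing implies vanishing of the derived-functor `Tor₁`. -/
theorem isZero_tor_one_of_torOneVanish (R : Type u) [CommRing R] (M : Type u)
    [AddCommGroup M] [Module R M] (N : Type u) [AddCommGroup N] [Module R N]
    (htor : TorOneVanish R M N) :
    Limits.IsZero (((CategoryTheory.Tor (ModuleCat.{u} R) 1).obj (ModuleCat.of R N)).obj
      (ModuleCat.of R M)) := by
  let g : (N →₀ R) →ₗ[R] N := Finsupp.linearCombination R id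
  have hg : Function.Surjective g := Finsupp.linearCombination_id_surjective R N
  let i₂ : ModuleCat.of R (LinearMap.ker g) ⟶ ModuleCat.of R (N →₀ R) :=
    ModuleCat.ofHom (LinearMap.ker g).subtype
  let p₂ : ModuleCat.of R (N →₀ R) ⟶ ModuleCat.of R N := ModuleCat.ofHom g
  have w₂ : i₂ ≫ p₂ = 0 := by
    ext x
    simp only [i₂, p₂, ModuleCat.hom_comp, ModuleCat.hom_ofHom, LinearMap.comp_apply,
      ModuleCat.hom_zero, LinearMap.zero_apply, Submodule.subtype_apply]
    exact x.2
  have hS₂ : (ShortComplex.mk i₂ p₂ w₂).ShortExact :=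
    ModuleCat.shortComplex_shortExact _ (LinearMap.exact_subtype_ker_map g)
      (Submodule.injective_subtype _) hg
  have hflat : Module.Flat R (ModuleCat.of R (N →₀ R)) :=
    inferInstanceAs (Module.Flat R (N →₀ R))
  have h2 : Limits.IsZero (((CategoryTheory.Tor (ModuleCat.{u} R) 1).obj
      (ModuleCat.of R (N →₀ R))).obj (ModuleCat.of R M)) :=
    Groth.Agent.Lib.Helper4.isZero_tor_of_flat (ModuleCat.of R (N →₀ R)) (ModuleCat.of R M) 1
      one_pos
  have hinj : Function.Injective ((LinearMap.ker g).subtype.rTensor M) :=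
    injective_rTensor_ker_subtype_of_torOneVanish R M N htor (N →₀ R) g hg
  exact isZero_tor_one_of_injective_rTensor (ShortComplex.mk i₂ p₂ w₂)
    (ModuleCat.of R M) hS₂ h2 hinj

end Elementary

end Groth.Agent.Lib.Helper21
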