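import Mathlib.RingTheory.RegularLocalRing.Defs
import Mathlib.RingTheory.KrullDimension.Regular
import Mathlib.RingTheory.Regular.RegularSequence
import Mathlib.RingTheory.Ideal.MinimalPrime.Noetherian

/-!
# Regular local rings are domains; minimal generators form a regular sequence
-/

set_option autoImplicit false

namespace Groth.Agent.Lib.Helper21

open IsLocalRing Pointwise

variable {R : Type*} [CommRing R]

/-- Prime avoidance: if the maximal ideal of a Noetherian local ring is not a minimal prime,
there is `x ∈ 𝔪`, `x ∉ 𝔪²`, `x` not in any minimal prime. -/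
theorem exists_mem_maximalIdeal_notMem_sq_notMem_minimalPrimes [IsLocalRing R] [IsNoetherianRing R]
    (h : maximalIdeal R ∉ minimalPrimes R) :
    ∃ x ∈ maximalIdeal R, x ∉ maximalIdeal R ^ 2 ∧ ∀ p ∈ minimalPrimes R, x ∉ p := by
  classical
  by_contra hcon
  push Not at hcon
  have hfin : (minimalPrimes R).Finite := minimalPrimes.finite_of_isNoetherianRing R
  set s : Finset (Ideal R) := insert (maximalIdeal R ^ 2) hfin.toFinset with hs
  have hsub : ((maximalIdeal R : Ideal R) : Set R) ⊆ ⋃ i ∈ (↑s : Set (Ideal R)), ((id i : Ideal R) : Set R) := by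
    intro x hx
    simp only [Set.mem_iUnion, SetLike.mem_coe, exists_prop]
    by_cases hx2 : x ∈ maximalIdeal R ^ 2
    · exact ⟨_, by simp [hs], hx2⟩
    · obtain ⟨p, hp, hxp⟩ := hcon x hx hx2
      exact ⟨p, by simp [hs, hp], hxp⟩
  rw [Ideal.subset_union_prime (maximalIdeal R ^ 2) (maximalIdeal R ^ 2)] at hsub
  · obtain ⟨i, hi, hle⟩ := hsub
    simp only [hs, Finset.mem_insert, Set.Finite.mem_toFinset] at hi
    rcases hi with rfl | hi
    · -- 𝔪 ≤ 𝔪², so 𝔪 = ⊥
      have hbot : maximalIdeal R = ⊥ := by
        apply Submodule.eq_bot_of_le_smul_of_le_jacobson_bot (maximalIdeal R) (maximalIdeal R)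
          (IsNoetherian.noetherian _)
        · simpa [pow_two] using hle
        · exact maximalIdeal_le_jacobson _
      obtain ⟨p, hp, hple⟩ := Ideal.exists_minimalPrimes_le (I := (⊥ : Ideal R))
        (J := maximalIdeal R) bot_le
      have : p = maximalIdeal R := by
        rw [hbot] at hple ⊢
        exact le_bot_iff.mp hple
      exact h (this ▸ hp)
    · have hip : i.IsPrime := hi.1.1
      have : i = maximalIdeal R := le_antisymm (IsLocalRing.le_maximalIdeal hip.ne_top) hle
      exact h (this ▸ hi)
  · intro i hi h1 _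
    simp only [hs, Finset.mem_insert, Set.Finite.mem_toFinset] at hi
    rcases hi with rfl | hi
    · exact absurd rfl h1
    · exact hi.1.1


/-- If `x ∈ 𝔪` avoids all minimal primes, `dim R/(x) + 1 = dim R`. -/
theorem ringKrullDim_quotient_span_singleton_succ_of_notMem_minimalPrimes
    [IsLocalRing R] [IsNoetherianRing R] {x : R} (hx : x ∈ maximalIdeal R)
    (hn : ∀ p ∈ minimalPrimes R, x ∉ p) :
    ringKrullDim (R ⧸ Ideal.span {x}) + 1 = ringKrullDim R := by
  have h : Ideal.span {x} = x • (⊤ : Ideal R) := by simp [← Submodule.ideal_span_singleton_smul]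
  rw [ringKrullDim_eq_of_ringEquiv (Ideal.quotientEquivAlgOfEq R h).toRingEquiv,
    ← Module.supportDim_quotient_eq_ringKrullDim, ← Module.supportDim_self_eq_ringKrullDim]
  apply Module.supportDim_quotSMulTop_succ_eq_of_notMem_minimalPrimes_of_mem_maximalIdeal _ hx
  intro p hp
  apply hn p
  rwa [Module.annihilator_eq_bot.mpr inferInstance] at hp


/-- Exchange lemma: an element of `𝔪 \ 𝔪²` is part of a minimal generating set. -/
theorem exists_finset_span_insert_eq_maximalIdeal [IsLocalRing R] [IsNoetherianRing R] {x : R}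
    (hx : x ∈ maximalIdeal R) (hx2 : x ∉ maximalIdeal R ^ 2) :
    ∃ t : Finset R, t.card + 1 = (maximalIdeal R).spanFinrank ∧
      Ideal.span (insert x (t : Set R)) = maximalIdeal R := by
  classical
  obtain ⟨s, hscard, hsspan⟩ := Submodule.FG.exists_span_finset_card_eq_spanFinrank
    (maximalIdeal R).fg_of_isNoetherianRing
  have hxs : x ∈ Submodule.span R (s : Set R) := by rw [hsspan]; exact hx
  obtain ⟨c, -, hc⟩ := Submodule.mem_span_finset.mp hxs
  have hsm : ∀ a ∈ s, a ∈ maximalIdeal R := fun a ha => hsspan ▸ Submodule.subset_span ha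
  have : ∃ j ∈ s, IsUnit (c j) := by
    by_contra hcon
    push Not at hcon
    apply hx2
    rw [← hc, pow_two]
    refine sum_mem fun a ha => ?_
    exact Ideal.mul_mem_mul (hcon a ha) (hsm a ha)
  obtain ⟨j, hj, hu⟩ := this
  refine ⟨s.erase j, ?_, ?_⟩
  · rw [Finset.card_erase_of_mem hj, ← hscard]
    have := Finset.card_pos.mpr ⟨j, hj⟩
    omega
  · apply le_antisymm
    · rw [Ideal.span_le]
      rintro y (rfl | hy)
      · exact hx
      · exact hsm y (Finset.erase_subset _ _ hy)
    · rw [← hsspan]
      change Ideal.span (s : Set R) ≤ _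
      rw [Ideal.span_le]
      intro y hy
      by_cases hyj : y = j
      · subst hyj
        have h1 : c y * y = x - ∑ a ∈ s.erase y, c a • a := by
          rw [← hc, ← Finset.add_sum_erase s _ hy]
          simp
        have h2 : c y * y ∈ Ideal.span (insert x ((s.erase y : Finset R) : Set R)) := by
          rw [h1]
          refine sub_mem (Ideal.subset_span (Set.mem_insert _ _)) (sum_mem fun a ha => ?_)
          exact Ideal.mul_mem_left _ _ (Ideal.subset_span (Set.mem_insert_of_mem _ ha))
        exact (Ideal.unit_mul_mem_iff_mem _ hu).mp h2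
      · exact Ideal.subset_span (Set.mem_insert_of_mem _ (Finset.mem_erase.mpr ⟨hyj, hy⟩))

theorem maximalIdeal_quotient_eq_map [IsLocalRing R] (I : Ideal R) [IsLocalRing (R ⧸ I)] :
    maximalIdeal (R ⧸ I) = (maximalIdeal R).map (Ideal.Quotient.mk I) := by
  have hs : Function.Surjective (Ideal.Quotient.mk I) := Ideal.Quotient.mk_surjective
  have : IsLocalHom (Ideal.Quotient.mk I) := IsLocalHom.of_surjective _ hs
  rw [← IsLocalRing.maximalIdeal_comap (Ideal.Quotient.mk I), Ideal.map_comap_of_surjective _ hs]

theorem spanFinrank_maximalIdeal_quotient_succ_le [IsLocalRing R] [IsNoetherianRing R] {x : R}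
    (hx : x ∈ maximalIdeal R) (hx2 : x ∉ maximalIdeal R ^ 2)
    [IsLocalRing (R ⧸ Ideal.span {x})] :
    (maximalIdeal (R ⧸ Ideal.span {x})).spanFinrank + 1 ≤ (maximalIdeal R).spanFinrank := by
  classical
  obtain ⟨t, htcard, htspan⟩ := exists_finset_span_insert_eq_maximalIdeal hx hx2
  have h1 : maximalIdeal (R ⧸ Ideal.span {x}) =
      Ideal.span ((Ideal.Quotient.mk (Ideal.span {x})) '' (t : Set R)) := by
    rw [maximalIdeal_quotient_eq_map, ← htspan, Ideal.map_span, Set.image_insert_eq]
    have : (Ideal.Quotient.mk (Ideal.span {x})) x = 0 :=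
      Ideal.Quotient.eq_zero_iff_mem.mpr (Ideal.subset_span rfl)
    rw [this]
    exact Submodule.span_insert_zero
  have hfin : ((Ideal.Quotient.mk (Ideal.span {x})) '' (t : Set R)).Finite :=
    (Finset.finite_toSet t).image _
  have h2 := Submodule.spanFinrank_span_le_ncard_of_finite (R := R ⧸ Ideal.span {x}) hfin
  have h3 : ((Ideal.Quotient.mk (Ideal.span {x})) '' (t : Set R)).ncard ≤ t.card := by
    have := Set.ncard_image_le (f := Ideal.Quotient.mk (Ideal.span {x})) (Finset.finite_toSet t)
    rwa [Set.ncard_coe_finset] at this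
  rw [h1]
  change (Submodule.span _ _).spanFinrank + 1 ≤ _
  omega


theorem isLocalRing_quotient_of_le_maximalIdeal [IsLocalRing R] {I : Ideal R}
    (hI : I ≤ maximalIdeal R) : IsLocalRing (R ⧸ I) := by
  have : Nontrivial (R ⧸ I) := Ideal.Quotient.nontrivial_iff.mpr
    (fun h => (maximalIdeal.isMaximal R).ne_top (top_le_iff.mp (h ▸ hI)))
  exact IsLocalRing.of_surjective' (Ideal.Quotient.mk I) Ideal.Quotient.mk_surjective

/-- In a Noetherian local ring the Krull dimension is a natural number. -/
theorem exists_nat_eq_ringKrullDim [IsLocalRing R] [IsNoetherianRing R] :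
    ∃ n : ℕ, ringKrullDim R = n := by
  have h := IsLocalRing.maximalIdeal_height_eq_ringKrullDim (R := R)
  have hfin : (maximalIdeal R).height ≠ ⊤ := Ideal.height_ne_top (maximalIdeal.isMaximal R).ne_top
  refine ⟨(maximalIdeal R).height.toNat, ?_⟩
  rw [← h]
  exact_mod_cast (ENat.natCast_toNat hfin).symm

/-- The quotient of a regular local ring by `x ∈ 𝔪 \ 𝔪²` avoiding the minimal primes is
regular of dimension one less. -/
theorem isRegularLocalRing_quotient_of_notMem_sq [IsRegularLocalRing R] {x : R}
    (hx : x ∈ maximalIdeal R) (hx2 : x ∉ maximalIdeal R ^ 2)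
    (hn : ∀ p ∈ minimalPrimes R, x ∉ p) :
    IsRegularLocalRing (R ⧸ Ideal.span {x}) ∧
      ringKrullDim (R ⧸ Ideal.span {x}) + 1 = ringKrullDim R := by
  have hloc : IsLocalRing (R ⧸ Ideal.span {x}) :=
    isLocalRing_quotient_of_le_maximalIdeal ((Ideal.span_singleton_le_iff_mem _).mpr hx)
  have hdim := ringKrullDim_quotient_span_singleton_succ_of_notMem_minimalPrimes hx hn
  refine ⟨?_, hdim⟩
  apply IsRegularLocalRing.of_spanFinrank_maximalIdeal_le
  have h1 := spanFinrank_maximalIdeal_quotient_succ_le hx hx2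
  have h2 : ((maximalIdeal R).spanFinrank : WithBot ℕ∞) = ringKrullDim R :=
    IsRegularLocalRing.spanFinrank_maximalIdeal
  obtain ⟨n, hn'⟩ := exists_nat_eq_ringKrullDim (R := R ⧸ Ideal.span {x})
  rw [hn'] at hdim ⊢
  rw [← hdim] at h2
  have h3 : (maximalIdeal R).spanFinrank = n + 1 := by exact_mod_cast h2
  have h4 : (maximalIdeal (R ⧸ Ideal.span {x})).spanFinrank ≤ n := by omega
  exact_mod_cast h4


universe u

theorem isDomain_of_isRegularLocalRing_aux (n : ℕ) :
    ∀ (R : Type u) [CommRing R] [IsRegularLocalRing R], ringKrullDim R = n → IsDomain R := by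
  induction n with
  | zero =>
    intro R _ _ hdim
    have h2 : ((maximalIdeal R).spanFinrank : WithBot ℕ∞) = ringKrullDim R :=
      IsRegularLocalRing.spanFinrank_maximalIdeal
    rw [hdim] at h2
    have h3 : (maximalIdeal R).spanFinrank = 0 := by exact_mod_cast h2
    have h4 : maximalIdeal R = ⊥ :=
      (Submodule.spanFinrank_eq_zero_iff_eq_bot (maximalIdeal R).fg_of_isNoetherianRing).mp h3
    have : IsField R := IsLocalRing.isField_iff_maximalIdeal_eq.mpr h4
    exact this.isDomain
  | succ n ih =>
    intro R _ _ hdim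
    have hnot : maximalIdeal R ∉ minimalPrimes R := by
      intro hmin
      have h0 : (maximalIdeal R).height = 0 := Ideal.height_eq_zero_iff.mpr hmin
      have h1 := IsLocalRing.maximalIdeal_height_eq_ringKrullDim (R := R)
      rw [h0, hdim] at h1
      have : (0 : ℕ) = n + 1 := by exact_mod_cast h1
      omega
    obtain ⟨x, hx, hx2, hxn⟩ := exists_mem_maximalIdeal_notMem_sq_notMem_minimalPrimes hnot
    obtain ⟨hreg, hd⟩ := isRegularLocalRing_quotient_of_notMem_sq hx hx2 hxn
    have hdim' : ringKrullDim (R ⧸ Ideal.span {x}) = n := by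
      obtain ⟨m, hm⟩ := exists_nat_eq_ringKrullDim (R := R ⧸ Ideal.span {x})
      rw [hm, hdim] at hd
      have : m + 1 = n + 1 := by exact_mod_cast hd
      rw [hm]
      have : m = n := by omega
      exact_mod_cast this
    have hdom : IsDomain (R ⧸ Ideal.span {x}) := ih _ hdim'
    have hprime : (Ideal.span {x}).IsPrime := (Ideal.Quotient.isDomain_iff_prime _).mp hdom
    obtain ⟨p, hp, hple⟩ := Ideal.exists_minimalPrimes_le (I := (⊥ : Ideal R))
      (J := Ideal.span {x}) bot_le
    have hpp : p.IsPrime := hp.1.1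
    have hxp : x ∉ p := hxn p hp
    have hpbot : p = ⊥ := by
      apply Submodule.eq_bot_of_le_smul_of_le_jacobson_bot (maximalIdeal R) p
        (IsNoetherian.noetherian _)
      · intro y hy
        obtain ⟨a, rfl⟩ := Ideal.mem_span_singleton'.mp (hple hy)
        have ha : a ∈ p := (hpp.mem_or_mem hy).resolve_right hxp
        rw [mul_comm]
        exact Ideal.mul_mem_mul hx ha
      · exact maximalIdeal_le_jacobson _
    rw [hpbot] at hpp
    exact IsDomain.of_bot_isPrime R

/-- A regular local ring is a domain. -/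
theorem isDomain_of_isRegularLocalRing (R : Type u) [CommRing R] [IsRegularLocalRing R] :
    IsDomain R := by
  obtain ⟨n, hn⟩ := exists_nat_eq_ringKrullDim (R := R)
  exact isDomain_of_isRegularLocalRing_aux n R hn


theorem isRegular_ofFn_of_span_eq_maximalIdeal (d : ℕ) :
    ∀ (R : Type u) [CommRing R] [IsRegularLocalRing R], ringKrullDim R = d → ∀ (x : Fin d → R),
      Ideal.span (Set.range x) = maximalIdeal R →
        RingTheory.Sequence.IsRegular R (List.ofFn x) := by
  induction d with
  | zero =>
    intro R _ _ _ x _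
    rw [List.ofFn_zero]
    exact RingTheory.Sequence.IsRegular.nil R R
  | succ n ih =>
    intro R _ _ hdim x hx
    have hdom := isDomain_of_isRegularLocalRing R
    set r := x 0 with hr
    have hrm : r ∈ maximalIdeal R := hx ▸ Ideal.subset_span ⟨0, rfl⟩
    have hloc : IsLocalRing (R ⧸ Ideal.span {r}) :=
      isLocalRing_quotient_of_le_maximalIdeal ((Ideal.span_singleton_le_iff_mem _).mpr hrm)
    let x' : Fin n → R ⧸ Ideal.span {r} := fun i => Ideal.Quotient.mk _ (x i.succ)
    have hx' : Ideal.span (Set.range x') = maximalIdeal (R ⧸ Ideal.span {r}) := by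
      rw [maximalIdeal_quotient_eq_map, ← hx, Ideal.map_span]
      have : (Ideal.Quotient.mk (Ideal.span {r})) '' Set.range x = insert 0 (Set.range x') := by
        ext y
        constructor
        · rintro ⟨_, ⟨i, rfl⟩, rfl⟩
          refine Fin.cases ?_ (fun j => ?_) i
          · left
            exact Ideal.Quotient.eq_zero_iff_mem.mpr (Ideal.subset_span rfl)
          · right
            exact ⟨j, rfl⟩
        · rintro (rfl | ⟨j, rfl⟩)
          · exact ⟨x 0, ⟨0, rfl⟩, Ideal.Quotient.eq_zero_iff_mem.mpr (Ideal.subset_span rfl)⟩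
          · exact ⟨x j.succ, ⟨_, rfl⟩, rfl⟩
      rw [this]
      exact Submodule.span_insert_zero.symm
    have hsf : (maximalIdeal (R ⧸ Ideal.span {r})).spanFinrank ≤ n := by
      rw [← hx']
      refine (Submodule.spanFinrank_span_le_ncard_of_finite (Set.finite_range x')).trans ?_
      have := Set.ncard_image_le (f := x') (s := Set.univ) Set.finite_univ
      simpa [Set.image_univ, Set.ncard_univ, Nat.card_eq_fintype_card] using this
    have hle : ringKrullDim R ≤ ringKrullDim (R ⧸ Ideal.span {r}) + 1 := by
      have h : Ideal.span {r} = r • (⊤ : Ideal R) := by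
        simp [← Submodule.ideal_span_singleton_smul]
      rw [ringKrullDim_eq_of_ringEquiv (Ideal.quotientEquivAlgOfEq R h).toRingEquiv]
      exact ringKrullDim_le_ringKrullDim_quotSMulTop_succ hrm
    obtain ⟨m, hm⟩ := exists_nat_eq_ringKrullDim (R := R ⧸ Ideal.span {r})
    have hnm : n ≤ m := by
      rw [hm, hdim] at hle
      have : n + 1 ≤ m + 1 := by exact_mod_cast hle
      omega
    have hreg : IsRegularLocalRing (R ⧸ Ideal.span {r}) := by
      apply IsRegularLocalRing.of_spanFinrank_maximalIdeal_le
      rw [hm]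
      exact_mod_cast hsf.trans hnm
    have hmn : m ≤ n := by
      have := ringKrullDim_le_spanFinrank_maximalIdeal (R ⧸ Ideal.span {r})
      rw [hm] at this
      have : m ≤ (maximalIdeal (R ⧸ Ideal.span {r})).spanFinrank := by exact_mod_cast this
      omega
    have hdim' : ringKrullDim (R ⧸ Ideal.span {r}) = n := by
      rw [hm]
      exact_mod_cast le_antisymm hmn hnm
    have hIH := ih (R ⧸ Ideal.span {r}) hdim' x' hx'
    have hr0 : r ≠ 0 := by
      intro h0
      have hinj : Function.Injective (Ideal.Quotient.mk (Ideal.span {r})) := by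
        rw [RingHom.injective_iff_ker_eq_bot, Ideal.mk_ker, h0]
        simp
      let e : R ≃+* R ⧸ Ideal.span {r} :=
        RingEquiv.ofBijective _ ⟨hinj, Ideal.Quotient.mk_surjective⟩
      have := ringKrullDim_eq_of_ringEquiv e
      rw [hdim, hdim'] at this
      have : n + 1 = n := by exact_mod_cast this
      omega
    rw [List.ofFn_succ, RingTheory.Sequence.isRegular_cons_iff]
    refine ⟨(_root_.IsRegular.of_ne_zero hr0).left.isSMulRegular, ?_⟩
    have h : r • (⊤ : Submodule R R) = Ideal.span {r} := by
      simp [← Submodule.ideal_span_singleton_smul]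
    let e : QuotSMulTop r R ≃ₗ[R] R ⧸ Ideal.span {r} := Submodule.quotEquivOfEq _ _ h
    have hx'eq : List.ofFn x' = (List.ofFn fun i => x i.succ).map
        (Ideal.Quotient.mk (Ideal.span {r})) := by
      rw [List.map_ofFn]
      rfl
    rw [hx'eq] at hIH
    refine (AddEquiv.isRegular_congr (e := e.toAddEquiv) ?_).mpr hIH
    refine List.forall₂_map_right_iff.mpr (List.forall₂_same.mpr fun a _ y => ?_)
    change e (a • y) = _
    rw [e.map_smul, ← Ideal.Quotient.algebraMap_eq, algebraMap_smul]
    rfl

end Groth.Agent.Lib.Helper21
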