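import Mathlib.RingTheory.AdicCompletion.Basic
import Mathlib.RingTheory.AdicCompletion.Algebra
import Mathlib.RingTheory.AdicCompletion.Completeness
import Mathlib.RingTheory.AdicCompletion.LocalRing
import Mathlib.RingTheory.MvPolynomial.Homogeneous
import Mathlib.RingTheory.GradedAlgebra.Basic
import Mathlib.RingTheory.Polynomial.Basic
import Mathlib.RingTheory.Finiteness.Ideal

/-! A ring complete with respect to a finitely generated ideal `J` with `S ⧸ J` Noetherian
is Noetherian (helper21). -/

set_option autoImplicit false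
universe u

namespace Groth.Agent.Lib.Helper21

open DirectSum

/-- A homogeneous element of degree `m` in the ideal spanned by finitely many homogeneous
elements `e t` of degree `d t` is `∑ c t * e t` with `c t` homogeneous of degree `m - d t`
(and `c t = 0` if `m < d t`). -/
theorem exists_homogeneous_coeffs {R A : Type*} [CommRing R] [CommRing A] [Algebra R A]
    (𝒜 : ℕ → Submodule R A) [GradedAlgebra 𝒜] {ι : Type*} [Fintype ι] (e : ι → A) (d : ι → ℕ)
    (he : ∀ t, e t ∈ 𝒜 (d t)) {m : ℕ} {x : A} (hxm : x ∈ 𝒜 m)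
    (hx : x ∈ Ideal.span (Set.range e)) :
    ∃ c : ι → A, (∀ t, c t ∈ 𝒜 (m - d t)) ∧ (∀ t, m < d t → c t = 0) ∧ x = ∑ t, c t * e t := by
  classical
  obtain ⟨l, rfl⟩ := Ideal.mem_span_range_iff_exists_fun.mp hx
  refine ⟨fun t => if d t ≤ m then (decompose 𝒜 (l t) (m - d t) : A) else 0, ?_, ?_, ?_⟩
  · intro t
    by_cases h : d t ≤ m
    · simp only [h, if_true]
      exact Submodule.coe_mem _
    · simp only [h, if_false]
      exact Submodule.zero_mem _
  · intro t ht
    simp [not_le.mpr ht]
  · have hdec : (decompose 𝒜 (∑ t, l t * e t) m : A) =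
        ∑ t, (decompose 𝒜 (l t * e t) m : A) := by
      rw [decompose_sum, DFinsupp.finsetSum_apply, AddSubmonoidClass.coe_finsetSum]
    conv_lhs => rw [← decompose_of_mem_same 𝒜 hxm, hdec]
    refine Finset.sum_congr rfl fun t _ => ?_
    by_cases h : d t ≤ m
    · rw [coe_decompose_mul_of_right_mem_of_le 𝒜 (he t) h]
      simp [h]
    · rw [coe_decompose_mul_of_right_mem_of_not_le 𝒜 (he t) h]
      simp [h]

theorem smodEq_pow_iff {S : Type*} [CommRing S] (J : Ideal S) (k : ℕ) (x y : S) :
    x ≡ y [SMOD (J ^ k • ⊤ : Submodule S S)] ↔ x - y ∈ J ^ k := by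
  rw [SModEq.sub_mem, smul_eq_mul, Ideal.mul_top]

/-- Successive approximation: if every element of `𝔞 ⊓ J ^ k` can be corrected by a combination
of the `xs t` with coefficients in `J ^ (k - D)` into `𝔞 ⊓ J ^ (k + 1)`, and `S` is `J`-adically
complete, then the `xs t` generate `𝔞`. -/
theorem le_span_of_approx {S : Type*} [CommRing S] (J : Ideal S) [IsAdicComplete J S]
    (𝔞 : Ideal S) {T : Type*} [Fintype T] (xs : T → S) (D : ℕ)
    (step : ∀ k : ℕ, ∀ x ∈ 𝔞 ⊓ J ^ k, ∃ c : T → S, (∀ t, c t ∈ J ^ (k - D)) ∧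
      x - ∑ t, c t * xs t ∈ 𝔞 ⊓ J ^ (k + 1)) :
    𝔞 ≤ Ideal.span (Set.range xs) := by
  intro x hx
  choose! c hc1 hc2 using step
  -- the sequence of remainders
  let X : ℕ → S := fun k => Nat.rec x (fun k y => y - ∑ t, c k y t * xs t) k
  have hX0 : X 0 = x := rfl
  have hXs : ∀ k, X (k + 1) = X k - ∑ t, c k (X k) t * xs t := fun k => rfl
  have hX : ∀ k, X k ∈ 𝔞 ⊓ J ^ k := by
    intro k
    induction k with
    | zero => simpa [hX0] using hx
    | succ k ih => rw [hXs]; exact hc2 k (X k) ih
  -- partial sums of coefficients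
  let s : ℕ → T → S := fun K t => ∑ k ∈ Finset.range K, c k (X k) t
  have hs : ∀ K, x - ∑ t, s K t * xs t = X K := by
    intro K
    induction K with
    | zero => simp [s, hX0]
    | succ K ih =>
      have e : x - ∑ t, s (K + 1) t * xs t =
          (x - ∑ t, s K t * xs t) - ∑ t, c K (X K) t * xs t := by
        simp only [s, Finset.sum_range_succ, add_mul, Finset.sum_add_distrib]
        ring
      rw [e, ih, hXs]
  have hcauchy : ∀ t, ∃ W : S, ∀ K, s (K + D) t ≡ W [SMOD (J ^ K • ⊤ : Submodule S S)] := by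
    intro t
    apply IsPrecomplete.prec' (I := J) (fun K => s (K + D) t)
    apply (AdicCompletion.isAdicCauchy_iff J S (fun K => s (K + D) t)).mpr
    intro K
    rw [smodEq_pow_iff]
    have : s (K + D) t - s (K + 1 + D) t = - c (K + D) (X (K + D)) t := by
      have : K + 1 + D = K + D + 1 := by omega
      simp [s, this, Finset.sum_range_succ]
    rw [this]
    have h1 := hc1 (K + D) (X (K + D)) (hX _) t
    rw [Nat.add_sub_cancel] at h1
    exact Ideal.neg_mem_iff _ |>.mpr h1
  choose W hW using hcauchy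
  have hfinal : x - ∑ t, W t * xs t = 0 := by
    apply IsHausdorff.haus' (I := J)
    intro K
    rw [smodEq_pow_iff, sub_zero]
    have e : x - ∑ t, W t * xs t = X (K + D) + ∑ t, (s (K + D) t - W t) * xs t := by
      rw [← hs (K + D)]
      simp only [sub_mul, Finset.sum_sub_distrib]
      ring
    rw [e]
    refine Ideal.add_mem _ ?_ (Ideal.sum_mem _ fun t _ => Ideal.mul_mem_right _ _ ?_)
    · exact Ideal.pow_le_pow_right (Nat.le_add_right K D) (hX (K + D)).2
    · exact (smodEq_pow_iff J K _ _).mp (hW t K)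
  rw [sub_eq_zero] at hfinal
  rw [hfinal]
  exact Ideal.sum_mem _ fun t _ => Ideal.mul_mem_left _ _ (Ideal.subset_span ⟨t, rfl⟩)

/-- A homogeneous polynomial of degree `k` with all coefficients in `J = (a)` evaluates at `a`
into `J ^ (k + 1)`. -/
theorem eval_mem_pow_succ_of_map_eq_zero {S : Type*} [CommRing S] {n : ℕ} (a : Fin n → S)
    (p : MvPolynomial (Fin n) S) {k : ℕ} (hp : p.IsHomogeneous k)
    (h0 : MvPolynomial.map (Ideal.Quotient.mk (Ideal.span (Set.range a))) p = 0) :
    MvPolynomial.eval a p ∈ Ideal.span (Set.range a) ^ (k + 1) := by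
  rw [MvPolynomial.eval_eq']
  refine Ideal.sum_mem _ fun d hd => ?_
  have hc : p.coeff d ∈ Ideal.span (Set.range a) := by
    have := congrArg (MvPolynomial.coeff d) h0
    rw [MvPolynomial.coeff_map, MvPolynomial.coeff_zero] at this
    exact Ideal.Quotient.eq_zero_iff_mem.mp this
  have hdeg : ∑ i, d i = k := by
    have h1 : d.degree = k := by
      by_contra hne
      exact (MvPolynomial.mem_support_iff.mp hd) (hp.coeff_eq_zero hne)
    rw [← h1, Finsupp.degree_eq_sum]
  have hprod : ∏ i, a i ^ d i ∈ Ideal.span (Set.range a) ^ k := by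
    rw [← hdeg, ← Finset.prod_pow_eq_pow_sum]
    apply Ideal.prod_mem_prod
    intro i _
    exact Ideal.pow_mem_pow (Ideal.subset_span (Set.mem_range_self i)) _
  rw [pow_succ']
  exact Ideal.mul_mem_mul hc hprod

/-- Homogeneous polynomials lift along a surjective ring map to homogeneous polynomials. -/
theorem exists_isHomogeneous_map_eq {S S' : Type*} [CommRing S] [CommRing S'] {σ : Type*}
    (f : S →+* S') (hf : Function.Surjective f) {k : ℕ} (q : MvPolynomial σ S')
    (hq : q.IsHomogeneous k) :
    ∃ p : MvPolynomial σ S, p.IsHomogeneous k ∧ MvPolynomial.map f p = q := by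
  classical
  obtain ⟨p', hp'⟩ := MvPolynomial.map_surjective f hf q
  refine ⟨MvPolynomial.homogeneousComponent k p', MvPolynomial.homogeneousComponent_isHomogeneous k p', ?_⟩
  ext d
  rw [MvPolynomial.coeff_map, MvPolynomial.coeff_homogeneousComponent]
  by_cases h : d.degree = k
  · rw [if_pos h, ← MvPolynomial.coeff_map, hp']
  · rw [if_neg h, map_zero, hq.coeff_eq_zero h]

attribute [local instance] MvPolynomial.gradedAlgebra in
/-- If `S` is complete with respect to the ideal generated by `a 0, …, a (n-1)` and the quotient is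
Noetherian, then `S` is Noetherian. -/
theorem isNoetherianRing_of_isAdicComplete_span {S : Type u} [CommRing S] {n : ℕ} (a : Fin n → S)
    [IsAdicComplete (Ideal.span (Set.range a)) S]
    [IsNoetherianRing (S ⧸ Ideal.span (Set.range a))] : IsNoetherianRing S := by
  classical
  rw [isNoetherianRing_iff_ideal_fg]
  intro 𝔞
  let π : MvPolynomial (Fin n) S →+* MvPolynomial (Fin n) (S ⧸ Ideal.span (Set.range a)) :=
    MvPolynomial.map (Ideal.Quotient.mk (Ideal.span (Set.range a)))
  let Gen : Set (MvPolynomial (Fin n) (S ⧸ Ideal.span (Set.range a))) :=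
    {q | ∃ (k : ℕ) (F : MvPolynomial (Fin n) S), F.IsHomogeneous k ∧ π F = q ∧
      MvPolynomial.eval a F ∈ 𝔞 ⊔ Ideal.span (Set.range a) ^ (k + 1)}
  have hfg : (Ideal.span Gen).FG := IsNoetherian.noetherian _
  obtain ⟨s', hs'sub, hs'span⟩ := (Submodule.fg_span_iff_fg_span_finset_subset Gen).mp hfg
  have hdata : ∀ t : s', ∃ (k : ℕ) (F : MvPolynomial (Fin n) S) (x y : S), F.IsHomogeneous k ∧
      π F = t.1 ∧ x ∈ 𝔞 ∧ y ∈ Ideal.span (Set.range a) ^ (k + 1) ∧
      x + y = MvPolynomial.eval a F := by
    intro t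
    obtain ⟨k, F, hF, hπ, hev⟩ := hs'sub t.2
    obtain ⟨x, hx, y, hy, hxy⟩ := Submodule.mem_sup.mp hev
    exact ⟨k, F, x, y, hF, hπ, hx, hy, hxy⟩
  choose kk FF xx yy hFF hπF hxx hyy hxy using hdata
  have hle : 𝔞 ≤ Ideal.span (Set.range xx) := by
    apply le_span_of_approx (Ideal.span (Set.range a)) 𝔞 xx (∑ t, kk t)
    intro k x hx
    obtain ⟨F, hF, hFx⟩ := (Ideal.mem_span_pow_iff_exists_isHomogeneous a x).mp hx.2
    have h1 : π F ∈ Ideal.span Gen :=
      Ideal.subset_span ⟨k, F, hF, rfl, by rw [hFx]; exact Ideal.mem_sup_left hx.1⟩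
    have h2 : π F ∈ Ideal.span (Set.range
        (fun t : s' => (t : MvPolynomial (Fin n) (S ⧸ Ideal.span (Set.range a))))) := by
      have hr : Set.range (fun t : s' =>
          (t : MvPolynomial (Fin n) (S ⧸ Ideal.span (Set.range a)))) = (s' : Set _) :=
        Subtype.range_coe
      rw [hr]
      have h1' : π F ∈ Submodule.span (MvPolynomial (Fin n) (S ⧸ Ideal.span (Set.range a))) Gen := h1
      rw [hs'span] at h1'
      exact h1'
    have he : ∀ t : s', (t : MvPolynomial (Fin n) (S ⧸ Ideal.span (Set.range a))) ∈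
        MvPolynomial.homogeneousSubmodule (Fin n) (S ⧸ Ideal.span (Set.range a)) (kk t) := by
      intro t
      rw [← hπF t]
      exact (hFF t).map _
    have hxm : π F ∈ MvPolynomial.homogeneousSubmodule (Fin n)
        (S ⧸ Ideal.span (Set.range a)) k := hF.map _
    obtain ⟨cbar, hc1, hc2, hc3⟩ := exists_homogeneous_coeffs
      (MvPolynomial.homogeneousSubmodule (Fin n) (S ⧸ Ideal.span (Set.range a)))
      (fun t : s' => (t : MvPolynomial (Fin n) (S ⧸ Ideal.span (Set.range a)))) kk he hxm h2
    have hlift : ∀ t : s', ∃ G : MvPolynomial (Fin n) S, G.IsHomogeneous (k - kk t) ∧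
        π G = cbar t ∧ (k < kk t → G = 0) := by
      intro t
      by_cases h : k < kk t
      · exact ⟨0, MvPolynomial.isHomogeneous_zero _ _ _, by rw [hc2 t h, map_zero], fun _ => rfl⟩
      · obtain ⟨G, hG, hGπ⟩ := exists_isHomogeneous_map_eq
          (Ideal.Quotient.mk (Ideal.span (Set.range a))) Ideal.Quotient.mk_surjective (cbar t) (hc1 t)
        exact ⟨G, hG, hGπ, fun h' => absurd h' h⟩
    choose G hG1 hG2 hG3 using hlift
    have hGev : ∀ t, MvPolynomial.eval a (G t) ∈ Ideal.span (Set.range a) ^ (k - kk t) :=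
      fun t => (Ideal.mem_span_pow_iff_exists_isHomogeneous a _).mpr ⟨G t, hG1 t, rfl⟩
    refine ⟨fun t => MvPolynomial.eval a (G t), ?_, ?_⟩
    · intro t
      refine Ideal.pow_le_pow_right ?_ (hGev t)
      have : kk t ≤ ∑ t, kk t :=
        Finset.single_le_sum (fun _ _ => Nat.zero_le _) (Finset.mem_univ t)
      omega
    · refine ⟨𝔞.sub_mem hx.1 (𝔞.sum_mem fun t _ => 𝔞.mul_mem_left _ (hxx t)), ?_⟩
      have hD : (F - ∑ t, G t * FF t).IsHomogeneous k := by
        apply MvPolynomial.IsHomogeneous.sub hF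
        apply MvPolynomial.IsHomogeneous.sum
        intro t _
        by_cases h : k < kk t
        · rw [hG3 t h, zero_mul]; exact MvPolynomial.isHomogeneous_zero _ _ _
        · have := (hG1 t).mul (hFF t)
          rwa [Nat.sub_add_cancel (not_lt.mp h)] at this
      have hD0 : π (F - ∑ t, G t * FF t) = 0 := by
        rw [map_sub, map_sum, hc3, sub_eq_zero]
        refine Finset.sum_congr rfl fun t _ => ?_
        rw [map_mul, hG2, hπF]
      have hDe := eval_mem_pow_succ_of_map_eq_zero a _ hD hD0
      have e : x - ∑ t, MvPolynomial.eval a (G t) * xx t =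
          MvPolynomial.eval a (F - ∑ t, G t * FF t) + ∑ t, MvPolynomial.eval a (G t) * yy t := by
        rw [map_sub, map_sum, hFx]
        simp only [map_mul, ← hxy, mul_add, Finset.sum_add_distrib]
        ring
      rw [e]
      refine Ideal.add_mem _ hDe (Ideal.sum_mem _ fun t _ => ?_)
      by_cases h : k < kk t
      · rw [hG3 t h, map_zero, zero_mul]; exact Ideal.zero_mem _
      · have h2 := Ideal.mul_mem_mul (hGev t) (hyy t)
        rw [← pow_add] at h2
        have : k - kk t + (kk t + 1) = k + 1 := by omega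
        rwa [this] at h2
  have hge : Ideal.span (Set.range xx) ≤ 𝔞 := by
    rw [Ideal.span_le]
    rintro _ ⟨t, rfl⟩
    exact hxx t
  rw [le_antisymm hle hge]
  exact Submodule.fg_span (Set.finite_range xx)

/-- If `S` is complete with respect to a finitely generated ideal `J` and `S ⧸ J` is Noetherian,
then `S` is Noetherian (Stacks 05GH). -/
theorem isNoetherianRing_of_isAdicComplete {S : Type u} [CommRing S] (J : Ideal S) (hJ : J.FG)
    [IsAdicComplete J S] [IsNoetherianRing (S ⧸ J)] : IsNoetherianRing S := by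
  obtain ⟨n, a, ha⟩ := Submodule.fg_iff_exists_fin_generating_family.mp hJ
  have ha' : J = Ideal.span (Set.range a) := ha.symm
  subst ha'
  exact isNoetherianRing_of_isAdicComplete_span a

/-- If `I` is finitely generated and `R ⧸ I` is Noetherian, then the `I`-adic completion of `R` is
Noetherian. -/
theorem isNoetherianRing_adicCompletion_of_fg {R : Type u} [CommRing R] (I : Ideal R) (hI : I.FG)
    [IsNoetherianRing (R ⧸ I)] : IsNoetherianRing (AdicCompletion I R) := by
  have hc : IsAdicComplete (I.map (algebraMap R (AdicCompletion I R))) (AdicCompletion I R) :=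
    AdicCompletion.isAdicComplete_self I hI
  have hJfg : (I.map (algebraMap R (AdicCompletion I R))).FG := hI.map _
  have hker : RingHom.ker (AdicCompletion.evalOneₐ I).toRingHom =
      I.map (algebraMap R (AdicCompletion I R)) := AdicCompletion.ker_evalOneₐ_eq_map I hI
  let e : (AdicCompletion I R ⧸ I.map (algebraMap R (AdicCompletion I R))) ≃+* R ⧸ I :=
    (Ideal.quotEquivOfEq hker.symm).trans
      (RingHom.quotientKerEquivOfSurjective (f := (AdicCompletion.evalOneₐ I).toRingHom)
        (AdicCompletion.evalOneₐ_surjective I))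
  have : IsNoetherianRing (AdicCompletion I R ⧸ I.map (algebraMap R (AdicCompletion I R))) :=
    isNoetherianRing_of_ringEquiv _ e.symm
  exact isNoetherianRing_of_isAdicComplete _ hJfg

end Groth.Agent.Lib.Helper21
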