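import Mathlib.RingTheory.Flat.EquationalCriterion
import Mathlib.RingTheory.Filtration
import Mathlib.RingTheory.AdicCompletion.Basic
import Mathlib.RingTheory.Finiteness.Ideal
import Mathlib.Algebra.Module.Torsion.Basic
import Mathlib.RingTheory.Flat.Stability
import Mathlib.LinearAlgebra.TensorProduct.Quotient
import Mathlib.RingTheory.AdicCompletion.Completeness

/-!
# Flatness of complete modules (Stacks 0911/0912/06LE)

`flat_of_isAdicComplete_of_quotFlat`: over a Noetherian ring `R`, an `I`-adically complete module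
`M` with `M/I^m M` flat over `R/I^m` for all `m` is flat.  The hypothesis is phrased in the
elementary form `QuotFlat`.
-/

set_option autoImplicit false

namespace Groth.Agent.Lib.Helper21

open Submodule

variable {R : Type*} [CommRing R] {M : Type*} [AddCommGroup M] [Module R M]

/-- Elementary form of "`M / 𝔟 M` is flat over `R / 𝔟`": every relation modulo `𝔟` is trivial
modulo `𝔟`. -/
def QuotFlat (𝔟 : Ideal R) (M : Type*) [AddCommGroup M] [Module R M] : Prop :=
  ∀ (ι : Type) [Fintype ι] (g : ι → R) (x : ι → M),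
    ∑ s, g s • x s ∈ (𝔟 • ⊤ : Submodule R M) →
    ∃ (k : ℕ) (a : ι → Fin k → R) (y : Fin k → M),
      (∀ s, x s - ∑ j, a s j • y j ∈ (𝔟 • ⊤ : Submodule R M)) ∧ ∀ j, ∑ s, g s * a s j ∈ 𝔟

/-- Elements of `(span (range g)) • N` are `∑ g j • z j` with `z j ∈ N`. -/
theorem exists_sum_smul_of_mem_span_range_smul {r : ℕ} (g : Fin r → R) (N : Submodule R M) (x : M)
    (hx : x ∈ Ideal.span (Set.range g) • N) :
    ∃ z : Fin r → M, (∀ j, z j ∈ N) ∧ x = ∑ j, g j • z j := by
  induction hx using Submodule.smul_induction_on' with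
  | smul a ha n hn =>
    obtain ⟨c, rfl⟩ := (Ideal.mem_span_range_iff_exists_fun).mp ha
    refine ⟨fun j => c j • n, fun j => N.smul_mem _ hn, ?_⟩
    rw [Finset.sum_smul]
    refine Finset.sum_congr rfl fun j _ => ?_
    rw [smul_smul, mul_comm]
  | add x _ y _ hx hy =>
    obtain ⟨z1, hz1, rfl⟩ := hx
    obtain ⟨z2, hz2, rfl⟩ := hy
    refine ⟨fun j => z1 j + z2 j, fun j => N.add_mem (hz1 j) (hz2 j), ?_⟩
    simp [smul_add, Finset.sum_add_distrib]

/-- Artin–Rees in truncated-subtraction form. -/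
theorem exists_pow_smul_top_inf_le [IsNoetherianRing R] [Module.Finite R M] (I : Ideal R)
    (N : Submodule R M) : ∃ c : ℕ, ∀ n, I ^ n • ⊤ ⊓ N ≤ I ^ (n - c) • N := by
  obtain ⟨c, hc⟩ := Ideal.exists_pow_inf_eq_pow_smul I N
  refine ⟨c, fun n => ?_⟩
  by_cases hn : c ≤ n
  · rw [hc n hn]
    exact Submodule.smul_mono le_rfl inf_le_right
  · have : n - c = 0 := by omega
    rw [this, pow_zero, Ideal.one_eq_top, top_smul]
    exact inf_le_right

/-- A vector with all coordinates in `J` lies in `J • ⊤`. -/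
theorem pi_mem_smul_top {ι : Type*} [Fintype ι] (J : Ideal R) (v : ι → R) (hv : ∀ i, v i ∈ J) :
    v ∈ (J • ⊤ : Submodule R (ι → R)) := by
  classical
  rw [pi_eq_sum_univ' v]
  exact Submodule.sum_mem _ fun i _ => Submodule.smul_mem_smul (hv i) mem_top


/-- Key approximation step: an `I^n`-small relation vector is, modulo `I^(n+1)`, a combination of
the generators of the relation module with `I^(n-c₂)`-small coefficients. -/
theorem approx_step [IsNoetherianRing R] (I : Ideal R) (h : ∀ m, QuotFlat (I ^ m) M)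
    {t r : ℕ} (f : Fin t → R) (kgen : Fin r → (Fin t → R))
    (hk : Submodule.span R (Set.range kgen) = LinearMap.ker (Fintype.linearCombination R f))
    (c₁ c₂ : ℕ)
    (AR1 : ∀ m, I ^ m ⊓ Ideal.span (Set.range f) ≤ I ^ (m - c₁) • Ideal.span (Set.range f))
    (AR2 : ∀ n, (I ^ n • ⊤ : Submodule R (Fin t → R)) ⊓
        LinearMap.ker (Fintype.linearCombination R f)
        ≤ I ^ (n - c₂) • LinearMap.ker (Fintype.linearCombination R f))
    (n : ℕ) (e : Fin t → M) (he : ∀ i, e i ∈ (I ^ n • ⊤ : Submodule R M))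
    (hfe : ∑ i, f i • e i = 0) :
    ∃ δ : Fin r → M, (∀ l, δ l ∈ (I ^ (n - c₂) • ⊤ : Submodule R M)) ∧
      ∀ i, e i - ∑ l, kgen l i • δ l ∈ (I ^ (n + 1) • ⊤ : Submodule R M) := by
  classical
  obtain ⟨p, u, hu⟩ := Submodule.fg_iff_exists_fin_generating_family.mp
    (IsNoetherian.noetherian (I ^ n))
  have hu' : Ideal.span (Set.range u) = I ^ n := hu
  have hmm : ∀ i, ∃ mm : Fin p → M, e i = ∑ s, u s • mm s := by
    intro i
    have := he i
    rw [← hu'] at this
    obtain ⟨z, -, hz⟩ := exists_sum_smul_of_mem_span_range_smul u ⊤ (e i) this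
    exact ⟨z, hz⟩
  choose mm hmm using hmm
  set m' := n + 1 + c₁ with hm'
  have hrel : ∑ q : Fin t × Fin p, (f q.1 * u q.2) • mm q.1 q.2 = 0 := by
    rw [← hfe]
    rw [Fintype.sum_prod_type (f := fun q : Fin t × Fin p => (f q.1 * u q.2) • mm q.1 q.2)]
    refine Finset.sum_congr rfl fun i _ => ?_
    rw [hmm i, Finset.smul_sum]
    refine Finset.sum_congr rfl fun s _ => ?_
    rw [smul_smul]
  obtain ⟨k, a, y, hay, hga⟩ := h m' (Fin t × Fin p) (fun q => f q.1 * u q.2)
    (fun q => mm q.1 q.2) (by rw [hrel]; exact zero_mem _)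
  let w : Fin k → Fin t → R := fun j i => ∑ s, u s * a (i, s) j
  have hw : ∀ j i, w j i ∈ I ^ n := fun j i => Ideal.sum_mem _ fun s _ =>
    Ideal.mul_mem_right _ _ (hu' ▸ Ideal.subset_span ⟨s, rfl⟩)
  have hφw : ∀ j, Fintype.linearCombination R f (w j) ∈
      I ^ m' ⊓ Ideal.span (Set.range f) := by
    intro j
    constructor
    · have hφ_eq : Fintype.linearCombination R f (w j) =
          ∑ q : Fin t × Fin p, (f q.1 * u q.2) * a q j := by
        rw [Fintype.linearCombination_apply,
          Fintype.sum_prod_type (f := fun q : Fin t × Fin p => (f q.1 * u q.2) * a q j)]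
        refine Finset.sum_congr rfl fun i _ => ?_
        simp only [w, smul_eq_mul, Finset.sum_mul]
        refine Finset.sum_congr rfl fun s _ => by ring
      rw [hφ_eq]
      exact hga j
    · rw [Fintype.linearCombination_apply]
      exact Ideal.sum_mem _ fun i _ => Ideal.mul_mem_left _ _ (Ideal.subset_span ⟨i, rfl⟩)
  have hv : ∀ j, ∃ v : Fin t → R, (∀ i, v i ∈ I ^ (n + 1)) ∧
      Fintype.linearCombination R f v = Fintype.linearCombination R f (w j) := by
    intro j
    have h1 := AR1 m' (hφw j)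
    have : m' - c₁ = n + 1 := by omega
    rw [this] at h1
    obtain ⟨b, hb, hbs⟩ := (Submodule.mem_ideal_smul_span_iff_exists_sum _ f _).mp h1
    refine ⟨fun i => b i, hb, ?_⟩
    rw [← hbs, Fintype.linearCombination_apply, Finsupp.sum_fintype]
    simp
  choose v hvI hvφ using hv
  let κ : Fin k → Fin t → R := fun j => w j - v j
  have hκK : ∀ j, κ j ∈ LinearMap.ker (Fintype.linearCombination R f) := by
    intro j
    rw [LinearMap.mem_ker, map_sub, hvφ, sub_self]
  have hκI : ∀ j, κ j ∈ (I ^ n • ⊤ : Submodule R (Fin t → R)) := by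
    intro j
    apply pi_mem_smul_top
    intro i
    exact (I ^ n).sub_mem (hw j i) (Ideal.pow_le_pow_right (Nat.le_succ n) (hvI j i))
  have hβ : ∀ j, ∃ β : Fin r → R, (∀ l, β l ∈ I ^ (n - c₂)) ∧ κ j = ∑ l, β l • kgen l := by
    intro j
    have h1 := AR2 n ⟨hκI j, hκK j⟩
    rw [← hk] at h1
    obtain ⟨b, hb, hbs⟩ := (Submodule.mem_ideal_smul_span_iff_exists_sum _ kgen _).mp h1
    refine ⟨fun l => b l, hb, ?_⟩
    rw [← hbs, Finsupp.sum_fintype]
    simp
  choose β hβI hβκ using hβ
  refine ⟨fun l => ∑ j, β j l • y j, fun l => Submodule.sum_mem _ fun j _ =>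
    Submodule.smul_mem_smul (hβI j l) mem_top, fun i => ?_⟩
  have h9a : ∑ s, u s • ∑ j, a (i, s) j • y j = ∑ j, w j i • y j := by
    simp only [Finset.smul_sum, smul_smul, w, Finset.sum_smul]
    rw [Finset.sum_comm]
  have h9b : ∑ j, κ j i • y j = ∑ l, kgen l i • ∑ j, β j l • y j := by
    simp only [Finset.smul_sum, smul_smul]
    rw [Finset.sum_comm]
    refine Finset.sum_congr rfl fun j _ => ?_
    rw [← Finset.sum_smul]
    congr 1
    rw [hβκ j]
    simp [Finset.sum_apply, mul_comm]
  have hsplit : e i - ∑ l, kgen l i • ∑ j, β j l • y j =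
      ∑ s, u s • (mm i s - ∑ j, a (i, s) j • y j) + ∑ j, v j i • y j := by
    rw [← h9b, hmm i]
    simp only [smul_sub, Finset.sum_sub_distrib, h9a]
    simp only [κ, Pi.sub_apply, sub_smul, Finset.sum_sub_distrib]
    abel
  rw [hsplit]
  refine Submodule.add_mem _ (Submodule.sum_mem _ fun s _ => ?_)
    (Submodule.sum_mem _ fun j _ => ?_)
  · apply Submodule.smul_mem
    exact Submodule.smul_mono (Ideal.pow_le_pow_right (by omega)) le_rfl (hay (i, s))
  · exact Submodule.smul_mem_smul (hvI j i) mem_top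


/-- **Flatness of complete modules** (Stacks 0911): over a Noetherian ring, an `I`-adically
complete module all of whose truncations are flat is flat. -/
theorem flat_of_isAdicComplete_of_quotFlat [IsNoetherianRing R] (I : Ideal R)
    [IsAdicComplete I M] (h : ∀ m, QuotFlat (I ^ m) M) : Module.Flat R M := by
  classical
  apply Module.Flat.of_forall_isTrivialRelation
  intro t f x hfx
  obtain ⟨r, kgen, hk⟩ := Submodule.fg_iff_exists_fin_generating_family.mp
    (IsNoetherian.noetherian (LinearMap.ker (Fintype.linearCombination R f)))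
  obtain ⟨c₁, AR1'⟩ := exists_pow_smul_top_inf_le I (Ideal.span (Set.range f))
  have AR1 : ∀ m, I ^ m ⊓ Ideal.span (Set.range f) ≤ I ^ (m - c₁) • Ideal.span (Set.range f) := by
    intro m
    have := AR1' m
    rwa [smul_eq_mul, Ideal.mul_top] at this
  obtain ⟨c₂, AR2⟩ := exists_pow_smul_top_inf_le I
    (LinearMap.ker (Fintype.linearCombination R f))
  have hkK : ∀ l, ∑ i, f i * kgen l i = 0 := by
    intro l
    have : kgen l ∈ LinearMap.ker (Fintype.linearCombination R f) :=
      hk ▸ Submodule.subset_span ⟨l, rfl⟩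
    rw [LinearMap.mem_ker, Fintype.linearCombination_apply] at this
    rw [← this]
    refine Finset.sum_congr rfl fun i _ => ?_
    rw [smul_eq_mul, mul_comm]
  -- the invariant
  let P : ℕ → (Fin r → M) → Prop := fun n z =>
    ∀ i, x i - ∑ l, kgen l i • z l ∈ (I ^ n • ⊤ : Submodule R M)
  have step : ∀ n (z : {z : Fin r → M // P n z}), ∃ z' : {z : Fin r → M // P (n + 1) z},
      ∀ l, z'.1 l - z.1 l ∈ (I ^ (n - c₂) • ⊤ : Submodule R M) := by
    rintro n ⟨z, hz⟩
    have hfe : ∑ i, f i • (x i - ∑ l, kgen l i • z l) = 0 := by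
      simp only [smul_sub, Finset.sum_sub_distrib, hfx, zero_sub, neg_eq_zero, Finset.smul_sum,
        smul_smul]
      rw [Finset.sum_comm]
      refine Finset.sum_eq_zero fun l _ => ?_
      rw [← Finset.sum_smul, hkK l, zero_smul]
    obtain ⟨δ, hδ, hδ'⟩ := approx_step I h f kgen hk c₁ c₂ AR1 AR2 n _ hz hfe
    refine ⟨⟨fun l => z l + δ l, fun i => ?_⟩, fun l => ?_⟩
    · have : x i - ∑ l, kgen l i • (z l + δ l) =
          (x i - ∑ l, kgen l i • z l) - ∑ l, kgen l i • δ l := by
        simp only [smul_add, Finset.sum_add_distrib]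
        abel
      rw [this]
      exact hδ' i
    · simpa using hδ l
  choose nxt hnxt using step
  let z0 : {z : Fin r → M // P 0 z} := ⟨0, fun i => by simp⟩
  let zs : ∀ n, {z : Fin r → M // P n z} := fun n => Nat.rec z0 (fun n z => nxt n z) n
  have hzs : ∀ n l, (zs (n + 1)).1 l - (zs n).1 l ∈ (I ^ (n - c₂) • ⊤ : Submodule R M) :=
    fun n l => hnxt n (zs n) l
  -- limits of the coordinates
  have hlim : ∀ l, ∃ L : M, ∀ n, (zs (n + c₂)).1 l ≡ L [SMOD (I ^ n • ⊤ : Submodule R M)] := by
    intro l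
    apply IsPrecomplete.prec' (I := I) (fun n => (zs (n + c₂)).1 l)
    have hc : AdicCompletion.IsAdicCauchy I M (fun n => (zs (n + c₂)).1 l) := by
      rw [AdicCompletion.isAdicCauchy_iff]
      intro n
      rw [SModEq.sub_mem]
      have := hzs (n + c₂) l
      rw [Nat.add_sub_cancel] at this
      have h2 := Submodule.neg_mem _ this
      rw [neg_sub] at h2
      have e1 : n + 1 + c₂ = n + c₂ + 1 := by omega
      show (zs (n + c₂)).1 l - (zs (n + 1 + c₂)).1 l ∈ _
      rw [e1]
      exact h2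
    exact fun {m n} hmn => hc hmn
  choose L hL using hlim
  refine ⟨r, fun i l => kgen l i, L, fun i => ?_, hkK⟩
  rw [← sub_eq_zero]
  apply IsHausdorff.haus' (I := I)
  intro n
  rw [SModEq.zero]
  have h1 := (zs (n + c₂)).2 i
  have h2 : x i - ∑ l, kgen l i • L l = (x i - ∑ l, kgen l i • (zs (n + c₂)).1 l) +
      ∑ l, kgen l i • ((zs (n + c₂)).1 l - L l) := by
    simp only [smul_sub, Finset.sum_sub_distrib]
    abel
  rw [h2]
  refine Submodule.add_mem _ ?_ (Submodule.sum_mem _ fun l _ => Submodule.smul_mem _ _ ?_)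
  · exact Submodule.smul_mono (Ideal.pow_le_pow_right (Nat.le_add_right n c₂)) le_rfl h1
  · have := hL l n
    rwa [SModEq.sub_mem] at this


/-- Flatness of `M / 𝔟 M` over `R / 𝔟` gives `QuotFlat`. -/
theorem quotFlat_of_flat_quotient (𝔟 : Ideal R)
    [Module.Flat (R ⧸ 𝔟) (M ⧸ (𝔟 • ⊤ : Submodule R M))] : QuotFlat 𝔟 M := by
  intro ι _ g x hgx
  have h0 : ∑ s, (Ideal.Quotient.mk 𝔟 (g s)) •
      (Submodule.Quotient.mk (x s) : M ⧸ (𝔟 • ⊤ : Submodule R M)) = 0 := by
    have : ∀ s, (Ideal.Quotient.mk 𝔟 (g s)) •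
        (Submodule.Quotient.mk (x s) : M ⧸ (𝔟 • ⊤ : Submodule R M)) =
        (𝔟 • ⊤ : Submodule R M).mkQ (g s • x s) := fun s => rfl
    simp only [this, ← map_sum]
    exact (Submodule.Quotient.mk_eq_zero _).mpr hgx
  obtain ⟨k, a', y', h1, h2⟩ := Module.Flat.isTrivialRelation_of_sum_smul_eq_zero h0
  choose a ha using fun s j => Ideal.Quotient.mk_surjective (a' s j)
  choose y hy using fun j => Submodule.Quotient.mk_surjective _ (y' j)
  refine ⟨k, a, y, fun s => ?_, fun j => ?_⟩
  · have h1s : (Submodule.Quotient.mk (x s) : M ⧸ (𝔟 • ⊤ : Submodule R M)) =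
        ∑ j, a' s j • y' j := h1 s
    rw [← Submodule.Quotient.mk_eq_zero, Submodule.Quotient.mk_sub, sub_eq_zero, h1s]
    have : ∀ j, a' s j • y' j = (𝔟 • ⊤ : Submodule R M).mkQ (a s j • y j) := by
      intro j
      rw [← ha s j, ← hy j]
      rfl
    simp only [this, ← map_sum]
    rfl
  · have h2j : ∑ i, (Ideal.Quotient.mk 𝔟) (g i) * a' i j = 0 := h2 j
    rw [← Ideal.Quotient.eq_zero_iff_mem, map_sum, ← h2j]
    refine Finset.sum_congr rfl fun s _ => ?_
    rw [map_mul, ha]

/-- Transfer of `QuotFlat` along a "dense" map `M → M'` over `R → R'`. -/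
theorem QuotFlat.of_dense {R' : Type*} [CommRing R'] [Algebra R R'] {M' : Type*} [AddCommGroup M']
    [Module R M'] [Module R' M'] [IsScalarTower R R' M'] (𝔟 : Ideal R) (ψ : M →ₗ[R] M')
    (hR : ∀ r' : R', ∃ r : R, algebraMap R R' r - r' ∈ 𝔟.map (algebraMap R R'))
    (hM : ∀ m' : M', ∃ m : M, ψ m - m' ∈ (𝔟.map (algebraMap R R') • ⊤ : Submodule R' M'))
    (hinj : ∀ m : M, ψ m ∈ (𝔟.map (algebraMap R R') • ⊤ : Submodule R' M') →
      m ∈ (𝔟 • ⊤ : Submodule R M))
    (h : QuotFlat 𝔟 M) : QuotFlat (𝔟.map (algebraMap R R')) M' := by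
  intro ι _ g' x' hgx'
  set 𝔟' := 𝔟.map (algebraMap R R') with h𝔟'
  choose g hg using fun s => hR (g' s)
  choose x hx using fun s => hM (x' s)
  have hψ𝔟 : ∀ m ∈ (𝔟 • ⊤ : Submodule R M), ψ m ∈ (𝔟' • ⊤ : Submodule R' M') := by
    intro m hm
    induction hm using Submodule.smul_induction_on' with
    | smul b hb n _ =>
      rw [map_smul, ← algebraMap_smul R' b (ψ n)]
      exact Submodule.smul_mem_smul (Ideal.mem_map_of_mem _ hb) mem_top
    | add x _ y _ hx hy => rw [map_add]; exact Submodule.add_mem _ hx hy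
  have h1 : ∑ s, g s • x s ∈ (𝔟 • ⊤ : Submodule R M) := by
    apply hinj
    rw [map_sum]
    have : ∑ s, ψ (g s • x s) = ∑ s, g' s • x' s +
        ∑ s, ((algebraMap R R' (g s) - g' s) • ψ (x s) + g' s • (ψ (x s) - x' s)) := by
      rw [← Finset.sum_add_distrib]
      refine Finset.sum_congr rfl fun s _ => ?_
      rw [map_smul, ← algebraMap_smul R' (g s) (ψ (x s)), sub_smul, smul_sub]
      abel
    rw [this]
    refine Submodule.add_mem _ hgx' (Submodule.sum_mem _ fun s _ => Submodule.add_mem _ ?_ ?_)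
    · exact Submodule.smul_mem_smul (hg s) mem_top
    · exact Submodule.smul_mem _ _ (hx s)
  obtain ⟨k, a, y, hay, hga⟩ := h ι g x h1
  refine ⟨k, fun s j => algebraMap R R' (a s j), fun j => ψ (y j), fun s => ?_, fun j => ?_⟩
  · have : x' s - ∑ j, algebraMap R R' (a s j) • ψ (y j) =
        ψ (x s - ∑ j, a s j • y j) - (ψ (x s) - x' s) := by
      rw [map_sub, map_sum]
      simp only [map_smul, algebraMap_smul]
      abel
    rw [this]
    exact Submodule.sub_mem _ (hψ𝔟 _ (hay s)) (hx s)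
  · have : ∑ s, g' s * algebraMap R R' (a s j) = algebraMap R R' (∑ s, g s * a s j) -
        ∑ s, (algebraMap R R' (g s) - g' s) * algebraMap R R' (a s j) := by
      rw [map_sum, ← Finset.sum_sub_distrib]
      refine Finset.sum_congr rfl fun s _ => ?_
      rw [map_mul]
      ring
    rw [this]
    exact Ideal.sub_mem _ (Ideal.mem_map_of_mem _ (hga j))
      (Ideal.sum_mem _ fun s _ => Ideal.mul_mem_right _ _ (hg s))


/-- Base change of a flat module to a quotient ring, in quotient-module form. -/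
theorem flat_quotient_of_flat (𝔟 : Ideal R) [Module.Flat R M] :
    Module.Flat (R ⧸ 𝔟) (M ⧸ (𝔟 • ⊤ : Submodule R M)) :=
  Module.Flat.of_linearEquiv ((TensorProduct.quotTensorEquivQuotSMul M 𝔟).extendScalarsOfSurjective
    Ideal.Quotient.mk_surjective).symm

theorem quotFlat_of_flat (𝔟 : Ideal R) [Module.Flat R M] : QuotFlat 𝔟 M :=
  haveI := flat_quotient_of_flat (M := M) 𝔟
  quotFlat_of_flat_quotient 𝔟


theorem mem_map_smul_top_iff {R' : Type*} [CommRing R'] [Algebra R R'] {M' : Type*}
    [AddCommGroup M'] [Module R M'] [Module R' M'] [IsScalarTower R R' M'] (𝔟 : Ideal R) (x : M') :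
    x ∈ (𝔟.map (algebraMap R R') • ⊤ : Submodule R' M') ↔ x ∈ (𝔟 • ⊤ : Submodule R M') := by
  rw [← Submodule.restrictScalars_mem R, Submodule.restrictScalars_map_smul_eq,
    Submodule.restrictScalars_top]

theorem mem_map_iff_mem_smul_top {R' : Type*} [CommRing R'] [Algebra R R'] (𝔟 : Ideal R)
    (x : R') : x ∈ 𝔟.map (algebraMap R R') ↔ x ∈ (𝔟 • ⊤ : Submodule R R') := by
  rw [← mem_map_smul_top_iff (R' := R'), smul_eq_mul, Ideal.mul_top]

section Completion

variable (I : Ideal R)

theorem exists_of_sub_mem_pow_smul_top (hI : I.FG) (n : ℕ) (y : AdicCompletion I M) :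
    ∃ m : M, AdicCompletion.of I M m - y ∈ (I ^ n • ⊤ : Submodule R (AdicCompletion I M)) := by
  obtain ⟨m, hm⟩ := Submodule.mkQ_surjective _ (AdicCompletion.eval I M n y)
  refine ⟨m, ?_⟩
  rw [AdicCompletion.pow_smul_top_eq_ker_eval hI, LinearMap.mem_ker, map_sub,
    AdicCompletion.eval_of, hm, sub_self]

theorem mem_of_of_mem_pow_smul_top (hI : I.FG) (n : ℕ) (m : M)
    (h : AdicCompletion.of I M m ∈ (I ^ n • ⊤ : Submodule R (AdicCompletion I M))) :
    m ∈ (I ^ n • ⊤ : Submodule R M) := by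
  rw [AdicCompletion.pow_smul_top_eq_ker_eval hI, LinearMap.mem_ker, AdicCompletion.eval_of] at h
  simpa using h

/-- `QuotFlat` passes to the completion, as a module over the completed ring. -/
theorem QuotFlat.adicCompletion (hI : I.FG) (n : ℕ) (h : QuotFlat (I ^ n) M) :
    QuotFlat ((I ^ n).map (algebraMap R (AdicCompletion I R))) (AdicCompletion I M) := by
  refine QuotFlat.of_dense (I ^ n) (AdicCompletion.of I M) ?_ ?_ ?_ h
  · intro r'
    obtain ⟨r, hr⟩ := exists_of_sub_mem_pow_smul_top I hI n r'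
    exact ⟨r, (mem_map_iff_mem_smul_top _ _).mpr hr⟩
  · intro m'
    obtain ⟨m, hm⟩ := exists_of_sub_mem_pow_smul_top I hI n m'
    exact ⟨m, (mem_map_smul_top_iff _ _).mpr hm⟩
  · intro m hm
    exact mem_of_of_mem_pow_smul_top I hI n m ((mem_map_smul_top_iff _ _).mp hm)

/-- `QuotFlat` passes to the completion, as a module over the original ring. -/
theorem QuotFlat.adicCompletion' (hI : I.FG) (n : ℕ) (h : QuotFlat (I ^ n) M) :
    QuotFlat (I ^ n) (AdicCompletion I M) := by
  have := QuotFlat.of_dense (R' := R) (I ^ n) (AdicCompletion.of I M) ?_ ?_ ?_ h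
  · simpa using this
  · intro r'
    exact ⟨r', by simp⟩
  · intro m'
    obtain ⟨m, hm⟩ := exists_of_sub_mem_pow_smul_top I hI n m'
    exact ⟨m, by simpa using hm⟩
  · intro m hm
    exact mem_of_of_mem_pow_smul_top I hI n m (by simpa using hm)

/-- Stacks 06LE-type statement: over a Noetherian ring, the completion of a flat module is flat. -/
theorem flat_adicCompletion_of_flat [IsNoetherianRing R] [Module.Flat R M] :
    Module.Flat R (AdicCompletion I M) := by
  have hI : I.FG := IsNoetherian.noetherian I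
  have : IsAdicComplete I (AdicCompletion I M) := AdicCompletion.isAdicComplete hI
  exact flat_of_isAdicComplete_of_quotFlat I fun n =>
    QuotFlat.adicCompletion' I hI n (quotFlat_of_flat _)

end Completion

end Groth.Agent.Lib.Helper21
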