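import Groth.Agent.Lib.Helper21.GenFin1
import Groth.Agent.Lib.Helper20.DimTrdeg
import Groth.Agent.Lib.Helper6.EtLocInsepScheme1

/-!
# Generic finiteness for dominant morphisms of integral schemes
-/

set_option autoImplicit false
set_option linter.style.haveILetI false
set_option linter.unusedSectionVars false
universe u
open AlgebraicGeometry CategoryTheory Limits TopologicalSpace

namespace Groth.Agent.Lib.Helper21.GenFin

open Groth.Agent.Lib.Helper20.DimTrdeg

variable {X Y : Scheme.{u}}

/-- A restriction between affine opens is finite iff the ring map is. -/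
theorem isFinite_resLE_iff (f : X ⟶ Y) {V : Y.Opens} {U : X.Opens} (hV : IsAffineOpen V)
    (hU : IsAffineOpen U) (e : U ≤ f ⁻¹ᵁ V) :
    IsFinite (f.resLE V U e) ↔ (f.appLE V U e).hom.Finite := by
  haveI : IsAffine (U : Scheme.{u}) := hU
  haveI : IsAffine (V : Scheme.{u}) := hV
  rw [HasAffineProperty.iff_of_isAffine (P := @IsFinite), and_iff_right (by infer_instance)]
  exact RingHom.finite_respectsIso.arrow_mk_iso_iff (arrowResLEAppIso f V U e)

/-- A dominant map of irreducible schemes preserves the generic point. -/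
theorem map_genericPoint [IrreducibleSpace X] [IrreducibleSpace Y] (f : X ⟶ Y) [IsDominant f] :
    f (genericPoint X) = genericPoint Y := by
  have h1 := (genericPoint_spec X).image f.continuous
  rw [Set.image_univ, f.denseRange.closure_range] at h1
  exact h1.eq (genericPoint_spec Y)

/-- At a generic point of an integral scheme the residue field is the fraction field of any
affine chart. -/
theorem isFractionRing_evaluation_of_eq_genericPoint [IsIntegral Y] (V : Y.Opens)
    (hV : IsAffineOpen V) (y : Y) (hy : y ∈ V) (hgen : y = genericPoint Y) :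
    @IsFractionRing Γ(Y, V) _ (Y.residueField y) _ (Y.evaluation V y hy).hom.toAlgebra := by
  subst hgen
  exact isFractionRing_evη V hV hy

variable [IsIntegral X] [IsIntegral Y] (f : X ⟶ Y) [IsDominant f] [LocallyOfFiniteType f]

/-- **Generic finiteness**: if the function field extension is finite, some nonempty affine opens
`U ⊆ X`, `V ⊆ Y` with `f(U) ⊆ V` have `U ⟶ V` finite. -/
theorem exists_isFinite_resLE
    (hfin : letI := (f.residueFieldMap (genericPoint X)).hom.toAlgebra
      Module.Finite (Y.residueField (f (genericPoint X))) (X.residueField (genericPoint X))) :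
    ∃ (U : X.Opens) (V : Y.Opens) (hUV : U ≤ f ⁻¹ᵁ V), IsAffineOpen U ∧ IsAffineOpen V ∧
      Nonempty ↥U ∧ IsFinite (f.resLE V U hUV) := by
  have hfξ : f (genericPoint X) = genericPoint Y := map_genericPoint f
  obtain ⟨V, hV, hfξV, -⟩ := Opens.isBasis_iff_nbhd.mp Y.isBasis_affineOpens
    (show f (genericPoint X) ∈ (⊤ : Y.Opens) from trivial)
  have hV : IsAffineOpen V := hV
  obtain ⟨U, hU, hξU, hUV⟩ := Opens.isBasis_iff_nbhd.mp X.isBasis_affineOpens
    (show genericPoint X ∈ f ⁻¹ᵁ V from hfξV)
  have hU : IsAffineOpen U := hU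
  have hneU : Nonempty U := ⟨⟨_, hξU⟩⟩
  have hneV : Nonempty V := ⟨⟨_, hfξV⟩⟩
  have hdomV : IsDomain Γ(Y, V) := inferInstance
  have hdomU : IsDomain Γ(X, U) := inferInstance
  -- algebra structures
  letI aRS : Algebra Γ(Y, V) Γ(X, U) := (f.appLE V U hUV).hom.toAlgebra
  letI aRK : Algebra Γ(Y, V) (Y.residueField (f (genericPoint X))) :=
    (Y.evaluation V (f (genericPoint X)) hfξV).hom.toAlgebra
  letI aKL : Algebra (Y.residueField (f (genericPoint X))) (X.residueField (genericPoint X)) :=
    (f.residueFieldMap (genericPoint X)).hom.toAlgebra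
  letI aSL : Algebra Γ(X, U) (X.residueField (genericPoint X)) :=
    (X.evaluation U (genericPoint X) hξU).hom.toAlgebra
  letI aRL : Algebra Γ(Y, V) (X.residueField (genericPoint X)) :=
    ((algebraMap (Y.residueField (f (genericPoint X))) (X.residueField (genericPoint X))).comp
      (algebraMap Γ(Y, V) (Y.residueField (f (genericPoint X))))).toAlgebra
  haveI : IsScalarTower Γ(Y, V) (Y.residueField (f (genericPoint X)))
      (X.residueField (genericPoint X)) := IsScalarTower.of_algebraMap_eq fun _ => rfl
  haveI : IsScalarTower Γ(Y, V) Γ(X, U) (X.residueField (genericPoint X)) := by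
    refine IsScalarTower.of_algebraMap_eq fun r => ?_
    change (f.residueFieldMap (genericPoint X)).hom
        ((Y.evaluation V (f (genericPoint X)) hfξV).hom r) =
      (X.evaluation U (genericPoint X) hξU).hom ((f.appLE V U hUV).hom r)
    have h1 := Scheme.evaluation_naturality_apply f (genericPoint X) hfξV r
    rw [h1, Scheme.Hom.appLE]
    simp only [CommRingCat.hom_comp, RingHom.comp_apply]
    have h2 := congrArg (fun g => g.hom ((f.app V).hom r))
      (Groth.Agent.Lib.Helper20.DimTrdeg.map_evaluation hUV (genericPoint X) hξU)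
    exact h2.symm
  haveI hfrK := isFractionRing_evaluation_of_eq_genericPoint V hV (f (genericPoint X)) hfξV hfξ
  haveI : Module.Finite (Y.residueField (f (genericPoint X))) (X.residueField (genericPoint X)) :=
    hfin
  have halgKL : Algebra.IsAlgebraic (Y.residueField (f (genericPoint X)))
      (X.residueField (genericPoint X)) := Algebra.IsAlgebraic.of_finite _ _
  have halgRL : Algebra.IsAlgebraic Γ(Y, V) (X.residueField (genericPoint X)) :=
    (IsFractionRing.comap_isAlgebraic_iff (A := Γ(Y, V))
      (K := Y.residueField (f (genericPoint X))) (C := X.residueField (genericPoint X))).mpr halgKL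
  have hinjSL : Function.Injective (algebraMap Γ(X, U) (X.residueField (genericPoint X))) := by
    exact @IsFractionRing.injective Γ(X, U) _ (X.residueField (genericPoint X)) _
      (evη U hξU).toAlgebra (isFractionRing_evη U hU hξU)
  have halgRS : Algebra.IsAlgebraic Γ(Y, V) Γ(X, U) :=
    Algebra.IsAlgebraic.of_injective (IsScalarTower.toAlgHom Γ(Y, V) Γ(X, U)
      (X.residueField (genericPoint X))) hinjSL
  have hft : (f.appLE V U hUV).hom.FiniteType :=
    HasRingHomProperty.appLE (P := @LocallyOfFiniteType) f inferInstance ⟨V, hV⟩ ⟨U, hU⟩ hUV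
  obtain ⟨a, ha0, hafin⟩ := exists_away_map_finite (f.appLE V U hUV).hom hft halgRS
  -- the basic opens
  have hV' : IsAffineOpen (Y.basicOpen a) := hV.basicOpen a
  have hU' : IsAffineOpen (X.basicOpen ((f.appLE V U hUV).hom a)) := hU.basicOpen _
  have hle : X.basicOpen ((f.appLE V U hUV).hom a) ≤ f ⁻¹ᵁ (Y.basicOpen a) := by
    rw [Scheme.basicOpen_appLE]
    exact inf_le_right
  have hηV' : genericPoint Y ∈ Y.basicOpen a := by
    have hne : ((Y.basicOpen a : Y.Opens) : Set Y).Nonempty := by
      by_contra hcon
      have hbot : Y.basicOpen a = ⊥ := by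
        ext z
        simp only [Opens.coe_bot, Set.mem_empty_iff_false, iff_false]
        exact fun hz => hcon ⟨z, hz⟩
      rw [AlgebraicGeometry.basicOpen_eq_bot_iff] at hbot
      exact ha0 hbot
    obtain ⟨z, hz⟩ := hne
    exact (genericPoint_specializes z).mem_open (Y.basicOpen a).isOpen hz
  have hξU' : genericPoint X ∈ X.basicOpen ((f.appLE V U hUV).hom a) := by
    rw [Scheme.basicOpen_appLE]
    exact ⟨hξU, show f (genericPoint X) ∈ Y.basicOpen a from hfξ ▸ hηV'⟩
  refine ⟨X.basicOpen ((f.appLE V U hUV).hom a), Y.basicOpen a, hle, hU', hV', ⟨⟨_, hξU'⟩⟩, ?_⟩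
  rw [isFinite_resLE_iff f hV' hU' hle]
  letI := hV.isLocalization_basicOpen a
  letI := hU.isLocalization_basicOpen ((f.appLE V U hUV).hom a)
  have h3 := hV.appLE_eq_away_map f hU hUV a
  have h4 : f.appLE (Y.basicOpen a) (X.basicOpen ((f.appLE V U hUV).hom a)) hle =
      CommRingCat.ofHom (IsLocalization.Away.map _ _ (f.appLE V U hUV).hom a) := h3
  rw [h4]
  exact hafin Γ(Y, Y.basicOpen a) Γ(X, X.basicOpen ((f.appLE V U hUV).hom a))

end Groth.Agent.Lib.Helper21.GenFin
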