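import Groth.Agent.Lib.Helper21.FibDim2
import Groth.Agent.Lib.Helper21.GenFin2

/-!
# Fibre dimension, scheme level III: the generic fibre has the smallest dimension
-/

set_option autoImplicit false
set_option linter.style.haveILetI false
set_option linter.unusedSectionVars false
universe u

open AlgebraicGeometry CategoryTheory Limits TopologicalSpace

namespace Groth.Agent.Lib.Helper21.FibDim

open Groth.Agent.Lib.Helper21.ChartPt Groth.Agent.Lib.Helper21.NagDvr

variable {X S : Scheme.{u}} (f : X ⟶ S)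

/-- Residue transcendence degrees decrease under specialisation within a fibre. -/
theorem trdeg_le_of_specializes {y' y : X} (h : y' ⤳ y) (hf : f y' = f y) :
    @Algebra.trdeg (S.residueField (f y)) (X.residueField y) _ _
        (f.residueFieldMap y).hom.toAlgebra ≤
      @Algebra.trdeg (S.residueField (f y')) (X.residueField y') _ _
        (f.residueFieldMap y').hom.toAlgebra := by
  obtain ⟨V, hV, hfyV, -⟩ := Opens.isBasis_iff_nbhd.mp S.isBasis_affineOpens
    (show f y ∈ (⊤ : S.Opens) from trivial)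
  have hV : IsAffineOpen V := hV
  obtain ⟨U, hU, hyU, e⟩ := Opens.isBasis_iff_nbhd.mp X.isBasis_affineOpens
    (show y ∈ f ⁻¹ᵁ V from hfyV)
  have hU : IsAffineOpen U := hU
  have hy'U : y' ∈ U := h.mem_open U.2 hyU
  letI alg : Algebra Γ(S, V) Γ(X, U) := (f.appLE V U e).hom.toAlgebra
  let p : Ideal Γ(S, V) := (hV.primeIdealOf ⟨f y, hfyV⟩).asIdeal
  let q : Ideal Γ(X, U) := (hU.primeIdealOf ⟨y, hyU⟩).asIdeal
  let q' : Ideal Γ(X, U) := (hU.primeIdealOf ⟨y', hy'U⟩).asIdeal
  have hp : p.IsPrime := (hV.primeIdealOf ⟨f y, hfyV⟩).2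
  have hq : q.IsPrime := (hU.primeIdealOf ⟨y, hyU⟩).2
  have hq' : q'.IsPrime := (hU.primeIdealOf ⟨y', hy'U⟩).2
  have hqp : q.LiesOver p :=
    ⟨(congrArg PrimeSpectrum.asIdeal
      (IsAffineOpen.comap_primeIdealOf_appLE V hV U hU e hyU)).symm⟩
  have hpy' : p = (hV.primeIdealOf ⟨f y', e hy'U⟩).asIdeal := by
    have : (⟨f y', e hy'U⟩ : V) = ⟨f y, hfyV⟩ := Subtype.ext hf
    rw [this]
  have hq'p : q'.LiesOver p := by
    refine ⟨?_⟩
    rw [hpy']
    exact (congrArg PrimeSpectrum.asIdeal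
      (IsAffineOpen.comap_primeIdealOf_appLE V hV U hU e hy'U)).symm
  rw [trdeg_residueField_eq_trdeg_quotient f hU hV e rfl y hyU p q rfl rfl,
    trdeg_residueField_eq_trdeg_quotient f hU hV e rfl y' hy'U p q' rfl hpy']
  have hle : q' ≤ q := (specializes_iff_primeIdealOf_le hU ⟨y', hy'U⟩ ⟨y, hyU⟩).mp h
  let φ : (Γ(X, U) ⧸ q') →ₐ[Γ(S, V) ⧸ p] (Γ(X, U) ⧸ q) :=
    { Ideal.Quotient.factor hle with
      commutes' := by
        intro r
        obtain ⟨a, rfl⟩ := Ideal.Quotient.mk_surjective r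
        rfl }
  exact trdeg_le_of_surjective φ (Ideal.Quotient.factor_surjective hle)

/-- The fibre dimension at the generic point is the smallest. -/
theorem fibreDimAt_genericPoint_le [IrreducibleSpace X] [LocallyOfFiniteType f] (x : X) :
    FlatMor.fibreDimAt f (genericPoint X) ≤ FlatMor.fibreDimAt f x := by
  obtain ⟨m, hm, -, -⟩ := exists_fibreDimAt_eq_trdeg f x
  have hopen := isOpen_setOf_fibreDimAt_le f m
  have hx : x ∈ {x : X | FlatMor.fibreDimAt f x ≤ m} := hm.le
  have := (genericPoint_specializes x).mem_open hopen hx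
  rw [hm]
  exact this

/-- the dimension of any fibre is at most the fibre dimension at a point generalising all
points of that fibre -/
theorem topologicalKrullDim_fiber_le [LocallyOfFiniteType f] (s : S) (ξ : X) (hξs : f ξ = s)
    (hξ : ∀ y : X, f y = s → ξ ⤳ y) :
    topologicalKrullDim (f.fiber s) ≤ FlatMor.fibreDimAt f ξ := by
  subst hξs
  rw [Groth.Agent.Lib.Helper18.TopDim.topologicalKrullDim_eq_iSup_localDim]
  refine iSup_le fun z => ?_
  have hz : f (f.fiberι (f ξ) z) = f ξ := (f.fiberHomeo (f ξ) z).2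
  rw [Groth.Agent.Lib.Helper6.EtaleSq.localDim_fiber_eq_fibreDimAt f (f.fiberι (f ξ) z) (f ξ)
    hz z rfl]
  obtain ⟨n, hn, ⟨y, hyz, hfy, hyn⟩, -⟩ := exists_fibreDimAt_eq_trdeg f (f.fiberι (f ξ) z)
  obtain ⟨nξ, hnξ, -, hall⟩ := exists_fibreDimAt_eq_trdeg f ξ
  have hfy' : f y = f ξ := hfy.trans hz
  have h1 := trdeg_le_of_specializes f (hξ y hfy') hfy'.symm
  have h2 := hall ξ specializes_rfl rfl
  rw [hyn] at h1
  have h3 : n ≤ nξ := by exact_mod_cast h1.trans h2
  rw [hn, hnξ]
  exact_mod_cast h3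

/-- EGA IV 13.1.1 / S3388: the generic fibre dimension bounds all local fibre dimensions. -/
theorem topologicalKrullDim_generic_fiber_le_fibreDimAt {Y : Scheme.{u}} [IrreducibleSpace X] [IrreducibleSpace Y]
    (f : X ⟶ Y) [LocallyOfFiniteType f] [IsDominant f] (x : X) :
    topologicalKrullDim ↥(f.fiber (genericPoint Y)) ≤ FlatMor.fibreDimAt f x := by
  refine le_trans ?_ (fibreDimAt_genericPoint_le f x)
  exact topologicalKrullDim_fiber_le f (genericPoint Y) (genericPoint X)
    (Groth.Agent.Lib.Helper21.GenFin.map_genericPoint f) (fun y _ => genericPoint_specializes y)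

theorem fibreDimAt_le_topologicalKrullDim_fiber (x : X) :
    FlatMor.fibreDimAt f x ≤ topologicalKrullDim (f.fiber (f x)) :=
  Groth.Agent.Lib.Helper18.TopDim.localDim_le_topologicalKrullDim _

end Groth.Agent.Lib.Helper21.FibDim
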