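import Mathlib
import Groth.Agent.Lib.Helper6.EtaleSq
import Groth.Agent.Lib.Helper14.SchemeDim
import Groth.Agent.Lib.Helper22.FibreDim
import Groth.Agent.Lib.Helper18.TopDim

set_option autoImplicit false
set_option linter.unusedSectionVars false
set_option linter.style.haveILetI false
universe u

open TopologicalSpace TensorProduct

namespace Groth.Agent.Lib.Helper21.BaseChg

section Top

variable {X Y : Type*} [TopologicalSpace X] [TopologicalSpace Y]

/-- a continuous surjective generalizing map does not lower the Krull dimension -/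
theorem topologicalKrullDim_le_of_generalizingMap [QuasiSober X] [T0Space X] [QuasiSober Y]
    [T0Space Y] (f : X → Y) (hc : Continuous f) (hg : GeneralizingMap f)
    (hs : Function.Surjective f) :
    topologicalKrullDim Y ≤ topologicalKrullDim X := by
  rw [Groth.Agent.Lib.Helper6.EtaleSq.topologicalKrullDim_eq_krullDim,
    Groth.Agent.Lib.Helper6.EtaleSq.topologicalKrullDim_eq_krullDim]
  unfold Order.krullDim
  refine iSup_le fun p => ?_
  obtain ⟨a, ha⟩ := hs p.head
  obtain ⟨q, -, hq⟩ := Groth.Agent.Lib.Helper14.AS.exists_ltSeries_of_generalizingMap f hc hg p a ha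
  rw [← hq]
  exact le_iSup (fun q : @LTSeries X (specializationPreorder X) => (q.length : WithBot ℕ∞)) q

/-- **Local dimension does not drop along an open generalizing map.** -/
theorem localDim_le_of_isOpenMap [QuasiSober X] [T0Space X] [QuasiSober Y] [T0Space Y]
    (f : X → Y) (hc : Continuous f) (hg : GeneralizingMap f) (ho : IsOpenMap f) (x : X) :
    FlatMor.localDim Y (f x) ≤ FlatMor.localDim X x := by
  unfold FlatMor.localDim
  refine le_iInf fun U => ?_
  let V : Opens Y := ⟨f '' (U.1 : Set X), ho _ U.1.2⟩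
  have hxV : f x ∈ V := ⟨x, U.2, rfl⟩
  refine (iInf_le _ ⟨V, hxV⟩).trans ?_
  change topologicalKrullDim ↥(f '' (U.1 : Set X)) ≤ topologicalKrullDim ↥(U.1 : Set X)
  haveI : QuasiSober ↥(U.1 : Set X) := U.1.2.isOpenEmbedding_subtypeVal.quasiSober
  haveI : QuasiSober ↥(f '' (U.1 : Set X)) := (ho _ U.1.2).isOpenEmbedding_subtypeVal.quasiSober
  let g : ↥(U.1 : Set X) → ↥(f '' (U.1 : Set X)) := fun u => ⟨f u.1, u.1, u.2, rfl⟩
  refine topologicalKrullDim_le_of_generalizingMap g ?_ ?_ ?_
  · exact (hc.comp continuous_subtype_val).subtype_mk _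
  · intro u v hv
    have hv' : v.1 ⤳ f u.1 := (subtype_specializes_iff _ _).mp hv
    obtain ⟨t, ht, htv⟩ := hg hv'
    have htU : t ∈ (U.1 : Set X) := ht.mem_open U.1.2 u.2
    exact ⟨⟨t, htU⟩, (subtype_specializes_iff _ _).mpr ht, Subtype.ext htv⟩
  · rintro ⟨_, u, hu, rfl⟩
    exact ⟨⟨u, hu⟩, rfl⟩

end Top

section Spec

variable (R : Type u) [CommRing R]

/-- the dimension of a basic open of a prime spectrum -/
theorem topologicalKrullDim_basicOpen (g : R) :
    topologicalKrullDim ↥((PrimeSpectrum.basicOpen g : Opens (PrimeSpectrum R)) : Set (PrimeSpectrum R)) =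
      ringKrullDim (Localization.Away g) := by
  have hemb := PrimeSpectrum.localization_away_isOpenEmbedding (Localization.Away g) g
  have hrange := PrimeSpectrum.localization_away_comap_range (Localization.Away g) g
  rw [← PrimeSpectrum.topologicalKrullDim_eq_ringKrullDim]
  let e : PrimeSpectrum (Localization.Away g) ≃ₜ
      Set.range (PrimeSpectrum.comap (algebraMap R (Localization.Away g))) :=
    hemb.isEmbedding.toHomeomorph
  have h1 := IsHomeomorph.topologicalKrullDim_eq e e.isHomeomorph
  rw [h1]
  rw [hrange]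

/-- the local dimension is at most the dimension of any basic open neighbourhood -/
theorem localDim_le_away (x : PrimeSpectrum R) (g : R) (hg : g ∉ x.asIdeal) :
    FlatMor.localDim (PrimeSpectrum R) x ≤ ringKrullDim (Localization.Away g) := by
  rw [← topologicalKrullDim_basicOpen]
  unfold FlatMor.localDim
  exact iInf_le (fun U : {U : Opens (PrimeSpectrum R) // x ∈ U} =>
    topologicalKrullDim ↥(U.1 : Set (PrimeSpectrum R))) ⟨PrimeSpectrum.basicOpen g, hg⟩

/-- every open neighbourhood contains a basic open neighbourhood of no larger dimension -/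
theorem exists_away_le (x : PrimeSpectrum R) (U : Opens (PrimeSpectrum R)) (hx : x ∈ U) :
    ∃ g : R, g ∉ x.asIdeal ∧
      ringKrullDim (Localization.Away g) ≤ topologicalKrullDim ↥(U : Set (PrimeSpectrum R)) := by
  obtain ⟨_, ⟨g, rfl⟩, hxg, hgU⟩ :=
    PrimeSpectrum.isTopologicalBasis_basic_opens.exists_subset_of_mem_open hx U.2
  refine ⟨g, hxg, ?_⟩
  rw [← topologicalKrullDim_basicOpen]
  have hind : Topology.IsInducing (Set.inclusion hgU) := (Topology.IsEmbedding.inclusion hgU).isInducing
  exact hind.topologicalKrullDim_le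

end Spec

end Groth.Agent.Lib.Helper21.BaseChg
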