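import Groth.Agent.Lib.Helper21.CondT4

/-!
# EGA IV 14.3.? : dimension conditions at a maximal point of a fibre where the morphism is
universally open
-/

set_option autoImplicit false
set_option linter.style.haveILetI false
set_option linter.unusedSectionVars false
universe u

open AlgebraicGeometry CategoryTheory Limits TopologicalSpace IsLocalRing

namespace Groth.Agent.Lib.Helper21.CondT

open Groth.Agent.Lib.Helper21.FibDim Groth.Agent.Lib.Helper21.EquiSub
  Groth.Agent.Lib.Helper21.FourCond Groth.Agent.Lib.Helper21.OpenAt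

variable {W X Y : Scheme.{u}}

/-- the local dimension of a fibre at a point is the local fibre dimension -/
theorem localDim_fiber_eq_fibreDimAt (g : W ⟶ Y) (z : Y) (w : W) (hz : g w = z)
    (t : g.fiber z) (ht : g.fiberι z t = w) :
    FlatMor.localDim ↥(g.fiber z) t = FlatMor.fibreDimAt g w := by
  subst hz
  have : t = g.asFiber w := by
    apply (g.fiberι (g w)).isEmbedding.injective
    rw [ht, Scheme.Hom.fiberι_asFiber]
  rw [this]
  rfl

/-- if all local fibre dimensions at the points of `U ∩ f⁻¹(η)` are `< N`, so is the dimension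
of `U ∩ f⁻¹(η)` -/
theorem topologicalKrullDim_inter_preimage_lt (f : X ⟶ Y) [LocallyOfFiniteType f] (U : X.Opens)
    (η : Y) (N : ℕ) (h : ∀ u ∈ U, f u = η → FlatMor.fibreDimAt f u < N) :
    topologicalKrullDim ↥((U : Set X) ∩ f.base ⁻¹' {η}) < N := by
  rw [← topologicalKrullDim_fiber_ι_comp f U η]
  set g := U.ι ≫ f with hg
  have key : ∀ t : g.fiber η, FlatMor.localDim ↥(g.fiber η) t < N := by
    intro t
    have h1 : g (g.fiberι η t) = η := (g.fiberHomeo η t).2
    rw [localDim_fiber_eq_fibreDimAt g η (g.fiberι η t) h1 t rfl,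
      Groth.Agent.Lib.Helper21.EquidimAt.fibreDimAt_ι_comp f U (g.fiberι η t)]
    exact h _ (g.fiberι η t).2 h1
  rcases Nat.eq_zero_or_pos N with rfl | hN
  · haveI : IsEmpty ↥(g.fiber η) := by
      refine ⟨fun t => ?_⟩
      have h1 := key t
      have h2 := Groth.Agent.Lib.Helper18.TopDim.zero_le_localDim t
      exact absurd (lt_of_le_of_lt h2 h1) (lt_irrefl _)
    rw [topologicalKrullDim_eq_bot_of_isEmpty]
    exact WithBot.bot_lt_coe _
  · obtain ⟨n, rfl⟩ : ∃ n, N = n + 1 := ⟨N - 1, by omega⟩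
    have h2 : topologicalKrullDim ↥(g.fiber η) ≤ (n : WithBot ℕ∞) := by
      rw [Groth.Agent.Lib.Helper18.TopDim.topologicalKrullDim_eq_iSup_localDim]
      refine iSup_le fun t => ?_
      have h1 := key t
      have h3 : g (g.fiberι η t) = η := (g.fiberHomeo η t).2
      rw [localDim_fiber_eq_fibreDimAt g η (g.fiberι η t) h3 t rfl] at h1 ⊢
      obtain ⟨M, hM, -, -⟩ := exists_fibreDimAt_eq_trdeg g (g.fiberι η t)
      rw [hM] at h1 ⊢
      have h4 : M < n + 1 := by exact_mod_cast h1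
      have h5 : M ≤ n := by omega
      exact_mod_cast h5
    refine lt_of_le_of_lt h2 ?_
    exact_mod_cast Nat.lt_succ_self n

/-- **b') ⟹ existence of a generisation of maximal fibre dimension** -/
theorem exists_generization_fibreDimAt_of_dim_le (f : X ⟶ Y) [LocallyOfFiniteType f] (x : X)
    (N : ℕ) (hFx : FlatMor.fibreDimAt f x = N) (η : Y)
    (hb : ∀ U : X.Opens, x ∈ U →
      (N : WithBot ℕ∞) ≤ topologicalKrullDim ↥((U : Set X) ∩ f.base ⁻¹' {η})) :
    ∃ ξ : X, ξ ⤳ x ∧ f ξ = η ∧ FlatMor.fibreDimAt f ξ = N := by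
  by_contra hcon
  push Not at hcon
  let Bc : TopologicalSpace.Closeds X :=
    ⟨{u | (N : WithBot ℕ∞) ≤ FlatMor.fibreDimAt f u},
      Groth.Agent.Lib.Helper18.FibSemi.isClosed_setOf_le_fibreDimAt f N⟩
  have hr := range_subschemeι_vanishingIdeal Bc
  have hemb : Topology.IsEmbedding (Scheme.IdealSheafData.vanishingIdeal Bc).subschemeι.base :=
    (Scheme.IdealSheafData.vanishingIdeal Bc).subschemeι.isEmbedding
  have hxB : x ∈ (Bc : Set X) := by
    show (N : WithBot ℕ∞) ≤ FlatMor.fibreDimAt f x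
    rw [hFx]
  obtain ⟨w, hw⟩ : x ∈ Set.range (Scheme.IdealSheafData.vanishingIdeal Bc).subschemeι.base := by
    rw [hr]; exact hxB
  obtain ⟨O, hwO, hO⟩ := exists_open_forall_ne_of_forall_generization_ne
    ((Scheme.IdealSheafData.vanishingIdeal Bc).subschemeι ≫ f) w η (by
      intro ξ' hξ'w hgξ'
      have h1 : (Scheme.IdealSheafData.vanishingIdeal Bc).subschemeι.base ξ' ⤳ x := by
        rw [← hw]
        exact hξ'w.map (Scheme.IdealSheafData.vanishingIdeal Bc).subschemeι.continuous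
      have h2 : (Scheme.IdealSheafData.vanishingIdeal Bc).subschemeι.base ξ' ∈ (Bc : Set X) := by
        rw [← hr]
        exact ⟨ξ', rfl⟩
      have h3 : (N : WithBot ℕ∞) ≤
        FlatMor.fibreDimAt f ((Scheme.IdealSheafData.vanishingIdeal Bc).subschemeι.base ξ') := h2
      have h4 := fibreDimAt_le_of_specializes f h1
      rw [hFx] at h4
      exact hcon _ h1 hgξ' (le_antisymm h4 h3))
  obtain ⟨U₁, hU₁o, hU₁⟩ := hemb.isInducing.isOpen_iff.mp O.2
  let U' : X.Opens := ⟨U₁ ∩ {u | FlatMor.fibreDimAt f u ≤ (N : ℕ)},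
    hU₁o.inter (isOpen_setOf_fibreDimAt_le f N)⟩
  have hxU' : x ∈ U' := by
    refine ⟨?_, le_of_eq hFx⟩
    have : w ∈ (Scheme.IdealSheafData.vanishingIdeal Bc).subschemeι.base ⁻¹' U₁ := by
      rw [hU₁]; exact hwO
    rw [← hw]
    exact this
  have hlt := topologicalKrullDim_inter_preimage_lt f U' η N (by
    intro u hu hfu
    apply lt_of_le_of_ne hu.2
    intro heq
    have huB : u ∈ (Bc : Set X) := by
      show (N : WithBot ℕ∞) ≤ FlatMor.fibreDimAt f u
      rw [heq]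
    obtain ⟨u', hu'⟩ : u ∈ Set.range (Scheme.IdealSheafData.vanishingIdeal Bc).subschemeι.base := by
      rw [hr]; exact huB
    have hu'O : u' ∈ O := by
      have : u' ∈ (Scheme.IdealSheafData.vanishingIdeal Bc).subschemeι.base ⁻¹' U₁ := by
        show (Scheme.IdealSheafData.vanishingIdeal Bc).subschemeι.base u' ∈ U₁
        rw [hu']
        exact hu.1
      rw [hU₁] at this
      exact this
    apply hO u' hu'O
    show f ((Scheme.IdealSheafData.vanishingIdeal Bc).subschemeι.base u') = η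
    rw [hu', hfu])
  exact absurd (lt_of_le_of_lt (hb U' hxU') hlt) (lt_irrefl _)

/-- **EGA IV 14.3.?, a) ⟹ b')** -/
theorem dim_le_of_isUnivOpenAt (f : X ⟶ Y) [LocallyOfFiniteType f] (x : X)
    (hmax : ∀ x' : X, f.base x' = f.base x → x ∈ closure {x'} → x' = x)
    (hop : EGA43.IsUnivOpenAt f x) (U : X.Opens) (hxU : x ∈ U) (y' : Y) (hy' : y' ⤳ f.base x) :
    FlatMor.fibreDimAt f x ≤ topologicalKrullDim ↥((U : Set X) ∩ f.base ⁻¹' {y'}) := by
  have hζmax : ∀ τ : X, τ ⤳ x → f τ = f x → τ = x :=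
    fun τ hτ hfτ => hmax τ hfτ (specializes_iff_mem_closure.mp hτ)
  obtain ⟨N, hN⟩ := exists_nat_trdeg_residueFieldMap f x
  have hFx : FlatMor.fibreDimAt f x = N := fibreDimAt_eq_trdeg_of_maximal f x hζmax N hN
  obtain ⟨ξ, hξx, hfξ, hFξ⟩ :=
    exists_generization_fibreDimAt_of_isUnivOpenAt f x hop hζmax N hN y' hy'
  have hξU : ξ ∈ U := hξx.mem_open U.2 hxU
  rw [hFx, ← hFξ, ← Groth.Agent.Lib.Helper21.EquidimAt.fibreDimAt_ι_comp f U ⟨ξ, hξU⟩,
    ← topologicalKrullDim_fiber_ι_comp f U y']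
  have h1 : (U.ι ≫ f) (⟨ξ, hξU⟩ : U.toScheme) = y' := hfξ
  have h2 := Groth.Agent.Lib.Helper21.OpenAt.fibreDimAt_le_topologicalKrullDim_fiber (U.ι ≫ f) (⟨ξ, hξU⟩ : U.toScheme)
  rw [h1] at h2
  exact h2

/-- **EGA IV 14.3.?, b') ⟹ b)** -/
theorem exists_component_of_dim_le (f : X ⟶ Y) [LocallyOfFiniteType f] (x : X)
    (hb : ∀ U : X.Opens, x ∈ U → ∀ y' : Y, y' ⤳ f.base x →
        FlatMor.fibreDimAt f x ≤ topologicalKrullDim ↥((U : Set X) ∩ f.base ⁻¹' {y'}))
    (Y₀ : Set Y) (hY₀ : Y₀ ∈ irreducibleComponents (Y : Type u)) (hxY₀ : f.base x ∈ Y₀) :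
    ∃ Z ∈ irreducibleComponents (X : Type u), ∃ hx : x ∈ Z, closure (f.base '' Z) = Y₀ ∧
      ∀ η : Y, closure ({η} : Set Y) = Y₀ →
        FlatMor.fibreDimAt f x = FlatMor.localDim ↥(Z ∩ f.base ⁻¹' {f.base x}) ⟨x, ⟨hx, rfl⟩⟩ ∧
        FlatMor.localDim ↥(Z ∩ f.base ⁻¹' {f.base x}) ⟨x, ⟨hx, rfl⟩⟩ =
          topologicalKrullDim ↥(Z ∩ f.base ⁻¹' {η}) := by
  obtain ⟨η, hη⟩ := QuasiSober.sober hY₀.1 (isClosed_of_mem_irreducibleComponents Y₀ hY₀)
  have hηx : η ⤳ f x := by
    rw [specializes_iff_mem_closure, hη.def]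
    exact hxY₀
  have hηmax : ∀ t : Y, t ⤳ η → t = η := by
    intro t ht
    have h1 : closure ({η} : Set Y) ≤ closure ({t} : Set Y) :=
      specializes_iff_closure_subset.mp ht
    rw [hη.def] at h1
    have h2 := hY₀.2 isIrreducible_singleton.closure h1
    have h3 : η ⤳ t := by
      rw [specializes_iff_mem_closure, hη.def]
      exact h2 (subset_closure rfl)
    exact (h3.antisymm ht).eq.symm
  obtain ⟨N, hFx, -, -⟩ := exists_fibreDimAt_eq_trdeg f x
  obtain ⟨ξ, hξx, hfξ, hFξ⟩ := exists_generization_fibreDimAt_of_dim_le f x N hFx η (by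
    intro U hxU
    rw [← hFx]
    exact hb U hxU η hηx)
  obtain ⟨ζ', N', hζ'ξ, hfζ', hζ'max, hζ'N, hFξ'⟩ := exists_maximal_generization_fibreDimAt f ξ
  have hNN : N' = N := by
    rw [hFξ] at hFξ'
    exact_mod_cast hFξ'.symm
  rw [hNN] at hζ'N
  have hfζ'η : f ζ' = η := hfζ'.trans hfξ
  have hζ'maxX : ∀ τ : X, τ ⤳ ζ' → τ = ζ' := by
    intro τ hτ
    apply hζ'max τ hτ
    have h1 : f τ ⤳ η := by
      rw [← hfζ'η]
      exact hτ.map f.continuous
    rw [hηmax _ h1, hfζ'η]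
  have hζ'x : ζ' ⤳ x := hζ'ξ.trans hξx
  have hx : x ∈ closure ({ζ'} : Set X) := specializes_iff_mem_closure.mp hζ'x
  refine ⟨closure {ζ'}, closure_mem_irreducibleComponents_of_maximal ζ' hζ'maxX, hx, ?_, ?_⟩
  · rw [closure_image_closure f.continuous, Set.image_singleton]
    have : f.base ζ' = η := hfζ'η
    rw [this, hη.def]
  · intro η' hη'
    have hηη' : η' = η := by
      have h1 : IsGenericPoint η' Y₀ := hη'
      exact h1.eq hη
    subst hηη'
    obtain ⟨h1, h2, -⟩ := component_facts f ζ' x hζ'x N hζ'N hx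
    have h3 : FlatMor.localDim ↥(closure ({ζ'} : Set X) ∩ f.base ⁻¹' {f.base x})
        ⟨x, ⟨hx, rfl⟩⟩ = N := by
      apply le_antisymm
      · rw [← hFx]; exact h2
      · exact h1
    refine ⟨by rw [hFx, h3], ?_⟩
    rw [h3]
    have h4 := topologicalKrullDim_closure_inter_fiber f ζ' N hζ'N
    have : f.base ζ' = η' := hfζ'η
    rw [this] at h4
    exact h4.symm

end Groth.Agent.Lib.Helper21.CondT
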