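import Groth.Agent.Lib.Helper21.EquidimAt1

/-!
# Morphisms equidimensional at a point over an equidimensional universally catenary local ring
-/

set_option autoImplicit false
set_option linter.style.haveILetI false
set_option linter.unusedSectionVars false
universe u
open AlgebraicGeometry CategoryTheory TopologicalSpace IsLocalRing Limits

namespace Groth.Agent.Lib.Helper21.EquidimAt

open Groth.Agent.Lib.Helper21.FibDim Groth.Agent.Lib.Helper21.DimLoc
  Groth.Agent.Lib.Helper12.Codim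

/-- a Noetherian local ring has a minimal prime of maximal coheight -/
theorem exists_minimalPrimes_ringKrullDim_quotient_eq (O : Type u) [CommRing O] [IsLocalRing O]
    [IsNoetherianRing O] :
    ∃ 𝔭 ∈ minimalPrimes O, ringKrullDim (O ⧸ 𝔭) = ringKrullDim O := by
  have hfin : Order.height (⟨maximalIdeal O, inferInstance⟩ : PrimeSpectrum O) ≠ ⊤ := by
    rw [← PrimeSpectrum.height_eq_orderHeight]
    exact Ideal.height_ne_top (maximalIdeal.isMaximal O).ne_top
  obtain ⟨m, hmin, hmq, hcd⟩ := Groth.Agent.Lib.Helper18.CatHt.exists_isMin_cd_eq_height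
    (⟨maximalIdeal O, inferInstance⟩ : PrimeSpectrum O) hfin
  obtain ⟨Q₀, hQ₀⟩ := m
  refine ⟨Q₀, ⟨⟨hQ₀, bot_le⟩, fun b hb hbQ => ?_⟩, ?_⟩
  · exact hmin (b := (⟨b, hb.1⟩ : PrimeSpectrum O)) hbQ
  · haveI := hQ₀
    rw [ringKrullDim_quotient_eq_cd, hcd, ← PrimeSpectrum.height_eq_orderHeight,
      IsLocalRing.maximalIdeal_height_eq_ringKrullDim]

variable {X Y : Scheme.{u}} (f : X ⟶ Y)

/-- the contraction of the prime of a generisation `ξ` of `x` whose image is a maximal point -/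
theorem comap_stalkMap_mem_minimalPrimes (x : X) (𝔭 : Ideal (X.presheaf.stalk x))
    [h𝔭 : 𝔭.IsPrime]
    (hmaxY : ∀ η : Y, η ⤳ f (X.fromSpecStalk x ⟨𝔭, h𝔭⟩) → η = f (X.fromSpecStalk x ⟨𝔭, h𝔭⟩)) :
    𝔭.comap (f.stalkMap x).hom ∈ minimalPrimes (Y.presheaf.stalk (f x)) := by
  haveI h𝔭' : (𝔭.comap (f.stalkMap x).hom).IsPrime := Ideal.comap_isPrime _ _
  set P : Spec (X.presheaf.stalk x) := ⟨𝔭, h𝔭⟩ with hP
  set P' : Spec (Y.presheaf.stalk (f x)) := ⟨𝔭.comap (f.stalkMap x).hom, h𝔭'⟩ with hP'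
  have hfξ : Y.fromSpecStalk (f x) P' = f (X.fromSpecStalk x P) := by
    have h3 := congrArg (fun φ : Spec (X.presheaf.stalk x) ⟶ Y => φ P)
      (Scheme.SpecMap_stalkMap_fromSpecStalk f (x := x))
    simp only [Scheme.Hom.comp_apply] at h3
    exact h3
  refine ⟨⟨h𝔭', bot_le⟩, fun 𝔮 h𝔮 hle => ?_⟩
  haveI := h𝔮.1
  let Q : Spec (Y.presheaf.stalk (f x)) := ⟨𝔮, h𝔮.1⟩
  have h1 : Q ⤳ P' := (PrimeSpectrum.le_iff_specializes Q P').mp hle
  have h2 : Y.fromSpecStalk (f x) Q ⤳ Y.fromSpecStalk (f x) P' :=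
    h1.map (Y.fromSpecStalk (f x)).continuous
  rw [hfξ] at h2
  have h3 := hmaxY _ h2
  rw [← hfξ] at h3
  have h4 : Q = P' := (Y.fromSpecStalk (f x)).isEmbedding.injective h3
  have h5 : 𝔮 = 𝔭.comap (f.stalkMap x).hom := congrArg PrimeSpectrum.asIdeal h4
  rw [h5]


/-- the first condition of equidimensionality at a point: maximal points of `U` map to maximal
points of `Y` -/
theorem eq_of_specializes_map_of_components (U : X.Opens)
    (hcomp : ∀ Z ∈ irreducibleComponents (↥U : Type u),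
      ∃ W ∈ irreducibleComponents (Y : Type u), closure ((U.ι ≫ f).base '' Z) = W)
    (ξ : X) (hξU : ξ ∈ U) (hmax : ∀ ξ' : X, ξ' ⤳ ξ → ξ' = ξ) (η : Y) (h : η ⤳ f ξ) :
    η = f ξ := by
  let u : U.toScheme := ⟨ξ, hξU⟩
  have hmaxU : ∀ u' : U.toScheme, u' ⤳ u → u' = u := by
    intro u' hu'
    have h1 : U.ι u' ⤳ U.ι u := hu'.map U.ι.continuous
    have h2 : U.ι u' = U.ι u := hmax _ h1
    exact U.ι.isOpenEmbedding.injective h2
  have hZ : closure ({u} : Set U.toScheme) ∈ irreducibleComponents U.toScheme :=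
    closure_mem_irreducibleComponents_of_maximal u hmaxU
  obtain ⟨W, hW, hcl⟩ := hcomp _ hZ
  have h2 : closure ((U.ι ≫ f).base '' closure ({u} : Set U.toScheme)) = closure {f ξ} :=
    (closure_image_closure (U.ι ≫ f).continuous).trans (by
      rw [Set.image_singleton]
      rfl)
  have h3 : closure {f ξ} = W := h2.symm.trans hcl
  exact eq_of_specializes_of_closure_mem (f ξ) (by rw [h3]; exact hW) η h


/-- **Equidimensional morphisms over an equidimensional universally catenary local ring**: all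
quotients of `O_{X,x}` by minimal primes have dimension `dim O_{Y,y} + e - trdeg κ(x)/κ(y)`. -/
theorem ringKrullDim_quotient_minimalPrime_of_isEquidimAt [LocallyOfFiniteType f] (x : X)
    (h : EGA43.IsEquidimAt f x)
    (hcat : CAlg.IsUniversallyCatenary (Y.presheaf.stalk (f x)))
    (hY : EGA4.IsEquidim (Y.presheaf.stalk (f x))) :
    ∃ a b : ℕ, ringKrullDim ((f.fiber (f x)).presheaf.stalk (f.asFiber x)) = b ∧
      ∀ 𝔭 ∈ minimalPrimes (X.presheaf.stalk x),
        ringKrullDim (X.presheaf.stalk x ⧸ 𝔭) + (a : WithBot ℕ∞) =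
          ringKrullDim (Y.presheaf.stalk (f x)) + ((a + b : ℕ) : WithBot ℕ∞) := by
  obtain ⟨e, U, hxU, hcomp, hfib⟩ := h
  obtain ⟨a, b, ha, hb, hloc⟩ := exists_fibreDimAt_eq_add f x
  have hfx := fibreDimAt_eq_of_forall_components f U e hfib x hxU
  have he : e = a + b := by
    rw [hloc] at hfx
    exact_mod_cast hfx.symm
  refine ⟨a, b, hb, fun 𝔭 hmin => ?_⟩
  haveI h𝔭 : 𝔭.IsPrime := hmin.1.1
  have hform := ringKrullDim_quotient_minimalPrime f x U hxU e hfib hcat 𝔭 hmin a ha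
  have hξx : X.fromSpecStalk x ⟨𝔭, h𝔭⟩ ⤳ x := by
    have : X.fromSpecStalk x ⟨𝔭, h𝔭⟩ ∈ Set.range (X.fromSpecStalk x) := ⟨_, rfl⟩
    rw [Scheme.range_fromSpecStalk] at this
    exact this
  have hξU : X.fromSpecStalk x ⟨𝔭, h𝔭⟩ ∈ U := hξx.mem_open U.2 hxU
  have hmax := eq_of_specializes_fromSpecStalk_of_minimal x 𝔭 hmin
  have hmaxY := eq_of_specializes_map_of_components f U
    (fun Z hZ => by
      obtain ⟨W, hW, -, hcl⟩ := hcomp Z hZ
      exact ⟨W, hW, hcl⟩) _ hξU hmax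
  have hminY := comap_stalkMap_mem_minimalPrimes f x 𝔭 hmaxY
  rw [hY _ hminY, he] at hform
  exact hform

end Groth.Agent.Lib.Helper21.EquidimAt
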