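import Groth.Agent.Lib.Helper21.ChartPt5
import Groth.Agent.Lib.Helper14.SchemeDim2

/-!
# Dimension of local rings on schemes locally of finite type over a field
-/

set_option autoImplicit false
set_option linter.style.haveILetI false
set_option linter.unusedSectionVars false
universe u
open AlgebraicGeometry CategoryTheory Limits TopologicalSpace

namespace Groth.Agent.Lib.Helper21.ChartPt

open Groth.Agent.Lib.Helper21.NagDvr Groth.Agent.Lib.Helper20.DimTrdeg

section Stalk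

variable {X : Scheme.{u}} {U : X.Opens} (hU : IsAffineOpen U)

/-- The dimension of the local ring at a point of an affine open is the height of its prime. -/
theorem ringKrullDim_stalk_eq_height (x : X) (hxU : x ∈ U) :
    ringKrullDim (X.presheaf.stalk x) =
      ((hU.primeIdealOf ⟨x, hxU⟩).asIdeal.height : WithBot ℕ∞) := by
  letI := X.presheaf.algebra_section_stalk ⟨x, hxU⟩
  haveI := hU.isLocalization_stalk ⟨x, hxU⟩
  exact IsLocalization.AtPrime.ringKrullDim_eq_height (hU.primeIdealOf ⟨x, hxU⟩).asIdeal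
    (X.presheaf.stalk x)

end Stalk

section OverField

variable (k : Type u) [Field k] (X : Scheme.{u}) [X.Over (Spec (CommRingCat.of k))]
  [LocallyOfFiniteType (X ↘ Spec (CommRingCat.of k))]

/-- **Lower bound**: every open neighbourhood of `x` contains a point whose local ring has
dimension at least `trdeg κ(x) + dim 𝒪_x`. -/
theorem exists_mem_add_le_ringKrullDim_stalk (x : X) (a b : ℕ)
    (ha : @Algebra.trdeg k (X.residueField x) _ _ (Curv2.resAlgebra k X x) = a)
    (hb : ringKrullDim (X.presheaf.stalk x) = b) (O : X.Opens) (hxO : x ∈ O) :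
    ∃ z : X, z ∈ O ∧ ((a + b : ℕ) : WithBot ℕ∞) ≤ ringKrullDim (X.presheaf.stalk z) := by
  obtain ⟨W, hW, hxW, hWO⟩ := Opens.isBasis_iff_nbhd.mp X.isBasis_affineOpens hxO
  have hW : IsAffineOpen W := hW
  let _ : Algebra k Γ(X, W) := (kMap (X ↘ Spec (CommRingCat.of k)) W).toAlgebra
  have : Algebra.FiniteType k Γ(X, W) := kMap_finiteType (X ↘ Spec (CommRingCat.of k)) W hW
  obtain ⟨s, hs1, hs2⟩ := exists_nat_trdeg_eq_and_dim_quotient k X hW x hxW
  have hsa : s = a := by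
    have : (s : Cardinal) = a := by rw [← hs1, ha]
    exact_mod_cast this
  subst hsa
  have hht : (hW.primeIdealOf ⟨x, hxW⟩).asIdeal.height = b := by
    have h1 := ringKrullDim_stalk_eq_height hW x hxW
    rw [hb] at h1
    have h2 : ((b : ℕ∞) : WithBot ℕ∞) =
        (((hW.primeIdealOf ⟨x, hxW⟩).asIdeal.height : ℕ∞) : WithBot ℕ∞) := h1
    exact (WithBot.coe_inj.mp h2).symm
  obtain ⟨m, hm, hqm⟩ := Ideal.exists_le_maximal (hW.primeIdealOf ⟨x, hxW⟩).asIdeal
    (hW.primeIdealOf ⟨x, hxW⟩).2.ne_top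
  obtain ⟨⟨z, hzW⟩, hz⟩ := exists_primeIdealOf_eq hW ⟨m, hm.isPrime⟩
  have hz' : (hW.primeIdealOf ⟨z, hzW⟩).asIdeal = m := congrArg PrimeSpectrum.asIdeal hz
  refine ⟨z, hWO hzW, ?_⟩
  rw [ringKrullDim_stalk_eq_height hW z hzW, hz']
  have := add_le_height_of_isMaximal k Γ(X, W) (hW.primeIdealOf ⟨x, hxW⟩).asIdeal m hqm s b
    hs2 hht
  exact_mod_cast this

/-- **Upper bound**: `x` has an open neighbourhood all of whose local rings have dimension at
most `trdeg κ(x) + dim 𝒪_x`. -/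
theorem exists_nhd_ringKrullDim_stalk_le (x : X) (a b : ℕ)
    (ha : @Algebra.trdeg k (X.residueField x) _ _ (Curv2.resAlgebra k X x) = a)
    (hb : ringKrullDim (X.presheaf.stalk x) = b) :
    ∃ O : X.Opens, x ∈ O ∧
      ∀ z : X, z ∈ O → ringKrullDim (X.presheaf.stalk z) ≤ ((a + b : ℕ) : WithBot ℕ∞) := by
  obtain ⟨W, hW, hxW, -⟩ := Opens.isBasis_iff_nbhd.mp X.isBasis_affineOpens
    (show x ∈ (⊤ : X.Opens) from trivial)
  have hW : IsAffineOpen W := hW
  let _ : Algebra k Γ(X, W) := (kMap (X ↘ Spec (CommRingCat.of k)) W).toAlgebra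
  have : Algebra.FiniteType k Γ(X, W) := kMap_finiteType (X ↘ Spec (CommRingCat.of k)) W hW
  have : IsNoetherianRing Γ(X, W) := Algebra.FiniteType.isNoetherianRing k Γ(X, W)
  obtain ⟨s, hs1, hs2⟩ := exists_nat_trdeg_eq_and_dim_quotient k X hW x hxW
  have hsa : s = a := by
    have : (s : Cardinal) = a := by rw [← hs1, ha]
    exact_mod_cast this
  subst hsa
  have hht : (hW.primeIdealOf ⟨x, hxW⟩).asIdeal.height = b := by
    have h1 := ringKrullDim_stalk_eq_height hW x hxW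
    rw [hb] at h1
    have h2 : ((b : ℕ∞) : WithBot ℕ∞) =
        (((hW.primeIdealOf ⟨x, hxW⟩).asIdeal.height : ℕ∞) : WithBot ℕ∞) := h1
    exact (WithBot.coe_inj.mp h2).symm
  -- choose `f`
  classical
  have hfin : (minimalPrimes Γ(X, W)).Finite := minimalPrimes.finite_of_isNoetherianRing _
  let S : Finset (Ideal Γ(X, W)) :=
    hfin.toFinset.filter (fun p => ¬ p ≤ (hW.primeIdealOf ⟨x, hxW⟩).asIdeal)
  have hnot : ¬ S.prod id ≤ (hW.primeIdealOf ⟨x, hxW⟩).asIdeal := by
    intro hle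
    obtain ⟨p, hpS, hp⟩ := ((hW.primeIdealOf ⟨x, hxW⟩).2.prod_le).mp hle
    exact (Finset.mem_filter.mp hpS).2 hp
  obtain ⟨f, hfS, hfq⟩ := SetLike.not_le_iff_exists.mp hnot
  have hf : ∀ p ∈ minimalPrimes Γ(X, W), ¬ p ≤ (hW.primeIdealOf ⟨x, hxW⟩).asIdeal → f ∈ p := by
    intro p hp hpq
    have hpS : p ∈ S := Finset.mem_filter.mpr ⟨hfin.mem_toFinset.mpr hp, hpq⟩
    exact (Ideal.prod_le_inf.trans (Finset.inf_le hpS) : S.prod id ≤ id p) hfS
  refine ⟨X.basicOpen f, (mem_basicOpen_iff_notMem_primeIdealOf hW f ⟨x, hxW⟩).mpr hfq, ?_⟩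
  intro z hz
  have hzW : z ∈ W := X.basicOpen_le f hz
  have hfz : f ∉ (hW.primeIdealOf ⟨z, hzW⟩).asIdeal :=
    (mem_basicOpen_iff_notMem_primeIdealOf hW f ⟨z, hzW⟩).mp hz
  rw [ringKrullDim_stalk_eq_height hW z hzW]
  have := height_le_add_of_notMem k Γ(X, W) (hW.primeIdealOf ⟨x, hxW⟩).asIdeal s b hs2 hht f hf
    (hW.primeIdealOf ⟨z, hzW⟩).asIdeal hfz
  exact_mod_cast this

/-- **Local dimension formula** (Stacks 0A21-style): `dim_x X = trdeg κ(x) + dim 𝒪_x`. -/
theorem localDim_eq_add (x : X) (a b : ℕ)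
    (ha : @Algebra.trdeg k (X.residueField x) _ _ (Curv2.resAlgebra k X x) = a)
    (hb : ringKrullDim (X.presheaf.stalk x) = b) :
    FlatMor.localDim X x = ((a + b : ℕ) : WithBot ℕ∞) := by
  unfold FlatMor.localDim
  apply le_antisymm
  · obtain ⟨O, hxO, hO⟩ := exists_nhd_ringKrullDim_stalk_le k X x a b ha hb
    refine (iInf_le _ ⟨O, hxO⟩).trans ?_
    rw [Groth.Agent.Lib.Helper14.AS.topologicalKrullDim_opens_eq_iSup_stalk O]
    exact iSup_le fun z => hO z.1 z.2
  · refine le_iInf fun O => ?_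
    obtain ⟨z, hzO, hz⟩ := exists_mem_add_le_ringKrullDim_stalk k X x a b ha hb O.1 O.2
    rw [Groth.Agent.Lib.Helper14.AS.topologicalKrullDim_opens_eq_iSup_stalk O.1]
    exact hz.trans (le_iSup (fun o : ↥(O.1 : Set X) => ringKrullDim (X.presheaf.stalk o.1))
      ⟨z, hzO⟩)

end OverField

end Groth.Agent.Lib.Helper21.ChartPt
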