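import Groth.Agent.Lib.Helper21.NagDvr2

set_option autoImplicit false
set_option linter.style.haveILetI false
set_option linter.unusedSectionVars false
universe u
open AlgebraicGeometry CategoryTheory Limits TopologicalSpace

namespace Groth.Agent.Lib.Helper21.NagDvr

section Affine

variable {X : Scheme.{u}}

theorem mem_basicOpen_iff_notMem_primeIdealOf {W : X.Opens} (hW : IsAffineOpen W) (a : Γ(X, W))
    (x : W) : (x : X) ∈ X.basicOpen a ↔ a ∉ (hW.primeIdealOf x).asIdeal := by
  rw [Scheme.mem_basicOpen X a x.1 x.2]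
  letI := X.presheaf.algebra_section_stalk x
  haveI := hW.isLocalization_stalk x
  have := IsLocalization.AtPrime.isUnit_to_map_iff (X.presheaf.stalk x.1)
    (hW.primeIdealOf x).asIdeal a
  exact this

theorem primeIdealOf_injective {W : X.Opens} (hW : IsAffineOpen W) :
    Function.Injective hW.primeIdealOf := by
  intro x y h
  have h1 := hW.fromSpec_primeIdealOf x
  have h2 := hW.fromSpec_primeIdealOf y
  rw [h] at h1
  exact Subtype.ext (h1.symm.trans h2)

theorem exists_primeIdealOf_eq {W : X.Opens} (hW : IsAffineOpen W) (P : PrimeSpectrum Γ(X, W)) :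
    ∃ x : W, hW.primeIdealOf x = P := by
  refine ⟨hW.isoSpec.inv P, ?_⟩
  unfold IsAffineOpen.primeIdealOf
  rw [← Scheme.Hom.comp_apply, Iso.inv_hom_id]
  rfl

end Affine

section Unit

/-- In a localization away from `τ`, if `β` becomes a unit then `β * b = τ ^ m` for some `b, m`. -/
theorem exists_mul_eq_pow_of_isUnit {B Bτ : Type*} [CommRing B] [CommRing Bτ] [Algebra B Bτ]
    (τ : B) [IsLocalization.Away τ Bτ] (β : B) (hβ : IsUnit (algebraMap B Bτ β)) :
    ∃ (b : B) (m : ℕ), β * b = τ ^ m := by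
  obtain ⟨u, hu⟩ := hβ.exists_right_inv
  obtain ⟨k, b', hb'⟩ := IsLocalization.Away.surj τ u
  have h1 : algebraMap B Bτ (β * b') = algebraMap B Bτ (τ ^ k) := by
    rw [map_mul, ← hb', ← mul_assoc, hu, one_mul, map_pow]
  obtain ⟨l, hl⟩ := IsLocalization.Away.exists_of_eq τ h1
  refine ⟨τ ^ l * b', l + k, ?_⟩
  rw [pow_add, ← hl]
  ring

variable {Y : Scheme.{u}}

theorem exists_mul_eq_pow_of_basicOpen_le {V : Y.Opens} (hV : IsCompact (V : Set Y))
    (hV' : IsQuasiSeparated (V : Set Y)) (β τ : Γ(Y, V)) (hle : Y.basicOpen τ ≤ Y.basicOpen β) :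
    ∃ (b : Γ(Y, V)) (m : ℕ), β * b = τ ^ m := by
  letI : Algebra Γ(Y, V) Γ(Y, Y.basicOpen τ) :=
    (Y.presheaf.map (homOfLE (Y.basicOpen_le τ)).op).hom.toAlgebra
  haveI := isLocalization_basicOpen_of_qcqs hV hV' τ
  refine exists_mul_eq_pow_of_isUnit (Bτ := Γ(Y, Y.basicOpen τ)) τ β ?_
  have h1 : IsUnit (Y.presheaf.map (homOfLE (Y.basicOpen_le β)).op β) :=
    RingedSpace.isUnit_res_basicOpen Y.toRingedSpace β
  have h2 := h1.map (Y.presheaf.map (homOfLE hle).op).hom
  rw [← CommRingCat.comp_apply, ← Functor.map_comp] at h2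
  exact h2

end Unit

end Groth.Agent.Lib.Helper21.NagDvr
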