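import Groth.Agent.Lib.Helper21.OpenNbhd1
import Groth.Agent.Lib.Helper21.NagDvr3

set_option autoImplicit false
set_option linter.style.haveILetI false
set_option linter.unusedSectionVars false
universe u
open AlgebraicGeometry CategoryTheory Limits TopologicalSpace

namespace Groth.Agent.Lib.Helper21.OpenNbhd

section Top

variable {T : Type*} [TopologicalSpace T] [QuasiSober T] [T0Space T]

/-- A point is the generic point of an irreducible component iff it has no proper
generization. -/
theorem closure_singleton_mem_irreducibleComponents_iff (η : T) :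
    closure {η} ∈ irreducibleComponents T ↔ ∀ z : T, z ⤳ η → z = η := by
  constructor
  · intro hmax z hz
    have h1 : closure {η} ⊆ closure {z} := by
      rw [specializes_iff_closure_subset] at hz
      exact hz
    have h2 : closure {z} ⊆ closure {η} := hmax.2 isIrreducible_singleton.closure h1
    exact ((inseparable_iff_closure_eq.mpr (le_antisymm h2 h1)).eq)
  · intro h
    refine ⟨isIrreducible_singleton.closure, fun Z hZ hle => ?_⟩
    obtain ⟨z, hz⟩ := QuasiSober.sober hZ.closure isClosed_closure
    have hη : η ∈ closure Z := subset_closure (hle (subset_closure rfl))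
    have hzη : z ⤳ η := by
      rw [specializes_iff_mem_closure, hz.def]
      exact hη
    have := h z hzη
    subst this
    rw [hz.def]
    exact subset_closure

end Top

section MinPrimes

variable {S : Scheme.{u}}

/-- Affine opens of a scheme with finitely many irreducible components have finitely many minimal
primes. -/
theorem finite_minimalPrimes_of_finite_irreducibleComponents
    (hS : (irreducibleComponents (S : Type u)).Finite) (V : S.Opens) (hV : IsAffineOpen V) :
    (minimalPrimes Γ(S, V)).Finite := by
  haveI : Finite (irreducibleComponents (S : Type u)) := hS.to_subtype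
  haveI hprime : ∀ P : minimalPrimes Γ(S, V), P.1.IsPrime := fun P => P.2.1.1
  let η : minimalPrimes Γ(S, V) → S := fun P => hV.fromSpec ⟨P.1, hprime P⟩
  have hηV : ∀ P, η P ∈ V := fun P => by
    have : η P ∈ Set.range hV.fromSpec := ⟨_, rfl⟩
    rw [hV.range_fromSpec] at this
    exact this
  have hprimeOf : ∀ P, hV.primeIdealOf ⟨η P, hηV P⟩ = ⟨P.1, hprime P⟩ := by
    intro P
    obtain ⟨y, hy⟩ := NagDvr.exists_primeIdealOf_eq hV ⟨P.1, hprime P⟩
    have h1 := hV.fromSpec_primeIdealOf y
    rw [hy] at h1
    have : y = ⟨η P, hηV P⟩ := Subtype.ext h1.symm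
    rw [← this, hy]
  have hmaxpt : ∀ P, closure {η P} ∈ irreducibleComponents (S : Type u) := by
    intro P
    rw [closure_singleton_mem_irreducibleComponents_iff]
    intro z hz
    have hzV : z ∈ V := hz.mem_open V.isOpen (hηV P)
    -- compare primes
    have hle : (hV.primeIdealOf ⟨z, hzV⟩).asIdeal ≤ P.1 := by
      intro a ha
      by_contra hna
      have h1 : η P ∈ S.basicOpen a := by
        rw [NagDvr.mem_basicOpen_iff_notMem_primeIdealOf hV a ⟨η P, hηV P⟩, hprimeOf P]
        exact hna
      have h2 : z ∈ S.basicOpen a := hz.mem_open (S.basicOpen a).isOpen h1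
      rw [NagDvr.mem_basicOpen_iff_notMem_primeIdealOf hV a ⟨z, hzV⟩] at h2
      exact h2 ha
    have heq : (hV.primeIdealOf ⟨z, hzV⟩).asIdeal = P.1 :=
      le_antisymm hle (P.2.2 ⟨(hV.primeIdealOf ⟨z, hzV⟩).isPrime, bot_le⟩ hle)
    have h3 : hV.primeIdealOf ⟨z, hzV⟩ = hV.primeIdealOf ⟨η P, hηV P⟩ := by
      rw [hprimeOf P]
      exact PrimeSpectrum.ext heq
    exact congrArg Subtype.val (NagDvr.primeIdealOf_injective hV h3)
  let φ : minimalPrimes Γ(S, V) → irreducibleComponents (S : Type u) :=
    fun P => ⟨closure {η P}, hmaxpt P⟩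
  have hφ : Function.Injective φ := by
    intro P Q hPQ
    have h1 : closure {η P} = closure {η Q} := congrArg Subtype.val hPQ
    have h2 : η P = η Q := (inseparable_iff_closure_eq.mpr h1).eq
    have h3 : hV.primeIdealOf ⟨η P, hηV P⟩ = hV.primeIdealOf ⟨η Q, hηV Q⟩ := by
      congr 1
      exact Subtype.ext h2
    rw [hprimeOf P, hprimeOf Q] at h3
    exact Subtype.ext (congrArg PrimeSpectrum.asIdeal h3)
  exact Set.finite_coe_iff.mp (Finite.of_injective φ hφ)

end MinPrimes

end Groth.Agent.Lib.Helper21.OpenNbhd
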