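import Groth.Agent.Lib.Helper21.IrrFib4
import Groth.Agent.Lib.Helper18.SchDim1
import Groth.Agent.Lib.Helper14.SchemeDim

/-!
# Dimension of the closure of a point versus the closure of its image
-/

set_option autoImplicit false
set_option linter.style.haveILetI false
set_option linter.unusedSectionVars false
universe u

open AlgebraicGeometry CategoryTheory Limits TopologicalSpace Topology

namespace Groth.Agent.Lib.Helper21.IrrFib

open Groth.Agent.Lib.Helper21.FibDim

/-- transport of residue transcendence degrees along an equality of morphisms -/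
theorem trdeg_congr {A B : Scheme.{u}} {φ ψ : A ⟶ B} (e : φ = ψ) (a : A) (n : ℕ)
    (h : @Algebra.trdeg (B.residueField (φ a)) (A.residueField a) _ _
      (φ.residueFieldMap a).hom.toAlgebra = n) :
    @Algebra.trdeg (B.residueField (ψ a)) (A.residueField a) _ _
      (ψ.residueFieldMap a).hom.toAlgebra = n := by
  subst e
  exact h

/-- the reduced induced closed subscheme on a closed subset is homeomorphic to it -/
theorem topologicalKrullDim_subscheme_vanishingIdeal {X : Scheme.{u}} (Z : Closeds X) :
    topologicalKrullDim ↥(Scheme.IdealSheafData.vanishingIdeal Z).subscheme =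
      topologicalKrullDim ↥(Z : Set X) := by
  have hr : Set.range (Scheme.IdealSheafData.vanishingIdeal Z).subschemeι = (Z : Set X) := by
    rw [Scheme.IdealSheafData.range_subschemeι, Scheme.IdealSheafData.coe_support_vanishingIdeal]
  have hemb := (Scheme.IdealSheafData.vanishingIdeal Z).subschemeι.isEmbedding
  rw [← hr]
  exact (hemb.toHomeomorph).isHomeomorph.topologicalKrullDim_eq

/-- **Generically quasi-finite maps do not lower dimension**: if `κ(ξ)` is algebraic over
`κ(π ξ)` then `dim cl{ξ} ≤ dim cl(π(cl{ξ}))`. -/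
theorem topologicalKrullDim_closure_le_of_trdeg_eq_zero {X Y : Scheme.{u}} [IsLocallyNoetherian Y]
    (π : X ⟶ Y) [LocallyOfFiniteType π] (ξ : X)
    (h0 : @Algebra.trdeg (Y.residueField (π ξ)) (X.residueField ξ) _ _
      (π.residueFieldMap ξ).hom.toAlgebra = (0 : ℕ)) :
    topologicalKrullDim ↥(closure ({ξ} : Set X)) ≤
      topologicalKrullDim ↥(closure (π.base '' closure ({ξ} : Set X))) := by
  let Zc : Closeds X := ⟨closure {ξ}, isClosed_closure⟩
  let I := Scheme.IdealSheafData.vanishingIdeal Zc
  let J := Scheme.IdealSheafData.vanishingIdeal (Closeds.closure (π.base '' (Zc : Set X)))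
  have hIJ : J ≤ I.map π := (Scheme.IdealSheafData.map_vanishingIdeal π Zc).ge
  let h := Scheme.IdealSheafData.subschemeMap I J π hIJ
  have hfac : h ≫ J.subschemeι = I.subschemeι ≫ π :=
    Scheme.IdealSheafData.subschemeMap_subschemeι I J π hIJ
  have hrI : Set.range I.subschemeι = closure {ξ} := by
    rw [Scheme.IdealSheafData.range_subschemeι, Scheme.IdealSheafData.coe_support_vanishingIdeal]
    rfl
  haveI : LocallyOfFiniteType (h ≫ J.subschemeι) := by rw [hfac]; infer_instance
  haveI : LocallyOfFiniteType h := locallyOfFiniteType_of_comp h J.subschemeι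
  haveI : IsLocallyNoetherian J.subscheme := LocallyOfFiniteType.isLocallyNoetherian J.subschemeι
  -- the generic point
  obtain ⟨ξ', hξ'⟩ : ξ ∈ Set.range I.subschemeι := by rw [hrI]; exact subset_closure rfl
  have hgen : ∀ ζ' : I.subscheme, ξ' ⤳ ζ' := by
    intro ζ'
    rw [← I.subschemeι.isEmbedding.isInducing.specializes_iff, hξ', specializes_iff_mem_closure,
      ← hrI]
    exact ⟨ζ', rfl⟩
  have ht0 : @Algebra.trdeg (J.subscheme.residueField (h ξ')) (I.subscheme.residueField ξ') _ _
      (h.residueFieldMap ξ').hom.toAlgebra = (0 : ℕ) := by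
    rw [← hξ'] at h0
    have h1 := trdeg_comp_of_surjectiveOnStalks I.subschemeι π ξ' 0 h0
    have h2 := trdeg_congr hfac.symm ξ' 0 h1
    obtain ⟨c, hc⟩ := exists_nat_trdeg_residueFieldMap h ξ'
    obtain ⟨b, hb⟩ := exists_nat_trdeg_residueFieldMap J.subschemeι (h ξ')
    have h3 := trdeg_comp h J.subschemeι ξ' b c hb hc
    have : ((b + c : ℕ) : Cardinal) = (0 : ℕ) := by rw [← h3, ← h2]
    have : b + c = 0 := by exact_mod_cast this
    have hc0 : c = 0 := by omega
    rw [hc, hc0]
  -- the dimension inequality pointwise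
  have hpt : ∀ z' : I.subscheme, ringKrullDim (I.subscheme.presheaf.stalk z') ≤
      ringKrullDim (J.subscheme.presheaf.stalk (h z')) := by
    intro z'
    obtain ⟨n, hn⟩ := exists_nat_trdeg_residueFieldMap h z'
    have hineq := Groth.Agent.Lib.Helper18.SchDim.stalk_dim_inequality h z' n 0 hn (by
      intro ζ' hζ' _
      have : ζ' = ξ' :=
        (eq_of_specializes_of_closure_mem ζ' hζ' ξ' (hgen ζ')).symm
      rw [this, ht0])
    obtain ⟨a, ha⟩ := Groth.Agent.Lib.Helper18.SerreReg.exists_ringKrullDim_eq_nat
      (J.subscheme.presheaf.stalk (h z'))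
    haveI : IsLocallyNoetherian I.subscheme := LocallyOfFiniteType.isLocallyNoetherian h
    obtain ⟨b, hb⟩ := Groth.Agent.Lib.Helper18.SerreReg.exists_ringKrullDim_eq_nat
      (I.subscheme.presheaf.stalk z')
    rw [ha, hb] at hineq ⊢
    have : b + n ≤ a + 0 := by exact_mod_cast hineq
    have : b ≤ a := by omega
    exact_mod_cast this
  have hdim : topologicalKrullDim ↥I.subscheme ≤ topologicalKrullDim ↥J.subscheme := by
    rw [Groth.Agent.Lib.Helper14.AS.topologicalKrullDim_eq_iSup_stalk,
      Groth.Agent.Lib.Helper14.AS.topologicalKrullDim_eq_iSup_stalk]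
    exact iSup_le fun z' => (hpt z').trans
      (le_iSup (fun w => ringKrullDim (J.subscheme.presheaf.stalk w)) (h z'))
  rw [topologicalKrullDim_subscheme_vanishingIdeal, topologicalKrullDim_subscheme_vanishingIdeal]
    at hdim
  exact hdim

end Groth.Agent.Lib.Helper21.IrrFib
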