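import Groth.Agent.Lib.Helper21.EquiDim2
import Groth.Agent.Lib.Helper21.EquidimAt2
import Groth.Agent.Lib.Helper21.IrrFib5
import Groth.Agent.Lib.Helper18.FibSemi

/-!
# Restriction of an equidimensional morphism to a closed irreducible subset (EGA IV 13.3.6)
-/

set_option autoImplicit false
set_option linter.style.haveILetI false
set_option linter.unusedSectionVars false
universe u

open AlgebraicGeometry CategoryTheory Limits TopologicalSpace

namespace Groth.Agent.Lib.Helper21.EquiSub

open Groth.Agent.Lib.Helper21.FibDim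

/-- local dimensions are invariant under homeomorphisms -/
theorem localDim_homeomorph {A B : Type*} [TopologicalSpace A] [TopologicalSpace B] (h : A ≃ₜ B)
    (a : A) : FlatMor.localDim A a = FlatMor.localDim B (h a) := by
  unfold FlatMor.localDim
  apply le_antisymm
  · refine le_iInf fun V => ?_
    let U : {U : Opens A // a ∈ U} := ⟨⟨h ⁻¹' V.1, V.1.2.preimage h.continuous⟩, V.2⟩
    refine (iInf_le _ U).trans (le_of_eq ?_)
    exact Groth.Agent.Lib.Helper21.IrrFib.topologicalKrullDim_preimage_homeomorph h (V.1 : Set B)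
  · refine le_iInf fun U => ?_
    let V : {V : Opens B // h a ∈ V} :=
      ⟨⟨h.symm ⁻¹' U.1, U.1.2.preimage h.symm.continuous⟩, by
        change h.symm (h a) ∈ U.1
        rw [h.symm_apply_apply]
        exact U.2⟩
    refine (iInf_le _ V).trans (le_of_eq ?_)
    exact Groth.Agent.Lib.Helper21.IrrFib.topologicalKrullDim_preimage_homeomorph h.symm
      (U.1 : Set A)

variable {W X Y : Scheme.{u}}

/-- the local fibre dimension as the local dimension of the set-theoretic fibre -/
theorem fibreDimAt_eq_localDim_preimage (g : W ⟶ Y) (w : W) :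
    FlatMor.fibreDimAt g w = FlatMor.localDim ↥(g.base ⁻¹' {g.base w}) ⟨w, rfl⟩ := by
  unfold FlatMor.fibreDimAt
  rw [localDim_homeomorph (g.fiberHomeo (g.base w)).symm ⟨w, rfl⟩]
  rfl

/-- the local dimension of `X' ∩ f⁻¹(y)` is the local fibre dimension of the restriction of `f`
to a scheme structure on `X'` -/
theorem localDim_inter_preimage_eq_fibreDimAt (ι : W ⟶ X) (hι : Topology.IsEmbedding ι.base)
    (f : X ⟶ Y) (X' : Set X) (hr : Set.range ι.base = X') (w : W) (hx : ι.base w ∈ X') :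
    FlatMor.localDim ↥(X' ∩ f.base ⁻¹' {f.base (ι.base w)}) ⟨ι.base w, ⟨hx, rfl⟩⟩ =
      FlatMor.fibreDimAt (ι ≫ f) w := by
  rw [fibreDimAt_eq_localDim_preimage]
  let φ : ↥((ι ≫ f).base ⁻¹' {(ι ≫ f).base w}) → ↥(X' ∩ f.base ⁻¹' {f.base (ι.base w)}) :=
    fun v => ⟨ι.base v.1, ⟨hr ▸ ⟨v.1, rfl⟩, v.2⟩⟩
  have hφ : Topology.IsEmbedding φ := by
    have h1 : Topology.IsEmbedding (fun v : ↥((ι ≫ f).base ⁻¹' {(ι ≫ f).base w}) => ι.base v.1) :=
      hι.comp Topology.IsEmbedding.subtypeVal
    exact Topology.IsEmbedding.of_comp (h1.continuous.subtype_mk _) continuous_subtype_val h1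
  have hsurj : Function.Surjective φ := by
    rintro ⟨z, hz1, hz2⟩
    rw [← hr] at hz1
    obtain ⟨v, rfl⟩ := hz1
    exact ⟨⟨v, hz2⟩, rfl⟩
  exact (localDim_homeomorph (hφ.toHomeomorphOfSurjective hsurj) ⟨w, rfl⟩).symm

end Groth.Agent.Lib.Helper21.EquiSub
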