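import Groth.Agent.Lib.Helper21.FibDim1
import Groth.Agent.Lib.Helper18.TopDim

/-!
# Fibre dimension, scheme level II: Chevalley's upper semicontinuity theorem
(`{x | dim_x X_{f x} ≤ n}` is open for `f` locally of finite type; Stacks 02FZ, EGA IV 13.1.3)
-/

set_option autoImplicit false
set_option linter.style.haveILetI false
set_option linter.unusedSectionVars false
universe u

open AlgebraicGeometry CategoryTheory Limits TopologicalSpace

namespace Groth.Agent.Lib.Helper21.FibDim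

theorem le_of_lt_add_one (a : WithBot ℕ∞) (d : ℕ) (h : a < (d : WithBot ℕ∞) + 1) :
    a ≤ (d : WithBot ℕ∞) := by
  induction a using WithBot.recBotCoe with
  | bot => exact bot_le
  | coe a =>
    induction a using ENat.recTopCoe with
    | top =>
      exfalso
      have : ((⊤ : ℕ∞) : WithBot ℕ∞) < ((d + 1 : ℕ) : WithBot ℕ∞) := by
        push_cast; exact h
      have h2 : (⊤ : ℕ∞) < ((d + 1 : ℕ) : ℕ∞) := by exact_mod_cast this
      exact not_top_lt h2
    | coe a =>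
      have : ((a : ℕ) : WithBot ℕ∞) < ((d + 1 : ℕ) : WithBot ℕ∞) := by
        push_cast; exact h
      have h2 : a < d + 1 := by exact_mod_cast this
      have h3 : a ≤ d := by omega
      exact_mod_cast h3

variable {X S : Scheme.{u}} (f : X ⟶ S)

/-- Upper semicontinuity of the fibre dimension along a single fibre. -/
theorem exists_open_fibreDimAt_le (x : X) (d : ℕ)
    (hd : FlatMor.fibreDimAt f x ≤ d) :
    ∃ O : X.Opens, x ∈ O ∧ ∀ y ∈ O, f y = f x → FlatMor.fibreDimAt f y ≤ d := by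
  have husc := Groth.Agent.Lib.Helper18.TopDim.upperSemicontinuous_localDim
    (X := f.fiber (f x)) (f.asFiber x) ((d : WithBot ℕ∞) + 1)
    (lt_of_le_of_lt hd (by
      have : ((d : ℕ) : WithBot ℕ∞) < ((d + 1 : ℕ) : WithBot ℕ∞) := by exact_mod_cast Nat.lt_succ_self d
      push_cast at this; exact this))
  obtain ⟨W', hW'sub, hW'open, hxW'⟩ := mem_nhds_iff.mp husc
  obtain ⟨O, hO, hOW'⟩ := ((f.fiberι (f x)).isEmbedding.isInducing.isOpen_iff).mp hW'open
  refine ⟨⟨O, hO⟩, ?_, ?_⟩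
  · have : f.asFiber x ∈ (f.fiberι (f x)) ⁻¹' O := by rw [hOW']; exact hxW'
    have h2 : f.fiberι (f x) (f.asFiber x) ∈ O := this
    rwa [Scheme.Hom.fiberι_asFiber] at h2
  · intro y hyO hfy
    let z : f.fiber (f x) := (f.fiberHomeo (f x)).symm ⟨y, hfy⟩
    have hz : f.fiberι (f x) z = y := Scheme.Hom.fiberι_fiberHomeo_symm f (f x) ⟨y, hfy⟩
    have hzW' : z ∈ W' := by
      rw [← hOW']
      change f.fiberι (f x) z ∈ O
      rw [hz]; exact hyO
    have h1 := hW'sub hzW'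
    have h2 := Groth.Agent.Lib.Helper6.EtaleSq.localDim_fiber_eq_fibreDimAt f y (f x) hfy z hz
    rw [← h2]
    exact le_of_lt_add_one _ d h1

open Groth.Agent.Lib.Helper21.ChartPt Groth.Agent.Lib.Helper21.NagDvr

/-- the residue transcendence degree at a point is bounded by the fibre dimension -/
theorem trdeg_le_of_fibreDimAt_le [LocallyOfFiniteType f] (y : X) (d : ℕ)
    (h : FlatMor.fibreDimAt f y ≤ d) :
    @Algebra.trdeg (S.residueField (f y)) (X.residueField y) _ _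
      (f.residueFieldMap y).hom.toAlgebra ≤ d := by
  obtain ⟨n, hn, -, hall⟩ := exists_fibreDimAt_eq_trdeg f y
  rw [hn] at h
  have hnd : n ≤ d := by exact_mod_cast h
  exact (hall y specializes_rfl rfl).trans (by exact_mod_cast hnd)

/-- **Chevalley's semicontinuity theorem**, local form. -/
theorem exists_open_forall_fibreDimAt_le [LocallyOfFiniteType f] (x : X) (d : ℕ)
    (hd : FlatMor.fibreDimAt f x ≤ d) :
    ∃ O : X.Opens, x ∈ O ∧ ∀ x' ∈ O, FlatMor.fibreDimAt f x' ≤ d := by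
  obtain ⟨O₁, hxO₁, hO₁⟩ := exists_open_fibreDimAt_le f x d hd
  -- charts
  obtain ⟨V, hV, hfxV, -⟩ := Opens.isBasis_iff_nbhd.mp S.isBasis_affineOpens
    (show f x ∈ (⊤ : S.Opens) from trivial)
  have hV : IsAffineOpen V := hV
  obtain ⟨U, hU, hxU, hUle⟩ := Opens.isBasis_iff_nbhd.mp X.isBasis_affineOpens
    (show x ∈ O₁ ⊓ f ⁻¹ᵁ V from ⟨hxO₁, hfxV⟩)
  have hU : IsAffineOpen U := hU
  have e : U ≤ f ⁻¹ᵁ V := hUle.trans inf_le_right
  have hUO₁ : U ≤ O₁ := hUle.trans inf_le_left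
  letI alg : Algebra Γ(S, V) Γ(X, U) := (f.appLE V U e).hom.toAlgebra
  have hft : Algebra.FiniteType Γ(S, V) Γ(X, U) := f.finiteType_appLE hV hU e
  let p : Ideal Γ(S, V) := (hV.primeIdealOf ⟨f x, hfxV⟩).asIdeal
  let q : Ideal Γ(X, U) := (hU.primeIdealOf ⟨x, hxU⟩).asIdeal
  have hp : p.IsPrime := (hV.primeIdealOf ⟨f x, hfxV⟩).2
  have hq : q.IsPrime := (hU.primeIdealOf ⟨x, hxU⟩).2
  have hcomap : ∀ (y : X) (hy : y ∈ U), (hU.primeIdealOf ⟨y, hy⟩).asIdeal.comap
      (algebraMap Γ(S, V) Γ(X, U)) = (hV.primeIdealOf ⟨f y, e hy⟩).asIdeal := fun y hy =>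
    congrArg PrimeSpectrum.asIdeal (IsAffineOpen.comap_primeIdealOf_appLE V hV U hU e hy)
  have hqp : q.LiesOver p := ⟨(hcomap x hxU).symm⟩
  -- hypothesis of the ring-level theorem
  have H : ∀ (q₁ : Ideal Γ(X, U)) [q₁.IsPrime] [q₁.LiesOver p],
      Algebra.trdeg (Γ(S, V) ⧸ p) (Γ(X, U) ⧸ q₁) ≤ d := by
    intro q₁ hq₁ hq₁p
    obtain ⟨⟨y, hyU⟩, hy⟩ := exists_primeIdealOf_eq hU ⟨q₁, hq₁⟩
    have hy' : (hU.primeIdealOf ⟨y, hyU⟩).asIdeal = q₁ := congrArg PrimeSpectrum.asIdeal hy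
    have hpy : p = (hV.primeIdealOf ⟨f y, e hyU⟩).asIdeal := by
      rw [← hcomap y hyU, hy']
      exact hq₁p.over
    have hfy : f y = f x := by
      have h1 : hV.primeIdealOf ⟨f y, e hyU⟩ = hV.primeIdealOf ⟨f x, hfxV⟩ :=
        PrimeSpectrum.ext hpy.symm
      have h2 := (Scheme.homeoOfIso hV.isoSpec).injective h1
      exact congrArg Subtype.val h2
    rw [← trdeg_residueField_eq_trdeg_quotient f hU hV e rfl y hyU p q₁ hy'.symm hpy]
    exact trdeg_le_of_fibreDimAt_le f y d (hO₁ y (hUO₁ hyU) hfy)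
  obtain ⟨b, hbq, hb⟩ := exists_away_trdeg_le Γ(S, V) Γ(X, U) p q d H
  refine ⟨X.basicOpen b, (mem_basicOpen_iff_notMem_primeIdealOf hU b ⟨x, hxU⟩).mpr hbq, ?_⟩
  intro x' hx'
  obtain ⟨m, hm, ⟨y, hyx', hfy, hym⟩, -⟩ := exists_fibreDimAt_eq_trdeg f x'
  have hyD : y ∈ X.basicOpen b := hyx'.mem_open (X.basicOpen b).2 hx'
  have hD : IsAffineOpen (X.basicOpen b) := hU.basicOpen b
  have e' : X.basicOpen b ≤ f ⁻¹ᵁ V := (X.basicOpen_le b).trans e
  letI alg' : Algebra Γ(S, V) Γ(X, X.basicOpen b) := (f.appLE V (X.basicOpen b) e').hom.toAlgebra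
  haveI hloc : IsLocalization.Away b Γ(X, X.basicOpen b) := hU.isLocalization_basicOpen b
  haveI tow : IsScalarTower Γ(S, V) Γ(X, U) Γ(X, X.basicOpen b) := by
    refine IsScalarTower.of_algebraMap_eq fun a => ?_
    change (f.appLE V (X.basicOpen b) e').hom a =
      (X.presheaf.map (homOfLE (X.basicOpen_le b)).op).hom ((f.appLE V U e).hom a)
    rw [← Scheme.Hom.appLE_map f e (homOfLE (X.basicOpen_le b)).op]
    rfl
  let p₁ : Ideal Γ(S, V) := (hV.primeIdealOf ⟨f y, e' hyD⟩).asIdeal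
  let q' : Ideal Γ(X, X.basicOpen b) := (hD.primeIdealOf ⟨y, hyD⟩).asIdeal
  have hp₁ : p₁.IsPrime := (hV.primeIdealOf ⟨f y, e' hyD⟩).2
  have hq' : q'.IsPrime := (hD.primeIdealOf ⟨y, hyD⟩).2
  have hq'p₁ : q'.LiesOver p₁ :=
    ⟨(congrArg PrimeSpectrum.asIdeal
      (IsAffineOpen.comap_primeIdealOf_appLE V hV (X.basicOpen b) hD e' hyD)).symm⟩
  have h1 := hb Γ(X, X.basicOpen b) p₁ q'
  rw [← trdeg_residueField_eq_trdeg_quotient f hD hV e' rfl y hyD p₁ q' rfl rfl, hym] at h1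
  rw [hm]
  exact_mod_cast h1

/-- **Chevalley's semicontinuity theorem** (Stacks 02FZ). -/
theorem isOpen_setOf_fibreDimAt_le [LocallyOfFiniteType f] (n : ℕ) :
    IsOpen {x : X | FlatMor.fibreDimAt f x ≤ n} := by
  rw [isOpen_iff_forall_mem_open]
  intro x hx
  obtain ⟨O, hxO, hO⟩ := exists_open_forall_fibreDimAt_le f x n hx
  exact ⟨O, fun x' hx' => hO x' hx', O.2, hxO⟩

end Groth.Agent.Lib.Helper21.FibDim
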