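import Mathlib

/-!
# Dimension of the fibres of `Spec S → Spec R` as Krull dimensions of fibre rings
-/

set_option autoImplicit false
set_option linter.style.haveILetI false
set_option linter.unusedSectionVars false
universe u

open AlgebraicGeometry CategoryTheory TopologicalSpace TensorProduct

namespace Groth.Agent.Lib.Helper21.SpecFibreDim

/-- the fibre of `Spec S → Spec R` over `p` has the dimension of the fibre ring `κ(p) ⊗ S` -/
theorem topologicalKrullDim_fiber_specMap (R S : Type u) [CommRing R] [CommRing S] [Algebra R S]
    (p : PrimeSpectrum R) :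
    topologicalKrullDim ↥((Spec.map (CommRingCat.ofHom (algebraMap R S))).fiber p) =
      ringKrullDim (p.asIdeal.Fiber S) := by
  rw [← PrimeSpectrum.topologicalKrullDim_eq_ringKrullDim]
  have h1 := ((Spec.map (CommRingCat.ofHom (algebraMap R S))).fiberHomeo
    p).isHomeomorph.topologicalKrullDim_eq _
  rw [h1]
  exact (PrimeSpectrum.preimageHomeomorphFiber R S p).isHomeomorph.topologicalKrullDim_eq _

/-- the fibre ring over the maximal ideal of a local ring -/
noncomputable def residueFieldTensorEquiv (R S : Type u) [CommRing R] [IsLocalRing R] [CommRing S]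
    [Algebra R S] :
    (IsLocalRing.ResidueField R ⊗[R] S) ≃+* (IsLocalRing.maximalIdeal R).Fiber S :=
  (Algebra.TensorProduct.congr
    (AlgEquiv.ofBijective (IsScalarTower.toAlgHom R (R ⧸ IsLocalRing.maximalIdeal R)
      (IsLocalRing.maximalIdeal R).ResidueField)
      (Ideal.bijective_algebraMap_quotient_residueField (IsLocalRing.maximalIdeal R)))
    (AlgEquiv.refl : S ≃ₐ[R] S)).toRingEquiv

/-- the fibre ring over the zero ideal of a domain -/
noncomputable def fractionRingTensorEquiv (R S : Type u) [CommRing R] [IsDomain R] [CommRing S]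
    [Algebra R S] :
    (FractionRing R ⊗[R] S) ≃+* (⊥ : Ideal R).Fiber S :=
  (Algebra.TensorProduct.congr (FractionRing.algEquiv R (⊥ : Ideal R).ResidueField)
    (AlgEquiv.refl : S ≃ₐ[R] S)).toRingEquiv

end Groth.Agent.Lib.Helper21.SpecFibreDim
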