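import Groth.Agent.Lib.Helper21.RegularLocal
import Mathlib.RingTheory.KrullDimension.NonZeroDivisors

/-!
# Regular quotients of regular local rings are cut out by part of a regular system of parameters
-/

set_option autoImplicit false

namespace Groth.Agent.Lib.Helper21

open IsLocalRing

universe u

/-- For a surjective ring hom `f` with section `g`, `comap f (span T) = span (g '' T) ⊔ ker f`. -/
theorem comap_span_eq_span_image_sup_ker {R S : Type*} [CommRing R] [CommRing S] (f : R →+* S)
    (hf : Function.Surjective f) (g : S → R) (hg : ∀ y, f (g y) = y) (T : Set S) :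
    (Ideal.span T).comap f = Ideal.span (g '' T) ⊔ RingHom.ker f := by
  have h1 : Ideal.span T = (Ideal.span (g '' T)).map f := by
    rw [Ideal.map_span, Set.image_image]
    simp [hg]
  rw [h1, Ideal.comap_map_of_surjective f hf, RingHom.ker_eq_comap_bot]

/-- Nakayama: if `I ≤ 𝔪²` then `𝔪` needs no more generators than `𝔪 (R/I)`. -/
theorem spanFinrank_maximalIdeal_le_of_le_sq {R : Type*} [CommRing R] [IsLocalRing R]
    [IsNoetherianRing R] (I : Ideal R) [IsLocalRing (R ⧸ I)] (hI : I ≤ maximalIdeal R ^ 2) :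
    (maximalIdeal R).spanFinrank ≤ (maximalIdeal (R ⧸ I)).spanFinrank := by
  classical
  obtain ⟨t, htcard, htspan⟩ := Submodule.FG.exists_span_finset_card_eq_spanFinrank
    (maximalIdeal (R ⧸ I)).fg_of_isNoetherianRing
  have hs : Function.Surjective (Ideal.Quotient.mk I) := Ideal.Quotient.mk_surjective
  let g : R ⧸ I → R := Function.surjInv hs
  have hg : ∀ y, Ideal.Quotient.mk I (g y) = y := Function.surjInv_eq hs
  have : IsLocalHom (Ideal.Quotient.mk I) := IsLocalHom.of_surjective _ hs
  have h1 : maximalIdeal R = Ideal.span (g '' (t : Set (R ⧸ I))) ⊔ I := by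
    rw [← IsLocalRing.maximalIdeal_comap (Ideal.Quotient.mk I), ← htspan]
    change (Ideal.span _).comap _ = _
    rw [comap_span_eq_span_image_sup_ker _ hs g hg, Ideal.mk_ker]
  have h2 : maximalIdeal R ≤ Ideal.span (g '' (t : Set (R ⧸ I))) := by
    apply Submodule.le_of_le_smul_of_le_jacobson_bot (I := maximalIdeal R)
      (maximalIdeal R).fg_of_isNoetherianRing (maximalIdeal_le_jacobson _)
    conv_lhs => rw [h1]
    refine sup_le_sup_left ?_ _
    rwa [smul_eq_mul, ← pow_two]
  have h3 : maximalIdeal R = Ideal.span (g '' (t : Set (R ⧸ I))) :=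
    le_antisymm h2 (h1 ▸ le_sup_left)
  rw [h3]
  refine (Submodule.spanFinrank_span_le_ncard_of_finite ((Finset.finite_toSet t).image g)).trans ?_
  have := Set.ncard_image_le (f := g) (Finset.finite_toSet t)
  rw [Set.ncard_coe_finset] at this
  omega


/-- In a regular local ring, a nonzero proper ideal with regular quotient is not inside `𝔪²`. -/
theorem eq_bot_of_le_sq_of_isRegularLocalRing_quotient (R : Type u) [CommRing R]
    [IsRegularLocalRing R] (I : Ideal R) [IsRegularLocalRing (R ⧸ I)]
    (hI : I ≤ maximalIdeal R ^ 2) : I = ⊥ := by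
  have hdom : IsDomain R := isDomain_of_isRegularLocalRing R
  by_contra hne
  obtain ⟨a, haI, ha0⟩ := Submodule.exists_mem_ne_zero_of_ne_bot hne
  have h1 := spanFinrank_maximalIdeal_le_of_le_sq I hI
  have h2 : ((maximalIdeal R).spanFinrank : WithBot ℕ∞) = ringKrullDim R :=
    IsRegularLocalRing.spanFinrank_maximalIdeal
  have h3 : ((maximalIdeal (R ⧸ I)).spanFinrank : WithBot ℕ∞) = ringKrullDim (R ⧸ I) :=
    IsRegularLocalRing.spanFinrank_maximalIdeal
  have h4 := ringKrullDim_quotient_succ_le_of_nonZeroDivisor (mem_nonZeroDivisors_of_ne_zero ha0)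
  have h5 : ringKrullDim (R ⧸ I) ≤ ringKrullDim (R ⧸ Ideal.span {a}) :=
    ringKrullDim_le_of_surjective
      (Ideal.Quotient.factor ((Ideal.span_singleton_le_iff_mem _).mpr haI))
      (Ideal.Quotient.factor_surjective _)
  rw [← h2] at h4
  rw [← h3] at h5
  have h6 : (((maximalIdeal (R ⧸ I)).spanFinrank : ℕ) : WithBot ℕ∞) + 1 ≤
      ((maximalIdeal R).spanFinrank : ℕ) := (add_le_add_left h5 1).trans h4
  have h7 : (maximalIdeal (R ⧸ I)).spanFinrank + 1 ≤ (maximalIdeal R).spanFinrank := by
    exact_mod_cast h6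
  omega


theorem exists_generators_of_regular_quotient_aux (n : ℕ) :
    ∀ (R : Type u) [CommRing R] [IsRegularLocalRing R], ringKrullDim R = n →
      ∀ (I : Ideal R) [IsRegularLocalRing (R ⧸ I)],
        ∃ (x : Fin n → R) (c : ℕ), c ≤ n ∧ Ideal.span (Set.range x) = maximalIdeal R ∧
          I = Ideal.span (x '' {i | i.val < c}) := by
  induction n with
  | zero =>
    intro R _ _ hdim I _
    have h2 : ((maximalIdeal R).spanFinrank : WithBot ℕ∞) = ringKrullDim R :=
      IsRegularLocalRing.spanFinrank_maximalIdeal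
    rw [hdim] at h2
    have h3 : (maximalIdeal R).spanFinrank = 0 := by exact_mod_cast h2
    have h4 : maximalIdeal R = ⊥ :=
      (Submodule.spanFinrank_eq_zero_iff_eq_bot (maximalIdeal R).fg_of_isNoetherianRing).mp h3
    have hIne : I ≠ ⊤ := Ideal.Quotient.nontrivial_iff.mp inferInstance
    have hI : I = ⊥ := le_bot_iff.mp (h4 ▸ IsLocalRing.le_maximalIdeal hIne)
    refine ⟨Fin.elim0, 0, le_rfl, ?_, ?_⟩
    · rw [h4, Set.range_eq_empty, Ideal.span_empty]
    · simp [hI]
  | succ n ih =>
    intro R _ _ hdim I _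
    classical
    have hdom : IsDomain R := isDomain_of_isRegularLocalRing R
    have hIne : I ≠ ⊤ := Ideal.Quotient.nontrivial_iff.mp inferInstance
    have hIm : I ≤ maximalIdeal R := IsLocalRing.le_maximalIdeal hIne
    by_cases hI : I ≤ maximalIdeal R ^ 2
    · have hbot := eq_bot_of_le_sq_of_isRegularLocalRing_quotient R I hI
      obtain ⟨s, hscard, hsspan⟩ := Submodule.FG.exists_span_finset_card_eq_spanFinrank
        (maximalIdeal R).fg_of_isNoetherianRing
      have h2 : ((maximalIdeal R).spanFinrank : WithBot ℕ∞) = ringKrullDim R :=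
        IsRegularLocalRing.spanFinrank_maximalIdeal
      rw [hdim] at h2
      have h3 : (maximalIdeal R).spanFinrank = n + 1 := by exact_mod_cast h2
      let e : s ≃ Fin (n + 1) := s.equivFinOfCardEq (hscard.trans h3)
      refine ⟨fun i => (e.symm i : R), 0, Nat.zero_le _, ?_, ?_⟩
      · rw [← hsspan]
        congr 1
        ext y
        constructor
        · rintro ⟨i, rfl⟩
          exact (e.symm i).2
        · intro hy
          exact ⟨e ⟨y, hy⟩, by simp⟩
      · simp [hbot]
    · obtain ⟨x₁, hx₁I, hx₁2⟩ := SetLike.not_le_iff_exists.mp hI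
      have hx₁m : x₁ ∈ maximalIdeal R := hIm hx₁I
      have hx₁0 : x₁ ≠ 0 := fun h => hx₁2 (h ▸ zero_mem _)
      have hxn : ∀ p ∈ minimalPrimes R, x₁ ∉ p := by
        intro p hp
        rw [IsDomain.minimalPrimes_eq_singleton_bot, Set.mem_singleton_iff] at hp
        rw [hp]
        exact hx₁0
      obtain ⟨hreg, hd⟩ := isRegularLocalRing_quotient_of_notMem_sq hx₁m hx₁2 hxn
      have hdim' : ringKrullDim (R ⧸ Ideal.span {x₁}) = n := by
        obtain ⟨m, hm⟩ := exists_nat_eq_ringKrullDim (R := R ⧸ Ideal.span {x₁})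
        rw [hm, hdim] at hd
        have : m + 1 = n + 1 := by exact_mod_cast hd
        rw [hm]
        have : m = n := by omega
        exact_mod_cast this
      have hle : Ideal.span {x₁} ≤ I := (Ideal.span_singleton_le_iff_mem _).mpr hx₁I
      have hreg' : IsRegularLocalRing
          ((R ⧸ Ideal.span {x₁}) ⧸ I.map (Ideal.Quotient.mk (Ideal.span {x₁}))) :=
        IsRegularLocalRing.of_ringEquiv (DoubleQuot.quotQuotEquivQuotOfLE hle).symm
      obtain ⟨y, c', hc', hy, hIy⟩ := ih (R ⧸ Ideal.span {x₁}) hdim'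
        (I.map (Ideal.Quotient.mk (Ideal.span {x₁})))
      have hs : Function.Surjective (Ideal.Quotient.mk (Ideal.span {x₁})) :=
        Ideal.Quotient.mk_surjective
      let g : R ⧸ Ideal.span {x₁} → R := Function.surjInv hs
      have hg : ∀ z, Ideal.Quotient.mk (Ideal.span {x₁}) (g z) = z := Function.surjInv_eq hs
      have : IsLocalHom (Ideal.Quotient.mk (Ideal.span {x₁})) := IsLocalHom.of_surjective _ hs
      refine ⟨Fin.cons x₁ (g ∘ y), c' + 1, by omega, ?_, ?_⟩
      · rw [Fin.range_cons, Set.range_comp,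
          ← IsLocalRing.maximalIdeal_comap (Ideal.Quotient.mk (Ideal.span {x₁})), ← hy,
          comap_span_eq_span_image_sup_ker _ hs g hg, Ideal.mk_ker, ← Ideal.span_union,
          Set.union_singleton]
      · have h1 : I = (I.map (Ideal.Quotient.mk (Ideal.span {x₁}))).comap
            (Ideal.Quotient.mk (Ideal.span {x₁})) := by
          rw [Ideal.comap_map_of_surjective _ hs, ← RingHom.ker_eq_comap_bot, Ideal.mk_ker]
          exact (sup_eq_left.mpr hle).symm
        have h2 : (Fin.cons x₁ (g ∘ y) : Fin (n + 1) → R) '' {i | i.val < c' + 1} =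
            insert x₁ (g '' (y '' {i | i.val < c'})) := by
          ext z
          constructor
          · rintro ⟨i, hi, rfl⟩
            induction i using Fin.cases with
            | zero => left; rfl
            | succ j =>
              right
              refine ⟨y j, ⟨j, ?_, rfl⟩, rfl⟩
              simp only [Set.mem_ofPred_eq, Fin.val_succ] at hi ⊢
              omega
          · rintro (rfl | ⟨_, ⟨j, hj, rfl⟩, rfl⟩)
            · exact ⟨0, by simp, rfl⟩
            · refine ⟨j.succ, ?_, rfl⟩
              simp only [Set.mem_ofPred_eq, Fin.val_succ] at hj ⊢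
              omega
        rw [h2]
        conv_lhs => rw [h1, hIy]
        rw [comap_span_eq_span_image_sup_ker _ hs g hg, Ideal.mk_ker, ← Ideal.span_union,
          Set.union_singleton]

/-- Stacks 00NR: if `R` and `R/I` are regular local, `I` is generated by part of a regular system
of parameters. -/
theorem exists_generators_of_regular_quotient (R : Type u) [CommRing R]
    [IsRegularLocalRing R] (d : ℕ) (hd : ringKrullDim R = d) (I : Ideal R)
    [IsRegularLocalRing (R ⧸ I)] :
    ∃ (x : Fin d → R) (c : ℕ) (hc : c ≤ d), Ideal.span (Set.range x) = maximalIdeal R ∧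
      I = Ideal.span (Set.range (fun i : Fin c => x (Fin.castLE hc i))) := by
  obtain ⟨x, c, hc, hx, hI⟩ := exists_generators_of_regular_quotient_aux d R hd I
  refine ⟨x, c, hc, hx, ?_⟩
  rw [hI]
  congr 1
  ext z
  constructor
  · rintro ⟨i, hi, rfl⟩
    exact ⟨⟨i.val, hi⟩, rfl⟩
  · rintro ⟨i, rfl⟩
    exact ⟨Fin.castLE hc i, i.2, rfl⟩

end Groth.Agent.Lib.Helper21
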