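import Groth.Agent.S4529
import Mathlib.RingTheory.LocalRing.Module
import Mathlib.LinearAlgebra.TensorProduct.Quotient
import Mathlib.LinearAlgebra.Basis.VectorSpace

/-!
# Left invertibility of linear maps into projective modules (EGA 0_IV 19.1)
-/

set_option autoImplicit false

namespace Groth.Agent.Lib.Helper21

open IsLocalRing TensorProduct

universe u

variable {A : Type u} [CommRing A] [IsLocalRing A] {M N : Type u} [AddCommGroup M] [Module A M]
  [Module.Finite A M] [AddCommGroup N] [Module A N] [Module.Projective A N]

/-- Over a local ring, a map from a finite module to a projective module is left invertible iff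
it is injective after tensoring with the residue field. -/
theorem leftInverse_iff_baseChange_residueField_injective (u : M →ₗ[A] N) :
    (∃ w : N →ₗ[A] M, w ∘ₗ u = LinearMap.id) ↔
      Function.Injective (u.baseChange (ResidueField A)) := by
  constructor
  · rintro ⟨w, hw⟩
    have : w.baseChange (ResidueField A) ∘ₗ u.baseChange (ResidueField A) = LinearMap.id := by
      rw [← LinearMap.baseChange_comp, hw, LinearMap.baseChange_id]
    exact Function.HasLeftInverse.injective ⟨_, LinearMap.congr_fun this⟩
  · intro h
    obtain ⟨r, hr⟩ := LinearMap.exists_leftInverse_of_injective (u.baseChange (ResidueField A))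
      (LinearMap.ker_eq_bot.mpr h)
    let e : ResidueField A ⊗[A] M ≃ₗ[A] M ⧸ (maximalIdeal A • ⊤ : Submodule A M) :=
      TensorProduct.quotTensorEquivQuotSMul M (maximalIdeal A)
    have he : ∀ m : M, e ((1 : ResidueField A) ⊗ₜ[A] m) = Submodule.Quotient.mk m :=
      fun m => TensorProduct.quotTensorEquivQuotSMul_mk_one_tmul _ m
    let v : N →ₗ[A] M ⧸ (maximalIdeal A • ⊤ : Submodule A M) :=
      e.toLinearMap ∘ₗ (r.restrictScalars A) ∘ₗ (TensorProduct.mk A (ResidueField A) N 1)
    have hv : v ∘ₗ u = (maximalIdeal A • ⊤ : Submodule A M).mkQ := by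
      ext m
      have h1 : r (u.baseChange (ResidueField A) ((1 : ResidueField A) ⊗ₜ[A] m)) =
          (1 : ResidueField A) ⊗ₜ[A] m := LinearMap.congr_fun hr _
      rw [LinearMap.baseChange_tmul] at h1
      change e (r ((1 : ResidueField A) ⊗ₜ[A] u m)) = Submodule.Quotient.mk m
      rw [h1, he]
    exact (Groth.Agent.S4529.result u (maximalIdeal A)
      (Or.inr ⟨maximalIdeal_le_jacobson ⊥, inferInstance⟩)).mpr ⟨v, hv⟩


omit [Module.Finite A M] [Module.Projective A N] in
/-- If `x` generates `M` and the `1 ⊗ u (x i)` are linearly independent, then `k ⊗ u` is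
injective. -/
theorem baseChange_injective_of_linearIndependent (u : M →ₗ[A] N) {m : ℕ} (x : Fin m → M)
    (hx : Submodule.span A (Set.range x) = ⊤)
    (hli : LinearIndependent (ResidueField A) (fun i => (1 : ResidueField A) ⊗ₜ[A] u (x i))) :
    Function.Injective (u.baseChange (ResidueField A)) := by
  have hspan : Submodule.span (ResidueField A)
      (Set.range fun i => (1 : ResidueField A) ⊗ₜ[A] x i) = ⊤ := by
    have h1 := Submodule.baseChange_span (R := A) (M := M) (ResidueField A) (Set.range x)
    rw [hx, Submodule.baseChange_top] at h1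
    rw [h1, ← Set.range_comp]
    rfl
  rw [injective_iff_map_eq_zero]
  intro z hz
  have hz' : z ∈ Submodule.span (ResidueField A)
      (Set.range fun i => (1 : ResidueField A) ⊗ₜ[A] x i) := by
    rw [hspan]
    exact Submodule.mem_top
  obtain ⟨c, rfl⟩ := (Submodule.mem_span_range_iff_exists_fun _).mp hz'
  rw [map_sum] at hz
  simp only [map_smul, LinearMap.baseChange_tmul] at hz
  have hc := (Fintype.linearIndependent_iff.mp hli) c hz
  simp [hc]

/-- EGA 0_IV 19.1.? second part: such a generating family is a basis. -/
theorem exists_basis_of_linearIndependent (u : M →ₗ[A] N) {m : ℕ} (x : Fin m → M)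
    (hx : Submodule.span A (Set.range x) = ⊤)
    (hli : LinearIndependent (ResidueField A) (fun i => (1 : ResidueField A) ⊗ₜ[A] u (x i))) :
    ∃ b : Module.Basis (Fin m) A M, ∀ i, b i = x i := by
  have hinj := baseChange_injective_of_linearIndependent u x hx hli
  obtain ⟨w, hw⟩ := (leftInverse_iff_baseChange_residueField_injective u).mpr hinj
  have hproj : Module.Projective A M := Module.Projective.of_split u w hw
  have hli' : LinearIndependent (ResidueField A)
      (TensorProduct.mk A (ResidueField A) M 1 ∘ x) := by
    apply LinearIndependent.of_comp (u.baseChange (ResidueField A))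
    have : (⇑(u.baseChange (ResidueField A)) ∘ (TensorProduct.mk A (ResidueField A) M 1 ∘ x)) =
        fun i => (1 : ResidueField A) ⊗ₜ[A] u (x i) := by
      ext i
      simp [LinearMap.baseChange_tmul]
    rw [this]
    exact hli
  have hliA : LinearIndependent A x := Module.IsLocalRing.linearIndependent_of_flat x hli'
  exact ⟨Module.Basis.mk hliA hx.ge, fun i => Module.Basis.mk_apply _ _ i⟩

/-- EGA 0_IV 19.1.? first part. -/
theorem leftInverse_iff_exists_generators (u : M →ₗ[A] N) :
    (∃ w : N →ₗ[A] M, w ∘ₗ u = LinearMap.id) ↔
      ∃ (m : ℕ) (x : Fin m → M), Submodule.span A (Set.range x) = ⊤ ∧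
        LinearIndependent (ResidueField A) (fun i => (1 : ResidueField A) ⊗ₜ[A] u (x i)) := by
  constructor
  · rintro ⟨w, hw⟩
    have hproj : Module.Projective A M := Module.Projective.of_split u w hw
    have hfree : Module.Free A M := Module.free_of_flat_of_isLocalRing
    let b := Module.Free.chooseBasis A M
    have : Fintype (Module.Free.ChooseBasisIndex A M) := Fintype.ofFinite _
    let e := Fintype.equivFin (Module.Free.ChooseBasisIndex A M)
    let b' := b.reindex e
    refine ⟨_, b', b'.span_eq, ?_⟩
    have hinj := (leftInverse_iff_baseChange_residueField_injective u).mp ⟨w, hw⟩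
    have h1 : LinearIndependent (ResidueField A) (b'.baseChange (ResidueField A)) :=
      (b'.baseChange (ResidueField A)).linearIndependent
    have h2 := h1.map' (u.baseChange (ResidueField A)) (LinearMap.ker_eq_bot.mpr hinj)
    have : (fun i => (1 : ResidueField A) ⊗ₜ[A] u (b' i)) =
        ⇑(u.baseChange (ResidueField A)) ∘ ⇑(b'.baseChange (ResidueField A)) := by
      ext i
      simp [LinearMap.baseChange_tmul]
    rw [this]
    exact h2
  · rintro ⟨m, x, hx, hli⟩
    exact (leftInverse_iff_baseChange_residueField_injective u).mpr
      (baseChange_injective_of_linearIndependent u x hx hli)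

end Groth.Agent.Lib.Helper21
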