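import Groth.Agent.Lib.Helper21.BaseChg3
import Groth.Prelude.Def_Cyc

/-!
# Fibres of a base change: local dimensions and dimensions of components
-/

set_option autoImplicit false
set_option linter.style.haveILetI false
set_option linter.unusedSectionVars false
universe u

open AlgebraicGeometry CategoryTheory Limits TopologicalSpace

namespace Groth.Agent.Lib.Helper21.BaseChg

open Groth.Agent.Lib.Helper21.FibDim

variable {X S X' S' : Scheme.{u}} {f : X ⟶ S} {g : S' ⟶ S} {g' : X' ⟶ X} {f' : X' ⟶ S'}

/-- the fibre of a base change is the base change of the fibre along the residue field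
extension -/
theorem exists_fiber_isPullback (hsq : IsPullback g' f' f g) (s' : S') :
    ∃ t : f'.fiber s' ⟶ f.fiber (g s'),
      IsPullback t (f'.fiberToSpecResidueField s') (f.fiberToSpecResidueField (g s'))
        (Spec.map (g.residueFieldMap s')) ∧
      t ≫ f.fiberι (g s') = f'.fiberι s' ≫ g' := by
  refine ⟨_, isPullback_fiberToSpecResidueField_of_isPullback hsq s', ?_⟩
  exact pullback.lift_fst _ _ _

variable [LocallyOfFiniteType f]

instance (s : S) : LocallyOfFiniteType (f.fiberToSpecResidueField s) :=
  MorphismProperty.pullback_snd (P := @LocallyOfFiniteType) _ _ inferInstance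

/-- local fibre dimension is invariant under base change -/
theorem fibreDimAt_eq_of_isPullback (hsq : IsPullback g' f' f g) (x' : X') :
    FlatMor.fibreDimAt f' x' = FlatMor.fibreDimAt f (g' x') := by
  obtain ⟨t, hpb, ht⟩ := exists_fiber_isPullback hsq (f' x')
  have hL := localDim_eq_of_isPullback_field (S.residueField (g (f' x'))) (S'.residueField (f' x'))
    (f.fiberToSpecResidueField (g (f' x'))) (Spec.map (g.residueFieldMap (f' x'))) t
    (f'.fiberToSpecResidueField (f' x')) hpb (f'.asFiber x')
  unfold FlatMor.fibreDimAt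
  rw [hL]
  have hpt : f.fiberι (g (f' x')) (t (f'.asFiber x')) = g' x' := by
    have h1 := congrArg (fun φ : f'.fiber (f' x') ⟶ X => φ (f'.asFiber x')) ht
    simp only [Scheme.Hom.comp_apply] at h1
    rw [h1, Scheme.Hom.fiberι_asFiber]
  have hs : g (f' x') = f (g' x') := by
    have h1 := congrArg (fun φ : X' ⟶ S => φ x') hsq.w
    simp only [Scheme.Hom.comp_apply] at h1
    exact h1.symm
  have key : ∀ (s : S) (hs : s = f (g' x')) (z : f.fiber s), f.fiberι s z = g' x' →
      FlatMor.localDim (f.fiber s) z = FlatMor.localDim (f.fiber (f (g' x'))) (f.asFiber (g' x')) := by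
    intro s hs z hz
    subst hs
    have : z = f.asFiber (g' x') := by
      apply (f.fiberι (f (g' x'))).isEmbedding.injective
      rw [hz, Scheme.Hom.fiberι_asFiber]
    rw [this]
  exact key _ hs _ hpt

/-- base change preserves "all components of all fibres have dimension `d`" -/
theorem hasRelDim_of_isPullback (hsq : IsPullback g' f' f g) (d : ℕ) (h : Cyc.HasRelDim f d) :
    Cyc.HasRelDim f' d := by
  intro s' T hT
  obtain ⟨t, hpb, -⟩ := exists_fiber_isPullback hsq s'
  obtain ⟨ξ', hξ'⟩ := exists_isGenericPoint_of_mem_irreducibleComponents T hT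
  have hT' : T = closure {ξ'} := hξ'.def.symm
  subst hT'
  obtain ⟨h1, h2⟩ := closure_map_mem_irreducibleComponents_and_dim_eq
    (S.residueField (g s')) (S'.residueField s')
    (f.fiberToSpecResidueField (g s')) (Spec.map (g.residueFieldMap s')) t
    (f'.fiberToSpecResidueField s') hpb ξ' hT
  rw [h2]
  exact h _ _ h1

/-- "all components of all fibres have dimension `d`" descends along surjective base change -/
theorem hasRelDim_of_isPullback_of_surjective (hsq : IsPullback g' f' f g) [Surjective g] (d : ℕ)
    (h : Cyc.HasRelDim f' d) : Cyc.HasRelDim f d := by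
  intro s T hT
  obtain ⟨s', rfl⟩ := g.surjective s
  obtain ⟨t, hpb, -⟩ := exists_fiber_isPullback hsq s'
  obtain ⟨ξ, hξ⟩ := exists_isGenericPoint_of_mem_irreducibleComponents T hT
  have hT' : T = closure {ξ} := hξ.def.symm
  subst hT'
  obtain ⟨ξ', -, h1, h2⟩ := exists_closure_mem_irreducibleComponents_and_dim_eq
    (S.residueField (g s')) (S'.residueField s')
    (f.fiberToSpecResidueField (g s')) (Spec.map (g.residueFieldMap s')) t
    (f'.fiberToSpecResidueField s') hpb ξ hT
  rw [← h2]
  exact h _ _ h1

end Groth.Agent.Lib.Helper21.BaseChg
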