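import Groth.Agent.Lib.Helper21.CompleteFlat
import Groth.Agent.Lib.Helper21.AdicNoetherian
import Groth.Agent.Lib.Helper9.FlatCrit
import Mathlib.LinearAlgebra.TensorProduct.Vanishing

/-!
# Flatness of completions (Stacks 0912)
-/

set_option autoImplicit false

namespace Groth.Agent.Lib.Helper21

open Submodule TensorProduct

universe u v

variable {R : Type*} [CommRing R] {M : Type*} [AddCommGroup M] [Module R M]

/-- If `J ⊗ M → R ⊗ M` is injective for all ideals `J ⊇ 𝔟`, then `M/𝔟M` is flat over `R/𝔟`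
(in the elementary form). -/
theorem quotFlat_of_rTensor_injective (𝔟 : Ideal R) (h𝔟 : 𝔟.FG)
    (h : ∀ J : Ideal R, 𝔟 ≤ J → Function.Injective (J.subtype.rTensor M)) : QuotFlat 𝔟 M := by
  classical
  intro ι _ g x hgx
  obtain ⟨p, u, hu⟩ := Submodule.fg_iff_exists_fin_generating_family.mp h𝔟
  have hu' : Ideal.span (Set.range u) = 𝔟 := hu
  rw [← hu'] at hgx
  obtain ⟨z, -, hz⟩ := exists_sum_smul_of_mem_span_range_smul u ⊤ _ hgx
  let J : Ideal R := Ideal.span (Set.range (Sum.elim g u))
  have hJ : 𝔟 ≤ J := by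
    rw [← hu']
    apply Ideal.span_mono
    rintro _ ⟨s, rfl⟩
    exact ⟨Sum.inr s, rfl⟩
  let mJ : ι ⊕ Fin p → J := fun q => ⟨Sum.elim g u q, Ideal.subset_span ⟨q, rfl⟩⟩
  let nM : ι ⊕ Fin p → M := Sum.elim x (fun s => - z s)
  have hspan : Submodule.span R (Set.range mJ) = ⊤ := by
    have : Set.range mJ = ((↑) : J → R) ⁻¹' (Set.range (Sum.elim g u)) := by
      ext ⟨v, hv⟩
      constructor
      · rintro ⟨q, hq⟩
        exact ⟨q, congrArg Subtype.val hq⟩
      · rintro ⟨q, hq⟩
        exact ⟨q, Subtype.ext hq⟩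
    rw [this]
    exact Submodule.span_span_coe_preimage
  have hzero : ∑ q, mJ q ⊗ₜ[R] nM q = (0 : J ⊗[R] M) := by
    apply h J hJ
    rw [map_sum, map_zero]
    apply (TensorProduct.lid R M).injective
    rw [map_sum, map_zero, Fintype.sum_sum_type]
    simp only [LinearMap.rTensor_tmul, Submodule.subtype_apply, TensorProduct.lid_tmul, mJ, nM,
      Sum.elim_inl, Sum.elim_inr, smul_neg, Finset.sum_neg_distrib]
    rw [hz, add_neg_cancel]
  obtain ⟨k, a, y, h1, h2⟩ := TensorProduct.vanishesTrivially_of_sum_tmul_eq_zero R hspan hzero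
  refine ⟨k, fun s j => a (Sum.inl s) j, y, fun s => ?_, fun j => ?_⟩
  · have : x s = ∑ j, a (Sum.inl s) j • y j := h1 (Sum.inl s)
    rw [this, sub_self]
    exact zero_mem _
  · have h3 := congrArg Subtype.val (h2 j)
    rw [Fintype.sum_sum_type] at h3
    simp only [Submodule.coe_add, Submodule.coe_sum, Submodule.coe_smul, mJ, Sum.elim_inl,
      Sum.elim_inr, smul_eq_mul, Submodule.coe_zero] at h3
    have h4 : ∑ s, g s * a (Sum.inl s) j = - ∑ s, a (Sum.inr s) j * u s := by
      rw [eq_neg_iff_add_eq_zero, ← h3]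
      congr 1
      exact Finset.sum_congr rfl fun s _ => mul_comm _ _
    rw [h4]
    refine Ideal.neg_mem_iff _ |>.mpr (Ideal.sum_mem _ fun s _ => Ideal.mul_mem_left _ _ ?_)
    rw [← hu']
    exact Ideal.subset_span ⟨s, rfl⟩


/-- Stacks 0912: flatness of the completion over the completed ring. -/
theorem flat_adicCompletion_of_quotient_flat (R : Type u) [CommRing R] (I : Ideal R) (hI : I.FG)
    [IsNoetherianRing (R ⧸ I)] (M : Type u) [AddCommGroup M] [Module R M]
    [Module.Flat (R ⧸ I) (M ⧸ (I • ⊤ : Submodule R M))]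
    (hT : Function.Injective
      (TensorProduct.lift ((LinearMap.lsmul R M).comp (Submodule.subtype I)))) :
    Module.Flat (AdicCompletion I R) (AdicCompletion I M) := by
  have hI' : Function.Injective (I.subtype.rTensor M) := by
    have : (TensorProduct.lid R M).toLinearMap ∘ₗ I.subtype.rTensor M =
        TensorProduct.lift ((LinearMap.lsmul R M).comp I.subtype) := by
      ext i m
      simp
    intro a b hab
    apply hT
    rw [← this]
    simp [hab]
  have hflat : Module.Flat (R ⧸ I) ((R ⧸ I) ⊗[R] M) :=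
    Module.Flat.of_linearEquiv ((TensorProduct.quotTensorEquivQuotSMul M I).extendScalarsOfSurjective
      Ideal.Quotient.mk_surjective)
  have hQ : ∀ n, QuotFlat (I ^ n) M := by
    intro n
    apply quotFlat_of_rTensor_injective _ (hI.pow)
    intro J hJ
    have hN : Module.IsTorsionBySet R (R ⧸ J) ((I ^ n : Ideal R) : Set R) := by
      rw [Module.isTorsionBySet_quotient_iff]
      intro x r hr
      exact J.mul_mem_right _ (hJ hr)
    have := Groth.Agent.Lib.Helper9.torOneVanish_of_isTorsionBySet_pow I hI' n hN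
    exact this J R J.subtype J.mkQ J.injective_subtype (LinearMap.exact_subtype_mkQ J)
      J.mkQ_surjective
  have hN : IsNoetherianRing (AdicCompletion I R) := isNoetherianRing_adicCompletion_of_fg I hI
  have hc : IsAdicComplete (I.map (algebraMap R (AdicCompletion I R))) (AdicCompletion I M) :=
    (IsAdicComplete.map_algebraMap_iff (S := AdicCompletion I R) I (AdicCompletion I M)).mpr
      (AdicCompletion.isAdicComplete hI)
  apply flat_of_isAdicComplete_of_quotFlat (I.map (algebraMap R (AdicCompletion I R)))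
  intro n
  rw [← Ideal.map_pow]
  exact QuotFlat.adicCompletion I hI n (hQ n)

end Groth.Agent.Lib.Helper21
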