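import Groth.Agent.Lib.Helper21.FibDimR1

/-!
# Fibre dimension, ring level II: ring-level semicontinuity of the fibre dimension
(Chevalley; Stacks 00QH-style, via Zariski's main theorem)
-/

set_option autoImplicit false
universe u

open Algebra TensorProduct Polynomial

namespace Groth.Agent.Lib.Helper21.FibDim

section S1

variable (A B : Type u) [CommRing A] [CommRing B] [Algebra A B]

/-- If all primes over `p` have relative transcendence degree at most `d`, a Noether normalisation
of the fibre ring has at most `d` variables. -/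
theorem exists_le_algHom_finite_fiber [Algebra.FiniteType A B] (p : Ideal A) [p.IsPrime] (d : ℕ)
    [Nontrivial (p.Fiber B)]
    (H : ∀ (q : Ideal B) [q.IsPrime] [q.LiesOver p], Algebra.trdeg (A ⧸ p) (B ⧸ q) ≤ d) :
    ∃ s : ℕ, s ≤ d ∧ ∃ π : MvPolynomial (Fin s) A →ₐ[A] B,
      (Algebra.TensorProduct.map (AlgHom.id p.ResidueField p.ResidueField) π).toRingHom.Finite := by
  have hft : Algebra.FiniteType p.ResidueField (p.Fiber B) := inferInstance
  obtain ⟨s, g, hinj, hfin⟩ := exists_finite_inj_algHom_of_fg p.ResidueField (p.Fiber B)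
  refine ⟨s, ?_, exists_algHom_of_finite_fiber A B p s g hfin⟩
  -- lying over
  have hint : g.toRingHom.IsIntegral := hfin.to_isIntegral
  let _ : Algebra (MvPolynomial (Fin s) p.ResidueField) (p.Fiber B) := g.toRingHom.toAlgebra
  have : Algebra.IsIntegral (MvPolynomial (Fin s) p.ResidueField) (p.Fiber B) := ⟨hint⟩
  have : FaithfulSMul (MvPolynomial (Fin s) p.ResidueField) (p.Fiber B) :=
    (faithfulSMul_iff_algebraMap_injective _ _).mpr hinj
  obtain ⟨⟨Q, hQ, hQc⟩⟩ := Ideal.nonempty_primesOver (S := p.Fiber B)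
    (⊥ : Ideal (MvPolynomial (Fin s) p.ResidueField))
  -- the corresponding prime of `B`
  let q : Ideal B := Q.comap Algebra.TensorProduct.includeRight.toRingHom
  have hqp : q.IsPrime := Ideal.comap_isPrime _ _
  have hqo : q.LiesOver p := by
    refine ⟨?_⟩
    have := ((PrimeSpectrum.primesOverOrderIsoFiber A B p).symm ⟨Q, hQ⟩).2.2
    exact this.over
  have h1 := trdeg_fiber_quotient A B p Q q rfl
  have h2 := H q
  rw [← h1] at h2
  -- injectivity of `k[t] → C/Q`
  let φ : MvPolynomial (Fin s) p.ResidueField →ₐ[p.ResidueField] (p.Fiber B ⧸ Q) :=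
    (Ideal.Quotient.mkₐ p.ResidueField Q).comp g
  have hφ : Function.Injective φ := by
    rw [injective_iff_map_eq_zero]
    intro x hx
    have hx' : g x ∈ Q := Ideal.Quotient.eq_zero_iff_mem.mp hx
    have : x ∈ Q.comap (algebraMap (MvPolynomial (Fin s) p.ResidueField) (p.Fiber B)) := hx'
    rw [← Ideal.under_def, ← hQc.over] at this
    exact this
  have h3 := trdeg_le_of_injective φ hφ
  rw [MvPolynomial.trdeg_of_isDomain] at h3
  have h4 : ((s : ℕ) : Cardinal.{u}) ≤ d := by
    have := h3.trans h2
    simpa using this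
  exact_mod_cast h4

end S1

section S2

variable (A P B : Type u) [CommRing A] [CommRing P] [CommRing B] [Algebra A B] [Algebra A P]
  [Algebra P B] [IsScalarTower A P B]

/-- If the fibre of `P → B` over a prime `p` of `A` is finite, then the fibres of `Spec B → Spec P`
over primes above `p` are finite. -/
theorem finite_comap_preimage_singleton_of_finite_fiber (p : Ideal A) [p.IsPrime]
    (hfin : (Algebra.TensorProduct.map (AlgHom.id p.ResidueField p.ResidueField)
      (IsScalarTower.toAlgHom A P B)).toRingHom.Finite)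
    (p' : PrimeSpectrum P) (hp' : p'.asIdeal.comap (algebraMap A P) = p) :
    (PrimeSpectrum.comap (algebraMap P B) ⁻¹' {p'}).Finite := by
  let T : p.Fiber P →ₐ[p.ResidueField] p.Fiber B :=
    Algebra.TensorProduct.map (AlgHom.id p.ResidueField p.ResidueField)
      (IsScalarTower.toAlgHom A P B)
  let _ : Algebra (p.Fiber P) (p.Fiber B) := T.toRingHom.toAlgebra
  have : Module.Finite (p.Fiber P) (p.Fiber B) := hfin
  let pp : PrimeSpectrum A := ⟨p, inferInstance⟩
  have hp'' : p' ∈ PrimeSpectrum.comap (algebraMap A P) ⁻¹' {pp} := PrimeSpectrum.ext hp'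
  let P' : PrimeSpectrum (p.Fiber P) := PrimeSpectrum.preimageEquivFiber A P pp ⟨p', hp''⟩
  have hfinite := Algebra.QuasiFinite.finite_comap_preimage_singleton (R := p.Fiber P)
    (S := p.Fiber B) P'
  have hmem : ∀ x : PrimeSpectrum.comap (algebraMap P B) ⁻¹' {p'},
      x.1 ∈ PrimeSpectrum.comap (algebraMap A B) ⁻¹' {pp} := by
    intro x
    have hx : PrimeSpectrum.comap (algebraMap P B) x.1 = p' := x.2
    change PrimeSpectrum.comap (algebraMap A B) x.1 = pp
    rw [IsScalarTower.algebraMap_eq A P B, PrimeSpectrum.comap_comp_apply, hx]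
    exact hp''
  let Φ : PrimeSpectrum.comap (algebraMap P B) ⁻¹' {p'} →
      PrimeSpectrum.comap (algebraMap (p.Fiber P) (p.Fiber B)) ⁻¹' {P'} := fun x =>
    ⟨PrimeSpectrum.preimageEquivFiber A B pp ⟨x.1, hmem x⟩, by
      apply (PrimeSpectrum.preimageEquivFiber A P pp).symm.injective
      rw [Equiv.symm_apply_apply]
      apply Subtype.ext
      apply PrimeSpectrum.ext
      have hx : PrimeSpectrum.comap (algebraMap P B) x.1 = p' := x.2
      have h1 : ((PrimeSpectrum.preimageEquivFiber A B pp) ⟨x.1, hmem x⟩).asIdeal.comap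
          (Algebra.TensorProduct.includeRight : B →ₐ[A] p.Fiber B).toRingHom = x.1.asIdeal := by
        have := (PrimeSpectrum.preimageEquivFiber A B pp).symm_apply_apply ⟨x.1, hmem x⟩
        exact congrArg (fun y => y.1.asIdeal) this
      change ((((PrimeSpectrum.preimageEquivFiber A B pp) ⟨x.1, hmem x⟩).asIdeal.comap
        T.toRingHom).comap
          (Algebra.TensorProduct.includeRight : P →ₐ[A] p.Fiber P).toRingHom) = p'.asIdeal
      rw [Ideal.comap_comap]
      have h2 : T.toRingHom.comp (Algebra.TensorProduct.includeRight : P →ₐ[A] p.Fiber P).toRingHom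
          = ((Algebra.TensorProduct.includeRight : B →ₐ[A] p.Fiber B).toRingHom).comp
            (algebraMap P B) := by
        ext y
        simp [T]
      rw [h2, ← Ideal.comap_comap, h1]
      exact congrArg PrimeSpectrum.asIdeal hx⟩
  have hΦ : Function.Injective Φ := by
    intro x y hxy
    have h1 : PrimeSpectrum.preimageEquivFiber A B pp ⟨x.1, hmem x⟩ =
        PrimeSpectrum.preimageEquivFiber A B pp ⟨y.1, hmem y⟩ := congrArg Subtype.val hxy
    have h2 := (PrimeSpectrum.preimageEquivFiber A B pp).injective h1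
    exact Subtype.ext (congrArg (fun z : PrimeSpectrum.comap (algebraMap A B) ⁻¹' {pp} => z.1) h2)
  have : Finite (PrimeSpectrum.comap (algebraMap (p.Fiber P) (p.Fiber B)) ⁻¹' {P'}) := hfinite
  exact Finite.of_injective Φ hΦ

end S2

/-- A prime whose fibre is finite is a quasi-finite point. -/
theorem quasiFiniteAt_of_finite_comap_preimage_singleton (P B : Type u) [CommRing P] [CommRing B]
    [Algebra P B] [Algebra.FiniteType P B] (q : Ideal B) [q.IsPrime]
    (h : (PrimeSpectrum.comap (algebraMap P B) ⁻¹'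
      {(⟨q.under P, inferInstance⟩ : PrimeSpectrum P)}).Finite) :
    Algebra.QuasiFiniteAt P q := by
  let p' : PrimeSpectrum P := ⟨q.under P, inferInstance⟩
  have : Finite (PrimeSpectrum.comap (algebraMap P B) ⁻¹' {p'}) := h
  have hF : Finite (PrimeSpectrum (p'.asIdeal.Fiber B)) :=
    (PrimeSpectrum.preimageEquivFiber P B p').finite_iff.mp this
  have hqf : Algebra.QuasiFinite p'.asIdeal.ResidueField (p'.asIdeal.Fiber B) :=
    Algebra.QuasiFinite.iff_finite_comap_preimage_singleton.mpr fun x => Set.toFinite _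
  let Q' : PrimeSpectrum (p'.asIdeal.Fiber B) :=
    PrimeSpectrum.preimageEquivFiber P B p' ⟨⟨q, inferInstance⟩, rfl⟩
  have hQ' : Q'.asIdeal.comap Algebra.TensorProduct.includeRight.toRingHom = q := by
    have := (PrimeSpectrum.preimageEquivFiber P B p').symm_apply_apply ⟨⟨q, inferInstance⟩, rfl⟩
    exact congrArg (fun y => y.1.asIdeal) this
  have : Algebra.QuasiFiniteAt p'.asIdeal.ResidueField Q'.asIdeal := inferInstance
  exact Algebra.QuasiFiniteAt.of_quasiFiniteAt_residueField p'.asIdeal q Q'.asIdeal hQ'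

/-- Zariski's main theorem: a quasi-finite point has a quasi-finite principal open
neighbourhood. -/
theorem exists_quasiFinite_away (P B : Type u) [CommRing P] [CommRing B]
    [Algebra P B] [Algebra.FiniteType P B] (q : Ideal B) [q.IsPrime] [Algebra.QuasiFiniteAt P q] :
    ∃ b : B, b ∉ q ∧ Algebra.QuasiFinite P (Localization.Away b) := by
  obtain ⟨S', hS', r, hrp, H⟩ :=
    Algebra.QuasiFiniteAt.exists_fg_and_exists_notMem_and_awayMap_bijective (R := P) q
  have : Module.Finite P S' := ⟨(Submodule.fg_top _).mpr hS'⟩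
  have : Algebra.QuasiFinite P (Localization.Away r) := .trans _ S' _
  have : Algebra.QuasiFinite P (Localization.Away r.1) :=
    .of_surjective_algHom (Localization.awayMapₐ S'.val r) H.2
  exact ⟨r.1, hrp, this⟩

/-- A quasi-finite injective extension of domains is algebraic. -/
theorem isAlgebraic_of_quasiFinite (R S : Type u) [CommRing R] [CommRing S] [IsDomain R]
    [IsDomain S] [Algebra R S] [FaithfulSMul R S] [Algebra.QuasiFinite R S] :
    Algebra.IsAlgebraic R S := by
  let K := FractionRing R
  let L := FractionRing S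
  have : FaithfulSMul R L := by
    rw [faithfulSMul_iff_algebraMap_injective, IsScalarTower.algebraMap_eq R S L]
    exact (IsFractionRing.injective S L).comp (FaithfulSMul.algebraMap_injective R S)
  let _ : Algebra K L := FractionRing.liftAlgebra R L
  have : IsScalarTower R K L := FractionRing.isScalarTower_liftAlgebra R L
  have h1 : Algebra.QuasiFinite R L := .trans R S L
  have h2 : Algebra.QuasiFinite K L := .of_restrictScalars R K L
  have h3 : Module.Finite K L := .of_quasiFinite
  have h4 : Algebra.IsAlgebraic K L := Algebra.IsAlgebraic.of_finite K L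
  have h5 : Algebra.IsAlgebraic R L :=
    (IsFractionRing.comap_isAlgebraic_iff (A := R) (K := K) (C := L)).mpr h4
  exact Algebra.IsAlgebraic.of_injective (IsScalarTower.toAlgHom R S L)
    (IsFractionRing.injective S L)

/-- relative transcendence degree for a polynomial ring -/
theorem trdeg_quotient_mvPolynomial_le (A : Type u) [CommRing A] (s : ℕ) (p : Ideal A) [p.IsPrime]
    (p' : Ideal (MvPolynomial (Fin s) A)) [p'.IsPrime] [p'.LiesOver p] :
    Algebra.trdeg (A ⧸ p) (MvPolynomial (Fin s) A ⧸ p') ≤ s := by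
  let φ : MvPolynomial (Fin s) (A ⧸ p) →ₐ[A ⧸ p] (MvPolynomial (Fin s) A ⧸ p') :=
    MvPolynomial.aeval (fun i => Ideal.Quotient.mk p' (MvPolynomial.X i))
  have hφ : Function.Surjective φ := by
    intro y
    obtain ⟨f, rfl⟩ := Ideal.Quotient.mk_surjective y
    refine ⟨MvPolynomial.map (algebraMap A (A ⧸ p)) f, ?_⟩
    change MvPolynomial.aeval _ (MvPolynomial.map (algebraMap A (A ⧸ p)) f) = _
    rw [MvPolynomial.aeval_map_algebraMap]
    have h1 : (Ideal.Quotient.mkₐ A p').comp (MvPolynomial.aeval MvPolynomial.X) =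
        MvPolynomial.aeval (fun i => Ideal.Quotient.mk p' (MvPolynomial.X i)) := by
      apply MvPolynomial.algHom_ext
      intro i
      simp
    rw [← h1]
    simp
  have h2 := trdeg_le_of_surjective φ hφ
  rw [MvPolynomial.trdeg_of_isDomain] at h2
  simpa using h2

/-- In a quasi-finite algebra over a polynomial ring in `s` variables, all relative
transcendence degrees are at most `s`. -/
theorem trdeg_quotient_le_of_quasiFinite (A B₁ : Type u) [CommRing A] [CommRing B₁] [Algebra A B₁]
    (s : ℕ) [Algebra (MvPolynomial (Fin s) A) B₁] [IsScalarTower A (MvPolynomial (Fin s) A) B₁]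
    [Algebra.QuasiFinite (MvPolynomial (Fin s) A) B₁] (p : Ideal A) [p.IsPrime]
    (q' : Ideal B₁) [q'.IsPrime] [q'.LiesOver p] :
    Algebra.trdeg (A ⧸ p) (B₁ ⧸ q') ≤ s := by
  let P := MvPolynomial (Fin s) A
  let p' : Ideal P := q'.under P
  have hp'p : p'.LiesOver p := by
    refine ⟨?_⟩
    change p = (q'.under P).under A
    rw [Ideal.under_under]
    exact q'.over_def p
  have t1 : IsScalarTower (A ⧸ p) (P ⧸ p') (B₁ ⧸ q') := by
    refine IsScalarTower.of_algebraMap_eq fun x => ?_
    obtain ⟨a, rfl⟩ := Ideal.Quotient.mk_surjective x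
    simp only [Ideal.Quotient.algebraMap_mk_of_liesOver]
    rw [← IsScalarTower.algebraMap_apply]
  have hqf : Algebra.QuasiFinite (P ⧸ p') (B₁ ⧸ q') := .of_restrictScalars P (P ⧸ p') (B₁ ⧸ q')
  have halg : Algebra.IsAlgebraic (P ⧸ p') (B₁ ⧸ q') := isAlgebraic_of_quasiFinite _ _
  have e1 := trdeg_add_eq (A ⧸ p) (P ⧸ p') (A := B₁ ⧸ q')
  rw [trdeg_eq_zero (R := P ⧸ p') (A := B₁ ⧸ q'), add_zero] at e1
  rw [← e1]
  exact trdeg_quotient_mvPolynomial_le A s p p'

/-- **Ring-level semicontinuity of fibre dimension**. -/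
theorem exists_away_trdeg_le (A B : Type u) [CommRing A] [CommRing B] [Algebra A B]
    [Algebra.FiniteType A B] (p : Ideal A) [p.IsPrime] (q : Ideal B) [q.IsPrime] [q.LiesOver p]
    (d : ℕ)
    (H : ∀ (q₁ : Ideal B) [q₁.IsPrime] [q₁.LiesOver p], Algebra.trdeg (A ⧸ p) (B ⧸ q₁) ≤ d) :
    ∃ b : B, b ∉ q ∧ ∀ (B₁ : Type u) [CommRing B₁] [Algebra B B₁] [IsLocalization.Away b B₁]
      [Algebra A B₁] [IsScalarTower A B B₁] (p₁ : Ideal A) [p₁.IsPrime] (q' : Ideal B₁)
      [q'.IsPrime] [q'.LiesOver p₁], Algebra.trdeg (A ⧸ p₁) (B₁ ⧸ q') ≤ d := by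
  have hne : Nontrivial (p.Fiber B) := by
    have := (PrimeSpectrum.primesOverOrderIsoFiber A B p ⟨q, ⟨inferInstance, inferInstance⟩⟩)
    exact PrimeSpectrum.nonempty_iff_nontrivial.mp ⟨this⟩
  obtain ⟨s, hsd, π, hπ⟩ := exists_le_algHom_finite_fiber A B p d H
  let P := MvPolynomial (Fin s) A
  let _ : Algebra P B := π.toRingHom.toAlgebra
  have t1 : IsScalarTower A P B := IsScalarTower.of_algebraMap_eq fun a => (π.commutes a).symm
  have hπ' : (IsScalarTower.toAlgHom A P B) = π := AlgHom.ext fun _ => rfl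
  have hft : Algebra.FiniteType P B := Algebra.FiniteType.of_restrictScalars_finiteType A P B
  have hp' : (q.under P).comap (algebraMap A P) = p := by
    change (q.under P).under A = p
    rw [Ideal.under_under]
    exact (q.over_def p).symm
  have h1 := finite_comap_preimage_singleton_of_finite_fiber A P B p (hπ' ▸ hπ)
    ⟨q.under P, inferInstance⟩ hp'
  have h2 : Algebra.QuasiFiniteAt P q := quasiFiniteAt_of_finite_comap_preimage_singleton P B q h1
  obtain ⟨b, hbq, hqf⟩ := exists_quasiFinite_away P B q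
  refine ⟨b, hbq, ?_⟩
  intro B₁ _ _ _ _ _ p₁ _ q' _ _
  let _ : Algebra P B₁ := ((algebraMap B B₁).comp (algebraMap P B)).toAlgebra
  have t2 : IsScalarTower P B B₁ := IsScalarTower.of_algebraMap_eq fun _ => rfl
  have t3 : IsScalarTower A P B₁ := by
    refine IsScalarTower.of_algebraMap_eq fun a => ?_
    change algebraMap A B₁ a = algebraMap B B₁ (algebraMap P B (algebraMap A P a))
    rw [← IsScalarTower.algebraMap_apply A P B, ← IsScalarTower.algebraMap_apply A B B₁]
  let e : Localization.Away b ≃ₐ[B] B₁ := IsLocalization.algEquiv (Submonoid.powers b) _ _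
  have hqf' : Algebra.QuasiFinite P B₁ :=
    (Algebra.QuasiFinite.iff_of_algEquiv (e.restrictScalars P)).mp hqf
  exact (trdeg_quotient_le_of_quasiFinite A B₁ s p₁ q').trans (by exact_mod_cast hsd)

end Groth.Agent.Lib.Helper21.FibDim
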