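import Groth.Agent.Lib.Helper21.FibDim11
import Groth.Agent.Lib.Helper18.SchDim2

/-!
# `dim O_{X,x} ≤ dim O_{Y,y} + dim O_{X_y,x}` and the flat lower bound
-/

set_option autoImplicit false
set_option linter.style.haveILetI false
set_option linter.unusedSectionVars false
universe u

open AlgebraicGeometry CategoryTheory Limits TopologicalSpace

namespace Groth.Agent.Lib.Helper21.FibDim

variable {X Y : Scheme.{u}} (f : X ⟶ Y) [LocallyOfFiniteType f]

/-- the local fibre dimension as `trdeg κ(x)/κ(f x) + dim O_{X_y,x}` -/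
theorem exists_fibreDimAt_eq_add (x : X) :
    ∃ a b : ℕ, @Algebra.trdeg (Y.residueField (f x)) (X.residueField x) _ _
        (f.residueFieldMap x).hom.toAlgebra = a ∧
      ringKrullDim ((f.fiber (f x)).presheaf.stalk (f.asFiber x)) = b ∧
      FlatMor.fibreDimAt f x = ((a + b : ℕ) : WithBot ℕ∞) := by
  letI := fiberOver f (f x)
  haveI hlft : LocallyOfFiniteType
      (f.fiber (f x) ↘ Spec (CommRingCat.of (Y.residueField (f x)))) :=
    MorphismProperty.pullback_snd (P := @LocallyOfFiniteType) _ _ inferInstance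
  haveI : IsLocallyNoetherian (f.fiber (f x)) :=
    LocallyOfFiniteType.isLocallyNoetherian
      (f.fiber (f x) ↘ Spec (CommRingCat.of (Y.residueField (f x))))
  obtain ⟨a, ha⟩ := exists_nat_trdeg (Y.residueField (f x)) (f.fiber (f x)) (f.asFiber x)
  obtain ⟨b, hb⟩ := Groth.Agent.Lib.Helper18.SerreReg.exists_ringKrullDim_eq_nat
    ((f.fiber (f x)).presheaf.stalk (f.asFiber x))
  have hloc : FlatMor.fibreDimAt f x = ((a + b : ℕ) : WithBot ℕ∞) :=
    Groth.Agent.Lib.Helper21.ChartPt.localDim_eq_add (Y.residueField (f x)) (f.fiber (f x))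
      (f.asFiber x) a b ha hb
  have key : ∀ (y : X) (z : f.fiber (f x)), f.fiberι (f x) z = y →
      @Algebra.trdeg (Y.residueField (f x)) ((f.fiber (f x)).residueField z) _ _
        (Curv2.resAlgebra (Y.residueField (f x)) (f.fiber (f x)) z) =
      @Algebra.trdeg (Y.residueField (f y)) (X.residueField y) _ _
        (f.residueFieldMap y).hom.toAlgebra := by
    rintro y z rfl
    exact trdeg_fiber_eq f (f x) z
  refine ⟨a, b, ?_, hb, hloc⟩
  rw [← key x (f.asFiber x) (Scheme.Hom.fiberι_asFiber f x)]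
  exact ha

/-- **Dimension inequality** `dim O_{X,x} ≤ dim O_{Y,y} + dim O_{X_y,x}` over a locally
Noetherian base (EGA IV 6.1.2 / 5.6.5.1) -/
theorem ringKrullDim_stalk_le_add_fibre [IsLocallyNoetherian Y] (x : X) :
    ringKrullDim (X.presheaf.stalk x) ≤ ringKrullDim (Y.presheaf.stalk (f x)) +
      ringKrullDim ((f.fiber (f x)).presheaf.stalk (f.asFiber x)) := by
  haveI : IsLocallyNoetherian X := LocallyOfFiniteType.isLocallyNoetherian f
  obtain ⟨a, b, ha, hb, hloc⟩ := exists_fibreDimAt_eq_add f x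
  obtain ⟨c, hc⟩ := Groth.Agent.Lib.Helper18.SerreReg.exists_ringKrullDim_eq_nat
    (Y.presheaf.stalk (f x))
  obtain ⟨d, hd⟩ := Groth.Agent.Lib.Helper18.SerreReg.exists_ringKrullDim_eq_nat
    (X.presheaf.stalk x)
  have hineq := Groth.Agent.Lib.Helper18.SchDim.stalk_dim_inequality f x a (a + b) ha (by
    intro ξ _ hξx
    obtain ⟨m, hm, -, hmall⟩ := exists_fibreDimAt_eq_trdeg f ξ
    have h1 := hmall ξ specializes_rfl rfl
    have h3 := fibreDimAt_le_of_specializes f hξx
    rw [hm, hloc] at h3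
    have h4 : m ≤ a + b := by exact_mod_cast h3
    refine h1.trans ?_
    exact_mod_cast h4)
  rw [hd, hc] at hineq
  rw [hd, hc, hb]
  have h5 : d + a ≤ c + (a + b) := by exact_mod_cast hineq
  have h6 : d ≤ c + b := by omega
  exact_mod_cast h6

end Groth.Agent.Lib.Helper21.FibDim
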