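import Groth.Agent.Lib.Lead.Spectral
import Groth.Agent.Lib.Helper25.ConstructibleSub
import Mathlib.Topology.Constructible
import Mathlib.Topology.Spectral.ConstructibleTopology
import Mathlib.Topology.Maps.Proper.Basic
import Mathlib.Topology.Maps.Proper.CompactlyGenerated
import Mathlib.Topology.Separation.Hausdorff
import Mathlib.Topology.Connected.TotallyDisconnected

/-! The constructible topology of a quasi-separated, quasi-sober, prespectral space
(e.g. a quasi-separated scheme). -/

set_option autoImplicit false

namespace Groth.Agent.Lib.Helper21

open Topology Set TopologicalSpace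
open Groth.Agent.Lib.Lead

variable {X : Type*} [TopologicalSpace X]

/-- A compact open subset of a quasi-separated quasi-sober prespectral space is compact for the
constructible topology. -/
theorem isCompact_constructible_of_isOpen_isCompact [QuasiSober X] [PrespectralSpace X]
    [QuasiSeparatedSpace X] {U : Set X} (hU : IsOpen U) (hc : IsCompact U) :
    @IsCompact X (constructibleTopology X) U := by
  have : CompactSpace U := isCompact_iff_compactSpace.mp hc
  have : QuasiSober U := hU.isOpenEmbedding_subtypeVal.quasiSober
  have : PrespectralSpace U := hU.isOpenEmbedding_subtypeVal.prespectralSpace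
  have : QuasiSeparatedSpace U := hU.isOpenEmbedding_subtypeVal.quasiSeparatedSpace
  have hsp : IsSpectralMap (Subtype.val : U → X) :=
    IsRetrocompact_iff_isSpectralMap_subtypeVal.mp (hc.isRetrocompact hU)
  have hcont := continuous_constructible_of_isSpectralMap hsp
  have hcs : @CompactSpace U (constructibleTopology U) := compactSpace_constructible
  have := @IsCompact.image U X (constructibleTopology U) (constructibleTopology X) univ
    Subtype.val (@isCompact_univ U (constructibleTopology U) hcs) hcont
  simpa using this

/-- A retrocompact open subset of a prespectral space is closed for the constructible topology. -/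
theorem isClosed_constructible_of_isOpen_isRetrocompact [PrespectralSpace X] {V : Set X}
    (hV : IsOpen V) (hr : IsRetrocompact V) : IsClosed[constructibleTopology X] V := by
  rw [← @isOpen_compl_iff X V (constructibleTopology X)]
  rw [@isOpen_iff_forall_mem_open X (constructibleTopology X)]
  intro x hx
  obtain ⟨U, ⟨hUo, hUc⟩, hxU, -⟩ :=
    (PrespectralSpace.isTopologicalBasis (X := X)).exists_subset_of_mem_open (mem_univ x)
      isOpen_univ
  refine ⟨U ∩ (V ∩ U)ᶜ, ?_, ?_, ?_⟩
  · rintro y ⟨hyU, hyV⟩ hyV'
    exact hyV ⟨hyV', hyU⟩
  · exact @IsOpen.inter X (constructibleTopology X) _ _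
      (hUc.isOpen_constructibleTopology_of_isOpen hUo)
      ((@isOpen_compl_iff X _ (constructibleTopology X)).mpr
        (isClosed_constructible_of_isOpen_isCompact (hV.inter hUo) (hr hUc hUo)))
  · exact ⟨hxU, fun h => hx h.1⟩

/-- Constructible subsets of a prespectral space are clopen for the constructible topology. -/
theorem isClopen_constructible_of_isConstructible' [PrespectralSpace X] {s : Set X}
    (hs : IsConstructible s) : @IsClopen X (constructibleTopology X) s := by
  induction hs using IsConstructible.empty_union_induction with
  | open_retrocompact U hUopen hUcomp =>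
    exact ⟨isClosed_constructible_of_isOpen_isRetrocompact hUopen hUcomp,
      isOpen_constructible_of_isOpen hUopen⟩
  | union s hs t ht hs' ht' => exact @IsClopen.union X (constructibleTopology X) s t hs' ht'
  | compl s hs hs' => exact @IsClopen.compl X (constructibleTopology X) s hs'

/-- In a (quasi-)spectral space, the clopen subsets of the constructible topology are
constructible. -/
theorem isConstructible_of_isClopen_constructible [CompactSpace X] [QuasiSober X]
    [PrespectralSpace X] [QuasiSeparatedSpace X] {F : Set X}
    (hF : @IsClopen X (constructibleTopology X) F) : IsConstructible F := by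
  have hcs : @CompactSpace X (constructibleTopology X) := compactSpace_constructible
  have hFc : @IsCompact X (constructibleTopology X) F :=
    @IsClosed.isCompact X (constructibleTopology X) F hcs hF.1
  have key : ∀ x ∈ F, ∃ W : Set X, IsConstructible W ∧ IsOpen[constructibleTopology X] W ∧
      x ∈ W ∧ W ⊆ F := by
    intro x hx
    obtain ⟨U, V, hU, hU', hV, hV', hxUV, hsub⟩ :=
      Groth.Agent.Lib.Helper25.exists_compact_open_of_isOpen_constructibleTopology hF.2 hx
    refine ⟨U ∩ Vᶜ, (hU'.isConstructible hU).inter (hV'.isConstructible hV).compl, ?_, hxUV, hsub⟩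
    exact @IsOpen.inter X (constructibleTopology X) _ _
      (hU'.isOpen_constructibleTopology_of_isOpen hU)
      ((@isOpen_compl_iff X _ (constructibleTopology X)).mpr
        (isClosed_constructible_of_isOpen_isCompact hV hV'))
  choose! W hWc hWo hxW hWF using key
  obtain ⟨t, htF, hcov⟩ := @IsCompact.elim_nhds_subcover X (constructibleTopology X) F hFc
    W (fun x hx => @IsOpen.mem_nhds X (constructibleTopology X) _ _ (hWo x hx) (hxW x hx))
  have hEq : F = ⋃ x ∈ t, W x :=
    Subset.antisymm hcov (iUnion₂_subset fun x hx => hWF x (htF x hx))
  rw [hEq]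
  exact IsConstructible.biUnion t.finite_toSet fun x hx => hWc x (htF x hx)

/-- EGA IV 1.9.12-like: in a quasi-separated quasi-sober prespectral space, the locally
constructible subsets are the clopen subsets of the constructible topology. -/
theorem isLocallyConstructible_iff_isClopen_constructible [QuasiSober X] [PrespectralSpace X]
    [QuasiSeparatedSpace X] (E : Set X) :
    IsLocallyConstructible E ↔
      (IsOpen[constructibleTopology X] E ∧ IsClosed[constructibleTopology X] E) := by
  have hbasis : ∀ x : X, ∃ U : Set X, IsOpen U ∧ IsCompact U ∧ x ∈ U := by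
    intro x
    obtain ⟨U, ⟨hUo, hUc⟩, hxU, -⟩ :=
      (PrespectralSpace.isTopologicalBasis (X := X)).exists_subset_of_mem_open (mem_univ x)
        isOpen_univ
    exact ⟨U, hUo, hUc, hxU⟩
  constructor
  · intro hE
    have hcl : ∀ U : Set X, IsOpen U → IsCompact U →
        @IsClopen X (constructibleTopology X) (E ∩ U) := fun U hUo hUc =>
      isClopen_constructible_of_isConstructible' (hE.inter_of_isOpen_isCompact hUo hUc)
    constructor
    · rw [@isOpen_iff_forall_mem_open X (constructibleTopology X)]
      intro x hx
      obtain ⟨U, hUo, hUc, hxU⟩ := hbasis x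
      exact ⟨E ∩ U, inter_subset_left, (hcl U hUo hUc).2, hx, hxU⟩
    · rw [← @isOpen_compl_iff X E (constructibleTopology X),
        @isOpen_iff_forall_mem_open X (constructibleTopology X)]
      intro x hx
      obtain ⟨U, hUo, hUc, hxU⟩ := hbasis x
      refine ⟨U ∩ (E ∩ U)ᶜ, ?_, ?_, hxU, fun h => hx h.1⟩
      · rintro y ⟨hyU, hyE⟩ hyE'
        exact hyE ⟨hyE', hyU⟩
      · exact @IsOpen.inter X (constructibleTopology X) _ _
          (hUc.isOpen_constructibleTopology_of_isOpen hUo)
          ((@isOpen_compl_iff X _ (constructibleTopology X)).mpr (hcl U hUo hUc).1)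
  · rintro ⟨hEo, hEc⟩ x
    obtain ⟨U, hUo, hUc, hxU⟩ := hbasis x
    refine ⟨U, hUo.mem_nhds hxU, hUo, ?_⟩
    have : CompactSpace U := isCompact_iff_compactSpace.mp hUc
    have : QuasiSober U := hUo.isOpenEmbedding_subtypeVal.quasiSober
    have : PrespectralSpace U := hUo.isOpenEmbedding_subtypeVal.prespectralSpace
    have : QuasiSeparatedSpace U := hUo.isOpenEmbedding_subtypeVal.quasiSeparatedSpace
    have hsp : IsSpectralMap (Subtype.val : U → X) :=
      IsRetrocompact_iff_isSpectralMap_subtypeVal.mp (hUc.isRetrocompact hUo)
    have hcont := continuous_constructible_of_isSpectralMap hsp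
    apply isConstructible_of_isClopen_constructible
    exact ⟨@IsClosed.preimage U X (constructibleTopology U) (constructibleTopology X) _ hcont _ hEc,
      @IsOpen.preimage U X (constructibleTopology U) (constructibleTopology X) _ hcont _ hEo⟩

section WithCons

/-- the preimage in `WithConstructibleTopology X` of a compact open subset is clopen -/
theorem isClopen_ofTopology_preimage [PrespectralSpace X] {U : Set X} (hU : IsOpen U)
    (hc : IsCompact U) :
    IsClopen ((WithTopology.ofTopology : WithConstructibleTopology X → X) ⁻¹' U) := by
  constructor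
  · rw [WithConstructibleTopology.isClosed_iff]
    exact isClosed_constructible_of_isOpen_isCompact hU hc
  · rw [WithConstructibleTopology.isOpen_iff]
    exact hc.isOpen_constructibleTopology_of_isOpen hU

/-- the preimage in `WithConstructibleTopology X` of a compact open subset is compact -/
theorem isCompact_ofTopology_preimage [QuasiSober X] [PrespectralSpace X]
    [QuasiSeparatedSpace X] {U : Set X} (hU : IsOpen U) (hc : IsCompact U) :
    IsCompact ((WithTopology.ofTopology : WithConstructibleTopology X → X) ⁻¹' U) := by
  rw [WithTopology.preimage_ofTopology]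
  exact @IsCompact.image X (WithConstructibleTopology X) (constructibleTopology X) _ U _
    (isCompact_constructible_of_isOpen_isCompact hU hc) (WithTopology.continuous_toTopology _)

theorem t2Space_withConstructibleTopology [T0Space X] [PrespectralSpace X] :
    T2Space (WithConstructibleTopology X) :=
  @T2Space.of_injective_continuous (WithConstructibleTopology X) X _ (constructibleTopology X)
    t2Space_constructible WithTopology.ofTopology (WithTopology.ofTopology_injective _)
    (WithTopology.continuous_ofTopology _)

theorem weaklyLocallyCompactSpace_withConstructibleTopology [QuasiSober X] [PrespectralSpace X]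
    [QuasiSeparatedSpace X] : WeaklyLocallyCompactSpace (WithConstructibleTopology X) := by
  refine ⟨fun x => ?_⟩
  obtain ⟨U, ⟨hUo, hUc⟩, hxU, -⟩ :=
    (PrespectralSpace.isTopologicalBasis (X := X)).exists_subset_of_mem_open
      (mem_univ x.ofTopology) isOpen_univ
  exact ⟨_, isCompact_ofTopology_preimage hUo hUc,
    (isClopen_ofTopology_preimage hUo hUc).2.mem_nhds hxU⟩

theorem totallySeparatedSpace_withConstructibleTopology [T0Space X] [PrespectralSpace X] :
    TotallySeparatedSpace (WithConstructibleTopology X) := by
  rw [totallySeparatedSpace_iff_exists_isClopen]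
  intro x y hxy
  have hne : x.ofTopology ≠ y.ofTopology := fun h => hxy (WithTopology.ofTopology_injective _ h)
  have hns : ¬ Inseparable x.ofTopology y.ofTopology := fun h => hne h.eq
  rw [inseparable_iff_forall_isOpen] at hns
  push Not at hns
  obtain ⟨V, hVo, hV⟩ := hns
  rcases hV with ⟨hxV, hyV⟩ | ⟨hxV, hyV⟩
  · obtain ⟨U, ⟨hUo, hUc⟩, hxU, hUV⟩ :=
      (PrespectralSpace.isTopologicalBasis (X := X)).exists_subset_of_mem_open hxV hVo
    exact ⟨_, isClopen_ofTopology_preimage hUo hUc, hxU, fun h => hyV (hUV h)⟩
  · obtain ⟨U, ⟨hUo, hUc⟩, hyU, hUV⟩ :=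
      (PrespectralSpace.isTopologicalBasis (X := X)).exists_subset_of_mem_open hyV hVo
    exact ⟨_, (isClopen_ofTopology_preimage hUo hUc).compl, fun h => hxV (hUV h),
      fun h => h hyU⟩

end WithCons

section Proper

variable {Y : Type*} [TopologicalSpace Y]

theorem weaklyLocallyCompactSpace_constructible [QuasiSober X] [PrespectralSpace X]
    [QuasiSeparatedSpace X] : @WeaklyLocallyCompactSpace X (constructibleTopology X) := by
  refine @WeaklyLocallyCompactSpace.mk X (constructibleTopology X) fun x => ?_
  obtain ⟨U, ⟨hUo, hUc⟩, hxU, -⟩ :=
    (PrespectralSpace.isTopologicalBasis (X := X)).exists_subset_of_mem_open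
      (mem_univ x) isOpen_univ
  exact ⟨U, isCompact_constructible_of_isOpen_isCompact hUo hUc,
    @IsOpen.mem_nhds X (constructibleTopology X) _ _
      (hUc.isOpen_constructibleTopology_of_isOpen hUo) hxU⟩

/-- EGA IV 1.9.15-like: a continuous map between quasi-separated quasi-sober prespectral spaces
is quasi-compact (spectral) iff it is proper for the constructible topologies. -/
theorem isSpectralMap_iff_isProperMap_constructible [QuasiSober X] [PrespectralSpace X]
    [QuasiSeparatedSpace X] [T0Space Y] [QuasiSober Y] [PrespectralSpace Y]
    [QuasiSeparatedSpace Y] {f : X → Y} (hf : Continuous f) :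
    IsSpectralMap f ↔
      @IsProperMap X Y (constructibleTopology X) (constructibleTopology Y) f := by
  have hT2 : @T2Space Y (constructibleTopology Y) := t2Space_constructible
  have hW : @WeaklyLocallyCompactSpace Y (constructibleTopology Y) :=
    weaklyLocallyCompactSpace_constructible
  have hCC : @CompactlyCoherentSpace Y (constructibleTopology Y) :=
    @CompactlyCoherentSpace.of_weaklyLocallyCompactSpace Y (constructibleTopology Y) hW
  constructor
  · intro hsp
    have hcont := continuous_constructible_of_isSpectralMap hsp
    rw [@isProperMap_iff_isCompact_preimage X Y (constructibleTopology X)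
      (constructibleTopology Y) hT2 hCC f]
    refine ⟨hcont, fun K hK => ?_⟩
    have key : ∀ y : Y, ∃ U : Set Y, IsOpen U ∧ IsCompact U ∧ y ∈ U := by
      intro y
      obtain ⟨U, ⟨hUo, hUc⟩, hyU, -⟩ :=
        (PrespectralSpace.isTopologicalBasis (X := Y)).exists_subset_of_mem_open (mem_univ y)
          isOpen_univ
      exact ⟨U, hUo, hUc, hyU⟩
    choose U hUo hUc hyU using key
    obtain ⟨t, -, hcov⟩ := @IsCompact.elim_nhds_subcover Y (constructibleTopology Y) K hK
      U (fun y _ => @IsOpen.mem_nhds Y (constructibleTopology Y) _ _
        ((hUc y).isOpen_constructibleTopology_of_isOpen (hUo y)) (hyU y))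
    have hC : @IsCompact X (constructibleTopology X) (⋃ y ∈ t, f ⁻¹' (U y)) :=
      @Finset.isCompact_biUnion X Y (constructibleTopology X) t (fun y => f ⁻¹' (U y))
        fun y _ => isCompact_constructible_of_isOpen_isCompact ((hUo y).preimage hf)
          (hsp.isCompact_preimage_of_isOpen (hUo y) (hUc y))
    have hKcl : IsClosed[constructibleTopology Y] K :=
      @IsCompact.isClosed Y (constructibleTopology Y) hT2 K hK
    have hcl : IsClosed[constructibleTopology X] (f ⁻¹' K) :=
      @IsClosed.preimage X Y (constructibleTopology X) (constructibleTopology Y) f hcont K hKcl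
    refine @IsCompact.of_isClosed_subset X (constructibleTopology X) _ _ hC hcl ?_
    intro x hx
    have := hcov hx
    simpa using this
  · intro hp
    refine ⟨hf, fun V hVo hVc => ?_⟩
    have h1 : @IsCompact X (constructibleTopology X) (f ⁻¹' V) :=
      @IsProperMap.isCompact_preimage X Y (constructibleTopology X) (constructibleTopology Y) f
        hp V (isCompact_constructible_of_isOpen_isCompact hVo hVc)
    have hcont : @Continuous X X (constructibleTopology X) _ id :=
      continuous_id_of_le constructible_le
    simpa using @IsCompact.image X X (constructibleTopology X) _ (f ⁻¹' V) id h1 hcont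

end Proper

end Groth.Agent.Lib.Helper21
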