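import Mathlib
import Groth.Prelude.Def_Found
import Groth.Prelude.Def_CAlgX

/-!
# Basic toolbox for `CAlg.IsMittagLeffler`

`CAlg.IsMittagLeffler R M` says `TensorProduct.piRightHom R R M Q` is injective for all families `Q`.
-/

open TensorProduct

universe u

namespace Groth.Agent.Lib.Helper21.ML

variable {R : Type u} [CommRing R]

/-- The product of the maps `f ⊗ Q i`. -/
noncomputable def piMap {M₁ M₂ : Type*} [AddCommGroup M₁] [Module R M₁] [AddCommGroup M₂] [Module R M₂]
    (f : M₁ →ₗ[R] M₂) {ι : Type*} (Q : ι → Type*) [∀ i, AddCommGroup (Q i)] [∀ i, Module R (Q i)] :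
    (∀ i, M₁ ⊗[R] Q i) →ₗ[R] (∀ i, M₂ ⊗[R] Q i) :=
  LinearMap.pi fun i => (f.rTensor (Q i)) ∘ₗ LinearMap.proj i

@[simp] lemma piMap_apply {M₁ M₂ : Type*} [AddCommGroup M₁] [Module R M₁] [AddCommGroup M₂]
    [Module R M₂] (f : M₁ →ₗ[R] M₂) {ι : Type*} (Q : ι → Type*) [∀ i, AddCommGroup (Q i)]
    [∀ i, Module R (Q i)] (z : ∀ i, M₁ ⊗[R] Q i) (i : ι) :
    piMap f Q z i = f.rTensor (Q i) (z i) := rfl

/-- Naturality of `piRightHom` in the module variable. -/
lemma piRightHom_natural {M₁ M₂ : Type*} [AddCommGroup M₁] [Module R M₁] [AddCommGroup M₂]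
    [Module R M₂] (f : M₁ →ₗ[R] M₂) {ι : Type*} (Q : ι → Type*) [∀ i, AddCommGroup (Q i)]
    [∀ i, Module R (Q i)] (x : M₁ ⊗[R] (∀ i, Q i)) :
    piRightHom R R M₂ Q (f.rTensor _ x) = piMap f Q (piRightHom R R M₁ Q x) := by
  induction x using TensorProduct.induction_on with
  | zero => simp
  | tmul m q => ext i; simp
  | add x y hx hy => simp only [map_add, hx, hy]

/-- Componentwise form of naturality. -/
lemma piRightHom_natural_apply {M₁ M₂ : Type*} [AddCommGroup M₁] [Module R M₁] [AddCommGroup M₂]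
    [Module R M₂] (f : M₁ →ₗ[R] M₂) {ι : Type*} (Q : ι → Type*) [∀ i, AddCommGroup (Q i)]
    [∀ i, Module R (Q i)] (x : M₁ ⊗[R] (∀ i, Q i)) (i : ι) :
    piRightHom R R M₂ Q (f.rTensor _ x) i = f.rTensor (Q i) (piRightHom R R M₁ Q x i) := by
  rw [piRightHom_natural]; rfl

/-- Component of `piRightHom` is `lTensor` of the projection. -/
lemma piRightHom_apply_eq_lTensor {M : Type*} [AddCommGroup M] [Module R M] {ι : Type*}
    (Q : ι → Type*) [∀ i, AddCommGroup (Q i)] [∀ i, Module R (Q i)] (x : M ⊗[R] (∀ i, Q i))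
    (i : ι) : piRightHom R R M Q x i = (LinearMap.proj i : (∀ i, Q i) →ₗ[R] Q i).lTensor M x := by
  induction x using TensorProduct.induction_on with
  | zero => simp
  | tmul m q => simp
  | add x y hx hy => simp only [map_add, Pi.add_apply, hx, hy]

/-- A Mittag-Leffler module: unfolding lemma. -/
lemma isMittagLeffler_iff {M : Type u} [AddCommGroup M] [Module R M] :
    CAlg.IsMittagLeffler R M ↔ ∀ (ι : Type u) (Q : ι → Type u) [∀ i, AddCommGroup (Q i)]
      [∀ i, Module R (Q i)] (x : M ⊗[R] (∀ i, Q i)), piRightHom R R M Q x = 0 → x = 0 := by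
  constructor
  · intro h ι Q _ _ x hx
    exact h ι Q (by simpa using hx)
  · intro h ι Q _ _
    rw [injective_iff_map_eq_zero]
    exact h ι Q

/-- S6338: a universally injective submodule of a Mittag-Leffler module is Mittag-Leffler. -/
theorem of_universallyInjective {M₁ M₂ : Type u}
    [AddCommGroup M₁] [Module R M₁] [AddCommGroup M₂] [Module R M₂] (f : M₁ →ₗ[R] M₂)
    (hf : CAlgX.UniversallyInjective R f) (h₂ : CAlg.IsMittagLeffler R M₂) :
    CAlg.IsMittagLeffler R M₁ := by
  rw [isMittagLeffler_iff] at h₂ ⊢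
  intro ι Q _ _ x hx
  apply hf (∀ i, Q i)
  rw [map_zero]
  apply h₂ ι Q
  rw [piRightHom_natural, hx, map_zero]

/-- S6339: extensions. -/
theorem of_universallyExact_extension {M₁ M₂ M₃ : Type u}
    [AddCommGroup M₁] [Module R M₁] [AddCommGroup M₂] [Module R M₂] [AddCommGroup M₃] [Module R M₃]
    (f : M₁ →ₗ[R] M₂) (g : M₂ →ₗ[R] M₃) (hf : CAlgX.UniversallyInjective R f)
    (hg : Function.Surjective g) (hfg : LinearMap.range f = LinearMap.ker g)
    (h₁ : CAlg.IsMittagLeffler R M₁) (h₃ : CAlg.IsMittagLeffler R M₃) :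
    CAlg.IsMittagLeffler R M₂ := by
  rw [isMittagLeffler_iff] at h₁ h₃ ⊢
  intro ι Q _ _ x hx
  have hex : Function.Exact f g := by
    intro y
    rw [← LinearMap.mem_ker, ← hfg, LinearMap.mem_range]; rfl
  have h1 : g.rTensor (∀ i, Q i) x = 0 := by
    apply h₃ ι Q
    rw [piRightHom_natural, hx, map_zero]
  obtain ⟨y, rfl⟩ := (rTensor_exact (∀ i, Q i) hex hg _).1 h1
  have h2 : y = 0 := by
    apply h₁ ι Q
    ext i
    apply hf (Q i)
    rw [← piRightHom_natural_apply, hx]
    simp
  rw [h2, map_zero]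

/-- A linear map with a linear left inverse is universally injective. -/
lemma universallyInjective_of_leftInverse {M₁ M₂ : Type u}
    [AddCommGroup M₁] [Module R M₁] [AddCommGroup M₂] [Module R M₂] (f : M₁ →ₗ[R] M₂)
    (g : M₂ →ₗ[R] M₁) (h : g ∘ₗ f = LinearMap.id) : CAlgX.UniversallyInjective R f := by
  intro Q _ _
  apply Function.LeftInverse.injective (g := g.rTensor Q)
  intro x
  rw [← LinearMap.comp_apply, ← LinearMap.rTensor_comp, h, LinearMap.rTensor_id, LinearMap.id_apply]

section DirectSum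

variable {ι : Type u} (M : ι → Type u) [∀ i, AddCommGroup (M i)] [∀ i, Module R (M i)]

open Classical in
lemma directSumLeft_apply' (P : Type*) [AddCommGroup P] [Module R P]
    (x : (DirectSum ι M) ⊗[R] P) (i : ι) :
    TensorProduct.directSumLeft R R M P x i = (DirectSum.component R ι M i).rTensor P x := by
  induction x using TensorProduct.induction_on with
  | zero => simp
  | tmul m p =>
    rw [TensorProduct.directSumLeft_tmul, LinearMap.rTensor_tmul, DirectSum.apply_eq_component R]
  | add x y hx hy => simp only [map_add, DirectSum.add_apply, hx, hy]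

open Classical in
lemma eq_zero_of_component_rTensor (P : Type*) [AddCommGroup P] [Module R P]
    (x : (DirectSum ι M) ⊗[R] P)
    (h : ∀ i, (DirectSum.component R ι M i).rTensor P x = 0) : x = 0 := by
  apply (TensorProduct.directSumLeft R R M P).injective
  rw [map_zero]
  apply DFinsupp.ext
  intro i
  have := directSumLeft_apply' M P x i
  rw [h i] at this
  exact this

open Classical in
/-- S6337. -/
theorem directSum_iff :
    CAlg.IsMittagLeffler R (DirectSum ι M) ↔ ∀ i, CAlg.IsMittagLeffler R (M i) := by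
  constructor
  · intro h i
    refine of_universallyInjective (DirectSum.lof R ι M i) ?_ h
    apply universallyInjective_of_leftInverse _ (DirectSum.component R ι M i)
    ext x
    simp
  · intro h
    rw [isMittagLeffler_iff]
    intro κ Q _ _ x hx
    apply eq_zero_of_component_rTensor
    intro i
    apply (isMittagLeffler_iff.1 (h i)) κ Q
    rw [piRightHom_natural, hx, map_zero]

end DirectSum

section Finite

/-- Over a finite generating family, every tensor is a sum of `n j ⊗ q j`. -/
lemma exists_sum_tmul_of_span_eq_top {N : Type*} [AddCommGroup N] [Module R N] {k : ℕ}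
    (n : Fin k → N) (hn : Submodule.span R (Set.range n) = ⊤) (Q : Type*) [AddCommGroup Q]
    [Module R Q] (z : N ⊗[R] Q) : ∃ q : Fin k → Q, z = ∑ j, n j ⊗ₜ[R] q j := by
  induction z using TensorProduct.induction_on with
  | zero => exact ⟨0, by simp⟩
  | tmul m q =>
    have hm : m ∈ Submodule.span R (Set.range n) := hn ▸ Submodule.mem_top
    obtain ⟨c, rfl⟩ := (Submodule.mem_span_range_iff_exists_fun R).1 hm
    refine ⟨fun j => c j • q, ?_⟩
    rw [TensorProduct.sum_tmul]
    refine Finset.sum_congr rfl fun j _ => ?_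
    rw [TensorProduct.smul_tmul]
  | add x y hx hy =>
    obtain ⟨q₁, rfl⟩ := hx
    obtain ⟨q₂, rfl⟩ := hy
    refine ⟨q₁ + q₂, ?_⟩
    simp only [Pi.add_apply, TensorProduct.tmul_add, Finset.sum_add_distrib]

/-- For a finite module `N` the canonical map `N ⊗ ∏ Q i → ∏ N ⊗ Q i` is surjective. -/
lemma piRightHom_surjective_of_finite {N : Type*} [AddCommGroup N] [Module R N] [Module.Finite R N]
    {ι : Type*} (Q : ι → Type*) [∀ i, AddCommGroup (Q i)] [∀ i, Module R (Q i)] :
    Function.Surjective (piRightHom R R N Q) := by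
  obtain ⟨k, n, hn⟩ := Module.Finite.exists_fin (R := R) (M := N)
  intro z
  choose q hq using fun i => exists_sum_tmul_of_span_eq_top n hn (Q i) (z i)
  refine ⟨∑ j, n j ⊗ₜ[R] (fun i => q i j), ?_⟩
  ext i
  rw [map_sum, Finset.sum_apply, hq i]
  rfl

/-- S6340: quotient of a Mittag-Leffler module by a finitely generated submodule. -/
theorem quotient_of_fg {M : Type u} [AddCommGroup M] [Module R M]
    (N : Submodule R M) (hN : N.FG) (hM : CAlg.IsMittagLeffler R M) :
    CAlg.IsMittagLeffler R (M ⧸ N) := by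
  have : Module.Finite R N := Module.Finite.iff_fg.2 hN
  rw [isMittagLeffler_iff] at hM ⊢
  intro ι Q _ _ x hx
  have hex : Function.Exact N.subtype N.mkQ := by
    intro y
    rw [← LinearMap.mem_ker, Submodule.ker_mkQ]
    simp
  obtain ⟨x', rfl⟩ := LinearMap.rTensor_surjective (∀ i, Q i) N.mkQ_surjective x
  have h1 : ∀ i, ∃ z : N ⊗[R] Q i, N.subtype.rTensor (Q i) z = piRightHom R R M Q x' i := by
    intro i
    apply (rTensor_exact (Q i) hex N.mkQ_surjective _).1
    rw [← piRightHom_natural_apply, hx]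
    rfl
  choose z hz using h1
  obtain ⟨w, hw⟩ := piRightHom_surjective_of_finite (R := R) (N := N) Q z
  have h2 : x' = N.subtype.rTensor (∀ i, Q i) w := by
    rw [← sub_eq_zero]
    apply hM ι Q
    rw [map_sub, sub_eq_zero]
    ext i
    rw [piRightHom_natural_apply, hw, hz]
  rw [h2, ← LinearMap.comp_apply, ← LinearMap.rTensor_comp]
  have : N.mkQ ∘ₗ N.subtype = 0 := by
    ext y
    simp
  rw [this, LinearMap.rTensor_zero, LinearMap.zero_apply]

end Finite

end Groth.Agent.Lib.Helper21.ML
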