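import Mathlib
import Groth.Agent.Lib.Helper21.MittagLeffler

/-!
# Mittag-Leffler modules: base change, restriction of scalars, directed colimits
-/

open TensorProduct

universe u

namespace Groth.Agent.Lib.Helper21.ML

section RestrictScalars

variable (R S : Type u) [CommRing R] [CommRing S] [Algebra R S]

lemma piRightHom_eq_piRightHom (N : Type*) [AddCommGroup N] [Module R N] [Module S N]
    [IsScalarTower R S N] {ι : Type*} (Q : ι → Type*) [∀ i, AddCommGroup (Q i)]
    [∀ i, Module R (Q i)] (x : N ⊗[R] (∀ i, Q i)) :
    piRightHom R S N Q x = piRightHom R R N Q x := by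
  induction x using TensorProduct.induction_on with
  | zero => simp
  | tmul m q => rfl
  | add x y hx hy => simp only [map_add, hx, hy]

/-- S6342. -/
theorem restrictScalars_of_flat
    (M : Type u) [AddCommGroup M] [Module S M] [Module R M] [IsScalarTower R S M]
    (hS : CAlg.IsMittagLeffler R S) [Module.Flat S M] (hM : CAlg.IsMittagLeffler S M) :
    CAlg.IsMittagLeffler R M := by
  rw [isMittagLeffler_iff]
  intro ι Q _ _ x hx
  have hαS : Function.Injective (piRightHom R S S Q) := by
    intro a b hab
    apply hS ι Q
    rw [← piRightHom_eq_piRightHom R S S Q a, ← piRightHom_eq_piRightHom R S S Q b, hab]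
  have key : ∀ (y : M ⊗[S] (S ⊗[R] (∀ i, Q i))) (i : ι),
      AlgebraTensorModule.cancelBaseChange R S S M (Q i)
        (piRightHom S S M (fun i => S ⊗[R] Q i) ((piRightHom R S S Q).lTensor M y) i) =
      piRightHom R R M Q (AlgebraTensorModule.cancelBaseChange R S S M (∀ i, Q i) y) i := by
    intro y i
    induction y using TensorProduct.induction_on with
    | zero => simp
    | tmul m t =>
      induction t using TensorProduct.induction_on with
      | zero => simp
      | tmul s q => simp
      | add a b ha hb =>
        simp only [tmul_add, map_add, Pi.add_apply] at ha hb ⊢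
        rw [ha, hb]
    | add a b ha hb =>
      simp only [map_add, Pi.add_apply] at ha hb ⊢
      rw [ha, hb]
  obtain ⟨y, rfl⟩ := (AlgebraTensorModule.cancelBaseChange R S S M (∀ i, Q i)).surjective x
  have h1 : piRightHom S S M (fun i => S ⊗[R] Q i) ((piRightHom R S S Q).lTensor M y) = 0 := by
    ext i
    apply (AlgebraTensorModule.cancelBaseChange R S S M (Q i)).injective
    rw [key, hx]
    simp
  have h2 : (piRightHom R S S Q).lTensor M y = 0 :=
    (isMittagLeffler_iff.1 hM) ι (fun i => S ⊗[R] Q i) _ h1
  have h3 : y = 0 := by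
    apply Module.Flat.lTensor_preserves_injective_linearMap (M := M) _ hαS
    rw [h2, map_zero]
  rw [h3, map_zero]

end RestrictScalars

section BaseChange

variable (R S : Type u) [CommRing R] [CommRing S] [Algebra R S]

/-- The additive identification `(S ⊗[R] M) ⊗[S] P ≃ M ⊗[R] P`. -/
noncomputable def bcEquiv (M : Type*) [AddCommGroup M] [Module R M] (P : Type*) [AddCommGroup P]
    [Module R P] [Module S P] [IsScalarTower R S P] :
    (S ⊗[R] M) ⊗[S] P ≃+ M ⊗[R] P :=
  (TensorProduct.comm S (S ⊗[R] M) P).toAddEquiv.trans
    ((AlgebraTensorModule.cancelBaseChange R S S P M).toAddEquiv.trans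
      (TensorProduct.comm R P M).toAddEquiv)

@[simp] lemma bcEquiv_tmul (M : Type*) [AddCommGroup M] [Module R M] (P : Type*) [AddCommGroup P]
    [Module R P] [Module S P] [IsScalarTower R S P] (s : S) (m : M) (p : P) :
    bcEquiv R S M P ((s ⊗ₜ[R] m) ⊗ₜ[S] p) = m ⊗ₜ[R] (s • p) := rfl

theorem baseChange_aux (M : Type u)
    [AddCommGroup M] [Module R M] (hM : CAlg.IsMittagLeffler R M) {ι : Type u} (Q : ι → Type u)
    [∀ i, AddCommGroup (Q i)] [∀ i, Module S (Q i)] [∀ i, Module R (Q i)]
    [∀ i, IsScalarTower R S (Q i)] :
    Function.Injective (piRightHom S S (S ⊗[R] M) Q) := by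
  have key : ∀ (y : (S ⊗[R] M) ⊗[S] (∀ i, Q i)) (i : ι),
      bcEquiv R S M (Q i) (piRightHom S S (S ⊗[R] M) Q y i) =
        piRightHom R R M Q (bcEquiv R S M (∀ i, Q i) y) i := by
    intro y i
    induction y using TensorProduct.induction_on with
    | zero => simp
    | tmul t q =>
      induction t using TensorProduct.induction_on with
      | zero => simp
      | tmul s m => simp
      | add a b ha hb =>
        simp only [add_tmul, map_add, Pi.add_apply] at ha hb ⊢
        rw [ha, hb]
    | add a b ha hb =>
      simp only [map_add, Pi.add_apply] at ha hb ⊢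
      rw [ha, hb]
  rw [injective_iff_map_eq_zero]
  intro y hy
  apply (bcEquiv R S M (∀ i, Q i)).injective
  rw [map_zero]
  apply (isMittagLeffler_iff.1 hM) ι Q
  ext i
  rw [← key, hy]
  simp

/-- S6348. -/
theorem baseChange (M : Type u)
    [AddCommGroup M] [Module R M] (hM : CAlg.IsMittagLeffler R M) :
    CAlg.IsMittagLeffler S (S ⊗[R] M) := by
  intro ι Q _ _
  let _ : ∀ i, Module R (Q i) := fun i => Module.compHom (Q i) (algebraMap R S)
  have : ∀ i, IsScalarTower R S (Q i) := fun i =>
    ⟨fun r s m => by
      change (r • s) • m = algebraMap R S r • (s • m)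
      rw [Algebra.smul_def, mul_smul]⟩
  exact baseChange_aux R S M hM Q

end BaseChange

section DirectLimit

variable {R : Type u} [CommRing R]

/-- S6341. -/
theorem directLimit_of_universallyInjective {ι : Type u}
    [Preorder ι] [IsDirected ι (· ≤ ·)] [DecidableEq ι] (G : ι → Type u) [∀ i, AddCommGroup (G i)]
    [∀ i, Module R (G i)] (f : ∀ i j, i ≤ j → G i →ₗ[R] G j) [DirectedSystem G fun i j h => f i j h]
    (hf : ∀ i j (h : i ≤ j), CAlgX.UniversallyInjective R (f i j h))
    (hG : ∀ i, CAlg.IsMittagLeffler R (G i)) :
    CAlg.IsMittagLeffler R (Module.DirectLimit G f) := by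
  rcases isEmpty_or_nonempty ι with hι | hι
  · rw [isMittagLeffler_iff]
    intro κ Q _ _ x _
    clear * - hι
    induction x using TensorProduct.induction_on with
    | zero => rfl
    | tmul m q => rw [Subsingleton.elim m 0, zero_tmul]
    | add a b ha hb => rw [ha, hb, add_zero]
  · have hof : ∀ i, CAlgX.UniversallyInjective R (Module.DirectLimit.of R ι G f i) := by
      intro i P _ _
      rw [injective_iff_map_eq_zero]
      intro x hx
      have h1 := TensorProduct.directLimitLeft_rTensor_of f P x
      rw [hx, map_zero] at h1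
      obtain ⟨j, hij, h⟩ := Module.DirectLimit.of.zero_exact h1.symm
      exact hf i j hij P (by simpa using h)
    rw [isMittagLeffler_iff]
    intro κ Q _ _ x hx
    obtain ⟨i, y, hy⟩ := Module.DirectLimit.exists_of (TensorProduct.directLimitLeft f _ x)
    have hxy : x = (Module.DirectLimit.of R ι G f i).rTensor _ y := by
      apply (TensorProduct.directLimitLeft f _).injective
      rw [TensorProduct.directLimitLeft_rTensor_of, hy]
    subst hxy
    have : y = 0 := by
      apply (isMittagLeffler_iff.1 (hG i)) κ Q
      ext k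
      apply hof i (Q k)
      rw [← piRightHom_natural_apply, hx]
      simp
    rw [this, map_zero]

end DirectLimit

end Groth.Agent.Lib.Helper21.ML
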