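import Mathlib
import Groth.Agent.Lib.Helper21.MittagLeffler2

/-!
# Mittag-Leffler modules: free, projective and finitely presented modules; finite f.p. base rings
-/

open TensorProduct

universe u

namespace Groth.Agent.Lib.Helper21.ML

section Basic

variable {R : Type u} [CommRing R]

/-- Mittag-Leffler is invariant under linear equivalence. -/
theorem of_linearEquiv {M₁ M₂ : Type u} [AddCommGroup M₁] [Module R M₁] [AddCommGroup M₂]
    [Module R M₂] (e : M₁ ≃ₗ[R] M₂) (h : CAlg.IsMittagLeffler R M₂) : CAlg.IsMittagLeffler R M₁ :=
  of_universallyInjective e.toLinearMap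
    (universallyInjective_of_leftInverse _ e.symm.toLinearMap (by ext x; simp)) h

/-- The ring itself is Mittag-Leffler. -/
theorem self : CAlg.IsMittagLeffler R R := by
  rw [isMittagLeffler_iff]
  intro ι Q _ _ x hx
  obtain ⟨q, rfl⟩ : ∃ q, x = (1 : R) ⊗ₜ[R] q :=
    ⟨TensorProduct.lid R _ x, by
      apply (TensorProduct.lid R _).injective
      simp⟩
  have : q = 0 := by
    ext i
    have h1 := congrFun hx i
    rw [piRightHom_tmul] at h1
    have h2 := congrArg (TensorProduct.lid R (Q i)) h1
    simpa using h2
  rw [this, tmul_zero]

open Classical in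
/-- Free modules `ι →₀ R` are Mittag-Leffler. -/
theorem finsupp (ι : Type u) : CAlg.IsMittagLeffler R (ι →₀ R) :=
  of_linearEquiv (finsuppLEquivDirectSum R R ι)
    ((directSum_iff (fun _ : ι => R)).2 fun _ => self)

/-- Projective modules are Mittag-Leffler. -/
theorem of_projective (P : Type u) [AddCommGroup P] [Module R P] [Module.Projective R P] :
    CAlg.IsMittagLeffler R P := by
  obtain ⟨s, hs⟩ := Module.projective_def'.1 (inferInstance : Module.Projective R P)
  exact of_universallyInjective s (universallyInjective_of_leftInverse s _ hs) (finsupp P)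

/-- Finitely presented modules are Mittag-Leffler. -/
theorem of_finitePresentation (P : Type u) [AddCommGroup P] [Module R P]
    [Module.FinitePresentation R P] : CAlg.IsMittagLeffler R P := by
  obtain ⟨n, K, e, hK⟩ := Module.FinitePresentation.exists_fin R P
  exact of_linearEquiv e (quotient_of_fg K hK (of_projective (Fin n → R)))

/-- For finitely presented `P` the map `P ⊗ ∏ Q i → ∏ P ⊗ Q i` is bijective. -/
theorem piRightHom_bijective_of_finitePresentation (P : Type u) [AddCommGroup P] [Module R P]
    [Module.FinitePresentation R P] {ι : Type u} (Q : ι → Type u) [∀ i, AddCommGroup (Q i)]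
    [∀ i, Module R (Q i)] : Function.Bijective (piRightHom R R P Q) :=
  ⟨of_finitePresentation P ι Q, piRightHom_surjective_of_finite Q⟩

end Basic

section RestrictScalars

variable (R S : Type u) [CommRing R] [CommRing S] [Algebra R S]

/-- Restriction of scalars, abstract form. -/
theorem restrictScalars_of_lTensor_injective
    (M : Type u) [AddCommGroup M] [Module S M] [Module R M] [IsScalarTower R S M]
    (hM : CAlg.IsMittagLeffler S M)
    (H : ∀ (ι : Type u) (Q : ι → Type u) [∀ i, AddCommGroup (Q i)] [∀ i, Module R (Q i)],
      Function.Injective ((piRightHom R S S Q).lTensor M)) :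
    CAlg.IsMittagLeffler R M := by
  rw [isMittagLeffler_iff]
  intro ι Q _ _ x hx
  have key : ∀ (y : M ⊗[S] (S ⊗[R] (∀ i, Q i))) (i : ι),
      AlgebraTensorModule.cancelBaseChange R S S M (Q i)
        (piRightHom S S M (fun i => S ⊗[R] Q i) ((piRightHom R S S Q).lTensor M y) i) =
      piRightHom R R M Q (AlgebraTensorModule.cancelBaseChange R S S M (∀ i, Q i) y) i := by
    intro y i
    induction y using TensorProduct.induction_on with
    | zero => simp
    | tmul m t =>
      induction t using TensorProduct.induction_on with
      | zero => simp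
      | tmul s q => simp
      | add a b ha hb =>
        simp only [tmul_add, map_add, Pi.add_apply] at ha hb ⊢
        rw [ha, hb]
    | add a b ha hb =>
      simp only [map_add, Pi.add_apply] at ha hb ⊢
      rw [ha, hb]
  obtain ⟨y, rfl⟩ := (AlgebraTensorModule.cancelBaseChange R S S M (∀ i, Q i)).surjective x
  have h1 : piRightHom S S M (fun i => S ⊗[R] Q i) ((piRightHom R S S Q).lTensor M y) = 0 := by
    ext i
    apply (AlgebraTensorModule.cancelBaseChange R S S M (Q i)).injective
    rw [key, hx]
    simp
  have h2 : (piRightHom R S S Q).lTensor M y = 0 :=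
    (isMittagLeffler_iff.1 hM) ι (fun i => S ⊗[R] Q i) _ h1
  have h3 : y = 0 := by
    apply H ι Q
    rw [h2, map_zero]
  rw [h3, map_zero]

/-- S6344 (module form). -/
theorem restrictScalars_of_finitePresentation [Module.FinitePresentation R S]
    (M : Type u) [AddCommGroup M] [Module S M] [Module R M] [IsScalarTower R S M]
    (hM : CAlg.IsMittagLeffler S M) : CAlg.IsMittagLeffler R M := by
  apply restrictScalars_of_lTensor_injective R S M hM
  intro ι Q _ _
  have hbij : Function.Bijective (piRightHom R S S Q) := by
    have := piRightHom_bijective_of_finitePresentation (R := R) S Q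
    constructor
    · intro a b hab
      apply this.1
      rw [← piRightHom_eq_piRightHom R S S Q a, ← piRightHom_eq_piRightHom R S S Q b, hab]
    · intro z
      obtain ⟨a, ha⟩ := this.2 z
      exact ⟨a, by rw [piRightHom_eq_piRightHom, ha]⟩
  have h := (LinearEquiv.lTensor M (LinearEquiv.ofBijective (piRightHom R S S Q) hbij)).injective
  intro a b hab
  apply h
  have hc := LinearEquiv.coe_lTensor M (LinearEquiv.ofBijective (piRightHom R S S Q) hbij)
  have ha : (LinearEquiv.lTensor M (LinearEquiv.ofBijective (piRightHom R S S Q) hbij)) a =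
      (piRightHom R S S Q).lTensor M a := by
    rw [← LinearEquiv.coe_coe, hc]; rfl
  have hb : (LinearEquiv.lTensor M (LinearEquiv.ofBijective (piRightHom R S S Q) hbij)) b =
      (piRightHom R S S Q).lTensor M b := by
    rw [← LinearEquiv.coe_coe, hc]; rfl
  rw [ha, hb, hab]

end RestrictScalars

section Quotient

variable (R : Type u) [CommRing R]

/-- S6345. -/
theorem iff_of_quotient_fg_ideal (I : Ideal R) (hI : I.FG)
    (M : Type u) [AddCommGroup M] [Module (R ⧸ I) M] [Module R M] [IsScalarTower R (R ⧸ I) M] :
    CAlg.IsMittagLeffler R M ↔ CAlg.IsMittagLeffler (R ⧸ I) M := by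
  constructor
  · intro h
    have hbc := baseChange R (R ⧸ I) M h
    let g : M →ₗ[R ⧸ I] (R ⧸ I) ⊗[R] M :=
      { toFun := fun m => (1 : R ⧸ I) ⊗ₜ[R] m
        map_add' := fun a b => tmul_add _ _ _
        map_smul' := fun s m => by
          obtain ⟨r, rfl⟩ := Ideal.Quotient.mk_surjective s
          have h1 : (Ideal.Quotient.mk I r) • m = r • m := by
            rw [← Ideal.Quotient.algebraMap_eq, algebraMap_smul]
          rw [h1, RingHom.id_apply, TensorProduct.tmul_smul, TensorProduct.smul_tmul',
            TensorProduct.smul_tmul']
          congr 1 }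
    refine of_universallyInjective g
      (universallyInjective_of_leftInverse g
        (LinearMap.liftBaseChange (R ⧸ I) (LinearMap.id : M →ₗ[R] M)) ?_) hbc
    ext m
    simp [g]
  · intro h
    have : Module.FinitePresentation R (R ⧸ I) :=
      Module.finitePresentation_of_surjective (Submodule.mkQ I) (Submodule.mkQ_surjective I)
        (by rw [Submodule.ker_mkQ]; exact hI)
    exact restrictScalars_of_finitePresentation R (R ⧸ I) M h

end Quotient

end Groth.Agent.Lib.Helper21.ML
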