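import Mathlib
import Groth.Agent.Lib.Helper21.MittagLeffler4

/-!
# Finitely presented approximation of vanishing tensors, domination, purity
-/

open TensorProduct

universe u

namespace Groth.Agent.Lib.Helper21.ML

variable {R : Type u} [CommRing R]

lemma span_range_single (n : Type*) [Fintype n] [DecidableEq n] :
    Submodule.span R (Set.range (fun i : n => (Pi.single i 1 : n → R))) = ⊤ := by
  have : (fun i : n => (Pi.single i 1 : n → R)) = ⇑(Pi.basisFun R n) := by
    ext i
    simp
  rw [this, Module.Basis.span_eq]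

/-- A vanishing sum of pure tensors vanishes trivially after enlarging the family. -/
lemma exists_vanishesTrivially_extend {M X : Type*} [AddCommGroup M] [Module R M]
    [AddCommGroup X] [Module R X] {n : ℕ} (μ : Fin n → M) (x : Fin n → X)
    (h : ∑ i, μ i ⊗ₜ[R] x i = 0) :
    ∃ (n' : ℕ) (μ' : Fin n' → M),
      TensorProduct.VanishesTrivially R (Sum.elim μ μ') (Sum.elim x (0 : Fin n' → X)) := by
  let P : Submodule R M := Submodule.span R (Set.range μ)
  have hP : P.FG := Submodule.fg_span (Set.finite_range μ)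
  have hμP : ∀ i, μ i ∈ P := fun i => Submodule.subset_span ⟨i, rfl⟩
  let t : P ⊗[R] X := ∑ i, (⟨μ i, hμP i⟩ : P) ⊗ₜ[R] x i
  have ht : P.subtype.rTensor X t = 0 := by
    simp only [t, map_sum, LinearMap.rTensor_tmul, Submodule.subtype_apply]
    exact h
  obtain ⟨Q, hPQ, hQ, hQt⟩ := TensorProduct.eq_zero_of_fg_of_subtype_eq_zero hP ht
  have : Module.Finite R Q := Module.Finite.iff_fg.2 hQ
  obtain ⟨n', ν, hν⟩ := Module.Finite.exists_fin (R := R) (M := Q)
  let μQ : Fin n → Q := fun i => ⟨μ i, hPQ (hμP i)⟩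
  have hspan : Submodule.span R (Set.range (Sum.elim μQ ν)) = ⊤ := by
    rw [eq_top_iff, ← hν]
    apply Submodule.span_mono
    rintro _ ⟨i, rfl⟩
    exact ⟨Sum.inr i, rfl⟩
  have hsum : ∑ s, (Sum.elim μQ ν s) ⊗ₜ[R] (Sum.elim x (0 : Fin n' → X) s) = 0 := by
    rw [Fintype.sum_sum_type]
    simp only [Sum.elim_inl, Sum.elim_inr, Pi.zero_apply, tmul_zero, Finset.sum_const_zero,
      add_zero]
    simp only [t, map_sum, LinearMap.rTensor_tmul] at hQt
    exact hQt
  obtain ⟨k, a, y, h1, h2⟩ := TensorProduct.vanishesTrivially_of_sum_tmul_eq_zero R hspan hsum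
  refine ⟨n', fun i => (ν i : M), k, a, y, h1, fun j => ?_⟩
  have h3 := congrArg (Q.subtype) (h2 j)
  rw [map_sum, map_zero] at h3
  rw [← h3]
  refine Finset.sum_congr rfl fun s _ => ?_
  rw [map_smul]
  congr 1
  cases s <;> rfl

/-- Lemma C₀: a finite free source. -/
lemma exists_factor_fin {M X : Type u} [AddCommGroup M] [Module R M] [AddCommGroup X]
    [Module R X] {n : ℕ} (φ : (Fin n → R) →ₗ[R] M) (w : (Fin n → R) ⊗[R] X)
    (hw : φ.rTensor X w = 0) :
    ∃ (Q : Type u) (_ : AddCommGroup Q) (_ : Module R Q) (_ : Module.FinitePresentation R Q)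
      (g : (Fin n → R) →ₗ[R] Q) (c : Q →ₗ[R] M), c ∘ₗ g = φ ∧ g.rTensor X w = 0 := by
  classical
  obtain ⟨x, rfl⟩ := exists_sum_tmul_of_span_eq_top (R := R)
    (fun i : Fin n => (Pi.single i 1 : Fin n → R)) (span_range_single (Fin n)) X w
  let μ : Fin n → M := fun i => φ (Pi.single i 1)
  have hμ : ∑ i, μ i ⊗ₜ[R] x i = 0 := by
    simpa only [map_sum, LinearMap.rTensor_tmul] using hw
  obtain ⟨n', μ', k, a, y, h1, h2⟩ := exists_vanishesTrivially_extend μ x hμ
  let K : Submodule R ((Fin n ⊕ Fin n') → R) :=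
    Submodule.span R (Set.range fun j : Fin k => (fun s => a s j))
  have hK : K.FG := Submodule.fg_span (Set.finite_range _)
  have hfp : Module.FinitePresentation R (((Fin n ⊕ Fin n') → R) ⧸ K) :=
    Module.finitePresentation_of_surjective K.mkQ K.mkQ_surjective
      (by rw [Submodule.ker_mkQ]; exact hK)
  let ext0 : (Fin n → R) →ₗ[R] ((Fin n ⊕ Fin n') → R) :=
    LinearMap.pi (Sum.elim (fun i => LinearMap.proj i) (fun _ => 0))
  have hext0 : ∀ (i : Fin n) (r : R), ext0 (Pi.single i r) = Pi.single (Sum.inl i) r := by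
    intro i r
    ext s
    cases s with
    | inl j =>
      change (Pi.single i r : Fin n → R) j = _
      by_cases hij : j = i
      · subst hij; simp
      · rw [Pi.single_eq_of_ne hij, Pi.single_eq_of_ne (by simpa using hij)]
    | inr j =>
      change (0 : R) = _
      rw [Pi.single_eq_of_ne (by simp)]
  let ψ : ((Fin n ⊕ Fin n') → R) →ₗ[R] M := Fintype.linearCombination R (Sum.elim μ μ')
  have hψ : ∀ c, ψ c = ∑ s, c s • Sum.elim μ μ' s := fun c =>
    Fintype.linearCombination_apply R _ c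
  have hle : K ≤ LinearMap.ker ψ := by
    apply Submodule.span_le.2
    rintro _ ⟨j, rfl⟩
    rw [SetLike.mem_coe, LinearMap.mem_ker, hψ]
    exact h2 j
  refine ⟨((Fin n ⊕ Fin n') → R) ⧸ K, inferInstance, inferInstance, hfp, K.mkQ ∘ₗ ext0,
    K.liftQ ψ hle, ?_, ?_⟩
  · apply LinearMap.pi_ext
    intro i r
    simp only [LinearMap.comp_apply, hext0, Submodule.mkQ_apply, Submodule.liftQ_apply]
    rw [hψ, Finset.sum_eq_single (Sum.inl i)]
    · simp only [Pi.single_eq_same, Sum.elim_inl, μ]
      rw [← map_smul]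
      congr 1
      ext j
      simp [Pi.single_apply]
    · intro s _ hs
      rw [Pi.single_eq_of_ne hs, zero_smul]
    · intro h
      exact absurd (Finset.mem_univ _) h
  · simp only [map_sum, LinearMap.rTensor_tmul, LinearMap.comp_apply, hext0]
    have hV : TensorProduct.VanishesTrivially R
        (fun s : Fin n ⊕ Fin n' => K.mkQ (Pi.single s 1)) (Sum.elim x (0 : Fin n' → X)) := by
      refine ⟨k, a, y, h1, fun j => ?_⟩
      simp only [← map_smul, ← map_sum]
      rw [Submodule.mkQ_apply, Submodule.Quotient.mk_eq_zero]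
      apply Submodule.subset_span
      refine ⟨j, ?_⟩
      ext s
      rw [Finset.sum_apply, Finset.sum_eq_single s]
      · simp
      · intro s' _ hs'
        simp [Pi.single_eq_of_ne' hs']
      · intro h
        exact absurd (Finset.mem_univ _) h
    have h0 := TensorProduct.sum_tmul_eq_zero_of_vanishesTrivially R hV
    rw [Fintype.sum_sum_type] at h0
    simpa using h0

/-- Lemma C: a map from a finitely presented module killing a tensor factors through a finitely
presented module which already kills the tensor. -/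
lemma exists_factor {P M X : Type u} [AddCommGroup P] [Module R P] [Module.FinitePresentation R P]
    [AddCommGroup M] [Module R M] [AddCommGroup X]
    [Module R X] (φ : P →ₗ[R] M) (w : P ⊗[R] X) (hw : φ.rTensor X w = 0) :
    ∃ (Q : Type u) (_ : AddCommGroup Q) (_ : Module R Q) (_ : Module.FinitePresentation R Q)
      (g : P →ₗ[R] Q) (c : Q →ₗ[R] M), c ∘ₗ g = φ ∧ g.rTensor X w = 0 := by
  obtain ⟨n, K₀, e, hK₀⟩ := Module.FinitePresentation.exists_fin R P
  let π : (Fin n → R) →ₗ[R] P := e.symm.toLinearMap ∘ₗ K₀.mkQ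
  have hπ : Function.Surjective π := e.symm.surjective.comp K₀.mkQ_surjective
  have hπK : ∀ k ∈ K₀, π k = 0 := by
    intro k hk
    change e.symm (K₀.mkQ k) = 0
    rw [Submodule.mkQ_apply, (Submodule.Quotient.mk_eq_zero K₀).2 hk, map_zero]
  obtain ⟨w', rfl⟩ := LinearMap.rTensor_surjective X hπ w
  have hw' : (φ ∘ₗ π).rTensor X w' = 0 := by
    rw [LinearMap.rTensor_comp, LinearMap.comp_apply, hw]
  obtain ⟨Q₀, _, _, _, g₀, c₀, hc₀, hg₀⟩ := exists_factor_fin (φ ∘ₗ π) w' hw'
  let K₁ : Submodule R Q₀ := K₀.map g₀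
  have hK₁ : K₁.FG := hK₀.map g₀
  have hfp : Module.FinitePresentation R (Q₀ ⧸ K₁) :=
    Module.finitePresentation_of_surjective K₁.mkQ K₁.mkQ_surjective
      (by rw [Submodule.ker_mkQ]; exact hK₁)
  have hle₁ : K₁ ≤ LinearMap.ker c₀ := by
    rintro _ ⟨k, hk, rfl⟩
    rw [LinearMap.mem_ker, ← LinearMap.comp_apply, hc₀, LinearMap.comp_apply, hπK k hk, map_zero]
  have hle₀ : K₀ ≤ LinearMap.ker (K₁.mkQ ∘ₗ g₀) := by
    intro k hk
    rw [LinearMap.mem_ker, LinearMap.comp_apply, Submodule.mkQ_apply,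
      Submodule.Quotient.mk_eq_zero]
    exact ⟨k, hk, rfl⟩
  let g : P →ₗ[R] Q₀ ⧸ K₁ := (K₀.liftQ (K₁.mkQ ∘ₗ g₀) hle₀) ∘ₗ e.toLinearMap
  have hgπ : g ∘ₗ π = K₁.mkQ ∘ₗ g₀ := by
    ext x
    simp [g, π]
  refine ⟨Q₀ ⧸ K₁, inferInstance, inferInstance, hfp, g, K₁.liftQ c₀ hle₁, ?_, ?_⟩
  · rw [← LinearMap.cancel_right hπ, LinearMap.comp_assoc, hgπ, ← LinearMap.comp_assoc,
      Submodule.liftQ_mkQ, hc₀]
  · rw [← LinearMap.comp_apply, ← LinearMap.rTensor_comp, hgπ, LinearMap.rTensor_comp,
      LinearMap.comp_apply, hg₀, map_zero]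

/-- Lemma C with the test module on the left. -/
lemma exists_factor' {P M X : Type u} [AddCommGroup P] [Module R P] [Module.FinitePresentation R P]
    [AddCommGroup M] [Module R M] [AddCommGroup X]
    [Module R X] (φ : P →ₗ[R] M) (w : X ⊗[R] P) (hw : φ.lTensor X w = 0) :
    ∃ (Q : Type u) (_ : AddCommGroup Q) (_ : Module R Q) (_ : Module.FinitePresentation R Q)
      (g : P →ₗ[R] Q) (c : Q →ₗ[R] M), c ∘ₗ g = φ ∧ g.lTensor X w = 0 := by
  have h1 : φ.rTensor X (TensorProduct.comm R X P w) = 0 := by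
    rw [LinearMap.rTensor_comm, hw, map_zero]
  obtain ⟨Q, i1, i2, i3, g, c, hc, hg⟩ := exists_factor φ _ h1
  refine ⟨Q, i1, i2, i3, g, c, hc, ?_⟩
  rw [LinearMap.rTensor_comm] at hg
  exact (TensorProduct.comm R X Q).injective (by rw [hg, map_zero])

/-- Lemma A (S6360): domination can be tested on finitely presented modules. -/
theorem dominates_of_finitePresentation {M N M' : Type u}
    [AddCommGroup M] [Module R M] [AddCommGroup N] [Module R N] [AddCommGroup M'] [Module R M']
    (f : M →ₗ[R] N) (g : M →ₗ[R] M')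
    (H : ∀ (Q : Type u) [AddCommGroup Q] [Module R Q], Module.FinitePresentation R Q →
        LinearMap.ker (f.rTensor Q) ≤ LinearMap.ker (g.rTensor Q))
    (Q : Type u) [AddCommGroup Q] [Module R Q] :
    LinearMap.ker (f.rTensor Q) ≤ LinearMap.ker (g.rTensor Q) := by
  classical
  intro z hz
  rw [LinearMap.mem_ker] at hz ⊢
  obtain ⟨n, m, q, rfl⟩ := TensorProduct.exists_sum_tmul_eq z
  let φ : (Fin n → R) →ₗ[R] Q := Fintype.linearCombination R q
  have hφ : ∀ i, φ (Pi.single i 1) = q i := by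
    intro i
    simp [φ, Fintype.linearCombination_apply, Pi.single_apply]
  let z' : M ⊗[R] (Fin n → R) := ∑ i, m i ⊗ₜ[R] (Pi.single i 1 : Fin n → R)
  have hz' : φ.lTensor M z' = ∑ i, m i ⊗ₜ[R] q i := by
    simp only [z', map_sum, LinearMap.lTensor_tmul, hφ]
  have h1 : φ.lTensor N (f.rTensor _ z') = 0 := by
    rw [← LinearMap.comp_apply, LinearMap.lTensor_comp_rTensor, ← LinearMap.rTensor_comp_lTensor,
      LinearMap.comp_apply, hz', hz]
  obtain ⟨Q₂, _, _, hfp, γ, c, hc, hγ⟩ := exists_factor' φ _ h1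
  have h2 : f.rTensor Q₂ (γ.lTensor M z') = 0 := by
    rw [← LinearMap.comp_apply, LinearMap.rTensor_comp_lTensor, ← LinearMap.lTensor_comp_rTensor,
      LinearMap.comp_apply, hγ]
  have h3 : g.rTensor Q₂ (γ.lTensor M z') = 0 := H Q₂ hfp h2
  rw [← hz', ← hc, LinearMap.lTensor_comp, LinearMap.comp_apply, ← LinearMap.comp_apply,
    LinearMap.rTensor_comp_lTensor, ← LinearMap.lTensor_comp_rTensor, LinearMap.comp_apply, h3,
    map_zero]

/-- Purity can be tested on finitely presented modules. -/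
theorem universallyInjective_of_finitePresentation {A B : Type u}
    [AddCommGroup A] [Module R A] [AddCommGroup B] [Module R B] (f : A →ₗ[R] B)
    (H : ∀ (Q : Type u) [AddCommGroup Q] [Module R Q], Module.FinitePresentation R Q →
        Function.Injective (f.rTensor Q)) : CAlgX.UniversallyInjective R f := by
  intro Q _ _
  rw [injective_iff_map_eq_zero]
  intro z hz
  have := dominates_of_finitePresentation f (LinearMap.id : A →ₗ[R] A)
    (fun Q' _ _ hQ' z' hz' => by
      rw [LinearMap.mem_ker] at hz' ⊢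
      rw [H Q' hQ' (hz'.trans (map_zero _).symm), map_zero]) Q (LinearMap.mem_ker.2 hz)
  rw [LinearMap.mem_ker, LinearMap.rTensor_id, LinearMap.id_apply] at this
  exact this

/-- Purity with the test module on the left. -/
theorem lTensor_injective_of_universallyInjective {A B : Type u}
    [AddCommGroup A] [Module R A] [AddCommGroup B] [Module R B] (f : A →ₗ[R] B)
    (hf : CAlgX.UniversallyInjective R f) (Q : Type u) [AddCommGroup Q] [Module R Q] :
    Function.Injective (f.lTensor Q) :=
  (LinearMap.lTensor_inj_iff_rTensor_inj Q f).2 (hf Q)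


end Groth.Agent.Lib.Helper21.ML
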