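import Mathlib
import Groth.Agent.Lib.Helper21.MittagLeffler6

/-!
# Mittag-Leffler modules and domination by maps to finitely presented modules
-/

open TensorProduct

universe u

namespace Groth.Agent.Lib.Helper21.ML

variable {R : Type u} [CommRing R]

/-- Factorizations of `f` through a finitely presented module in normal form. -/
structure Fac {P M : Type u} [AddCommGroup P] [Module R P] [AddCommGroup M] [Module R M]
    (f : P →ₗ[R] M) : Type u where
  n : ℕ
  K : Submodule R (Fin n → R)
  hK : K.FG
  g : P →ₗ[R] (Fin n → R) ⧸ K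
  c : ((Fin n → R) ⧸ K) →ₗ[R] M
  h : c ∘ₗ g = f

lemma Fac.finitePresentation {P M : Type u} [AddCommGroup P] [Module R P] [AddCommGroup M]
    [Module R M] {f : P →ₗ[R] M} (i : Fac f) :
    Module.FinitePresentation R ((Fin i.n → R) ⧸ i.K) :=
  Module.finitePresentation_of_surjective i.K.mkQ i.K.mkQ_surjective
    (by rw [Submodule.ker_mkQ]; exact i.hK)

lemma ker_rTensor_le_of_comp {P Q M : Type*} [AddCommGroup P] [Module R P] [AddCommGroup Q]
    [Module R Q] [AddCommGroup M] [Module R M] (g : P →ₗ[R] Q) (c : Q →ₗ[R] M) (N : Type*)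
    [AddCommGroup N] [Module R N] :
    LinearMap.ker (g.rTensor N) ≤ LinearMap.ker ((c ∘ₗ g).rTensor N) := by
  intro y hy
  rw [LinearMap.mem_ker] at hy ⊢
  rw [LinearMap.rTensor_comp, LinearMap.comp_apply, hy, map_zero]

/-- A Mittag-Leffler module satisfies the domination condition. -/
theorem exists_dominating (M : Type u) [AddCommGroup M] [Module R M]
    (hM : CAlg.IsMittagLeffler R M) (P : Type u) [AddCommGroup P] [Module R P]
    [Module.FinitePresentation R P] (f : P →ₗ[R] M) :
    ∃ (Q : Type u) (_ : AddCommGroup Q) (_ : Module R Q) (_ : Module.FinitePresentation R Q)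
      (g : P →ₗ[R] Q), ∀ (N : Type u) [AddCommGroup N] [Module R N],
        LinearMap.ker (f.rTensor N) = LinearMap.ker (g.rTensor N) := by
  by_contra hcon
  have key : ∀ i : Fac f, ∃ (N : Type u) (_ : AddCommGroup N) (_ : Module R N) (y : P ⊗[R] N),
      f.rTensor N y = 0 ∧ i.g.rTensor N y ≠ 0 := by
    intro i
    by_contra hi
    apply hcon
    refine ⟨_, inferInstance, inferInstance, i.finitePresentation, i.g, ?_⟩
    intro N _ _
    apply le_antisymm
    · intro y hy
      by_contra hy2
      exact hi ⟨N, inferInstance, inferInstance, y, hy, hy2⟩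
    · have := ker_rTensor_le_of_comp i.g i.c N
      rwa [i.h] at this
  choose N iA iM y hy1 hy2 using key
  obtain ⟨y', hy'⟩ := piRightHom_surjective_of_finite (R := R) (N := P) N y
  have hz : f.rTensor (∀ i, N i) y' = 0 := by
    apply (isMittagLeffler_iff.1 hM) (Fac f) N
    ext i
    rw [piRightHom_natural_apply, hy', hy1]
    rfl
  obtain ⟨Q, _, _, hQ, g, c, hc, hg⟩ := exists_factor f y' hz
  obtain ⟨n, K, e, hK⟩ := Module.FinitePresentation.exists_fin R Q
  let i₀ : Fac f :=
    { n := n, K := K, hK := hK, g := e.toLinearMap ∘ₗ g, c := c ∘ₗ e.symm.toLinearMap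
      h := by
        rw [← hc]
        ext x
        simp }
  have h1 : i₀.g.rTensor (∀ i, N i) y' = 0 := by
    change (e.toLinearMap ∘ₗ g).rTensor (∀ i, N i) y' = 0
    rw [LinearMap.rTensor_comp, LinearMap.comp_apply, hg, map_zero]
  have h2 := piRightHom_natural_apply i₀.g N y' i₀
  rw [h1, hy', map_zero] at h2
  exact hy2 i₀ h2.symm

/-- The domination condition for finite free modules implies Mittag-Leffler. -/
theorem of_forall_finiteFree_dominate (M : Type u) [AddCommGroup M] [Module R M]
    (H : ∀ (n : ℕ) (f : (Fin n → R) →ₗ[R] M),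
        ∃ (Q : Type u) (_ : AddCommGroup Q) (_ : Module R Q) (_ : Module.FinitePresentation R Q)
          (g : (Fin n → R) →ₗ[R] Q),
          ∀ (N : Type u) [AddCommGroup N] [Module R N],
            LinearMap.ker (f.rTensor N) = LinearMap.ker (g.rTensor N)) :
    CAlg.IsMittagLeffler R M := by
  classical
  rw [isMittagLeffler_iff]
  intro ι Q' _ _ z hz
  obtain ⟨n, m, q, rfl⟩ := TensorProduct.exists_sum_tmul_eq z
  let f : (Fin n → R) →ₗ[R] M := Fintype.linearCombination R m
  have hf : ∀ i, f (Pi.single i 1) = m i := by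
    intro i
    simp [f, Fintype.linearCombination_apply, Pi.single_apply]
  let z' : (Fin n → R) ⊗[R] (∀ i, Q' i) := ∑ k, (Pi.single k 1 : Fin n → R) ⊗ₜ[R] q k
  have hz' : f.rTensor _ z' = ∑ k, m k ⊗ₜ[R] q k := by
    simp only [z', map_sum, LinearMap.rTensor_tmul, hf]
  obtain ⟨Q, _, _, hQ, g, hg⟩ := H n f
  have h1 : g.rTensor _ z' = 0 := by
    apply (isMittagLeffler_iff.1 (of_finitePresentation (R := R) Q)) ι Q'
    ext i
    rw [piRightHom_natural_apply]
    have : piRightHom R R (Fin n → R) Q' z' i ∈ LinearMap.ker (g.rTensor (Q' i)) := by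
      rw [← hg (Q' i), LinearMap.mem_ker, ← piRightHom_natural_apply, hz', hz]
      rfl
    exact this
  have h2 : z' ∈ LinearMap.ker (f.rTensor (∀ i, Q' i)) := by
    rw [hg, LinearMap.mem_ker, h1]
  rw [← hz']
  exact h2

end Groth.Agent.Lib.Helper21.ML
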