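import Mathlib
import Groth.Agent.Lib.Helper21.MittagLeffler8

/-!
# Domination and factorization when the cokernel is finitely presented
-/

open TensorProduct

universe u

namespace Groth.Agent.Lib.Helper21.ML

variable {R : Type u} [CommRing R]

/-- Lifting a linear map along a surjection. -/
lemma exists_lift_of_surjective {A B C : Type*} [AddCommGroup A] [Module R A] [AddCommGroup B]
    [Module R B] [AddCommGroup C] [Module R C] (π : A →ₗ[R] B) (hπ : Function.Surjective π)
    (h' : A →ₗ[R] C) (hle : LinearMap.ker π ≤ LinearMap.ker h') :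
    ∃ h : B →ₗ[R] C, h ∘ₗ π = h' := by
  refine ⟨(LinearMap.ker π).liftQ h' hle ∘ₗ (π.quotKerEquivOfSurjective hπ).symm.toLinearMap, ?_⟩
  ext a
  have : (π.quotKerEquivOfSurjective hπ).symm (π a) = Submodule.Quotient.mk a := by
    rw [LinearEquiv.symm_apply_eq, LinearMap.quotKerEquivOfSurjective_apply_mk]
  simp [this]

/-- Lemma B: solving a linear system from the vanishing of a tensor in a finitely presented
quotient. -/
lemma exists_solution_of_sum_tmul_eq_zero {X : Type*} [AddCommGroup X] [Module R X] {s t : ℕ}
    (ρ : Fin s → (Fin t → R)) (x : Fin t → X)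
    (h : ∑ b, x b ⊗ₜ[R] (Submodule.span R (Set.range ρ)).mkQ (Pi.single b 1) = 0) :
    ∃ u : Fin s → X, ∀ b, x b = ∑ a, ρ a b • u a := by
  classical
  set K := Submodule.span R (Set.range ρ) with hKdef
  have hspan : Submodule.span R (Set.range fun b : Fin t => K.mkQ (Pi.single b 1)) = ⊤ := by
    have h1 := congrArg (Submodule.map K.mkQ) (span_range_single (R := R) (Fin t))
    rw [Submodule.map_span, Submodule.map_top, Submodule.range_mkQ, ← Set.range_comp] at h1
    exact h1
  have hsum : ∑ b, K.mkQ (Pi.single b 1) ⊗ₜ[R] x b = 0 := by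
    have := congrArg (TensorProduct.comm R X _) h
    simpa using this
  obtain ⟨k, A, y, h1, h2⟩ := TensorProduct.vanishesTrivially_of_sum_tmul_eq_zero R hspan hsum
  have h3 : ∀ j, (fun b => A b j) ∈ K := by
    intro j
    have := h2 j
    simp only [← map_smul, ← map_sum] at this
    rw [Submodule.mkQ_apply, Submodule.Quotient.mk_eq_zero] at this
    convert this using 1
    ext b
    rw [Finset.sum_apply, Finset.sum_eq_single b]
    · simp
    · intro b' _ hb'
      simp [Pi.single_eq_of_ne' hb']
    · intro hb
      exact absurd (Finset.mem_univ _) hb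
  have h4 : ∀ j, ∃ c : Fin s → R, ∑ a, c a • ρ a = (fun b => A b j) := fun j =>
    (Submodule.mem_span_range_iff_exists_fun R).1 (h3 j)
  choose c hc using h4
  refine ⟨fun a => ∑ j, c j a • y j, fun b => ?_⟩
  rw [h1 b]
  simp only [Finset.smul_sum, smul_smul]
  rw [Finset.sum_comm]
  refine Finset.sum_congr rfl fun j _ => ?_
  rw [← Finset.sum_smul]
  congr 1
  have := congrFun (hc j) b
  simp only [Finset.sum_apply, Pi.smul_apply, smul_eq_mul] at this
  rw [← this]
  refine Finset.sum_congr rfl fun a _ => ?_
  ring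

/-- Domination implies `ker f ≤ ker g`. -/
lemma ker_le_ker_of_dominates {M N M' : Type u}
    [AddCommGroup M] [Module R M] [AddCommGroup N] [Module R N] [AddCommGroup M'] [Module R M']
    (f : M →ₗ[R] N) (g : M →ₗ[R] M')
    (H : ∀ (Q : Type u) [AddCommGroup Q] [Module R Q],
      LinearMap.ker (f.rTensor Q) ≤ LinearMap.ker (g.rTensor Q)) :
    LinearMap.ker f ≤ LinearMap.ker g := by
  intro m hm
  rw [LinearMap.mem_ker] at hm ⊢
  have h1 : m ⊗ₜ[R] (1 : R) ∈ LinearMap.ker (f.rTensor R) := by
    rw [LinearMap.mem_ker, LinearMap.rTensor_tmul, hm, zero_tmul]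
  have h2 := H R h1
  rw [LinearMap.mem_ker, LinearMap.rTensor_tmul] at h2
  have := congrArg (TensorProduct.rid R M') h2
  simpa using this

/-- S6359. -/
theorem dominates_iff_factors {M N M' : Type u}
    [AddCommGroup M] [Module R M] [AddCommGroup N] [Module R N] [AddCommGroup M'] [Module R M']
    (f : M →ₗ[R] N) (g : M →ₗ[R] M') [Module.FinitePresentation R (N ⧸ LinearMap.range f)] :
    (∀ (Q : Type u) [AddCommGroup Q] [Module R Q],
      LinearMap.ker (f.rTensor Q) ≤ LinearMap.ker (g.rTensor Q)) ↔
      ∃ h : N →ₗ[R] M', g = h ∘ₗ f := by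
  classical
  constructor
  · intro H
    obtain ⟨s, K, e, hK⟩ := Module.FinitePresentation.exists_fin R (N ⧸ LinearMap.range f)
    obtain ⟨t, r, hr⟩ := Submodule.fg_iff_exists_fin_generating_family.1 hK
    -- lift the generators
    have hn : ∀ a : Fin s, ∃ n : N, (LinearMap.range f).mkQ n = e.symm (K.mkQ (Pi.single a 1)) :=
      fun a => (LinearMap.range f).mkQ_surjective _
    choose n hn using hn
    let ν : (Fin s → R) →ₗ[R] N := Fintype.linearCombination R n
    have hν : ∀ c, ν c = ∑ a, c a • n a := fun c => Fintype.linearCombination_apply R _ c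
    have hνq : (LinearMap.range f).mkQ ∘ₗ ν = e.symm.toLinearMap ∘ₗ K.mkQ := by
      apply LinearMap.pi_ext
      intro a x
      have hx : (Pi.single a x : Fin s → R) = x • Pi.single a 1 := by
        ext a'
        simp [Pi.single_apply]
      rw [hx, map_smul, map_smul, LinearMap.comp_apply, LinearMap.comp_apply, hν]
      congr 1
      rw [Finset.sum_eq_single a]
      · simp [hn]
      · intro a' _ ha'
        simp [Pi.single_eq_of_ne ha']
      · intro ha
        exact absurd (Finset.mem_univ _) ha
    have hνK : ∀ c, ν c ∈ LinearMap.range f ↔ c ∈ K := by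
      intro c
      rw [← Submodule.Quotient.mk_eq_zero, ← Submodule.mkQ_apply, ← LinearMap.comp_apply, hνq,
        LinearMap.comp_apply, LinearEquiv.coe_coe, LinearEquiv.map_eq_zero_iff, Submodule.mkQ_apply,
        Submodule.Quotient.mk_eq_zero]
    have hrK : ∀ b, r b ∈ K := fun b => hr ▸ Submodule.subset_span ⟨b, rfl⟩
    have hm : ∀ b, ∃ m : M, f m = ν (r b) := fun b => (hνK (r b)).2 (hrK b)
    choose m hm using hm
    -- the linear system
    let ρ : Fin s → (Fin t → R) := fun a b => r b a
    let Q := (Fin t → R) ⧸ Submodule.span R (Set.range ρ)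
    let z : M ⊗[R] Q := ∑ b, m b ⊗ₜ[R] (Submodule.span R (Set.range ρ)).mkQ (Pi.single b 1)
    have hz : f.rTensor Q z = 0 := by
      simp only [z, map_sum, LinearMap.rTensor_tmul, hm, hν, TensorProduct.sum_tmul]
      rw [Finset.sum_comm]
      refine Finset.sum_eq_zero fun a _ => ?_
      simp only [TensorProduct.smul_tmul]
      rw [← TensorProduct.tmul_sum]
      have : ∑ b, r b a • (Submodule.span R (Set.range ρ)).mkQ (Pi.single b 1) = 0 := by
        simp only [← map_smul, ← map_sum]
        rw [Submodule.mkQ_apply, Submodule.Quotient.mk_eq_zero]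
        apply Submodule.subset_span
        refine ⟨a, ?_⟩
        ext b
        rw [Finset.sum_apply, Finset.sum_eq_single b]
        · simp [ρ]
        · intro b' _ hb'
          simp [Pi.single_eq_of_ne' hb']
        · intro hb
          exact absurd (Finset.mem_univ _) hb
      rw [this, tmul_zero]
    have hgz : g.rTensor Q z = 0 := H Q (LinearMap.mem_ker.2 hz)
    simp only [z, map_sum, LinearMap.rTensor_tmul] at hgz
    obtain ⟨u, hu⟩ := exists_solution_of_sum_tmul_eq_zero ρ (fun b => g (m b)) hgz
    -- the lift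
    let π : M × (Fin s → R) →ₗ[R] N := f.coprod ν
    have hπ : Function.Surjective π := by
      intro y
      obtain ⟨c, hc⟩ := K.mkQ_surjective (e ((LinearMap.range f).mkQ y))
      have h1 : (LinearMap.range f).mkQ (y - ν c) = 0 := by
        rw [map_sub, ← LinearMap.comp_apply, hνq, LinearMap.comp_apply, hc]
        simp
      rw [Submodule.mkQ_apply, Submodule.Quotient.mk_eq_zero] at h1
      obtain ⟨m₀, hm₀⟩ := h1
      refine ⟨(m₀, c), ?_⟩
      rw [LinearMap.coprod_apply, hm₀]
      simp
    let υ : (Fin s → R) →ₗ[R] M' := Fintype.linearCombination R u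
    have hυ : ∀ c, υ c = ∑ a, c a • u a := fun c => Fintype.linearCombination_apply R _ c
    let h' : M × (Fin s → R) →ₗ[R] M' := g.coprod υ
    have hkerfg := ker_le_ker_of_dominates f g H
    have hle : LinearMap.ker π ≤ LinearMap.ker h' := by
      rintro ⟨m₀, c⟩ hmc
      rw [LinearMap.mem_ker, LinearMap.coprod_apply] at hmc ⊢
      simp only at hmc ⊢
      have hcK : c ∈ K := by
        rw [← hνK]
        have : ν c = f (-m₀) := by
          rw [map_neg]
          exact eq_neg_of_add_eq_zero_right hmc
        exact ⟨-m₀, this.symm⟩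
      rw [← hr] at hcK
      obtain ⟨d, rfl⟩ := (Submodule.mem_span_range_iff_exists_fun R).1 hcK
      have h1 : f (m₀ + ∑ b, d b • m b) = 0 := by
        rw [map_add, map_sum]
        simp only [map_smul, hm]
        rw [← hmc]
        congr 1
        simp only [map_sum, map_smul]
      have h2 : g (m₀ + ∑ b, d b • m b) = 0 := hkerfg h1
      rw [← h2, map_add]
      congr 1
      simp only [map_sum, map_smul]
      refine Finset.sum_congr rfl fun b _ => ?_
      congr 1
      rw [hu b, hυ]
    obtain ⟨h, hh⟩ := exists_lift_of_surjective π hπ h' hle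
    refine ⟨h, ?_⟩
    ext m₀
    have := LinearMap.congr_fun hh (m₀, 0)
    simp only [LinearMap.comp_apply, π, h', LinearMap.coprod_apply, map_zero, add_zero] at this
    exact this.symm
  · rintro ⟨h, rfl⟩ Q _ _
    exact ker_rTensor_le_of_comp f h Q

end Groth.Agent.Lib.Helper21.ML
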