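import Groth.Agent.Lib.Helper21.ChartPt4

/-!
# Heights of primes versus heights in quotients by primes; dimension bounds for finitely
generated algebras over a field
-/

set_option autoImplicit false
set_option linter.style.haveILetI false
set_option linter.unusedSectionVars false
universe u

namespace Groth.Agent.Lib.Helper21.ChartPt

section Height

variable {R : Type u} [CommRing R]

theorem comap_map_mk (p₀ q : Ideal R) (h : p₀ ≤ q) :
    (q.map (Ideal.Quotient.mk p₀)).comap (Ideal.Quotient.mk p₀) = q := by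
  rw [Ideal.comap_map_of_surjective' _ Ideal.Quotient.mk_surjective, Ideal.mk_ker]
  exact sup_eq_left.mpr h

theorem map_mk_isPrime (p₀ q : Ideal R) [q.IsPrime] (h : p₀ ≤ q) :
    (q.map (Ideal.Quotient.mk p₀)).IsPrime :=
  Ideal.map_isPrime_of_surjective Ideal.Quotient.mk_surjective (by rwa [Ideal.mk_ker])

/-- `ht (q/p₀) ≤ ht q`. -/
theorem height_map_mk_le (p₀ q : Ideal R) [q.IsPrime] (h : p₀ ≤ q) :
    (q.map (Ideal.Quotient.mk p₀)).height ≤ q.height := by
  haveI := map_mk_isPrime p₀ q h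
  let f : PrimeSpectrum (R ⧸ p₀) → PrimeSpectrum R := PrimeSpectrum.comap (Ideal.Quotient.mk p₀)
  have hf : StrictMono f := by
    intro a b hab
    exact (Ideal.orderEmbeddingOfSurjective (Ideal.Quotient.mk p₀)
      Ideal.Quotient.mk_surjective).strictMono hab
  have h1 := Order.height_le_height_apply_of_strictMono f hf
    (⟨q.map (Ideal.Quotient.mk p₀), inferInstance⟩ : PrimeSpectrum (R ⧸ p₀))
  have h2 : f ⟨q.map (Ideal.Quotient.mk p₀), inferInstance⟩ = ⟨q, inferInstance⟩ :=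
    PrimeSpectrum.ext (comap_map_mk p₀ q h)
  rw [h2, ← PrimeSpectrum.height_eq_orderHeight, ← PrimeSpectrum.height_eq_orderHeight] at h1
  exact h1

/-- There is a prime `p₀ ≤ q` with `ht (q/p₀) = ht q`. -/
theorem exists_le_height_map_mk_eq (q : Ideal R) [q.IsPrime] [q.FiniteHeight] :
    ∃ p₀ : Ideal R, p₀.IsPrime ∧ p₀ ≤ q ∧ (q.map (Ideal.Quotient.mk p₀)).height = q.height := by
  obtain ⟨l, hlast, hlen⟩ := Ideal.exists_ltSeries_length_eq_height q
  refine ⟨l.head.asIdeal, l.head.2, ?_, ?_⟩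
  · have := l.head_le_last
    rw [hlast] at this
    exact this
  · have hle : l.head.asIdeal ≤ q := by
      have := l.head_le_last
      rw [hlast] at this
      exact this
    refine le_antisymm (height_map_mk_le _ q hle) ?_
    haveI := map_mk_isPrime l.head.asIdeal q hle
    let l' : LTSeries (PrimeSpectrum (R ⧸ l.head.asIdeal)) :=
      LTSeries.mk l.length
        (fun i => ⟨(l i).asIdeal.map (Ideal.Quotient.mk l.head.asIdeal),
          map_mk_isPrime _ _ (l.head_le i)⟩)
        (by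
          intro i j hij
          have h1 : l i < l j := l.strictMono hij
          refine lt_of_le_of_ne (Ideal.map_mono h1.le) ?_
          intro heq
          have h2 := congrArg (fun p : PrimeSpectrum (R ⧸ l.head.asIdeal) =>
            p.asIdeal.comap (Ideal.Quotient.mk l.head.asIdeal)) heq
          simp only [comap_map_mk _ _ (l.head_le i), comap_map_mk _ _ (l.head_le j)] at h2
          exact h1.ne (PrimeSpectrum.ext h2))
    have h3 : l'.last = ⟨q.map (Ideal.Quotient.mk l.head.asIdeal), inferInstance⟩ := by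
      apply PrimeSpectrum.ext
      change (l.last).asIdeal.map _ = _
      rw [hlast]
    have h4 := Order.length_le_height_last (p := l')
    rw [h3, ← PrimeSpectrum.height_eq_orderHeight] at h4
    rw [← hlen]
    exact h4

end Height

section FG

variable (k : Type u) [Field k] (A : Type u) [CommRing A] [Algebra k A] [Algebra.FiniteType k A]

include k

/-- The dimension of a finitely generated domain over a field is a natural number. -/
theorem exists_nat_ringKrullDim_quotient_eq (p : Ideal A) [p.IsPrime] :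
    ∃ n : ℕ, ringKrullDim (A ⧸ p) = n := by
  haveI := finiteType_quotient k A p
  obtain ⟨s, g, hinj, hfin⟩ := exists_finite_inj_algHom_of_fg k (A ⧸ p)
  have hint : ∀ b : A ⧸ p, g.toRingHom.IsIntegralElem b := fun b => hfin.to_isIntegral b
  exact ⟨s, Groth.Agent.Lib.Helper22.ringKrullDim_eq_of_finite_inj s g hinj hint⟩

/-- natural number form of the dimension formula -/
theorem exists_nat_height_map_mk (p₀ p : Ideal A) [p₀.IsPrime] [p.IsPrime] (h : p₀ ≤ p)
    (n₀ n : ℕ) (hn₀ : ringKrullDim (A ⧸ p₀) = n₀) (hn : ringKrullDim (A ⧸ p) = n) :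
    ∃ c : ℕ, (p.map (Ideal.Quotient.mk p₀)).height = c ∧ n₀ = c + n := by
  have hF := ringKrullDim_quotient_eq_height_add k A p₀ p h
  rw [hn₀, hn] at hF
  have hne : (p.map (Ideal.Quotient.mk p₀)).height ≠ ⊤ := by
    intro htop
    rw [htop] at hF
    have : ((n₀ : ℕ∞) : WithBot ℕ∞) = ((⊤ : ℕ∞) : WithBot ℕ∞) := by
      rw [show ((n₀ : ℕ∞) : WithBot ℕ∞) = (n₀ : WithBot ℕ∞) from rfl, hF,
        show ((n : ℕ) : WithBot ℕ∞) = ((n : ℕ∞) : WithBot ℕ∞) from rfl, ← WithBot.coe_add,
        top_add]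
    exact ENat.natCast_ne_top n₀ (WithBot.coe_inj.mp this)
  obtain ⟨c, hc⟩ := ENat.ne_top_iff_exists.mp hne
  refine ⟨c, hc.symm, ?_⟩
  rw [← hc] at hF
  have h1 : ((n₀ : ℕ∞) : WithBot ℕ∞) = (((c + n : ℕ) : ℕ∞) : WithBot ℕ∞) := by
    push_cast
    exact hF
  exact_mod_cast WithBot.coe_inj.mp h1

/-- **Lower bound**: if `ht q = b` and `dim A/q = a`, every maximal ideal containing `q` has
height at least `a + b`. -/
theorem add_le_height_of_isMaximal (q m : Ideal A) [q.IsPrime] [hm : m.IsMaximal] (hqm : q ≤ m)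
    (a b : ℕ) (ha : ringKrullDim (A ⧸ q) = a) (hb : q.height = b) :
    ((a + b : ℕ) : ℕ∞) ≤ m.height := by
  haveI : IsNoetherianRing A := Algebra.FiniteType.isNoetherianRing k A
  obtain ⟨p₀, hp₀, hp₀q, hht⟩ := exists_le_height_map_mk_eq q
  obtain ⟨n₀, hn₀⟩ := exists_nat_ringKrullDim_quotient_eq k A p₀
  obtain ⟨c, hc, hn₀c⟩ := exists_nat_height_map_mk k A p₀ q hp₀q n₀ a hn₀ ha
  have hcb : c = b := by
    rw [hht, hb] at hc
    exact_mod_cast hc.symm
  have h1 := height_map_mk_eq_ringKrullDim_of_isMaximal k A p₀ m (hp₀q.trans hqm)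
  rw [hn₀] at h1
  have h2 : (m.map (Ideal.Quotient.mk p₀)).height = n₀ := by
    have : (((m.map (Ideal.Quotient.mk p₀)).height : ℕ∞) : WithBot ℕ∞) =
        ((n₀ : ℕ∞) : WithBot ℕ∞) := h1
    exact WithBot.coe_inj.mp this
  calc ((a + b : ℕ) : ℕ∞) = n₀ := by rw [hn₀c, hcb, add_comm]
    _ = (m.map (Ideal.Quotient.mk p₀)).height := h2.symm
    _ ≤ m.height := height_map_mk_le p₀ m (hp₀q.trans hqm)

/-- **Upper bound**: if `ht q = b`, `dim A/q = a` and `f` lies in every minimal prime not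
contained in `q`, then every prime not containing `f` has height at most `a + b`. -/
theorem height_le_add_of_notMem (q : Ideal A) [q.IsPrime]
    (a b : ℕ) (ha : ringKrullDim (A ⧸ q) = a) (hb : q.height = b) (f : A)
    (hf : ∀ p ∈ minimalPrimes A, ¬ p ≤ q → f ∈ p) (q' : Ideal A) [q'.IsPrime] (hfq' : f ∉ q') :
    q'.height ≤ ((a + b : ℕ) : ℕ∞) := by
  haveI : IsNoetherianRing A := Algebra.FiniteType.isNoetherianRing k A
  obtain ⟨p₀, hp₀, hp₀q', hht⟩ := exists_le_height_map_mk_eq q'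
  obtain ⟨p₁, hp₁min, hp₁p₀⟩ := Ideal.exists_minimalPrimes_le (bot_le : (⊥ : Ideal A) ≤ p₀)
  haveI hp₁ : p₁.IsPrime := hp₁min.1.1
  have hp₁q : p₁ ≤ q := by
    by_contra hcon
    exact hfq' (hp₀q' (hp₁p₀ (hf p₁ hp₁min hcon)))
  obtain ⟨n₁, hn₁⟩ := exists_nat_ringKrullDim_quotient_eq k A p₁
  obtain ⟨n₀, hn₀⟩ := exists_nat_ringKrullDim_quotient_eq k A p₀
  obtain ⟨n', hn'⟩ := exists_nat_ringKrullDim_quotient_eq k A q'
  obtain ⟨c₁, hc₁, e₁⟩ := exists_nat_height_map_mk k A p₁ q hp₁q n₁ a hn₁ ha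
  obtain ⟨c₂, hc₂, e₂⟩ := exists_nat_height_map_mk k A p₁ p₀ hp₁p₀ n₁ n₀ hn₁ hn₀
  obtain ⟨c₃, hc₃, e₃⟩ := exists_nat_height_map_mk k A p₀ q' hp₀q' n₀ n' hn₀ hn'
  have hc₁b : c₁ ≤ b := by
    have := height_map_mk_le p₁ q hp₁q
    rw [hc₁, hb] at this
    exact_mod_cast this
  rw [← hht, hc₃]
  have : c₃ ≤ a + b := by omega
  exact_mod_cast this

end FG

end Groth.Agent.Lib.Helper21.ChartPt
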