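import Mathlib
import Groth.Agent.Lib.Helper22.FibreDim

/-!
# Fibre dimension, ring level I: transcendence degrees of quotient domains, fibre rings, and
Noether normalisation of a fibre lifted to the total ring (Stacks 00QE-style)
-/

set_option autoImplicit false
universe u

open Algebra TensorProduct Polynomial

namespace Groth.Agent.Lib.Helper21.FibDim

/-- Transcendence degree of an extension of domains equals that of the fraction fields. -/
theorem trdeg_eq_of_isFractionRing (R B K L : Type u) [CommRing R] [CommRing B] [IsDomain R]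
    [IsDomain B] [Field K] [Field L] [Algebra R B] [Algebra R K] [Algebra B L] [Algebra K L]
    [Algebra R L] [IsScalarTower R B L] [IsScalarTower R K L] [IsFractionRing R K]
    [IsFractionRing B L] (hinj : Function.Injective (algebraMap R B)) :
    Algebra.trdeg R B = Algebra.trdeg K L := by
  have : FaithfulSMul R B := (faithfulSMul_iff_algebraMap_injective R B).mpr hinj
  have : FaithfulSMul B L := (faithfulSMul_iff_algebraMap_injective B L).mpr
    (IsFractionRing.injective B L)
  have : FaithfulSMul R K := (faithfulSMul_iff_algebraMap_injective R K).mpr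
    (IsFractionRing.injective R K)
  have : FaithfulSMul K L := (faithfulSMul_iff_algebraMap_injective K L).mpr
    (algebraMap K L).injective
  have a1 : Algebra.IsAlgebraic B L := IsLocalization.isAlgebraic L (nonZeroDivisors B)
  have a2 : Algebra.IsAlgebraic R K := IsLocalization.isAlgebraic K (nonZeroDivisors R)
  have e1 := trdeg_add_eq R B (A := L)
  have e2 := trdeg_add_eq R K (A := L)
  rw [trdeg_eq_zero (R := B) (A := L), add_zero] at e1
  rw [trdeg_eq_zero (R := R) (A := K), zero_add] at e2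
  rw [e1, e2]

theorem isAlgebraic_of_mul_eq {R S : Type*} [CommRing R] [CommRing S] [Algebra R S]
    (x : S) (a b : R) (ha : a ≠ 0) (h : algebraMap R S a * x = algebraMap R S b) :
    IsAlgebraic R x := by
  refine ⟨C a * X - C b, fun eq => ha ?_, by simp [h]⟩
  have := congr(coeff $eq 1)
  simpa using this

variable (A B : Type u) [CommRing A] [CommRing B] [Algebra A B]

theorem trdeg_fiber_quotient_aux (C : Type u) [CommRing C] (p : Ideal A) [p.IsPrime]
    [Algebra p.ResidueField C] [Algebra A C] [IsScalarTower A p.ResidueField C]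
    (ι : B →ₐ[A] C) (hsurj : ∀ c : C, ∃ r ∉ p, ∃ s, r • c = ι s)
    (Q : Ideal C) [Q.IsPrime] (q : Ideal B) [q.IsPrime] [q.LiesOver p]
    (hq : Q.comap ι.toRingHom = q) :
    Algebra.trdeg p.ResidueField (C ⧸ Q) = Algebra.trdeg (A ⧸ p) (B ⧸ q) := by
  let ψ : B ⧸ q →+* C ⧸ Q := Ideal.quotientMap Q ι.toRingHom (le_of_eq hq.symm)
  have hψ : Function.Injective ψ := Ideal.quotientMap_injective' (le_of_eq hq)
  let _ : Algebra (B ⧸ q) (C ⧸ Q) := ψ.toAlgebra
  let _ : Algebra (A ⧸ p) (C ⧸ Q) := (ψ.comp (algebraMap (A ⧸ p) (B ⧸ q))).toAlgebra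
  have t1 : IsScalarTower (A ⧸ p) (B ⧸ q) (C ⧸ Q) :=
    IsScalarTower.of_algebraMap_eq fun _ => rfl
  have t2 : IsScalarTower (A ⧸ p) p.ResidueField (C ⧸ Q) := by
    refine IsScalarTower.of_algebraMap_eq fun x => ?_
    obtain ⟨a, rfl⟩ := Ideal.Quotient.mk_surjective x
    change Ideal.Quotient.mk Q (ι (algebraMap A B a)) =
      Ideal.Quotient.mk Q (algebraMap p.ResidueField C
        (algebraMap (A ⧸ p) p.ResidueField (Ideal.Quotient.mk p a)))
    congr 1
    rw [ι.commutes, IsScalarTower.algebraMap_apply A p.ResidueField C]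
    rfl
  have f1 : FaithfulSMul (B ⧸ q) (C ⧸ Q) :=
    (faithfulSMul_iff_algebraMap_injective _ _).mpr hψ
  have f2 : FaithfulSMul p.ResidueField (C ⧸ Q) :=
    (faithfulSMul_iff_algebraMap_injective _ _).mpr (algebraMap p.ResidueField (C ⧸ Q)).injective
  have f3 : FaithfulSMul (A ⧸ p) p.ResidueField :=
    (faithfulSMul_iff_algebraMap_injective _ _).mpr (IsFractionRing.injective _ _)
  have a2 : Algebra.IsAlgebraic (A ⧸ p) p.ResidueField :=
    IsLocalization.isAlgebraic p.ResidueField (nonZeroDivisors (A ⧸ p))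
  have a1 : Algebra.IsAlgebraic (B ⧸ q) (C ⧸ Q) := by
    refine ⟨fun x => ?_⟩
    obtain ⟨c, rfl⟩ := Ideal.Quotient.mk_surjective x
    obtain ⟨r, hr, s, hrs⟩ := hsurj c
    refine isAlgebraic_of_mul_eq _ (Ideal.Quotient.mk q (algebraMap A B r))
      (Ideal.Quotient.mk q s) ?_ ?_
    · rw [Ne, Ideal.Quotient.eq_zero_iff_mem, ← Ideal.mem_comap, ← Ideal.under_def,
        ← Ideal.over_def q p]
      exact hr
    · change Ideal.Quotient.mk Q (ι (algebraMap A B r)) * Ideal.Quotient.mk Q c =
        Ideal.Quotient.mk Q (ι s)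
      rw [← map_mul, ← hrs, ι.commutes, Algebra.smul_def]
  have e1 := trdeg_add_eq (A ⧸ p) (B ⧸ q) (A := C ⧸ Q)
  have e2 := trdeg_add_eq (A ⧸ p) p.ResidueField (A := C ⧸ Q)
  rw [trdeg_eq_zero (R := B ⧸ q) (A := C ⧸ Q), add_zero] at e1
  rw [trdeg_eq_zero (R := A ⧸ p) (A := p.ResidueField), zero_add] at e2
  rw [e1, e2]

/-- The transcendence degree over `κ(p)` of a quotient domain of the fibre ring is the relative
transcendence degree of the corresponding prime. -/
theorem trdeg_fiber_quotient (p : Ideal A) [p.IsPrime] (Q : Ideal (p.Fiber B)) [Q.IsPrime]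
    (q : Ideal B) [q.IsPrime] [q.LiesOver p]
    (hq : Q.comap Algebra.TensorProduct.includeRight.toRingHom = q) :
    Algebra.trdeg p.ResidueField (p.Fiber B ⧸ Q) = Algebra.trdeg (A ⧸ p) (B ⧸ q) := by
  refine trdeg_fiber_quotient_aux A B (p.Fiber B) p Algebra.TensorProduct.includeRight ?_ Q q hq
  intro c
  obtain ⟨r, hr, s, hrs⟩ := Ideal.Fiber.exists_smul_eq_one_tmul p c
  exact ⟨r, hr, s, hrs⟩

/-- lifting a Noether normalisation of the fibre ring -/
theorem exists_algHom_of_finite_fiber (p : Ideal A) [p.IsPrime] (d : ℕ)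
    (g : MvPolynomial (Fin d) p.ResidueField →ₐ[p.ResidueField] p.ResidueField ⊗[A] B)
    (hg : g.toRingHom.Finite) :
    ∃ π : MvPolynomial (Fin d) A →ₐ[A] B,
      (Algebra.TensorProduct.map (AlgHom.id p.ResidueField p.ResidueField) π).toRingHom.Finite := by
  classical
  choose r hr b hrb using fun i : Fin d => Ideal.Fiber.exists_smul_eq_one_tmul p (g (MvPolynomial.X i))
  let R : A := ∏ i, r i
  have hR : R ∉ p := by
    intro h
    obtain ⟨i, -, hi⟩ := (Ideal.IsPrime.prod_mem_iff).mp h
    exact hr i hi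
  let b' : Fin d → B := fun i => (∏ j ∈ Finset.univ.erase i, r j) • b i
  have hb' : ∀ i, R • g (MvPolynomial.X i) = (1 : p.ResidueField) ⊗ₜ[A] b' i := by
    intro i
    have : R = (∏ j ∈ Finset.univ.erase i, r j) * r i := by
      rw [mul_comm]; exact (Finset.mul_prod_erase _ _ (Finset.mem_univ i)).symm
    rw [this, mul_smul, hrb i, TensorProduct.smul_tmul']
    rw [TensorProduct.smul_tmul]
  let ρ : p.ResidueField := algebraMap A p.ResidueField R
  have hρ : ρ ≠ 0 := by
    intro h
    exact hR ((Ideal.algebraMap_residueField_eq_zero).mp h)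
  let π : MvPolynomial (Fin d) A →ₐ[A] B := MvPolynomial.aeval b'
  refine ⟨π, ?_⟩
  let T := Algebra.TensorProduct.map (AlgHom.id p.ResidueField p.ResidueField) π
  let h : MvPolynomial (Fin d) p.ResidueField →ₐ[p.ResidueField]
      p.ResidueField ⊗[A] MvPolynomial (Fin d) A :=
    MvPolynomial.aeval (fun i => ρ⁻¹ ⊗ₜ[A] (MvPolynomial.X i))
  have hcomp : T.comp h = g := by
    apply MvPolynomial.algHom_ext
    intro i
    change T (h (MvPolynomial.X i)) = _
    simp only [h, MvPolynomial.aeval_X, T, Algebra.TensorProduct.map_tmul, AlgHom.coe_id, id_eq, π]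
    have h1 : ρ⁻¹ ⊗ₜ[A] b' i = ρ⁻¹ • ((1 : p.ResidueField) ⊗ₜ[A] b' i) := by
      rw [TensorProduct.smul_tmul', smul_eq_mul, mul_one]
    rw [h1, ← hb' i]
    have h2 : R • g (MvPolynomial.X i) = ρ • g (MvPolynomial.X i) := by
      rw [algebraMap_smul]
    rw [h2, smul_smul, inv_mul_cancel₀ hρ, one_smul]
  have : T.toRingHom.comp h.toRingHom = g.toRingHom := by
    rw [← hcomp]; rfl
  exact RingHom.Finite.of_comp_finite (f := h.toRingHom) (this ▸ hg)

/-- Stacks-style: a finite type algebra whose fibre over `p` has dimension `d` admits a map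
from a polynomial ring in `d` variables which is finite on the fibre over `p`. -/
theorem exists_algHom_finite_fiber_of_ringKrullDim [Algebra.FiniteType A B]
    (p : Ideal A) [p.IsPrime] (d : ℕ) (hd : ringKrullDim (p.ResidueField ⊗[A] B) = d) :
    ∃ π : MvPolynomial (Fin d) A →ₐ[A] B,
      (Algebra.TensorProduct.map (AlgHom.id p.ResidueField p.ResidueField) π).toRingHom.Finite := by
  have hft : Algebra.FiniteType p.ResidueField (p.ResidueField ⊗[A] B) := inferInstance
  have hnt : Nontrivial (p.ResidueField ⊗[A] B) := by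
    by_contra hcon
    rw [not_nontrivial_iff_subsingleton] at hcon
    rw [ringKrullDim_eq_bot_of_subsingleton] at hd
    exact WithBot.bot_ne_coe.symm hd.symm |>.elim
  obtain ⟨s, g, hinj, hfin⟩ := exists_finite_inj_algHom_of_fg p.ResidueField (p.ResidueField ⊗[A] B)
  have hint : ∀ c : p.ResidueField ⊗[A] B, g.toRingHom.IsIntegralElem c :=
    fun c => hfin.to_isIntegral c
  have hs : ringKrullDim (p.ResidueField ⊗[A] B) = s :=
    Groth.Agent.Lib.Helper22.ringKrullDim_eq_of_finite_inj s g hinj hint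
  have hsd : s = d := by
    rw [hd] at hs
    exact_mod_cast hs.symm
  subst hsd
  exact exists_algHom_of_finite_fiber A B p s g hfin

end Groth.Agent.Lib.Helper21.FibDim
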