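import Mathlib
import Groth.Agent.Lib.Helper18.SchDim1
import Groth.Agent.Lib.Helper21.FibDimR1

set_option autoImplicit false
set_option linter.unusedSectionVars false
set_option linter.style.haveILetI false
universe u

namespace Groth.Agent.Lib.Helper21.DimLoc

open Groth.Agent.Lib.Helper18.DimFormula Groth.Agent.Lib.Helper21.FibDim
  Groth.Agent.Lib.Helper18.SchDim

section Trdeg

variable {A B A' B' : Type u} [CommRing A] [CommRing B] [CommRing A'] [CommRing B']
  [Algebra A B] [Algebra A A'] [Algebra B B'] [Algebra A' B'] [Algebra A B']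
  [IsScalarTower A A' B'] [IsScalarTower A B B']

theorem isAlgebraic_quotient_of_fraction {R R' : Type u} [CommRing R] [CommRing R'] [Algebra R R']
    (hR : ∀ x : R', ∃ s : R, IsUnit (algebraMap R R' s) ∧
      ∃ a : R, algebraMap R R' s * x = algebraMap R R' a)
    (P : Ideal R) (P' : Ideal R') [P'.IsPrime] [P'.LiesOver P] :
    Algebra.IsAlgebraic (R ⧸ P) (R' ⧸ P') := by
  refine ⟨fun x => ?_⟩
  obtain ⟨x, rfl⟩ := Ideal.Quotient.mk_surjective x
  obtain ⟨s, hs, a, hsa⟩ := hR x
  refine isAlgebraic_of_mul_eq _ (Ideal.Quotient.mk P s) (Ideal.Quotient.mk P a) ?_ ?_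
  · rw [Ne, Ideal.Quotient.eq_zero_iff_mem, Ideal.over_def P' P, Ideal.under_def, Ideal.mem_comap]
    intro h
    exact (Ideal.IsPrime.ne_top inferInstance) (Ideal.eq_top_of_isUnit_mem _ h hs)
  · rw [Ideal.Quotient.algebraMap_mk_of_liesOver, Ideal.Quotient.algebraMap_mk_of_liesOver,
      ← map_mul, hsa]

/-- transcendence degrees of residue extensions are insensitive to localisation -/
theorem trdeg_quotient_eq_of_fraction
    (hA : ∀ x : A', ∃ s : A, IsUnit (algebraMap A A' s) ∧
      ∃ a : A, algebraMap A A' s * x = algebraMap A A' a)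
    (hB : ∀ x : B', ∃ s : B, IsUnit (algebraMap B B' s) ∧
      ∃ b : B, algebraMap B B' s * x = algebraMap B B' b)
    (P : Ideal A) (Q : Ideal B) (P' : Ideal A') (Q' : Ideal B') [P.IsPrime] [Q.IsPrime]
    [P'.IsPrime] [Q'.IsPrime] [Q.LiesOver P] [P'.LiesOver P] [Q'.LiesOver P'] [Q'.LiesOver Q]
    [Q'.LiesOver P] :
    Algebra.trdeg (A' ⧸ P') (B' ⧸ Q') = Algebra.trdeg (A ⧸ P) (B ⧸ Q) := by
  have a1 : Algebra.IsAlgebraic (A ⧸ P) (A' ⧸ P') := isAlgebraic_quotient_of_fraction hA P P'
  have a2 : Algebra.IsAlgebraic (B ⧸ Q) (B' ⧸ Q') := isAlgebraic_quotient_of_fraction hB Q Q'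
  have e1 := trdeg_add_eq (A ⧸ P) (B ⧸ Q) (A := B' ⧸ Q')
  have e2 := trdeg_add_eq (A ⧸ P) (A' ⧸ P') (A := B' ⧸ Q')
  rw [trdeg_eq_zero (R := B ⧸ Q) (A := B' ⧸ Q'), add_zero] at e1
  rw [trdeg_eq_zero (R := A ⧸ P) (A := A' ⧸ P'), zero_add] at e2
  rw [e1, e2]

end Trdeg

theorem fraction_of_isLocalization {R R' : Type u} [CommRing R] [CommRing R'] [Algebra R R']
    (M : Submonoid R) [IsLocalization M R'] :
    ∀ x : R', ∃ s : R, IsUnit (algebraMap R R' s) ∧
      ∃ a : R, algebraMap R R' s * x = algebraMap R R' a := by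
  intro x
  obtain ⟨⟨a, s⟩, h⟩ := IsLocalization.surj M x
  exact ⟨s, IsLocalization.map_units R' s, a, by rw [mul_comm]; exact h⟩

/-- ring-level core of the local dimension inequality when only the local ring of the base at the
prime is Noetherian -/
theorem exists_minimalPrimes_dim_inequality_local (A B : Type u) [CommRing A]
    [CommRing B] [Algebra A B] [Algebra.FiniteType A B] (q : Ideal B) [hq : q.IsPrime]
    [IsNoetherianRing (Localization.AtPrime (q.under A))] :
    ∃ (Q₀ : Ideal B) (_ : Q₀.IsPrime), Q₀ ∈ minimalPrimes B ∧ Q₀ ≤ q ∧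
      (q.height : Cardinal.{u}) + Algebra.trdeg (A ⧸ q.under A) (B ⧸ q) ≤
        ((q.under A).height : Cardinal.{u}) + Algebra.trdeg (A ⧸ Q₀.under A) (B ⧸ Q₀) := by
  set p := q.under A with hp
  let M := p.primeCompl
  let A' := Localization.AtPrime p
  let N := Algebra.algebraMapSubmonoid B M
  let B' := Localization N
  have hft : Algebra.FiniteType A' B' := by
    have h0 : (algebraMap A B).FiniteType :=
      RingHom.finiteType_algebraMap.mpr (inferInstance : Algebra.FiniteType A B)
    have h1 : IsLocalization (M.map (algebraMap A B)) B' :=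
      (inferInstance : IsLocalization N (Localization N))
    have := RingHom.finiteType_localizationPreserves (algebraMap A B) M A' B' h0
    exact RingHom.finiteType_algebraMap.mp this
  have hdisj : Disjoint (N : Set B) (q : Set B) := by
    rw [Set.disjoint_left]
    rintro _ ⟨a, ha, rfl⟩ hb
    exact ha hb
  let q' := q.map (algebraMap B B')
  have hq'prime : q'.IsPrime := IsLocalization.isPrime_of_isPrime_disjoint N B' q hq hdisj
  have hq'under : q'.under B = q := IsLocalization.under_map_of_isPrime_disjoint N B' hq hdisj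
  obtain ⟨Q₀', hQ₀', hmin', hle', key⟩ := exists_minimalPrimes_dim_inequality A' B' q'
  let Q₀ := Q₀'.under B
  have hQ₀prime : Q₀.IsPrime := Ideal.comap_isPrime _ _
  have hQ₀le : Q₀ ≤ q := by
    rw [← hq'under]
    exact Ideal.comap_mono hle'
  have hQ₀disj : Disjoint (N : Set B) (Q₀ : Set B) :=
    Set.disjoint_of_subset_right hQ₀le hdisj
  have hQ₀map : Q₀.map (algebraMap B B') = Q₀' := IsLocalization.map_under N B' Q₀'
  have hQ₀min : Q₀ ∈ minimalPrimes B := by
    refine ⟨⟨hQ₀prime, bot_le⟩, fun P hP hPQ => ?_⟩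
    have hPprime : P.IsPrime := hP.1
    have hPdisj : Disjoint (N : Set B) (P : Set B) := Set.disjoint_of_subset_right hPQ hQ₀disj
    have hP'prime : (P.map (algebraMap B B')).IsPrime :=
      IsLocalization.isPrime_of_isPrime_disjoint N B' P hPprime hPdisj
    have h1 : P.map (algebraMap B B') ≤ Q₀' := by
      rw [← hQ₀map]
      exact Ideal.map_mono hPQ
    have h2 : Q₀' ≤ P.map (algebraMap B B') := hmin'.2 ⟨hP'prime, bot_le⟩ h1
    have h3 : Q₀ ≤ (P.map (algebraMap B B')).under B := Ideal.comap_mono h2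
    rwa [IsLocalization.under_map_of_isPrime_disjoint N B' hPprime hPdisj] at h3
  refine ⟨Q₀, hQ₀prime, hQ₀min, hQ₀le, ?_⟩
  -- heights
  have hht1 : q'.height = q.height := IsLocalization.height_map_of_disjoint N q hdisj
  have hunder : (q'.under A').under A = p := by
    rw [Ideal.under_under, ← Ideal.under_under (B := B), hq'under]
  have hht2 : (q'.under A').height = p.height := by
    rw [← IsLocalization.height_under M (q'.under A'), hunder]
  -- transcendence degrees
  have hA := fraction_of_isLocalization (R := A) (R' := A') M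
  have hB := fraction_of_isLocalization (R := B) (R' := B') N
  have l1 : (q'.under A').LiesOver p := ⟨hunder.symm⟩
  have l2 : q'.LiesOver q := ⟨hq'under.symm⟩
  have l3 : q'.LiesOver p := ⟨by rw [← Ideal.under_under (B := B), hq'under]⟩
  have ht1 : Algebra.trdeg (A' ⧸ q'.under A') (B' ⧸ q') = Algebra.trdeg (A ⧸ p) (B ⧸ q) :=
    trdeg_quotient_eq_of_fraction hA hB p q (q'.under A') q'
  have hunder0 : (Q₀'.under A').under A = Q₀.under A := by
    rw [Ideal.under_under, ← Ideal.under_under (B := B)]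
  have l4 : (Q₀'.under A').LiesOver (Q₀.under A) := ⟨hunder0.symm⟩
  have l5 : Q₀'.LiesOver Q₀ := ⟨rfl⟩
  have l6 : Q₀'.LiesOver (Q₀.under A) := ⟨by
    change (Q₀'.under B).under A = _
    rw [Ideal.under_under]⟩
  have ht2 : Algebra.trdeg (A' ⧸ Q₀'.under A') (B' ⧸ Q₀') =
      Algebra.trdeg (A ⧸ Q₀.under A) (B ⧸ Q₀) :=
    trdeg_quotient_eq_of_fraction hA hB (Q₀.under A) Q₀ (Q₀'.under A') Q₀'
  rw [ht1, ht2, hht1, hht2] at key
  exact key

/-- the same with any model of the localisation of the base -/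
theorem exists_minimalPrimes_dim_inequality_local' (A B : Type u) [CommRing A]
    [CommRing B] [Algebra A B] [Algebra.FiniteType A B] (q : Ideal B) [hq : q.IsPrime]
    (p : Ideal A) [hp : p.IsPrime] (hqp : q.under A = p) (A' : Type u) [CommRing A'] [Algebra A A']
    [IsLocalization.AtPrime A' p] [IsNoetherianRing A'] :
    ∃ (Q₀ : Ideal B) (_ : Q₀.IsPrime), Q₀ ∈ minimalPrimes B ∧ Q₀ ≤ q ∧
      (q.height : Cardinal.{u}) + Algebra.trdeg (A ⧸ q.under A) (B ⧸ q) ≤
        ((q.under A).height : Cardinal.{u}) + Algebra.trdeg (A ⧸ Q₀.under A) (B ⧸ Q₀) := by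
  subst hqp
  haveI : IsNoetherianRing (Localization.AtPrime (q.under A)) :=
    isNoetherianRing_of_ringEquiv A'
      (IsLocalization.algEquiv (q.under A).primeCompl A'
        (Localization.AtPrime (q.under A))).toRingEquiv
  exact exists_minimalPrimes_dim_inequality_local A B q

end Groth.Agent.Lib.Helper21.DimLoc
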