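import Mathlib
import Groth.Agent.Lib.Helper21.DimLoc1
import Groth.Agent.Lib.Helper21.FibDim3

set_option autoImplicit false
set_option linter.unusedSectionVars false
set_option linter.style.haveILetI false
universe u
open AlgebraicGeometry CategoryTheory TopologicalSpace

namespace Groth.Agent.Lib.Helper21.DimLoc

open Groth.Agent.Lib.Helper18.DimFormula Groth.Agent.Lib.Helper21.FibDim
  Groth.Agent.Lib.Helper18.SchDim
open Groth.Agent.Lib.Helper21.ChartPt Groth.Agent.Lib.Helper20.DimTrdeg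

variable {X S : Scheme.{u}} (f : X ⟶ S) [LocallyOfFiniteType f]

open Groth.Agent.Lib.Helper6.Chev in
/-- **Local dimension inequality** when only the local ring of the base is Noetherian, with the
generic point made explicit. -/
theorem exists_generic_stalk_dim_inequality (x : X)
    [IsNoetherianRing (S.presheaf.stalk (f x))] :
    ∃ ξ : X, closure {ξ} ∈ irreducibleComponents ↥X ∧ ξ ⤳ x ∧
      ∀ n E : ℕ, @Algebra.trdeg (S.residueField (f x)) (X.residueField x) _ _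
        (f.residueFieldMap x).hom.toAlgebra = n →
      @Algebra.trdeg (S.residueField (f ξ)) (X.residueField ξ) _ _
        (f.residueFieldMap ξ).hom.toAlgebra ≤ E →
      ringKrullDim (X.presheaf.stalk x) + n ≤ ringKrullDim (S.presheaf.stalk (f x)) + E := by
  obtain ⟨V, hV, hxV, -⟩ := Opens.isBasis_iff_nbhd.mp S.isBasis_affineOpens
    (show f x ∈ (⊤ : S.Opens) from trivial)
  have hV : IsAffineOpen V := hV
  obtain ⟨U, hU, hxU, e⟩ := Opens.isBasis_iff_nbhd.mp X.isBasis_affineOpens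
    (show x ∈ f ⁻¹ᵁ V from hxV)
  have hU : IsAffineOpen U := hU
  letI alg : Algebra Γ(S, V) Γ(X, U) := (f.appLE V U e).hom.toAlgebra
  haveI : Algebra.FiniteType Γ(S, V) Γ(X, U) :=
    HasRingHomProperty.appLE (P := @LocallyOfFiniteType) f inferInstance ⟨V, hV⟩ ⟨U, hU⟩ e
  letI := S.presheaf.algebra_section_stalk ⟨f x, e hxU⟩
  haveI := hV.isLocalization_stalk ⟨f x, e hxU⟩
  obtain ⟨Q₀, hQ₀, hmin, hle, key⟩ := exists_minimalPrimes_dim_inequality_local' Γ(S, V) Γ(X, U)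
    (hU.primeIdealOf ⟨x, hxU⟩).asIdeal (hV.primeIdealOf ⟨f x, e hxU⟩).asIdeal
    (comap_primeIdealOf f hU hV e x hxU) (S.presheaf.stalk (f x))
  let ξ : X := hU.fromSpec ⟨Q₀, hQ₀⟩
  have hξU : ξ ∈ U := (hU.isoSpec.inv _).2
  have hξ : hU.primeIdealOf ⟨ξ, hξU⟩ = ⟨Q₀, hQ₀⟩ :=
    hU.fromSpec.isOpenEmbedding.injective (hU.fromSpec_primeIdealOf ⟨ξ, hξU⟩)
  have hξ' : (hU.primeIdealOf ⟨ξ, hξU⟩).asIdeal = Q₀ := congrArg PrimeSpectrum.asIdeal hξ
  have hcomp : closure {ξ} ∈ irreducibleComponents ↥X :=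
    closure_mem_irreducibleComponents_of_minimalPrime U hU Q₀ hmin
  have hsp : ξ ⤳ x := (specializes_iff_primeIdealOf_le hU ⟨ξ, hξU⟩ ⟨x, hxU⟩).2 (by
    rw [hξ']; exact hle)
  refine ⟨ξ, hcomp, hsp, ?_⟩
  intro n E hn hEξ
  rw [trdeg_residueField f hU hV e ξ hξU] at hEξ
  have hEξ' : Algebra.trdeg (Γ(S, V) ⧸ Q₀.under Γ(S, V)) (Γ(X, U) ⧸ Q₀) ≤ E := by
    have := congrArg (fun I : Ideal Γ(X, U) =>
      Algebra.trdeg (Γ(S, V) ⧸ I.under Γ(S, V)) (Γ(X, U) ⧸ I)) hξ'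
    rw [← this]
    exact hEξ
  rw [trdeg_residueField f hU hV e x hxU] at hn
  rw [hn] at key
  have key2 : ((hU.primeIdealOf ⟨x, hxU⟩).asIdeal.height : Cardinal.{u}) + n ≤
      (((hU.primeIdealOf ⟨x, hxU⟩).asIdeal.under Γ(S, V)).height : Cardinal.{u}) + E :=
    key.trans (add_le_add le_rfl hEξ')
  have key3 : (hU.primeIdealOf ⟨x, hxU⟩).asIdeal.height + (n : ℕ∞) ≤
      ((hU.primeIdealOf ⟨x, hxU⟩).asIdeal.under Γ(S, V)).height + (E : ℕ∞) := by
    have h := key2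
    rw [← Cardinal.ofENat_nat n, ← Cardinal.ofENat_nat E, ← Cardinal.ofENat_add,
      ← Cardinal.ofENat_add, Cardinal.ofENat_le_ofENat] at h
    exact h
  rw [ringKrullDim_stalk_eq_height hU x hxU, ringKrullDim_stalk_eq_height hV (f x) (e hxU),
    ← comap_primeIdealOf f hU hV e x hxU]
  exact_mod_cast key3

omit [LocallyOfFiniteType f] in
/-- a point with a proper generisation has a local ring of positive dimension -/
theorem one_le_ringKrullDim_stalk_of_specializes {X : Scheme.{u}} {ξ x : X} (h : ξ ⤳ x)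
    (hne : ξ ≠ x) : 1 ≤ ringKrullDim (X.presheaf.stalk x) := by
  obtain ⟨U, hU, hxU, -⟩ := Opens.isBasis_iff_nbhd.mp X.isBasis_affineOpens
    (show x ∈ (⊤ : X.Opens) from trivial)
  have hU : IsAffineOpen U := hU
  have hξU : ξ ∈ U := h.mem_open U.2 hxU
  rw [ringKrullDim_stalk_eq_height hU x hxU]
  have hle : (hU.primeIdealOf ⟨ξ, hξU⟩).asIdeal ≤ (hU.primeIdealOf ⟨x, hxU⟩).asIdeal :=
    (specializes_iff_primeIdealOf_le hU ⟨ξ, hξU⟩ ⟨x, hxU⟩).1 h
  have hlt : (hU.primeIdealOf ⟨ξ, hξU⟩).asIdeal < (hU.primeIdealOf ⟨x, hxU⟩).asIdeal := by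
    refine lt_of_le_of_ne hle fun heq => hne ?_
    have h1 : hU.primeIdealOf ⟨ξ, hξU⟩ = hU.primeIdealOf ⟨x, hxU⟩ := PrimeSpectrum.ext heq
    have h2 := congrArg hU.fromSpec h1
    rw [hU.fromSpec_primeIdealOf, hU.fromSpec_primeIdealOf] at h2
    exact h2
  haveI := (hU.primeIdealOf ⟨ξ, hξU⟩).2
  haveI := (hU.primeIdealOf ⟨x, hxU⟩).2
  have h3 := Ideal.height_add_one_le_of_lt_of_isPrime hlt
  have h4 : (1 : ℕ∞) ≤ (hU.primeIdealOf ⟨x, hxU⟩).asIdeal.height :=
    le_trans (by simp) h3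
  exact_mod_cast h4

/-- the residue field extension at a point has transcendence degree at most the local fibre
dimension -/
theorem trdeg_le_of_fibreDimAt_eq (y : X) (m : ℕ) (hm : FlatMor.fibreDimAt f y = m) :
    @Algebra.trdeg (S.residueField (f y)) (X.residueField y) _ _
      (f.residueFieldMap y).hom.toAlgebra ≤ m := by
  obtain ⟨n, hn1, -, hn3⟩ := exists_fibreDimAt_eq_trdeg f y
  have hnm : n = m := by
    rw [hn1] at hm
    exact_mod_cast hm
  subst hnm
  exact hn3 y specializes_rfl rfl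

end Groth.Agent.Lib.Helper21.DimLoc
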