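import Mathlib
import Groth.Agent.Lib.Helper21.DimLoc2
import Groth.Agent.Lib.Helper18.SchDim5

/-!
# The dimension formula (equality) for a point of an irreducible scheme over a base whose local
ring is universally catenary
-/

set_option autoImplicit false
set_option linter.unusedSectionVars false
set_option linter.style.haveILetI false
universe u
open AlgebraicGeometry CategoryTheory TopologicalSpace

namespace Groth.Agent.Lib.Helper21.DimLoc

open Groth.Agent.Lib.Helper18.DimFormula Groth.Agent.Lib.Helper21.FibDim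
  Groth.Agent.Lib.Helper18.SchDim Groth.Agent.Lib.Helper12.Codim
open Groth.Agent.Lib.Helper21.ChartPt Groth.Agent.Lib.Helper20.DimTrdeg

/-- if `a` lies below everything below `b`, the height of `b` is the codimension of `a` in `b` -/
theorem cd_eq_height_of_forall_le {P : Type*} [PartialOrder P] (a b : P)
    (h : ∀ x : P, x ≤ b → a ≤ x) : cd a b = Order.height b := by
  refine le_antisymm (Groth.Agent.Lib.Helper18.CatHt.cd_le_height a b) ?_
  rw [Order.height_le_iff]
  intro s hs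
  by_cases h0 : s.head = a
  · exact le_cd s h0 hs
  · have hlt : a < s.head :=
      lt_of_le_of_ne (h _ ((LTSeries.head_le_last s).trans hs)) (Ne.symm h0)
    have h1 := le_cd (a := a) (b := b) (s.cons _ hlt)
      (RelSeries.head_cons _ _ _) (by rw [RelSeries.last_cons]; exact hs)
    rw [RelSeries.cons_length] at h1
    refine le_trans ?_ h1
    exact_mod_cast Nat.le_succ _

/-- ring version -/
theorem cd_eq_height_of_forall_prime_le {B : Type u} [CommRing B] (Q₀ q : Ideal B)
    [hQ₀ : Q₀.IsPrime] [hq : q.IsPrime] (h : ∀ P : Ideal B, P.IsPrime → P ≤ q → Q₀ ≤ P) :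
    cd (⟨Q₀, hQ₀⟩ : PrimeSpectrum B) ⟨q, hq⟩ = q.height := by
  rw [PrimeSpectrum.height_eq_orderHeight (⟨q, hq⟩ : PrimeSpectrum B)]
  exact cd_eq_height_of_forall_le _ _ fun x hx => h x.asIdeal x.2 hx

variable {X S : Scheme.{u}} (f : X ⟶ S) [LocallyOfFiniteType f]

/-- in an affine open of an irreducible scheme, the prime of the generic point lies below every
prime -/
theorem primeIdealOf_genericPoint_le [IrreducibleSpace X] {U : X.Opens} (hU : IsAffineOpen U)
    (hξU : genericPoint X ∈ U) (P : Ideal Γ(X, U)) [hP : P.IsPrime] :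
    (hU.primeIdealOf ⟨genericPoint X, hξU⟩).asIdeal ≤ P := by
  let z : X := hU.fromSpec ⟨P, hP⟩
  have hzU : z ∈ U := (hU.isoSpec.inv _).2
  have hz : hU.primeIdealOf ⟨z, hzU⟩ = ⟨P, hP⟩ :=
    hU.fromSpec.isOpenEmbedding.injective (hU.fromSpec_primeIdealOf ⟨z, hzU⟩)
  have h1 : genericPoint X ⤳ z := genericPoint_specializes z
  have h2 := (specializes_iff_primeIdealOf_le hU ⟨genericPoint X, hξU⟩ ⟨z, hzU⟩).1 h1
  rw [hz] at h2
  exact h2

/-- **Dimension formula** (EGA IV 5.6.5): `X`, `S` irreducible, `f : X ⟶ S` locally of finite type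
sending the generic point to the generic point, `x ∈ X` with `O_{S,f x}` universally catenary:
`dim O_{X,x} + trdeg κ(x)/κ(f x) = dim O_{S,f x} + trdeg K(X)/K(S)`. -/
theorem stalk_dim_formula [IrreducibleSpace X] [IrreducibleSpace S]
    (hη : f (genericPoint X) = genericPoint S) (x : X)
    (hcat : CAlg.IsUniversallyCatenary (S.presheaf.stalk (f x))) (n E : ℕ)
    (hn : @Algebra.trdeg (S.residueField (f x)) (X.residueField x) _ _
      (f.residueFieldMap x).hom.toAlgebra = n)
    (hE : @Algebra.trdeg (S.residueField (f (genericPoint X))) (X.residueField (genericPoint X)) _ _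
      (f.residueFieldMap (genericPoint X)).hom.toAlgebra = E) :
    ringKrullDim (X.presheaf.stalk x) + n = ringKrullDim (S.presheaf.stalk (f x)) + E := by
  obtain ⟨V, hV, hxV, -⟩ := Opens.isBasis_iff_nbhd.mp S.isBasis_affineOpens
    (show f x ∈ (⊤ : S.Opens) from trivial)
  have hV : IsAffineOpen V := hV
  obtain ⟨U, hU, hxU, e⟩ := Opens.isBasis_iff_nbhd.mp X.isBasis_affineOpens
    (show x ∈ f ⁻¹ᵁ V from hxV)
  have hU : IsAffineOpen U := hU
  have hξU : genericPoint X ∈ U := (genericPoint_specializes x).mem_open U.2 hxU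
  letI alg : Algebra Γ(S, V) Γ(X, U) := (f.appLE V U e).hom.toAlgebra
  haveI : Algebra.FiniteType Γ(S, V) Γ(X, U) :=
    HasRingHomProperty.appLE (P := @LocallyOfFiniteType) f inferInstance ⟨V, hV⟩ ⟨U, hU⟩ e
  letI := S.presheaf.algebra_section_stalk ⟨f x, e hxU⟩
  haveI := hV.isLocalization_stalk ⟨f x, e hxU⟩
  set q := (hU.primeIdealOf ⟨x, hxU⟩).asIdeal with hq
  set Q₀ := (hU.primeIdealOf ⟨genericPoint X, hξU⟩).asIdeal with hQ₀
  set p := (hV.primeIdealOf ⟨f x, e hxU⟩).asIdeal with hp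
  set P₀ := (hV.primeIdealOf ⟨f (genericPoint X), e hξU⟩).asIdeal with hP₀
  haveI : q.IsPrime := (hU.primeIdealOf ⟨x, hxU⟩).2
  haveI : Q₀.IsPrime := (hU.primeIdealOf ⟨genericPoint X, hξU⟩).2
  haveI : p.IsPrime := (hV.primeIdealOf ⟨f x, e hxU⟩).2
  haveI : P₀.IsPrime := (hV.primeIdealOf ⟨f (genericPoint X), e hξU⟩).2
  have hqp : q.under Γ(S, V) = p := comap_primeIdealOf f hU hV e x hxU
  have hQP : Q₀.under Γ(S, V) = P₀ := comap_primeIdealOf f hU hV e (genericPoint X) hξU
  haveI : q.LiesOver p := ⟨hqp.symm⟩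
  haveI : Q₀.LiesOver P₀ := ⟨hQP.symm⟩
  have hle : Q₀ ≤ q := primeIdealOf_genericPoint_le hU hξU q
  have key := cd_add_trdeg_eq_local' Γ(S, V) Γ(X, U) p (S.presheaf.stalk (f x)) hcat Q₀ q hle P₀
  have hcd1 : cd (⟨Q₀, inferInstance⟩ : PrimeSpectrum Γ(X, U)) ⟨q, inferInstance⟩ = q.height :=
    cd_eq_height_of_forall_prime_le Q₀ q fun P hP _ => primeIdealOf_genericPoint_le hU hξU P
  have hcd2 : cd (⟨P₀, inferInstance⟩ : PrimeSpectrum Γ(S, V)) ⟨p, inferInstance⟩ = p.height := by
    refine cd_eq_height_of_forall_prime_le P₀ p fun P hP _ => ?_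
    have hηV : genericPoint S ∈ V := by rw [← hη]; exact e hξU
    have h1 := primeIdealOf_genericPoint_le hV hηV P
    have h2 : hV.primeIdealOf ⟨f (genericPoint X), e hξU⟩ =
        hV.primeIdealOf ⟨genericPoint S, hηV⟩ := by
      congr 1
      exact Subtype.ext hη
    rw [hP₀, h2]
    exact h1
  rw [hcd1, hcd2] at key
  have hn' := hn
  rw [trdeg_residueField f hU hV e x hxU] at hn'
  have hE' := hE
  rw [trdeg_residueField f hU hV e (genericPoint X) hξU] at hE'
  have hn'' : Algebra.trdeg (Γ(S, V) ⧸ p) (Γ(X, U) ⧸ q) = n := by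
    have h0 : ∀ (p' : Ideal Γ(S, V)) (hp' : p' = q.under Γ(S, V)),
        @Algebra.trdeg (Γ(S, V) ⧸ p') (Γ(X, U) ⧸ q) _ _
          (@Ideal.Quotient.algebraOfLiesOver _ _ _ _ _ q p' ⟨hp'⟩) = n := by
      intro p' hp'
      subst hp'
      exact hn'
    exact h0 p hqp.symm
  have hE'' : Algebra.trdeg (Γ(S, V) ⧸ P₀) (Γ(X, U) ⧸ Q₀) = E := by
    have h0 : ∀ (p' : Ideal Γ(S, V)) (hp' : p' = Q₀.under Γ(S, V)),
        @Algebra.trdeg (Γ(S, V) ⧸ p') (Γ(X, U) ⧸ Q₀) _ _
          (@Ideal.Quotient.algebraOfLiesOver _ _ _ _ _ Q₀ p' ⟨hp'⟩) = E := by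
      intro p' hp'
      subst hp'
      exact hE'
    exact h0 P₀ hQP.symm
  rw [hn'', hE''] at key
  have key3 : q.height + (n : ℕ∞) = p.height + (E : ℕ∞) := by
    have h := key
    rw [← Cardinal.ofENat_nat n, ← Cardinal.ofENat_nat E, ← Cardinal.ofENat_add,
      ← Cardinal.ofENat_add, Cardinal.ofENat_inj] at h
    exact h
  rw [ringKrullDim_stalk_eq_height hU x hxU, ringKrullDim_stalk_eq_height hV (f x) (e hxU)]
  exact_mod_cast key3

end Groth.Agent.Lib.Helper21.DimLoc
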