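import Groth.Agent.Lib.Helper21.FibDim8
import Groth.Agent.Lib.Helper21.DimLoc5

/-!
# Points of fibres with algebraic residue field extension; the global dimension formula
-/

set_option autoImplicit false
set_option linter.style.haveILetI false
set_option linter.unusedSectionVars false
universe u

open AlgebraicGeometry CategoryTheory Limits TopologicalSpace

namespace Groth.Agent.Lib.Helper21.FibDim

open Groth.Agent.Lib.Helper21.ChartPt Groth.Agent.Lib.Helper21.NagDvr
  Groth.Agent.Lib.Helper20.DimTrdeg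


theorem iSup_add_nat_le {ι : Sort*} (g : ι → WithBot ℕ∞) (c : ℕ) (D : WithBot ℕ∞)
    (h : ∀ i, g i + c ≤ D) : (⨆ i, g i) + c ≤ D := by
  by_cases hall : ∀ i, g i = ⊥
  · have : (⨆ i, g i) = ⊥ := by
      rw [iSup_eq_bot]; exact hall
    rw [this, WithBot.bot_add]
    exact bot_le
  · obtain ⟨i₀, hi₀⟩ := not_forall.mp hall
    induction D using WithBot.recBotCoe with
    | bot =>
      exfalso
      have h1 := h i₀
      rw [le_bot_iff, WithBot.add_eq_bot] at h1
      rcases h1 with h1 | h1
      · exact hi₀ h1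
      · exact absurd h1 (by simp)
    | coe d =>
      obtain ⟨a₀, ha₀⟩ := WithBot.ne_bot_iff_exists.mp hi₀
      have hcd : (c : ℕ∞) ≤ d := by
        have h1 := h i₀
        rw [← ha₀] at h1
        have h2 : a₀ + (c : ℕ∞) ≤ d := by exact_mod_cast h1
        exact le_trans le_add_self h2
      have hle : ∀ i, g i ≤ ((d - (c : ℕ∞) : ℕ∞) : WithBot ℕ∞) := by
        intro i
        have h1 := h i
        induction hgi : g i using WithBot.recBotCoe with
        | bot => exact bot_le
        | coe a =>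
          rw [hgi] at h1
          have h2 : a + (c : ℕ∞) ≤ d := by exact_mod_cast h1
          have h3 : a ≤ d - (c : ℕ∞) := ENat.le_sub_of_add_le_right (ENat.natCast_ne_top c) h2
          exact_mod_cast h3
      have h4 : (⨆ i, g i) ≤ ((d - (c : ℕ∞) : ℕ∞) : WithBot ℕ∞) := iSup_le hle
      calc (⨆ i, g i) + c ≤ ((d - (c : ℕ∞) : ℕ∞) : WithBot ℕ∞) + c := add_le_add h4 le_rfl
        _ = ((d - (c : ℕ∞) + (c : ℕ∞) : ℕ∞) : WithBot ℕ∞) := by push_cast; rfl
        _ = (d : WithBot ℕ∞) := by rw [tsub_add_cancel_of_le hcd]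

theorem le_of_add_nat_le_add_nat (a b : WithBot ℕ∞) (c : ℕ) (h : a + c ≤ b + c) : a ≤ b := by
  induction a using WithBot.recBotCoe with
  | bot => exact bot_le
  | coe a =>
    induction b using WithBot.recBotCoe with
    | bot =>
      exfalso
      rw [WithBot.bot_add, le_bot_iff, WithBot.add_eq_bot] at h
      rcases h with h | h
      · exact absurd h (by simp)
      · exact absurd h (by simp)
    | coe b =>
      have h2 : a + (c : ℕ∞) ≤ b + (c : ℕ∞) := by exact_mod_cast h
      have h3 : a ≤ b := (ENat.add_le_add_iff_right (ENat.natCast_ne_top c)).1 h2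
      exact_mod_cast h3

section OverField

variable (k : Type u) [Field k] (X : Scheme.{u}) [X.Over (Spec (CommRingCat.of k))]
  [LocallyOfFiniteType (X ↘ Spec (CommRingCat.of k))]

/-- every point of a scheme locally of finite type over a field specialises to a point whose
residue field is algebraic over the base field -/
theorem exists_specializes_trdeg_eq_zero (x : X) :
    ∃ z : X, x ⤳ z ∧
      @Algebra.trdeg k (X.residueField z) _ _ (Curv2.resAlgebra k X z) = 0 := by
  obtain ⟨W, hW, hxW, -⟩ := Opens.isBasis_iff_nbhd.mp X.isBasis_affineOpens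
    (show x ∈ (⊤ : X.Opens) from trivial)
  have hW : IsAffineOpen W := hW
  obtain ⟨m, hm, hqm⟩ := Ideal.exists_le_maximal (hW.primeIdealOf ⟨x, hxW⟩).asIdeal
    (hW.primeIdealOf ⟨x, hxW⟩).2.ne_top
  obtain ⟨⟨z, hzW⟩, hz⟩ := exists_primeIdealOf_eq hW ⟨m, hm.isPrime⟩
  have hz' : (hW.primeIdealOf ⟨z, hzW⟩).asIdeal = m := congrArg PrimeSpectrum.asIdeal hz
  refine ⟨z, ?_, ?_⟩
  · rw [specializes_iff_primeIdealOf_le hW ⟨x, hxW⟩ ⟨z, hzW⟩, hz']
    exact hqm
  · obtain ⟨s, hs1, hs2⟩ := exists_nat_trdeg_eq_and_dim_quotient k X hW z hzW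
    have h0 : ringKrullDim (Γ(X, W) ⧸ (hW.primeIdealOf ⟨z, hzW⟩).asIdeal) = 0 := by
      rw [hz']
      letI := Ideal.Quotient.field m
      exact ringKrullDim_eq_zero_of_field _
    rw [h0] at hs2
    have hs0 : s = 0 := by exact_mod_cast hs2.symm
    rw [hs1, hs0]
    rfl

end OverField

/-- every point specialises, inside its fibre, to a point whose residue field is algebraic over
that of its image -/
theorem exists_specializes_fiber_trdeg_eq_zero {X S : Scheme.{u}} (f : X ⟶ S)
    [LocallyOfFiniteType f] (x₀ : X) :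
    ∃ x : X, x₀ ⤳ x ∧ f x = f x₀ ∧
      @Algebra.trdeg (S.residueField (f x)) (X.residueField x) _ _
        (f.residueFieldMap x).hom.toAlgebra = 0 := by
  letI := fiberOver f (f x₀)
  haveI : LocallyOfFiniteType (f.fiber (f x₀) ↘ Spec (CommRingCat.of (S.residueField (f x₀)))) :=
    MorphismProperty.pullback_snd (P := @LocallyOfFiniteType) _ _ inferInstance
  obtain ⟨z, hz1, hz2⟩ := exists_specializes_trdeg_eq_zero (S.residueField (f x₀))
    (f.fiber (f x₀)) (f.asFiber x₀)
  refine ⟨f.fiberι (f x₀) z, ?_, (f.fiberHomeo (f x₀) z).2, ?_⟩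
  · have := hz1.map (f.fiberι (f x₀)).continuous
    rwa [Scheme.Hom.fiberι_asFiber] at this
  · rw [← trdeg_fiber_eq f (f x₀) z]
    exact hz2

end Groth.Agent.Lib.Helper21.FibDim
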