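import Groth.Agent.Lib.Helper21.KA7
import Mathlib.RingTheory.Valuation.LocalSubring
import Mathlib.FieldTheory.IntermediateField.Adjoin.Defs

/-!
# Discrete valuation subrings of a finitely generated field extension

* `toValuationSubring`: an abstract valuation ring with fraction field `L`, as a
  `ValuationSubring L`.
* `exists_dvr_over_prime`: a Noetherian domain `B` with fraction field `L` and a nonzero prime `𝔓`:
  there is a discrete valuation subring of `L` containing `B` with centre `𝔓`.
* `exists_dvr_fg_extension`: the same for a finitely generated field extension `L` of `Frac A`.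
-/

set_option autoImplicit false
universe u

namespace Groth.Agent.Lib.Helper21.KA

section Conv

variable (R : Type*) [CommRing R] [IsDomain R] [ValuationRing R] (L : Type*) [Field L]
  [Algebra R L] [IsFractionRing R L]

/-- A valuation ring with fraction field `L`, as a valuation subring of `L`. -/
def toValuationSubring : ValuationSubring L :=
  ⟨(algebraMap R L).range, ValuationRing.isInteger_or_isInteger R⟩

theorem mem_toValuationSubring (x : L) :
    x ∈ toValuationSubring R L ↔ ∃ r : R, algebraMap R L r = x := Iff.rfl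

/-- The ring isomorphism `R ≃ toValuationSubring R L`. -/
noncomputable def toValuationSubringEquiv : R ≃+* toValuationSubring R L :=
  RingEquiv.ofBijective ((algebraMap R L).rangeRestrict)
    ⟨fun _ _ hab => IsFractionRing.injective R L (congrArg Subtype.val hab),
      (algebraMap R L).rangeRestrict_surjective⟩

theorem coe_toValuationSubringEquiv (r : R) :
    ((toValuationSubringEquiv R L r : toValuationSubring R L) : L) = algebraMap R L r := rfl

theorem isDiscreteValuationRing_toValuationSubring [IsDiscreteValuationRing R] :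
    IsDiscreteValuationRing (toValuationSubring R L) :=
  IsDiscreteValuationRing.RingEquivClass.isDiscreteValuationRing (toValuationSubringEquiv R L)

theorem valuation_toValuationSubring_lt_one_iff (r : R) :
    (toValuationSubring R L).valuation (algebraMap R L r) < 1 ↔
      r ∈ IsLocalRing.maximalIdeal R := by
  have h1 := (toValuationSubring R L).valuation_lt_one_iff (toValuationSubringEquiv R L r)
  rw [coe_toValuationSubringEquiv] at h1
  rw [← h1, IsLocalRing.mem_maximalIdeal, IsLocalRing.mem_maximalIdeal, mem_nonunits_iff,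
    mem_nonunits_iff, not_iff_not]
  exact (isUnit_map_iff (toValuationSubringEquiv R L) r)

end Conv

section LocL

variable {B : Type u} [CommRing B] [IsDomain B] {L : Type u} [Field L] [Algebra B L]
  [IsFractionRing B L]

theorem isUnit_algebraMap_primeCompl (𝔓 : Ideal B) [𝔓.IsPrime] (y : 𝔓.primeCompl) :
    IsUnit (algebraMap B L y) := by
  refine IsUnit.mk0 _ ?_
  rw [Ne, FaithfulSMul.algebraMap_eq_zero_iff]
  intro h0
  exact y.2 (h0 ▸ zero_mem 𝔓)

/-- The `L`-algebra structure on the localization of `B` at a prime, `L` the fraction field. -/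
noncomputable def algLocL (𝔓 : Ideal B) [𝔓.IsPrime] : Algebra (Localization.AtPrime 𝔓) L :=
  (IsLocalization.lift (M := 𝔓.primeCompl) (S := Localization.AtPrime 𝔓)
    (g := algebraMap B L) (isUnit_algebraMap_primeCompl 𝔓)).toAlgebra

attribute [local instance] algLocL

theorem tower_locL (𝔓 : Ideal B) [𝔓.IsPrime] : IsScalarTower B (Localization.AtPrime 𝔓) L :=
  IsScalarTower.of_algebraMap_eq fun t =>
    (IsLocalization.lift_eq (M := 𝔓.primeCompl) (S := Localization.AtPrime 𝔓)
      (isUnit_algebraMap_primeCompl 𝔓) t).symm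

theorem isFractionRing_locL (𝔓 : Ideal B) [𝔓.IsPrime] :
    IsFractionRing (Localization.AtPrime 𝔓) L := by
  have := tower_locL (L := L) 𝔓
  exact IsFractionRing.isFractionRing_of_isDomain_of_isLocalization 𝔓.primeCompl
    (Localization.AtPrime 𝔓) L

/-- **A DVR of the fraction field centred at a given nonzero prime** of a Noetherian domain. -/
theorem exists_dvr_over_prime [IsNoetherianRing B] (𝔓 : Ideal B) [𝔓.IsPrime] (h𝔓 : 𝔓 ≠ ⊥) :
    ∃ O : ValuationSubring L, IsDiscreteValuationRing O ∧ (∀ b : B, algebraMap B L b ∈ O) ∧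
      ∀ b : B, O.valuation (algebraMap B L b) < 1 ↔ b ∈ 𝔓 := by
  let B' := Localization.AtPrime 𝔓
  have hB'dom : IsDomain B' :=
    IsLocalization.isDomain_localization 𝔓.primeCompl_le_nonZeroDivisors
  have hB'N : IsNoetherianRing B' := IsLocalization.isNoetherianRing 𝔓.primeCompl B' inferInstance
  have hB'nf : ¬ IsField B' := IsLocalization.AtPrime.not_isField B h𝔓 B'
  have tow : IsScalarTower B B' L := tower_locL 𝔓
  have hFr : IsFractionRing B' L := isFractionRing_locL 𝔓
  obtain ⟨R, _, _, _, _, _, towR, hFrR, hloc⟩ := exists_dvr_dominating B' hB'nf L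
  have hmap : ∀ b : B, algebraMap B L b = algebraMap R L (algebraMap B' R (algebraMap B B' b)) := by
    intro b
    rw [← IsScalarTower.algebraMap_apply B' R L, ← IsScalarTower.algebraMap_apply B B' L]
  refine ⟨toValuationSubring R L, isDiscreteValuationRing_toValuationSubring R L, ?_, ?_⟩
  · intro b
    exact ⟨_, (hmap b).symm⟩
  · intro b
    rw [hmap b, valuation_toValuationSubring_lt_one_iff]
    constructor
    · intro h1
      by_contra hb
      have h2 : IsUnit (algebraMap B B' b) :=
        (IsLocalization.AtPrime.isUnit_to_map_iff B' 𝔓 b).mpr hb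
      exact ((IsLocalRing.mem_maximalIdeal _).mp h1) (h2.map (algebraMap B' R))
    · intro hb
      rw [IsLocalRing.mem_maximalIdeal, mem_nonunits_iff]
      intro h1
      have h2 : IsUnit (algebraMap B B' b) := hloc.map_nonunit _ h1
      exact ((IsLocalization.AtPrime.isUnit_to_map_iff B' 𝔓 b).mp h2) hb

end LocL

section Gen

variable (A : Type u) [CommRing A] [IsDomain A] (K : Type u) [Field K] [Algebra A K]
  [IsFractionRing A K] (L : Type u) [Field L] [Algebra K L] [Algebra A L] [IsScalarTower A K L]

include K in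
theorem algebraMap_injective_of_tower : Function.Injective (algebraMap A L) := by
  rw [IsScalarTower.algebraMap_eq A K L]
  exact (algebraMap K L).injective.comp (IsFractionRing.injective A K)

/-- Clearing denominators: elements of `K[S']` become elements of `A[S']` after multiplication by
a nonzero element of `A`. -/
theorem exists_mul_mem_adjoin (S' : Set L) (x : L) (hx : x ∈ Algebra.adjoin K S') :
    ∃ a : A, a ≠ 0 ∧ algebraMap A L a * x ∈ Algebra.adjoin A S' := by
  induction hx using Algebra.adjoin_induction with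
  | mem x hx => exact ⟨1, one_ne_zero, by rw [map_one, one_mul]; exact Algebra.subset_adjoin hx⟩
  | algebraMap k =>
    obtain ⟨a₁, a₂, ha₂, rfl⟩ := IsFractionRing.div_surjective (A := A) k
    refine ⟨a₂, nonZeroDivisors.ne_zero ha₂, ?_⟩
    have h0 : algebraMap A K a₂ ≠ 0 := by
      rw [Ne, FaithfulSMul.algebraMap_eq_zero_iff]
      exact nonZeroDivisors.ne_zero ha₂
    have : algebraMap A L a₂ * algebraMap K L (algebraMap A K a₁ / algebraMap A K a₂) =
        algebraMap A L a₁ := by
      rw [IsScalarTower.algebraMap_apply A K L, ← map_mul, mul_div_cancel₀ _ h0,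
        ← IsScalarTower.algebraMap_apply]
    rw [this]
    exact Subalgebra.algebraMap_mem _ a₁
  | add x y _ _ hx hy =>
    obtain ⟨a, ha, hax⟩ := hx
    obtain ⟨b, hb, hby⟩ := hy
    refine ⟨a * b, mul_ne_zero ha hb, ?_⟩
    have : algebraMap A L (a * b) * (x + y) =
        algebraMap A L b * (algebraMap A L a * x) + algebraMap A L a * (algebraMap A L b * y) := by
      rw [map_mul]; ring
    rw [this]
    exact add_mem (mul_mem (Subalgebra.algebraMap_mem _ b) hax)
      (mul_mem (Subalgebra.algebraMap_mem _ a) hby)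
  | mul x y _ _ hx hy =>
    obtain ⟨a, ha, hax⟩ := hx
    obtain ⟨b, hb, hby⟩ := hy
    refine ⟨a * b, mul_ne_zero ha hb, ?_⟩
    have : algebraMap A L (a * b) * (x * y) =
        (algebraMap A L a * x) * (algebraMap A L b * y) := by
      rw [map_mul]; ring
    rw [this]
    exact mul_mem hax hby

/-- `A[S']` has fraction field `L` if `K(S') = L`. -/
theorem isFractionRing_adjoin (S' : Set L) (hS' : IntermediateField.adjoin K S' = ⊤) :
    IsFractionRing (Algebra.adjoin A S') L := by
  have hfaith : FaithfulSMul (Algebra.adjoin A S') L :=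
    (faithfulSMul_iff_algebraMap_injective _ L).mpr Subtype.val_injective
  have hinj := algebraMap_injective_of_tower A K L
  refine IsFractionRing.of_field (R := Algebra.adjoin A S') L ?_
  intro z
  have hz : z ∈ IntermediateField.adjoin K S' := by rw [hS']; exact IntermediateField.mem_top
  obtain ⟨r, hr, s, hs, rfl⟩ := IntermediateField.mem_adjoin_iff_div.mp hz
  obtain ⟨a, ha, har⟩ := exists_mul_mem_adjoin A K L S' r hr
  obtain ⟨b, hb, hbs⟩ := exists_mul_mem_adjoin A K L S' s hs
  refine ⟨⟨algebraMap A L b * (algebraMap A L a * r), mul_mem (Subalgebra.algebraMap_mem _ b) har⟩,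
    ⟨algebraMap A L a * (algebraMap A L b * s), mul_mem (Subalgebra.algebraMap_mem _ a) hbs⟩, ?_⟩
  change r / s = (algebraMap A L b * (algebraMap A L a * r)) /
    (algebraMap A L a * (algebraMap A L b * s))
  have h0 : algebraMap A L b * algebraMap A L a ≠ 0 :=
    mul_ne_zero ((map_ne_zero_iff _ hinj).mpr hb) ((map_ne_zero_iff _ hinj).mpr ha)
  rw [← mul_assoc, ← mul_assoc, mul_comm (algebraMap A L a) (algebraMap A L b),
    mul_div_mul_left _ _ h0]

end Gen

section Closure

/-- `A[S']` has fraction field `L` if `L` is generated as a field by `A` and `S'`. -/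
theorem isFractionRing_adjoin_of_closure (A L : Type u) [CommRing A] [Field L] [Algebra A L]
    (S' : Set L) (hS' : Subfield.closure (Set.range (algebraMap A L) ∪ S') = ⊤) :
    IsFractionRing (Algebra.adjoin A S') L := by
  have hfaith : FaithfulSMul (Algebra.adjoin A S') L :=
    (faithfulSMul_iff_algebraMap_injective _ L).mpr Subtype.val_injective
  let F : Subfield L :=
    { carrier := {z | ∃ b b' : Algebra.adjoin A S', (b' : L) ≠ 0 ∧ z = (b : L) / (b' : L)}
      mul_mem' := by
        rintro _ _ ⟨b₁, b₁', h₁, rfl⟩ ⟨b₂, b₂', h₂, rfl⟩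
        exact ⟨b₁ * b₂, b₁' * b₂', mul_ne_zero h₁ h₂, by push_cast; rw [div_mul_div_comm]⟩
      one_mem' := ⟨1, 1, one_ne_zero, by simp⟩
      add_mem' := by
        rintro _ _ ⟨b₁, b₁', h₁, rfl⟩ ⟨b₂, b₂', h₂, rfl⟩
        exact ⟨b₁ * b₂' + b₁' * b₂, b₁' * b₂', mul_ne_zero h₁ h₂, by
          push_cast; rw [div_add_div _ _ h₁ h₂]⟩
      zero_mem' := ⟨0, 1, one_ne_zero, by simp⟩
      neg_mem' := by
        rintro _ ⟨b, b', h, rfl⟩
        exact ⟨-b, b', h, by push_cast; rw [neg_div]⟩
      inv_mem' := by
        rintro _ ⟨b, b', h, rfl⟩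
        by_cases hb : (b : L) = 0
        · exact ⟨0, 1, one_ne_zero, by simp [hb]⟩
        · exact ⟨b', b, hb, by rw [inv_div]⟩ }
  have hF : F = ⊤ := by
    rw [eq_top_iff, ← hS']
    refine Subfield.closure_le.mpr ?_
    rintro z (⟨a, rfl⟩ | hz)
    · exact ⟨algebraMap A (Algebra.adjoin A S') a, 1, one_ne_zero, by simp⟩
    · exact ⟨⟨z, Algebra.subset_adjoin hz⟩, 1, one_ne_zero, by simp⟩
  refine IsFractionRing.of_field (R := Algebra.adjoin A S') L ?_
  intro z
  have hz : z ∈ F := hF ▸ Subfield.mem_top z
  obtain ⟨b, b', -, rfl⟩ := hz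
  exact ⟨b, b', rfl⟩

end Closure

section Main

attribute [local instance] algLocL

/-- **Discrete valuation subrings with prescribed centre.** `A` a Noetherian domain inside a field
`L` which is generated, as a field, by `A` and finitely many elements; `𝔭` a nonzero prime of `A`.
There is a discrete valuation subring of `L` containing `A` whose maximal ideal meets `A` in
`𝔭`. -/
theorem exists_dvr_of_closure_eq_top (A : Type u) [CommRing A] [IsDomain A] [IsNoetherianRing A]
    (L : Type u) [Field L] [Algebra A L] (hinj : Function.Injective (algebraMap A L))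
    (S : Finset L) (hS : Subfield.closure (Set.range (algebraMap A L) ∪ (S : Set L)) = ⊤)
    (𝔭 : Ideal A) [𝔭.IsPrime] (h𝔭 : 𝔭 ≠ ⊥) :
    ∃ O : ValuationSubring L, IsDiscreteValuationRing O ∧ (∀ a : A, algebraMap A L a ∈ O) ∧
      ∀ a : A, O.valuation (algebraMap A L a) < 1 ↔ a ∈ 𝔭 := by
  classical
  -- a valuation subring dominating `A_𝔭`
  let Ap := Localization.AtPrime 𝔭
  have hunits : ∀ y : 𝔭.primeCompl, IsUnit (algebraMap A L y) := by
    intro y
    refine IsUnit.mk0 _ ?_
    rw [Ne, map_eq_zero_iff _ hinj]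
    intro h0
    exact y.2 (h0 ▸ zero_mem 𝔭)
  let f : Ap →+* L := IsLocalization.lift (M := 𝔭.primeCompl) (S := Ap) hunits
  have hf : ∀ a : A, f (algebraMap A Ap a) = algebraMap A L a := fun a =>
    IsLocalization.lift_eq hunits a
  obtain ⟨V, hV, hVloc⟩ := IsLocalRing.exists_factor_valuationRing f
  have hAV : ∀ a : A, algebraMap A L a ∈ V := fun a => by rw [← hf a]; exact hV _
  have hVval : ∀ a : A, V.valuation (algebraMap A L a) < 1 ↔ a ∈ 𝔭 := by
    intro a
    have h1 := V.valuation_lt_one_iff ⟨algebraMap A L a, hAV a⟩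
    change _ ↔ V.valuation (algebraMap A L a) < 1 at h1
    rw [← h1, IsLocalRing.mem_maximalIdeal, mem_nonunits_iff]
    constructor
    · intro hnu
      by_contra ha
      apply hnu
      have h2 : IsUnit (algebraMap A Ap a) :=
        (IsLocalization.AtPrime.isUnit_to_map_iff Ap 𝔭 a).mpr ha
      have h3 := h2.map (f.codRestrict V.toSubring hV)
      have h4 : f.codRestrict V.toSubring hV (algebraMap A Ap a) = ⟨algebraMap A L a, hAV a⟩ :=
        Subtype.ext (hf a)
      rw [h4] at h3
      exact h3
    · intro ha hu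
      have h4 : f.codRestrict V.toSubring hV (algebraMap A Ap a) = ⟨algebraMap A L a, hAV a⟩ :=
        Subtype.ext (hf a)
      rw [← h4] at hu
      have h2 : IsUnit (algebraMap A Ap a) := hVloc.map_nonunit _ hu
      exact ((IsLocalization.AtPrime.isUnit_to_map_iff Ap 𝔭 a).mp h2) ha
  -- normalise the generators to lie in `V`
  let φ : L → L := fun s => if s ∈ V then s else s⁻¹
  have hφV : ∀ s, φ s ∈ V := by
    intro s
    by_cases hs : s ∈ V
    · simp only [φ, if_pos hs]; exact hs
    · simp only [φ, if_neg hs]; exact (V.mem_or_inv_mem s).resolve_left hs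
  let S' : Finset L := S.image φ
  have hS' : Subfield.closure (Set.range (algebraMap A L) ∪ (S' : Set L)) = ⊤ := by
    rw [eq_top_iff, ← hS]
    refine Subfield.closure_le.mpr ?_
    rintro z (hz | hs)
    · exact Subfield.subset_closure (Or.inl hz)
    · have hφs : φ z ∈ Subfield.closure (Set.range (algebraMap A L) ∪ (S' : Set L)) :=
        Subfield.subset_closure (Or.inr (Finset.mem_coe.mpr (Finset.mem_image_of_mem φ hs)))
      by_cases hsV : z ∈ V
      · simp only [φ, if_pos hsV] at hφs; exact hφs
      · simp only [φ, if_neg hsV] at hφs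
        have := inv_mem hφs
        rwa [inv_inv] at this
  let B : Subalgebra A L := Algebra.adjoin A (S' : Set L)
  let V' : Subalgebra A L := { V.toSubring with algebraMap_mem' := hAV }
  have hBV : B ≤ V' := by
    refine Algebra.adjoin_le ?_
    intro s hs
    obtain ⟨s₀, -, rfl⟩ := Finset.mem_image.mp (Finset.mem_coe.mp hs)
    exact hφV s₀
  have hBfg : B.FG := Subalgebra.fg_adjoin_finset S'
  have hBft : Algebra.FiniteType A B := (Subalgebra.fg_iff_finiteType B).mp hBfg
  have hBN : IsNoetherianRing B := Algebra.FiniteType.isNoetherianRing A B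
  have hBFr : IsFractionRing B L := isFractionRing_adjoin_of_closure A L (S' : Set L) hS'
  let ι : B →+* V.toSubring := (B.val : B →+* L).codRestrict V.toSubring (fun b => hBV b.2)
  let 𝔓 : Ideal B := (IsLocalRing.maximalIdeal V).comap ι
  have h𝔓prime : 𝔓.IsPrime := Ideal.comap_isPrime ι _
  have hmem𝔓 : ∀ b : B, b ∈ 𝔓 ↔ V.valuation (b : L) < 1 := by
    intro b
    change ι b ∈ IsLocalRing.maximalIdeal V ↔ _
    rw [V.valuation_lt_one_iff]
    rfl
  have h𝔓0 : 𝔓 ≠ ⊥ := by
    obtain ⟨a, ha, ha0⟩ := Submodule.exists_mem_ne_zero_of_ne_bot h𝔭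
    intro hbot
    have h1 : algebraMap A B a ∈ 𝔓 := (hmem𝔓 _).mpr ((hVval a).mpr ha)
    rw [hbot, Ideal.mem_bot] at h1
    have h2 : algebraMap A L a = 0 := congrArg Subtype.val h1
    exact ha0 ((map_eq_zero_iff _ hinj).mp h2)
  obtain ⟨O, hOdvr, hOB, hOval⟩ := exists_dvr_over_prime (L := L) 𝔓 h𝔓0
  refine ⟨O, hOdvr, fun a => hOB (algebraMap A B a), fun a => ?_⟩
  have := hOval (algebraMap A B a)
  rw [hmem𝔓] at this
  change O.valuation (algebraMap A L a) < 1 ↔ V.valuation (algebraMap A L a) < 1 at this
  rw [this, hVval]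

/-- A finitely generated field extension of `Frac A` is generated as a field by `A` and finitely
many elements. -/
theorem exists_finset_closure_eq_top (A : Type u) [CommRing A] [IsDomain A]
    (K : Type u) [Field K] [Algebra A K] [IsFractionRing A K]
    (L : Type u) [Field L] [Algebra K L] [Algebra A L] [IsScalarTower A K L]
    (hfg : (⊤ : IntermediateField K L).FG) :
    ∃ S : Finset L, Subfield.closure (Set.range (algebraMap A L) ∪ (S : Set L)) = ⊤ := by
  obtain ⟨S, hS⟩ := hfg
  refine ⟨S, ?_⟩
  let G : Subfield L := Subfield.closure (Set.range (algebraMap A L) ∪ (S : Set L))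
  have hKG : ∀ k : K, algebraMap K L k ∈ G := by
    intro k
    obtain ⟨a₁, a₂, -, rfl⟩ := IsFractionRing.div_surjective (A := A) k
    rw [map_div₀, ← IsScalarTower.algebraMap_apply, ← IsScalarTower.algebraMap_apply]
    exact div_mem (Subfield.subset_closure (Or.inl ⟨a₁, rfl⟩))
      (Subfield.subset_closure (Or.inl ⟨a₂, rfl⟩))
  let G' : IntermediateField K L := { G with algebraMap_mem' := hKG }
  have hG' : G' = ⊤ := by
    rw [eq_top_iff, ← hS]
    refine IntermediateField.adjoin_le_iff.mpr ?_
    intro s hs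
    exact Subfield.subset_closure (Or.inr hs)
  rw [eq_top_iff]
  intro z _
  have : z ∈ G' := hG' ▸ IntermediateField.mem_top
  exact this

/-- The same for a finitely generated field extension `L` of `K = Frac A`. -/
theorem exists_dvr_fg_extension (A : Type u) [CommRing A] [IsDomain A] [IsNoetherianRing A]
    (K : Type u) [Field K] [Algebra A K] [IsFractionRing A K]
    (L : Type u) [Field L] [Algebra K L] [Algebra A L] [IsScalarTower A K L]
    (hfg : (⊤ : IntermediateField K L).FG) (𝔭 : Ideal A) [𝔭.IsPrime] (h𝔭 : 𝔭 ≠ ⊥) :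
    ∃ O : ValuationSubring L, IsDiscreteValuationRing O ∧ (∀ a : A, algebraMap A L a ∈ O) ∧
      ∀ a : A, O.valuation (algebraMap A L a) < 1 ↔ a ∈ 𝔭 := by
  obtain ⟨S, hS⟩ := exists_finset_closure_eq_top A K L hfg
  exact exists_dvr_of_closure_eq_top A L (algebraMap_injective_of_tower A K L) S hS 𝔭 h𝔭

/-- **The integral closure is the intersection of the DVRs** (Noetherian domain, field generated
by finitely many elements over it): a non-integral element is avoided by some discrete valuation
subring containing `A`. -/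
theorem exists_dvr_notMem_of_not_isIntegral (A : Type u) [CommRing A] [IsDomain A]
    [IsNoetherianRing A] (L : Type u) [Field L] [Algebra A L]
    (S : Finset L) (hS : Subfield.closure (Set.range (algebraMap A L) ∪ (S : Set L)) = ⊤)
    (x : L) (hx : ¬ IsIntegral A x) :
    ∃ O : ValuationSubring L, IsDiscreteValuationRing O ∧ (∀ a : A, algebraMap A L a ∈ O) ∧
      x ∉ O := by
  classical
  have hx0 : x ≠ 0 := by
    rintro rfl
    exact hx isIntegral_zero
  let y : L := x⁻¹
  have hy0 : y ≠ 0 := inv_ne_zero hx0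
  let _ : Invertible y := invertibleOfNonzero hy0
  have hinvy : ⅟y = x := by rw [invOf_eq_inv, inv_inv]
  let C : Subalgebra A L := Algebra.adjoin A {y}
  let yC : C := ⟨y, Algebra.subset_adjoin rfl⟩
  let J : Ideal C := (⊥ : Ideal A).map (algebraMap A C) ⊔ Ideal.span {yC}
  have hJ : J ≠ ⊤ := by
    intro htop
    obtain ⟨p, hp, hpx⟩ := Algebra.exists_aeval_invOf_eq_zero_of_idealMap_adjoin_sup_span_eq_top
      y (⊥ : Ideal A) bot_ne_top htop
    rw [hinvy] at hpx
    rw [Ideal.mem_bot, sub_eq_zero] at hp
    exact hx ⟨p, hp, by rw [← Polynomial.aeval_def]; exact hpx⟩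
  obtain ⟨𝔫, h𝔫max, hJ𝔫⟩ := Ideal.exists_le_maximal J hJ
  have h𝔫p : 𝔫.IsPrime := h𝔫max.isPrime
  have hCfg : C.FG := by
    have := Subalgebra.fg_adjoin_finset (R := A) ({y} : Finset L)
    rwa [Finset.coe_singleton] at this
  have hCft : Algebra.FiniteType A C := (Subalgebra.fg_iff_finiteType C).mp hCfg
  have hNC : IsNoetherianRing C := Algebra.FiniteType.isNoetherianRing A C
  have hyC𝔫 : yC ∈ 𝔫 := hJ𝔫 (Ideal.mem_sup_right (Ideal.mem_span_singleton_self yC))
  have hyC0 : yC ≠ 0 := fun h0 => hy0 (congrArg Subtype.val h0)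
  have h𝔫0 : 𝔫 ≠ ⊥ := fun h0 => hyC0 (by rw [h0] at hyC𝔫; exact hyC𝔫)
  have hSC : Subfield.closure (Set.range (algebraMap C L) ∪ (S : Set L)) = ⊤ := by
    rw [eq_top_iff, ← hS]
    refine Subfield.closure_mono (Set.union_subset_union_left _ ?_)
    rintro _ ⟨a, rfl⟩
    exact ⟨algebraMap A C a, rfl⟩
  obtain ⟨O, hOdvr, hOC, hOval⟩ :=
    exists_dvr_of_closure_eq_top C L Subtype.val_injective S hSC 𝔫 h𝔫0
  refine ⟨O, hOdvr, fun a => hOC (algebraMap A C a), ?_⟩
  intro hxO
  have h1 : O.valuation y < 1 := (hOval yC).mpr hyC𝔫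
  have h2 : O.valuation x ≤ 1 := (O.valuation_le_one_iff x).mpr hxO
  have h3 : O.valuation (x * y) = 1 := by
    rw [mul_inv_cancel₀ hx0, map_one]
  rw [map_mul] at h3
  have h4 : O.valuation x * O.valuation y < 1 := by
    calc O.valuation x * O.valuation y ≤ 1 * O.valuation y := mul_le_mul_left h2 _
      _ = O.valuation y := one_mul _
      _ < 1 := h1
  exact absurd h3 (ne_of_lt h4)

end Main

end Groth.Agent.Lib.Helper21.KA
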