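import Groth.Agent.Lib.Helper21.DVRExt3
import Groth.Agent.Lib.Helper21.KA8
import Mathlib.AlgebraicGeometry.ResidueField

/-!
# A discrete valuation ring of the residue field realising a specialization (EGA II 7.1.9)

`p : X ⟶ Y` locally of finite type, `Y` locally Noetherian, `x ∈ X`, `p x ⤳ y'`, `y' ≠ p x`. There
is a discrete valuation subring `A` of `κ(x)` and `h : Spec A ⟶ Y` mapping the closed point to `y'`
and restricting to `Spec κ(x) ⟶ X ⟶ Y` on the generic point.
-/

set_option autoImplicit false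
universe u
open AlgebraicGeometry CategoryTheory Limits TopologicalSpace

namespace Groth.Agent.Lib.Helper21.DVRExt

variable {X Y : Scheme.{u}}

/-- Every element of the residue field at `x` is a quotient of values of sections over an affine
open neighbourhood. -/
theorem residueField_eq_div {V : X.Opens} (hV : IsAffineOpen V) (x : X) (hxV : x ∈ V)
    (z : X.residueField x) :
    ∃ b s : Γ(X, V), (X.presheaf.germ V x hxV ≫ X.residue x).hom s ≠ 0 ∧
      z = (X.presheaf.germ V x hxV ≫ X.residue x).hom b /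
        (X.presheaf.germ V x hxV ≫ X.residue x).hom s := by
  let _ : Algebra Γ(X, V) (X.presheaf.stalk x) :=
    TopCat.Presheaf.algebra_section_stalk X.presheaf ⟨x, hxV⟩
  have hloc := hV.isLocalization_stalk ⟨x, hxV⟩
  have hsurj : Function.Surjective (X.residue x).hom :=
    IsLocalRing.residue_surjective (R := X.presheaf.stalk x)
  obtain ⟨σ, rfl⟩ := hsurj z
  obtain ⟨⟨b, s⟩, hbs⟩ := IsLocalization.surj (hV.primeIdealOf ⟨x, hxV⟩).asIdeal.primeCompl σ
  have hsu : IsUnit (algebraMap Γ(X, V) (X.presheaf.stalk x) s.1) :=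
    IsLocalization.map_units _ s
  have hψ : ∀ t : Γ(X, V), (X.presheaf.germ V x hxV ≫ X.residue x).hom t =
      (X.residue x).hom (algebraMap Γ(X, V) (X.presheaf.stalk x) t) := fun _ => rfl
  have hs0 : (X.residue x).hom (algebraMap Γ(X, V) (X.presheaf.stalk x) s.1) ≠ 0 :=
    (hsu.map (X.residue x).hom).ne_zero
  refine ⟨b, s.1, by rw [hψ]; exact hs0, ?_⟩
  rw [hψ, hψ, eq_div_iff hs0, ← map_mul]
  exact congrArg _ hbs

/-- **EGA II 7.1.9.** A discrete valuation ring of `κ(x)` realising a specialization of `p x`. -/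
theorem exists_dvr_valuationSubring_of_specializes [IsLocallyNoetherian Y]
    (p : X ⟶ Y) [LocallyOfFiniteType p] (x : X) (y' : Y) (hsp : p x ⤳ y') (hne : y' ≠ p x) :
    ∃ (A : ValuationSubring (X.residueField x)) (h : Spec (CommRingCat.of A) ⟶ Y),
      IsDiscreteValuationRing A ∧ h (IsLocalRing.closedPoint A) = y' ∧
      Spec.map (CommRingCat.ofHom A.subtype) ≫ h = X.fromSpecResidueField x ≫ p := by
  classical
  -- charts
  obtain ⟨W, hW, hy'W⟩ : ∃ W : Y.Opens, IsAffineOpen W ∧ y' ∈ W := by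
    obtain ⟨W, h1, h2, -⟩ := Opens.isBasis_iff_nbhd.mp Y.isBasis_affineOpens
      (show y' ∈ (⊤ : Y.Opens) from trivial)
    exact ⟨W, h1, h2⟩
  have hyW : p x ∈ W := hsp.mem_open W.isOpen hy'W
  obtain ⟨V, hV, hxV, hVW⟩ : ∃ V : X.Opens, IsAffineOpen V ∧ x ∈ V ∧ V ≤ p ⁻¹ᵁ W := by
    obtain ⟨V, h1, h2, h3⟩ := Opens.isBasis_iff_nbhd.mp X.isBasis_affineOpens
      (show x ∈ p ⁻¹ᵁ W from hyW)
    exact ⟨V, h1, h2, h3⟩
  let A₀ := Γ(Y, W)
  let B₀ := Γ(X, V)
  have hA₀N : IsNoetherianRing A₀ := IsLocallyNoetherian.component_noetherian ⟨W, hW⟩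
  let φ₀ : A₀ ⟶ B₀ := p.appLE W V hVW
  have hφ₀ : Spec.map φ₀ ≫ hW.fromSpec = hV.fromSpec ≫ p :=
    IsAffineOpen.SpecMap_appLE_fromSpec p hW hV hVW
  let ψ : B₀ ⟶ X.residueField x := X.presheaf.germ V x hxV ≫ X.residue x
  have hψ : Spec.map ψ ≫ hV.fromSpec = X.fromSpecResidueField x := by
    rw [Scheme.fromSpecResidueField, ← hV.fromSpecStalk_eq_fromSpecStalk hxV,
      IsAffineOpen.fromSpecStalk, Spec.map_comp, Category.assoc]
  let φ : A₀ ⟶ X.residueField x := φ₀ ≫ ψ
  have hφ : Spec.map φ ≫ hW.fromSpec = X.fromSpecResidueField x ≫ p := by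
    rw [Spec.map_comp, Category.assoc, hφ₀, ← Category.assoc, hψ]
  -- the kernel of `φ` is the prime of `p x`
  let Py := hW.primeIdealOf ⟨p x, hyW⟩
  let Py' := hW.primeIdealOf ⟨y', hy'W⟩
  have hker : RingHom.ker φ.hom = Py.asIdeal := by
    let pt : Spec (X.residueField x) := (⟨⊥, Ideal.isPrime_bot⟩ : PrimeSpectrum (X.residueField x))
    have h1 : hW.fromSpec (Spec.map φ pt) = p x := by
      rw [← Scheme.Hom.comp_apply, hφ, Scheme.Hom.comp_apply,
        Scheme.fromSpecResidueField_apply]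
    have h2 : hW.fromSpec Py = p x := hW.fromSpec_primeIdealOf ⟨p x, hyW⟩
    have h3 : Spec.map φ pt = Py := hW.fromSpec.isOpenEmbedding.injective (h1.trans h2.symm)
    have h4 : (Spec.map φ pt).asIdeal = RingHom.ker φ.hom := rfl
    rw [← h4, h3]
  have hle : Py.asIdeal ≤ Py'.asIdeal := Birat.primeIdealOf_le_of_specializes hW hyW hy'W hsp
  have hneq : Py.asIdeal ≠ Py'.asIdeal := fun h =>
    hne (Birat.primeIdealOf_injective hW hyW hy'W h).symm
  -- the quotient domain
  have hkerprime : (RingHom.ker φ.hom).IsPrime := RingHom.ker_isPrime φ.hom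
  let A₁ := A₀ ⧸ RingHom.ker φ.hom
  let mk : A₀ →+* A₁ := Ideal.Quotient.mk _
  have hmk : Function.Surjective mk := Ideal.Quotient.mk_surjective
  let φbar : A₁ →+* X.residueField x := RingHom.kerLift φ.hom
  have hφbar : Function.Injective φbar := RingHom.kerLift_injective φ.hom
  have hφbarmk : ∀ a : A₀, φbar (mk a) = φ.hom a := fun a => RingHom.kerLift_mk φ.hom a
  let _ : Algebra A₁ (X.residueField x) := φbar.toAlgebra
  let 𝔭 : Ideal A₁ := Py'.asIdeal.map mk
  have hle' : RingHom.ker φ.hom ≤ Py'.asIdeal := hker ▸ hle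
  have h𝔭prime : 𝔭.IsPrime := Ideal.map_isPrime_of_surjective hmk (by
    rw [Ideal.mk_ker]; exact hle')
  have hcomap : 𝔭.comap mk = Py'.asIdeal := by
    rw [Ideal.comap_map_of_surjective mk hmk, ← RingHom.ker_eq_comap_bot, Ideal.mk_ker,
      sup_eq_left.mpr hle']
  have h𝔭0 : 𝔭 ≠ ⊥ := by
    intro h0
    apply hneq
    refine le_antisymm hle ?_
    rw [← hcomap, h0, ← RingHom.ker_eq_comap_bot, Ideal.mk_ker, hker]
  -- generators
  letI algAB : Algebra A₀ B₀ := φ₀.hom.toAlgebra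
  have hft : Algebra.FiniteType A₀ B₀ :=
    HasRingHomProperty.appLE (P := @LocallyOfFiniteType) p inferInstance ⟨W, hW⟩ ⟨V, hV⟩ hVW
  obtain ⟨t, ht⟩ := (Algebra.FiniteType.out : (⊤ : Subalgebra A₀ B₀).FG)
  let S : Finset (X.residueField x) := t.image ψ.hom
  have hS : Subfield.closure (Set.range (algebraMap A₁ (X.residueField x)) ∪ (S : Set _)) = ⊤ := by
    set G := Subfield.closure (Set.range (algebraMap A₁ (X.residueField x)) ∪ (S : Set _)) with hG
    have hψG : ∀ b : B₀, ψ.hom b ∈ G := by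
      intro b
      have hb : b ∈ Algebra.adjoin A₀ (t : Set B₀) := by rw [ht]; exact Algebra.mem_top
      induction hb using Algebra.adjoin_induction with
      | mem g hg =>
        exact Subfield.subset_closure (Or.inr (Finset.mem_coe.mpr (Finset.mem_image_of_mem _ hg)))
      | algebraMap a =>
        refine Subfield.subset_closure (Or.inl ⟨mk a, ?_⟩)
        exact hφbarmk a
      | add b₁ b₂ _ _ h₁ h₂ => rw [map_add]; exact add_mem h₁ h₂
      | mul b₁ b₂ _ _ h₁ h₂ => rw [map_mul]; exact mul_mem h₁ h₂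
    rw [eq_top_iff]
    intro z _
    obtain ⟨b, s, -, rfl⟩ := residueField_eq_div hV x hxV z
    exact div_mem (hψG b) (hψG s)
  obtain ⟨O, hOdvr, hA₁O, hOval⟩ :=
    KA.exists_dvr_of_closure_eq_top A₁ (X.residueField x) hφbar S hS 𝔭 h𝔭0
  have hφO : ∀ a : A₀, φ.hom a ∈ O.toSubring := fun a => by
    rw [← hφbarmk a]; exact hA₁O (mk a)
  let χ : A₀ →+* O := φ.hom.codRestrict O.toSubring hφO
  let h : Spec (CommRingCat.of O) ⟶ Y := Spec.map (CommRingCat.ofHom χ) ≫ hW.fromSpec
  refine ⟨O, h, hOdvr, ?_, ?_⟩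
  · have h1 : Spec.map (CommRingCat.ofHom χ) (IsLocalRing.closedPoint O) = Py' := by
      apply PrimeSpectrum.ext
      ext a
      change χ a ∈ IsLocalRing.maximalIdeal O ↔ a ∈ Py'.asIdeal
      rw [O.valuation_lt_one_iff, ← hcomap, Ideal.mem_comap]
      have : ((χ a : O) : X.residueField x) = algebraMap A₁ (X.residueField x) (mk a) :=
        (hφbarmk a).symm
      rw [this]
      exact hOval (mk a)
    change (Spec.map (CommRingCat.ofHom χ) ≫ hW.fromSpec) (IsLocalRing.closedPoint O) = y'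
    rw [Scheme.Hom.comp_apply, h1]
    exact hW.fromSpec_primeIdealOf ⟨y', hy'W⟩
  · change Spec.map (CommRingCat.ofHom O.subtype) ≫ Spec.map (CommRingCat.ofHom χ) ≫
      hW.fromSpec = _
    rw [← Category.assoc, ← Spec.map_comp, ← hφ]
    rfl

end Groth.Agent.Lib.Helper21.DVRExt
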