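import Groth.Agent.Lib.Helper21.FibDim13
import Groth.Agent.Lib.Helper6.UO4
import Groth.Agent.Lib.Helper21.FibDim9

/-!
# Local dimension for flat morphisms of relative dimension `d`
-/

set_option autoImplicit false
set_option linter.style.haveILetI false
set_option linter.unusedSectionVars false
universe u

open AlgebraicGeometry CategoryTheory Limits TopologicalSpace

namespace Groth.Agent.Lib.Helper21.FibDim

open Groth.Agent.Lib.Helper21.ChartPt Groth.Agent.Lib.Helper21.NagDvr
  Groth.Agent.Lib.Helper20.DimTrdeg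

/-- every point of an open of a scheme locally of finite type over a field specialises, inside
the open, to a point whose residue field is algebraic over the base field -/
theorem exists_mem_specializes_trdeg_eq_zero (k : Type u) [Field k] (X : Scheme.{u})
    [X.Over (Spec (CommRingCat.of k))] [LocallyOfFiniteType (X ↘ Spec (CommRingCat.of k))]
    (O : X.Opens) (x : X) (hx : x ∈ O) :
    ∃ z : X, z ∈ O ∧ x ⤳ z ∧
      @Algebra.trdeg k (X.residueField z) _ _ (Curv2.resAlgebra k X z) = 0 := by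
  obtain ⟨W, hW, hxW, hWO⟩ := Opens.isBasis_iff_nbhd.mp X.isBasis_affineOpens hx
  have hW : IsAffineOpen W := hW
  obtain ⟨m, hm, hqm⟩ := Ideal.exists_le_maximal (hW.primeIdealOf ⟨x, hxW⟩).asIdeal
    (hW.primeIdealOf ⟨x, hxW⟩).2.ne_top
  obtain ⟨⟨z, hzW⟩, hz⟩ := exists_primeIdealOf_eq hW ⟨m, hm.isPrime⟩
  have hz' : (hW.primeIdealOf ⟨z, hzW⟩).asIdeal = m := congrArg PrimeSpectrum.asIdeal hz
  refine ⟨z, hWO hzW, ?_, ?_⟩
  · rw [specializes_iff_primeIdealOf_le hW ⟨x, hxW⟩ ⟨z, hzW⟩, hz']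
    exact hqm
  · obtain ⟨s, hs1, hs2⟩ := exists_nat_trdeg_eq_and_dim_quotient k X hW z hzW
    have h0 : ringKrullDim (Γ(X, W) ⧸ (hW.primeIdealOf ⟨z, hzW⟩).asIdeal) = 0 := by
      rw [hz']
      letI := Ideal.Quotient.field m
      exact ringKrullDim_eq_zero_of_field _
    rw [h0] at hs2
    have hs0 : s = 0 := by exact_mod_cast hs2.symm
    rw [hs1, hs0]
    rfl

/-- every point of an open specialises, inside the open and inside its fibre, to a point whose
residue field is algebraic over that of its image -/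
theorem exists_mem_specializes_fiber_trdeg_eq_zero {X S : Scheme.{u}} (f : X ⟶ S)
    [LocallyOfFiniteType f] (U : X.Opens) (x₀ : X) (hx₀ : x₀ ∈ U) :
    ∃ x : X, x ∈ U ∧ x₀ ⤳ x ∧ f x = f x₀ ∧
      @Algebra.trdeg (S.residueField (f x)) (X.residueField x) _ _
        (f.residueFieldMap x).hom.toAlgebra = 0 := by
  letI := fiberOver f (f x₀)
  haveI : LocallyOfFiniteType (f.fiber (f x₀) ↘ Spec (CommRingCat.of (S.residueField (f x₀)))) :=
    MorphismProperty.pullback_snd (P := @LocallyOfFiniteType) _ _ inferInstance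
  have h0 : f.asFiber x₀ ∈ (f.fiberι (f x₀)) ⁻¹ᵁ U := by
    change f.fiberι (f x₀) (f.asFiber x₀) ∈ U
    rw [Scheme.Hom.fiberι_asFiber]
    exact hx₀
  obtain ⟨z, hzO, hz1, hz2⟩ := exists_mem_specializes_trdeg_eq_zero (S.residueField (f x₀))
    (f.fiber (f x₀)) ((f.fiberι (f x₀)) ⁻¹ᵁ U) (f.asFiber x₀) h0
  refine ⟨f.fiberι (f x₀) z, hzO, ?_, (f.fiberHomeo (f x₀) z).2, ?_⟩
  · have := hz1.map (f.fiberι (f x₀)).continuous
    rwa [Scheme.Hom.fiberι_asFiber] at this
  · rw [← trdeg_fiber_eq f (f x₀) z]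
    exact hz2

/-- **Local dimension for a flat morphism of relative dimension `d`** between locally Noetherian
schemes: `dim_x X = dim_{f x} Y + d`. -/
theorem localDim_eq_add_of_flat_of_hasRelDim {X Y : Scheme.{u}} [IsLocallyNoetherian Y]
    (f : X ⟶ Y) [Flat f] [LocallyOfFiniteType f] (d : ℕ) (hd : Cyc.HasRelDim f d) (x : X) :
    FlatMor.localDim X x = FlatMor.localDim Y (f x) + (d : WithBot ℕ∞) := by
  haveI : IsLocallyNoetherian X := LocallyOfFiniteType.isLocallyNoetherian f
  haveI : LocallyOfFinitePresentation f :=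
    Groth.Agent.Lib.Helper6.UO.lfp_of_lft_of_isLocallyNoetherian f
  -- pointwise formula
  have hpt : ∀ u : X, ∃ a b : ℕ, @Algebra.trdeg (Y.residueField (f u)) (X.residueField u) _ _
        (f.residueFieldMap u).hom.toAlgebra = a ∧ a + b = d ∧
      ringKrullDim (X.presheaf.stalk u) = ringKrullDim (Y.presheaf.stalk (f u)) + (b : ℕ) := by
    intro u
    obtain ⟨a, b, ha, hb, hloc⟩ := exists_fibreDimAt_eq_add f u
    refine ⟨a, b, ha, ?_, ?_⟩
    · rw [fibreDimAt_eq_of_hasRelDim f d hd u] at hloc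
      exact_mod_cast hloc.symm
    · rw [ringKrullDim_stalk_eq_add_fibre_of_flat f u, hb]
  apply le_antisymm
  · -- `≤`
    haveI : Nonempty {V : Opens Y // f x ∈ V} := ⟨⟨⊤, trivial⟩⟩
    obtain ⟨V, hV⟩ := ciInf_mem (fun V : {V : Opens Y // f x ∈ V} =>
      topologicalKrullDim (V.1 : Set Y))
    have hV' : topologicalKrullDim (V.1 : Set Y) = FlatMor.localDim Y (f x) := hV
    rw [← hV']
    let U : X.Opens := f ⁻¹ᵁ V.1
    have hxU : x ∈ U := V.2
    refine (Groth.Agent.Lib.Helper18.TopDim.localDim_le_topologicalKrullDim_open U hxU).trans ?_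
    rw [topologicalKrullDim_opens_eq_iSup_stalk U, topologicalKrullDim_opens_eq_iSup_stalk V.1]
    refine iSup_le fun u => ?_
    obtain ⟨a, b, -, hab, hdim⟩ := hpt u.1
    rw [hdim]
    refine add_le_add (le_iSup (fun v : V.1 => ringKrullDim (Y.presheaf.stalk v.1)) ⟨f u.1, u.2⟩) ?_
    have : b ≤ d := by omega
    exact_mod_cast this
  · -- `≥`
    unfold FlatMor.localDim
    refine le_iInf fun U => ?_
    let V : Opens Y := ⟨f '' (U.1 : Set X), f.isOpenMap _ U.1.2⟩
    have hyV : f x ∈ V := ⟨x, U.2, rfl⟩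
    have h1 : (⨅ V : {V : Opens Y // f x ∈ V}, topologicalKrullDim (V.1 : Set Y)) ≤
        topologicalKrullDim (V : Set Y) :=
      iInf_le (fun V : {V : Opens Y // f x ∈ V} => topologicalKrullDim (V.1 : Set Y)) ⟨V, hyV⟩
    refine (add_le_add h1 le_rfl).trans ?_
    rw [topologicalKrullDim_opens_eq_iSup_stalk V]
    refine Groth.Agent.Lib.Helper21.FibDim.iSup_add_nat_le _ d _ fun v => ?_
    obtain ⟨u₀, hu₀U, hu₀v⟩ := v.2
    obtain ⟨u, huU, -, hfu, htr⟩ := exists_mem_specializes_fiber_trdeg_eq_zero f U.1 u₀ hu₀U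
    obtain ⟨a, b, ha, hab, hdim⟩ := hpt u
    have ha0 : a = 0 := by
      have : (a : Cardinal.{u}) = 0 := by rw [← ha, htr]
      exact_mod_cast this
    have hbd : b = d := by omega
    have hfuv : f u = v.1 := hfu.trans hu₀v
    have h2 : ∀ y' : Y, f u = y' → ringKrullDim (Y.presheaf.stalk (f u)) =
        ringKrullDim (Y.presheaf.stalk y') := by
      rintro _ rfl
      rfl
    rw [← h2 _ hfuv, ← hbd, ← hdim, topologicalKrullDim_opens_eq_iSup_stalk U.1]
    exact le_iSup (fun u : U.1 => ringKrullDim (X.presheaf.stalk u.1)) ⟨u, huU⟩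

end Groth.Agent.Lib.Helper21.FibDim
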