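import Groth.Agent.Lib.Helper21.DimLoc6
import Groth.Agent.Lib.Helper21.FibDim14
import Groth.Prelude.Def_EGA43

/-!
# Morphisms equidimensional at a point: the dimension formula
-/

set_option autoImplicit false
set_option linter.style.haveILetI false
set_option linter.unusedSectionVars false
universe u
open AlgebraicGeometry CategoryTheory TopologicalSpace IsLocalRing Limits

namespace Groth.Agent.Lib.Helper21.EquidimAt

open Groth.Agent.Lib.Helper21.FibDim Groth.Agent.Lib.Helper21.DimLoc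

/-- the point of `X` corresponding to a minimal prime of `O_{X,x}` has no proper generisation -/
theorem eq_of_specializes_fromSpecStalk_of_minimal {X : Scheme.{u}} (x : X)
    (𝔭 : Ideal (X.presheaf.stalk x)) [h𝔭 : 𝔭.IsPrime] (hmin : 𝔭 ∈ minimalPrimes (X.presheaf.stalk x))
    (ξ' : X) (h : ξ' ⤳ X.fromSpecStalk x ⟨𝔭, h𝔭⟩) : ξ' = X.fromSpecStalk x ⟨𝔭, h𝔭⟩ := by
  have hξx : X.fromSpecStalk x ⟨𝔭, h𝔭⟩ ⤳ x := by
    have : X.fromSpecStalk x ⟨𝔭, h𝔭⟩ ∈ Set.range (X.fromSpecStalk x) := ⟨_, rfl⟩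
    rw [Scheme.range_fromSpecStalk] at this
    exact this
  have h1 : ξ' ∈ Set.range (X.fromSpecStalk x) := by
    rw [Scheme.range_fromSpecStalk]
    exact h.trans hξx
  obtain ⟨P', rfl⟩ := h1
  have h2 : P' ⤳ (⟨𝔭, h𝔭⟩ : Spec (X.presheaf.stalk x)) :=
    (X.fromSpecStalk x).isEmbedding.isInducing.specializes_iff.mp h
  have h3 : P'.asIdeal ≤ 𝔭 := (PrimeSpectrum.le_iff_specializes P' ⟨𝔭, h𝔭⟩).mpr h2
  have h4 : 𝔭 ≤ P'.asIdeal := hmin.2 ⟨P'.2, bot_le⟩ h3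
  have h5 : P' = ⟨𝔭, h𝔭⟩ := PrimeSpectrum.ext (le_antisymm h3 h4)
  rw [h5]

variable {X Y : Scheme.{u}} (f : X ⟶ Y) [LocallyOfFiniteType f]

/-- restricting to an open does not change local fibre dimensions -/
theorem fibreDimAt_ι_comp (U : X.Opens) (u : U) :
    FlatMor.fibreDimAt (U.ι ≫ f) u = FlatMor.fibreDimAt f u.1 :=
  (Groth.Agent.Lib.Helper6.EtaleSq.fibreDimAt_etale_square f (U.ι ≫ f) U.ι (𝟙 Y)
    (Category.comp_id _) u).symm

/-- if all components of all fibres of `U ⟶ Y` through points of `U` have dimension `e`, the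
local fibre dimension of `f` is `e` at all points of `U` -/
theorem fibreDimAt_eq_of_forall_components (U : X.Opens) (e : ℕ)
    (h : ∀ x' : U, ∀ Z ∈ irreducibleComponents ((U.ι ≫ f).fiber ((U.ι ≫ f) x')),
      topologicalKrullDim Z = e) (u : X) (hu : u ∈ U) : FlatMor.fibreDimAt f u = e := by
  have hrel : Cyc.HasRelDim (U.ι ≫ f) e := by
    intro y T hT
    obtain ⟨t, -⟩ := hT.1.nonempty
    have hy : (U.ι ≫ f) ((U.ι ≫ f).fiberι y t) = y := ((U.ι ≫ f).fiberHomeo y t).2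
    have h1 := h ((U.ι ≫ f).fiberι y t)
    rw [hy] at h1
    exact h1 T hT
  rw [← fibreDimAt_ι_comp f U ⟨u, hu⟩]
  exact fibreDimAt_eq_of_hasRelDim (U.ι ≫ f) e hrel ⟨u, hu⟩

/-- **Dimension formula at a point where `f` is equidimensional** (EGA IV 13.3.6): for every
minimal prime `𝔭` of `O_{X,x}`,
`dim O_{X,x}/𝔭 + trdeg κ(x)/κ(y) = dim O_{Y,y}/(𝔭 ∩ O_{Y,y}) + e`. -/
theorem ringKrullDim_quotient_minimalPrime (x : X) (U : X.Opens) (hxU : x ∈ U) (e : ℕ)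
    (h : ∀ x' : U, ∀ Z ∈ irreducibleComponents ((U.ι ≫ f).fiber ((U.ι ≫ f) x')),
      topologicalKrullDim Z = e)
    (hcat : CAlg.IsUniversallyCatenary (Y.presheaf.stalk (f x)))
    (𝔭 : Ideal (X.presheaf.stalk x)) (hmin : 𝔭 ∈ minimalPrimes (X.presheaf.stalk x)) (a : ℕ)
    (ha : @Algebra.trdeg (Y.residueField (f x)) (X.residueField x) _ _
      (f.residueFieldMap x).hom.toAlgebra = a) :
    ringKrullDim (X.presheaf.stalk x ⧸ 𝔭) + (a : WithBot ℕ∞) =
      ringKrullDim (Y.presheaf.stalk (f x) ⧸ 𝔭.comap (f.stalkMap x).hom) + (e : WithBot ℕ∞) := by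
  haveI h𝔭 : 𝔭.IsPrime := hmin.1.1
  set ξ := X.fromSpecStalk x ⟨𝔭, h𝔭⟩ with hξ
  have hξx : ξ ⤳ x := by
    have : ξ ∈ Set.range (X.fromSpecStalk x) := ⟨_, rfl⟩
    rw [Scheme.range_fromSpecStalk] at this
    exact this
  have hξU : ξ ∈ U := hξx.mem_open U.2 hxU
  have hmax : ∀ ξ' : X, ξ' ⤳ ξ → ξ' = ξ :=
    eq_of_specializes_fromSpecStalk_of_minimal x 𝔭 hmin
  obtain ⟨E, hE1, hE2⟩ := fibreDimAt_eq_trdeg_of_maximal' f ξ hmax
  have hEe : E = e := by
    have h1 := fibreDimAt_eq_of_forall_components f U e h ξ hξU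
    rw [hE1] at h1
    exact_mod_cast h1
  subst hEe
  exact ringKrullDim_quotient_formula f x hcat 𝔭 a E ha hE2

end Groth.Agent.Lib.Helper21.EquidimAt
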