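import Groth.Agent.Lib.Helper21.FibDim10
import Groth.Agent.S0402

/-!
# Fibre dimensions of a composite
-/

set_option autoImplicit false
set_option linter.style.haveILetI false
set_option linter.unusedSectionVars false
universe u

open AlgebraicGeometry CategoryTheory Limits TopologicalSpace

namespace Groth.Agent.Lib.Helper21.FibDim

section Comp

variable {X Y Z : Scheme.{u}} (f : X ⟶ Y) (g : Y ⟶ Z)

/-- additivity of residue transcendence degrees along a composite -/
theorem trdeg_comp (x : X) (b c : ℕ)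
    (hb : @Algebra.trdeg (Z.residueField (g (f x))) (Y.residueField (f x)) _ _
        (g.residueFieldMap (f x)).hom.toAlgebra = b)
    (hc : @Algebra.trdeg (Y.residueField (f x)) (X.residueField x) _ _
        (f.residueFieldMap x).hom.toAlgebra = c) :
    @Algebra.trdeg (Z.residueField ((f ≫ g) x)) (X.residueField x) _ _
        ((f ≫ g).residueFieldMap x).hom.toAlgebra = (b + c : ℕ) := by
  let _ : Algebra (Z.residueField (g (f x))) (Y.residueField (f x)) :=
    (g.residueFieldMap (f x)).hom.toAlgebra
  let _ : Algebra (Z.residueField (g (f x))) (X.residueField x) :=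
    ((f ≫ g).residueFieldMap x).hom.toAlgebra
  let _ : Algebra (Y.residueField (f x)) (X.residueField x) :=
    (f.residueFieldMap x).hom.toAlgebra
  have : IsScalarTower (Z.residueField (g (f x))) (Y.residueField (f x)) (X.residueField x) := by
    refine IsScalarTower.of_algebraMap_eq' ?_
    change ((f ≫ g).residueFieldMap x).hom =
      (f.residueFieldMap x).hom.comp (g.residueFieldMap (f x)).hom
    rw [Scheme.residueFieldMap_comp]
    rfl
  have h1 := trdeg_add_eq (Z.residueField (g (f x))) (Y.residueField (f x))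
    (A := X.residueField x)
  rw [hb, hc] at h1
  change Algebra.trdeg (Z.residueField (g (f x))) (X.residueField x) = _
  rw [← h1]
  push_cast
  rfl

end Comp

variable {X S : Scheme.{u}} (f : X ⟶ S) [LocallyOfFiniteType f]

/-- the residue field extension at a point has finite transcendence degree -/
theorem exists_nat_trdeg_residueFieldMap (x : X) :
    ∃ n : ℕ, @Algebra.trdeg (S.residueField (f x)) (X.residueField x) _ _
      (f.residueFieldMap x).hom.toAlgebra = n := by
  obtain ⟨N, -, -, hall⟩ := exists_fibreDimAt_eq_trdeg f x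
  have h1 := hall x specializes_rfl rfl
  have h2 := lt_of_le_of_lt h1 (Cardinal.natCast_lt_aleph0 (n := N))
  obtain ⟨n, hn⟩ := Cardinal.lt_aleph0.mp h2
  exact ⟨n, hn⟩

/-- Chevalley: the local fibre dimension does not increase under generisation -/
theorem fibreDimAt_le_of_specializes {ξ x : X} (h : ξ ⤳ x) :
    FlatMor.fibreDimAt f ξ ≤ FlatMor.fibreDimAt f x := by
  obtain ⟨n, hn, -, -⟩ := exists_fibreDimAt_eq_trdeg f x
  have hopen := Groth.Agent.S0402.result f n
  have hx : x ∈ {x : X | FlatMor.fibreDimAt f x ≤ n} := hn.le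
  have hξ := h.mem_open hopen hx
  rw [hn]
  exact hξ

section Comp2

variable {X Y Z : Scheme.{u}} (f : X ⟶ Y) (g : Y ⟶ Z) [LocallyOfFiniteType f]
  [LocallyOfFiniteType g]

/-- the local fibre dimension of a composite is at most the sum of the local fibre dimensions -/
theorem fibreDimAt_comp_le (x : X) :
    FlatMor.fibreDimAt (f ≫ g) x ≤ FlatMor.fibreDimAt f x + FlatMor.fibreDimAt g (f x) := by
  obtain ⟨N, hN, ⟨ξ, hξx, hξs, hξN⟩, -⟩ := exists_fibreDimAt_eq_trdeg (f ≫ g) x
  obtain ⟨nf, hnf, -, -⟩ := exists_fibreDimAt_eq_trdeg f x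
  obtain ⟨ng, hng, -, hgall⟩ := exists_fibreDimAt_eq_trdeg g (f x)
  obtain ⟨b, hb⟩ := exists_nat_trdeg_residueFieldMap g (f ξ)
  obtain ⟨c, hc⟩ := exists_nat_trdeg_residueFieldMap f ξ
  have hgξ : g (f ξ) = g (f x) := hξs
  have hb_le : b ≤ ng := by
    have h1 := hgall (f ξ) (hξx.map f.continuous) hgξ
    rw [hb] at h1
    exact_mod_cast h1
  have hc_le : c ≤ nf := by
    obtain ⟨m, hm, -, hmall⟩ := exists_fibreDimAt_eq_trdeg f ξ
    have h1 := hmall ξ specializes_rfl rfl
    rw [hc] at h1
    have h2 : c ≤ m := by exact_mod_cast h1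
    have h3 := fibreDimAt_le_of_specializes f hξx
    rw [hm, hnf] at h3
    have h4 : m ≤ nf := by exact_mod_cast h3
    omega
  have hsum := trdeg_comp f g ξ b c hb hc
  rw [hξN] at hsum
  have hN' : N = b + c := by exact_mod_cast hsum
  rw [hN, hnf, hng]
  have : N ≤ nf + ng := by omega
  exact_mod_cast this

/-- relative dimensions add up under composition with a flat first morphism -/
theorem hasRelDim_comp [Flat f] (d e : ℕ) (hf : Cyc.HasRelDim f d) (hg : Cyc.HasRelDim g e) :
    Cyc.HasRelDim (f ≫ g) (d + e) := by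
  intro s T hT
  obtain ⟨z, hz, hdimT, hmax⟩ := exists_isGenericPoint_fiber (f ≫ g) s T hT
  set x := (f ≫ g).fiberι s z with hx
  obtain ⟨N, hN1, hN2⟩ := fibreDimAt_eq_trdeg_of_maximal (f ≫ g) x hmax
  have hmaxf : ∀ x' : X, x' ⤳ x → f x' = f x → x' = x := by
    intro x' hsp hfx
    refine hmax x' hsp ?_
    change g (f x') = g (f x)
    rw [hfx]
  have hmaxg : ∀ y' : Y, y' ⤳ f x → g y' = g (f x) → y' = f x := by
    intro y' hsp hgy
    obtain ⟨ξ, hξ, rfl⟩ := Flat.generalizingMap f hsp
    have := hmax ξ hξ hgy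
    rw [this]
  obtain ⟨c, hc1, hc2⟩ := fibreDimAt_eq_trdeg_of_maximal f x hmaxf
  obtain ⟨b, hb1, hb2⟩ := fibreDimAt_eq_trdeg_of_maximal g (f x) hmaxg
  have hcd : c = d := by
    have := fibreDimAt_eq_of_hasRelDim f d hf x
    rw [hc1] at this
    exact_mod_cast this
  have hbe : b = e := by
    have := fibreDimAt_eq_of_hasRelDim g e hg (f x)
    rw [hb1] at this
    exact_mod_cast this
  have hsum := trdeg_comp f g x b c hb2 hc2
  rw [hN2] at hsum
  have hN' : N = b + c := by exact_mod_cast hsum
  rw [hdimT, hN1, hN', hbe, hcd, add_comm]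

end Comp2

end Groth.Agent.Lib.Helper21.FibDim
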