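import Groth.Agent.Lib.Helper21.FibDim6
import Groth.Agent.Lib.Helper21.DimLoc2
import Groth.Agent.Lib.Helper14.SchemeDim
import Groth.Agent.Lib.Helper18.SerreReg2

set_option autoImplicit false
set_option linter.style.haveILetI false
set_option linter.unusedSectionVars false
universe u

open AlgebraicGeometry CategoryTheory Limits TopologicalSpace

namespace Groth.Agent.Lib.Helper21.FibDim

open Groth.Agent.Lib.Helper21.ChartPt Groth.Agent.Lib.Helper21.NagDvr
  Groth.Agent.Lib.Helper20.DimTrdeg

/-- along a flat morphism local rings do not drop in dimension -/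
theorem ringKrullDim_stalk_le_of_flat {X Y : Scheme.{u}} (f : X ⟶ Y) [Flat f] (x : X) :
    ringKrullDim (Y.presheaf.stalk (f x)) ≤ ringKrullDim (X.presheaf.stalk x) := by
  rw [ringKrullDim_stalk_eq_coheight, ringKrullDim_stalk_eq_coheight]
  refine WithBot.coe_le_coe.2 ?_
  refine Order.coheight_le_iff'.mpr ?_
  intro p hp
  obtain ⟨q, hq1, hq2⟩ := Groth.Agent.Lib.Helper14.AS.exists_ltSeries_of_generalizingMap f
    f.continuous (Flat.generalizingMap f) p x hp.symm
  rw [← hq2, ← hq1]
  exact Order.length_le_coheight_head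

/-- a flat morphism maps maximal points to maximal points -/
theorem eq_of_specializes_map_of_flat {X Y : Scheme.{u}} (f : X ⟶ Y) [Flat f] (x : X)
    (hmax : ∀ x' : X, x' ⤳ x → x' = x) (y : Y) (hy : y ⤳ f x) : y = f x := by
  obtain ⟨x', hx', rfl⟩ := Flat.generalizingMap f hy
  rw [hmax x' hx']

/-- a flat morphism from an irreducible scheme to an irreducible scheme preserves generic
points -/
theorem map_genericPoint_of_flat {X Y : Scheme.{u}} (f : X ⟶ Y) [Flat f] [IrreducibleSpace X]
    [IrreducibleSpace Y] : f (genericPoint X) = genericPoint Y := by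
  refine (eq_of_specializes_map_of_flat f (genericPoint X) ?_ (genericPoint Y)
    (genericPoint_specializes _)).symm
  intro x' hx'
  exact (hx'.antisymm (genericPoint_specializes x')).eq

/-- a point without proper generisations is maximal in its fibre -/
theorem fibreDimAt_eq_trdeg_of_maximal' {X S : Scheme.{u}} (f : X ⟶ S) [LocallyOfFiniteType f]
    (x : X) (hmax : ∀ x' : X, x' ⤳ x → x' = x) :
    ∃ n : ℕ, FlatMor.fibreDimAt f x = n ∧
      @Algebra.trdeg (S.residueField (f x)) (X.residueField x) _ _
        (f.residueFieldMap x).hom.toAlgebra = n :=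
  fibreDimAt_eq_trdeg_of_maximal f x (fun x' h _ => hmax x' h)

/-- generic points of irreducible components have no proper generisations -/
theorem eq_of_specializes_of_closure_mem {T : Type*} [TopologicalSpace T] [T0Space T] (ξ : T)
    (hξ : closure {ξ} ∈ irreducibleComponents T) (x' : T) (h : x' ⤳ ξ) : x' = ξ :=
  eq_of_specializes_isGenericPoint (closure {ξ}) hξ ξ x' rfl h

/-- **Flat morphisms: fibre components have the dimension of a generic fibre.**  For a flat
morphism locally of finite type to a locally Noetherian scheme and a point `x` maximal in its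
fibre, some generic point `ξ` of an irreducible component of `X` through `x` has the same
residual transcendence degree. -/
theorem exists_generic_trdeg_eq_of_flat {X Y : Scheme.{u}} (f : X ⟶ Y) [LocallyOfFiniteType f]
    [Flat f] [IsLocallyNoetherian Y] (x : X)
    (hmax : ∀ x' : X, x' ⤳ x → f x' = f x → x' = x) :
    ∃ (ξ : X) (n : ℕ), closure {ξ} ∈ irreducibleComponents X ∧ ξ ⤳ x ∧
      FlatMor.fibreDimAt f x = n ∧
      @Algebra.trdeg (Y.residueField (f x)) (X.residueField x) _ _
        (f.residueFieldMap x).hom.toAlgebra = n ∧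
      FlatMor.fibreDimAt f ξ = n ∧
      @Algebra.trdeg (Y.residueField (f ξ)) (X.residueField ξ) _ _
        (f.residueFieldMap ξ).hom.toAlgebra = n := by
  haveI : IsLocallyNoetherian X := LocallyOfFiniteType.isLocallyNoetherian f
  obtain ⟨n, hn1, hn2⟩ := fibreDimAt_eq_trdeg_of_maximal f x hmax
  obtain ⟨ξ, hcomp, hsp, H⟩ :=
    Groth.Agent.Lib.Helper21.DimLoc.exists_generic_stalk_dim_inequality f x
  obtain ⟨e, he1, he2⟩ := fibreDimAt_eq_trdeg_of_maximal' f ξ
    (eq_of_specializes_of_closure_mem ξ hcomp)
  have hineq := H n e hn2 he2.le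
  have hflat := ringKrullDim_stalk_le_of_flat f x
  obtain ⟨cX, hcX⟩ := Groth.Agent.Lib.Helper18.SerreReg.exists_ringKrullDim_eq_nat
    (X.presheaf.stalk x)
  obtain ⟨cY, hcY⟩ := Groth.Agent.Lib.Helper18.SerreReg.exists_ringKrullDim_eq_nat
    (Y.presheaf.stalk (f x))
  rw [hcX, hcY] at hineq hflat
  have h1 : cX + n ≤ cY + e := by exact_mod_cast hineq
  have h2 : cY ≤ cX := by exact_mod_cast hflat
  have hne : n ≤ e := by omega
  -- semicontinuity
  have hopen := isOpen_setOf_fibreDimAt_le f n
  have hmem : ξ ∈ {y : X | FlatMor.fibreDimAt f y ≤ (n : ℕ)} :=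
    hsp.mem_open hopen (by
      change FlatMor.fibreDimAt f x ≤ (n : ℕ)
      rw [hn1])
  have h3 : FlatMor.fibreDimAt f ξ ≤ (n : ℕ) := hmem
  rw [he1] at h3
  have hen : e ≤ n := by exact_mod_cast h3
  have : e = n := le_antisymm hen hne
  subst this
  exact ⟨ξ, e, hcomp, hsp, hn1, hn2, he1, he2⟩

section OverField

variable (k : Type u) [Field k] (X Y : Scheme.{u}) [X.Over (Spec (CommRingCat.of k))]
  [Y.Over (Spec (CommRingCat.of k))]

/-- additivity of transcendence degrees of residue fields along a `k`-morphism -/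
theorem trdeg_add_of_comp (f : X ⟶ Y)
    (hf : f ≫ (Y ↘ Spec (CommRingCat.of k)) = X ↘ Spec (CommRingCat.of k)) (x : X) (b c : ℕ)
    (hb : @Algebra.trdeg k (Y.residueField (f x)) _ _ (Curv2.resAlgebra k Y (f x)) = b)
    (hc : @Algebra.trdeg (Y.residueField (f x)) (X.residueField x) _ _
        (f.residueFieldMap x).hom.toAlgebra = c) :
    @Algebra.trdeg k (X.residueField x) _ _ (Curv2.resAlgebra k X x) = (b + c : ℕ) := by
  let _ : Algebra k (Y.residueField (f x)) := Curv2.resAlgebra k Y (f x)
  let _ : Algebra k (X.residueField x) := Curv2.resAlgebra k X x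
  let _ : Algebra (Y.residueField (f x)) (X.residueField x) :=
    (f.residueFieldMap x).hom.toAlgebra
  have : IsScalarTower k (Y.residueField (f x)) (X.residueField x) :=
    IsScalarTower.of_algebraMap_eq' (resMap_comp k X Y f hf x)
  have h1 := trdeg_add_eq k (Y.residueField (f x)) (A := X.residueField x)
  rw [hb, hc] at h1
  rw [← h1]
  push_cast
  rfl

variable [LocallyOfFiniteType (X ↘ Spec (CommRingCat.of k))]

/-- the dimension of an irreducible component is the transcendence degree of the residue field
of its generic point -/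
theorem exists_isGenericPoint_dim_eq (Z : Set X) (hZ : Z ∈ irreducibleComponents X) :
    ∃ (ξ : X) (s : ℕ), IsGenericPoint ξ Z ∧
      @Algebra.trdeg k (X.residueField ξ) _ _ (Curv2.resAlgebra k X ξ) = s ∧
      topologicalKrullDim Z = s := by
  obtain ⟨ξ, hξ⟩ := exists_isGenericPoint_of_mem_irreducibleComponents Z hZ
  obtain ⟨s, hs⟩ := exists_nat_trdeg k X ξ
  refine ⟨ξ, s, hξ, hs, ?_⟩
  have := topologicalKrullDim_closure_singleton k X ξ s hs
  rw [hξ.def] at this
  exact this

end OverField

end Groth.Agent.Lib.Helper21.FibDim
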