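import Mathlib
import Groth.Agent.Lib.Helper18.FibSemi
import Groth.Agent.Lib.Helper21.FibDim7
import Groth.Agent.Lib.Helper21.FibDim11

/-!
# Dimension of a scheme over a field via the fibre-dimension stratification of its image
-/

set_option autoImplicit false
set_option linter.style.haveILetI false
set_option linter.unusedSectionVars false
universe u

open AlgebraicGeometry CategoryTheory Limits TopologicalSpace

namespace Groth.Agent.Lib.Helper21.Img

section Top

variable {T : Type*} [TopologicalSpace T]

/-- the dimension of subsets is monotone -/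
theorem topologicalKrullDim_mono {A B : Set T} (h : A ⊆ B) :
    topologicalKrullDim A ≤ topologicalKrullDim B :=
  (Topology.IsEmbedding.inclusion h).isInducing.topologicalKrullDim_le

/-- the dimension of a closed subset of a quasi-sober space is bounded by the dimensions of the
closures of its points -/
theorem topologicalKrullDim_le_of_forall_closure [QuasiSober T] (Z : Set T) (hZ : IsClosed Z)
    (n : WithBot ℕ∞)
    (h : ∀ z ∈ Z, topologicalKrullDim (closure ({z} : Set T)) ≤ n) :
    topologicalKrullDim Z ≤ n := by
  haveI : QuasiSober Z := hZ.isClosedEmbedding_subtypeVal.quasiSober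
  unfold topologicalKrullDim
  rw [Order.krullDim]
  refine iSup_le fun p => ?_
  obtain ⟨z, hz⟩ := QuasiSober.sober p.last.isIrreducible p.last.isClosed
  have h1 := Groth.Agent.Lib.Helper18.TopDim.length_le_topologicalKrullDim_of_subset p
    (closure ({z} : Set Z)) (by rw [hz.def])
  refine h1.trans (le_trans ?_ (h z.1 z.2))
  have hmem : ∀ w : (closure ({z} : Set Z)), w.1.1 ∈ closure ({z.1} : Set T) := by
    intro w
    have := map_mem_closure continuous_subtype_val w.2
      (t := ({z.1} : Set T)) (by
        intro a ha
        rw [Set.mem_singleton_iff] at ha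
        rw [ha]
        exact Set.mem_singleton _)
    exact this
  have hind : Topology.IsInducing (fun w : (closure ({z} : Set Z)) => w.1.1) :=
    Topology.IsInducing.subtypeVal.comp Topology.IsInducing.subtypeVal
  exact (hind.codRestrict hmem).topologicalKrullDim_le

/-- a point of the closure of the image of a closed subset of a Noetherian quasi-sober space is a
specialisation of a point of the image -/
theorem exists_specializes_of_mem_closure_image {C : Type*} [TopologicalSpace C]
    [NoetherianSpace C] [QuasiSober C] (g : C → T) (hg : Continuous g) (F : Set C)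
    (hF : IsClosed F) (z : T) (hz : z ∈ closure (g '' F)) : ∃ c ∈ F, g c ⤳ z := by
  obtain ⟨S, hSf, hSc, hSi, rfl⟩ := NoetherianSpace.exists_finite_set_isClosed_irreducible hF
  rw [Set.sUnion_eq_biUnion, Set.image_iUnion₂, hSf.closure_biUnion] at hz
  obtain ⟨t, htS, hzt⟩ := Set.mem_iUnion₂.mp hz
  obtain ⟨c, hc⟩ := QuasiSober.sober (hSi t htS) (hSc t htS)
  refine ⟨c, Set.mem_sUnion.mpr ⟨t, htS, hc.mem⟩, ?_⟩
  rw [specializes_iff_mem_closure]
  have h1 : g '' t ⊆ closure {g c} := by
    rw [← hc.def]
    refine (image_closure_subset_closure_image hg).trans ?_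
    rw [Set.image_singleton]
  exact closure_minimal h1 isClosed_closure hzt

/-- whole-space version of `topologicalKrullDim_le_of_forall_closure` -/
theorem topologicalKrullDim_le_of_forall_closure' [QuasiSober T] (n : WithBot ℕ∞)
    (h : ∀ z : T, topologicalKrullDim (closure ({z} : Set T)) ≤ n) :
    topologicalKrullDim T ≤ n := by
  rw [← (Homeomorph.Set.univ T).isHomeomorph.topologicalKrullDim_eq]
  exact topologicalKrullDim_le_of_forall_closure Set.univ isClosed_univ n (fun z _ => h z)

/-- the empty space has dimension `⊥` -/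
theorem topologicalKrullDim_eq_bot_of_isEmpty [IsEmpty T] : topologicalKrullDim T = ⊥ := by
  unfold topologicalKrullDim
  haveI : IsEmpty (IrreducibleCloseds T) :=
    ⟨fun s => by
      obtain ⟨t, -⟩ := s.isIrreducible.1
      exact IsEmpty.false t⟩
  exact Order.krullDim_eq_bot

end Top

section Main

open Groth.Agent.Lib.Helper21.FibDim

variable {C X : Scheme.{u}} (π : C ⟶ X) [LocallyOfFiniteType π]

/-- the fibre over `y` has dimension at least `j` iff some point over `y` has local fibre
dimension at least `j` (all `j`, including `0`) -/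
theorem le_topologicalKrullDim_fiber_iff' (y : X) (j : ℕ) :
    (j : WithBot ℕ∞) ≤ topologicalKrullDim ↥(π.fiber y) ↔
      ∃ c : C, π c = y ∧ (j : WithBot ℕ∞) ≤ FlatMor.fibreDimAt π c := by
  rcases Nat.eq_zero_or_pos j with rfl | hj
  · constructor
    · intro h
      by_cases hne : Nonempty ↥(π.fiber y)
      · obtain ⟨t⟩ := hne
        refine ⟨π.fiberι y t, (π.fiberHomeo y t).2, ?_⟩
        rw [Nat.cast_zero]
        exact Groth.Agent.Lib.Helper18.TopDim.zero_le_localDim _
      · haveI : IsEmpty ↥(π.fiber y) := not_nonempty_iff.mp hne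
        rw [topologicalKrullDim_eq_bot_of_isEmpty] at h
        exact absurd h (by simp)
    · rintro ⟨c, rfl, -⟩
      haveI : Nonempty ↥(π.fiber (π c)) := ⟨π.asFiber c⟩
      rw [Nat.cast_zero]
      exact Groth.Agent.Lib.Helper18.TopDim.zero_le_topologicalKrullDim
  · exact Groth.Agent.Lib.Helper18.FibSemi.le_topologicalKrullDim_fiber_iff π y j hj.ne'

/-- **dim C ≤ n iff the closures of the fibre-dimension strata of the image are small** -/
theorem topologicalKrullDim_le_iff_closure_fibreDimGE (k : Type u) [Field k]
    (q : X ⟶ Spec (CommRingCat.of k)) [LocallyOfFiniteType q] [CompactSpace C] (n : ℕ) :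
    topologicalKrullDim C ≤ n ↔
      ∀ j : ℕ, topologicalKrullDim
          (closure {x : X | (j : WithBot ℕ∞) ≤ topologicalKrullDim (π.fiber x)}) +
        (j : WithBot ℕ∞) ≤ n := by
  letI : X.Over (Spec (CommRingCat.of k)) := ⟨q⟩
  letI : C.Over (Spec (CommRingCat.of k)) := ⟨π ≫ q⟩
  haveI : LocallyOfFiniteType (X ↘ Spec (CommRingCat.of k)) := ‹LocallyOfFiniteType q›
  haveI : LocallyOfFiniteType (C ↘ Spec (CommRingCat.of k)) :=
    (inferInstance : LocallyOfFiniteType (π ≫ q))
  haveI : IsLocallyNoetherian X := LocallyOfFiniteType.isLocallyNoetherian q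
  haveI : IsLocallyNoetherian C := LocallyOfFiniteType.isLocallyNoetherian π
  haveI : IsNoetherian C := {}
  -- key pointwise facts
  have hpt : ∀ c : C, ∃ b m : ℕ,
      @Algebra.trdeg k (X.residueField (π c)) _ _ (Curv2.resAlgebra k X (π c)) = b ∧
      @Algebra.trdeg (X.residueField (π c)) (C.residueField c) _ _
        (π.residueFieldMap c).hom.toAlgebra = m ∧
      topologicalKrullDim (closure ({c} : Set C)) = ((b + m : ℕ) : WithBot ℕ∞) ∧
      topologicalKrullDim (closure ({π c} : Set X)) = (b : WithBot ℕ∞) := by
    intro c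
    obtain ⟨b, hb⟩ := exists_nat_trdeg k X (π c)
    obtain ⟨m, hm⟩ := exists_nat_trdeg_residueFieldMap π c
    have h1 := trdeg_add_of_comp k C X π rfl c b m hb hm
    exact ⟨b, m, hb, hm, topologicalKrullDim_closure_singleton k C c (b + m) h1,
      topologicalKrullDim_closure_singleton k X (π c) b hb⟩
  constructor
  · intro hC j
    set B : Set X := {x : X | (j : WithBot ℕ∞) ≤ topologicalKrullDim (π.fiber x)} with hB
    set F : Set C := {c : C | (j : WithBot ℕ∞) ≤ FlatMor.fibreDimAt π c} with hF
    have hFcl : IsClosed F := Groth.Agent.Lib.Helper18.FibSemi.isClosed_setOf_le_fibreDimAt π j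
    have hBF : B = π '' F := by
      ext x
      simp only [hB, hF, Set.mem_ofPred_eq, Set.mem_image]
      rw [le_topologicalKrullDim_fiber_iff' π x j]
      constructor
      · rintro ⟨c, h1, h2⟩
        exact ⟨c, h2, h1⟩
      · rintro ⟨c, h2, h1⟩
        exact ⟨c, h1, h2⟩
    have key : ∀ z ∈ closure B,
        topologicalKrullDim (closure ({z} : Set X)) ≤ ((n - j : ℕ) : WithBot ℕ∞) ∧ j ≤ n := by
      intro z hz
      rw [hBF] at hz
      obtain ⟨c, hcF, hcz⟩ := exists_specializes_of_mem_closure_image π π.continuous F hFcl z hz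
      obtain ⟨m, hm, ⟨c', hc'c, hc'π, hc'm⟩, -⟩ := exists_fibreDimAt_eq_trdeg π c
      obtain ⟨b, m', hb, hm', hd1, hd2⟩ := hpt c'
      have hmm : m' = m := by
        have := hm'.symm.trans hc'm
        exact_mod_cast this
      subst hmm
      have hjm : j ≤ m' := by
        have : (j : WithBot ℕ∞) ≤ (m' : WithBot ℕ∞) := hm ▸ hcF
        exact_mod_cast this
      have h1 : ((b + m' : ℕ) : WithBot ℕ∞) ≤ n := by
        rw [← hd1]
        exact (topologicalKrullDim_subspace_le C _).trans hC
      have h1' : b + m' ≤ n := by exact_mod_cast h1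
      have h2 : topologicalKrullDim (closure ({z} : Set X)) ≤ (b : WithBot ℕ∞) := by
        rw [← hd2, hc'π]
        refine topologicalKrullDim_mono (closure_minimal ?_ isClosed_closure)
        rw [Set.singleton_subset_iff]
        exact hcz.mem_closure
      refine ⟨h2.trans ?_, by omega⟩
      have : b ≤ n - j := by omega
      exact_mod_cast this
    by_cases hne : (closure B).Nonempty
    · obtain ⟨z₀, hz₀⟩ := hne
      have hjn := (key z₀ hz₀).2
      have h1 := topologicalKrullDim_le_of_forall_closure (closure B) isClosed_closure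
        ((n - j : ℕ) : WithBot ℕ∞) (fun z hz => (key z hz).1)
      refine (add_le_add_left h1 _).trans ?_
      have : n - j + j = n := Nat.sub_add_cancel hjn
      exact_mod_cast this.le
    · haveI : IsEmpty (closure B) := by
        rw [Set.isEmpty_coe_sort]
        exact Set.not_nonempty_iff_eq_empty.mp hne
      rw [topologicalKrullDim_eq_bot_of_isEmpty, WithBot.bot_add]
      exact bot_le
  · intro H
    refine topologicalKrullDim_le_of_forall_closure' _ (fun c => ?_)
    obtain ⟨b, m, hb, hm, hd1, hd2⟩ := hpt c
    rw [hd1]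
    have hmem : π c ∈ {x : X | (m : WithBot ℕ∞) ≤ topologicalKrullDim (π.fiber x)} := by
      rw [Set.mem_ofPred_eq, le_topologicalKrullDim_fiber_iff' π (π c) m]
      refine ⟨c, rfl, ?_⟩
      obtain ⟨N, hN, -, hall⟩ := exists_fibreDimAt_eq_trdeg π c
      have h1 := hall c specializes_rfl rfl
      rw [hm] at h1
      rw [hN]
      have : m ≤ N := by exact_mod_cast h1
      exact_mod_cast this
    have h2 : (b : WithBot ℕ∞) ≤ topologicalKrullDim
        (closure {x : X | (m : WithBot ℕ∞) ≤ topologicalKrullDim (π.fiber x)}) := by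
      rw [← hd2]
      exact topologicalKrullDim_mono (closure_mono (Set.singleton_subset_iff.mpr hmem))
    refine le_trans ?_ (H m)
    rw [Nat.cast_add]
    exact add_le_add_left h2 _

end Main

end Groth.Agent.Lib.Helper21.Img
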