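import Groth.Agent.Lib.Helper21.BaseChg1
import Groth.Agent.Lib.Helper22.FibreDim2

/-!
# Local dimension is invariant under extension of the base field
-/

set_option autoImplicit false
set_option linter.style.haveILetI false
set_option linter.unusedSectionVars false
universe u

open AlgebraicGeometry CategoryTheory Limits TopologicalSpace

namespace Groth.Agent.Lib.Helper21.BaseChg

section Field

variable (k K : Type u) [Field k] [Field K] {X X' : Scheme.{u}} (q : X ⟶ Spec (.of k))
  (ρ : Spec (.of K) ⟶ Spec (.of k)) (p : X' ⟶ X) (q' : X' ⟶ Spec (.of K))
  (hpb : IsPullback p q' q ρ)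

include hpb

/-- the projection from a base change along a field extension is universally open -/
theorem universallyOpen_of_isPullback_field : UniversallyOpen p :=
  MorphismProperty.of_isPullback hpb.flip (inferInstance : UniversallyOpen ρ)

/-- the projection from a base change along a field extension is flat -/
theorem flat_of_isPullback_field : Flat p :=
  MorphismProperty.of_isPullback hpb.flip (inferInstance : Flat ρ)

/-- the projection from a base change along a field extension is surjective -/
theorem surjective_of_isPullback_field : Surjective p :=
  MorphismProperty.of_isPullback hpb.flip (inferInstance : Surjective ρ)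

variable [LocallyOfFiniteType q]

/-- **Local dimension is invariant under extension of the base field.** -/
theorem localDim_eq_of_isPullback_field (x' : X') :
    FlatMor.localDim X' x' = FlatMor.localDim X (p x') := by
  haveI := universallyOpen_of_isPullback_field k K q ρ p q' hpb
  haveI := flat_of_isPullback_field k K q ρ p q' hpb
  apply le_antisymm
  · unfold FlatMor.localDim
    refine le_iInf fun U => ?_
    let V : X.Opens := U.1
    have hx' : x' ∈ p ⁻¹ᵁ V := U.2
    refine (iInf_le _ ⟨p ⁻¹ᵁ V, hx'⟩).trans (le_of_eq ?_)
    have hsq : IsPullback (p ∣_ V) ((p ⁻¹ᵁ V).ι ≫ q') (V.ι ≫ q) ρ :=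
      (isPullback_morphismRestrict p V).paste_vert hpb
    exact Groth.Agent.Lib.Helper22.topologicalKrullDim_eq_of_isPullback_field k K (V.ι ≫ q) ρ _ _
      hsq
  · exact localDim_le_of_isOpenMap p p.continuous (Flat.generalizingMap p) p.isOpenMap x'

end Field

end Groth.Agent.Lib.Helper21.BaseChg
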