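import Mathlib

set_option autoImplicit false
set_option linter.style.haveILetI false
universe u v

namespace Groth.Agent.Lib.Helper21.NagFin

open IntermediateField
open scoped IntermediateField.algebraAdjoinAdjoin

section Field

variable (K : Type u) (L : Type v) [Field K] [Field L] [Algebra K L]

variable {K L} in
theorem linearIndependent_adjoin_of_isAlgebraic {ι J : Type*} {t : ι → L}
    (ht : AlgebraicIndependent K t) {m : J → L} (hm : ∀ j, IsAlgebraic K (m j))
    (hli : LinearIndependent K m) :
    LinearIndependent (IntermediateField.adjoin K (Set.range t)) m := by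
  classical
  rw [← LinearIndependent.iff_fractionRing (Algebra.adjoin K (Set.range t))
    (IntermediateField.adjoin K (Set.range t))]
  have htM : AlgebraicIndependent (algebraicClosure K L) t := ht.algebraicClosure
  rw [linearIndependent_iff']
  intro s g hg j hj
  -- polynomial representatives
  let P : J → MvPolynomial ι K := fun j => ht.aevalEquiv.symm (g j)
  have hP : ∀ j, MvPolynomial.aeval t (P j) = ((g j : Algebra.adjoin K (Set.range t)) : L) := by
    intro j
    have := ht.aevalEquiv.apply_symm_apply (g j)
    have h2 := congrArg (Subtype.val) this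
    rw [AlgebraicIndependent.aevalEquiv_apply_coe] at h2
    exact h2
  let mM : J → algebraicClosure K L := fun j => ⟨m j, (mem_algebraicClosure_iff).mpr (hm j)⟩
  let R : MvPolynomial ι (algebraicClosure K L) :=
    ∑ j ∈ s, MvPolynomial.C (mM j) * MvPolynomial.map (algebraMap K (algebraicClosure K L)) (P j)
  have hR : MvPolynomial.aeval t R = 0 := by
    simp only [R, map_sum, map_mul, MvPolynomial.aeval_C, MvPolynomial.aeval_map_algebraMap]
    rw [← hg]
    refine Finset.sum_congr rfl fun j _ => ?_
    rw [hP j, mul_comm]
    rfl
  have hR0 : R = 0 := by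
    have hinj := (algebraicIndependent_iff_injective_aeval.mp htM)
    exact hinj (by rw [hR, map_zero])
  have hcoef : ∀ α : ι →₀ ℕ, ∀ j ∈ s, MvPolynomial.coeff α (P j) = 0 := by
    intro α
    have h1 : MvPolynomial.coeff α R = 0 := by rw [hR0]; simp
    simp only [R, MvPolynomial.coeff_sum, MvPolynomial.coeff_C_mul, MvPolynomial.coeff_map] at h1
    have h2 : ∑ j ∈ s, MvPolynomial.coeff α (P j) • m j = 0 := by
      have := congrArg (algebraMap (algebraicClosure K L) L) h1
      rw [map_sum, map_zero] at this
      rw [← this]
      refine Finset.sum_congr rfl fun j _ => ?_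
      rw [map_mul, Algebra.smul_def, mul_comm]
      rfl
    exact (linearIndependent_iff'.mp hli) s _ h2
  have hPj : P j = 0 := by
    ext α
    rw [hcoef α j hj]
    simp
  have : g j = ht.aevalEquiv (P j) := (ht.aevalEquiv.apply_symm_apply (g j)).symm
  rw [this, hPj, map_zero]

/-- In a finitely generated field extension `L/K`, the algebraic closure of `K` in `L` is a finite
extension of `K`. -/
theorem finite_algebraicClosure [Algebra.EssFiniteType K L] :
    Module.Finite K (algebraicClosure K L) := by
  classical
  obtain ⟨s, hs⟩ := IntermediateField.fg_top K L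
  have halg : Algebra.IsAlgebraic (Algebra.adjoin K (s : Set L)) L := by
    rw [← isAlgebraic_adjoin_iff_top, hs, Algebra.isAlgebraic_iff_isIntegral]
    exact Algebra.isIntegral_of_surjective topEquiv.surjective
  obtain ⟨t, hts, ht⟩ := exists_isTranscendenceBasis_subset (R := K) (s : Set L)
  lift t to Finset L using s.finite_toSet.subset hts
  have halg2 : Algebra.IsAlgebraic (IntermediateField.adjoin K (t : Set L)) L := by
    convert! ht.isAlgebraic_field <;> simp
  haveI : Algebra.EssFiniteType (IntermediateField.adjoin K (t : Set L)) L :=
    Algebra.EssFiniteType.of_comp K _ L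
  haveI hfin : Module.Finite (IntermediateField.adjoin K (t : Set L)) L :=
    Algebra.finite_of_essFiniteType_of_isAlgebraic
  have hti := ht.1
  have hrange : Set.range (Subtype.val : ((t : Set L) : Type v) → L) = (t : Set L) := Subtype.range_coe
  have hrank : Module.rank K (algebraicClosure K L) ≤
      (Module.finrank (IntermediateField.adjoin K (t : Set L)) L : ℕ) := by
    apply rank_le
    intro σ hσ
    have h1 : LinearIndependent K (fun i : σ => ((i : algebraicClosure K L) : L)) := by
      have := hσ.map' (algebraicClosure K L).val.toLinearMap
        (LinearMap.ker_eq_bot.mpr Subtype.val_injective)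
      exact this
    have h2 := linearIndependent_adjoin_of_isAlgebraic hti
      (m := fun i : σ => ((i : algebraicClosure K L) : L))
      (fun i => (mem_algebraicClosure_iff).mp (i : algebraicClosure K L).2) h1
    rw [hrange] at h2
    have h3 := h2.fintype_card_le_finrank
    simpa using h3
  rw [← Module.rank_lt_aleph0_iff]
  exact lt_of_le_of_lt hrank Cardinal.natCast_lt_aleph0

end Field

end Groth.Agent.Lib.Helper21.NagFin
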