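import Groth.Prelude.Def_Red2

/-!
# Points of affine group schemes `Spec A` (over `Spec R`) and of their base changes

Helper library (helper21).  `evalHom a : A →+* Γ(Y, ⊤)` for `a : Y ⟶ Spec A`; multiplication of points of
`(Over.pullback f).obj G` computed on the first projection; points of `Red.Ga S`.
-/

set_option autoImplicit false
universe u
open CategoryTheory MonoidalCategory CartesianMonoidalCategory MonObj GrpObj AlgebraicGeometry CategoryTheory.Limits
open scoped TensorProduct

namespace Groth.Agent.Lib.Helper21.GaPts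

section Eval

variable {Y Z : Scheme.{u}} {A B : Type u} [CommRing A] [CommRing B]

/-- The ring map `A → Γ(Y, O_Y)` defined by a morphism `Y ⟶ Spec A`. -/
noncomputable def evalHom (a : Y ⟶ Spec (CommRingCat.of A)) : A →+* Γ(Y, ⊤) :=
  (a.appTop).hom.comp (Scheme.ΓSpecIso (CommRingCat.of A)).inv.hom

theorem evalHom_apply (a : Y ⟶ Spec (CommRingCat.of A)) (z : A) :
    evalHom a z = a.appTop ((Scheme.ΓSpecIso (CommRingCat.of A)).inv z) := rfl

theorem evalHom_comp (g : Z ⟶ Y) (a : Y ⟶ Spec (CommRingCat.of A)) :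
    evalHom (g ≫ a) = (g.appTop).hom.comp (evalHom a) := by
  ext z
  simp [evalHom_apply]

theorem evalHom_comp_apply (g : Z ⟶ Y) (a : Y ⟶ Spec (CommRingCat.of A)) (z : A) :
    evalHom (g ≫ a) z = g.appTop (evalHom a z) := by
  rw [evalHom_comp]; rfl

theorem evalHom_specMap (a : Y ⟶ Spec (CommRingCat.of B)) (φ : A →+* B) :
    evalHom (a ≫ Spec.map (CommRingCat.ofHom φ)) = (evalHom a).comp φ := by
  ext z
  simp only [evalHom_apply, Scheme.Hom.comp_appTop, CommRingCat.comp_apply, RingHom.comp_apply]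
  congr 1
  have := Scheme.ΓSpecIso_inv_naturality (CommRingCat.ofHom φ)
  exact (congrArg (fun h => h z) this).symm

theorem evalHom_specMap_apply (a : Y ⟶ Spec (CommRingCat.of B)) (φ : A →+* B) (z : A) :
    evalHom (a ≫ Spec.map (CommRingCat.ofHom φ)) z = evalHom a (φ z) := by
  rw [evalHom_specMap]; rfl

theorem evalHom_injective :
    Function.Injective (evalHom : (Y ⟶ Spec (CommRingCat.of A)) → (A →+* Γ(Y, ⊤))) := by
  intro a b h
  apply ext_of_isAffine
  ext z
  have := congrArg (fun ψ : A →+* Γ(Y, ⊤) => ψ ((Scheme.ΓSpecIso (CommRingCat.of A)).hom z)) h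
  simpa [evalHom_apply] using this

/-- The morphism `Y ⟶ Spec A` defined by a ring map `A → Γ(Y, O_Y)`. -/
noncomputable def ofRingHom (ψ : A →+* Γ(Y, ⊤)) : Y ⟶ Spec (CommRingCat.of A) :=
  Y.toSpecΓ ≫ Spec.map (CommRingCat.ofHom ψ)

theorem evalHom_ofRingHom (ψ : A →+* Γ(Y, ⊤)) : evalHom (ofRingHom (Y := Y) ψ) = ψ := by
  ext z
  rw [ofRingHom, evalHom_specMap_apply, evalHom_apply, Scheme.toSpecΓ_appTop]
  simp

theorem ofRingHom_evalHom (a : Y ⟶ Spec (CommRingCat.of A)) : ofRingHom (evalHom a) = a :=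
  evalHom_injective (evalHom_ofRingHom _)

/-- Morphisms to `Spec A` are ring maps from `A` to global functions. -/
noncomputable def evalEquiv : (Y ⟶ Spec (CommRingCat.of A)) ≃ (A →+* Γ(Y, ⊤)) where
  toFun := evalHom
  invFun := ofRingHom
  left_inv := ofRingHom_evalHom
  right_inv := evalHom_ofRingHom

end Eval


section Tensor

variable {Y : Scheme.{u}} (R S T : Type u) [CommRing R] [CommRing S] [CommRing T] [Algebra R S] [Algebra R T]

open Algebra.TensorProduct in
/-- Evaluation on a pure tensor of the morphism `Y ⟶ Spec (S ⊗[R] T)` with components `a`, `b`. -/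
theorem evalHom_lift_tmul (a : Y ⟶ Spec (CommRingCat.of S)) (b : Y ⟶ Spec (CommRingCat.of T))
    (h : a ≫ Spec.map (CommRingCat.ofHom (algebraMap R S)) = b ≫ Spec.map (CommRingCat.ofHom (algebraMap R T)))
    (s : S) (t : T) :
    evalHom (pullback.lift a b h ≫ (pullbackSpecIso R S T).hom) (s ⊗ₜ[R] t) = evalHom a s * evalHom b t := by
  have e : (s ⊗ₜ[R] t : S ⊗[R] T) =
      (includeLeftRingHom : S →+* S ⊗[R] T) s * (RingHomClass.toRingHom (includeRight : T →ₐ[R] S ⊗[R] T)) t := by
    simp
  rw [e, map_mul, ← evalHom_specMap_apply, ← evalHom_specMap_apply, Category.assoc, Category.assoc,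
    pullbackSpecIso_hom_fst, pullbackSpecIso_hom_snd, pullback.lift_fst, pullback.lift_snd]

end Tensor


section BaseChange

open Functor in
/-- Multiplication of points of a base-changed group scheme, computed on the first projection. -/
theorem bc_mul_left_fst {S S' : Scheme.{u}} (f : S' ⟶ S) (G : Over S) [GrpObj G] {X : Over S'}
    (x y : X ⟶ Red.bc f G) :
    (x * y).left ≫ pullback.fst G.hom f =
      pullback.lift (x.left ≫ pullback.fst G.hom f) (y.left ≫ pullback.fst G.hom f)
        (by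
          have hx := Over.w x
          have hy := Over.w y
          dsimp at hx hy
          rw [Category.assoc, Category.assoc, pullback.condition, reassoc_of% hx, reassoc_of% hy]) ≫
        μ[G].left := by
  rw [Hom.mul_def]
  have hμ : μ[Red.bc f G] = LaxMonoidal.μ (Over.pullback f) G G ≫ (Over.pullback f).map μ[G] := rfl
  rw [hμ]
  simp only [Over.comp_left, Category.assoc]
  have h1 : ((Over.pullback f).map μ[G]).left ≫ pullback.fst G.hom f =
      pullback.fst (G ⊗ G).hom f ≫ μ[G].left := pullback.lift_fst _ _ _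
  rw [h1]
  simp only [← Category.assoc]
  congr 1
  apply pullback.hom_ext
  · simp only [Category.assoc, pullback.lift_fst]
    rw [Over.μ_pullback_left_fst_fst]
    simp only [Over.lift_left]
    rw [pullback.lift_fst_assoc]
  · simp only [Category.assoc, pullback.lift_snd]
    rw [Over.μ_pullback_left_fst_snd]
    simp only [Over.lift_left]
    rw [pullback.lift_snd_assoc]

end BaseChange


section AffineMul

variable {Y : Scheme.{u}} (R A : Type u) [CommRing R] [CommRing A] [Bialgebra R A]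

/-- The product of two `Y`-points `a`, `b` of the affine monoid scheme `Spec A` over `Spec R`, evaluated on `z : A`,
is the evaluation of the pair `(a, b)` on the comultiplication of `z`. -/
theorem evalHom_lift_mul (a b : Y ⟶ Spec (CommRingCat.of A))
    (h : a ≫ Spec.map (CommRingCat.ofHom (algebraMap R A)) = b ≫ Spec.map (CommRingCat.ofHom (algebraMap R A)))
    (z : A) :
    evalHom (pullback.lift a b h ≫
        μ[(Spec (CommRingCat.of A)).asOver (Spec (CommRingCat.of R))].left) z =
      evalHom (pullback.lift a b h ≫ (pullbackSpecIso R A A).hom) (Coalgebra.comul (R := R) z) := by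
  rw [mul_spec_asOver_spec_left, ← Category.assoc, evalHom_specMap_apply]
  rfl

/-- Evaluation of a product of points on a primitive element. -/
theorem evalHom_lift_mul_of_primitive (a b : Y ⟶ Spec (CommRingCat.of A))
    (h : a ≫ Spec.map (CommRingCat.ofHom (algebraMap R A)) = b ≫ Spec.map (CommRingCat.ofHom (algebraMap R A)))
    (z : A) (hz : Coalgebra.comul (R := R) z = z ⊗ₜ[R] 1 + 1 ⊗ₜ[R] z) :
    evalHom (pullback.lift a b h ≫
        μ[(Spec (CommRingCat.of A)).asOver (Spec (CommRingCat.of R))].left) z =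
      evalHom a z + evalHom b z := by
  rw [evalHom_lift_mul, hz, map_add, evalHom_lift_tmul, evalHom_lift_tmul, map_one, map_one, _root_.mul_one,
    _root_.one_mul]

/-- Evaluation of a product of points on a group-like element. -/
theorem evalHom_lift_mul_of_grouplike (a b : Y ⟶ Spec (CommRingCat.of A))
    (h : a ≫ Spec.map (CommRingCat.ofHom (algebraMap R A)) = b ≫ Spec.map (CommRingCat.ofHom (algebraMap R A)))
    (z : A) (hz : Coalgebra.comul (R := R) z = z ⊗ₜ[R] z) :
    evalHom (pullback.lift a b h ≫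
        μ[(Spec (CommRingCat.of A)).asOver (Spec (CommRingCat.of R))].left) z =
      evalHom a z * evalHom b z := by
  rw [evalHom_lift_mul, hz, evalHom_lift_tmul]

end AffineMul


section SymZ

/-- Ring maps out of `Sym_{ℤ}(ℤ)` (universe-lifted) are determined by the image of the generator. -/
theorem symHom_ext {B : Type*} [CommRing B]
    (ψ₁ ψ₂ : SymmetricAlgebra (ULift.{u} ℤ) (ULift.{u} ℤ) →+* B)
    (h : ψ₁ (SymmetricAlgebra.ι _ _ (ULift.up 1)) = ψ₂ (SymmetricAlgebra.ι _ _ (ULift.up 1))) : ψ₁ = ψ₂ := by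
  refine RingHom.ext fun z => ?_
  refine SymmetricAlgebra.induction _ _ (motive := fun z => ψ₁ z = ψ₂ z) (fun r => ?_) (fun x => ?_)
    (fun a b ha hb => ?_) (fun a b ha hb => ?_) z
  · have hr : r = ((r.down : ℤ) : ULift.{u} ℤ) := by
      apply ULift.ext; simp
    rw [hr, map_intCast, map_intCast, map_intCast]
  · have hx : x = (x.down : ℤ) • (ULift.up 1 : ULift.{u} ℤ) := by
      apply ULift.ext; simp
    rw [hx, map_zsmul, map_zsmul, map_zsmul, h]
  · rw [map_mul, map_mul, ha, hb]
  · rw [map_add, map_add, ha, hb]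

/-- The `ℤ`-algebra structure (universe-lifted) of a commutative ring. -/
@[reducible] noncomputable def algZ (B : Type u) [CommRing B] : Algebra (ULift.{u} ℤ) B :=
  ((Int.castRingHom B).comp (ULift.ringEquiv : ULift.{u} ℤ ≃+* ℤ).toRingHom).toAlgebra

/-- The ring map `Sym_{ℤ}(ℤ) → B` sending the generator to `t`. -/
noncomputable def symHom {B : Type u} [CommRing B] (t : B) :
    SymmetricAlgebra (ULift.{u} ℤ) (ULift.{u} ℤ) →+* B :=
  letI : Algebra (ULift.{u} ℤ) B := algZ B
  letI : Module (ULift.{u} ℤ) B := Algebra.toModule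
  (SymmetricAlgebra.lift ((Algebra.linearMap (ULift.{u} ℤ) B).smulRight t)).toRingHom

theorem symHom_ι {B : Type u} [CommRing B] (t : B) :
    symHom t (SymmetricAlgebra.ι _ _ (ULift.up 1)) = t := by
  let _ : Algebra (ULift.{u} ℤ) B := algZ B
  let _ : Module (ULift.{u} ℤ) B := Algebra.toModule
  change SymmetricAlgebra.lift ((Algebra.linearMap (ULift.{u} ℤ) B).smulRight t)
    (SymmetricAlgebra.ι _ _ (ULift.up 1)) = t
  rw [SymmetricAlgebra.lift_ι_apply, LinearMap.smulRight_apply, Algebra.linearMap_apply]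
  change ((Int.castRingHom B).comp (ULift.ringEquiv : ULift.{u} ℤ ≃+* ℤ).toRingHom) (ULift.up 1) • t = t
  change ((1 : ℤ) : B) * t = t
  simp

end SymZ


section Ga

variable {S : Scheme.{u}}

/-- The first projection of a point of `𝔾_{a,S}`: a morphism to `Spec Sym_ℤ(ℤ)`. -/
noncomputable def gaProj {X : Over S} (x : X ⟶ Red.Ga S) :
    X.left ⟶ Spec (CommRingCat.of (SymmetricAlgebra (ULift.{u} ℤ) (ULift.{u} ℤ))) :=
  x.left ≫ pullback.fst _ _

theorem gaFn_eq_evalHom {X : Over S} (x : X ⟶ Red.Ga S) :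
    Red.gaFn x = evalHom (gaProj x) (SymmetricAlgebra.ι _ _ (ULift.up 1)) := rfl

/-- `gaFn` is additive: the group law of `𝔾_a` is addition of functions. -/
theorem gaFn_mul {X : Over S} (x y : X ⟶ Red.Ga S) : Red.gaFn (x * y) = Red.gaFn x + Red.gaFn y := by
  have h := bc_mul_left_fst (specULiftZIsTerminal.from S) Red.GaZ x y
  refine (congrArg (fun m : X.left ⟶ Spec (CommRingCat.of (SymmetricAlgebra (ULift.{u} ℤ) (ULift.{u} ℤ))) =>
    evalHom m (SymmetricAlgebra.ι _ _ (ULift.up 1))) h).trans ?_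
  exact evalHom_lift_mul_of_primitive _ _ _ _ _ _ (SymmetricAlgebra.comul_ι _ _ _)

theorem gaFn_one {X : Over S} : Red.gaFn (1 : X ⟶ Red.Ga S) = 0 := by
  have h := gaFn_mul (1 : X ⟶ Red.Ga S) 1
  rw [show (1 : X ⟶ Red.Ga S) * 1 = 1 from _root_.mul_one (1 : X ⟶ Red.Ga S)] at h
  exact left_eq_add.mp h

theorem gaFn_inv {X : Over S} (x : X ⟶ Red.Ga S) : Red.gaFn x⁻¹ = - Red.gaFn x := by
  have h := gaFn_mul x⁻¹ x
  rw [inv_mul_cancel, gaFn_one] at h
  exact eq_neg_of_add_eq_zero_left h.symm

theorem gaFn_comp {X X' : Over S} (g : X' ⟶ X) (x : X ⟶ Red.Ga S) :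
    Red.gaFn (g ≫ x) = g.left.appTop (Red.gaFn x) := by
  rw [gaFn_eq_evalHom, gaFn_eq_evalHom, gaProj, gaProj, Over.comp_left, Category.assoc, evalHom_comp_apply]

theorem gaFn_injective {X : Over S} : Function.Injective (Red.gaFn : (X ⟶ Red.Ga S) → Γ(X.left, ⊤)) := by
  intro x y h
  apply Over.OverMorphism.ext
  apply pullback.hom_ext
  · apply evalHom_injective
    apply symHom_ext
    exact h
  · have hx := Over.w x
    have hy := Over.w y
    dsimp at hx hy
    rw [hx, hy]

/-- The point of `𝔾_{a,S}` with values in `X` defined by a global function on `X`. -/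
noncomputable def gaPt {X : Over S} (t : Γ(X.left, ⊤)) : X ⟶ Red.Ga S :=
  Over.homMk (pullback.lift (ofRingHom (symHom t)) X.hom (specULiftZIsTerminal.hom_ext _ _))
    (pullback.lift_snd _ _ _)

@[simp]
theorem gaFn_gaPt {X : Over S} (t : Γ(X.left, ⊤)) : Red.gaFn (gaPt t) = t := by
  have h : gaProj (gaPt (S := S) t) = ofRingHom (symHom t) := pullback.lift_fst _ _ _
  rw [gaFn_eq_evalHom, h, evalHom_ofRingHom, symHom_ι]

@[simp]
theorem gaPt_gaFn {X : Over S} (x : X ⟶ Red.Ga S) : gaPt (Red.gaFn x) = x :=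
  gaFn_injective (gaFn_gaPt _)

/-- `X`-valued points of `𝔾_{a,S}` are the global functions on `X`. -/
noncomputable def gaEquiv (X : Over S) : (X ⟶ Red.Ga S) ≃ Γ(X.left, ⊤) where
  toFun := Red.gaFn
  invFun := gaPt
  left_inv := gaPt_gaFn
  right_inv := gaFn_gaPt

/-- The group of `X`-valued points of `𝔾_{a,S}` is the additive group of global functions on `X`. -/
noncomputable def gaAddEquiv (X : Over S) : Additive (X ⟶ Red.Ga S) ≃+ Γ(X.left, ⊤) :=
  AddEquiv.mk' (Additive.toMul.trans (gaEquiv X)) fun x y => gaFn_mul x.toMul y.toMul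

theorem gaFn_pow {X : Over S} (x : X ⟶ Red.Ga S) (n : ℕ) : Red.gaFn (x ^ n) = n • Red.gaFn x := by
  induction n with
  | zero => rw [pow_zero, gaFn_one, zero_smul]
  | succ n ih => rw [pow_succ, gaFn_mul, ih, succ_nsmul]

theorem gaPt_add {X : Over S} (s t : Γ(X.left, ⊤)) : gaPt (S := S) (s + t) = gaPt s * gaPt t :=
  gaFn_injective (by rw [gaFn_mul, gaFn_gaPt, gaFn_gaPt, gaFn_gaPt])

theorem gaPt_zero {X : Over S} : gaPt (S := S) (0 : Γ(X.left, ⊤)) = 1 :=
  gaFn_injective (by rw [gaFn_one, gaFn_gaPt])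

theorem gaPt_comp {X X' : Over S} (g : X' ⟶ X) (t : Γ(X.left, ⊤)) :
    g ≫ gaPt (S := S) t = gaPt (g.left.appTop t) :=
  gaFn_injective (by rw [gaFn_comp, gaFn_gaPt, gaFn_gaPt])

end Ga

end Groth.Agent.Lib.Helper21.GaPts
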