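import Groth.Agent.Lib.Helper21.DSPts
import Mathlib.RingTheory.SimpleModule.Basic
import Mathlib.Data.ZMod.QuotientRing
import Mathlib.AlgebraicGeometry.Morphisms.ClosedImmersion

/-!
# `D_S(φ)` is a homomorphism; it is a closed immersion for surjective `φ` (helper21)
-/

set_option autoImplicit false
universe u
open CategoryTheory MonoidalCategory CartesianMonoidalCategory MonObj GrpObj AlgebraicGeometry CategoryTheory.Limits

namespace Groth.Agent.Lib.Helper21.GaPts

/-- A morphism of monoid objects which is unital and multiplicative on points is a homomorphism. -/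
theorem isMonHom_of_points {C : Type*} [Category C] [CartesianMonoidalCategory C] {X Y : C} [MonObj X] [MonObj Y]
    (f : X ⟶ Y) (h1 : (1 : 𝟙_ C ⟶ X) ≫ f = 1) (hmul : ∀ (T : C) (x y : T ⟶ X), (x * y) ≫ f = (x ≫ f) * (y ≫ f)) :
    IsMonHom f where
  one_hom := by
    rw [Hom.one_def, Hom.one_def, toUnit_unique (toUnit (𝟙_ C)) (𝟙 _), Category.id_comp, Category.id_comp] at h1
    exact h1
  mul_hom := by
    have h := hmul _ (fst X X) (snd X X)
    rw [Hom.mul_def, Hom.mul_def, lift_fst_snd, Category.id_comp, lift_fst_comp_snd_comp] at h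
    exact h

theorem mapDomain_surjective' {R G H : Type*} [Semiring R] {f : G → H} (hf : Function.Surjective f) :
    Function.Surjective (MonoidAlgebra.mapDomain (R := R) f) := by
  intro y
  refine MonoidAlgebra.induction_linear (motive := fun y => ∃ x, MonoidAlgebra.mapDomain f x = y) y
    ⟨0, MonoidAlgebra.mapDomain_zero f⟩ ?_ ?_
  · rintro _ _ ⟨x, rfl⟩ ⟨x', rfl⟩
    exact ⟨x + x', MonoidAlgebra.mapDomain_add f x x'⟩
  · intro h r
    obtain ⟨g, rfl⟩ := hf h
    exact ⟨MonoidAlgebra.single g r, MonoidAlgebra.mapDomain_single⟩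

section DSMap

variable {S : Scheme.{u}} {M N : Type} [AddCommGroup M] [AddCommGroup N]

instance isMonHom_DSmap (φ : M →+ N) : IsMonHom (Red.DSmap S φ) := by
  refine isMonHom_of_points _ ?_ ?_
  · apply dsFn_injective
    intro m
    rw [dsFn_DSmap, dsFn_one, dsFn_one]
  · intro T x y
    apply dsFn_injective
    intro m
    rw [dsFn_DSmap, dsFn_mul, dsFn_mul, dsFn_DSmap, dsFn_DSmap]

theorem isClosedImmersion_DSmap (φ : M →+ N) (hφ : Function.Surjective φ) :
    IsClosedImmersion (Red.DSmap S φ).left := by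
  apply MorphismProperty.overPullbackMap (P := @IsClosedImmersion)
  change IsClosedImmersion (Spec.map (CommRingCat.ofHom
    (MonoidAlgebra.mapDomainAlgHom (ULift.{u} ℤ) (ULift.{u} ℤ) (AddMonoidHom.toMultiplicative φ)).toRingHom))
  apply IsClosedImmersion.spec_of_surjective
  change Function.Surjective (MonoidAlgebra.mapDomain (AddMonoidHom.toMultiplicative φ))
  exact mapDomain_surjective' hφ

end DSMap

/-- A non-trivial finitely generated commutative group has a quotient of prime order. -/
theorem exists_surjective_zmod_prime (M : Type*) [AddCommGroup M] [AddGroup.FG M] [Nontrivial M] :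
    ∃ (r : ℕ) (_ : r.Prime) (φ : M →+ ZMod r), Function.Surjective φ := by
  have hfin : Module.Finite ℤ M := Module.Finite.iff_addGroup_fg.mpr inferInstance
  obtain ⟨Nsub, hN⟩ : ∃ Nsub : Submodule ℤ M, IsCoatom Nsub := by
    rcases eq_top_or_exists_le_coatom (⊥ : Submodule ℤ M) with h | ⟨Nsub, hN, -⟩
    · exact absurd h bot_ne_top
    · exact ⟨Nsub, hN⟩
  have hsimple : IsSimpleModule ℤ (M ⧸ Nsub) := isSimpleModule_iff_isCoatom.mpr hN
  obtain ⟨I, hI, ⟨e⟩⟩ := isSimpleModule_iff_quot_maximal.mp hsimple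
  have hI0 : I ≠ ⊥ := by
    rintro rfl
    exact Int.not_isField (Ring.isField_iff_maximal_bot.mpr hI)
  obtain ⟨g, rfl⟩ : ∃ g : ℤ, I = Ideal.span {g} := ⟨_, (Ideal.span_singleton_generator I).symm⟩
  have hg0 : g ≠ 0 := by
    rintro rfl
    exact hI0 (by simp)
  have hgp : Prime g := (Ideal.span_singleton_prime hg0).mp hI.isPrime
  have hr : g.natAbs.Prime := Int.prime_iff_natAbs_prime.mp hgp
  refine ⟨g.natAbs, hr, ?_, ?_⟩
  · exact ((Int.quotientSpanEquivZMod g).toAddMonoidHom.comp e.toLinearMap.toAddMonoidHom).comp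
      (Submodule.mkQ Nsub).toAddMonoidHom
  · intro z
    obtain ⟨y, hy⟩ := (Int.quotientSpanEquivZMod g).surjective z
    obtain ⟨x, hx⟩ := e.surjective y
    obtain ⟨m, hm⟩ := Submodule.mkQ_surjective Nsub x
    exact ⟨m, by simp [hm, hx, hy]⟩

end Groth.Agent.Lib.Helper21.GaPts
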