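import Groth.Agent.Lib.Helper21.FibDim4

set_option autoImplicit false
set_option linter.style.haveILetI false
set_option linter.unusedSectionVars false
universe u

open AlgebraicGeometry CategoryTheory Limits TopologicalSpace

namespace Groth.Agent.Lib.Helper21.FibDim

open Groth.Agent.Lib.Helper21.ChartPt Groth.Agent.Lib.Helper21.NagDvr
  Groth.Agent.Lib.Helper20.DimTrdeg

section A

variable (k : Type u) [Field k] (X : Scheme.{u}) [X.Over (Spec (CommRingCat.of k))]
  [LocallyOfFiniteType (X ↘ Spec (CommRingCat.of k))]

/-- transcendence degrees of residue fields drop strictly under proper specialisation (over a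
field) -/
theorem trdeg_lt_of_specializes (z z' : X) (h : z ⤳ z') (hne : z ≠ z') (s s' : ℕ)
    (hs : @Algebra.trdeg k (X.residueField z) _ _ (Curv2.resAlgebra k X z) = s)
    (hs' : @Algebra.trdeg k (X.residueField z') _ _ (Curv2.resAlgebra k X z') = s') :
    s' < s := by
  obtain ⟨p', hp'1, hp'2⟩ := exists_chain k X z' s' hs'
  have key := length_le_of_chain k X z s hs (s' + 1) (Fin.snoc p' z) ?_ ?_
  · omega
  · intro i
    induction i using Fin.lastCases with
    | last => rw [Fin.snoc_last]
    | cast i => rw [Fin.snoc_castSucc]; exact h.trans (hp'1 i)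
  · intro i j hij
    induction j using Fin.lastCases with
    | last =>
      induction i using Fin.lastCases with
      | last => exact absurd hij (lt_irrefl _)
      | cast i =>
        rw [Fin.snoc_last, Fin.snoc_castSucc]
        refine ⟨h.trans (hp'1 i), fun h2 => hne ?_⟩
        exact (h.antisymm ((hp'1 i).trans h2)).eq
    | cast j =>
      induction i using Fin.lastCases with
      | last =>
        exfalso
        exact absurd hij (not_lt_of_ge (Fin.le_last _))
      | cast i =>
        rw [Fin.snoc_castSucc, Fin.snoc_castSucc]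
        exact hp'2 i j (Fin.castSucc_lt_castSucc_iff.mp hij)

/-- residue fields of a scheme locally of finite type over a field have finite transcendence
degree -/
theorem exists_nat_trdeg (y : X) :
    ∃ s : ℕ, @Algebra.trdeg k (X.residueField y) _ _ (Curv2.resAlgebra k X y) = s := by
  obtain ⟨W, hW, hyW, -⟩ := Opens.isBasis_iff_nbhd.mp X.isBasis_affineOpens
    (show y ∈ (⊤ : X.Opens) from trivial)
  obtain ⟨s, hs1, -⟩ := exists_nat_trdeg_eq_and_dim_quotient k X hW y hyW
  exact ⟨s, hs1⟩

end A

section B

variable {X S : Scheme.{u}} (f : X ⟶ S) [LocallyOfFiniteType f]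

/-- **Strict drop** of residue transcendence degrees under proper specialisation in a fibre. -/
theorem trdeg_lt_of_specializes_of_ne {x x' : X} (hsp : x ⤳ x') (hne : x ≠ x')
    (hfx : f x = f x') :
    @Algebra.trdeg (S.residueField (f x')) (X.residueField x') _ _
        (f.residueFieldMap x').hom.toAlgebra <
      @Algebra.trdeg (S.residueField (f x)) (X.residueField x) _ _
        (f.residueFieldMap x).hom.toAlgebra := by
  set s := f x' with hs
  letI := fiberOver f s
  haveI : LocallyOfFiniteType (f.fiber s ↘ Spec (CommRingCat.of (S.residueField s))) :=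
    MorphismProperty.pullback_snd (P := @LocallyOfFiniteType) _ _ inferInstance
  have key : ∀ (y : X) (z : f.fiber s), f.fiberι s z = y →
      @Algebra.trdeg (S.residueField s) ((f.fiber s).residueField z) _ _
        (Curv2.resAlgebra (S.residueField s) (f.fiber s) z) =
      @Algebra.trdeg (S.residueField (f y)) (X.residueField y) _ _
        (f.residueFieldMap y).hom.toAlgebra := by
    rintro y z rfl
    exact trdeg_fiber_eq f s z
  let z' : f.fiber s := (f.fiberHomeo s).symm ⟨x', rfl⟩
  let z : f.fiber s := (f.fiberHomeo s).symm ⟨x, hfx⟩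
  have hz' : f.fiberι s z' = x' := Scheme.Hom.fiberι_fiberHomeo_symm f s ⟨x', rfl⟩
  have hz : f.fiberι s z = x := Scheme.Hom.fiberι_fiberHomeo_symm f s ⟨x, hfx⟩
  have hzz' : z ⤳ z' := by
    rw [← (f.fiberι s).isEmbedding.isInducing.specializes_iff, hz, hz']
    exact hsp
  have hzne : z ≠ z' := by
    intro h
    apply hne
    rw [← hz, ← hz', h]
  obtain ⟨a, ha⟩ := exists_nat_trdeg (S.residueField s) (f.fiber s) z
  obtain ⟨a', ha'⟩ := exists_nat_trdeg (S.residueField s) (f.fiber s) z'
  have hlt := trdeg_lt_of_specializes (S.residueField s) (f.fiber s) z z' hzz' hzne a a' ha ha'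
  rw [← key x z hz, ← key x' z' hz', ha, ha']
  exact_mod_cast hlt

end B

end Groth.Agent.Lib.Helper21.FibDim
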