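import Groth.Agent.Lib.Helper21.FibDimR2
import Groth.Agent.Lib.Helper21.ChartPt6
import Groth.Agent.Lib.Helper6.EtaleSq
import Groth.Agent.Lib.Helper20.DimTrdeg

/-!
# Fibre dimension, scheme level I

* `exists_localDim_eq_trdeg`: local dimension of a scheme l.f.t. over a field = largest
  transcendence degree of residue fields of generisations.
* `trdeg_fiber_eq`: residue field transcendence degrees in the fibre and in the total space agree.
* `exists_fibreDimAt_eq_trdeg` (**key lemma**): `FlatMor.fibreDimAt f x` is the largest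
  `trdeg_{κ(f y)} κ(y)` over generisations `y` of `x` in the same fibre.
* `trdeg_residueField_eq_trdeg_quotient` (**chart bridge**): `trdeg_{κ(f y)} κ(y)` equals
  `trdeg (A ⧸ p) (B ⧸ q)` in affine charts.
-/

set_option autoImplicit false
set_option linter.style.haveILetI false
set_option linter.unusedSectionVars false
universe u

open AlgebraicGeometry CategoryTheory Limits TopologicalSpace

namespace Groth.Agent.Lib.Helper21.FibDim

section Field

open Groth.Agent.Lib.Helper21.ChartPt Groth.Agent.Lib.Helper21.NagDvr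
  Groth.Agent.Lib.Helper20.DimTrdeg

variable (k : Type u) [Field k] (X : Scheme.{u}) [X.Over (Spec (CommRingCat.of k))]
  [LocallyOfFiniteType (X ↘ Spec (CommRingCat.of k))]

/-- The local dimension at a point of a scheme locally of finite type over a field is the
largest transcendence degree of the residue field of a generisation. -/
theorem exists_localDim_eq_trdeg (x : X) :
    ∃ n : ℕ, FlatMor.localDim X x = n ∧
      (∃ y : X, y ⤳ x ∧ @Algebra.trdeg k (X.residueField y) _ _ (Curv2.resAlgebra k X y) = n) ∧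
      ∀ y : X, y ⤳ x →
        @Algebra.trdeg k (X.residueField y) _ _ (Curv2.resAlgebra k X y) ≤ n := by
  obtain ⟨W, hW, hxW, -⟩ := Opens.isBasis_iff_nbhd.mp X.isBasis_affineOpens
    (show x ∈ (⊤ : X.Opens) from trivial)
  have hW : IsAffineOpen W := hW
  let _ : Algebra k Γ(X, W) := (kMap (X ↘ Spec (CommRingCat.of k)) W).toAlgebra
  have : Algebra.FiniteType k Γ(X, W) := kMap_finiteType (X ↘ Spec (CommRingCat.of k)) W hW
  have : IsNoetherianRing Γ(X, W) := Algebra.FiniteType.isNoetherianRing k Γ(X, W)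
  obtain ⟨a, ha1, ha2⟩ := exists_nat_trdeg_eq_and_dim_quotient k X hW x hxW
  set q := (hW.primeIdealOf ⟨x, hxW⟩).asIdeal with hq
  have hqprime : q.IsPrime := (hW.primeIdealOf ⟨x, hxW⟩).2
  obtain ⟨b, hb⟩ := ENat.ne_top_iff_exists.mp (Ideal.height_ne_top hqprime.ne_top)
  have hdim : ringKrullDim (X.presheaf.stalk x) = b := by
    rw [ringKrullDim_stalk_eq_height hW x hxW, ← hq, ← hb]; rfl
  refine ⟨a + b, localDim_eq_add k X x a b ha1 hdim, ?_, ?_⟩
  · obtain ⟨p₀, hp₀, hp₀q, hht⟩ := exists_le_height_map_mk_eq q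
    obtain ⟨⟨y, hyW⟩, hy⟩ := exists_primeIdealOf_eq hW ⟨p₀, hp₀⟩
    have hy' : (hW.primeIdealOf ⟨y, hyW⟩).asIdeal = p₀ := congrArg PrimeSpectrum.asIdeal hy
    refine ⟨y, ?_, ?_⟩
    · rw [specializes_iff_primeIdealOf_le hW ⟨y, hyW⟩ ⟨x, hxW⟩, hy']
      exact hp₀q
    · obtain ⟨s, hs1, hs2⟩ := exists_nat_trdeg_eq_and_dim_quotient k X hW y hyW
      rw [hy'] at hs2
      obtain ⟨c, hc, hsc⟩ := exists_nat_height_map_mk k Γ(X, W) p₀ q hp₀q s a hs2 ha2
      have hcb : c = b := by
        rw [hht, ← hb] at hc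
        exact_mod_cast hc.symm
      rw [hs1, hsc, hcb, add_comm]
  · intro y hyx
    have hyW : y ∈ W := hyx.mem_open W.2 hxW
    obtain ⟨s, hs1, hs2⟩ := exists_nat_trdeg_eq_and_dim_quotient k X hW y hyW
    have hle : (hW.primeIdealOf ⟨y, hyW⟩).asIdeal ≤ q :=
      (specializes_iff_primeIdealOf_le hW ⟨y, hyW⟩ ⟨x, hxW⟩).mp hyx
    have : (hW.primeIdealOf ⟨y, hyW⟩).asIdeal.IsPrime := (hW.primeIdealOf ⟨y, hyW⟩).2
    obtain ⟨c, hc, hsc⟩ := exists_nat_height_map_mk k Γ(X, W)
      (hW.primeIdealOf ⟨y, hyW⟩).asIdeal q hle s a hs2 ha2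
    have hcb : c ≤ b := by
      have := height_map_mk_le (hW.primeIdealOf ⟨y, hyW⟩).asIdeal q hle
      rw [hc, ← hb] at this
      exact_mod_cast this
    rw [hs1, hsc]
    have : c + a ≤ a + b := by omega
    exact_mod_cast this

end Field

section Translate

/-- the canonical map from a field to the residue field of a point of its spectrum -/
noncomputable def cMap (k : Type u) [Field k] (w : Spec (CommRingCat.of k)) :
    k →+* (Spec (CommRingCat.of k)).residueField w :=
  ((Spec (CommRingCat.of k)).evaluation ⊤ w trivial).hom.comp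
    (Scheme.ΓSpecIso (CommRingCat.of k)).inv.hom

theorem cMap_eq (k : Type u) [Field k] (w : Spec (CommRingCat.of k)) :
    cMap k w = (Scheme.Spec.residueFieldIso (CommRingCat.of k) w).inv.hom.comp
      (algebraMap k w.asIdeal.ResidueField) := by
  have := Scheme.Spec.algebraMap_residueFieldIso_inv (CommRingCat.of k) w
  have h2 := congrArg CommRingCat.Hom.hom this
  simp only [CommRingCat.hom_comp, CommRingCat.hom_ofHom] at h2
  rw [h2]
  rfl

theorem cMap_isAlgebraic (k : Type u) [Field k] (w : Spec (CommRingCat.of k)) :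
    letI := (cMap k w).toAlgebra
    Algebra.IsAlgebraic k ((Spec (CommRingCat.of k)).residueField w) := by
  letI := (cMap k w).toAlgebra
  have hI : w.asIdeal = ⊥ := by
    have := w.2
    exact (Ideal.eq_bot_or_top w.asIdeal).resolve_right w.2.ne_top
  have h1 : Algebra.IsAlgebraic k w.asIdeal.ResidueField := by
    have a1 : Algebra.IsAlgebraic (k ⧸ w.asIdeal) w.asIdeal.ResidueField :=
      IsLocalization.isAlgebraic _ (nonZeroDivisors (k ⧸ w.asIdeal))
    have a2 : Algebra.IsAlgebraic k (k ⧸ w.asIdeal) :=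
      Algebra.IsAlgebraic.of_finite k _
    exact Algebra.IsAlgebraic.trans k (k ⧸ w.asIdeal) _
  refine Algebra.IsAlgebraic.of_ringHom_of_comp_eq (S := k) (B := w.asIdeal.ResidueField)
    (RingHom.id k) (Scheme.Spec.residueFieldIso (CommRingCat.of k) w).hom.hom
    Function.surjective_id
    ((Scheme.Spec.residueFieldIso (CommRingCat.of k) w).commRingCatIsoToRingEquiv).injective ?_
  ext x
  change algebraMap k w.asIdeal.ResidueField x =
    (Scheme.Spec.residueFieldIso (CommRingCat.of k) w).hom.hom (cMap k w x)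
  rw [cMap_eq]
  change _ = ((Scheme.Spec.residueFieldIso (CommRingCat.of k) w).inv ≫
    (Scheme.Spec.residueFieldIso (CommRingCat.of k) w).hom).hom
      (algebraMap k w.asIdeal.ResidueField x)
  rw [Iso.inv_hom_id]
  rfl

theorem resMap_eq (k : Type u) [Field k] (Z : Scheme.{u}) [Z.Over (Spec (CommRingCat.of k))]
    (z : Z) :
    Curv2.resMap k Z z = ((Z ↘ Spec (CommRingCat.of k)).residueFieldMap z).hom.comp
      (cMap k ((Z ↘ Spec (CommRingCat.of k)) z)) := by
  ext c
  unfold Curv2.resMap Curv2.stalkMap Coh.toGlobal cMap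
  simp only [RingHom.comp_apply]
  have h1 := Scheme.evaluation_naturality_apply (Z ↘ Spec (CommRingCat.of k)) z
    (show (Z ↘ Spec (CommRingCat.of k)) z ∈ (⊤ : (Spec (CommRingCat.of k)).Opens) from trivial)
    ((Scheme.ΓSpecIso (CommRingCat.of k)).inv.hom c)
  rw [h1]
  rfl

theorem residueFieldMap_surjective {X Y : Scheme.{u}} (f : X ⟶ Y) [SurjectiveOnStalks f] (x : X) :
    Function.Surjective (f.residueFieldMap x).hom := by
  intro z
  obtain ⟨w, rfl⟩ := X.residue_surjective x z
  obtain ⟨v, rfl⟩ := f.stalkMap_surjective x w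
  refine ⟨(Y.residue (f x)).hom v, ?_⟩
  have := Scheme.residue_residueFieldMap f x
  exact congrArg (fun g => g.hom v) this

theorem isAlgebraic_of_surjective {K L : Type*} [Field K] [Field L] (φ : K →+* L)
    (h : Function.Surjective φ) : letI := φ.toAlgebra; Algebra.IsAlgebraic K L := by
  letI := φ.toAlgebra
  refine ⟨fun z => ?_⟩
  obtain ⟨w, rfl⟩ := h z
  exact isAlgebraic_algebraMap w

variable {X S : Scheme.{u}} (f : X ⟶ S) (s : S)

/-- The fibre as a scheme over the residue field. -/
@[reducible] noncomputable def fiberOver :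
    (f.fiber s).Over (Spec (CommRingCat.of (S.residueField s))) :=
  ⟨f.fiberToSpecResidueField s⟩

open Groth.Agent.Lib.Helper6.EtaleSq in
/-- **Translation**: transcendence degrees of residue fields of points of the fibre, computed in
the fibre over `κ(s)` or in the total space over the residue field of the image. -/
theorem trdeg_fiber_eq (y' : f.fiber s) :
    letI := fiberOver f s
    @Algebra.trdeg (S.residueField s) ((f.fiber s).residueField y') _ _
        (Curv2.resAlgebra (S.residueField s) (f.fiber s) y') =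
      @Algebra.trdeg (S.residueField (f (f.fiberι s y'))) (X.residueField (f.fiberι s y')) _ _
        (f.residueFieldMap (f.fiberι s y')).hom.toAlgebra := by
  letI := fiberOver f s
  let t := f.fiberToSpecResidueField s
  let ι := f.fiberι s
  let j := S.fromSpecResidueField s
  let w := t y'
  -- step 3: `resMap` versus `t.residueFieldMap`
  have e3 : @Algebra.trdeg (S.residueField s) ((f.fiber s).residueField y') _ _
        (Curv2.resAlgebra (S.residueField s) (f.fiber s) y') =
      @Algebra.trdeg ((Spec (S.residueField s)).residueField w) ((f.fiber s).residueField y') _ _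
        (t.residueFieldMap y').hom.toAlgebra := by
    refine trdeg_eq_of_square (Curv2.resMap (S.residueField s) (f.fiber s) y')
      (RingHom.id _) (t.residueFieldMap y').hom (cMap (S.residueField s) w) ?_ ?_ ?_
    · rw [RingHom.id_comp]
      exact resMap_eq (S.residueField s) (f.fiber s) y'
    · exact isAlgebraic_of_surjective (RingHom.id _) Function.surjective_id
    · exact cMap_isAlgebraic (S.residueField s) w
  rw [e3]
  symm
  -- the comparison of base fields
  have hpt : f (ι y') = j w := by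
    rw [← Scheme.Hom.comp_apply, ← Scheme.Hom.comp_apply]
    exact congrArg (fun g : f.fiber s ⟶ S => g y') (f.fiber_fac s)
  let γ : S.residueField (f (ι y')) ⟶ (Spec (S.residueField s)).residueField w :=
    (S.residueFieldCongr hpt).hom ≫ j.residueFieldMap w
  refine trdeg_eq_of_square (f.residueFieldMap (ι y')).hom (ι.residueFieldMap y').hom
    (t.residueFieldMap y').hom γ.hom ?_ ?_ ?_
  · have e1 : (ι ≫ f).residueFieldMap y' = f.residueFieldMap (ι y') ≫ ι.residueFieldMap y' :=
      Scheme.residueFieldMap_comp ι f y'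
    have e2 : (t ≫ j).residueFieldMap y' = j.residueFieldMap w ≫ t.residueFieldMap y' :=
      Scheme.residueFieldMap_comp t j y'
    have e3 := Scheme.Hom.residueFieldMap_congr (f.fiber_fac s) y'
    change (ι ≫ f).residueFieldMap y' = _ ≫ (t ≫ j).residueFieldMap y' at e3
    rw [e1, e2] at e3
    have : f.residueFieldMap (ι y') ≫ ι.residueFieldMap y' = γ ≫ t.residueFieldMap y' := by
      rw [e3]
      simp only [γ, Category.assoc]
      rfl
    exact congrArg CommRingCat.Hom.hom this
  · exact isAlgebraic_of_surjective _ (residueFieldMap_surjective ι y')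
  · refine isAlgebraic_of_surjective _ ?_
    change Function.Surjective ((j.residueFieldMap w).hom.comp (S.residueFieldCongr hpt).hom.hom)
    exact (residueFieldMap_surjective j w).comp
      ((S.residueFieldCongr hpt).commRingCatIsoToRingEquiv).surjective

/-- **Key lemma**: the local dimension of the fibre at a point is the largest transcendence degree
of the residue field extension at a generisation in the same fibre. -/
theorem exists_fibreDimAt_eq_trdeg [LocallyOfFiniteType f] (x : X) :
    ∃ n : ℕ, FlatMor.fibreDimAt f x = n ∧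
      (∃ y : X, y ⤳ x ∧ f y = f x ∧
        @Algebra.trdeg (S.residueField (f y)) (X.residueField y) _ _
          (f.residueFieldMap y).hom.toAlgebra = n) ∧
      ∀ y : X, y ⤳ x → f y = f x →
        @Algebra.trdeg (S.residueField (f y)) (X.residueField y) _ _
          (f.residueFieldMap y).hom.toAlgebra ≤ n := by
  letI := fiberOver f (f x)
  haveI : LocallyOfFiniteType (f.fiber (f x) ↘ Spec (CommRingCat.of (S.residueField (f x)))) :=
    MorphismProperty.pullback_snd (P := @LocallyOfFiniteType) _ _ inferInstance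
  obtain ⟨n, hn, ⟨y', hy'x, hy'n⟩, hall⟩ :=
    exists_localDim_eq_trdeg (S.residueField (f x)) (f.fiber (f x)) (f.asFiber x)
  refine ⟨n, hn, ⟨f.fiberι (f x) y', ?_, ?_, ?_⟩, ?_⟩
  · have := hy'x.map (f.fiberι (f x)).continuous
    rwa [Scheme.Hom.fiberι_asFiber] at this
  · exact (f.fiberHomeo (f x) y').2
  · rw [← trdeg_fiber_eq f (f x) y']
    exact hy'n
  · intro y hyx hfy
    obtain ⟨y', rfl⟩ : ∃ y' : f.fiber (f x), f.fiberι (f x) y' = y :=
      ⟨(f.fiberHomeo (f x)).symm ⟨y, hfy⟩, Scheme.Hom.fiberι_fiberHomeo_symm f (f x) ⟨y, hfy⟩⟩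
    rw [← trdeg_fiber_eq f (f x) y']
    refine hall y' ?_
    have hyx' : f.fiberι (f x) y' ⤳ f.fiberι (f x) (f.asFiber x) := by
      rw [Scheme.Hom.fiberι_asFiber]; exact hyx
    exact ((f.fiberι (f x)).isEmbedding.isInducing.specializes_iff).mp hyx'

end Translate

section Bridge

open Groth.Agent.Lib.Helper21.ChartPt

variable {X S : Scheme.{u}} (f : X ⟶ S)

/-- **Chart bridge**: the transcendence degree of the residue field extension at a point equals
the relative transcendence degree of the corresponding primes in affine charts. -/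
theorem trdeg_residueField_eq_trdeg_quotient {U : X.Opens} (hU : IsAffineOpen U) {V : S.Opens}
    (hV : IsAffineOpen V) (e : U ≤ f ⁻¹ᵁ V) [Algebra Γ(S, V) Γ(X, U)]
    (halg : algebraMap Γ(S, V) Γ(X, U) = (f.appLE V U e).hom) (y : X) (hy : y ∈ U)
    (p : Ideal Γ(S, V)) (q : Ideal Γ(X, U)) [q.LiesOver p]
    (hq : q = (hU.primeIdealOf ⟨y, hy⟩).asIdeal)
    (hp : p = (hV.primeIdealOf ⟨f y, e hy⟩).asIdeal) :
    @Algebra.trdeg (S.residueField (f y)) (X.residueField y) _ _
        (f.residueFieldMap y).hom.toAlgebra =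
      Algebra.trdeg (Γ(S, V) ⧸ p) (Γ(X, U) ⧸ q) := by
  subst hq hp
  have : (hU.primeIdealOf ⟨y, hy⟩).asIdeal.IsPrime := (hU.primeIdealOf ⟨y, hy⟩).2
  have : (hV.primeIdealOf ⟨f y, e hy⟩).asIdeal.IsPrime := (hV.primeIdealOf ⟨f y, e hy⟩).2
  letI a1 : Algebra (S.residueField (f y)) (X.residueField y) :=
    (f.residueFieldMap y).hom.toAlgebra
  letI a2 : Algebra (Γ(X, U) ⧸ (hU.primeIdealOf ⟨y, hy⟩).asIdeal) (X.residueField y) :=
    (evQ hU y hy).toAlgebra
  letI a3 : Algebra (Γ(S, V) ⧸ (hV.primeIdealOf ⟨f y, e hy⟩).asIdeal) (S.residueField (f y)) :=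
    (evQ hV (f y) (e hy)).toAlgebra
  letI a4 : Algebra (Γ(S, V) ⧸ (hV.primeIdealOf ⟨f y, e hy⟩).asIdeal) (X.residueField y) :=
    ((algebraMap (S.residueField (f y)) (X.residueField y)).comp
      (algebraMap (Γ(S, V) ⧸ (hV.primeIdealOf ⟨f y, e hy⟩).asIdeal)
        (S.residueField (f y)))).toAlgebra
  haveI f1 := isFractionRing_evQ hU y hy
  haveI f2 := isFractionRing_evQ hV (f y) (e hy)
  haveI t1 : IsScalarTower (Γ(S, V) ⧸ (hV.primeIdealOf ⟨f y, e hy⟩).asIdeal)
      (S.residueField (f y)) (X.residueField y) := IsScalarTower.of_algebraMap_eq fun _ => rfl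
  haveI t2 : IsScalarTower (Γ(S, V) ⧸ (hV.primeIdealOf ⟨f y, e hy⟩).asIdeal)
      (Γ(X, U) ⧸ (hU.primeIdealOf ⟨y, hy⟩).asIdeal) (X.residueField y) := by
    refine IsScalarTower.of_algebraMap_eq fun r => ?_
    obtain ⟨a, rfl⟩ := Ideal.Quotient.mk_surjective r
    change (f.residueFieldMap y).hom ((S.evaluation V (f y) (e hy)).hom a) =
      (X.evaluation U y hy).hom (algebraMap Γ(S, V) Γ(X, U) a)
    rw [halg]
    have h1 := Scheme.evaluation_naturality_apply f y (e hy) a
    rw [h1, Scheme.Hom.appLE]
    simp only [CommRingCat.hom_comp, RingHom.comp_apply]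
    have h2 := congrArg (fun g => g.hom ((f.app V).hom a))
      (Groth.Agent.Lib.Helper20.DimTrdeg.map_evaluation e y hy)
    exact h2.symm
  have hinj : Function.Injective (algebraMap (Γ(S, V) ⧸ (hV.primeIdealOf ⟨f y, e hy⟩).asIdeal)
      (Γ(X, U) ⧸ (hU.primeIdealOf ⟨y, hy⟩).asIdeal)) := FaithfulSMul.algebraMap_injective _ _
  exact (trdeg_eq_of_isFractionRing _ _ _ _ hinj).symm

end Bridge

end Groth.Agent.Lib.Helper21.FibDim
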