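import Groth.Agent.Lib.Helper21.EquiSub8

/-!
# Quasi-sections of equidimensional morphisms: the dictionary between primes of the local ring
and generizations
-/

set_option autoImplicit false
set_option linter.style.haveILetI false
set_option linter.unusedSectionVars false
universe u

open AlgebraicGeometry CategoryTheory Limits TopologicalSpace IsLocalRing

namespace Groth.Agent.Lib.Helper21.EquiSub

open Groth.Agent.Lib.Helper21.FibDim

variable {X Y : Scheme.{u}}

/-- the local ring at the generization of `x` attached to a prime `P` of `O_{X,x}` has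
dimension the height of `P` -/
theorem ringKrullDim_stalk_fromSpecStalk (x : X) (P : Spec (X.presheaf.stalk x)) :
    ringKrullDim (X.presheaf.stalk (X.fromSpecStalk x P)) = P.asIdeal.height := by
  rw [ringKrullDim_stalk_eq_coheight, idealHeight_eq_coheight]
  congr 1
  symm
  apply Order.coheight_eq_of_strictMono (X.fromSpecStalk x)
  · intro a b hab
    rw [lt_iff_le_not_ge] at hab ⊢
    have key : ∀ a b : Spec (X.presheaf.stalk x),
        X.fromSpecStalk x a ≤ X.fromSpecStalk x b ↔ a ≤ b := by
      intro a b
      change X.fromSpecStalk x b ⤳ X.fromSpecStalk x a ↔ b ⤳ a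
      exact (X.fromSpecStalk x).isEmbedding.isInducing.specializes_iff
    rw [key, key]
    exact hab
  · intro a b hab
    have h1 : b ⤳ X.fromSpecStalk x a := hab.le
    have h2 : X.fromSpecStalk x a ⤳ x := by
      have : X.fromSpecStalk x a ∈ Set.range (X.fromSpecStalk x) := ⟨_, rfl⟩
      rw [Scheme.range_fromSpecStalk] at this
      exact this
    have h3 : b ∈ Set.range (X.fromSpecStalk x) := by
      rw [Scheme.range_fromSpecStalk]
      exact h1.trans h2
    obtain ⟨a', rfl⟩ := h3
    refine ⟨a', ?_, rfl⟩
    rw [lt_iff_le_not_ge] at hab ⊢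
    have key : ∀ a b : Spec (X.presheaf.stalk x),
        X.fromSpecStalk x a ≤ X.fromSpecStalk x b ↔ a ≤ b := by
      intro a b
      change X.fromSpecStalk x b ⤳ X.fromSpecStalk x a ↔ b ⤳ a
      exact (X.fromSpecStalk x).isEmbedding.isInducing.specializes_iff
    rw [key, key] at hab
    exact hab

/-- a generization of `x` in the fibre through `x` corresponds to a prime containing the ideal
of the fibre -/
theorem map_maximalIdeal_le_of_map_eq (f : X ⟶ Y) (x : X) (P : Spec (X.presheaf.stalk x))
    (h : f (X.fromSpecStalk x P) = f x) :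
    (maximalIdeal (Y.presheaf.stalk (f x))).map (f.stalkMap x).hom ≤ P.asIdeal := by
  rw [Ideal.map_le_iff_le_comap]
  have h3 := congrArg (fun φ : Spec (X.presheaf.stalk x) ⟶ Y => φ P)
    (Scheme.SpecMap_stalkMap_fromSpecStalk f (x := x))
  simp only [Scheme.Hom.comp_apply] at h3
  rw [h] at h3
  have h3' : Y.fromSpecStalk (f x) (Spec.map (f.stalkMap x) P) =
      Y.fromSpecStalk (f x) (closedPoint (Y.presheaf.stalk (f x))) := by
    rw [Scheme.fromSpecStalk_closedPoint]
    exact h3
  have h4 := (Y.fromSpecStalk (f x)).isEmbedding.injective h3'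
  have h5 : P.asIdeal.comap (f.stalkMap x).hom = maximalIdeal (Y.presheaf.stalk (f x)) :=
    congrArg PrimeSpectrum.asIdeal h4
  rw [h5]

/-- the local ring of the fibre is the quotient of the local ring by the extension of the
maximal ideal of the base: dimensions -/
theorem ringKrullDim_quotient_map_maximalIdeal (f : X ⟶ Y) (x : X) :
    ringKrullDim (X.presheaf.stalk x ⧸
      (maximalIdeal (Y.presheaf.stalk (f x))).map (f.stalkMap x).hom) =
      ringKrullDim ((f.fiber (f x)).presheaf.stalk (f.asFiber x)) := by
  have key : ∀ (s : Y) (t : f.fiber s), ringKrullDim (X.presheaf.stalk (f.fiberι s t) ⧸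
      (maximalIdeal (Y.presheaf.stalk (f (f.fiberι s t)))).map
        (f.stalkMap (f.fiberι s t)).hom) = ringKrullDim ((f.fiber s).presheaf.stalk t) := by
    intro s t
    obtain ⟨hsurj, hker⟩ := Groth.Agent.S9501.result f s t
    have e1 := RingHom.quotientKerEquivOfSurjective hsurj
    have e2 := Ideal.quotEquivOfEq hker
    exact ringKrullDim_eq_of_ringEquiv (e2.symm.trans e1)
  have h := key (f x) (f.asFiber x)
  rw [Scheme.Hom.fiberι_asFiber] at h
  exact h

/-- a point closed in its fibre has residue field algebraic over that of its image -/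
theorem trdeg_eq_zero_of_closed_in_fibre (f : X ⟶ Y) [LocallyOfFiniteType f] (x : X)
    (hcl : ∀ x' : X, f x' = f x → x ⤳ x' → x' = x) :
    @Algebra.trdeg (Y.residueField (f x)) (X.residueField x) _ _
      (f.residueFieldMap x).hom.toAlgebra = (0 : ℕ) := by
  obtain ⟨z, -, hsp, hz, htr⟩ := exists_mem_specializes_fiber_trdeg_eq_zero f ⊤ x trivial
  have := hcl z hz hsp
  subst this
  rw [htr]
  rfl

end Groth.Agent.Lib.Helper21.EquiSub
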