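import Groth.Agent.Lib.Helper21.ChartPt6

/-!
# Dimension of irreducible schemes locally of finite type over a field
-/

set_option autoImplicit false
set_option linter.style.haveILetI false
set_option linter.unusedSectionVars false
universe u
open AlgebraicGeometry CategoryTheory Limits TopologicalSpace

namespace Groth.Agent.Lib.Helper21.ChartPt

open Groth.Agent.Lib.Helper21.NagDvr Groth.Agent.Lib.Helper20.DimTrdeg

section Irr

variable {X : Scheme.{u}} [IrreducibleSpace X] {W : X.Opens} (hW : IsAffineOpen W)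

theorem primeIdealOf_genericPoint_le (hξW : genericPoint X ∈ W) (p : Ideal Γ(X, W))
    [hp : p.IsPrime] : (hW.primeIdealOf ⟨genericPoint X, hξW⟩).asIdeal ≤ p := by
  obtain ⟨⟨y, hyW⟩, hy⟩ := exists_primeIdealOf_eq hW ⟨p, hp⟩
  have hy' : (hW.primeIdealOf ⟨y, hyW⟩).asIdeal = p := congrArg PrimeSpectrum.asIdeal hy
  rw [← hy']
  exact (specializes_iff_primeIdealOf_le hW ⟨genericPoint X, hξW⟩ ⟨y, hyW⟩).mp
    (genericPoint_specializes y)

theorem primeIdealOf_genericPoint_mem_minimalPrimes (hξW : genericPoint X ∈ W) :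
    (hW.primeIdealOf ⟨genericPoint X, hξW⟩).asIdeal ∈ minimalPrimes Γ(X, W) :=
  ⟨⟨(hW.primeIdealOf ⟨genericPoint X, hξW⟩).2, bot_le⟩, fun p' hp' _ =>
    haveI := hp'.1
    primeIdealOf_genericPoint_le hW hξW p'⟩

theorem le_primeIdealOf_genericPoint_of_mem_minimalPrimes (hξW : genericPoint X ∈ W)
    (p : Ideal Γ(X, W)) (hp : p ∈ minimalPrimes Γ(X, W)) :
    p ≤ (hW.primeIdealOf ⟨genericPoint X, hξW⟩).asIdeal := by
  haveI := hp.1.1
  exact hp.2 ⟨(hW.primeIdealOf ⟨genericPoint X, hξW⟩).2, bot_le⟩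
    (primeIdealOf_genericPoint_le hW hξW p)

theorem genericPoint_mem_of_nonempty (O : X.Opens) (hO : (O : Set X).Nonempty) :
    genericPoint X ∈ O := by
  obtain ⟨y, hy⟩ := hO
  exact (genericPoint_specializes y).mem_open O.isOpen hy

end Irr

section IrrField

variable (k : Type u) [Field k] (X : Scheme.{u}) [X.Over (Spec (CommRingCat.of k))]
  [LocallyOfFiniteType (X ↘ Spec (CommRingCat.of k))] [IrreducibleSpace X]

theorem ringKrullDim_stalk_genericPoint : ringKrullDim (X.presheaf.stalk (genericPoint X)) = 0 := by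
  obtain ⟨W, hW, hxW, -⟩ := Opens.isBasis_iff_nbhd.mp X.isBasis_affineOpens
    (show genericPoint X ∈ (⊤ : X.Opens) from trivial)
  have hW : IsAffineOpen W := hW
  rw [ringKrullDim_stalk_eq_height hW _ hxW,
    Ideal.height_eq_zero_iff.mpr (primeIdealOf_genericPoint_mem_minimalPrimes hW hxW)]
  rfl

theorem ringKrullDim_stalk_le_of_irreducible (n : ℕ)
    (hn : @Algebra.trdeg k (X.residueField (genericPoint X)) _ _
      (Curv2.resAlgebra k X (genericPoint X)) = n) (x : X) :
    ringKrullDim (X.presheaf.stalk x) ≤ (n : WithBot ℕ∞) := by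
  obtain ⟨W, hW, hxW, -⟩ := Opens.isBasis_iff_nbhd.mp X.isBasis_affineOpens
    (show x ∈ (⊤ : X.Opens) from trivial)
  have hW : IsAffineOpen W := hW
  have hξW : genericPoint X ∈ W := genericPoint_mem_of_nonempty W ⟨x, hxW⟩
  let _ : Algebra k Γ(X, W) := (kMap (X ↘ Spec (CommRingCat.of k)) W).toAlgebra
  have : Algebra.FiniteType k Γ(X, W) := kMap_finiteType (X ↘ Spec (CommRingCat.of k)) W hW
  obtain ⟨s, hs1, hs2⟩ := exists_nat_trdeg_eq_and_dim_quotient k X hW (genericPoint X) hξW
  have hsn : s = n := by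
    have : (s : Cardinal) = n := by rw [← hs1, hn]
    exact_mod_cast this
  subst hsn
  have hht : (hW.primeIdealOf ⟨genericPoint X, hξW⟩).asIdeal.height = ((0 : ℕ) : ℕ∞) := by
    rw [Ideal.height_eq_zero_iff.mpr (primeIdealOf_genericPoint_mem_minimalPrimes hW hξW)]
    rfl
  rw [ringKrullDim_stalk_eq_height hW x hxW]
  have := height_le_add_of_notMem k Γ(X, W) (hW.primeIdealOf ⟨genericPoint X, hξW⟩).asIdeal s 0
    hs2 hht 1
    (fun p hp hpq => absurd (le_primeIdealOf_genericPoint_of_mem_minimalPrimes hW hξW p hp) hpq)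
    (hW.primeIdealOf ⟨x, hxW⟩).asIdeal
    ((Ideal.ne_top_iff_one _).mp (hW.primeIdealOf ⟨x, hxW⟩).2.ne_top)
  rw [add_zero] at this
  exact_mod_cast this

theorem exists_mem_le_ringKrullDim_stalk_of_irreducible (n : ℕ)
    (hn : @Algebra.trdeg k (X.residueField (genericPoint X)) _ _
      (Curv2.resAlgebra k X (genericPoint X)) = n) (O : X.Opens) (hO : (O : Set X).Nonempty) :
    ∃ z : X, z ∈ O ∧ (n : WithBot ℕ∞) ≤ ringKrullDim (X.presheaf.stalk z) := by
  obtain ⟨z, hzO, hz⟩ := exists_mem_add_le_ringKrullDim_stalk k X (genericPoint X) n 0 hn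
    (by rw [ringKrullDim_stalk_genericPoint X]; rfl) O (genericPoint_mem_of_nonempty O hO)
  exact ⟨z, hzO, by rwa [add_zero] at hz⟩

/-- A nonempty open of an irreducible scheme locally of finite type over a field has dimension
the transcendence degree of the function field. -/
theorem topologicalKrullDim_opens_eq_of_irreducible (n : ℕ)
    (hn : @Algebra.trdeg k (X.residueField (genericPoint X)) _ _
      (Curv2.resAlgebra k X (genericPoint X)) = n) (O : X.Opens) (hO : (O : Set X).Nonempty) :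
    topologicalKrullDim ↥(O : Set X) = (n : WithBot ℕ∞) := by
  rw [Groth.Agent.Lib.Helper14.AS.topologicalKrullDim_opens_eq_iSup_stalk O]
  apply le_antisymm
  · exact iSup_le fun z => ringKrullDim_stalk_le_of_irreducible k X n hn z.1
  · obtain ⟨z, hzO, hz⟩ := exists_mem_le_ringKrullDim_stalk_of_irreducible k X n hn O hO
    exact hz.trans (le_iSup (fun o : ↥(O : Set X) => ringKrullDim (X.presheaf.stalk o.1)) ⟨z, hzO⟩)

theorem topologicalKrullDim_eq_of_irreducible (n : ℕ)
    (hn : @Algebra.trdeg k (X.residueField (genericPoint X)) _ _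
      (Curv2.resAlgebra k X (genericPoint X)) = n) :
    topologicalKrullDim X = (n : WithBot ℕ∞) := by
  rw [Groth.Agent.Lib.Helper14.AS.topologicalKrullDim_eq_iSup_stalk X]
  apply le_antisymm
  · exact iSup_le fun z => ringKrullDim_stalk_le_of_irreducible k X n hn z
  · obtain ⟨z, -, hz⟩ := exists_mem_le_ringKrullDim_stalk_of_irreducible k X n hn ⊤
      ⟨genericPoint X, trivial⟩
    exact hz.trans (le_iSup (fun o : X => ringKrullDim (X.presheaf.stalk o)) z)

theorem exists_nat_trdeg_genericPoint :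
    ∃ n : ℕ, @Algebra.trdeg k (X.residueField (genericPoint X)) _ _
      (Curv2.resAlgebra k X (genericPoint X)) = n := by
  obtain ⟨W, hW, hxW, -⟩ := Opens.isBasis_iff_nbhd.mp X.isBasis_affineOpens
    (show genericPoint X ∈ (⊤ : X.Opens) from trivial)
  obtain ⟨s, hs1, -⟩ := exists_nat_trdeg_eq_and_dim_quotient k X hW (genericPoint X) hxW
  exact ⟨s, hs1⟩

end IrrField

end Groth.Agent.Lib.Helper21.ChartPt
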