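import Mathlib.RingTheory.SurjectiveOnStalks
import Mathlib.RingTheory.Localization.AtPrime.Basic
import Mathlib.RingTheory.Localization.BaseChange
import Mathlib.RingTheory.Ideal.Over
import Mathlib.Tactic

/-!
# Ring lemmas for birational morphisms
-/

set_option autoImplicit false

namespace Groth.Agent.Lib.Helper21.Birat

variable {C A : Type*} [CommRing C] [CommRing A]

/-- If `C_q → A_{p₀}` is surjective, then a prime `p ⊇ p₀` lying over the same prime `q`
of `C` equals `p₀`. -/
theorem eq_of_le_of_localRingHom_surjective (φ : C →+* A)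
    (p0 p : Ideal A) [p0.IsPrime] [p.IsPrime] (hle : p0 ≤ p) (hq : p.comap φ = p0.comap φ)
    (H : Function.Surjective (Localization.localRingHom (p0.comap φ) p0 φ rfl)) : p = p0 := by
  refine le_antisymm ?_ hle
  intro a ha
  obtain ⟨c, s, u, hu, hs, e⟩ := (RingHom.surjective_localRingHom_iff (f := φ) p0).mp H a
  -- e : u * φ s * a = u * φ c
  have h1 : u * φ c ∈ p := e ▸ Ideal.mul_mem_left _ _ ha
  have hup : u ∉ p0 := hu
  have h2 : u * (φ s * a - φ c) = 0 := by rw [mul_sub, ← mul_assoc, e, sub_self]
  have h3 : φ s * a - φ c ∈ p0 := by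
    have : u * (φ s * a - φ c) ∈ p0 := h2 ▸ p0.zero_mem
    exact (Ideal.IsPrime.mem_or_mem inferInstance this).resolve_left hup
  have h4 : φ c ∈ p := by
    have h5 : φ s * a - φ c ∈ p := hle h3
    have h6 : φ s * a ∈ p := Ideal.mul_mem_left _ _ ha
    have := p.sub_mem h6 h5
    simpa using this
  have h5 : c ∈ p0.comap φ := hq ▸ (Ideal.mem_comap.mpr h4)
  have h6 : φ s * a ∈ p0 := by
    have := p0.add_mem h3 (Ideal.mem_comap.mp h5)
    simpa using this
  exact (Ideal.IsPrime.mem_or_mem inferInstance h6).resolve_left hs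

theorem eq_of_le_of_localRingHom_surjective' (φ : C →+* A)
    (p0 p : Ideal A) [p0.IsPrime] [p.IsPrime] (q : Ideal C) [q.IsPrime] (hq0 : q = p0.comap φ)
    (hle : p0 ≤ p) (hq : p.comap φ = q)
    (H : Function.Surjective (Localization.localRingHom q p0 φ hq0)) : p = p0 := by
  subst hq0
  exact eq_of_le_of_localRingHom_surjective φ p0 p hle hq H

/-- If `C_q → A_{p₀}` is surjective and `p₀` is the only prime of `A` whose contraction is
contained in `q`, then `A_{p₀}` is the localization of `A` at the image of `C ∖ q`. -/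
theorem isLocalization_algebraMapSubmonoid_of_unique [Algebra C A]
    (p0 : Ideal A) [p0.IsPrime] (q : Ideal C) [q.IsPrime] (hq : q = p0.comap (algebraMap C A))
    (H : Function.Surjective (Localization.localRingHom q p0 (algebraMap C A) hq))
    (huniq : ∀ p : Ideal A, p.IsPrime → p.comap (algebraMap C A) ≤ q → p = p0)
    (Ap : Type*) [CommRing Ap] [Algebra A Ap] [IsLocalization.AtPrime Ap p0] :
    IsLocalization (Algebra.algebraMapSubmonoid A q.primeCompl) Ap := by
  subst hq
  have hMdisj : ∀ m ∈ Algebra.algebraMapSubmonoid A (p0.comap (algebraMap C A)).primeCompl,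
      m ∉ p0 := by
    rintro _ ⟨s, hs, rfl⟩
    exact hs
  refine ⟨?_, ?_, ?_⟩
  · rintro ⟨m, hm⟩
    exact IsLocalization.map_units (M := p0.primeCompl) Ap ⟨m, hMdisj m hm⟩
  · intro z
    obtain ⟨a, t, rfl⟩ := IsLocalization.exists_mk'_eq p0.primeCompl z
    obtain ⟨xa, ra, ca, hca, hra, ea⟩ :=
      (RingHom.surjective_localRingHom_iff (f := algebraMap C A) p0).mp H a
    obtain ⟨xt, rt, ct, hct, hrt, et⟩ :=
      (RingHom.surjective_localRingHom_iff (f := algebraMap C A) p0).mp H (t : A)
    -- a = φ xa / φ ra, t = φ xt / φ rt in A_{p0}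
    have hxt : algebraMap C A xt ∉ p0 := by
      intro hmem
      have : ct * algebraMap C A rt * (t : A) ∈ p0 := et ▸ Ideal.mul_mem_left _ _ hmem
      have h1 := (Ideal.IsPrime.mem_or_mem inferInstance this).resolve_right t.2
      exact (Ideal.IsPrime.mem_or_mem inferInstance h1).elim hct hrt
    refine ⟨⟨algebraMap C A (xa * rt), ⟨algebraMap C A (ra * xt),
      ⟨ra * xt, ?_, rfl⟩⟩⟩, ?_⟩
    · exact Submonoid.mul_mem _ hra hxt
    · have e1 : algebraMap A Ap (algebraMap C A ra) * algebraMap A Ap a =
          algebraMap A Ap (algebraMap C A xa) := by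
        apply (IsLocalization.map_units (M := p0.primeCompl) Ap ⟨ca, hca⟩).mul_left_cancel
        simp only [← map_mul, ← mul_assoc]
        rw [ea]
      have e2 : algebraMap A Ap (algebraMap C A rt) * algebraMap A Ap (t : A) =
          algebraMap A Ap (algebraMap C A xt) := by
        apply (IsLocalization.map_units (M := p0.primeCompl) Ap ⟨ct, hct⟩).mul_left_cancel
        simp only [← map_mul, ← mul_assoc]
        rw [et]
      have e3 : IsLocalization.mk' Ap a t * algebraMap A Ap (t : A) = algebraMap A Ap a :=
        IsLocalization.mk'_spec Ap a t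
      simp only [map_mul]
      linear_combination (-(IsLocalization.mk' Ap a t * algebraMap A Ap (algebraMap C A ra))) * e2 +
        algebraMap A Ap (algebraMap C A rt) * e1 +
        algebraMap A Ap (algebraMap C A ra) * algebraMap A Ap (algebraMap C A rt) * e3
  · intro a b hab
    obtain ⟨u, hu⟩ := (IsLocalization.eq_iff_exists p0.primeCompl Ap).mp hab
    by_contra hcon
    push Not at hcon
    let I : Ideal A := (Submodule.span A {a - b}).annihilator
    have huI : (u : A) ∈ I := by
      rw [Submodule.mem_annihilator_span_singleton, smul_eq_mul, mul_sub, hu, sub_self]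
    have hdisj : Disjoint (I : Set A)
        (Algebra.algebraMapSubmonoid A (p0.comap (algebraMap C A)).primeCompl : Set A) := by
      rw [Set.disjoint_left]
      intro m hmI hmM
      apply hcon ⟨m, hmM⟩
      have : m * (a - b) = 0 := by
        simpa [smul_eq_mul] using (Submodule.mem_annihilator_span_singleton _ _).mp hmI
      simpa [mul_sub, sub_eq_zero] using this
    obtain ⟨p, hp, hIp, hpM⟩ := Ideal.exists_le_prime_disjoint I _ hdisj
    have hpq : p.comap (algebraMap C A) ≤ p0.comap (algebraMap C A) := by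
      intro c hc
      by_contra hcq
      exact Set.disjoint_left.mp hpM hc ⟨c, hcq, rfl⟩
    have hup : (u : A) ∈ p := hIp huI
    rw [huniq p hp hpq] at hup
    exact u.2 hup

end Groth.Agent.Lib.Helper21.Birat
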