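import Groth.Agent.Lib.Helper7.StalkIso
import Mathlib.AlgebraicGeometry.SpreadingOut
import Mathlib.AlgebraicGeometry.Morphisms.FinitePresentation
import Mathlib.AlgebraicGeometry.Morphisms.IsIso

/-!
# Local isomorphisms: a morphism with bijective stalk map at `x` is an isomorphism near `x`
(locally of finite presentation, or locally of finite type with germ-injective target).
-/

set_option autoImplicit false
universe u
open AlgebraicGeometry CategoryTheory

namespace Groth.Agent.Lib.Helper21.Birat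

open Groth.Agent.Lib.Helper7

variable {X Y : Scheme.{u}} (f : X ⟶ Y)

theorem isIso_resLE_of_appLE_bijective {U : X.Opens} {V : Y.Opens} (hU : IsAffineOpen U)
    (hV : IsAffineOpen V) (h : U ≤ f ⁻¹ᵁ V) (hb : Function.Bijective (f.appLE V U h)) :
    IsIso (f.resLE V U h) := by
  have hiso : IsIso (f.appLE V U h) := by
    rw [ConcreteCategory.isIso_iff_bijective]; exact hb
  have : IsAffine V.toScheme := hV
  have : IsAffine U.toScheme := hU
  have := (HasAffineProperty.iff_of_isAffine (P := MorphismProperty.isomorphisms Scheme)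
    (f := f.resLE V U h)).mpr
  apply this
  refine ⟨inferInstance, ?_⟩
  change IsIso ((f.resLE V U h).app ⊤)
  rw [Scheme.Hom.resLE_app_top]
  exact IsIso.comp_isIso' inferInstance (IsIso.comp_isIso' hiso inferInstance)

theorem ker_fg_of_finitePresentation_of_surjective {A B : Type u} [CommRing A] [CommRing B]
    (φ : A →+* B) (hφ : φ.FinitePresentation) (hs : Function.Surjective φ) :
    (RingHom.ker φ).FG := by
  algebraize [φ]
  exact Algebra.FinitePresentation.ker_fG_of_surjective (Algebra.ofId A B) hs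

theorem injective_germ_of_eq {O O' : Y.Opens} (e : O = O') (y : Y) (hy : y ∈ O)
    (H : Function.Injective (Y.presheaf.germ O y hy)) :
    Function.Injective (Y.presheaf.germ O' y (e ▸ hy)) := by
  subst e; exact H

/-- The kernel of `appLE` dies in the stalk if the stalk map is injective. -/
theorem germ_eq_zero_of_appLE_eq_zero {U : X.Opens} {V : Y.Opens} (h : U ≤ f ⁻¹ᵁ V) (x : X)
    (hx : x ∈ U) (hfx : f x ∈ V) (hs : Function.Injective (f.stalkMap x)) (k : Γ(Y, V))
    (hk : f.appLE V U h k = 0) : Y.presheaf.germ V (f x) hfx k = 0 := by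
  have h1 : f.stalkMap x (Y.presheaf.germ V (f x) hfx k) = 0 := by
    rw [Scheme.Hom.germ_stalkMap_apply]
    have : X.presheaf.germ U x hx (f.appLE V U h k) =
        X.presheaf.germ (f ⁻¹ᵁ V) x (h hx) (f.app V k) := by
      rw [Scheme.Hom.appLE, CommRingCat.comp_apply, TopCat.Presheaf.germ_res_apply]
    rw [← this, hk, map_zero]
  exact hs (by rw [h1, map_zero])

theorem exists_isIso_resLE_of_stalkMap_bijective' [LocallyOfFiniteType f] (x : X)
    (hs : Function.Bijective (f.stalkMap x)) (W : Y.Opens) (hW : f x ∈ W)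
    (hinj : LocallyOfFinitePresentation f ∨ Y.IsGermInjectiveAt (f x)) :
    ∃ (U : X.Opens) (V : Y.Opens) (h : U ≤ f ⁻¹ᵁ V), x ∈ U ∧ V ≤ W ∧ IsIso (f.resLE V U h) := by
  obtain ⟨U, V, h, hx, hU, hV, hsurj⟩ :=
    exists_appLE_surjective_of_stalkMap_surjective f x hs.2
  -- it suffices to find `a` with the right properties
  suffices H : ∃ a : Γ(Y, V), f x ∈ Y.basicOpen a ∧ Y.basicOpen a ≤ W ∧
      ∀ hle : X.basicOpen (f.appLE V U h a) ≤ f ⁻¹ᵁ Y.basicOpen a,
      Function.Injective (f.appLE (Y.basicOpen a) (X.basicOpen (f.appLE V U h a)) hle) by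
    obtain ⟨a, hxa, haW, hainj⟩ := H
    have hle : X.basicOpen (f.appLE V U h a) ≤ f ⁻¹ᵁ Y.basicOpen a := by
      rw [Scheme.basicOpen_appLE]; exact inf_le_right
    refine ⟨X.basicOpen (f.appLE V U h a), Y.basicOpen a, hle, ?_, haW, ?_⟩
    · rw [Scheme.basicOpen_appLE]
      exact ⟨hx, hxa⟩
    · apply isIso_resLE_of_appLE_bijective f (hU.basicOpen _) (hV.basicOpen _) hle
      refine ⟨hainj hle, ?_⟩
      have := hV.isLocalization_basicOpen a
      have := hU.isLocalization_basicOpen (f.appLE V U h a)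
      rw [IsAffineOpen.appLE_eq_away_map f hV hU h a]
      have : IsLocalization ((Submonoid.powers a).map (f.appLE V U h).hom)
          Γ(X, X.basicOpen (f.appLE V U h a)) := by
        rw [Submonoid.map_powers]; infer_instance
      exact IsLocalization.map_surjective_of_surjective (Submonoid.powers a)
        Γ(Y, Y.basicOpen a) Γ(X, X.basicOpen (f.appLE V U h a)) hsurj
  obtain ⟨a₂, ha₂W, hxa₂⟩ := hV.exists_basicOpen_le ⟨f x, hW⟩ (h hx)
  rcases hinj with hfp | hgi
  · -- finitely presented case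
    have hker : ∀ k ∈ RingHom.ker (f.appLE V U h).hom,
        ∃ s ∉ (hV.primeIdealOf ⟨f x, h hx⟩).asIdeal, s * k = 0 := by
      intro k hk
      have h2 := germ_eq_zero_of_appLE_eq_zero f h x hx (h hx) hs.1 k hk
      let _ : Algebra Γ(Y, V) (Y.presheaf.stalk (f x)) :=
        TopCat.Presheaf.algebra_section_stalk Y.presheaf ⟨f x, h hx⟩
      have := hV.isLocalization_stalk ⟨f x, h hx⟩
      obtain ⟨⟨s, hs⟩, hsk⟩ := (IsLocalization.map_eq_zero_iff
        (hV.primeIdealOf ⟨f x, h hx⟩).asIdeal.primeCompl (Y.presheaf.stalk (f x)) k).mp h2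
      exact ⟨s, hs, hsk⟩
    have hfg : (RingHom.ker (f.appLE V U h).hom).FG :=
      ker_fg_of_finitePresentation_of_surjective _
        (HasRingHomProperty.appLE (P := @LocallyOfFinitePresentation) f inferInstance
          ⟨V, hV⟩ ⟨U, hU⟩ h) hsurj
    obtain ⟨a₁, ha₁q, ha₁⟩ := exists_notMem_forall_mul_eq_zero (f.appLE V U h).hom hfg _ hker
    refine ⟨a₁ * a₂, ?_, ?_, ?_⟩
    · rw [Scheme.basicOpen_mul]
      exact ⟨(mem_basicOpen_iff_notMem_primeIdealOf Y hV (f x) (h hx) a₁).mpr ha₁q, hxa₂⟩
    · rw [Scheme.basicOpen_mul]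
      exact inf_le_right.trans ha₂W
    · intro hle
      have := hV.isLocalization_basicOpen (a₁ * a₂)
      have := hU.isLocalization_basicOpen (f.appLE V U h (a₁ * a₂))
      have hbij := away_map_bijective (f.appLE V U h).hom hsurj (a₁ * a₂)
        (fun k hk => by rw [mul_right_comm, ha₁ k hk, zero_mul]) Γ(Y, Y.basicOpen (a₁ * a₂))
        Γ(X, X.basicOpen (f.appLE V U h (a₁ * a₂)))
      have e := IsAffineOpen.appLE_eq_away_map f hV hU h (a₁ * a₂)
      rw [e]
      exact hbij.1
  · -- germ-injective case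
    obtain ⟨V', hxV', hV', hV'le, hV'inj⟩ :=
      Y.exists_le_and_germ_injective (f x) (Y.basicOpen a₂) hxa₂
    obtain ⟨a, a', e, hxa⟩ := exists_basicOpen_le_affine_inter hV hV' (f x) ⟨h hx, hxV'⟩
    have hinj' : Function.Injective (Y.presheaf.germ (Y.basicOpen a) (f x) hxa) := by
      have := injective_germ_basicOpen V' hV' (f x) hxV' a' (e ▸ hxa) hV'inj
      exact injective_germ_of_eq e.symm (f x) (e ▸ hxa) this
    refine ⟨a, hxa, ?_, ?_⟩
    · rw [e]
      exact (Y.basicOpen_le a').trans (hV'le.trans ha₂W)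
    · intro hle
      rw [injective_iff_map_eq_zero]
      intro s hs0
      apply hinj'
      rw [map_zero]
      exact germ_eq_zero_of_appLE_eq_zero f hle x
        (by rw [Scheme.basicOpen_appLE]; exact ⟨hx, hxa⟩) hxa hs.1 s hs0

end Groth.Agent.Lib.Helper21.Birat
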