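import Groth.Agent.Lib.Helper21.BiratTop
import Groth.Agent.Lib.Helper21.BiratAlg
import Groth.Agent.Lib.Helper21.BiratLocal

/-!
# Birational morphisms: the fibre over a generic point is a single point
-/

set_option autoImplicit false
universe u
open AlgebraicGeometry CategoryTheory

namespace Groth.Agent.Lib.Helper21.Birat

open Groth.Agent.Lib.Helper7

variable {X Y : Scheme.{u}} (f : X ⟶ Y)

/-- The set of generic points of irreducible components. -/
abbrev gen (X : Scheme.{u}) : Set X := {x : X | closure {x} ∈ irreducibleComponents ↥X}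

theorem primeIdealOf_le_of_specializes {U : X.Opens} (hU : IsAffineOpen U) {x0 x : X}
    (hx0 : x0 ∈ U) (hx : x ∈ U) (h : x0 ⤳ x) :
    (hU.primeIdealOf ⟨x0, hx0⟩).asIdeal ≤ (hU.primeIdealOf ⟨x, hx⟩).asIdeal := by
  have h1 : (⟨x0, hx0⟩ : U) ⤳ ⟨x, hx⟩ := Topology.IsInducing.subtypeVal.specializes_iff.mp h
  have h2 := h1.map hU.isoSpec.hom.continuous
  exact (PrimeSpectrum.le_iff_specializes _ _).mpr h2

theorem primeIdealOf_injective {U : X.Opens} (hU : IsAffineOpen U) {x0 x : X}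
    (hx0 : x0 ∈ U) (hx : x ∈ U)
    (h : (hU.primeIdealOf ⟨x0, hx0⟩).asIdeal = (hU.primeIdealOf ⟨x, hx⟩).asIdeal) : x0 = x := by
  have h1 : hU.primeIdealOf ⟨x0, hx0⟩ = hU.primeIdealOf ⟨x, hx⟩ := PrimeSpectrum.ext h
  have h2 := (Scheme.homeoOfIso hU.isoSpec).injective h1
  exact congrArg Subtype.val h2

theorem specializes_of_map_eq
    (hinj : Set.InjOn (fun x : X => f.base x) (gen X))
    (hmaps : Set.MapsTo (fun x : X => f.base x) (gen X) (gen Y))
    {x0 x : X} (hx0 : x0 ∈ gen X) (hx : f x = f x0) : x0 ⤳ x := by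
  obtain ⟨x1, hx1, hx1x⟩ := exists_gen_specializes x
  have h1 : f x1 ⤳ f x0 := hx ▸ hx1x.map f.continuous
  have h2 : f x1 = f x0 := eq_of_specializes_gen (hmaps hx0) h1
  have h3 : x1 = x0 := hinj hx1 hx0 h2
  exact h3 ▸ hx1x

theorem eq_of_map_eq_gen
    (hinj : Set.InjOn (fun x : X => f.base x) (gen X))
    (hmaps : Set.MapsTo (fun x : X => f.base x) (gen X) (gen Y))
    (hiso : ∀ x : X, x ∈ gen X → IsIso (f.stalkMap x))
    {x0 x : X} (hx0 : x0 ∈ gen X) (hx : f x = f x0) : x = x0 := by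
  have hspec : x0 ⤳ x := specializes_of_map_eq f hinj hmaps hx0 hx
  obtain ⟨V, U, hV, hU, hxU, hUV⟩ := exists_affine_nhds f x
  have hx0U : x0 ∈ U := hspec.mem_open U.2 hxU
  have := hiso x0 hx0
  have hs : Function.Surjective (f.stalkMap x0) :=
    ((ConcreteCategory.isIso_iff_bijective _).mp this).2
  have hs' := (surjective_iff_of_arrow_iso
    (IsAffineOpen.arrowStalkMapIso f V hV U hU hUV hx0U)).mp hs
  have hcomap : (hU.primeIdealOf ⟨x, hxU⟩).asIdeal.comap (f.appLE V U hUV).hom =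
      (hV.primeIdealOf ⟨f x0, hUV hx0U⟩).asIdeal := by
    have h1 := congr($(IsAffineOpen.comap_primeIdealOf_appLE V hV U hU hUV hxU).1)
    have h2 : (⟨f x, hUV hxU⟩ : V) = ⟨f x0, hUV hx0U⟩ := Subtype.ext hx
    rw [h2] at h1
    exact h1
  have := eq_of_le_of_localRingHom_surjective' (f.appLE V U hUV).hom
    (hU.primeIdealOf ⟨x0, hx0U⟩).asIdeal (hU.primeIdealOf ⟨x, hxU⟩).asIdeal
    (hV.primeIdealOf ⟨f x0, hUV hx0U⟩).asIdeal
    congr($(IsAffineOpen.comap_primeIdealOf_appLE V hV U hU hUV hx0U).1).symm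
    (primeIdealOf_le_of_specializes hU hx0U hxU hspec) hcomap hs'
  exact (primeIdealOf_injective hU hx0U hxU this.symm).symm

end Groth.Agent.Lib.Helper21.Birat
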