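import Groth.Agent.Lib.Helper21.DVRExt2
import Groth.Agent.Lib.Helper21.BiratPoint

/-!
# A DVR realising a specialization in a locally Noetherian scheme (Stacks 054F, same residue
field at the generic point)
-/

set_option autoImplicit false
universe u
open AlgebraicGeometry CategoryTheory Limits TopologicalSpace

namespace Groth.Agent.Lib.Helper21.DVRExt

variable {X : Scheme.{u}}

/-- For a nontrivial specialization `t ⤳ x` in a locally Noetherian scheme there is a DVR `R` and
`u : Spec R ⟶ X` mapping the closed point to `x` and the generic point to `t`. -/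
theorem exists_dvr_of_specializes [IsLocallyNoetherian X] (t x : X) (htx : t ⤳ x)
    (hne : t ≠ x) :
    ∃ (R : Type u) (_ : CommRing R) (_ : IsDomain R) (_ : IsDiscreteValuationRing R)
      (u : Spec (CommRingCat.of R) ⟶ X),
      u (IsLocalRing.closedPoint R) = x ∧ u (⟨⊥, Ideal.isPrime_bot⟩ : PrimeSpectrum R) = t := by
  classical
  obtain ⟨W₁, hW₁, hxW₁, -⟩ := Opens.isBasis_iff_nbhd.mp X.isBasis_affineOpens
    (show x ∈ (⊤ : X.Opens) from trivial)
  replace hW₁ : IsAffineOpen W₁ := hW₁
  have htW₁ : t ∈ W₁ := htx.mem_open W₁.isOpen hxW₁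
  let A := Γ(X, W₁)
  have hAN : IsNoetherianRing A := IsLocallyNoetherian.component_noetherian ⟨W₁, hW₁⟩
  let Px := hW₁.primeIdealOf ⟨x, hxW₁⟩
  let Pt := hW₁.primeIdealOf ⟨t, htW₁⟩
  let px : Ideal A := Px.asIdeal
  let pt : Ideal A := Pt.asIdeal
  have hle : pt ≤ px := Birat.primeIdealOf_le_of_specializes hW₁ htW₁ hxW₁ htx
  have hneq : pt ≠ px := fun h => hne (Birat.primeIdealOf_injective hW₁ htW₁ hxW₁ h)
  let Abar := A ⧸ pt
  let mk : A →+* Abar := Ideal.Quotient.mk pt
  have hmk : Function.Surjective mk := Ideal.Quotient.mk_surjective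
  let pbar : Ideal Abar := px.map mk
  have hpbar : pbar.IsPrime := Ideal.map_isPrime_of_surjective hmk (by
    rw [Ideal.mk_ker]; exact hle)
  have hcomap : pbar.comap mk = px := by
    rw [Ideal.comap_map_of_surjective mk hmk, ← RingHom.ker_eq_comap_bot, Ideal.mk_ker,
      sup_eq_left.mpr hle]
  have hpbar0 : pbar ≠ ⊥ := by
    intro h0
    apply hneq
    refine le_antisymm hle ?_
    rw [← hcomap, h0, ← RingHom.ker_eq_comap_bot, Ideal.mk_ker]
  let L := Localization.AtPrime pbar
  have hLdom : IsDomain L := IsLocalization.isDomain_localization pbar.primeCompl_le_nonZeroDivisors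
  have hLN : IsNoetherianRing L := IsLocalization.isNoetherianRing pbar.primeCompl L inferInstance
  have hLnf : ¬ IsField L := IsLocalization.AtPrime.not_isField Abar hpbar0 L
  let K := FractionRing L
  obtain ⟨R, _, _, _, _, _, _, hFr, hloc⟩ := KA.exists_dvr_dominating L hLnf K
  have hLRinj : Function.Injective (algebraMap L R) := by
    intro a b hab
    apply IsFractionRing.injective L K
    have := congrArg (algebraMap R K) hab
    rwa [← IsScalarTower.algebraMap_apply, ← IsScalarTower.algebraMap_apply] at this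
  have hALinj : Function.Injective (algebraMap Abar L) :=
    IsLocalization.injective L pbar.primeCompl_le_nonZeroDivisors
  let χ : A →+* R := (algebraMap L R).comp ((algebraMap Abar L).comp mk)
  let u : Spec (CommRingCat.of R) ⟶ X := Spec.map (CommRingCat.ofHom χ) ≫ hW₁.fromSpec
  have hclosed : PrimeSpectrum.comap χ (IsLocalRing.closedPoint R) = Px := by
    ext1
    change Ideal.comap χ (IsLocalRing.maximalIdeal R) = px
    have h1 : Ideal.comap (algebraMap L R) (IsLocalRing.maximalIdeal R) =
        IsLocalRing.maximalIdeal L :=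
      congrArg PrimeSpectrum.asIdeal (IsLocalRing.comap_closedPoint (algebraMap L R))
    have h2 : Ideal.comap (algebraMap Abar L) (IsLocalRing.maximalIdeal L) = pbar :=
      IsLocalization.AtPrime.under_maximalIdeal L pbar
    rw [← Ideal.comap_comap, ← Ideal.comap_comap, h1, h2, hcomap]
  have hgeneric : PrimeSpectrum.comap χ ⟨⊥, Ideal.isPrime_bot⟩ = Pt := by
    ext1
    change Ideal.comap χ ⊥ = pt
    ext a
    rw [Ideal.mem_comap, Ideal.mem_bot]
    change algebraMap L R (algebraMap Abar L (mk a)) = 0 ↔ a ∈ pt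
    rw [map_eq_zero_iff _ hLRinj, map_eq_zero_iff _ hALinj]
    exact Ideal.Quotient.eq_zero_iff_mem
  refine ⟨R, inferInstance, inferInstance, inferInstance, u, ?_, ?_⟩
  · change (Spec.map (CommRingCat.ofHom χ) ≫ hW₁.fromSpec) (IsLocalRing.closedPoint R) = x
    rw [Scheme.Hom.comp_apply]
    have : Spec.map (CommRingCat.ofHom χ) (IsLocalRing.closedPoint R) = Px := hclosed
    rw [this]
    exact hW₁.fromSpec_primeIdealOf ⟨x, hxW₁⟩
  · change (Spec.map (CommRingCat.ofHom χ) ≫ hW₁.fromSpec)
      (⟨⊥, Ideal.isPrime_bot⟩ : PrimeSpectrum R) = t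
    rw [Scheme.Hom.comp_apply]
    have : Spec.map (CommRingCat.ofHom χ) (⟨⊥, Ideal.isPrime_bot⟩ : PrimeSpectrum R) = Pt :=
      hgeneric
    rw [this]
    exact hW₁.fromSpec_primeIdealOf ⟨t, htW₁⟩

end Groth.Agent.Lib.Helper21.DVRExt
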