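import Groth.Agent.Lib.Helper21.FibDim3
import Groth.Agent.Lib.Helper21.ChartPt7
import Groth.Agent.Lib.Helper21.ChartPt6
import Groth.Agent.Lib.Helper6.EtaleSq

set_option autoImplicit false
set_option linter.style.haveILetI false
set_option linter.unusedSectionVars false
universe u

open AlgebraicGeometry CategoryTheory Limits TopologicalSpace

namespace Groth.Agent.Lib.Helper21.FibDim

open Groth.Agent.Lib.Helper21.ChartPt Groth.Agent.Lib.Helper21.NagDvr
  Groth.Agent.Lib.Helper20.DimTrdeg

section A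

variable (k : Type u) [Field k] (X : Scheme.{u}) [X.Over (Spec (CommRingCat.of k))]
  [LocallyOfFiniteType (X ↘ Spec (CommRingCat.of k))]

/-- chains of specialisations of `y` have length at most `trdeg κ(y)` -/
theorem length_le_of_chain (y : X) (s : ℕ)
    (hs : @Algebra.trdeg k (X.residueField y) _ _ (Curv2.resAlgebra k X y) = s)
    (n : ℕ) (p : Fin (n + 1) → X) (hyp : ∀ i, y ⤳ p i)
    (hp : ∀ i j, i < j → p j ⤳ p i ∧ ¬ p i ⤳ p j) : n ≤ s := by
  -- the most special point
  let z : X := p 0
  obtain ⟨W, hW, hzW, -⟩ := Opens.isBasis_iff_nbhd.mp X.isBasis_affineOpens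
    (show z ∈ (⊤ : X.Opens) from trivial)
  have hW : IsAffineOpen W := hW
  have hpz : ∀ i, p i ⤳ z := by
    intro i
    rcases (Fin.zero_le i).eq_or_lt with h | h
    · rw [← h]
    · exact (hp 0 i h).1
  have hpW : ∀ i, p i ∈ W := fun i => (hpz i).mem_open W.2 hzW
  have hyW : y ∈ W := (hyp 0).mem_open W.2 hzW
  let _ : Algebra k Γ(X, W) := (kMap (X ↘ Spec (CommRingCat.of k)) W).toAlgebra
  obtain ⟨s', hs'1, hs'2⟩ := exists_nat_trdeg_eq_and_dim_quotient k X hW y hyW
  have hss' : s' = s := by
    have : (s' : Cardinal) = s := by rw [← hs'1, hs]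
    exact_mod_cast this
  subst hss'
  set py := (hW.primeIdealOf ⟨y, hyW⟩).asIdeal with hpy
  have hpyprime : py.IsPrime := (hW.primeIdealOf ⟨y, hyW⟩).2
  let Q : Fin (n + 1) → Ideal Γ(X, W) := fun i => (hW.primeIdealOf ⟨p i, hpW i⟩).asIdeal
  have hQprime : ∀ i, (Q i).IsPrime := fun i => (hW.primeIdealOf ⟨p i, hpW i⟩).2
  have hle : ∀ i, py ≤ Q i := fun i =>
    (specializes_iff_primeIdealOf_le hW ⟨y, hyW⟩ ⟨p i, hpW i⟩).mp (hyp i)
  have hQlt : ∀ i j, i < j → Q j < Q i := by
    intro i j hij
    have h2 : Q j ≤ Q i :=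
      (specializes_iff_primeIdealOf_le hW ⟨p j, hpW j⟩ ⟨p i, hpW i⟩).mp (hp i j hij).1
    refine lt_of_le_of_ne h2 ?_
    intro heq
    have h3 : Q i ≤ Q j := heq.ge
    exact (hp i j hij).2
      ((specializes_iff_primeIdealOf_le hW ⟨p i, hpW i⟩ ⟨p j, hpW j⟩).mpr h3)
  let l : LTSeries (PrimeSpectrum (Γ(X, W) ⧸ py)) :=
    LTSeries.mk n
      (fun i => ⟨(Q i.rev).map (Ideal.Quotient.mk py), map_mk_isPrime py (Q i.rev) (hle i.rev)⟩)
      (by
        intro i j hij
        have h1 : Q i.rev < Q j.rev := hQlt j.rev i.rev (Fin.rev_lt_rev.mpr hij)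
        refine lt_of_le_of_ne (Ideal.map_mono h1.le) ?_
        intro heq
        have h2 := congrArg (fun P : PrimeSpectrum (Γ(X, W) ⧸ py) =>
          P.asIdeal.comap (Ideal.Quotient.mk py)) heq
        simp only [comap_map_mk _ _ (hle i.rev), comap_map_mk _ _ (hle j.rev)] at h2
        exact h1.ne h2)
  have h6 := Order.LTSeries.length_le_krullDim l
  have h7 : ((n : ℕ) : WithBot ℕ∞) ≤ (s' : WithBot ℕ∞) := by
    have : ringKrullDim (Γ(X, W) ⧸ py) = s' := hs'2
    rw [← this]
    exact h6
  exact_mod_cast h7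

/-- there is a chain of specialisations of `y` of length `trdeg κ(y)` -/
theorem exists_chain (y : X) (s : ℕ)
    (hs : @Algebra.trdeg k (X.residueField y) _ _ (Curv2.resAlgebra k X y) = s) :
    ∃ p : Fin (s + 1) → X, (∀ i, y ⤳ p i) ∧ ∀ i j, i < j → p j ⤳ p i ∧ ¬ p i ⤳ p j := by
  obtain ⟨W, hW, hyW, -⟩ := Opens.isBasis_iff_nbhd.mp X.isBasis_affineOpens
    (show y ∈ (⊤ : X.Opens) from trivial)
  have hW : IsAffineOpen W := hW
  let _ : Algebra k Γ(X, W) := (kMap (X ↘ Spec (CommRingCat.of k)) W).toAlgebra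
  obtain ⟨s', hs'1, hs'2⟩ := exists_nat_trdeg_eq_and_dim_quotient k X hW y hyW
  have hss' : s' = s := by
    have : (s' : Cardinal) = s := by rw [← hs'1, hs]
    exact_mod_cast this
  subst hss'
  set py := (hW.primeIdealOf ⟨y, hyW⟩).asIdeal with hpy
  have hpyprime : py.IsPrime := (hW.primeIdealOf ⟨y, hyW⟩).2
  obtain ⟨l, hl⟩ := Order.le_krullDim_iff.mp (le_of_eq hs'2.symm)
  -- primes of `Γ(X, W)` above `py`
  let P : Fin (l.length + 1) → Ideal Γ(X, W) := fun i => (l i).asIdeal.comap (Ideal.Quotient.mk py)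
  have hPprime : ∀ i, (P i).IsPrime := fun i => Ideal.comap_isPrime _ _
  have hPle : ∀ i, py ≤ P i := by
    intro i a ha
    change Ideal.Quotient.mk py a ∈ (l i).asIdeal
    rw [Ideal.Quotient.eq_zero_iff_mem.mpr ha]
    exact zero_mem _
  have hPlt : ∀ i j, i < j → P i < P j := by
    intro i j hij
    have h1 : l i < l j := l.strictMono hij
    refine lt_of_le_of_ne (Ideal.comap_mono h1.le) ?_
    intro heq
    have h2 := congrArg (Ideal.map (Ideal.Quotient.mk py)) heq
    simp only [P, Ideal.map_comap_of_surjective _ Ideal.Quotient.mk_surjective] at h2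
    exact h1.ne (PrimeSpectrum.ext h2)
  choose z hz using fun i => exists_primeIdealOf_eq hW ⟨P i, hPprime i⟩
  have hz' : ∀ i, (hW.primeIdealOf ⟨(z i).1, (z i).2⟩).asIdeal = P i := fun i =>
    congrArg PrimeSpectrum.asIdeal (hz i)
  have hlen : l.length = s' := hl
  refine ⟨fun i => (z (Fin.cast (by rw [hlen]) i.rev)).1, ?_, ?_⟩
  · intro i
    rw [specializes_iff_primeIdealOf_le hW ⟨y, hyW⟩ ⟨_, (z _).2⟩, hz']
    exact hPle _
  · intro i j hij
    have hlt := hPlt (Fin.cast (by rw [hlen]) j.rev) (Fin.cast (by rw [hlen]) i.rev)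
      (by
        rw [Fin.lt_def]
        simp only [Fin.val_cast]
        exact Fin.rev_lt_rev.mpr hij)
    constructor
    · rw [specializes_iff_primeIdealOf_le hW ⟨_, (z _).2⟩ ⟨_, (z _).2⟩, hz', hz']
      exact hlt.le
    · rw [specializes_iff_primeIdealOf_le hW ⟨_, (z _).2⟩ ⟨_, (z _).2⟩, hz', hz']
      exact not_le_of_gt hlt

/-- **The dimension of the closure of a point** of a scheme locally of finite type over a field
is the transcendence degree of its residue field. -/
theorem topologicalKrullDim_closure_singleton (y : X) (s : ℕ)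
    (hs : @Algebra.trdeg k (X.residueField y) _ _ (Curv2.resAlgebra k X y) = s) :
    topologicalKrullDim (closure ({y} : Set X)) = s := by
  have : QuasiSober (closure ({y} : Set X)) :=
    isClosed_closure.isClosedEmbedding_subtypeVal.quasiSober
  have h1 := @Groth.Agent.Lib.Helper6.EtaleSq.topologicalKrullDim_eq_krullDim
    (closure ({y} : Set X)) _ _ _
  have h2 : @Order.krullDim (closure ({y} : Set X))
      (specializationOrder (closure ({y} : Set X))).toPreorder =
      Order.krullDim (closure ({y} : Set X)) :=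
    @Order.krullDim_eq_of_orderIso (closure ({y} : Set X)) (closure ({y} : Set X))
      (specializationOrder (closure ({y} : Set X))).toPreorder _
      (@RelIso.mk _ _ (@LE.le _ (specializationOrder (closure ({y} : Set X))).toPreorder.toLE)
        (@LE.le (closure ({y} : Set X)) _)
        (Equiv.refl _) (fun {a b} => (subtype_specializes_iff b a).symm))
  rw [h1, h2]
  apply le_antisymm
  · have hlt' : Order.krullDim (closure ({y} : Set X)) < ((s + 1 : ℕ) : WithBot ℕ∞) := by
      rw [Order.krullDim_lt_coe_iff]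
      intro p
      suffices h : p.length ≤ s by omega
      have hlt : ∀ i j, i < j → (p j).1 ⤳ (p i).1 ∧ ¬ (p i).1 ⤳ (p j).1 := by
        intro i j hij
        have h1 : p i < p j := p.strictMono hij
        have h2 : p i ≤ p j := h1.le
        have h3 : ¬ p j ≤ p i := not_le_of_gt h1
        exact ⟨h2, fun h => h3 h⟩
      exact length_le_of_chain k X y s hs p.length (fun i => (p i).1)
        (fun i => specializes_iff_mem_closure.mpr (p i).2) hlt
    generalize Order.krullDim (closure ({y} : Set X)) = a at hlt'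
    induction a using WithBot.recBotCoe with
    | bot => exact bot_le
    | coe a =>
      induction a using ENat.recTopCoe with
      | top =>
        exfalso
        have h2 : (⊤ : ℕ∞) < ((s + 1 : ℕ) : ℕ∞) := by exact_mod_cast hlt'
        exact not_top_lt h2
      | coe a =>
        have h2 : a < s + 1 := by exact_mod_cast hlt'
        have h3 : a ≤ s := by omega
        exact_mod_cast h3
  · obtain ⟨p, hyp, hp⟩ := exists_chain k X y s hs
    refine Order.le_krullDim_iff.mpr
      ⟨LTSeries.mk s (fun i => ⟨p i, specializes_iff_mem_closure.mp (hyp i)⟩) ?_, rfl⟩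
    intro i j hij
    obtain ⟨h1, h2⟩ := hp i j hij
    rw [lt_iff_le_not_ge]
    exact ⟨h1, fun h => h2 h⟩

end A

section B

variable (k : Type u) [Field k] (X Y : Scheme.{u}) [X.Over (Spec (CommRingCat.of k))]
  [Y.Over (Spec (CommRingCat.of k))]

/-- compatibility of the structure maps `k → κ(x)` along a `k`-morphism -/
theorem resMap_comp (f : X ⟶ Y)
    (hf : f ≫ (Y ↘ Spec (CommRingCat.of k)) = X ↘ Spec (CommRingCat.of k)) (x : X) :
    Curv2.resMap k X x = (f.residueFieldMap x).hom.comp (Curv2.resMap k Y (f x)) := by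
  ext c
  unfold Curv2.resMap Curv2.stalkMap Coh.toGlobal
  simp only [RingHom.comp_apply]
  rw [← hf]
  have h1 := Scheme.evaluation_naturality_apply f x
    (show f x ∈ (⊤ : Y.Opens) from trivial)
    ((Y ↘ Spec (CommRingCat.of k)).appTop.hom ((Scheme.ΓSpecIso (CommRingCat.of k)).inv.hom c))
  change _ = (f.residueFieldMap x).hom ((Y.evaluation ⊤ (f x) trivial).hom _)
  rw [h1]
  rfl

end B

end Groth.Agent.Lib.Helper21.FibDim
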