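import Groth.Agent.Lib.Helper21.NagDvr3
import Mathlib.AlgebraicGeometry.ResidueField

/-!
# Points of an affine open chart: specialisation, residue fields
-/

set_option autoImplicit false
set_option linter.style.haveILetI false
set_option linter.unusedSectionVars false
universe u
open AlgebraicGeometry CategoryTheory Limits TopologicalSpace

namespace Groth.Agent.Lib.Helper21.ChartPt

open Groth.Agent.Lib.Helper21.NagDvr

section Spec

variable {X : Scheme.{u}} {U : X.Opens} (hU : IsAffineOpen U)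

/-- Specialisation between points of an affine open is inclusion of the prime ideals. -/
theorem specializes_iff_primeIdealOf_le (y z : U) :
    (y : X) ⤳ (z : X) ↔ (hU.primeIdealOf y).asIdeal ≤ (hU.primeIdealOf z).asIdeal := by
  rw [← subtype_specializes_iff]
  have hind : Topology.IsInducing (fun w : U => hU.isoSpec.hom w) :=
    hU.isoSpec.hom.homeomorph.isInducing
  have h1 : y ⤳ z ↔ hU.isoSpec.hom y ⤳ hU.isoSpec.hom z :=
    (hind.specializes_iff).symm
  rw [show (y ⤳ z) ↔ (hU.isoSpec.hom y ⤳ hU.isoSpec.hom z) from h1]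
  exact (PrimeSpectrum.le_iff_specializes _ _).symm

/-- The kernel of evaluation at a point is the prime ideal of that point. -/
theorem ker_evaluation (y : X) (hy : y ∈ U) :
    RingHom.ker (X.evaluation U y hy).hom = (hU.primeIdealOf ⟨y, hy⟩).asIdeal := by
  ext a
  rw [RingHom.mem_ker, Scheme.evaluation_eq_zero_iff_notMem_basicOpen,
    mem_basicOpen_iff_notMem_primeIdealOf hU a ⟨y, hy⟩, not_not]

/-- The map `Γ(X, U) ⧸ 𝔭_y → κ(y)`. -/
noncomputable def evQ (y : X) (hy : y ∈ U) :
    Γ(X, U) ⧸ (hU.primeIdealOf ⟨y, hy⟩).asIdeal →+* X.residueField y :=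
  Ideal.Quotient.lift _ (X.evaluation U y hy).hom (fun a ha => by
    rw [← ker_evaluation hU y hy] at ha
    exact ha)

@[simp]
theorem evQ_mk (y : X) (hy : y ∈ U) (a : Γ(X, U)) :
    evQ hU y hy (Ideal.Quotient.mk _ a) = (X.evaluation U y hy).hom a := rfl

theorem evQ_injective (y : X) (hy : y ∈ U) : Function.Injective (evQ hU y hy) := by
  rw [injective_iff_map_eq_zero]
  intro a ha
  obtain ⟨a, rfl⟩ := Ideal.Quotient.mk_surjective a
  rw [evQ_mk] at ha
  rw [Ideal.Quotient.eq_zero_iff_mem, ← ker_evaluation hU y hy]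
  exact ha

/-- The residue field at a point of an affine open is the fraction field of `Γ(X, U) ⧸ 𝔭_y`. -/
theorem isFractionRing_evQ (y : X) (hy : y ∈ U) :
    @IsFractionRing (Γ(X, U) ⧸ (hU.primeIdealOf ⟨y, hy⟩).asIdeal) _ (X.residueField y) _
      (evQ hU y hy).toAlgebra := by
  letI := (evQ hU y hy).toAlgebra
  letI algSt := X.presheaf.algebra_section_stalk ⟨y, hy⟩
  haveI hloc := hU.isLocalization_stalk ⟨y, hy⟩
  refine ⟨?_, ?_, ?_⟩
  · rintro ⟨s, hs⟩
    apply IsUnit.mk0
    intro h0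
    have : s = 0 := evQ_injective hU y hy (by rw [map_zero]; exact h0)
    exact (nonZeroDivisors.ne_zero hs) this
  · intro z
    obtain ⟨z, rfl⟩ := X.residue_surjective y z
    obtain ⟨a, t, rfl⟩ := IsLocalization.exists_mk'_eq
      (hU.primeIdealOf ⟨y, hy⟩).asIdeal.primeCompl z
    have ht : (Ideal.Quotient.mk (hU.primeIdealOf ⟨y, hy⟩).asIdeal (t : Γ(X, U))) ∈
        nonZeroDivisors (Γ(X, U) ⧸ (hU.primeIdealOf ⟨y, hy⟩).asIdeal) := by
      rw [mem_nonZeroDivisors_iff_ne_zero, Ne, Ideal.Quotient.eq_zero_iff_mem]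
      exact t.2
    refine ⟨⟨Ideal.Quotient.mk _ a, ⟨_, ht⟩⟩, ?_⟩
    change (X.residue y).hom _ * (X.evaluation U y hy).hom (t : Γ(X, U)) =
      (X.evaluation U y hy).hom a
    have h1 : ∀ b : Γ(X, U), (X.evaluation U y hy).hom b =
        (X.residue y).hom (algebraMap Γ(X, U) (X.presheaf.stalk y) b) := fun b => rfl
    rw [h1, h1, ← map_mul, IsLocalization.mk'_spec]
  · intro a b hab
    exact ⟨1, by rw [evQ_injective hU y hy hab]⟩

end Spec

end Groth.Agent.Lib.Helper21.ChartPt
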