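import Groth.Agent.Lib.Helper21.DimLoc5

/-!
# The dimension formula for the quotients of `O_{X,x}` by its primes
-/

set_option autoImplicit false
set_option linter.style.haveILetI false
set_option linter.unusedSectionVars false
set_option linter.unnecessarySimpa false
universe u
open AlgebraicGeometry CategoryTheory TopologicalSpace IsLocalRing

namespace Groth.Agent.Lib.Helper21.DimLoc

open Groth.Agent.Lib.Helper12.Codim Groth.Agent.Lib.Helper18.DimFormula
  Groth.Agent.Lib.Helper18.SchDim Groth.Agent.Lib.Helper21.ChartPt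

/-- in a local ring, `dim O/𝔭` is the codimension of `𝔭` in the maximal ideal -/
theorem ringKrullDim_quotient_eq_cd {O : Type u} [CommRing O] [IsLocalRing O] (𝔭 : Ideal O)
    [h𝔭 : 𝔭.IsPrime] :
    ringKrullDim (O ⧸ 𝔭) =
      ((cd (⟨𝔭, h𝔭⟩ : PrimeSpectrum O) ⟨maximalIdeal O, inferInstance⟩ : ℕ∞) : WithBot ℕ∞) := by
  have hle : 𝔭 ≤ maximalIdeal O := le_maximalIdeal h𝔭.ne_top
  rw [cd_eq_height_map_mk 𝔭 (maximalIdeal O) hle]
  haveI : Nontrivial (O ⧸ 𝔭) := Ideal.Quotient.nontrivial_iff.mpr h𝔭.ne_top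
  haveI : IsLocalRing (O ⧸ 𝔭) :=
    IsLocalRing.of_surjective' (Ideal.Quotient.mk _) Ideal.Quotient.mk_surjective
  have hmax : (maximalIdeal O).map (Ideal.Quotient.mk 𝔭) = maximalIdeal (O ⧸ 𝔭) := by
    have h1 := Ideal.map_eq_top_or_isMaximal_of_surjective (Ideal.Quotient.mk 𝔭)
      Ideal.Quotient.mk_surjective (maximalIdeal.isMaximal O)
    rcases h1 with h1 | h1
    · exfalso
      rw [Ideal.eq_top_iff_one] at h1
      obtain ⟨s, hs, hs1⟩ := (Ideal.mem_map_iff_of_surjective _ Ideal.Quotient.mk_surjective).mp h1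
      have h2 : s - 1 ∈ 𝔭 := by
        rw [← Ideal.Quotient.eq_zero_iff_mem, map_sub, hs1, map_one, sub_self]
      have h3 : s - 1 ∈ maximalIdeal O := hle h2
      have h4 : (1 : O) ∈ maximalIdeal O := by
        have := (maximalIdeal O).sub_mem hs h3
        simpa using this
      exact (maximalIdeal.isMaximal O).ne_top ((Ideal.eq_top_iff_one _).mpr h4)
    · exact IsLocalRing.eq_maximalIdeal h1
  rw [hmax, IsLocalRing.maximalIdeal_height_eq_ringKrullDim]

/-- the prime of the chart corresponding to a point of `Spec O_{X,x}` -/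
theorem primeIdealOf_fromSpecStalk {X : Scheme.{u}} {U : X.Opens} (hU : IsAffineOpen U) (x : X)
    (hxU : x ∈ U) (P : Spec (X.presheaf.stalk x)) (hPU : X.fromSpecStalk x P ∈ U) :
    (hU.primeIdealOf ⟨X.fromSpecStalk x P, hPU⟩).asIdeal =
      P.asIdeal.comap (X.presheaf.germ U x hxU).hom := by
  have h1 : X.fromSpecStalk x P = hU.fromSpec (Spec.map (X.presheaf.germ U x hxU) P) := by
    rw [← hU.fromSpecStalk_eq_fromSpecStalk hxU, IsAffineOpen.fromSpecStalk,
      Scheme.Hom.comp_apply]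
  have h2 : hU.primeIdealOf ⟨X.fromSpecStalk x P, hPU⟩ =
      Spec.map (X.presheaf.germ U x hxU) P := by
    apply hU.fromSpec.isOpenEmbedding.injective
    rw [hU.fromSpec_primeIdealOf ⟨X.fromSpecStalk x P, hPU⟩]
    exact h1
  rw [h2]
  rfl


/-- **Dimension formula for the quotient by a prime of the local ring** (EGA IV 5.6.5 applied to
the irreducible closed subset through `x` given by `𝔭`): with `ξ` the generisation of `x`
corresponding to `𝔭`,
`dim O_{X,x}/𝔭 + trdeg κ(x)/κ(f x) = dim O_{S,f x}/(𝔭 ∩ O_{S,f x}) + trdeg κ(ξ)/κ(f ξ)`. -/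
theorem ringKrullDim_quotient_formula {X S : Scheme.{u}} (f : X ⟶ S) [LocallyOfFiniteType f]
    (x : X) (hcat : CAlg.IsUniversallyCatenary (S.presheaf.stalk (f x)))
    (𝔭 : Ideal (X.presheaf.stalk x)) [h𝔭 : 𝔭.IsPrime] (n E : ℕ)
    (hn : @Algebra.trdeg (S.residueField (f x)) (X.residueField x) _ _
      (f.residueFieldMap x).hom.toAlgebra = n)
    (hE : @Algebra.trdeg (S.residueField (f (X.fromSpecStalk x ⟨𝔭, h𝔭⟩)))
      (X.residueField (X.fromSpecStalk x ⟨𝔭, h𝔭⟩)) _ _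
      (f.residueFieldMap (X.fromSpecStalk x ⟨𝔭, h𝔭⟩)).hom.toAlgebra = E) :
    ringKrullDim (X.presheaf.stalk x ⧸ 𝔭) + n =
      ringKrullDim (S.presheaf.stalk (f x) ⧸ 𝔭.comap (f.stalkMap x).hom) + E := by
  obtain ⟨V, hV, hxV, -⟩ := Opens.isBasis_iff_nbhd.mp S.isBasis_affineOpens
    (show f x ∈ (⊤ : S.Opens) from trivial)
  have hV : IsAffineOpen V := hV
  obtain ⟨U, hU, hxU, e⟩ := Opens.isBasis_iff_nbhd.mp X.isBasis_affineOpens
    (show x ∈ f ⁻¹ᵁ V from hxV)
  have hU : IsAffineOpen U := hU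
  set P : Spec (X.presheaf.stalk x) := ⟨𝔭, h𝔭⟩ with hP
  set ξ : X := X.fromSpecStalk x P with hξ
  have hξx : ξ ⤳ x := by
    have : ξ ∈ Set.range (X.fromSpecStalk x) := ⟨P, rfl⟩
    rw [Scheme.range_fromSpecStalk] at this
    exact this
  have hξU : ξ ∈ U := hξx.mem_open U.2 hxU
  haveI h𝔭' : (𝔭.comap (f.stalkMap x).hom).IsPrime := Ideal.comap_isPrime _ _
  set P' : Spec (S.presheaf.stalk (f x)) := ⟨𝔭.comap (f.stalkMap x).hom, h𝔭'⟩ with hP'
  have hfξ : S.fromSpecStalk (f x) P' = f ξ := by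
    have h3 := congrArg (fun φ : Spec (X.presheaf.stalk x) ⟶ S => φ P)
      (Scheme.SpecMap_stalkMap_fromSpecStalk f (x := x))
    simp only [Scheme.Hom.comp_apply] at h3
    exact h3
  letI alg : Algebra Γ(S, V) Γ(X, U) := (f.appLE V U e).hom.toAlgebra
  haveI : Algebra.FiniteType Γ(S, V) Γ(X, U) :=
    HasRingHomProperty.appLE (P := @LocallyOfFiniteType) f inferInstance ⟨V, hV⟩ ⟨U, hU⟩ e
  letI := S.presheaf.algebra_section_stalk ⟨f x, e hxU⟩
  haveI := hV.isLocalization_stalk ⟨f x, e hxU⟩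
  letI := X.presheaf.algebra_section_stalk ⟨x, hxU⟩
  haveI := hU.isLocalization_stalk ⟨x, hxU⟩
  set q := (hU.primeIdealOf ⟨x, hxU⟩).asIdeal with hq
  set Q₀ := (hU.primeIdealOf ⟨ξ, hξU⟩).asIdeal with hQ₀
  set p := (hV.primeIdealOf ⟨f x, e hxU⟩).asIdeal with hp
  set P₀ := (hV.primeIdealOf ⟨f ξ, e hξU⟩).asIdeal with hP₀
  haveI : q.IsPrime := (hU.primeIdealOf ⟨x, hxU⟩).2
  haveI : Q₀.IsPrime := (hU.primeIdealOf ⟨ξ, hξU⟩).2
  haveI : p.IsPrime := (hV.primeIdealOf ⟨f x, e hxU⟩).2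
  haveI : P₀.IsPrime := (hV.primeIdealOf ⟨f ξ, e hξU⟩).2
  have hqp : q.under Γ(S, V) = p := comap_primeIdealOf f hU hV e x hxU
  have hQP : Q₀.under Γ(S, V) = P₀ := comap_primeIdealOf f hU hV e ξ hξU
  haveI : q.LiesOver p := ⟨hqp.symm⟩
  haveI : Q₀.LiesOver P₀ := ⟨hQP.symm⟩
  have hle : Q₀ ≤ q := (specializes_iff_primeIdealOf_le hU ⟨ξ, hξU⟩ ⟨x, hxU⟩).1 hξx
  have key := cd_add_trdeg_eq_local' Γ(S, V) Γ(X, U) p (S.presheaf.stalk (f x)) hcat Q₀ q hle P₀
  -- codimensions upstairs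
  have hcd1 : cd (⟨Q₀, inferInstance⟩ : PrimeSpectrum Γ(X, U)) ⟨q, inferInstance⟩ =
      cd (⟨𝔭, h𝔭⟩ : PrimeSpectrum (X.presheaf.stalk x))
        ⟨maximalIdeal (X.presheaf.stalk x), inferInstance⟩ := by
    rw [← cd_comap_of_isLocalization q.primeCompl (X.presheaf.stalk x)]
    congr 1
    · apply PrimeSpectrum.ext
      exact primeIdealOf_fromSpecStalk hU x hxU P hξU
    · apply PrimeSpectrum.ext
      have hcl : X.fromSpecStalk x (closedPoint (X.presheaf.stalk x)) ∈ U := by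
        rw [Scheme.fromSpecStalk_closedPoint]; exact hxU
      have h1 := primeIdealOf_fromSpecStalk hU x hxU (closedPoint (X.presheaf.stalk x)) hcl
      have h2 : hU.primeIdealOf ⟨X.fromSpecStalk x (closedPoint (X.presheaf.stalk x)), hcl⟩ =
          hU.primeIdealOf ⟨x, hxU⟩ := by
        congr 1
        exact Subtype.ext Scheme.fromSpecStalk_closedPoint
      rw [h2] at h1
      exact h1
  have hcd2 : cd (⟨P₀, inferInstance⟩ : PrimeSpectrum Γ(S, V)) ⟨p, inferInstance⟩ =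
      cd (⟨𝔭.comap (f.stalkMap x).hom, h𝔭'⟩ : PrimeSpectrum (S.presheaf.stalk (f x)))
        ⟨maximalIdeal (S.presheaf.stalk (f x)), inferInstance⟩ := by
    rw [← cd_comap_of_isLocalization p.primeCompl (S.presheaf.stalk (f x))]
    congr 1
    · apply PrimeSpectrum.ext
      have hPV : S.fromSpecStalk (f x) P' ∈ V := by rw [hfξ]; exact e hξU
      have h1 := primeIdealOf_fromSpecStalk hV (f x) (e hxU) P' hPV
      have h2 : hV.primeIdealOf ⟨S.fromSpecStalk (f x) P', hPV⟩ =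
          hV.primeIdealOf ⟨f ξ, e hξU⟩ := by
        congr 1
        exact Subtype.ext hfξ
      rw [h2] at h1
      exact h1
    · apply PrimeSpectrum.ext
      have hcl : S.fromSpecStalk (f x) (closedPoint (S.presheaf.stalk (f x))) ∈ V := by
        rw [Scheme.fromSpecStalk_closedPoint]; exact e hxU
      have h1 := primeIdealOf_fromSpecStalk hV (f x) (e hxU)
        (closedPoint (S.presheaf.stalk (f x))) hcl
      have h2 : hV.primeIdealOf
          ⟨S.fromSpecStalk (f x) (closedPoint (S.presheaf.stalk (f x))), hcl⟩ =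
          hV.primeIdealOf ⟨f x, e hxU⟩ := by
        congr 1
        exact Subtype.ext Scheme.fromSpecStalk_closedPoint
      rw [h2] at h1
      exact h1
  rw [hcd1, hcd2] at key
  have hn' := hn
  rw [trdeg_residueField f hU hV e x hxU] at hn'
  have hE' := hE
  rw [trdeg_residueField f hU hV e ξ hξU] at hE'
  have hn'' : Algebra.trdeg (Γ(S, V) ⧸ p) (Γ(X, U) ⧸ q) = n := by
    have h0 : ∀ (p' : Ideal Γ(S, V)) (hp' : p' = q.under Γ(S, V)),
        @Algebra.trdeg (Γ(S, V) ⧸ p') (Γ(X, U) ⧸ q) _ _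
          (@Ideal.Quotient.algebraOfLiesOver _ _ _ _ _ q p' ⟨hp'⟩) = n := by
      intro p' hp'
      subst hp'
      exact hn'
    exact h0 p hqp.symm
  have hE'' : Algebra.trdeg (Γ(S, V) ⧸ P₀) (Γ(X, U) ⧸ Q₀) = E := by
    have h0 : ∀ (p' : Ideal Γ(S, V)) (hp' : p' = Q₀.under Γ(S, V)),
        @Algebra.trdeg (Γ(S, V) ⧸ p') (Γ(X, U) ⧸ Q₀) _ _
          (@Ideal.Quotient.algebraOfLiesOver _ _ _ _ _ Q₀ p' ⟨hp'⟩) = E := by
      intro p' hp'
      subst hp'
      exact hE'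
    exact h0 P₀ hQP.symm
  rw [hn'', hE''] at key
  have key3 : cd (⟨𝔭, h𝔭⟩ : PrimeSpectrum (X.presheaf.stalk x))
        ⟨maximalIdeal (X.presheaf.stalk x), inferInstance⟩ + (n : ℕ∞) =
      cd (⟨𝔭.comap (f.stalkMap x).hom, h𝔭'⟩ : PrimeSpectrum (S.presheaf.stalk (f x)))
        ⟨maximalIdeal (S.presheaf.stalk (f x)), inferInstance⟩ + (E : ℕ∞) := by
    have h := key
    rw [← Cardinal.ofENat_nat n, ← Cardinal.ofENat_nat E, ← Cardinal.ofENat_add,
      ← Cardinal.ofENat_add, Cardinal.ofENat_inj] at h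
    exact h
  rw [ringKrullDim_quotient_eq_cd, ringKrullDim_quotient_eq_cd]
  exact_mod_cast key3

end Groth.Agent.Lib.Helper21.DimLoc
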