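import Mathlib
import Groth.Prelude.Def_Cyc
import Groth.Agent.Lib.Helper12.Codim
import Groth.Agent.Lib.Helper12.CodimEmb
import Groth.Agent.Lib.Helper18.JacDim2
import Groth.Agent.Lib.Helper21.DimLoc6

/-!
# Dimension functions on Jacobson schemes: `δ(ξ) = dim closure{ξ}`
-/

set_option autoImplicit false
set_option linter.style.haveILetI false
set_option linter.unusedSectionVars false
universe u

open AlgebraicGeometry CategoryTheory Limits TopologicalSpace

namespace Groth.Agent.Lib.Helper21.DimFun

open Groth.Agent.Lib.Helper12.Codim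

section Poset

variable {X : Scheme.{u}} (δ : X → ℤ) (hδ : Cyc.IsDimFun X δ)

include hδ in
/-- `δ` is strictly monotone for the specialisation order -/
theorem strictMono_spec : @StrictMono X ℤ (specializationOrder X).toPreorder _ δ := by
  letI := specializationOrder X
  intro a b hab
  have h1 : b ⤳ a := hab.le
  have h2 : b ≠ a := fun h => hab.ne h.symm
  exact (hδ b a h1 h2).1

include hδ in
/-- `δ` jumps by one along covers of the specialisation order -/
theorem covBy_spec : letI := specializationOrder X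
    ∀ a b : X, a ⋖ b → δ b = δ a + 1 := by
  letI := specializationOrder X
  intro a b hab
  have h1 : b ⤳ a := hab.le
  have h2 : b ≠ a := fun h => hab.lt.ne h.symm
  refine (hδ b a h1 h2).2 (fun z hbz hza => ?_)
  by_contra hcon
  push Not at hcon
  have hza' : a ≤ z := hza
  have hbz' : z ≤ b := hbz
  exact hab.2 (lt_of_le_of_ne hza' (Ne.symm hcon.2)) (lt_of_le_of_ne hbz' hcon.1)

include hδ in
/-- codimension in the specialisation order -/
theorem cd_spec_eq (a b : X) (hab : b ⤳ a) : letI := specializationOrder X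
    cd a b = ((δ b - δ a).toNat : ℕ∞) := by
  letI := specializationOrder X
  exact (isCat_of_dimFun δ (strictMono_spec δ hδ) (covBy_spec δ hδ)).2 a b hab

include hδ in
/-- a chain of specialisations of maximal length, in order-free form -/
theorem exists_chain (z ξ : X) (h : ξ ⤳ z) :
    ∃ (m : ℕ) (s : Fin (m + 1) → X), m = (δ ξ - δ z).toNat ∧ (∀ i, ξ ⤳ s i) ∧
      ∀ i : Fin m, s i.succ ⤳ s i.castSucc ∧ ¬ s i.castSucc ⤳ s i.succ := by
  letI := specializationOrder X
  have hcd := cd_spec_eq δ hδ z ξ h
  have hzξ : z ≤ ξ := h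
  obtain ⟨s, hs1, hs2, hs3⟩ := exists_max hzξ (by rw [hcd]; exact ENat.natCast_ne_top _)
  have hlen : (s.length : ℕ∞) = ((δ ξ - δ z).toNat : ℕ∞) := hs3.trans hcd
  have hlen' : s.length = (δ ξ - δ z).toNat := by exact_mod_cast hlen
  refine ⟨s.length, s.toFun, hlen', fun i => ?_, fun i => ?_⟩
  · have h1 : s i ≤ s.last := s.monotone (Fin.le_last i)
    exact h1.trans hs2
  · have hlt : s i.castSucc < s i.succ := s.step i
    exact ⟨hlt.le, fun h => hlt.not_ge h⟩

end Poset

section Jac

variable {X : Scheme.{u}} [JacobsonSpace X] (δ : X → ℤ) (hδ : Cyc.IsDimFun X δ)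
  (h0 : ∀ x : X, IsClosed ({x} : Set X) → δ x = 0)

/-- every point of a Jacobson space specialises to a closed point -/
theorem exists_isClosed_specializes (t : X) : ∃ c : X, IsClosed ({c} : Set X) ∧ t ⤳ c := by
  have h := JacobsonSpace.closure_inter_closedPoints (X := X) (isClosed_closure (s := {t}))
  have hne : (closure ({t} : Set X) ∩ closedPoints X).Nonempty := by
    by_contra hcon
    rw [Set.not_nonempty_iff_eq_empty] at hcon
    rw [hcon, closure_empty] at h
    exact (Set.singleton_nonempty t).closure.ne_empty h.symm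
  obtain ⟨c, hc1, hc2⟩ := hne
  exact ⟨c, mem_closedPoints_iff.mp hc2, specializes_iff_mem_closure.mpr hc1⟩

include hδ h0 in
/-- the dimension function is nonnegative -/
theorem zero_le (t : X) : 0 ≤ δ t := by
  obtain ⟨c, hc, htc⟩ := exists_isClosed_specializes t
  by_cases h : t = c
  · rw [h, h0 c hc]
  · have := (hδ t c htc h).1
    rw [h0 c hc] at this
    exact this.le

include hδ h0 in
/-- **`dim closure{ξ} = δ(ξ)`** -/
theorem topologicalKrullDim_closure_eq (ξ : X) :
    topologicalKrullDim (closure ({ξ} : Set X)) = ((δ ξ).toNat : WithBot ℕ∞) := by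
  set T : Set X := closure ({ξ} : Set X) with hT
  haveI : QuasiSober T := isClosed_closure.isClosedEmbedding_subtypeVal.quasiSober
  rw [Groth.Agent.Lib.Helper18.JacDim.topologicalKrullDim_eq_krullDim_specialization T]
  have hlt_iff : ∀ a b : T, @LT.lt T (specializationPreorder T).toLT a b ↔
      (b.1 ⤳ a.1 ∧ ¬ a.1 ⤳ b.1) := by
    intro a b
    rw [@lt_iff_le_not_ge T (specializationPreorder T)]
    change (b ⤳ a ∧ ¬ a ⤳ b) ↔ _
    rw [subtype_specializes_iff, subtype_specializes_iff]
  have hd' : @StrictMono T ℤ (specializationPreorder T) _ (fun t : T => δ t.1) := by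
    intro a b hab
    obtain ⟨h1, h2⟩ := (hlt_iff a b).mp hab
    exact (hδ b.1 a.1 h1 (fun h => h2 (h ▸ specializes_rfl))).1
  have hξ0 := zero_le δ hδ h0 ξ
  apply le_antisymm
  · rw [Order.krullDim]
    refine iSup_le fun p => ?_
    have h1 := LTSeries.head_add_length_le_int
      (@LTSeries.map T ℤ (specializationPreorder T) _ p (fun t : T => δ t.1) hd')
    have h1' : δ (@RelSeries.head T _ p).1 + (p.length : ℤ) ≤ δ (@RelSeries.last T _ p).1 := h1
    have h2 : 0 ≤ δ (@RelSeries.head T _ p).1 := zero_le δ hδ h0 _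
    have h3 : δ (@RelSeries.last T _ p).1 ≤ δ ξ := by
      have hsp : ξ ⤳ (@RelSeries.last T _ p).1 :=
        specializes_iff_mem_closure.mpr (@RelSeries.last T _ p).2
      by_cases h : ξ = (@RelSeries.last T _ p).1
      · rw [← h]
      · exact (hδ ξ _ hsp h).1.le
    have : p.length ≤ (δ ξ).toNat := by omega
    exact_mod_cast this
  · obtain ⟨z, hz, hξz⟩ := exists_isClosed_specializes ξ
    obtain ⟨m, s, hm, hs1, hs2⟩ := exists_chain δ hδ z ξ hξz
    rw [h0 z hz, sub_zero] at hm
    have hmem : ∀ i, s i ∈ T := fun i => (hs1 i).mem_closure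
    let q : @LTSeries T (specializationPreorder T) :=
      { length := m
        toFun := fun i => ⟨s i, hmem i⟩
        step := fun i => (hlt_iff _ _).mpr (hs2 i) }
    have hq := @Order.LTSeries.length_le_krullDim T (specializationPreorder T) q
    refine le_trans ?_ hq
    change (((δ ξ).toNat : ℕ) : WithBot ℕ∞) ≤ ((m : ℕ) : WithBot ℕ∞)
    rw [hm]

end Jac

section Ring

/-- points of `X` ordered by specialisation: `a ≤ b ↔ a ⤳ b` (as on a prime spectrum) -/
def Pt (X : Scheme.{u}) : Type u := X

instance (X : Scheme.{u}) : PartialOrder (Pt X) where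
  le a b := (show X from a) ⤳ (show X from b)
  le_refl _ := specializes_rfl
  le_trans _ _ _ := Specializes.trans
  le_antisymm _ _ h1 h2 := (h1.antisymm h2).eq

variable {X : Scheme.{u}} (δ : X → ℤ) (hδ : Cyc.IsDimFun X δ)

theorem Pt.le_iff (a b : Pt X) : a ≤ b ↔ (show X from a) ⤳ (show X from b) := Iff.rfl

include hδ in
/-- codimension in `Pt X` -/
theorem cd_pt_eq (ξ z : X) (h : ξ ⤳ z) :
    cd (show Pt X from ξ) (show Pt X from z) = ((δ ξ - δ z).toNat : ℕ∞) := by
  have hd : StrictMono (fun a : Pt X => -δ (show X from a)) := by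
    intro a b hab
    have h1 : (show X from a) ⤳ (show X from b) := hab.le
    have h2 : (show X from a) ≠ (show X from b) := fun e => hab.ne e
    have := (hδ _ _ h1 h2).1
    change -δ (show X from a) < -δ (show X from b)
    omega
  have hcov : ∀ a b : Pt X, a ⋖ b →
      (fun a : Pt X => -δ (show X from a)) b = (fun a : Pt X => -δ (show X from a)) a + 1 := by
    intro a b hab
    have h1 : (show X from a) ⤳ (show X from b) := hab.le
    have h2 : (show X from a) ≠ (show X from b) := fun e => hab.lt.ne e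
    have := (hδ _ _ h1 h2).2 (fun t hat htb => by
      by_contra hcon
      push Not at hcon
      have hat' : a ≤ (show Pt X from t) := hat
      have htb' : (show Pt X from t) ≤ b := htb
      exact hab.2 (lt_of_le_of_ne hat' (Ne.symm hcon.1)) (lt_of_le_of_ne htb' hcon.2))
    change -δ (show X from b) = -δ (show X from a) + 1
    omega
  have key := (isCat_of_dimFun (fun a : Pt X => -δ (show X from a)) hd hcov).2
    (show Pt X from ξ) (show Pt X from z) h
  rw [key]
  congr 2
  change -δ z - -δ ξ = δ ξ - δ z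
  ring

/-- the spectrum of the local ring at `z` as a sub-poset of `Pt X` -/
noncomputable def specEmb (z : X) : PrimeSpectrum (X.presheaf.stalk z) ↪o Pt X where
  toFun q := X.fromSpecStalk z q
  inj' := (X.fromSpecStalk z).isEmbedding.injective
  map_rel_iff' := by
    intro q q'
    change (X.fromSpecStalk z q ⤳ X.fromSpecStalk z q') ↔ q ≤ q'
    rw [PrimeSpectrum.le_iff_specializes]
    exact (X.fromSpecStalk z).isEmbedding.isInducing.specializes_iff

theorem ordConnected_range_specEmb (z : X) : (Set.range (specEmb z)).OrdConnected := by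
  refine ⟨?_⟩
  rintro _ ⟨q, rfl⟩ _ ⟨q', rfl⟩ c ⟨-, hc2⟩
  have h1 : (show X from c) ⤳ X.fromSpecStalk z q' := hc2
  have h2 : X.fromSpecStalk z q' ⤳ z := by
    have : X.fromSpecStalk z q' ∈ Set.range (X.fromSpecStalk z) := ⟨q', rfl⟩
    rwa [Scheme.range_fromSpecStalk] at this
  have h3 : (show X from c) ∈ Set.range (X.fromSpecStalk z) := by
    rw [Scheme.range_fromSpecStalk]
    exact h1.trans h2
  obtain ⟨q'', hq''⟩ := h3
  exact ⟨q'', hq''⟩

include hδ in
/-- **the dimension of the local ring of `closure{ξ}` at `z`** -/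
theorem ringKrullDim_locQuot (z ξ : X) (h : ξ ⤳ z) :
    ringKrullDim (Cyc.LocQuot z ξ h) = ((δ ξ - δ z).toNat : WithBot ℕ∞) := by
  haveI h𝔭 : (RingHom.ker (Cyc.specMap z ξ h)).IsPrime := RingHom.ker_isPrime _
  have h1 := Groth.Agent.Lib.Helper21.DimLoc.ringKrullDim_quotient_eq_cd
    (RingHom.ker (Cyc.specMap z ξ h))
  change ringKrullDim (X.presheaf.stalk z ⧸ RingHom.ker (Cyc.specMap z ξ h)) = _
  rw [h1, ← cd_map (specEmb z) (ordConnected_range_specEmb z)]
  have e1 : specEmb z ⟨IsLocalRing.maximalIdeal (X.presheaf.stalk z), inferInstance⟩ =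
      (show Pt X from z) := by
    change X.fromSpecStalk z (IsLocalRing.closedPoint (X.presheaf.stalk z)) = z
    exact Scheme.fromSpecStalk_closedPoint
  have e2 : specEmb z ⟨RingHom.ker (Cyc.specMap z ξ h), h𝔭⟩ = (show Pt X from ξ) := by
    change X.fromSpecStalk z ⟨RingHom.ker (Cyc.specMap z ξ h), h𝔭⟩ = ξ
    have h3 := congrArg (fun φ : Spec (X.presheaf.stalk ξ) ⟶ X =>
      φ (IsLocalRing.closedPoint (X.presheaf.stalk ξ)))
      (Scheme.SpecMap_stalkSpecializes_fromSpecStalk h)
    simp only [Scheme.Hom.comp_apply] at h3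
    rw [Scheme.fromSpecStalk_closedPoint] at h3
    refine Eq.trans ?_ h3
    congr 1
    apply PrimeSpectrum.ext
    change RingHom.ker (Cyc.specMap z ξ h) =
      (IsLocalRing.maximalIdeal (X.presheaf.stalk ξ)).comap (X.presheaf.stalkSpecializes h).hom
    rw [← IsLocalRing.ker_residue]
    rfl
  rw [e1, e2, cd_pt_eq δ hδ ξ z h]
  rfl

end Ring

end Groth.Agent.Lib.Helper21.DimFun
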