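import Mathlib
import Groth.Agent.Lib.Helper21.DimFun1
import Groth.Agent.Lib.Helper21.ChartPt1
import Groth.Agent.Lib.Helper18.CM2

/-!
# Dimension functions: maximal points, Cohen–Macaulay local rings are `δ`-equidimensional
-/

set_option autoImplicit false
set_option linter.style.haveILetI false
set_option linter.unusedSectionVars false
universe u

open AlgebraicGeometry CategoryTheory Limits TopologicalSpace

namespace Groth.Agent.Lib.Helper21.DimFun

open Groth.Agent.Lib.Helper12.Codim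

section Top

variable {X : Scheme.{u}}

/-- every point has a generisation that is maximal under specialisation -/
theorem exists_maximal_specializes (y : X) :
    ∃ ξ : X, (∀ ξ' : X, ξ' ⤳ ξ → ξ' = ξ) ∧ ξ ⤳ y := by
  obtain ⟨ξ, hξ⟩ := QuasiSober.sober (isIrreducible_irreducibleComponent (x := y))
    isClosed_irreducibleComponent
  refine ⟨ξ, fun ξ' h' => ?_, ?_⟩
  · have h1 : closure ({ξ} : Set X) ⊆ closure ({ξ'} : Set X) :=
      specializes_iff_closure_subset.mp h'
    rw [hξ.def] at h1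
    have h2 := (irreducibleComponent_mem_irreducibleComponents y).2
      isIrreducible_singleton.closure h1
    have h3 : ξ ⤳ ξ' := by
      rw [specializes_iff_closure_subset, hξ.def]
      exact h2
    exact (h'.antisymm h3).eq
  · rw [specializes_iff_mem_closure, hξ.def]
    exact mem_irreducibleComponent

/-- on a locally Noetherian scheme every point has an open neighbourhood all of whose maximal points
specialise to it -/
theorem exists_open_forall_maximal_specializes [IsLocallyNoetherian X] (x : X) :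
    ∃ V : X.Opens, x ∈ V ∧
      ∀ ξ : X, ξ ∈ V → (∀ ξ' : X, ξ' ⤳ ξ → ξ' = ξ) → ξ ⤳ x := by
  obtain ⟨U, hU, hxU, -⟩ := TopologicalSpace.Opens.isBasis_iff_nbhd.mp X.isBasis_affineOpens
    (show x ∈ (⊤ : X.Opens) from trivial)
  have hU : IsAffineOpen U := hU
  have : IsNoetherianRing Γ(X, U) := IsLocallyNoetherian.component_noetherian ⟨U, hU⟩
  set S : Set X := {ξ : X | ξ ∈ U ∧ (∀ ξ' : X, ξ' ⤳ ξ → ξ' = ξ) ∧ ¬ ξ ⤳ x} with hS
  have hSfin : S.Finite := by
    have hmp : (minimalPrimes Γ(X, U)).Finite := minimalPrimes.finite_of_isNoetherianRing _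
    let φ : S → minimalPrimes Γ(X, U) := fun ξ =>
      ⟨(hU.primeIdealOf ⟨ξ.1, ξ.2.1⟩).asIdeal, by
        refine ⟨⟨(hU.primeIdealOf ⟨ξ.1, ξ.2.1⟩).2, bot_le⟩, fun P hP hle => ?_⟩
        have : P.IsPrime := hP.1
        obtain ⟨⟨y, hyU⟩, hy⟩ :=
          Groth.Agent.Lib.Helper21.NagDvr.exists_primeIdealOf_eq hU ⟨P, hP.1⟩
        have hy' : (hU.primeIdealOf ⟨y, hyU⟩).asIdeal = P := congrArg PrimeSpectrum.asIdeal hy
        have hsp : y ⤳ ξ.1 := by
          rw [Groth.Agent.Lib.Helper21.ChartPt.specializes_iff_primeIdealOf_le hU ⟨y, hyU⟩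
            ⟨ξ.1, ξ.2.1⟩, hy']
          exact hle
        have := ξ.2.2.1 y hsp
        subst this
        rw [← hy']⟩
    have hφ : Function.Injective φ := by
      intro a b hab
      have h1 : (hU.primeIdealOf ⟨a.1, a.2.1⟩).asIdeal = (hU.primeIdealOf ⟨b.1, b.2.1⟩).asIdeal :=
        congrArg Subtype.val hab
      have h2 : a.1 ⤳ b.1 := by
        rw [Groth.Agent.Lib.Helper21.ChartPt.specializes_iff_primeIdealOf_le hU ⟨a.1, a.2.1⟩
          ⟨b.1, b.2.1⟩, h1]
      exact Subtype.ext (b.2.2.1 a.1 h2)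
    have : Finite (minimalPrimes Γ(X, U)) := hmp.to_subtype
    have : Finite S := Finite.of_injective φ hφ
    exact Set.toFinite S
  have hcl : closure S = ⋃ ξ ∈ S, closure ({ξ} : Set X) := by
    conv_lhs => rw [← Set.biUnion_of_singleton S]
    exact hSfin.closure_biUnion _
  refine ⟨⟨(U : Set X) ∩ (closure S)ᶜ, U.2.inter isClosed_closure.isOpen_compl⟩, ⟨hxU, ?_⟩, ?_⟩
  · rw [hcl]
    intro hx
    obtain ⟨ξ, hξS, hxξ⟩ := Set.mem_iUnion₂.mp hx
    exact hξS.2.2 (specializes_iff_mem_closure.mpr hxξ)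
  · rintro ξ ⟨hξU, hξS⟩ hξmax
    by_contra hcon
    exact hξS (subset_closure ⟨hξU, hξmax, hcon⟩)

/-- the point of `X` attached to the prime of a generisation -/
theorem specEmb_ker (z ξ : X) (h : ξ ⤳ z) :
    X.fromSpecStalk z ⟨RingHom.ker (Cyc.specMap z ξ h), RingHom.ker_isPrime _⟩ = ξ := by
  have h3 := congrArg (fun φ : Spec (X.presheaf.stalk ξ) ⟶ X =>
    φ (IsLocalRing.closedPoint (X.presheaf.stalk ξ)))
    (Scheme.SpecMap_stalkSpecializes_fromSpecStalk h)
  simp only [Scheme.Hom.comp_apply] at h3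
  rw [Scheme.fromSpecStalk_closedPoint] at h3
  refine Eq.trans ?_ h3
  congr 1
  apply PrimeSpectrum.ext
  change RingHom.ker (Cyc.specMap z ξ h) =
    (IsLocalRing.maximalIdeal (X.presheaf.stalk ξ)).comap (X.presheaf.stalkSpecializes h).hom
  rw [← IsLocalRing.ker_residue]
  rfl

/-- the prime of a maximal point is a minimal prime of the local ring -/
theorem ker_specMap_mem_minimalPrimes (z ξ : X) (h : ξ ⤳ z)
    (hmax : ∀ ξ' : X, ξ' ⤳ ξ → ξ' = ξ) :
    RingHom.ker (Cyc.specMap z ξ h) ∈ minimalPrimes (X.presheaf.stalk z) := by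
  haveI h𝔭 : (RingHom.ker (Cyc.specMap z ξ h)).IsPrime := RingHom.ker_isPrime _
  refine ⟨⟨h𝔭, bot_le⟩, fun q hq hle => ?_⟩
  have hq' : q.IsPrime := hq.1
  have h1 : (⟨q, hq'⟩ : PrimeSpectrum (X.presheaf.stalk z)) ≤
      ⟨RingHom.ker (Cyc.specMap z ξ h), h𝔭⟩ := hle
  have h2 := (specEmb z).monotone h1
  have h3 : X.fromSpecStalk z ⟨q, hq'⟩ ⤳
      X.fromSpecStalk z ⟨RingHom.ker (Cyc.specMap z ξ h), h𝔭⟩ := h2
  rw [specEmb_ker z ξ h] at h3
  have h4 := hmax _ h3
  have h5 : specEmb z ⟨q, hq'⟩ = specEmb z ⟨RingHom.ker (Cyc.specMap z ξ h), h𝔭⟩ := by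
    change X.fromSpecStalk z ⟨q, hq'⟩ =
      X.fromSpecStalk z ⟨RingHom.ker (Cyc.specMap z ξ h), h𝔭⟩
    rw [specEmb_ker z ξ h, h4]
  have h6 := (specEmb z).injective h5
  exact (congrArg PrimeSpectrum.asIdeal h6).ge

end Top

section CM

/-- a Cohen–Macaulay local ring is equidimensional -/
theorem ringKrullDim_quotient_eq_of_CM (R : Type u) [CommRing R]
    [LocCoh.IsCohenMacaulayLocalRing R] (p : Ideal R) (hp : p ∈ minimalPrimes R) :
    ringKrullDim (R ⧸ p) = ringKrullDim R := by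
  apply le_antisymm (ringKrullDim_quotient_le p)
  have h1 : p ∈ associatedPrimes R R := by
    apply Module.associatedPrimes.minimalPrimes_annihilator_subset_associatedPrimes R R
    have : Module.annihilator R R = ⊥ :=
      Module.annihilator_eq_bot.mpr
        ((faithfulSMul_iff_algebraMap_injective R R).mpr fun {a₁ a₂} a ↦ a)
    rw [this]
    exact hp
  have h2 := Groth.Agent.Lib.Helper18.CM.depth_le_ringKrullDim_quotient R p h1
  rw [← LocCoh.IsCohenMacaulayLocalRing.supportDim_eq_depth,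
    Module.supportDim_self_eq_ringKrullDim] at h2
  exact h2

end CM

section Main

variable {X : Scheme.{u}} (δ : X → ℤ) (hδ : Cyc.IsDimFun X δ)

include hδ in
/-- at a point with Cohen–Macaulay local ring, all maximal generisations have the same `δ` -/
theorem exists_delta_eq_of_CM (x : X)
    (hCM : LocCoh.IsCohenMacaulayLocalRing ↑(X.presheaf.stalk x)) :
    ∃ n : ℤ, ∀ ξ : X, (∀ ξ' : X, ξ' ⤳ ξ → ξ' = ξ) → ξ ⤳ x → δ ξ = n := by
  haveI := hCM
  obtain ⟨d, hd⟩ : ∃ d : ℕ, ringKrullDim (X.presheaf.stalk x) = d := by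
    have h1 : ringKrullDim (X.presheaf.stalk x) < ⊤ := ringKrullDim_lt_top
    have h2 : ringKrullDim (X.presheaf.stalk x) ≠ ⊥ := ringKrullDim_ne_bot
    induction' hr : ringKrullDim (X.presheaf.stalk x) using WithBot.recBotCoe with a
    · exact absurd hr h2
    · rw [hr] at h1
      have h3 : a ≠ ⊤ := fun h => by rw [h] at h1; exact lt_irrefl _ h1
      obtain ⟨d, rfl⟩ := ENat.ne_top_iff_exists.mp h3
      exact ⟨d, rfl⟩
  refine ⟨δ x + d, fun ξ hmax h => ?_⟩
  have h1 := ringKrullDim_locQuot δ hδ x ξ h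
  have h2 := ringKrullDim_quotient_eq_of_CM (X.presheaf.stalk x) _
    (ker_specMap_mem_minimalPrimes x ξ h hmax)
  change ringKrullDim (X.presheaf.stalk x ⧸ RingHom.ker (Cyc.specMap x ξ h)) = _ at h1
  rw [h2, hd] at h1
  have h3 : d = (δ ξ - δ x).toNat := by exact_mod_cast h1
  have h4 : δ x ≤ δ ξ := by
    by_cases he : ξ = x
    · rw [he]
    · exact (hδ ξ x h he).1.le
  omega

end Main

end Groth.Agent.Lib.Helper21.DimFun
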