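import Groth.Agent.Lib.Helper21.IrrFib3
import Groth.Agent.Lib.Helper21.GenFin2

/-!
# Generic fibre dimension: all components of nearby fibres have the generic dimension
-/

set_option autoImplicit false
set_option linter.style.haveILetI false
set_option linter.unusedSectionVars false
universe u

open AlgebraicGeometry CategoryTheory Limits TopologicalSpace Topology

namespace Groth.Agent.Lib.Helper21.IrrFib

open Groth.Agent.Lib.Helper21.FibDim

/-- homeomorphisms preserve irreducible components -/
theorem preimage_mem_irreducibleComponents {A B : Type*} [TopologicalSpace A] [TopologicalSpace B]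
    (h : A ≃ₜ B) (T : Set B) (hT : T ∈ irreducibleComponents B) :
    h ⁻¹' T ∈ irreducibleComponents A := by
  refine ⟨?_, fun W hW hle => ?_⟩
  · have : h ⁻¹' T = h.symm '' T := (h.symm.image_eq_preimage_symm T).symm
    rw [this]
    exact hT.1.image _ h.symm.continuous.continuousOn
  · have h1 : IsIrreducible (h '' W) := hW.image _ h.continuous.continuousOn
    have h2 : T ≤ h '' W := by
      intro t ht
      refine ⟨h.symm t, hle ?_, h.apply_symm_apply t⟩
      change h (h.symm t) ∈ T
      rwa [h.apply_symm_apply]
    have h3 := hT.2 h1 h2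
    intro w hw
    exact h3 ⟨w, hw, rfl⟩

/-- the dimension of a preimage of a set under a homeomorphism -/
theorem topologicalKrullDim_preimage_homeomorph {A B : Type*} [TopologicalSpace A]
    [TopologicalSpace B] (h : A ≃ₜ B) (T : Set B) :
    topologicalKrullDim ↥(h ⁻¹' T) = topologicalKrullDim ↥T :=
  (h.subtype (p := fun a => a ∈ h ⁻¹' T) (q := fun b => b ∈ T)
    (fun _ => Iff.rfl)).isHomeomorph.topologicalKrullDim_eq

/-- the dimension of a fibre with a generic point -/
theorem topologicalKrullDim_preimage_singleton_eq {X S : Scheme.{u}} (f : X ⟶ S)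
    [LocallyOfFiniteType f] (θ : X) (n : ℕ) (hθ : ∀ x : X, f x = f θ → θ ⤳ x)
    (hn : @Algebra.trdeg (S.residueField (f θ)) (X.residueField θ) _ _
      (f.residueFieldMap θ).hom.toAlgebra = n) :
    topologicalKrullDim ↥(f.base ⁻¹' {f θ}) = n := by
  letI := fiberOver f (f θ)
  haveI : LocallyOfFiniteType (f.fiber (f θ) ↘ Spec (CommRingCat.of (S.residueField (f θ)))) :=
    MorphismProperty.pullback_snd (P := @LocallyOfFiniteType) _ _ inferInstance
  have hcl : closure ({f.asFiber θ} : Set (f.fiber (f θ))) = Set.univ := by
    rw [← Set.univ_subset_iff]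
    intro z _
    rw [← specializes_iff_mem_closure,
      ← (f.fiberι (f θ)).isEmbedding.isInducing.specializes_iff, Scheme.Hom.fiberι_asFiber]
    exact hθ _ (f.fiberHomeo (f θ) z).2
  have key : ∀ (y : X) (z : f.fiber (f θ)), f.fiberι (f θ) z = y →
      @Algebra.trdeg (S.residueField (f θ)) ((f.fiber (f θ)).residueField z) _ _
        (Curv2.resAlgebra (S.residueField (f θ)) (f.fiber (f θ)) z) =
      @Algebra.trdeg (S.residueField (f y)) (X.residueField y) _ _
        (f.residueFieldMap y).hom.toAlgebra := by
    rintro y z rfl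
    exact trdeg_fiber_eq f (f θ) z
  have h1 := key θ (f.asFiber θ) (Scheme.Hom.fiberι_asFiber f θ)
  rw [hn] at h1
  have h2 := topologicalKrullDim_closure_singleton (S.residueField (f θ)) (f.fiber (f θ))
    (f.asFiber θ) n h1
  rw [hcl] at h2
  rw [← (f.fiberHomeo (f θ)).isHomeomorph.topologicalKrullDim_eq,
    ← (Homeomorph.Set.univ (f.fiber (f θ))).isHomeomorph.topologicalKrullDim_eq]
  exact h2

end Groth.Agent.Lib.Helper21.IrrFib
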