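import Groth.Agent.Lib.Helper21.BaseChg3
import Groth.Agent.Lib.Helper21.DimFun2
import Groth.Agent.Lib.Helper21.IrrFib4
import Groth.Agent.Lib.Helper18.TopDim
import Groth.Agent.Lib.Helper18.FibStalk

/-!
# Local dimensions of equidimensional schemes over a field; miracle flatness for schemes
-/

set_option autoImplicit false
set_option linter.style.haveILetI false
set_option linter.unusedSectionVars false
universe u

open AlgebraicGeometry CategoryTheory Limits TopologicalSpace

namespace Groth.Agent.Lib.Helper21.EquiDim

open Groth.Agent.Lib.Helper21.FibDim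

/-- a space all of whose irreducible components have dimension at most `d` has dimension at most
`d` -/
theorem topologicalKrullDim_le_of_components {T : Type*} [TopologicalSpace T] (d : WithBot ℕ∞)
    (h : ∀ Z ∈ irreducibleComponents T, topologicalKrullDim Z ≤ d) :
    topologicalKrullDim T ≤ d := by
  unfold topologicalKrullDim Order.krullDim
  refine iSup_le fun p => ?_
  obtain ⟨C, hC, hpC⟩ := exists_mem_irreducibleComponents_subset_of_isIrreducible
    (p.last : Set T) p.last.isIrreducible
  exact (Groth.Agent.Lib.Helper18.TopDim.length_le_topologicalKrullDim_of_subset p C hpC).trans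
    (h C hC)

/-- in a scheme locally of finite type over a field all of whose irreducible components have
dimension `e`, every local dimension is `e` -/
theorem localDim_eq_of_equidim (k : Type u) [Field k] (X : Scheme.{u})
    [X.Over (Spec (CommRingCat.of k))] [LocallyOfFiniteType (X ↘ Spec (CommRingCat.of k))]
    (e : WithBot ℕ∞) (hX : ∀ Z ∈ irreducibleComponents X, topologicalKrullDim Z = e) (x : X) :
    FlatMor.localDim X x = e := by
  haveI : IsLocallyNoetherian X :=
    LocallyOfFiniteType.isLocallyNoetherian (X ↘ Spec (CommRingCat.of k))
  apply le_antisymm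
  · exact (Groth.Agent.Lib.Helper18.TopDim.localDim_le_topologicalKrullDim x).trans
      (topologicalKrullDim_le_of_components e (fun Z hZ => (hX Z hZ).le))
  · obtain ⟨ξ, hmax, hξx⟩ := Groth.Agent.Lib.Helper21.DimFun.exists_maximal_specializes x
    have hZ := closure_mem_irreducibleComponents_of_maximal ξ hmax
    have h1 := Groth.Agent.Lib.Helper21.BaseChg.topologicalKrullDim_closure_eq_localDim k X ξ hZ
    rw [hX _ hZ] at h1
    by_contra hlt
    rw [not_le] at hlt
    have husc := Groth.Agent.Lib.Helper18.TopDim.upperSemicontinuous_localDim (X := X) x e hlt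
    obtain ⟨U, hU, hUo, hxU⟩ := eventually_nhds_iff.mp husc
    have h2 : FlatMor.localDim X ξ < e := hU ξ (hξx.mem_open hUo hxU)
    rw [← h1] at h2
    exact lt_irrefl _ h2

end Groth.Agent.Lib.Helper21.EquiDim
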