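import Groth.Prelude.Def_AnPts
import Mathlib.AlgebraicGeometry.AffineScheme
import Mathlib.Topology.Algebra.MvPolynomial

/-!
# Core library for `An.Pts` (ℂ-points of schemes over ℂ with the complex topology)
-/

set_option autoImplicit false

open AlgebraicGeometry CategoryTheory TopologicalSpace Opposite

namespace Groth.Agent.Lib.Helper21.AnPts

open An

variable {X : Scheme.{0}} [X.Over SC]

/-- evaluation at a ℂ-point as a ring homomorphism -/
noncomputable def evHom (x : Pts X) (U : X.Opens) (h : x.pt ∈ U) : Γ(X, U) →+* ℂ :=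
  (x.1.appLE U ⊤ (Pts.top_le_preimage x h) ≫ (Scheme.ΓSpecIso (CommRingCat.of ℂ)).hom).hom

@[simp] lemma evHom_apply (x : Pts X) (U : X.Opens) (h : x.pt ∈ U) (f : Γ(X, U)) :
    evHom x U h f = x.ev U h f := rfl

lemma ev_add (x : Pts X) (U : X.Opens) (h : x.pt ∈ U) (f g : Γ(X, U)) :
    x.ev U h (f + g) = x.ev U h f + x.ev U h g := map_add (evHom x U h) f g

lemma ev_mul (x : Pts X) (U : X.Opens) (h : x.pt ∈ U) (f g : Γ(X, U)) :
    x.ev U h (f * g) = x.ev U h f * x.ev U h g := map_mul (evHom x U h) f g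

lemma ev_one (x : Pts X) (U : X.Opens) (h : x.pt ∈ U) : x.ev U h 1 = 1 := map_one (evHom x U h)

lemma ev_zero (x : Pts X) (U : X.Opens) (h : x.pt ∈ U) : x.ev U h 0 = 0 := map_zero (evHom x U h)

lemma ev_pow (x : Pts X) (U : X.Opens) (h : x.pt ∈ U) (f : Γ(X, U)) (n : ℕ) :
    x.ev U h (f ^ n) = x.ev U h f ^ n := map_pow (evHom x U h) f n

/-- evaluation is compatible with restriction -/
lemma ev_res (x : Pts X) {U V : X.Opens} (i : V ⟶ U) (h : x.pt ∈ V) (f : Γ(X, U)) :
    x.ev V h (X.presheaf.map i.op f) = x.ev U (i.le h) f := by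
  unfold Pts.ev
  congr 1
  have := Scheme.Hom.map_appLE x.1 (Pts.top_le_preimage x h) i.op
  exact congrArg (fun φ => φ.hom f) this

/-- evaluation of a constant -/
lemma evTop_strHom (x : Pts X) (c : ℂ) : x.evTop (strHom X c) = c := by
  change (Scheme.ΓSpecIso (CommRingCat.of ℂ)).hom
    (x.1.appLE ⊤ ⊤ (Pts.top_le_preimage x (Opens.mem_top _)) (strHom X c)) = c
  unfold strHom
  have h1 : x.1.appLE ⊤ ⊤ (Pts.top_le_preimage x (Opens.mem_top _)) = x.1.appTop := by
    rw [Scheme.Hom.appLE]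
    simp
  rw [h1]
  have h2 : (X ↘ SC).appTop ≫ x.1.appTop = 𝟙 _ := by
    rw [← Scheme.Hom.comp_appTop, x.2]
    rfl
  simp only [RingHom.coe_comp, Function.comp_apply]
  have := congrArg (fun φ => φ.hom ((Scheme.ΓSpecIso (CommRingCat.of ℂ)).inv.hom c)) h2
  simp only [CommRingCat.hom_comp, RingHom.coe_comp, Function.comp_apply, CommRingCat.hom_id,
    RingHom.id_apply] at this
  rw [this]
  exact congrArg (fun φ => φ.hom c) (Scheme.ΓSpecIso (CommRingCat.of ℂ)).inv_hom_id

lemma cpt_asIdeal : (cpt : PrimeSpectrum ℂ).asIdeal = ⊥ := by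
  have := (cpt : PrimeSpectrum ℂ).isPrime
  rcases Ideal.eq_bot_or_top (cpt : PrimeSpectrum ℂ).asIdeal with h | h
  · exact h
  · exact absurd h this.ne_top

/-- a ℂ-point lies in the basic open of `f` iff `f` does not vanish there -/
lemma pt_mem_basicOpen_iff (x : Pts X) (U : X.Opens) (h : x.pt ∈ U) (f : Γ(X, U)) :
    x.pt ∈ X.basicOpen f ↔ x.ev U h f ≠ 0 := by
  have h1 := Scheme.basicOpen_appLE x.1 ⊤ U (Pts.top_le_preimage x h) f
  have h2 : x.pt ∈ X.basicOpen f ↔ cpt ∈ SC.basicOpen (x.1.appLE U ⊤ (Pts.top_le_preimage x h) f) := by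
    rw [h1]
    simp only [Opens.mem_inf, Opens.mem_top, true_and]
    rfl
  rw [h2, basicOpen_eq_of_affine']
  change (x.ev U h f) ∉ (cpt : PrimeSpectrum ℂ).asIdeal ↔ _
  rw [cpt_asIdeal, Ideal.mem_bot]

lemma appLE_top_top (x : Pts X) :
    x.1.appLE ⊤ ⊤ (Pts.top_le_preimage x (Opens.mem_top _)) = x.1.appTop := by
  rw [Scheme.Hom.appLE]
  simp

lemma evTop_eq (x : Pts X) (f : Γ(X, ⊤)) :
    x.evTop f = (Scheme.ΓSpecIso (CommRingCat.of ℂ)).hom (x.1.appTop f) := by
  change (Scheme.ΓSpecIso (CommRingCat.of ℂ)).hom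
    (x.1.appLE ⊤ ⊤ (Pts.top_le_preimage x (Opens.mem_top _)) f) = _
  rw [appLE_top_top]

/-- ℂ-points of an affine scheme are determined by their values on global sections -/
lemma ext_evTop [IsAffine X] (x y : Pts X) (h : ∀ f, x.evTop f = y.evTop f) : x = y := by
  apply Subtype.ext
  apply ext_of_isAffine
  ext f
  have := h f
  rw [evTop_eq, evTop_eq] at this
  have h2 := congrArg (Scheme.ΓSpecIso (CommRingCat.of ℂ)).inv this
  simpa using h2

/-- the ℂ-point of an affine scheme attached to a ℂ-algebra homomorphism -/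
noncomputable def ofHom [IsAffine X] (φ : Γ(X, ⊤) →+* ℂ) (hφ : ∀ c, φ (strHom X c) = c) : Pts X :=
  ⟨Spec.map (CommRingCat.ofHom φ) ≫ X.isoSpec.inv, by
    apply ext_of_isAffine
    rw [Scheme.Hom.comp_appTop, Scheme.Hom.comp_appTop]
    have h1 : X.isoSpec.inv.appTop = (Scheme.ΓSpecIso Γ(X, ⊤)).inv := by
      have h := X.isoSpec.hom_inv_id
      have h' := congrArg Scheme.Hom.appTop h
      rw [Scheme.Hom.comp_appTop, Scheme.isoSpec_hom, Scheme.toSpecΓ_appTop] at h'
      rw [← cancel_mono (Scheme.ΓSpecIso Γ(X, ⊤)).hom, h', Iso.inv_hom_id]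
      rfl
    rw [h1, ← Scheme.ΓSpecIso_inv_naturality]
    ext c
    obtain ⟨c', rfl⟩ : ∃ c', c = (Scheme.ΓSpecIso (CommRingCat.of ℂ)).inv.hom c' :=
      ⟨(Scheme.ΓSpecIso (CommRingCat.of ℂ)).hom.hom c, by
        exact (congrArg (fun ψ => ψ.hom c) (Scheme.ΓSpecIso (CommRingCat.of ℂ)).hom_inv_id).symm⟩
    have := hφ c'
    unfold strHom at this
    simp only [RingHom.coe_comp, Function.comp_apply] at this
    simp only [CommRingCat.hom_comp, RingHom.coe_comp, Function.comp_apply, CommRingCat.hom_ofHom]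
    rw [this]
    rfl⟩

omit [X.Over SC] in
lemma isoSpec_inv_appTop' [IsAffine X] : X.isoSpec.inv.appTop = (Scheme.ΓSpecIso Γ(X, ⊤)).inv := by
  have h := X.isoSpec.hom_inv_id
  have h' := congrArg Scheme.Hom.appTop h
  rw [Scheme.Hom.comp_appTop, Scheme.isoSpec_hom, Scheme.toSpecΓ_appTop] at h'
  rw [← cancel_mono (Scheme.ΓSpecIso Γ(X, ⊤)).hom, h', Iso.inv_hom_id]
  rfl

@[simp] lemma evTop_ofHom [IsAffine X] (φ : Γ(X, ⊤) →+* ℂ) (hφ : ∀ c, φ (strHom X c) = c)
    (f : Γ(X, ⊤)) : (ofHom φ hφ).evTop f = φ f := by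
  rw [evTop_eq]
  change (Scheme.ΓSpecIso (CommRingCat.of ℂ)).hom
    ((Spec.map (CommRingCat.ofHom φ) ≫ X.isoSpec.inv).appTop f) = φ f
  rw [Scheme.Hom.comp_appTop, isoSpec_inv_appTop', ← Scheme.ΓSpecIso_inv_naturality]
  simp only [CommRingCat.hom_comp, RingHom.coe_comp, Function.comp_apply, CommRingCat.hom_ofHom]
  exact congrArg (fun ψ => ψ.hom (φ f)) (Scheme.ΓSpecIso (CommRingCat.of ℂ)).inv_hom_id

lemma continuous_evTop (f : Γ(X, ⊤)) : Continuous (fun x : Pts X => x.evTop f) := by
  refine continuous_def.2 fun V hV => ?_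
  have : (fun x : Pts X => x.evTop f) ⁻¹' V = Pts.basicSet ⊤ f V := by
    ext x
    simp only [Set.mem_preimage, Pts.basicSet, Set.mem_ofPred_eq]
    exact ⟨fun h => ⟨Opens.mem_top _, h⟩, fun ⟨_, h⟩ => h⟩
  rw [this]
  exact Pts.isOpen_basicSet _ _ hV

/-- the map to the product `ℂ^Γ(X,⊤)` -/
noncomputable def evTopMap (X : Scheme.{0}) [X.Over SC] : Pts X → (Γ(X, ⊤) → ℂ) :=
  fun x f => x.evTop f

lemma continuous_evTopMap : Continuous (evTopMap X) :=
  continuous_pi fun f => continuous_evTop f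

/-- on an affine scheme over ℂ the complex topology on the ℂ-points is induced by the global
functions -/
theorem isInducing_evTopMap [IsAffine X] : Topology.IsInducing (evTopMap X) := by
  constructor
  apply le_antisymm
  · exact continuous_evTopMap.le_induced
  · -- every generating set is open in the induced topology
    apply le_generateFrom
    rintro _ ⟨U, f, V, hV, rfl⟩
    rw [@isOpen_iff_mem_nhds _ (TopologicalSpace.induced (evTopMap X) inferInstance)]
    rintro x ⟨hxU, hxV⟩
    obtain ⟨_, ⟨b, rfl⟩, hxb, hbU⟩ := Opens.isBasis_iff_nbhd.mp (isBasis_basicOpen X) hxU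
    -- write the restriction of f to D(b) as a fraction
    set g : Γ(X, X.basicOpen b) := X.presheaf.map (homOfLE hbU).op f with hg
    obtain ⟨n, a, hna⟩ := IsLocalization.Away.surj b g
    have hna' : g * (X.presheaf.map (homOfLE (X.basicOpen_le b)).op b) ^ n =
        X.presheaf.map (homOfLE (X.basicOpen_le b)).op a := hna
    -- the open set of the product
    let W : Set (Γ(X, ⊤) → ℂ) := {φ | φ b ≠ 0 ∧ φ a / (φ b) ^ n ∈ V}
    have hWopen : IsOpen W := by
      have hb0 : IsOpen {φ : Γ(X, ⊤) → ℂ | φ b ≠ 0} :=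
        isOpen_ne_fun (continuous_apply b) continuous_const
      have hcont : ContinuousOn (fun φ : Γ(X, ⊤) → ℂ => φ a / (φ b) ^ n) {φ | φ b ≠ 0} := by
        apply ContinuousOn.div (continuous_apply a).continuousOn
          ((continuous_apply b).pow n).continuousOn
        intro φ hφ
        exact pow_ne_zero _ hφ
      exact hcont.isOpen_inter_preimage hb0 hV
    -- key formula: on D(b), f(y) = a(y)/b(y)^n
    have key : ∀ y : Pts X, ∀ hyb : y.pt ∈ X.basicOpen b,
        y.ev U (hbU hyb) f = y.evTop a / (y.evTop b) ^ n := by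
      intro y hyb
      have hb0 : y.evTop b ≠ 0 := (pt_mem_basicOpen_iff y ⊤ (Opens.mem_top _) b).mp hyb
      have e1 : y.ev (X.basicOpen b) hyb g = y.ev U (hbU hyb) f := ev_res y (homOfLE hbU) hyb f
      have e2 : y.ev (X.basicOpen b) hyb (X.presheaf.map (homOfLE (X.basicOpen_le b)).op b) = y.evTop b :=
        ev_res y (homOfLE (X.basicOpen_le b)) hyb b
      have e3 : y.ev (X.basicOpen b) hyb (X.presheaf.map (homOfLE (X.basicOpen_le b)).op a) = y.evTop a :=
        ev_res y (homOfLE (X.basicOpen_le b)) hyb a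
      have e4 := congrArg (y.ev (X.basicOpen b) hyb) hna'
      rw [ev_mul, ev_pow, e1, e2, e3] at e4
      rw [eq_div_iff (pow_ne_zero _ hb0)]
      exact e4
    have hxW : evTopMap X x ∈ W := by
      refine ⟨(pt_mem_basicOpen_iff x ⊤ (Opens.mem_top _) b).mp hxb, ?_⟩
      change x.evTop a / (x.evTop b) ^ n ∈ V
      rw [← key x hxb]
      exact hxV
    have hsub : evTopMap X ⁻¹' W ⊆ Pts.basicSet U f V := by
      rintro y ⟨hy1, hy2⟩
      have hyb : y.pt ∈ X.basicOpen b := (pt_mem_basicOpen_iff y ⊤ (Opens.mem_top _) b).mpr hy1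
      refine ⟨hbU hyb, ?_⟩
      rw [key y hyb]
      exact hy2
    rw [mem_nhds_induced]
    exact ⟨W, hWopen.mem_nhds hxW, hsub⟩

theorem isEmbedding_evTopMap [IsAffine X] : Topology.IsEmbedding (evTopMap X) :=
  ⟨isInducing_evTopMap, fun x y h => ext_evTop x y fun f => congrFun h f⟩

section generators

variable {n : ℕ} (s : Fin n → Γ(X, ⊤))

/-- evaluation of a polynomial in the sections `s` -/
lemma evTop_eval₂Hom (x : Pts X) (p : MvPolynomial (Fin n) ℂ) :
    x.evTop (MvPolynomial.eval₂Hom (strHom X) s p) = MvPolynomial.eval (fun i => x.evTop (s i)) p := by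
  have : (evHom x ⊤ (Opens.mem_top _)).comp (MvPolynomial.eval₂Hom (strHom X) s) =
      MvPolynomial.eval (fun i => x.evTop (s i)) := by
    apply MvPolynomial.ringHom_ext
    · intro c
      simp only [RingHom.coe_comp, Function.comp_apply, MvPolynomial.coe_eval₂Hom, MvPolynomial.eval₂_C,
        MvPolynomial.eval_C]
      exact evTop_strHom x c
    · intro i
      simp only [RingHom.coe_comp, Function.comp_apply, MvPolynomial.coe_eval₂Hom, MvPolynomial.eval₂_X,
        MvPolynomial.eval_X]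
      rfl
  exact congrArg (fun φ => φ p) this

/-- the coordinate map attached to a family of global sections -/
noncomputable def coordMap : Pts X → (Fin n → ℂ) := fun x i => x.evTop (s i)

lemma continuous_coordMap : Continuous (coordMap s) :=
  continuous_pi fun i => continuous_evTop (s i)

variable [IsAffine X] (hs : Function.Surjective (MvPolynomial.eval₂Hom (strHom X) s))

include hs in
lemma range_coordMap :
    Set.range (coordMap s) = {z | ∀ p : MvPolynomial (Fin n) ℂ,
      MvPolynomial.eval₂Hom (strHom X) s p = 0 → MvPolynomial.eval z p = 0} := by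
  ext z
  constructor
  · rintro ⟨x, rfl⟩ p hp
    have := evTop_eval₂Hom s x p
    rw [hp] at this
    change MvPolynomial.eval (fun i => x.evTop (s i)) p = 0
    rw [← this]
    exact ev_zero x ⊤ (Opens.mem_top _)
  · intro hz
    set π := MvPolynomial.eval₂Hom (strHom X) s with hπ
    let φ : Γ(X, ⊤) →+* ℂ := π.liftOfSurjective hs ⟨MvPolynomial.eval z, fun p hp => hz p hp⟩
    have hφ : ∀ p, φ (π p) = MvPolynomial.eval z p := fun p =>
      π.liftOfSurjective_comp_apply hs ⟨MvPolynomial.eval z, fun p hp => hz p hp⟩ p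
    have hφc : ∀ c, φ (strHom X c) = c := by
      intro c
      have := hφ (MvPolynomial.C c)
      simpa [hπ] using this
    refine ⟨ofHom φ hφc, ?_⟩
    funext i
    change (ofHom φ hφc).evTop (s i) = z i
    rw [evTop_ofHom]
    have := hφ (MvPolynomial.X i)
    simpa [hπ] using this

include hs in
theorem isClosedEmbedding_coordMap : Topology.IsClosedEmbedding (coordMap s) := by
  classical
  refine ⟨⟨?_, ?_⟩, ?_⟩
  · -- inducing: evTopMap factors through coordMap
    let pre : Γ(X, ⊤) → MvPolynomial (Fin n) ℂ := Function.surjInv hs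
    have hpre : ∀ f, MvPolynomial.eval₂Hom (strHom X) s (pre f) = f := Function.surjInv_eq hs
    let Φ : (Fin n → ℂ) → (Γ(X, ⊤) → ℂ) := fun z f => MvPolynomial.eval z (pre f)
    have hΦ : Continuous Φ := continuous_pi fun f => MvPolynomial.continuous_eval (pre f)
    have hcomp : Φ ∘ coordMap s = evTopMap X := by
      funext x f
      change MvPolynomial.eval (fun i => x.evTop (s i)) (pre f) = x.evTop f
      rw [← evTop_eval₂Hom, hpre]
    exact Topology.IsInducing.of_comp (continuous_coordMap s) hΦ (hcomp ▸ isInducing_evTopMap)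
  · intro x y hxy
    apply ext_evTop
    intro f
    obtain ⟨p, rfl⟩ := hs f
    rw [evTop_eval₂Hom, evTop_eval₂Hom]
    exact congrArg (fun z => MvPolynomial.eval z p) hxy
  · rw [range_coordMap s hs]
    have : {z : Fin n → ℂ | ∀ p : MvPolynomial (Fin n) ℂ,
        MvPolynomial.eval₂Hom (strHom X) s p = 0 → MvPolynomial.eval z p = 0} =
        ⋂ p : {p : MvPolynomial (Fin n) ℂ // MvPolynomial.eval₂Hom (strHom X) s p = 0},
          {z | MvPolynomial.eval z p.1 = 0} := by
      ext z
      simp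
    rw [this]
    exact isClosed_iInter fun p => isClosed_eq (MvPolynomial.continuous_eval p.1) continuous_const

end generators

end Groth.Agent.Lib.Helper21.AnPts
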