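import Mathlib.Analysis.Polynomial.CauchyBound
import Mathlib.Analysis.Complex.Polynomial.Basic
import Mathlib.Algebra.MvPolynomial.Funext
import Mathlib.Topology.Algebra.MvPolynomial
import Mathlib.Algebra.Polynomial.Splits
import Mathlib.FieldTheory.IsAlgClosed.Basic

/-!
# Analytic facts on roots of complex polynomials used for the density theorem

* `exists_root_norm_pow_le`: a monic complex polynomial of degree `d ≥ 1` has a root `α` with
  `‖α‖ ^ d ≤ ‖p.coeff 0‖`.
* `norm_root_le_of_monic`: Cauchy bound for roots of a monic polynomial.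
* `dense_eval_ne_zero`: the nonvanishing locus of a nonzero polynomial is dense in `ℂⁿ`.
-/

set_option autoImplicit false
open Polynomial Topology

namespace Groth.Agent.Lib.Helper21.AnDensity

/-- a monic complex polynomial of positive degree has a root which is small when the constant
coefficient is small -/
theorem exists_root_norm_pow_le (p : ℂ[X]) (hp : p.Monic) (hd : p.natDegree ≠ 0) :
    ∃ α : ℂ, p.IsRoot α ∧ ‖α‖ ^ p.natDegree ≤ ‖p.coeff 0‖ := by
  classical
  have hs : p.Splits := IsAlgClosed.splits p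
  have hcard := hs.natDegree_eq_card_roots
  have hne : p.roots ≠ 0 := hs.roots_ne_zero hd
  obtain ⟨α, hα, hmin⟩ := Finset.exists_min_image p.roots.toFinset (fun β => ‖β‖)
    (by
      obtain ⟨β, hβ⟩ := Multiset.exists_mem_of_ne_zero hne
      exact ⟨β, Multiset.mem_toFinset.mpr hβ⟩)
  refine ⟨α, (Polynomial.mem_roots hp.ne_zero).mp (Multiset.mem_toFinset.mp hα), ?_⟩
  rw [hs.coeff_zero_eq_prod_roots_of_monic hp, norm_mul, norm_pow, norm_neg, norm_one, one_pow,
    one_mul]
  have h1 : ‖p.roots.prod‖ = (p.roots.map (fun β => ‖β‖)).prod := by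
    exact (Multiset.prod_hom p.roots (normHom : ℂ →*₀ ℝ)).symm
  rw [h1, hcard]
  have h2 : ‖α‖ ^ p.roots.card = (p.roots.map (fun _ => ‖α‖)).prod := by
    rw [Multiset.map_const', Multiset.prod_replicate]
  rw [h2]
  apply Multiset.prod_map_le_prod_map₀
  · intro β _
    exact norm_nonneg _
  · intro β hβ
    exact hmin β (Multiset.mem_toFinset.mpr hβ)

/-- Cauchy bound for a monic polynomial -/
theorem norm_root_le_of_monic (p : ℂ[X]) (hp : p.Monic) (M : ℝ)
    (hM : ∀ i < p.natDegree, ‖p.coeff i‖ ≤ M) (α : ℂ) (hα : p.IsRoot α) : ‖α‖ ≤ M + 1 := by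
  have h := Polynomial.IsRoot.norm_lt_cauchyBound hp.ne_zero hα
  have h' : (‖α‖₊ : ℝ) < (cauchyBound p : ℝ) := by exact_mod_cast h
  have h2 : (cauchyBound p : ℝ) ≤ M + 1 := by
    unfold cauchyBound
    rw [hp.leadingCoeff, nnnorm_one, div_one]
    push_cast
    have hM0 : 0 ≤ M ∨ p.natDegree = 0 := by
      by_cases hd : p.natDegree = 0
      · exact Or.inr hd
      · exact Or.inl ((norm_nonneg _).trans (hM 0 (Nat.pos_of_ne_zero hd)))
    have : ((Finset.range p.natDegree).sup (fun i => ‖p.coeff i‖₊) : NNReal) ≤ M.toNNReal := by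
      apply Finset.sup_le
      intro i hi
      rw [← NNReal.coe_le_coe]
      rw [Real.coe_toNNReal']
      exact le_max_of_le_left (hM i (Finset.mem_range.mp hi))
    rcases hM0 with hM0 | hd
    · have h3 : (((Finset.range p.natDegree).sup (fun i => ‖p.coeff i‖₊) : NNReal) : ℝ) ≤ M := by
        have := NNReal.coe_le_coe.mpr this
        rwa [Real.coe_toNNReal _ hM0] at this
      linarith
    · rw [hd]
      exfalso
      have := hα
      rw [Polynomial.eq_one_of_monic_natDegree_zero hp hd] at this
      simp at this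
  have : ‖α‖ < M + 1 := lt_of_lt_of_le (by simpa using h') h2
  exact this.le

/-- the nonvanishing locus of a nonzero complex polynomial in `n` variables is dense -/
theorem dense_eval_ne_zero {n : ℕ} (a : MvPolynomial (Fin n) ℂ) (ha : a ≠ 0) :
    Dense {y : Fin n → ℂ | MvPolynomial.eval y a ≠ 0} := by
  intro y₀
  rw [Metric.mem_closure_iff]
  intro ε hε
  by_contra hcon
  push Not at hcon
  apply ha
  apply MvPolynomial.funext_set (fun i => Metric.ball (y₀ i) ε)
  · intro i
    exact infinite_of_mem_nhds (y₀ i) (Metric.ball_mem_nhds _ hε)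
  · intro y hy
    rw [map_zero]
    by_contra hne
    have hy' : dist y₀ y < ε := by
      rw [dist_comm, dist_pi_lt_iff hε]
      intro i
      exact hy i (Set.mem_univ i)
    exact absurd hy' (not_lt.mpr (hcon y hne))

end Groth.Agent.Lib.Helper21.AnDensity
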