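import Mathlib.RingTheory.TensorProduct.Free
import Mathlib.RingTheory.Jacobson.Ring
import Mathlib.FieldTheory.IsAlgClosed.Basic
import Mathlib.RingTheory.FiniteType
import Mathlib.RingTheory.Flat.Basic

/-!
# Tensor product of a finitely generated domain over an algebraically closed field with a field
is a domain (geometric integrality over algebraically closed fields).
-/

set_option autoImplicit false

open TensorProduct

namespace Groth.Agent.Lib.Helper21

section

variable (k : Type*) [Field k] [IsAlgClosed k]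
variable (A : Type*) [CommRing A] [Algebra k A] [Algebra.FiniteType k A]

/-- Nullstellensatz: a maximal ideal of a finitely generated algebra over an algebraically closed
field is the kernel of a `k`-point. -/
theorem exists_algHom_ker_eq_of_isMaximal (m : Ideal A) [m.IsMaximal] :
    ∃ ev : A →ₐ[k] k, RingHom.ker (ev : A →+* k) = m := by
  classical
  let _ := Ideal.Quotient.field m
  have hfin : Module.Finite k (A ⧸ m) := finite_of_finite_type_of_isJacobsonRing k (A ⧸ m)
  have hbij : Function.Bijective (algebraMap k (A ⧸ m)) :=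
    IsAlgClosed.algebraMap_bijective_of_isIntegral
  let e : k ≃ₐ[k] (A ⧸ m) := AlgEquiv.ofBijective (Algebra.ofId k (A ⧸ m)) hbij
  refine ⟨(e.symm : (A ⧸ m) →ₐ[k] k).comp (Ideal.Quotient.mkₐ k m), ?_⟩
  ext a
  simp only [RingHom.mem_ker, AlgHom.coe_toRingHom, AlgHom.comp_apply, Ideal.Quotient.mkₐ_eq_mk]
  rw [show ((e.symm : (A ⧸ m) →ₐ[k] k) (Ideal.Quotient.mk m a) = 0) ↔ Ideal.Quotient.mk m a = 0 from
    EmbeddingLike.map_eq_zero_iff (f := e.symm)]
  exact Ideal.Quotient.eq_zero_iff_mem

variable [IsDomain A]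
variable (κ : Type*) [Field κ] [Algebra k κ]

theorem noZeroDivisors_tensor_of_isAlgClosed : NoZeroDivisors (A ⊗[k] κ) := by
  classical
  let 𝔠 := Module.Basis.ofVectorSpace k κ
  let 𝔠' := Algebra.TensorProduct.basis A 𝔠
  have hjac : IsJacobsonRing A := isJacobsonRing_of_finiteType (A := k)
  -- evaluation at a k-point
  have key : ∀ (ev : A →ₐ[k] k) (x : A ⊗[k] κ) (j),
      ev (𝔠'.repr x j) = 𝔠.repr (Algebra.TensorProduct.lift ((Algebra.ofId k κ).comp ev)
        (AlgHom.id k κ) (fun _ _ => Commute.all _ _) x) j := by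
    intro ev x j
    induction x using TensorProduct.induction_on with
    | zero => simp
    | tmul a c =>
      simp only [𝔠', Algebra.TensorProduct.basis_repr_tmul, Finsupp.smul_apply, Finsupp.mapRange_apply,
        smul_eq_mul, map_mul, AlgHom.commutes, Algebra.TensorProduct.lift_tmul, AlgHom.comp_apply,
        AlgHom.id_apply]
      rw [Algebra.ofId_apply, ← Algebra.smul_def, map_smul, Finsupp.smul_apply, smul_eq_mul]
      rfl
    | add x y hx hy =>
      simp only [map_add, Finsupp.add_apply, hx, hy]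
  refine ⟨fun {x y} hxy => ?_⟩
  by_contra hne
  push Not at hne
  obtain ⟨hx, hy⟩ := hne
  have hx' : 𝔠'.repr x ≠ 0 := fun h => hx (by simpa using h)
  have hy' : 𝔠'.repr y ≠ 0 := fun h => hy (by simpa using h)
  obtain ⟨j, hj⟩ := Finsupp.ne_iff.mp hx'
  obtain ⟨l, hl⟩ := Finsupp.ne_iff.mp hy'
  simp only [Finsupp.coe_zero, Pi.zero_apply] at hj hl
  have hprod : 𝔠'.repr x j * 𝔠'.repr y l ≠ 0 := mul_ne_zero hj hl
  -- the product lies in all maximal ideals
  have hmem : 𝔠'.repr x j * 𝔠'.repr y l ∈ Ideal.jacobson (⊥ : Ideal A) := by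
    rw [Ideal.jacobson, Ideal.mem_sInf]
    rintro m ⟨-, hm⟩
    obtain ⟨ev, hev⟩ := exists_algHom_ker_eq_of_isMaximal k A m
    set ε := Algebra.TensorProduct.lift ((Algebra.ofId k κ).comp ev)
        (AlgHom.id k κ) (fun _ _ => Commute.all _ _) with hε
    have h0 : ε x * ε y = 0 := by rw [← map_mul, hxy, map_zero]
    rcases mul_eq_zero.mp h0 with h | h
    · have : ev (𝔠'.repr x j) = 0 := by rw [key ev x j, ← hε, h]; simp
      rw [← hev]
      exact Ideal.mul_mem_right _ _ this
    · have : ev (𝔠'.repr y l) = 0 := by rw [key ev y l, ← hε, h]; simp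
      rw [← hev]
      exact Ideal.mul_mem_left _ _ this
  have hbot : Ideal.jacobson (⊥ : Ideal A) = ⊥ :=
    hjac.out Ideal.isRadical_bot
  rw [hbot] at hmem
  exact hprod hmem

theorem isDomain_tensor_of_isAlgClosed : IsDomain (A ⊗[k] κ) := by
  have h1 : NoZeroDivisors (A ⊗[k] κ) := noZeroDivisors_tensor_of_isAlgClosed k A κ
  have h2 : Nontrivial (A ⊗[k] κ) := by
    have hinj : Function.Injective (Algebra.TensorProduct.includeLeft : A →ₐ[k] A ⊗[k] κ) :=
      Algebra.TensorProduct.includeLeft_injective (algebraMap k κ).injective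
    exact hinj.nontrivial
  exact NoZeroDivisors.to_isDomain _

theorem isDomain_tensor_of_isAlgClosed' : IsDomain (κ ⊗[k] A) := by
  have := isDomain_tensor_of_isAlgClosed k A κ
  exact (Algebra.TensorProduct.comm k κ A).toMulEquiv.isDomain

end

end Groth.Agent.Lib.Helper21
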