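import Groth.Agent.Lib.Helper21.AnPts
import Groth.Agent.Lib.Helper10.AnPts
import Groth.Agent.Lib.Helper21.TensorDomain
import Mathlib.AlgebraicGeometry.Morphisms.FiniteType
import Mathlib.Topology.JacobsonSpace
import Mathlib.Analysis.Complex.Polynomial.Basic

/-!
# ℂ-points of schemes locally of finite type over ℂ

* `finiteType_strHom`, `exists_generators`: an affine scheme lft over ℂ has finitely many generating
  global sections.
* `pt_injective`: `Pts.pt` is injective.
* `exists_pt_eq_of_isClosed`: Nullstellensatz, every closed point is a ℂ-point.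
* `isClosed_singleton_pt`: the point of a ℂ-point is closed.
* `range_pt`: `Set.range pt = closedPoints X`.
* `locallyCompactSpace`: `Pts X` is locally compact.
-/

set_option autoImplicit false
open CategoryTheory AlgebraicGeometry Topology TopologicalSpace
open An

namespace Groth.Agent.Lib.Helper21.AnPts

variable {X : Scheme.{0}} [X.Over SC]

lemma finiteType_strHom [IsAffine X] [LocallyOfFiniteType (X ↘ SC)] : (strHom X).FiniteType := by
  have h := HasRingHomProperty.appTop (P := @LocallyOfFiniteType) (X ↘ SC) inferInstance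
  unfold strHom
  refine h.comp (RingHom.FiniteType.of_surjective _ ?_)
  exact (ConcreteCategory.bijective_of_isIso (Scheme.ΓSpecIso (CommRingCat.of ℂ)).inv).2

lemma exists_generators [IsAffine X] [LocallyOfFiniteType (X ↘ SC)] :
    ∃ (n : ℕ) (s : Fin n → Γ(X, ⊤)),
      Function.Surjective (MvPolynomial.eval₂Hom (strHom X) s) := by
  have h := finiteType_strHom (X := X)
  let _ : Algebra ℂ Γ(X, ⊤) := (strHom X).toAlgebra
  have h' : Algebra.FiniteType ℂ Γ(X, ⊤) := h
  obtain ⟨n, f, hf⟩ := Algebra.FiniteType.iff_quotient_mvPolynomial''.mp h'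
  refine ⟨n, fun i => f (MvPolynomial.X i), ?_⟩
  have : (MvPolynomial.eval₂Hom (strHom X) fun i => f (MvPolynomial.X i)) = (f : _ →+* _) := by
    apply MvPolynomial.ringHom_ext
    · intro c
      simp only [MvPolynomial.eval₂Hom_C]
      exact (f.commutes c).symm
    · intro i
      simp
  rw [this]
  exact hf

/-- on an affine scheme a ℂ-point is determined by its underlying point -/
lemma pt_injective_of_isAffine [IsAffine X] : Function.Injective (Pts.pt : Pts X → X) := by
  intro x y hxy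
  have hker : ∀ f : Γ(X, ⊤), x.evTop f = 0 ↔ y.evTop f = 0 := by
    intro f
    have h1 := pt_mem_basicOpen_iff x ⊤ (Opens.mem_top _) f
    have h2 := pt_mem_basicOpen_iff y ⊤ (Opens.mem_top _) f
    rw [hxy] at h1
    exact not_iff_not.mp (h1.symm.trans h2)
  apply ext_evTop
  intro f
  have hsub : ∀ (z : Pts X) (g : Γ(X, ⊤)) (c : ℂ), z.evTop (g - strHom X c) = z.evTop g - c := by
    intro z g c
    have := map_sub (evHom z ⊤ (Opens.mem_top _)) g (strHom X c)
    simp only [evHom_apply] at this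
    exact this.trans (congrArg (z.evTop g - ·) (evTop_strHom z c))
  have h0 : x.evTop (f - strHom X (x.evTop f)) = 0 := by rw [hsub, sub_self]
  have h1 := (hker _).mp h0
  rw [hsub, sub_eq_zero] at h1
  exact h1.symm

/-- every ℂ-point lifts to any open containing its underlying point -/
lemma exists_map_ι_eq (U : X.Opens) (x : Pts X) (hx : x.pt ∈ U) :
    ∃ x' : Pts (U : Scheme.{0}), Pts.map U.ι x' = x := by
  have := Groth.Agent.Lib.Helper10.AnPts.range_map_of_isOpenImmersion U.ι
  have hx' : x ∈ Set.range (Pts.map U.ι) := by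
    rw [this]
    simpa using hx
  exact hx'

omit [X.Over SC] in
lemma exists_affine_nhd (x : X) : ∃ U : X.Opens, IsAffineOpen U ∧ x ∈ U := by
  obtain ⟨U, hU, hxU, -⟩ :=
    Opens.isBasis_iff_nbhd.mp X.isBasis_affineOpens (Opens.mem_top x)
  exact ⟨U, hU, hxU⟩

/-- a ℂ-point is determined by its underlying point -/
theorem pt_injective : Function.Injective (Pts.pt : Pts X → X) := by
  intro x y hxy
  obtain ⟨U, hU, hxU⟩ := exists_affine_nhd x.pt
  obtain ⟨x', rfl⟩ := exists_map_ι_eq U x hxU
  obtain ⟨y', rfl⟩ := exists_map_ι_eq U y (hxy ▸ hxU)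
  have : IsAffine (U : Scheme.{0}) := hU
  congr 1
  apply pt_injective_of_isAffine
  rw [Pts.pt_map, Pts.pt_map] at hxy
  exact U.ι.isOpenEmbedding.injective hxy

/-- the prime ideal of the point underlying a ℂ-point of an affine scheme is the kernel of the
evaluation -/
lemma toSpecΓ_pt_asIdeal (x : Pts X) :
    (X.toSpecΓ x.pt).asIdeal = RingHom.ker (evHom x ⊤ (Opens.mem_top _)) := by
  ext f
  have h1 := pt_mem_basicOpen_iff x ⊤ (Opens.mem_top _) f
  have h2 : x.pt ∈ X.basicOpen f ↔ X.toSpecΓ x.pt ∈ PrimeSpectrum.basicOpen f := by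
    rw [← Scheme.toSpecΓ_preimage_basicOpen]
    rfl
  rw [RingHom.mem_ker, evHom_apply]
  have h3 : X.toSpecΓ x.pt ∈ PrimeSpectrum.basicOpen f ↔ f ∉ (X.toSpecΓ x.pt).asIdeal := Iff.rfl
  rw [h2, h3] at h1
  exact not_iff_not.mp h1

lemma evHom_surjective (x : Pts X) : Function.Surjective (evHom x ⊤ (Opens.mem_top _)) :=
  fun c => ⟨strHom X c, evTop_strHom x c⟩

lemma isMaximal_toSpecΓ_pt (x : Pts X) : (X.toSpecΓ x.pt).asIdeal.IsMaximal := by
  rw [toSpecΓ_pt_asIdeal]
  exact RingHom.ker_isMaximal_of_surjective _ (evHom_surjective x)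

omit [X.Over SC] in
lemma isClosed_singleton_iff_of_isAffine [IsAffine X] (y : X) :
    IsClosed ({y} : Set X) ↔ (X.toSpecΓ y).asIdeal.IsMaximal := by
  rw [← PrimeSpectrum.isClosed_singleton_iff_isMaximal]
  have hh : IsHomeomorph X.toSpecΓ := by
    apply (TopCat.isIso_iff_isHomeomorph _).mp
    infer_instance
  rw [hh.isClosedEmbedding.isClosed_iff_image_isClosed, Set.image_singleton]
  exact Iff.rfl

/-- the point underlying a ℂ-point of an affine scheme is closed -/
lemma isClosed_singleton_pt_of_isAffine [IsAffine X] (x : Pts X) : IsClosed ({x.pt} : Set X) :=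
  (isClosed_singleton_iff_of_isAffine x.pt).mpr (isMaximal_toSpecΓ_pt x)

omit [X.Over SC] in
lemma eq_of_toSpecΓ_asIdeal_eq [IsAffine X] (y z : X)
    (h : (X.toSpecΓ y).asIdeal = (X.toSpecΓ z).asIdeal) : y = z := by
  have hh : IsHomeomorph X.toSpecΓ := by
    apply (TopCat.isIso_iff_isHomeomorph _).mp
    infer_instance
  exact hh.injective (PrimeSpectrum.ext h)

/-- Nullstellensatz on an affine scheme of finite type over ℂ -/
lemma exists_pt_eq_of_isClosed_of_isAffine [IsAffine X] [LocallyOfFiniteType (X ↘ SC)]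
    (y : X) (hy : IsClosed ({y} : Set X)) : ∃ x : Pts X, x.pt = y := by
  have hmax := (isClosed_singleton_iff_of_isAffine y).mp hy
  let _ : Algebra ℂ Γ(X, ⊤) := (strHom X).toAlgebra
  have hft : Algebra.FiniteType ℂ Γ(X, ⊤) := finiteType_strHom (X := X)
  obtain ⟨ev, hev⟩ := Groth.Agent.Lib.Helper21.exists_algHom_ker_eq_of_isMaximal ℂ Γ(X, ⊤)
    (X.toSpecΓ y).asIdeal
  let x : Pts X := ofHom (ev : Γ(X, ⊤) →+* ℂ) (fun c => ev.commutes c)
  refine ⟨x, eq_of_toSpecΓ_asIdeal_eq _ _ ?_⟩
  rw [toSpecΓ_pt_asIdeal, ← hev]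
  ext f
  simp only [RingHom.mem_ker, evHom_apply]
  rw [show x.ev ⊤ (Opens.mem_top _) f = x.evTop f from rfl, evTop_ofHom]

instance lft_opens (U : X.Opens) [LocallyOfFiniteType (X ↘ SC)] :
    LocallyOfFiniteType ((U : Scheme.{0}) ↘ SC) :=
  inferInstanceAs (LocallyOfFiniteType (U.ι ≫ X ↘ SC))

lemma jacobsonSpace [LocallyOfFiniteType (X ↘ SC)] : JacobsonSpace X :=
  LocallyOfFiniteType.jacobsonSpace (X ↘ SC)

/-- Nullstellensatz: every closed point of a scheme locally of finite type over ℂ underlies a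
ℂ-point -/
theorem exists_pt_eq_of_isClosed [LocallyOfFiniteType (X ↘ SC)]
    (y : X) (hy : IsClosed ({y} : Set X)) : ∃ x : Pts X, x.pt = y := by
  obtain ⟨U, hU, hyU⟩ := exists_affine_nhd y
  have : IsAffine (U : Scheme.{0}) := hU
  have hy' : IsClosed ({⟨y, hyU⟩} : Set U) := by
    have := hy.preimage U.ι.continuous
    convert this using 1
    ext z
    simp only [Set.mem_singleton_iff, Set.mem_preimage]
    constructor
    · rintro rfl; rfl
    · intro h; exact Subtype.ext h
  obtain ⟨x', hx'⟩ := exists_pt_eq_of_isClosed_of_isAffine (X := (U : Scheme.{0})) ⟨y, hyU⟩ hy'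
  refine ⟨Pts.map U.ι x', ?_⟩
  rw [Pts.pt_map, hx']
  rfl

/-- the point underlying a ℂ-point is closed -/
theorem isClosed_singleton_pt [LocallyOfFiniteType (X ↘ SC)] (x : Pts X) :
    IsClosed ({x.pt} : Set X) := by
  have := jacobsonSpace (X := X)
  apply isClosed_singleton_of_isLocallyClosed_singleton
  obtain ⟨U, hU, hxU⟩ := exists_affine_nhd x.pt
  have : IsAffine (U : Scheme.{0}) := hU
  obtain ⟨x', rfl⟩ := exists_map_ι_eq U x hxU
  have h1 := isClosed_singleton_pt_of_isAffine x'
  rw [Pts.pt_map, ← Set.image_singleton]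
  exact h1.isLocallyClosed.image U.ι.isOpenEmbedding.isInducing
    U.ι.isOpenEmbedding.isOpen_range.isLocallyClosed

theorem range_pt [LocallyOfFiniteType (X ↘ SC)] :
    Set.range (Pts.pt : Pts X → X) = closedPoints X := by
  ext y
  constructor
  · rintro ⟨x, rfl⟩
    exact isClosed_singleton_pt x
  · intro hy
    exact exists_pt_eq_of_isClosed y hy

theorem nonempty_iff [LocallyOfFiniteType (X ↘ SC)] : Nonempty X ↔ Nonempty (Pts X) := by
  have := jacobsonSpace (X := X)
  constructor
  · rintro ⟨y⟩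
    obtain ⟨z, -, hz⟩ := nonempty_inter_closedPoints (X := X) (Z := Set.univ) ⟨y, trivial⟩
      isClosed_univ.isLocallyClosed
    obtain ⟨x, -⟩ := exists_pt_eq_of_isClosed z hz
    exact ⟨x⟩
  · rintro ⟨x⟩
    exact ⟨x.pt⟩

theorem locallyCompactSpace_of_isAffine [IsAffine X] [LocallyOfFiniteType (X ↘ SC)] :
    LocallyCompactSpace (Pts X) := by
  obtain ⟨n, s, hs⟩ := exists_generators (X := X)
  exact (isClosedEmbedding_coordMap s hs).locallyCompactSpace

theorem locallyCompactSpace [LocallyOfFiniteType (X ↘ SC)] : LocallyCompactSpace (Pts X) := by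
  constructor
  intro x n hn
  obtain ⟨U, hU, hxU⟩ := exists_affine_nhd x.pt
  have : IsAffine (U : Scheme.{0}) := hU
  obtain ⟨x', rfl⟩ := exists_map_ι_eq U x hxU
  have hoe := Groth.Agent.Lib.Helper10.AnPts.isOpenEmbedding_map_of_isOpenImmersion U.ι
  have := locallyCompactSpace_of_isAffine (X := (U : Scheme.{0}))
  have hn' : Pts.map U.ι ⁻¹' n ∈ 𝓝 x' := hoe.continuous.continuousAt hn
  obtain ⟨K, hK, hKn, hKc⟩ := local_compact_nhds hn'
  refine ⟨Pts.map U.ι '' K, hoe.image_mem_nhds.mpr hK, ?_, hKc.image hoe.continuous⟩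
  rintro _ ⟨z, hz, rfl⟩
  exact hKn hz

end Groth.Agent.Lib.Helper21.AnPts
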