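import Groth.Agent.Lib.Helper21.GaPts

/-!
# Points of the diagonalisable group schemes `D_S(M)` (helper21)

For `x : X ⟶ Red.DS S M` and `m : M`, `dsFn m x : Γ(X, O_X)` is the value of the character `m` on the point `x`.
-/

set_option autoImplicit false
universe u
open CategoryTheory MonoidalCategory CartesianMonoidalCategory MonObj GrpObj AlgebraicGeometry CategoryTheory.Limits
open scoped TensorProduct

namespace Groth.Agent.Lib.Helper21.GaPts

section DS

variable {S : Scheme.{u}} {M : Type} [AddCommGroup M]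

/-- The first projection of a point of `D_S(M)`: a morphism to `Spec ℤ[M]`. -/
noncomputable def dsProj {X : Over S} (x : X ⟶ Red.DS S M) :
    X.left ⟶ Spec (CommRingCat.of (MonoidAlgebra (ULift.{u} ℤ) (Multiplicative M))) :=
  x.left ≫ pullback.fst _ _

/-- The ring map `ℤ[M] → Γ(X, O_X)` defined by a point of `D_S(M)`. -/
noncomputable def dsHom {X : Over S} (x : X ⟶ Red.DS S M) :
    MonoidAlgebra (ULift.{u} ℤ) (Multiplicative M) →+* Γ(X.left, ⊤) :=
  evalHom (dsProj x)

/-- The value of the character `m` on the point `x` of `D_S(M)`. -/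
noncomputable def dsFn (m : M) {X : Over S} (x : X ⟶ Red.DS S M) : Γ(X.left, ⊤) :=
  dsHom x (MonoidAlgebra.single (Multiplicative.ofAdd m) 1)

theorem gmFn_eq_dsFn {X : Over S} (t : X ⟶ Red.Gm S) : Red.gmFn t = dsFn (1 : ℤ) t := rfl

theorem dsFn_zero {X : Over S} (x : X ⟶ Red.DS S M) : dsFn (0 : M) x = 1 := by
  rw [dsFn, ofAdd_zero, ← MonoidAlgebra.one_def, map_one]

theorem dsFn_add (m m' : M) {X : Over S} (x : X ⟶ Red.DS S M) :
    dsFn (m + m') x = dsFn m x * dsFn m' x := by
  rw [dsFn, dsFn, dsFn, ← map_mul, MonoidAlgebra.single_mul_single, ofAdd_add, _root_.mul_one]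

theorem dsFn_neg_mul (m : M) {X : Over S} (x : X ⟶ Red.DS S M) : dsFn (-m) x * dsFn m x = 1 := by
  rw [← dsFn_add, neg_add_cancel, dsFn_zero]

theorem isUnit_dsFn (m : M) {X : Over S} (x : X ⟶ Red.DS S M) : IsUnit (dsFn m x) :=
  IsUnit.of_mul_eq_one _ (by rw [mul_comm]; exact dsFn_neg_mul m x)

theorem dsFn_nsmul (n : ℕ) (m : M) {X : Over S} (x : X ⟶ Red.DS S M) :
    dsFn (n • m) x = dsFn m x ^ n := by
  induction n with
  | zero => rw [zero_smul, dsFn_zero, pow_zero]
  | succ n ih => rw [succ_nsmul, dsFn_add, ih, pow_succ]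

/-- The group law of `D_S(M)` multiplies character values. -/
theorem dsFn_mul (m : M) {X : Over S} (x y : X ⟶ Red.DS S M) :
    dsFn m (x * y) = dsFn m x * dsFn m y := by
  have h := bc_mul_left_fst (specULiftZIsTerminal.from S) (Red.diag (ULift.{u} ℤ) M) x y
  refine (congrArg (fun z : X.left ⟶ Spec (CommRingCat.of (MonoidAlgebra (ULift.{u} ℤ) (Multiplicative M))) =>
    evalHom z (MonoidAlgebra.single (Multiplicative.ofAdd m) 1)) h).trans ?_
  exact evalHom_lift_mul_of_grouplike _ _ _ _ _ _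
    (MonoidAlgebra.isGroupLikeElem_single_one (R := ULift.{u} ℤ) (A := ULift.{u} ℤ)
      (Multiplicative.ofAdd m)).comul_eq_tmul_self

theorem dsFn_one (m : M) {X : Over S} : dsFn m (1 : X ⟶ Red.DS S M) = 1 := by
  have h := dsFn_mul m (1 : X ⟶ Red.DS S M) 1
  rw [show (1 : X ⟶ Red.DS S M) * 1 = 1 from _root_.mul_one (1 : X ⟶ Red.DS S M)] at h
  exact (isUnit_dsFn m _).mul_left_cancel (by rw [← h, _root_.mul_one])

theorem dsFn_pow (m : M) {X : Over S} (x : X ⟶ Red.DS S M) (n : ℕ) :
    dsFn m (x ^ n) = dsFn m x ^ n := by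
  induction n with
  | zero => rw [pow_zero, dsFn_one, pow_zero]
  | succ n ih => rw [pow_succ, dsFn_mul, ih, pow_succ]

theorem dsFn_comp (m : M) {X X' : Over S} (g : X' ⟶ X) (x : X ⟶ Red.DS S M) :
    dsFn m (g ≫ x) = g.left.appTop (dsFn m x) := by
  rw [dsFn, dsFn, dsHom, dsHom, dsProj, dsProj, Over.comp_left, Category.assoc, evalHom_comp_apply]

end DS


section DSPoints

variable {S : Scheme.{u}} {M N : Type} [AddCommGroup M] [AddCommGroup N]

/-- Ring maps out of `ℤ[M]` (universe-lifted) are determined by their values on the group elements. -/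
theorem monAlgHom_ext {B : Type*} [CommRing B]
    (ψ₁ ψ₂ : MonoidAlgebra (ULift.{u} ℤ) (Multiplicative M) →+* B)
    (h : ∀ m : M, ψ₁ (MonoidAlgebra.single (Multiplicative.ofAdd m) 1) =
      ψ₂ (MonoidAlgebra.single (Multiplicative.ofAdd m) 1)) : ψ₁ = ψ₂ := by
  refine MonoidAlgebra.ringHom_ext (fun r => ?_) (fun m => h (Multiplicative.toAdd m))
  have hr : (MonoidAlgebra.single (1 : Multiplicative M) r : MonoidAlgebra (ULift.{u} ℤ) (Multiplicative M)) =
      ((r.down : ℤ) : MonoidAlgebra (ULift.{u} ℤ) (Multiplicative M)) := by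
    have hr' : r = ((r.down : ℤ) : ULift.{u} ℤ) := by
      apply ULift.ext; simp
    conv_lhs => rw [hr']
    rw [← map_intCast (MonoidAlgebra.singleOneRingHom (R := ULift.{u} ℤ) (M := Multiplicative M))]
    rfl
  rw [hr, map_intCast, map_intCast]

theorem dsFn_injective {X : Over S} {x y : X ⟶ Red.DS S M} (h : ∀ m : M, dsFn m x = dsFn m y) : x = y := by
  apply Over.OverMorphism.ext
  apply pullback.hom_ext
  · apply evalHom_injective
    exact monAlgHom_ext _ _ h
  · have hx := Over.w x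
    have hy := Over.w y
    dsimp at hx hy
    rw [hx, hy]

/-- The ring map `ℤ[M] → B` defined by a character `M → B`. -/
noncomputable def monAlgHom {B : Type u} [CommRing B] (χ : Multiplicative M →* B) :
    MonoidAlgebra (ULift.{u} ℤ) (Multiplicative M) →+* B :=
  MonoidAlgebra.liftNCRingHom ((Int.castRingHom B).comp (ULift.ringEquiv : ULift.{u} ℤ ≃+* ℤ).toRingHom) χ
    (fun _ _ => Commute.all _ _)

theorem monAlgHom_single {B : Type u} [CommRing B] (χ : Multiplicative M →* B) (m : M) :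
    monAlgHom χ (MonoidAlgebra.single (Multiplicative.ofAdd m) 1) = χ (Multiplicative.ofAdd m) := by
  rw [monAlgHom, MonoidAlgebra.liftNCRingHom_single]
  change ((1 : ℤ) : B) * _ = _
  simp

/-- The point of `D_S(M)` with values in `X` defined by a character `M → Γ(X, O_X)`. -/
noncomputable def dsPt {X : Over S} (χ : Multiplicative M →* Γ(X.left, ⊤)) : X ⟶ Red.DS S M :=
  Over.homMk (pullback.lift (ofRingHom (monAlgHom χ)) X.hom (specULiftZIsTerminal.hom_ext _ _))
    (pullback.lift_snd _ _ _)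

@[simp]
theorem dsFn_dsPt {X : Over S} (χ : Multiplicative M →* Γ(X.left, ⊤)) (m : M) :
    dsFn m (dsPt (S := S) χ) = χ (Multiplicative.ofAdd m) := by
  have h : dsProj (dsPt (S := S) χ) = ofRingHom (monAlgHom χ) := pullback.lift_fst _ _ _
  rw [dsFn, dsHom, h, evalHom_ofRingHom, monAlgHom_single]

/-- The character `M → Γ(X, O_X)` of a point of `D_S(M)`. -/
noncomputable def dsChar {X : Over S} (x : X ⟶ Red.DS S M) : Multiplicative M →* Γ(X.left, ⊤) where
  toFun m := dsFn (Multiplicative.toAdd m) x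
  map_one' := dsFn_zero x
  map_mul' _ _ := dsFn_add _ _ x

theorem dsPt_dsChar {X : Over S} (x : X ⟶ Red.DS S M) : dsPt (dsChar x) = x :=
  dsFn_injective fun m => by rw [dsFn_dsPt]; rfl

/-- Naturality in the character group: `D_S(φ)` acts on character values by `φ`. -/
theorem dsFn_DSmap (φ : M →+ N) (m : M) {X : Over S} (x : X ⟶ Red.DS S N) :
    dsFn m (x ≫ Red.DSmap S φ) = dsFn (φ m) x := by
  have h : dsProj (x ≫ Red.DSmap S φ) = dsProj x ≫ Spec.map (CommRingCat.ofHom
      (MonoidAlgebra.mapDomainAlgHom (ULift.{u} ℤ) (ULift.{u} ℤ) (AddMonoidHom.toMultiplicative φ)).toRingHom) := by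
    rw [dsProj, dsProj, Over.comp_left, Category.assoc, Category.assoc]
    congr 1
    exact pullback.lift_fst _ _ _
  rw [dsFn, dsHom, h, evalHom_specMap_apply]
  congr 1
  change MonoidAlgebra.mapDomain _ _ = _
  rw [MonoidAlgebra.mapDomain_single]
  rfl

end DSPoints

end Groth.Agent.Lib.Helper21.GaPts
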