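import Mathlib
import Groth.Agent.Lib.Helper1.GeomIrrSep

/-!
# Geometric irreducibility of fibres via geometric points
-/

set_option autoImplicit false
set_option linter.style.haveILetI false
set_option linter.unusedSectionVars false
universe u

open AlgebraicGeometry CategoryTheory Limits TopologicalSpace

namespace Groth.Agent.Lib.Helper21.GIS

variable {X Y : Scheme.{u}}

theorem exists_factor {K : Type u} [Field K] (a : Spec (CommRingCat.of K) ⟶ Y) (s : Y)
    (hs : a (IsLocalRing.closedPoint K) = s) :
    ∃ φ : Y.residueField s ⟶ CommRingCat.of K, Spec.map φ ≫ Y.fromSpecResidueField s = a := by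
  subst hs
  exact ⟨_, Scheme.descResidueField_stalkClosedPointTo_fromSpecResidueField K Y a⟩

/-- a fibre is geometrically irreducible: all its base changes to field-valued points are
irreducible -/
theorem irreducibleSpace_of_isPullback (f : X ⟶ Y) (s : Y)
    [h : GeometricallyIrreducible (f.fiberToSpecResidueField s)] {K : Type u} [Field K]
    (a : Spec (CommRingCat.of K) ⟶ Y) (hs : a (IsLocalRing.closedPoint K) = s)
    {Z : Scheme.{u}} (fst : Z ⟶ X) (snd : Z ⟶ Spec (CommRingCat.of K))
    (hp : IsPullback fst snd f a) : IrreducibleSpace Z := by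
  obtain ⟨φ, rfl⟩ := exists_factor a s hs
  haveI h1 : IrreducibleSpace ↥(pullback (f.fiberToSpecResidueField s) (Spec.map φ)) :=
    h.geometrically_irreducibleSpace _ _ _ (.of_hasPullback _ _)
  have e1 : pullback (f.fiberToSpecResidueField s) (Spec.map φ) ≅
      pullback f (Spec.map φ ≫ Y.fromSpecResidueField s) :=
    pullbackLeftPullbackSndIso f (Y.fromSpecResidueField s) (Spec.map φ)
  have e2 : Z ≅ pullback f (Spec.map φ ≫ Y.fromSpecResidueField s) := hp.isoPullback
  exact (e2 ≪≫ e1.symm).hom.homeomorph.irreducibleSpace_iff.mpr h1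

/-- a fibre is geometrically irreducible as soon as one of its base changes to a separably
closed field is irreducible -/
theorem geometricallyIrreducible_fiber_of_irreducibleSpace (f : X ⟶ Y) (s : Y) {L : Type u}
    [Field L] [IsSepClosed L] (a : Spec (CommRingCat.of L) ⟶ Y)
    (hs : a (IsLocalRing.closedPoint L) = s) [h : IrreducibleSpace ↥(pullback f a)] :
    GeometricallyIrreducible (f.fiberToSpecResidueField s) := by
  obtain ⟨φ, rfl⟩ := exists_factor a s hs
  have e1 : pullback (f.fiberToSpecResidueField s) (Spec.map φ) ≅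
      pullback f (Spec.map φ ≫ Y.fromSpecResidueField s) :=
    pullbackLeftPullbackSndIso f (Y.fromSpecResidueField s) (Spec.map φ)
  haveI : IrreducibleSpace ↥(pullback (f.fiberToSpecResidueField s) (Spec.map φ)) :=
    e1.hom.homeomorph.irreducibleSpace_iff.mpr h
  exact Groth.Agent.Lib.Helper1.GeomIrrSep.geometricallyIrreducible_of_sepClosed
    (k := Y.residueField s) (f.fiberToSpecResidueField s) (Spec.map φ)

/-- geometric irreducibility of a restriction can be checked on the fibres of the morphism -/
theorem geometricallyIrreducible_restrict_of_forall_fiber (f : X ⟶ Y) (V : Y.Opens)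
    (H : ∀ s ∈ V, GeometricallyIrreducible (f.fiberToSpecResidueField s)) :
    GeometricallyIrreducible (f ∣_ V) := by
  refine ⟨fun K _ y Z fst snd h => ?_⟩
  have hp : IsPullback (fst ≫ (f ⁻¹ᵁ V).ι) snd f (y ≫ V.ι) :=
    h.paste_horiz (isPullback_morphismRestrict f V).flip
  have hs : ((y ≫ V.ι) (IsLocalRing.closedPoint K)) ∈ V := by
    rw [Scheme.Hom.comp_apply]
    exact (y (IsLocalRing.closedPoint K)).2
  haveI := H _ hs
  exact irreducibleSpace_of_isPullback f _ (y ≫ V.ι) rfl _ _ hp

end Groth.Agent.Lib.Helper21.GIS
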