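import Mathlib
import Groth.Agent.Lib.Helper1.GeomConnPoint
import Groth.Agent.Lib.Helper16.LocNoeth
import Groth.Agent.Lib.Helper21.GIS2
import Groth.Prelude.Def_MoreMor

/-!
# Section components commute with base change
-/

set_option autoImplicit false
set_option linter.style.haveILetI false
set_option linter.unusedSectionVars false
universe u

open AlgebraicGeometry CategoryTheory Limits TopologicalSpace

namespace Groth.Agent.Lib.Helper21.SCmp

open Groth.Agent.Lib.Helper21.GIS

/-- locally Noetherian schemes are locally connected -/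
theorem locallyConnectedSpace_of_isLocallyNoetherian (X : Scheme.{u}) [IsLocallyNoetherian X] :
    LocallyConnectedSpace X := by
  apply Groth.Agent.Lib.Helper16.locallyConnectedSpace_of_locallyNoetherian
  intro x
  obtain ⟨_, ⟨U, hU, rfl⟩, hxU, -⟩ := X.isBasis_affineOpens.exists_subset_of_mem_open
    (Set.mem_univ x) isOpen_univ
  haveI : IsNoetherianRing Γ(X, U) := IsLocallyNoetherian.component_noetherian ⟨U, hU⟩
  exact ⟨U, U.2.mem_nhds hxU, noetherianSpace_of_isAffineOpen U hU⟩

/-- a connected open subscheme of a scheme over a field containing a rational point is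
geometrically connected -/
theorem geometricallyConnected_of_section {k : Type u} [Field k] {F : Scheme.{u}}
    (h : F ⟶ Spec (CommRingCat.of k)) (σ : Spec (CommRingCat.of k) ⟶ F) (hσ : σ ≫ h = 𝟙 _)
    (U : F.Opens) (hU : σ (IsLocalRing.closedPoint k) ∈ U) [ConnectedSpace U] :
    GeometricallyConnected (U.ι ≫ h) := by
  have hrange : Set.range σ ⊆ Set.range U.ι := by
    rintro _ ⟨z, rfl⟩
    have hz : z = IsLocalRing.closedPoint k := Subsingleton.elim (α := PrimeSpectrum k) _ _
    rw [hz, Scheme.Opens.range_ι]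
    exact hU
  let σU : Spec (CommRingCat.of k) ⟶ U.toScheme := IsOpenImmersion.lift U.ι σ hrange
  have hσU : σU ≫ U.ι = σ := IsOpenImmersion.lift_fac _ _ _
  let c : U.toScheme := σU (IsLocalRing.closedPoint k)
  obtain ⟨ψ, hψ⟩ := exists_factor σU c rfl
  let φ : CommRingCat.of k ⟶ U.toScheme.residueField c :=
    Spec.preimage (U.toScheme.fromSpecResidueField c ≫ U.ι ≫ h)
  have hφ : Spec.map φ = U.toScheme.fromSpecResidueField c ≫ U.ι ≫ h := Spec.map_preimage _
  have hcomp : φ ≫ ψ = 𝟙 _ := by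
    apply Spec.map_injective
    rw [Spec.map_comp, hφ, ← Category.assoc, hψ, ← Category.assoc, hσU, hσ, Spec.map_id]
  have hψinj : Function.Injective ψ.hom := ψ.hom.injective
  refine Groth.Agent.Lib.Helper1.GeomConnPoint.geometricallyConnected_of_point' (U.ι ≫ h) c
    φ.hom ?_ ?_
  · rw [← hφ]
    rfl
  · intro α _
    refine ⟨ψ.hom α, ?_⟩
    apply hψinj
    have := congrArg (fun t => t.hom (ψ.hom α)) hcomp
    exact this

variable {X Y : Scheme.{u}}

theorem section_apply (f : X ⟶ Y) (s : Y ⟶ X) (hs : s ≫ f = 𝟙 Y) (v : Y) : f (s v) = v := by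
  rw [← Scheme.Hom.comp_apply, hs]
  rfl

/-- the connected component of the section in a fibre, inside the scheme-theoretic fibre -/
theorem exists_opens_fiber (f : X ⟶ Y) [LocallyOfFiniteType f] (s : Y ⟶ X) (hs : s ≫ f = 𝟙 Y)
    (v : Y) :
    ∃ U : (f.fiber v).Opens, (U : Set (f.fiber v)) =
        (f.fiberι v) ⁻¹' (connectedComponentIn (f ⁻¹' {v}) (s v)) ∧
      GeometricallyConnected (U.ι ≫ f.fiberToSpecResidueField v) := by
  haveI : LocallyOfFiniteType (f.fiberToSpecResidueField v) :=
    MorphismProperty.pullback_snd _ _ inferInstance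
  haveI : IsLocallyNoetherian (f.fiber v) :=
    LocallyOfFiniteType.isLocallyNoetherian (f.fiberToSpecResidueField v)
  haveI : LocallyConnectedSpace (f.fiber v) := locallyConnectedSpace_of_isLocallyNoetherian _
  let σ : Spec (Y.residueField v) ⟶ f.fiber v :=
    pullback.lift (Y.fromSpecResidueField v ≫ s) (𝟙 _) (by rw [Category.assoc, hs]; simp)
  have hσ1 : σ ≫ f.fiberToSpecResidueField v = 𝟙 _ := pullback.lift_snd _ _ _
  have hσ2 : σ ≫ f.fiberι v = Y.fromSpecResidueField v ≫ s := pullback.lift_fst _ _ _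
  let c₀ : f.fiber v := σ (IsLocalRing.closedPoint (Y.residueField v))
  have hc₀ : f.fiberι v c₀ = s v := by
    change (σ ≫ f.fiberι v) _ = _
    rw [hσ2, Scheme.Hom.comp_apply, Scheme.fromSpecResidueField_apply]
  have hsv : s v ∈ f ⁻¹' {v} := section_apply f s hs v
  have hpre : (f.fiberι v) ⁻¹' (connectedComponentIn (f ⁻¹' {v}) (s v)) =
      connectedComponent c₀ := by
    have h1 : (f.fiberHomeo v) '' connectedComponent c₀ =
        connectedComponent (f.fiberHomeo v c₀) := by
      have := (f.fiberHomeo v).image_connectedComponentIn (s := Set.univ) (x := c₀) trivial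
      rwa [connectedComponentIn_univ, Set.image_univ, (f.fiberHomeo v).surjective.range_eq,
        connectedComponentIn_univ] at this
    have hc' : (⟨s v, hsv⟩ : f ⁻¹' {v}) = f.fiberHomeo v c₀ := Subtype.ext hc₀.symm
    ext z
    rw [Set.mem_preimage, connectedComponentIn_eq_image hsv, hc', ← h1]
    constructor
    · rintro ⟨w, ⟨z', hz', rfl⟩, hwz⟩
      have : z' = z := (f.fiberι v).isEmbedding.injective hwz
      rw [← this]
      exact hz'
    · intro hz
      exact ⟨f.fiberHomeo v z, ⟨z, hz, rfl⟩, rfl⟩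
  let U : (f.fiber v).Opens := ⟨connectedComponent c₀, isOpen_connectedComponent⟩
  refine ⟨U, hpre.symm, ?_⟩
  haveI : ConnectedSpace U :=
    isConnected_iff_connectedSpace.mp isConnected_connectedComponent
  exact geometricallyConnected_of_section (k := Y.residueField v)
    (f.fiberToSpecResidueField v) σ hσ1 U mem_connectedComponent

/-- the component of the section in a fibre of a base change is the preimage of the component of
the section in the fibre of the original morphism -/
theorem connectedComponentIn_of_isPullback {X' Y' : Scheme.{u}} {f : X ⟶ Y} {f' : X' ⟶ Y'}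
    {ρ : X' ⟶ X} {g : Y' ⟶ Y} [LocallyOfFiniteType f] (hc : IsPullback ρ f' f g)
    (s : Y ⟶ X) (hs : s ≫ f = 𝟙 Y) (s' : Y' ⟶ X') (hs' : s' ≫ f' = 𝟙 Y')
    (hss : s' ≫ ρ = g ≫ s) (v' : Y') :
    connectedComponentIn (f' ⁻¹' {v'}) (s' v') =
      ρ ⁻¹' (connectedComponentIn (f ⁻¹' {g v'}) (s (g v'))) ∩ f' ⁻¹' {v'} := by
  have hρs : ρ (s' v') = s (g v') := by
    rw [← Scheme.Hom.comp_apply, hss, Scheme.Hom.comp_apply]
  have hfρ : ∀ x' : X', f (ρ x') = g (f' x') := by
    intro x'
    rw [← Scheme.Hom.comp_apply, hc.w, Scheme.Hom.comp_apply]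
  have hs'v' : s' v' ∈ f' ⁻¹' {v'} := section_apply f' s' hs' v'
  have hsv : s (g v') ∈ f ⁻¹' {g v'} := section_apply f s hs (g v')
  apply Set.Subset.antisymm
  · intro x' hx'
    have hx'F : x' ∈ f' ⁻¹' {v'} := connectedComponentIn_subset _ _ hx'
    refine ⟨?_, hx'F⟩
    have hpre : _root_.IsPreconnected (ρ '' connectedComponentIn (f' ⁻¹' {v'}) (s' v')) :=
      isPreconnected_connectedComponentIn.image _ ρ.continuous.continuousOn
    have hsub : ρ '' connectedComponentIn (f' ⁻¹' {v'}) (s' v') ⊆ f ⁻¹' {g v'} := by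
      rintro _ ⟨x'', hx'', rfl⟩
      have hx''F : x'' ∈ f' ⁻¹' {v'} := connectedComponentIn_subset _ _ hx''
      have : f' x'' = v' := hx''F
      change f (ρ x'') = g v'
      rw [hfρ, this]
    have hmem : s (g v') ∈ ρ '' connectedComponentIn (f' ⁻¹' {v'}) (s' v') :=
      ⟨s' v', mem_connectedComponentIn hs'v', hρs⟩
    exact hpre.subset_connectedComponentIn hmem hsub ⟨x', hx', rfl⟩
  · obtain ⟨U, hU, hgc⟩ := exists_opens_fiber f s hs (g v')
    let m : f'.fiber v' ⟶ f.fiber (g v') :=
      pullback.map _ _ _ _ ρ (Spec.map (g.residueFieldMap v')) g hc.w.symm (by simp)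
    have hB : IsPullback m (f'.fiberToSpecResidueField v') (f.fiberToSpecResidueField (g v'))
        (Spec.map (g.residueFieldMap v')) := isPullback_fiberToSpecResidueField_of_isPullback hc v'
    have hA : IsPullback (m ∣_ U) (m ⁻¹ᵁ U).ι U.ι m := isPullback_morphismRestrict m U
    have hAB := hA.paste_vert hB
    haveI : ConnectedSpace ↥(m ⁻¹ᵁ U).toScheme :=
      hgc.geometrically_connectedSpace (K := Y'.residueField v')
        (Spec.map (g.residueFieldMap v')) _ _ hAB
    have hmι : m ≫ f.fiberι (g v') = f'.fiberι v' ≫ ρ := pullback.lift_fst _ _ _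
    have hmz : ∀ z : f'.fiber v', f.fiberι (g v') (m z) = ρ (f'.fiberι v' z) := by
      intro z
      rw [← Scheme.Hom.comp_apply, hmι, Scheme.Hom.comp_apply]
    have hD : ρ ⁻¹' (connectedComponentIn (f ⁻¹' {g v'}) (s (g v'))) ∩ f' ⁻¹' {v'} =
        (f'.fiberι v') '' ((m ⁻¹ᵁ U : (f'.fiber v').Opens) : Set (f'.fiber v')) := by
      ext x'
      constructor
      · rintro ⟨hx1, hx2⟩
        rw [← f'.range_fiberι v'] at hx2
        obtain ⟨z, rfl⟩ := hx2
        refine ⟨z, ?_, rfl⟩
        change m z ∈ (U : Set (f.fiber (g v')))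
        rw [hU, Set.mem_preimage, hmz]
        exact hx1
      · rintro ⟨z, hz, rfl⟩
        refine ⟨?_, ?_⟩
        · have hz' : m z ∈ (U : Set (f.fiber (g v'))) := hz
          rw [hU, Set.mem_preimage, hmz] at hz'
          exact hz'
        · rw [← f'.range_fiberι v']
          exact ⟨z, rfl⟩
    have hDconn : _root_.IsPreconnected
        (ρ ⁻¹' (connectedComponentIn (f ⁻¹' {g v'}) (s (g v'))) ∩ f' ⁻¹' {v'}) := by
      rw [hD]
      have h1 : _root_.IsPreconnected ((m ⁻¹ᵁ U : (f'.fiber v').Opens) : Set (f'.fiber v')) :=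
        (isConnected_iff_connectedSpace.mpr ‹_›).isPreconnected
      exact h1.image _ (f'.fiberι v').continuous.continuousOn
    refine hDconn.subset_connectedComponentIn ⟨?_, hs'v'⟩ Set.inter_subset_right
    change ρ (s' v') ∈ connectedComponentIn (f ⁻¹' {g v'}) (s (g v'))
    rw [hρs]
    exact mem_connectedComponentIn hsv

/-- **section components commute with base change** -/
theorem sectionComponents_of_isPullback {X' Y' : Scheme.{u}} {f : X ⟶ Y} {f' : X' ⟶ Y'}
    {ρ : X' ⟶ X} {g : Y' ⟶ Y} [LocallyOfFiniteType f] (hc : IsPullback ρ f' f g)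
    (s : Y ⟶ X) (hs : s ≫ f = 𝟙 Y) (s' : Y' ⟶ X') (hs' : s' ≫ f' = 𝟙 Y')
    (hss : s' ≫ ρ = g ≫ s) :
    MoreMor.sectionComponents f' s' = ρ ⁻¹' MoreMor.sectionComponents f s := by
  have hfρ : ∀ x' : X', f (ρ x') = g (f' x') := by
    intro x'
    rw [← Scheme.Hom.comp_apply, hc.w, Scheme.Hom.comp_apply]
  ext x'
  change x' ∈ connectedComponentIn (f' ⁻¹' {f' x'}) (s' (f' x')) ↔
    ρ x' ∈ connectedComponentIn (f ⁻¹' {f (ρ x')}) (s (f (ρ x')))
  rw [connectedComponentIn_of_isPullback hc s hs s' hs' hss (f' x'), hfρ]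
  exact ⟨fun h => h.1, fun h => ⟨h, rfl⟩⟩

end Groth.Agent.Lib.Helper21.SCmp
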