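import Groth.Agent.Lib.Helper21.BiratDense
import Groth.Agent.Lib.Helper12.QCSpecialization
import Mathlib.AlgebraicGeometry.Morphisms.Separated

/-!
# Birational morphisms (quasi-compact or separated) are isomorphisms over a dense open of the target
-/

set_option autoImplicit false
set_option linter.style.haveILetI false
universe u
open AlgebraicGeometry CategoryTheory CategoryTheory.Limits

namespace Groth.Agent.Lib.Helper21.Birat

variable {X Y : Scheme.{u}} (f : X ⟶ Y)

/-- If `f : U → V` is an isomorphism and `f⁻¹(V') ⊆ U` for an open `V' ⊆ V`, then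
`f⁻¹(V') → V'` is an isomorphism. -/
theorem isIso_morphismRestrict_of_isIso_resLE {U : X.Opens} {V : Y.Opens} (h : U ≤ f ⁻¹ᵁ V)
    (hIso : IsIso (f.resLE V U h)) (V' : Y.Opens) (hV' : V' ≤ V) (hU : f ⁻¹ᵁ V' ≤ U) :
    IsIso (f ∣_ V') := by
  rw [isIso_iff_isOpenImmersion_and_surjective]
  refine ⟨?_, ⟨?_⟩⟩
  · have h1 : (f ∣_ V') ≫ Y.homOfLE hV' = X.homOfLE hU ≫ f.resLE V U h := by
      rw [← Scheme.Hom.resLE_eq_morphismRestrict, Scheme.Hom.resLE_map, Scheme.Hom.map_resLE]
    have : IsOpenImmersion ((f ∣_ V') ≫ Y.homOfLE hV') := by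
      rw [h1]; infer_instance
    exact IsOpenImmersion.of_comp (f ∣_ V') (Y.homOfLE hV')
  · intro v
    have hbij : Function.Bijective (f.resLE V U h) :=
      (Scheme.homeoOfIso (asIso (f.resLE V U h))).bijective
    obtain ⟨u, hu⟩ := hbij.2 ⟨v.1, hV' v.2⟩
    have h2 : f u.1 = v.1 := by
      rw [← resLE_val f h u, hu]
    have hu' : u.1 ∈ f ⁻¹ᵁ V' := by
      change f u.1 ∈ V'
      rw [h2]; exact v.2
    refine ⟨⟨u.1, hu'⟩, ?_⟩
    apply Subtype.ext
    rw [← Scheme.Hom.resLE_eq_morphismRestrict, resLE_val]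
    exact h2

/-- Separated case: if `f : U → V` is an isomorphism with `U` dense, then `U = f⁻¹(V)`. -/
theorem preimage_le_of_isSeparated [IsSeparated f] {U : X.Opens} {V : Y.Opens}
    (h : U ≤ f ⁻¹ᵁ V) (hIso : IsIso (f.resLE V U h)) (hd : Dense (U : Set X)) :
    f ⁻¹ᵁ V ≤ U := by
  let s : V.toScheme ⟶ (f ⁻¹ᵁ V).toScheme := inv (f.resLE V U h) ≫ X.homOfLE h
  have hs : s ≫ (f ∣_ V) = 𝟙 _ := by
    have : X.homOfLE h ≫ (f ∣_ V) = f.resLE V U h := by
      rw [← Scheme.Hom.resLE_eq_morphismRestrict, Scheme.Hom.map_resLE]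
    rw [Category.assoc, this, IsIso.inv_hom_id]
  haveI : IsClosedImmersion (s ≫ (f ∣_ V)) := by rw [hs]; infer_instance
  have hcl : IsClosedImmersion s := IsClosedImmersion.of_comp s (f ∣_ V)
  have hrange : Set.range s = {z : (f ⁻¹ᵁ V).toScheme | z.1 ∈ U} := by
    ext z
    constructor
    · rintro ⟨v, rfl⟩
      change (s v).1 ∈ U
      have : (s v).1 = ((inv (f.resLE V U h)) v).1 := by
        change ((inv (f.resLE V U h) ≫ X.homOfLE h) v).1 = _
        rw [Scheme.Hom.comp_apply, Scheme.homOfLE_apply]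
      rw [this]
      exact ((inv (f.resLE V U h)) v).2
    · intro hz
      refine ⟨(f.resLE V U h) ⟨z.1, hz⟩, ?_⟩
      change (inv (f.resLE V U h) ≫ X.homOfLE h) ((f.resLE V U h) ⟨z.1, hz⟩) = z
      rw [← Scheme.Hom.comp_apply, IsIso.hom_inv_id_assoc]
      apply Subtype.ext
      rw [Scheme.homOfLE_apply]
  have hclosed : IsClosed {z : (f ⁻¹ᵁ V).toScheme | z.1 ∈ U} :=
    hrange ▸ s.isClosedEmbedding.isClosed_range
  have hdense : Dense {z : (f ⁻¹ᵁ V).toScheme | z.1 ∈ U} :=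
    hd.preimage (f ⁻¹ᵁ V).2.isOpenMap_subtype_val
  have huniv := hclosed.closure_eq ▸ hdense.closure_eq
  intro x hx
  have : (⟨x, hx⟩ : (f ⁻¹ᵁ V).toScheme) ∈ {z : (f ⁻¹ᵁ V).toScheme | z.1 ∈ U} := by
    rw [huniv]; trivial
  exact this

/-- Stacks 0BAC: a birational morphism which is quasi-compact or separated (and l.f.p., or
l.f.t. with reduced target) is an isomorphism over a dense open of the target. -/
theorem exists_dense_open_isIso_morphismRestrict
    (hXfin : (irreducibleComponents ↥X).Finite) (hYfin : (irreducibleComponents ↥Y).Finite)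
    (hbij : Set.BijOn (fun x : X => f.base x) (gen X) (gen Y))
    (hiso : ∀ x : X, x ∈ gen X → IsIso (f.stalkMap x))
    (hf₁ : QuasiCompact f ∨ IsSeparated f)
    (hf₂ : (LocallyOfFiniteType f ∧ IsReduced Y) ∨ LocallyOfFinitePresentation f) :
    ∃ V : Y.Opens, Dense (V : Set ↥Y) ∧ IsIso (f ∣_ V) := by
  obtain ⟨U, V, hUV, hUd, hVd, hIso⟩ := exists_dense_opens_isIso_resLE f hYfin hbij hiso hf₂
  rcases hf₁ with hqc | hsep
  · let T : Set X := (U : Set X)ᶜ
    have hT : IsClosed T := U.2.isClosed_compl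
    let Z : Set Y := closure (f '' T)
    let V' : Y.Opens := V ⊓ ⟨Zᶜ, isClosed_closure.isOpen_compl⟩
    refine ⟨V', ?_, ?_⟩
    · apply dense_of_gen_subset
      intro y hy
      refine ⟨gen_mem_of_dense_isOpen hYfin V.2 hVd hy, ?_⟩
      intro hyZ
      obtain ⟨t, htT, hty⟩ := Groth.Agent.Lib.Helper12.exists_specializes_of_mem_closure_image
        f T hT y hyZ
      have h1 : f t = y := eq_of_specializes_gen hy hty
      obtain ⟨x0, hx0, rfl⟩ := hbij.surjOn hy
      have h2 : t = x0 := eq_of_map_eq_gen f hbij.injOn hbij.mapsTo hiso hx0 h1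
      have h3 : x0 ∈ (U : Set X) := gen_mem_of_dense_isOpen hXfin U.2 hUd hx0
      exact htT (h2 ▸ h3)
    · apply isIso_morphismRestrict_of_isIso_resLE f hUV hIso V' inf_le_left
      intro x hx
      by_contra hxU
      exact hx.2 (subset_closure ⟨x, hxU, rfl⟩)
  · refine ⟨V, hVd, ?_⟩
    exact isIso_morphismRestrict_of_isIso_resLE f hUV hIso V le_rfl
      (preimage_le_of_isSeparated f hUV hIso hUd)

end Groth.Agent.Lib.Helper21.Birat
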