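import Groth.Agent.Lib.Helper21.ZMTExt2
import Mathlib.AlgebraicGeometry.Morphisms.Separated
import Mathlib.AlgebraicGeometry.Morphisms.FiniteType
import Mathlib.AlgebraicGeometry.AffineScheme
import Mathlib.AlgebraicGeometry.Properties

/-!
# Birational ZMT: extension of a rational section at a normal point (geometry)
-/

set_option autoImplicit false
universe u
open AlgebraicGeometry CategoryTheory Limits TopologicalSpace

namespace Groth.Agent.Lib.Helper21.ZMTExt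

section Top

variable {α β δ τ : Type*} [TopologicalSpace α] [TopologicalSpace β] [TopologicalSpace δ]

/-- The closure of the graph, seen in an open chart. -/
theorem preimage_closure_range_eq (γ : α → β) (hγ : Continuous γ) (i : δ → β)
    (hi : Topology.IsOpenEmbedding i) (g : τ → α) (k : τ → δ)
    (hcomm : ∀ t, i (k t) = γ (g t))
    (hdense : γ ⁻¹' (Set.range i) ⊆ closure (Set.range g)) :
    i ⁻¹' closure (Set.range γ) = closure (Set.range k) := by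
  rw [hi.isOpenMap.preimage_closure_eq_closure_preimage hi.continuous]
  apply subset_antisymm
  · refine closure_minimal ?_ isClosed_closure
    rintro w ⟨u, hu⟩
    have hu' : u ∈ closure (Set.range g) := hdense ⟨w, hu.symm⟩
    have h1 : γ u ∈ closure (γ '' Set.range g) :=
      image_closure_subset_closure_image hγ ⟨u, hu', rfl⟩
    have h2 : γ '' Set.range g = i '' Set.range k := by
      rw [← Set.range_comp, ← Set.range_comp]
      congr 1
      funext t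
      exact (hcomm t).symm
    rw [hi.isInducing.closure_eq_preimage_closure_image]
    change i w ∈ closure (i '' Set.range k)
    rw [← hu, ← h2]
    exact h1
  · apply closure_mono
    rintro _ ⟨t, rfl⟩
    exact ⟨g t, (hcomm t).symm⟩

end Top

section Geom

variable {X P : Scheme.{u}}

theorem isIntegrallyClosed_atPrime_of_stalk {X₁ : X.Opens} (hX₁ : IsAffineOpen X₁) (x : X)
    (hxX₁ : x ∈ X₁) (hx : IsIntegrallyClosed (X.presheaf.stalk x)) :
    IsIntegrallyClosed (Localization.AtPrime (hX₁.primeIdealOf ⟨x, hxX₁⟩).asIdeal) := by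
  let _ : Algebra Γ(X, X₁) (X.presheaf.stalk x) :=
    TopCat.Presheaf.algebra_section_stalk X.presheaf ⟨x, hxX₁⟩
  have := hX₁.isLocalization_stalk ⟨x, hxX₁⟩
  let e : (X.presheaf.stalk x) ≃+* Localization.AtPrime (hX₁.primeIdealOf ⟨x, hxX₁⟩).asIdeal :=
    (IsLocalization.algEquiv (hX₁.primeIdealOf ⟨x, hxX₁⟩).asIdeal.primeCompl
      (X.presheaf.stalk x) (Localization.AtPrime (hX₁.primeIdealOf ⟨x, hxX₁⟩).asIdeal)).toRingEquiv
  exact IsIntegrallyClosed.of_equiv e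

theorem isIntegrallyClosed_atPrime_congr {R : Type*} [CommRing R] {p p' : Ideal R} [p.IsPrime]
    [p'.IsPrime] (e : p = p') (h : IsIntegrallyClosed (Localization.AtPrime p)) :
    IsIntegrallyClosed (Localization.AtPrime p') := by
  subst e; exact h

theorem mem_basicOpen_iff_notMem_primeIdealOf {U : X.Opens} (hU : IsAffineOpen U)
    (x : X) (hxU : x ∈ U) (f : Γ(X, U)) :
    x ∈ X.basicOpen f ↔ f ∉ (hU.primeIdealOf ⟨x, hxU⟩).asIdeal := by
  let : Algebra Γ(X, U) (X.presheaf.stalk x) :=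
    TopCat.Presheaf.algebra_section_stalk X.presheaf ⟨x, hxU⟩
  have := hU.isLocalization_stalk ⟨x, hxU⟩
  rw [Scheme.mem_basicOpen _ _ _ hxU]
  exact IsLocalization.AtPrime.isUnit_to_map_iff (X.presheaf.stalk x)
    (hU.primeIdealOf ⟨x, hxU⟩).asIdeal f

theorem isDomain_of_isIntegral_opens (X₁ : X.Opens) [IsIntegral (X₁ : Scheme.{u})] :
    IsDomain Γ(X, X₁) := by
  have : Nonempty (X₁ : Scheme.{u}) := inferInstance
  have h : IsDomain Γ((X₁ : Scheme.{u}), ⊤) := inferInstance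
  exact MulEquiv.isDomain Γ((X₁ : Scheme.{u}), ⊤)
    (X₁.topIso.commRingCatIsoToRingEquiv.symm.toMulEquiv)

theorem isPreirreducible_of_isIntegral_opens (X₁ : X.Opens) [IsIntegral (X₁ : Scheme.{u})] :
    IsPreirreducible (X₁ : Set X) := by
  have h2 : IrreducibleSpace (X₁ : Scheme.{u}) := inferInstance
  exact ((isIrreducible_iff_irreducibleSpace (s := (X₁ : Set X))).mpr h2).isPreirreducible

theorem exists_local_extension (p₁ : P ⟶ X) [LocallyOfFiniteType p₁]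
    (U : X.Opens) (γ : (U : Scheme.{u}) ⟶ P) (hγ : γ ≫ p₁ = U.ι)
    (X₁ : X.Opens) (hX₁ : IsAffineOpen X₁) [IsIntegral (X₁ : Scheme.{u})]
    (x : X) (hxX₁ : x ∈ X₁) (hx : IsIntegrallyClosed (X.presheaf.stalk x))
    (z : P) (hz : p₁ z = x) (hzΓ : z ∈ closure (Set.range γ))
    (W : P.Opens) (hiso : (W : Set P) ∩ closure (Set.range γ) ∩ p₁ ⁻¹' {x} = {z}) :
    ∃ (V V' : X.Opens) (v : (V : Scheme.{u}) ⟶ P) (hV'V : V' ≤ V) (hV'U : V' ≤ U),
      x ∈ V ∧ V ≤ X₁ ∧ (V' : Set X).Nonempty ∧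
      v ≫ p₁ = V.ι ∧ X.homOfLE hV'V ≫ v = X.homOfLE hV'U ≫ γ := by
  classical
  subst hz
  have hγpt : ∀ u, p₁ (γ u) = U.ι u := fun u => by rw [← Scheme.Hom.comp_apply, hγ]
  -- Step 1: an affine chart of `P` around `z` lying over `X₁`
  obtain ⟨P₀, hP₀, hzP₀, hP₀le⟩ := Opens.isBasis_iff_nbhd.mp P.isBasis_affineOpens
    (show z ∈ p₁ ⁻¹ᵁ X₁ from hxX₁)
  replace hP₀ : IsAffineOpen P₀ := hP₀
  -- Step 2: the graph meets the chart
  obtain ⟨_, hw1, ⟨u₀, rfl⟩⟩ := mem_closure_iff.mp hzΓ P₀ P₀.isOpen hzP₀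
  let O : (U : Scheme.{u}).Opens := γ ⁻¹ᵁ P₀
  have hu₀O : u₀ ∈ O := hw1
  let O' : X.Opens := U.ι ''ᵁ O
  have hO'U : O' ≤ U := U.ι_image_le O
  have hOX₁ : ∀ u ∈ O, U.ι u ∈ X₁ := by
    intro u hu
    rw [← hγpt]
    exact hP₀le hu
  have hy₀O' : U.ι u₀ ∈ O' := ⟨u₀, hu₀O, rfl⟩
  obtain ⟨a, haO', hy₀a⟩ := hX₁.exists_basicOpen_le (V := O') ⟨U.ι u₀, hy₀O'⟩ (hOX₁ u₀ hu₀O)
  -- Step 3: the basic open `D(a)` and the section over it
  have hDa : IsAffineOpen (X.basicOpen a) := hX₁.basicOpen a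
  have hDaU : X.basicOpen a ≤ U := haO'.trans hO'U
  have ha0 : a ≠ 0 := by
    rintro rfl
    rw [Scheme.basicOpen_zero] at hy₀a
    exact hy₀a
  let iX : Spec Γ(X, X₁) ⟶ X := hX₁.fromSpec
  let iP : Spec Γ(P, P₀) ⟶ P := hP₀.fromSpec
  let iT : Spec Γ(X, X.basicOpen a) ⟶ X := hDa.fromSpec
  have hiTU : Set.range iT ⊆ Set.range U.ι := by
    rw [hDa.range_fromSpec, Scheme.Opens.range_ι]
    exact hDaU
  let g : Spec Γ(X, X.basicOpen a) ⟶ (U : Scheme.{u}) := IsOpenImmersion.lift U.ι iT hiTU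
  have hg : g ≫ U.ι = iT := IsOpenImmersion.lift_fac _ _ _
  have hgpt : ∀ t, U.ι (g t) = iT t := fun t => by rw [← Scheme.Hom.comp_apply, hg]
  have hgO : ∀ t, g t ∈ O := by
    intro t
    have h1 : iT t ∈ X.basicOpen a := by
      have : iT t ∈ Set.range iT := ⟨t, rfl⟩
      rw [hDa.range_fromSpec] at this
      exact this
    obtain ⟨u, hu, hu'⟩ := haO' h1
    have : u = g t := U.ι.isOpenEmbedding.injective (hu'.trans (hgpt t).symm)
    exact this ▸ hu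
  have hgγ : Set.range (g ≫ γ) ⊆ Set.range iP := by
    rintro _ ⟨t, rfl⟩
    rw [hP₀.range_fromSpec, Scheme.Hom.comp_apply]
    exact hgO t
  let gP : Spec Γ(X, X.basicOpen a) ⟶ Spec Γ(P, P₀) := IsOpenImmersion.lift iP (g ≫ γ) hgγ
  have hgP : gP ≫ iP = g ≫ γ := IsOpenImmersion.lift_fac _ _ _
  let ψ : Γ(P, P₀) ⟶ Γ(X, X.basicOpen a) := Spec.preimage gP
  have hψ : Spec.map ψ ≫ iP = g ≫ γ := by rw [Spec.map_preimage]; exact hgP
  let φ : Γ(X, X₁) ⟶ Γ(P, P₀) := p₁.appLE X₁ P₀ hP₀le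
  have hφ : Spec.map φ ≫ iX = iP ≫ p₁ := IsAffineOpen.SpecMap_appLE_fromSpec p₁ hX₁ hP₀ hP₀le
  let res : Γ(X, X₁) ⟶ Γ(X, X.basicOpen a) := X.presheaf.map (homOfLE (X.basicOpen_le a)).op
  have hres : Spec.map res ≫ iX = iT := hX₁.map_fromSpec hDa _
  have hφψ : φ ≫ ψ = res := by
    apply Spec.map_injective
    rw [← cancel_mono iX, Spec.map_comp, Category.assoc, hφ, ← Category.assoc, hψ,
      Category.assoc, hγ, hg, hres]
  -- Step 4: ring data
  letI algAD : Algebra Γ(X, X₁) Γ(P, P₀) := φ.hom.toAlgebra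
  have hft : Algebra.FiniteType Γ(X, X₁) Γ(P, P₀) :=
    HasRingHomProperty.appLE (P := @LocallyOfFiniteType) p₁ inferInstance ⟨X₁, hX₁⟩ ⟨P₀, hP₀⟩
      hP₀le
  have hlocT : IsLocalization.Away a Γ(X, X.basicOpen a) := hX₁.isLocalization_basicOpen a
  have hdom : IsDomain Γ(X, X₁) := isDomain_of_isIntegral_opens X₁
  let ψa : Γ(P, P₀) →ₐ[Γ(X, X₁)] Γ(X, X.basicOpen a) :=
    { ψ.hom with
      commutes' := fun t => by
        change ψ.hom (φ.hom t) = res.hom t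
        rw [← hφψ]; rfl }
  let Qz : PrimeSpectrum Γ(P, P₀) := hP₀.primeIdealOf ⟨z, hzP₀⟩
  have hQz : iP Qz = z := hP₀.fromSpec_primeIdealOf ⟨z, hzP₀⟩
  let q : Ideal Γ(P, P₀) := Qz.asIdeal
  have hqunder : q.under Γ(X, X₁) = (hX₁.primeIdealOf ⟨p₁ z, hxX₁⟩).asIdeal := by
    have := IsAffineOpen.comap_primeIdealOf_appLE (f := p₁) (x := z) X₁ hX₁ P₀ hP₀ hP₀le hzP₀
    rw [← this]
    rfl
  have hic : IsIntegrallyClosed (Localization.AtPrime (q.under Γ(X, X₁))) :=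
    isIntegrallyClosed_atPrime_congr hqunder.symm
      (isIntegrallyClosed_atPrime_of_stalk hX₁ (p₁ z) hxX₁ hx)
  -- Step 5: the closure of the graph in the chart
  have hirr : IsPreirreducible (X₁ : Set X) := isPreirreducible_of_isIntegral_opens X₁
  let iPf : PrimeSpectrum Γ(P, P₀) → P := fun Q => iP Q
  have hiPf : Topology.IsOpenEmbedding iPf := iP.isOpenEmbedding
  let gf : PrimeSpectrum Γ(X, X.basicOpen a) → (U : Scheme.{u}) := fun t => g t
  have hcomm : ∀ t : PrimeSpectrum Γ(X, X.basicOpen a),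
      iPf (PrimeSpectrum.comap ψ.hom t) = γ (gf t) := fun t => by
    change iP (Spec.map ψ t) = γ (g t)
    rw [← Scheme.Hom.comp_apply, hψ, Scheme.Hom.comp_apply]
  have hrangeiPf : Set.range iPf = P₀ := hP₀.range_fromSpec
  have hdense : γ ⁻¹' (Set.range iPf) ⊆ closure (Set.range gf) := by
    intro u hu
    rw [hrangeiPf] at hu
    have huO : u ∈ O := hu
    rw [mem_closure_iff]
    intro N hN huN
    let N' : (U : Scheme.{u}).Opens := ⟨N, hN⟩ ⊓ O
    let N'' : X.Opens := U.ι ''ᵁ N'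
    have h1 : ((X₁ : Set X) ∩ N'').Nonempty := ⟨U.ι u, hOX₁ u huO, ⟨u, ⟨huN, huO⟩, rfl⟩⟩
    have h2 : ((X₁ : Set X) ∩ X.basicOpen a).Nonempty := ⟨U.ι u₀, hOX₁ u₀ hu₀O, hy₀a⟩
    obtain ⟨y, -, ⟨u', ⟨hu'N, -⟩, rfl⟩, hya⟩ := hirr N'' (X.basicOpen a) N''.isOpen
      (X.basicOpen a).isOpen h1 h2
    have hya' : U.ι u' ∈ Set.range iT := by rw [hDa.range_fromSpec]; exact hya
    obtain ⟨t, ht⟩ := hya'
    have : g t = u' := U.ι.isOpenEmbedding.injective ((hgpt t).trans ht)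
    exact ⟨u', hu'N, ⟨t, this⟩⟩
  have hclos : iPf ⁻¹' closure (Set.range γ) =
      PrimeSpectrum.zeroLocus (RingHom.ker ψa : Set Γ(P, P₀)) := by
    rw [preimage_closure_range_eq γ γ.continuous iPf hiPf gf (PrimeSpectrum.comap ψ.hom)
      hcomm hdense]
    exact PrimeSpectrum.closure_range_comap ψ.hom
  have hQz' : iPf Qz = z := hQz
  have hq : RingHom.ker ψa ≤ q := by
    have h1 : Qz ∈ iPf ⁻¹' closure (Set.range γ) := by
      rw [Set.mem_preimage, hQz']; exact hzΓ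
    rw [hclos, PrimeSpectrum.mem_zeroLocus] at h1
    exact h1
  let W' : Set (PrimeSpectrum Γ(P, P₀)) := iPf ⁻¹' (W : Set P)
  have hW' : IsOpen W' := W.isOpen.preimage hiPf.continuous
  have hfib : ∀ Q : PrimeSpectrum Γ(P, P₀), p₁ (iPf Q) = iX (PrimeSpectrum.comap φ.hom Q) := by
    intro Q
    change p₁ (iP Q) = iX (Spec.map φ Q)
    rw [← Scheme.Hom.comp_apply, ← hφ, Scheme.Hom.comp_apply]
  have hiso' : W' ∩ PrimeSpectrum.zeroLocus (RingHom.ker ψa : Set Γ(P, P₀)) ∩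
      PrimeSpectrum.comap (algebraMap Γ(X, X₁) Γ(P, P₀)) ⁻¹'
        {⟨q.under Γ(X, X₁), inferInstance⟩} = {⟨q, inferInstance⟩} := by
    ext Q
    simp only [Set.mem_inter_iff, Set.mem_preimage, Set.mem_singleton_iff]
    constructor
    · rintro ⟨⟨hQW, hQZ⟩, hQp⟩
      have h1 : iPf Q ∈ (W : Set P) ∩ closure (Set.range γ) ∩ p₁ ⁻¹' {p₁ z} := by
        refine ⟨⟨hQW, ?_⟩, ?_⟩
        · rw [← hclos] at hQZ; exact hQZ
        · rw [Set.mem_preimage, Set.mem_singleton_iff, hfib, ← hQz', hfib]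
          congr 1
      rw [hiso, Set.mem_singleton_iff, ← hQz'] at h1
      exact hiPf.injective h1
    · intro hQ
      have hQ' : Q = Qz := hQ
      subst hQ'
      have hzmem : z ∈ (W : Set P) ∩ closure (Set.range γ) ∩ p₁ ⁻¹' {p₁ z} := by
        rw [hiso]; rfl
      refine ⟨⟨?_, ?_⟩, rfl⟩
      · change iPf Qz ∈ (W : Set P)
        rw [hQz']; exact hzmem.1.1
      · rw [← hclos, Set.mem_preimage, hQz']; exact hzΓ
  obtain ⟨f, hfq, H⟩ := exists_away_lift a ha0 ψa q hq hic W' hW' hiso'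
  -- Step 6: build the extension
  have hDf : IsAffineOpen (X.basicOpen f) := hX₁.basicOpen f
  have hDaf : IsAffineOpen (X.basicOpen (a * f)) := hX₁.basicOpen (a * f)
  have hlocT' : IsLocalization.Away f Γ(X, X.basicOpen f) := hX₁.isLocalization_basicOpen f
  have hlocT'' : IsLocalization.Away (a * f) Γ(X, X.basicOpen (a * f)) :=
    hX₁.isLocalization_basicOpen (a * f)
  obtain ⟨θ, Hθ⟩ := H Γ(X, X.basicOpen f)
  have hle1 : X.basicOpen (a * f) ≤ X.basicOpen a := by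
    rw [Scheme.basicOpen_mul]; exact inf_le_left
  have hle2 : X.basicOpen (a * f) ≤ X.basicOpen f := by
    rw [Scheme.basicOpen_mul]; exact inf_le_right
  let r₁ : Γ(X, X.basicOpen a) ⟶ Γ(X, X.basicOpen (a * f)) := X.presheaf.map (homOfLE hle1).op
  let r₂ : Γ(X, X.basicOpen f) ⟶ Γ(X, X.basicOpen (a * f)) := X.presheaf.map (homOfLE hle2).op
  let resf : Γ(X, X₁) ⟶ Γ(X, X.basicOpen f) := X.presheaf.map (homOfLE (X.basicOpen_le f)).op
  let r₁a : Γ(X, X.basicOpen a) →ₐ[Γ(X, X₁)] Γ(X, X.basicOpen (a * f)) :=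
    { r₁.hom with
      commutes' := fun t => by
        change r₁.hom (res.hom t) = (X.presheaf.map (homOfLE (X.basicOpen_le (a * f))).op).hom t
        rw [← CommRingCat.comp_apply, ← Functor.map_comp]; rfl }
  let r₂a : Γ(X, X.basicOpen f) →ₐ[Γ(X, X₁)] Γ(X, X.basicOpen (a * f)) :=
    { r₂.hom with
      commutes' := fun t => by
        change r₂.hom (resf.hom t) = (X.presheaf.map (homOfLE (X.basicOpen_le (a * f))).op).hom t
        rw [← CommRingCat.comp_apply, ← Functor.map_comp]; rfl }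
  have Hθ' := Hθ Γ(X, X.basicOpen (a * f)) r₁a r₂a
  let θc : Γ(P, P₀) ⟶ Γ(X, X.basicOpen f) := CommRingCat.ofHom θ.toRingHom
  have hθφ : φ ≫ θc = resf := by
    ext t; exact θ.commutes t
  have hθr : θc ≫ r₂ = ψ ≫ r₁ := by
    ext d; exact Hθ' d
  let v : (X.basicOpen f : Scheme.{u}) ⟶ P := hDf.isoSpec.hom ≫ Spec.map θc ≫ iP
  refine ⟨X.basicOpen f, X.basicOpen (a * f), v, hle2, hle1.trans hDaU, ?_, X.basicOpen_le f,
    ?_, ?_, ?_⟩
  · rw [mem_basicOpen_iff_notMem_primeIdealOf hX₁ (p₁ z) hxX₁, ← hqunder]; exact hfq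
  · have hne : PrimeSpectrum.basicOpen (a * f) ≠ ⊥ := by
      rw [Ne, PrimeSpectrum.basicOpen_eq_bot_iff]
      intro hnil
      have hf0 : f ≠ 0 := fun h0 => hfq (h0 ▸ zero_mem _)
      exact mul_ne_zero ha0 hf0 (IsNilpotent.eq_zero hnil)
    obtain ⟨Q, hQ⟩ : ((PrimeSpectrum.basicOpen (a * f) : Opens (PrimeSpectrum Γ(X, X₁))) :
        Set (PrimeSpectrum Γ(X, X₁))).Nonempty := by
      by_contra hcon
      exact hne ((Opens.not_nonempty_iff_eq_bot _).mp hcon)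
    refine ⟨iX Q, ?_⟩
    have : Q ∈ iX ⁻¹ᵁ X.basicOpen (a * f) := by
      rw [hX₁.fromSpec_preimage_basicOpen]; exact hQ
    exact this
  · calc v ≫ p₁ = hDf.isoSpec.hom ≫ Spec.map θc ≫ (iP ≫ p₁) := by
          simp only [v, Category.assoc]
      _ = hDf.isoSpec.hom ≫ Spec.map θc ≫ Spec.map φ ≫ iX := by rw [← hφ]
      _ = hDf.isoSpec.hom ≫ Spec.map (φ ≫ θc) ≫ iX := by rw [Spec.map_comp, Category.assoc]
      _ = hDf.isoSpec.hom ≫ hDf.fromSpec := by rw [hθφ, hX₁.map_fromSpec hDf]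
      _ = _ := hDf.isoSpec_hom_fromSpec
  · rw [← cancel_epi hDaf.isoSpec.inv]
    have e1 : hDaf.isoSpec.inv ≫ X.homOfLE hle2 ≫ hDf.isoSpec.hom = Spec.map r₂ := by
      rw [← cancel_mono hDf.fromSpec]
      simp only [Category.assoc, IsAffineOpen.isoSpec_hom_fromSpec, Scheme.homOfLE_ι,
        IsAffineOpen.isoSpec_inv_ι]
      exact (hDf.map_fromSpec hDaf _).symm
    have e2 : hDaf.isoSpec.inv ≫ X.homOfLE (hle1.trans hDaU) = Spec.map r₁ ≫ g := by
      rw [← cancel_mono U.ι]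
      simp only [Category.assoc, Scheme.homOfLE_ι, IsAffineOpen.isoSpec_inv_ι, hg]
      exact (hDa.map_fromSpec hDaf _).symm
    calc hDaf.isoSpec.inv ≫ X.homOfLE hle2 ≫ v
        = (hDaf.isoSpec.inv ≫ X.homOfLE hle2 ≫ hDf.isoSpec.hom) ≫ Spec.map θc ≫ iP := by
          simp only [v, Category.assoc]
      _ = Spec.map r₂ ≫ Spec.map θc ≫ iP := by rw [e1]
      _ = Spec.map (θc ≫ r₂) ≫ iP := by rw [Spec.map_comp, Category.assoc]
      _ = Spec.map (ψ ≫ r₁) ≫ iP := by rw [hθr]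
      _ = Spec.map r₁ ≫ Spec.map ψ ≫ iP := by rw [Spec.map_comp, Category.assoc]
      _ = Spec.map r₁ ≫ g ≫ γ := by rw [hψ]
      _ = (hDaf.isoSpec.inv ≫ X.homOfLE (hle1.trans hDaU)) ≫ γ := by rw [e2, Category.assoc]
      _ = _ := by rw [Category.assoc]

theorem isDominant_homOfLE_of_isPreirreducible {X₁ V' O : X.Opens}
    (hirr : IsPreirreducible (X₁ : Set X)) (hV'O : V' ≤ O) (hOX₁ : O ≤ X₁)
    (hne : (V' : Set X).Nonempty) : IsDominant (X.homOfLE hV'O) := by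
  constructor
  rw [DenseRange, dense_iff_inter_open]
  intro N hN ⟨n, hn⟩
  let N' : X.Opens := O.ι ''ᵁ ⟨N, hN⟩
  obtain ⟨y, hy⟩ := hne
  have h1 : ((X₁ : Set X) ∩ N').Nonempty := ⟨O.ι n, hOX₁ n.2, ⟨n, hn, rfl⟩⟩
  have h2 : ((X₁ : Set X) ∩ V').Nonempty := ⟨y, hOX₁ (hV'O hy), hy⟩
  obtain ⟨w, -, ⟨n', hn'N, rfl⟩, hwV'⟩ := hirr N' V' N'.isOpen V'.isOpen h1 h2
  refine ⟨n', hn'N, ⟨⟨O.ι n', hwV'⟩, ?_⟩⟩
  apply O.ι.isOpenEmbedding.injective
  rw [← Scheme.Hom.comp_apply, Scheme.homOfLE_ι]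
  rfl

/-- **Extension of a rational section at a normal point** (a form of Zariski's main theorem).
`p₁ : P ⟶ X` separated and locally of finite type, `γ` a section over an open `U`; if `z` lies in
the closure of the image of `γ`, is isolated in the fibre of that closure over `x = p₁ z`, `X` is
integral near `x` and `𝒪_{X,x}` is integrally closed, then `γ` extends to a section near `x`. -/
theorem exists_extension_of_isSeparated (p₁ : P ⟶ X) [LocallyOfFiniteType p₁] [IsSeparated p₁]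
    (U : X.Opens) (γ : (U : Scheme.{u}) ⟶ P) (hγ : γ ≫ p₁ = U.ι)
    (x : X) (hXx : ∃ W₀ : X.Opens, x ∈ W₀ ∧ IsIntegral (W₀ : Scheme.{u}))
    (hx : IsIntegrallyClosed (X.presheaf.stalk x))
    (z : P) (hz : p₁ z = x) (hzΓ : z ∈ closure (Set.range γ))
    (W : P.Opens) (hiso : (W : Set P) ∩ closure (Set.range γ) ∩ p₁ ⁻¹' {x} = {z}) :
    ∃ (V : X.Opens) (v : (V : Scheme.{u}) ⟶ P), x ∈ V ∧ v ≫ p₁ = V.ι ∧
      X.homOfLE (inf_le_right : U ⊓ V ≤ V) ≫ v = X.homOfLE (inf_le_left : U ⊓ V ≤ U) ≫ γ := by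
  obtain ⟨W₀, hxW₀, hW₀⟩ := hXx
  obtain ⟨X₁, hX₁, hxX₁, hX₁W₀⟩ := Opens.isBasis_iff_nbhd.mp X.isBasis_affineOpens hxW₀
  replace hX₁ : IsAffineOpen X₁ := hX₁
  have : Nonempty (X₁ : Scheme.{u}) := ⟨⟨x, hxX₁⟩⟩
  have hintX₁ : IsIntegral (X₁ : Scheme.{u}) := isIntegral_of_isOpenImmersion (X.homOfLE hX₁W₀)
  obtain ⟨V, V', v, hV'V, hV'U, hxV, hVX₁, hV'ne, hv, hvγ⟩ :=
    exists_local_extension p₁ U γ hγ X₁ hX₁ x hxX₁ hx z hz hzΓ W hiso
  refine ⟨V, v, hxV, hv, ?_⟩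
  have hle : U ⊓ V ≤ X₁ := inf_le_right.trans hVX₁
  have hred : IsReduced ((U ⊓ V : X.Opens) : Scheme.{u}) :=
    isReduced_of_isOpenImmersion (X.homOfLE hle)
  have hV'UV : V' ≤ U ⊓ V := le_inf hV'U hV'V
  have hdom : IsDominant (X.homOfLE hV'UV) :=
    isDominant_homOfLE_of_isPreirreducible (isPreirreducible_of_isIntegral_opens X₁) hV'UV hle
      hV'ne
  refine ext_of_isDominant_of_isSeparated p₁ ?_ (X.homOfLE hV'UV) ?_
  · rw [Category.assoc, Category.assoc, hv, hγ, Scheme.homOfLE_ι, Scheme.homOfLE_ι]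
  · rw [← Category.assoc, ← Category.assoc, Scheme.homOfLE_homOfLE, Scheme.homOfLE_homOfLE]
    exact hvγ

end Geom

end Groth.Agent.Lib.Helper21.ZMTExt
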