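import Groth.Agent.Lib.Helper21.Img1
import Groth.Agent.Lib.Helper21.BaseChg4

/-!
# Dimension of the preimage of an immersed subscheme via fibre-dimension strata
-/

set_option autoImplicit false
set_option linter.style.haveILetI false
set_option linter.unusedSectionVars false
universe u

open AlgebraicGeometry CategoryTheory Limits TopologicalSpace

namespace Groth.Agent.Lib.Helper21.CharCyc

open Groth.Agent.Lib.Helper21.BaseChg

/-- fibres of a base change have the dimension of the original fibres -/
theorem topologicalKrullDim_fiber_eq_of_isPullback {X S X' S' : Scheme.{u}} {f : X ⟶ S}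
    {g : S' ⟶ S} {g' : X' ⟶ X} {f' : X' ⟶ S'} [LocallyOfFiniteType f]
    (hsq : IsPullback g' f' f g) (s' : S') :
    topologicalKrullDim ↥(f'.fiber s') = topologicalKrullDim ↥(f.fiber (g s')) := by
  obtain ⟨t, hpb, -⟩ := exists_fiber_isPullback hsq s'
  exact Groth.Agent.Lib.Helper22.topologicalKrullDim_eq_of_isPullback_field
    (S.residueField (g s')) (S'.residueField s') (f.fiberToSpecResidueField (g s'))
    (Spec.map (g.residueFieldMap s')) t (f'.fiberToSpecResidueField s') hpb

/-- **Dimension of the preimage of an immersed subscheme** in terms of the fibre-dimension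
strata. -/
theorem dim_preimage_le_iff (k : Type u) [Field k] (C X W : Scheme.{u})
    (q : X ⟶ Spec (CommRingCat.of k)) (π : C ⟶ X) (ι : W ⟶ X)
    [LocallyOfFiniteType q] [LocallyOfFiniteType π] [CompactSpace C] [IsImmersion ι] (m : ℕ)
    (hB : ∀ j : ℕ, IsClosed {x : X | (j : WithBot ℕ∞) ≤ topologicalKrullDim (π.fiber x)}) :
    topologicalKrullDim (π ⁻¹' Set.range ι : Set C) ≤ m ↔
      ∀ j : ℕ, topologicalKrullDim
        (ι ⁻¹' {x : X | (j : WithBot ℕ∞) ≤ topologicalKrullDim (π.fiber x)} : Set W) +
          (j : WithBot ℕ∞) ≤ m := by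
  haveI : IsLocallyNoetherian X := LocallyOfFiniteType.isLocallyNoetherian q
  haveI : IsLocallyNoetherian C := LocallyOfFiniteType.isLocallyNoetherian π
  haveI : IsNoetherian C := {}
  have hsq : IsPullback (pullback.fst π ι) (pullback.snd π ι) π ι := IsPullback.of_hasPullback π ι
  haveI : NoetherianSpace ↥(pullback π ι) :=
    (pullback.fst π ι).isEmbedding.isInducing.noetherianSpace
  haveI : CompactSpace ↥(pullback π ι) := inferInstance
  have key := Groth.Agent.Lib.Helper21.Img.topologicalKrullDim_le_iff_closure_fibreDimGE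
    (pullback.snd π ι) k (ι ≫ q) m
  have h1 : topologicalKrullDim ↥(pullback π ι) =
      topologicalKrullDim (π ⁻¹' Set.range ι : Set C) := by
    rw [← Scheme.Pullback.range_fst]
    exact ((pullback.fst π ι).isEmbedding.toHomeomorph).isHomeomorph.topologicalKrullDim_eq
  have h2 : ∀ j : ℕ, closure {w : W | (j : WithBot ℕ∞) ≤
      topologicalKrullDim ((pullback.snd π ι).fiber w)} =
      ι ⁻¹' {x : X | (j : WithBot ℕ∞) ≤ topologicalKrullDim (π.fiber x)} := by
    intro j
    have : {w : W | (j : WithBot ℕ∞) ≤ topologicalKrullDim ((pullback.snd π ι).fiber w)} =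
        ι ⁻¹' {x : X | (j : WithBot ℕ∞) ≤ topologicalKrullDim (π.fiber x)} := by
      ext w
      simp only [Set.mem_ofPred_eq, Set.mem_preimage]
      rw [topologicalKrullDim_fiber_eq_of_isPullback hsq w]
    rw [this]
    exact ((hB j).preimage ι.continuous).closure_eq
  rw [h1] at key
  rw [key]
  refine forall_congr' fun j => ?_
  rw [h2 j]

end Groth.Agent.Lib.Helper21.CharCyc
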