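import Groth.Agent.Lib.Helper21.BaseChg7

/-!
# Morphisms all of whose fibres are equidimensional of dimension `n`
-/

set_option autoImplicit false
set_option linter.style.haveILetI false
set_option linter.unusedSectionVars false
universe u

open AlgebraicGeometry CategoryTheory Limits TopologicalSpace

namespace Groth.Agent.Lib.Helper21.FibDim

variable {X S : Scheme.{u}} (f : X ⟶ S) [LocallyOfFiniteType f]

/-- residue transcendence degrees do not increase under specialisation inside a fibre -/
theorem trdeg_le_of_specializes_fibre {x x' : X} (hsp : x ⤳ x') (hfx : f x = f x') :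
    @Algebra.trdeg (S.residueField (f x')) (X.residueField x') _ _
        (f.residueFieldMap x').hom.toAlgebra ≤
      @Algebra.trdeg (S.residueField (f x)) (X.residueField x) _ _
        (f.residueFieldMap x).hom.toAlgebra := by
  by_cases hne : x = x'
  · subst hne
    exact le_rfl
  · exact (trdeg_lt_of_specializes_of_ne f hsp hne hfx).le

/-- every point has a generisation in its fibre that is the generic point of an irreducible
component of the fibre -/
theorem exists_maximal_in_fibre (x : X) :
    ∃ y : X, y ⤳ x ∧ f y = f x ∧ (∀ y' : X, y' ⤳ y → f y' = f y → y' = y) ∧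
      ∃ Z ∈ irreducibleComponents (f.fiber (f x)),
        topologicalKrullDim Z = FlatMor.fibreDimAt f y := by
  have hZ := irreducibleComponent_mem_irreducibleComponents (f.asFiber x)
  obtain ⟨z, hz, hdim, hmax⟩ :=
    exists_isGenericPoint_fiber f (f x) (irreducibleComponent (f.asFiber x)) hZ
  refine ⟨f.fiberι (f x) z, ?_, (f.fiberHomeo (f x) z).2, hmax, _, hZ, hdim⟩
  have h1 : z ⤳ f.asFiber x := hz.specializes mem_irreducibleComponent
  have h2 := h1.map (f.fiberι (f x)).continuous
  rwa [Scheme.Hom.fiberι_asFiber] at h2

/-- if all irreducible components of all fibres have dimension `n`, the local fibre dimension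
is `n` everywhere -/
theorem fibreDimAt_eq_of_hasRelDim (n : ℕ) (h : Cyc.HasRelDim f n) (x : X) :
    FlatMor.fibreDimAt f x = n := by
  obtain ⟨N, hN, ⟨y, hyx, hfy, hytr⟩, hall⟩ := exists_fibreDimAt_eq_trdeg f x
  obtain ⟨y', hy'y, hfy', hmax, Z, hZ, hdim⟩ := exists_maximal_in_fibre f y
  obtain ⟨m, hm1, hm2⟩ := fibreDimAt_eq_trdeg_of_maximal f y' hmax
  have hmn : m = n := by
    have h1 := h _ Z hZ
    rw [hdim, hm1] at h1
    exact_mod_cast h1
  have h2 := hall y' (hy'y.trans hyx) (hfy'.trans hfy)
  rw [hm2] at h2
  have h3 := trdeg_le_of_specializes_fibre f hy'y hfy'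
  rw [hytr, hm2] at h3
  have h4 : m ≤ N := by exact_mod_cast h2
  have h5 : N ≤ m := by exact_mod_cast h3
  have : N = n := by omega
  rw [hN, this]

/-- if all irreducible components of all fibres have dimension `n`, every nonempty fibre has
dimension `n` -/
theorem topologicalKrullDim_fiber_eq_of_hasRelDim (n : ℕ) (h : Cyc.HasRelDim f n) (x : X) :
    topologicalKrullDim (f.fiber (f x)) = n := by
  rw [Groth.Agent.Lib.Helper18.TopDim.topologicalKrullDim_eq_iSup_localDim]
  apply le_antisymm
  · refine iSup_le fun z => ?_
    have hz : f (f.fiberι (f x) z) = f x := (f.fiberHomeo (f x) z).2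
    rw [Groth.Agent.Lib.Helper6.EtaleSq.localDim_fiber_eq_fibreDimAt f (f.fiberι (f x) z) (f x) hz
      z rfl, fibreDimAt_eq_of_hasRelDim f n h]
  · refine le_trans ?_ (le_iSup _ (f.asFiber x))
    have := fibreDimAt_eq_of_hasRelDim f n h x
    unfold FlatMor.fibreDimAt at this
    rw [this]

end Groth.Agent.Lib.Helper21.FibDim
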