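import Mathlib.RingTheory.PicardGroup
import Mathlib.RingTheory.LocalProperties.FinitePresentation
import Mathlib.RingTheory.LocalProperties.Exactness
import Mathlib.RingTheory.Localization.BaseChange

/-! A module that is locally free of rank one on a standard open cover is invertible. -/

set_option autoImplicit false
set_option linter.unusedSectionVars false

namespace Groth.Agent.Lib.Helper21

open TensorProduct

section Local

variable {R A M' : Type*} [CommRing R] [CommRing A] [Algebra R A] (S : Submonoid R)
  [IsLocalization S A] [AddCommGroup M'] [Module R M'] [Module A M'] [IsScalarTower R A M']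

/-- evaluation `Hom_R(M', A) ⊗_R M' → A` -/
noncomputable def evalTensor (R A M' : Type*) [CommRing R] [CommRing A] [Algebra R A]
    [AddCommGroup M'] [Module R M'] : (M' →ₗ[R] A) ⊗[R] M' →ₗ[R] A :=
  TensorProduct.lift (LinearMap.id : (M' →ₗ[R] A) →ₗ[R] M' →ₗ[R] A)

@[simp] theorem evalTensor_tmul (φ : M' →ₗ[R] A) (m : M') :
    evalTensor R A M' (φ ⊗ₜ m) = φ m := by
  simp [evalTensor]

include S in
theorem evalTensor_bijective_of_equiv (e : M' ≃ₗ[A] A) :
    Function.Bijective (evalTensor R A M') := by
  have hcompat : LinearMap.CompatibleSMul M' A A R := IsLocalization.linearMap_compatibleSMul S A M' A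
  have htc : TensorProduct.CompatibleSMul R A (M' →ₗ[R] A) M' :=
    IsLocalization.tensorProduct_compatibleSMul S A (M' →ₗ[R] A) M'
  set u : M' := e.symm 1 with hu
  have hgen : ∀ m : M', m = e m • u := fun m => by
    apply e.injective
    rw [map_smul, hu, e.apply_symm_apply, smul_eq_mul, mul_one]
  have hform : ∀ x : (M' →ₗ[R] A) ⊗[R] M', ∃ ψ : M' →ₗ[R] A, x = ψ ⊗ₜ u := by
    intro x
    induction x with
    | zero => exact ⟨0, (zero_tmul _ _).symm⟩
    | tmul φ m =>
      refine ⟨e m • φ, ?_⟩
      conv_lhs => rw [hgen m]
      rw [TensorProduct.smul_tmul]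
    | add x y hx hy =>
      obtain ⟨ψ₁, rfl⟩ := hx
      obtain ⟨ψ₂, rfl⟩ := hy
      exact ⟨ψ₁ + ψ₂, (add_tmul _ _ _).symm⟩
  constructor
  · rw [injective_iff_map_eq_zero]
    intro x hx
    obtain ⟨ψ, rfl⟩ := hform x
    rw [evalTensor_tmul] at hx
    have : ψ = 0 := by
      ext m
      rw [hgen m, LinearMap.map_smul_of_tower, hx, smul_zero, LinearMap.zero_apply]
    rw [this, zero_tmul]
  · intro a
    refine ⟨(a • (e.toLinearMap.restrictScalars R)) ⊗ₜ u, ?_⟩
    rw [evalTensor_tmul]
    simp [hu]

end Local

section Global

universe u

variable {R : Type u} [CommRing R] {M : Type u} [AddCommGroup M] [Module R M]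

/-- If `M_f ≅ R_f` for all `f` in a set generating the unit ideal, then `M` is invertible. -/
theorem invertible_of_localizationSpan (s : Set R) (hs : Ideal.span s = ⊤)
    (hfree : ∀ f ∈ s, Nonempty
      (LocalizedModule.Away f M ≃ₗ[Localization.Away f] Localization.Away f)) :
    Module.Invertible R M := by
  have hfp : Module.FinitePresentation R M := by
    apply Module.FinitePresentation.of_localizationSpan s hs
    intro r
    obtain ⟨e⟩ := hfree r r.2
    exact Module.FinitePresentation.of_equiv e.symm
  constructor
  refine bijective_of_isLocalized_span s hs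
    (fun r => (LocalizedModule.Away r.1 M →ₗ[R] Localization.Away r.1) ⊗[R]
      LocalizedModule.Away r.1 M)
    (fun r => TensorProduct.map
      (IsLocalizedModule.map (.powers r.1) (LocalizedModule.mkLinearMap (.powers r.1) M)
        (Algebra.linearMap R (Localization.Away r.1)))
      (LocalizedModule.mkLinearMap (.powers r.1) M))
    (fun r => Localization.Away r.1)
    (fun r => Algebra.linearMap R (Localization.Away r.1))
    (contractLeft R M) ?_
  intro r
  obtain ⟨e⟩ := hfree r r.2
  have hb := evalTensor_bijective_of_equiv (R := R) (Submonoid.powers r.1) e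
  convert hb using 1
  refine congrArg DFunLike.coe ?_
  apply IsLocalizedModule.ext (.powers r.1) (TensorProduct.map
      (IsLocalizedModule.map (.powers r.1) (LocalizedModule.mkLinearMap (.powers r.1) M)
        (Algebra.linearMap R (Localization.Away r.1)))
      (LocalizedModule.mkLinearMap (.powers r.1) M))
    (IsLocalizedModule.map_units (Algebra.linearMap R (Localization.Away r.1)))
  rw [IsLocalizedModule.map_comp]
  ext d m
  simp only [TensorProduct.AlgebraTensorModule.curry_apply, LinearMap.restrictScalars_self,
    TensorProduct.curry_apply, LinearMap.coe_comp, Function.comp_apply, contractLeft_apply,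
    Algebra.linearMap_apply, TensorProduct.map_tmul, evalTensor_tmul]
  have := IsLocalizedModule.map_apply (Submonoid.powers r.1)
    (LocalizedModule.mkLinearMap (Submonoid.powers r.1) M)
    (Algebra.linearMap R (Localization.Away r.1)) d m
  rw [this]
  rfl

end Global

end Groth.Agent.Lib.Helper21
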