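import Groth.Agent.Lib.Helper21.VE1

/-!
# The valuative criterion of universal closedness with discrete valuation rings
(locally Noetherian base, finite type morphism)
-/

set_option autoImplicit false
universe u
open AlgebraicGeometry CategoryTheory Limits TopologicalSpace

namespace Groth.Agent.Lib.Helper21.DVRExt

variable {X S : Scheme.{u}}

/-- From abstract discrete valuation rings to discrete valuation subrings of a residue field. -/
theorem exists_lift_valuationSubring_of_dvr (f : X ⟶ S)
    (H : ∀ (A : Type u) [CommRing A] [IsDomain A] [IsDiscreteValuationRing A]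
      (x : Spec (CommRingCat.of (FractionRing A)) ⟶ X) (y : Spec (CommRingCat.of A) ⟶ S),
      x ≫ f = Spec.map (CommRingCat.ofHom (algebraMap A (FractionRing A))) ≫ y →
      ∃ l : Spec (CommRingCat.of A) ⟶ X, l ≫ f = y ∧
        Spec.map (CommRingCat.ofHom (algebraMap A (FractionRing A))) ≫ l = x)
    (x : X) (A : ValuationSubring (X.residueField x)) (hA : IsDiscreteValuationRing A)
    (y : Spec (CommRingCat.of A) ⟶ S)
    (hy : Spec.map (CommRingCat.ofHom A.subtype) ≫ y = X.fromSpecResidueField x ≫ f) :
    ∃ l : Spec (CommRingCat.of A) ⟶ X, l ≫ f = y ∧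
      Spec.map (CommRingCat.ofHom A.subtype) ≫ l = X.fromSpecResidueField x := by
  let e : FractionRing A ≃ₐ[A] X.residueField x := FractionRing.algEquiv A (X.residueField x)
  let es : X.residueField x ⟶ CommRingCat.of (FractionRing A) :=
    CommRingCat.ofHom (e.symm : X.residueField x →+* FractionRing A)
  let ee : CommRingCat.of (FractionRing A) ⟶ X.residueField x :=
    CommRingCat.ofHom (e : FractionRing A →+* X.residueField x)
  have hfac : CommRingCat.ofHom (algebraMap A (FractionRing A)) =
      CommRingCat.ofHom A.subtype ≫ es := by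
    ext a
    change algebraMap A (FractionRing A) a = e.symm (algebraMap A (X.residueField x) a)
    rw [AlgEquiv.commutes]
  have hee : es ≫ ee = 𝟙 _ := by
    ext a
    exact e.apply_symm_apply a
  have hcancel : ∀ {Z : Scheme.{u}} (a b : Spec (X.residueField x) ⟶ Z),
      Spec.map es ≫ a = Spec.map es ≫ b → a = b := by
    intro Z a b hab
    have h1 := congrArg (fun z => Spec.map ee ≫ z) hab
    simp only [← Category.assoc, ← Spec.map_comp, hee, Spec.map_id, Category.id_comp] at h1
    exact h1
  obtain ⟨l, hl1, hl2⟩ := H A (Spec.map es ≫ X.fromSpecResidueField x) y (by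
    rw [hfac, Spec.map_comp, Category.assoc, Category.assoc]
    exact (congrArg (fun z => Spec.map es ≫ z) hy).symm)
  refine ⟨l, hl1, hcancel _ _ ?_⟩
  rw [← hl2, hfac, Spec.map_comp, Category.assoc]

/-- **The existence part of the valuative criterion with discrete valuation rings.** -/
theorem universallyClosed_of_dvr_existence [IsLocallyNoetherian S] (f : X ⟶ S)
    [LocallyOfFiniteType f] [QuasiCompact f]
    (H : ∀ (A : Type u) [CommRing A] [IsDomain A] [IsDiscreteValuationRing A]
      (x : Spec (CommRingCat.of (FractionRing A)) ⟶ X) (y : Spec (CommRingCat.of A) ⟶ S),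
      x ≫ f = Spec.map (CommRingCat.ofHom (algebraMap A (FractionRing A))) ≫ y →
      ∃ l : Spec (CommRingCat.of A) ⟶ X, l ≫ f = y ∧
        Spec.map (CommRingCat.ofHom (algebraMap A (FractionRing A))) ≫ l = x) :
    UniversallyClosed f := by
  apply UniversallyClosed.of_valuativeCriterion
  apply valuativeCriterion_existence_of_valuationSubring
  intro x V y hy
  exact exists_lift_of_dvr_at f x
    (fun A hA y hy => exists_lift_valuationSubring_of_dvr f H x A hA y hy) V y hy

/-- Universally closed morphisms satisfy the existence part for discrete valuation rings. -/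
theorem dvr_existence_of_universallyClosed (f : X ⟶ S) [UniversallyClosed f]
    (A : Type u) [CommRing A] [IsDomain A] [IsDiscreteValuationRing A]
    (x : Spec (CommRingCat.of (FractionRing A)) ⟶ X) (y : Spec (CommRingCat.of A) ⟶ S)
    (h : x ≫ f = Spec.map (CommRingCat.ofHom (algebraMap A (FractionRing A))) ≫ y) :
    ∃ l : Spec (CommRingCat.of A) ⟶ X, l ≫ f = y ∧
      Spec.map (CommRingCat.ofHom (algebraMap A (FractionRing A))) ≫ l = x := by
  have hE : ValuativeCriterion.Existence f := by
    have h1 : (ValuativeCriterion.Existence ⊓ @QuasiCompact) f := by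
      rw [← UniversallyClosed.eq_valuativeCriterion]; infer_instance
    exact h1.1
  let sq : ValuativeCommSq f :=
    { R := A
      K := FractionRing A
      i₁ := x
      i₂ := y
      commSq := ⟨h⟩ }
  obtain ⟨⟨l, hl1, hl2⟩⟩ := (hE sq).exists_lift
  exact ⟨l, hl2, hl1⟩

end Groth.Agent.Lib.Helper21.DVRExt
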