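import Mathlib.Topology.Sober
import Mathlib.Topology.Irreducible
import Mathlib.Topology.Separation.Basic
import Mathlib.Topology.Inseparable

/-!
# Generic points of irreducible components (pure topology)
-/

set_option autoImplicit false

namespace Groth.Agent.Lib.Helper21.Birat

variable {T : Type*} [TopologicalSpace T]

/-- Every point of a quasi-sober space is a specialization of the generic point of an irreducible
component. -/
theorem exists_gen_specializes [QuasiSober T] (x : T) :
    ∃ ξ : T, closure {ξ} ∈ irreducibleComponents T ∧ ξ ⤳ x := by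
  obtain ⟨ξ, hξ⟩ := QuasiSober.sober (isIrreducible_irreducibleComponent (x := x))
    isClosed_irreducibleComponent
  refine ⟨ξ, ?_, ?_⟩
  · rw [hξ.def]
    exact irreducibleComponent_mem_irreducibleComponents x
  · rw [specializes_iff_mem_closure, hξ.def]
    exact mem_irreducibleComponent

/-- Generic points of irreducible components are maximal under generization. -/
theorem eq_of_specializes_gen [T0Space T] {ξ x : T}
    (hξ : closure {ξ} ∈ irreducibleComponents T) (h : x ⤳ ξ) : x = ξ := by
  have h1 : closure {ξ} ⊆ closure {x} := specializes_iff_closure_subset.mp h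
  have h2 : IsIrreducible (closure ({x} : Set T)) := isIrreducible_singleton.closure
  have h3 : closure {x} ⊆ closure {ξ} := hξ.2 h2 h1
  have h4 : ξ ⤳ x := specializes_iff_closure_subset.mpr h3
  exact (h.antisymm h4).eq

/-- The set of generic points of irreducible components is finite if there are finitely many
irreducible components. -/
theorem gen_finite [T0Space T] (h : (irreducibleComponents T).Finite) :
    {x : T | closure {x} ∈ irreducibleComponents T}.Finite := by
  refine Set.Finite.of_finite_image (f := fun x : T => closure ({x} : Set T)) ?_ ?_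
  · exact h.subset (by rintro _ ⟨x, hx, rfl⟩; exact hx)
  · intro x _ y _ hxy
    have hxy' : closure ({x} : Set T) = closure {y} := hxy
    have h1 : x ⤳ y := specializes_iff_closure_subset.mpr hxy'.ge
    have h2 : y ⤳ x := specializes_iff_closure_subset.mpr hxy'.le
    exact (h1.antisymm h2).eq

/-- A set containing all generic points of irreducible components is dense. -/
theorem dense_of_gen_subset [QuasiSober T] (U : Set T)
    (h : {x : T | closure {x} ∈ irreducibleComponents T} ⊆ U) : Dense U := by
  intro x
  obtain ⟨ξ, hξ, hξx⟩ := exists_gen_specializes x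
  exact closure_mono (Set.singleton_subset_iff.mpr (h hξ)) (specializes_iff_mem_closure.mp hξx)

/-- A nonempty open set contains a generic point of an irreducible component. -/
theorem exists_gen_mem_of_isOpen [QuasiSober T] {W : Set T} (hW : IsOpen W) {x : T} (hx : x ∈ W) :
    ∃ ξ : T, closure {ξ} ∈ irreducibleComponents T ∧ ξ ∈ W ∧ ξ ⤳ x := by
  obtain ⟨ξ, hξ, hξx⟩ := exists_gen_specializes x
  exact ⟨ξ, hξ, hξx.mem_open hW hx, hξx⟩

/-- The complement of the union of the irreducible components not generated by `ξ`. -/
def nbhd (ξ : T) : Set T :=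
  (⋃ η ∈ {η : T | closure {η} ∈ irreducibleComponents T ∧ η ≠ ξ}, closure {η})ᶜ

theorem isOpen_nbhd [T0Space T] (h : (irreducibleComponents T).Finite) (ξ : T) :
    IsOpen (nbhd ξ) := by
  rw [nbhd, isOpen_compl_iff]
  exact ((gen_finite h).subset (fun η hη => hη.1)).isClosed_biUnion fun _ _ => isClosed_closure

theorem mem_nbhd_self [T0Space T] {ξ : T} (hξ : closure {ξ} ∈ irreducibleComponents T) :
    ξ ∈ nbhd ξ := by
  simp only [nbhd, Set.mem_compl_iff, Set.mem_iUnion, not_exists]
  rintro η ⟨hη, hne⟩ hmem
  exact hne (eq_of_specializes_gen hξ (specializes_iff_mem_closure.mpr hmem))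

/-- A generic point of a component lying in `nbhd ξ` equals `ξ`. -/
theorem eq_of_gen_mem_nbhd {ξ η : T} (hη : closure {η} ∈ irreducibleComponents T)
    (h : η ∈ nbhd ξ) : η = ξ := by
  by_contra hne
  apply h
  simp only [Set.mem_iUnion]
  exact ⟨η, ⟨hη, hne⟩, subset_closure rfl⟩

/-- Points of `nbhd ξ` are specializations of `ξ`. -/
theorem specializes_of_mem_nbhd [QuasiSober T] {ξ x : T} (h : x ∈ nbhd ξ) : ξ ⤳ x := by
  obtain ⟨η, hη, hηx⟩ := exists_gen_specializes x
  by_cases hne : η = ξ
  · exact hne ▸ hηx
  · exfalso
    apply h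
    simp only [Set.mem_iUnion]
    exact ⟨η, ⟨hη, hne⟩, specializes_iff_mem_closure.mp hηx⟩

/-- With finitely many irreducible components, a dense open contains every generic point. -/
theorem gen_mem_of_dense_isOpen [T0Space T] [QuasiSober T] (h : (irreducibleComponents T).Finite)
    {U : Set T} (hU : IsOpen U) (hd : Dense U) {ξ : T}
    (hξ : closure {ξ} ∈ irreducibleComponents T) : ξ ∈ U := by
  obtain ⟨x, hxN, hxU⟩ := hd.inter_open_nonempty _ (isOpen_nbhd h ξ) ⟨ξ, mem_nbhd_self hξ⟩
  exact (specializes_of_mem_nbhd hxN).mem_open hU hxU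

end Groth.Agent.Lib.Helper21.Birat
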