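import Groth.Agent.Lib.Helper21.BiratPoint
import Mathlib.AlgebraicGeometry.Morphisms.OpenImmersion
import Mathlib.AlgebraicGeometry.FunctionField

/-!
# Birational morphisms are isomorphisms over dense opens
-/

set_option autoImplicit false
set_option linter.style.haveILetI false
universe u
open AlgebraicGeometry CategoryTheory CategoryTheory.Limits

namespace Groth.Agent.Lib.Helper21.Birat

open Groth.Agent.Lib.Helper7

variable {X Y : Scheme.{u}} (f : X ⟶ Y)

/-- On a reduced scheme with finitely many irreducible components, germs are injective at the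
generic points of the components. -/
theorem isGermInjectiveAt_of_gen [IsReduced Y] (hYfin : (irreducibleComponents ↥Y).Finite)
    {y : Y} (hy : y ∈ gen Y) : Y.IsGermInjectiveAt y := by
  let N : Y.Opens := ⟨nbhd y, isOpen_nbhd hYfin y⟩
  have hyN : y ∈ N := mem_nbhd_self hy
  obtain ⟨V, hV, hyV, hVN⟩ : ∃ V : Y.Opens, IsAffineOpen V ∧ y ∈ V ∧ (V : Set Y) ⊆ N := by
    obtain ⟨_, ⟨V, hV, rfl⟩, hyV, hVN⟩ :=
      Y.isBasis_affineOpens.exists_subset_of_mem_open hyN N.2
    exact ⟨V, hV, hyV, hVN⟩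
  have hirr : IsIrreducible (V : Set Y) := by
    refine ⟨⟨y, hyV⟩, ?_⟩
    have h1 : IsPreirreducible (closure ({y} : Set Y)) :=
      (isIrreducible_singleton.closure).isPreirreducible
    refine h1.open_subset V.2 ?_
    intro z hz
    exact specializes_iff_mem_closure.mp (specializes_of_mem_nbhd (hVN hz))
  haveI : IrreducibleSpace V := (isIrreducible_iff_irreducibleSpace (s := (V : Set Y))).mp hirr
  haveI : IsIntegral V.toScheme := isIntegral_of_irreducibleSpace_of_isReduced _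
  have : Y.IsGermInjectiveAt (V.ι ⟨y, hyV⟩) := inferInstance
  exact this

theorem resLE_val {U : X.Opens} {V : Y.Opens} (h : U ≤ f ⁻¹ᵁ V) (u : U.toScheme) :
    ((f.resLE V U h) u).1 = f u.1 := by
  have := congr($(Scheme.Hom.resLE_comp_ι f h) u)
  simpa only [Scheme.Hom.comp_apply, Scheme.Opens.ι_apply] using this

/-- Glueing finitely many local isomorphisms with pairwise disjoint targets. -/
theorem isIso_resLE_iSup {ι : Type*} (U : ι → X.Opens) (V : ι → Y.Opens)
    (h : ∀ i, U i ≤ f ⁻¹ᵁ V i) (hIso : ∀ i, IsIso (f.resLE (V i) (U i) (h i)))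
    (hdisj : ∀ i j (z : Y), z ∈ V i → z ∈ V j → i = j)
    (hUV : (⨆ i, U i) ≤ f ⁻¹ᵁ (⨆ i, V i)) :
    IsIso (f.resLE (⨆ i, V i) (⨆ i, U i) hUV) := by
  have hbij : ∀ i, Function.Bijective (f.resLE (V i) (U i) (h i)) := fun i =>
    (Scheme.homeoOfIso (asIso (f.resLE (V i) (U i) (h i)))).bijective
  rw [isIso_iff_isOpenImmersion_and_surjective]
  refine ⟨?_, ⟨?_⟩⟩
  · apply IsOpenImmersion.of_forall_source_exists
    · intro u u' huu'
      have h1 : f u.1 = f u'.1 := by
        rw [← resLE_val f hUV u, ← resLE_val f hUV u', huu']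
      obtain ⟨i, hi⟩ := TopologicalSpace.Opens.mem_iSup.mp u.2
      obtain ⟨j, hj⟩ := TopologicalSpace.Opens.mem_iSup.mp u'.2
      have hij : i = j := hdisj i j (f u.1) (h i hi) (h1 ▸ h j hj)
      subst hij
      have h2 : (f.resLE (V i) (U i) (h i)) ⟨u.1, hi⟩ = (f.resLE (V i) (U i) (h i)) ⟨u'.1, hj⟩ := by
        apply Subtype.ext
        rw [resLE_val, resLE_val]
        exact h1
      have h3 := (hbij i).1 h2
      have h4 : u.1 = u'.1 := congrArg (fun w : (U i).toScheme => (w.1 : X)) h3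
      exact Subtype.ext h4
    · intro u
      obtain ⟨i, hi⟩ := TopologicalSpace.Opens.mem_iSup.mp u.2
      refine ⟨(U i).toScheme, X.homOfLE (le_iSup U i), inferInstance, ?_, ?_⟩
      · refine ⟨⟨u.1, hi⟩, ?_⟩
        apply Subtype.ext
        rw [Scheme.homOfLE_apply]
      · rw [Scheme.Hom.map_resLE]
        have : f.resLE (⨆ i, V i) (U i) ((le_iSup U i).trans hUV) =
            f.resLE (V i) (U i) (h i) ≫ Y.homOfLE (le_iSup V i) := by
          rw [Scheme.Hom.resLE_map]
        rw [this]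
        infer_instance
  · intro v
    obtain ⟨i, hi⟩ := TopologicalSpace.Opens.mem_iSup.mp v.2
    obtain ⟨u0, hu0⟩ := (hbij i).2 ⟨v.1, hi⟩
    refine ⟨⟨u0.1, TopologicalSpace.Opens.mem_iSup.mpr ⟨i, u0.2⟩⟩, ?_⟩
    apply Subtype.ext
    rw [resLE_val]
    have := congrArg Subtype.val hu0
    rw [resLE_val] at this
    exact this

/-- Stacks 0BAB: a birational morphism (finitely many components; l.f.p., or l.f.t. with reduced
target) is an isomorphism between dense opens. -/
theorem exists_dense_opens_isIso_resLE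
    (hYfin : (irreducibleComponents ↥Y).Finite)
    (hbij : Set.BijOn (fun x : X => f.base x) (gen X) (gen Y))
    (hiso : ∀ x : X, x ∈ gen X → IsIso (f.stalkMap x))
    (hf : (LocallyOfFiniteType f ∧ IsReduced Y) ∨ LocallyOfFinitePresentation f) :
    ∃ (U : X.Opens) (V : Y.Opens) (hUV : U ≤ f ⁻¹ᵁ V), Dense (U : Set ↥X) ∧ Dense (V : Set ↥Y) ∧
      IsIso (f.resLE V U hUV) := by
  haveI : LocallyOfFiniteType f := hf.elim (fun h => h.1) (fun h => inferInstance)
  have hloc : ∀ x : gen X, ∃ (U : X.Opens) (V : Y.Opens) (h : U ≤ f ⁻¹ᵁ V), x.1 ∈ U ∧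
      (V : Set Y) ⊆ nbhd (f x.1) ∧ IsIso (f.resLE V U h) := by
    rintro ⟨x, hx⟩
    have := hiso x hx
    have hs : Function.Bijective (f.stalkMap x) := (ConcreteCategory.isIso_iff_bijective _).mp this
    have hy : f x ∈ gen Y := hbij.mapsTo hx
    have hinj : LocallyOfFinitePresentation f ∨ Y.IsGermInjectiveAt (f x) := by
      rcases hf with ⟨-, hred⟩ | hfp
      · exact Or.inr (isGermInjectiveAt_of_gen hYfin hy)
      · exact Or.inl hfp
    exact exists_isIso_resLE_of_stalkMap_bijective' f x hs ⟨nbhd (f x), isOpen_nbhd hYfin _⟩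
      (mem_nbhd_self hy) hinj
  choose U V h hxU hVN hIso using hloc
  have hUV : (⨆ i, U i) ≤ f ⁻¹ᵁ (⨆ i, V i) := by
    intro z hz
    obtain ⟨i, hi⟩ := TopologicalSpace.Opens.mem_iSup.mp hz
    exact TopologicalSpace.Opens.mem_iSup.mpr ⟨i, h i hi⟩
  refine ⟨⨆ i, U i, ⨆ i, V i, hUV, ?_, ?_, ?_⟩
  · apply dense_of_gen_subset
    intro x hx
    exact TopologicalSpace.Opens.mem_iSup.mpr ⟨⟨x, hx⟩, hxU ⟨x, hx⟩⟩
  · apply dense_of_gen_subset
    intro y hy
    obtain ⟨x, hx, rfl⟩ := hbij.surjOn hy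
    exact TopologicalSpace.Opens.mem_iSup.mpr ⟨⟨x, hx⟩, h ⟨x, hx⟩ (hxU ⟨x, hx⟩)⟩
  · apply isIso_resLE_iSup f U V h hIso
    intro i j z hzi hzj
    obtain ⟨η, hη, hηW, -⟩ := exists_gen_mem_of_isOpen ((V i).2.inter (V j).2) ⟨hzi, hzj⟩
    have h1 : η = f i.1 := eq_of_gen_mem_nbhd hη (hVN i hηW.1)
    have h2 : η = f j.1 := eq_of_gen_mem_nbhd hη (hVN j hηW.2)
    exact Subtype.ext (hbij.injOn i.2 j.2 (h1.symm.trans h2))

end Groth.Agent.Lib.Helper21.Birat
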