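import Groth.Agent.Lib.Helper21.BiratPoint
import Mathlib.AlgebraicGeometry.PullbackCarrier
import Mathlib.AlgebraicGeometry.Stalk

/-!
# Birational morphisms: base change to the local ring at a generic point is an isomorphism
-/

set_option autoImplicit false
set_option linter.style.haveILetI false
universe u
open AlgebraicGeometry CategoryTheory CategoryTheory.Limits

namespace Groth.Agent.Lib.Helper21.Birat

open Groth.Agent.Lib.Helper7

variable {X Y : Scheme.{u}} (f : X ⟶ Y)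

theorem specializes_of_primeIdealOf_le {V : Y.Opens} (hV : IsAffineOpen V) {y0 y : Y}
    (hy0 : y0 ∈ V) (hy : y ∈ V)
    (h : (hV.primeIdealOf ⟨y0, hy0⟩).asIdeal ≤ (hV.primeIdealOf ⟨y, hy⟩).asIdeal) : y0 ⤳ y := by
  have h2 : hV.primeIdealOf ⟨y0, hy0⟩ ⤳ hV.primeIdealOf ⟨y, hy⟩ :=
    (PrimeSpectrum.le_iff_specializes _ _).mp h
  have h3 : (⟨y0, hy0⟩ : V) ⤳ ⟨y, hy⟩ :=
    (Scheme.homeoOfIso hV.isoSpec).isInducing.specializes_iff.mp h2
  exact Topology.IsInducing.subtypeVal.specializes_iff.mpr h3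

theorem exists_primeIdealOf_eq {U : X.Opens} (hU : IsAffineOpen U) (p : Ideal Γ(X, U))
    [hp : p.IsPrime] : ∃ (x : X) (hx : x ∈ U), (hU.primeIdealOf ⟨x, hx⟩).asIdeal = p := by
  obtain ⟨⟨x, hx⟩, hxp⟩ := (Scheme.homeoOfIso hU.isoSpec).surjective ⟨p, hp⟩
  exact ⟨x, hx, congrArg PrimeSpectrum.asIdeal hxp⟩

set_option maxHeartbeats 1000000 in
/-- For a birational morphism, at a generic point `x0`, the square of sections on affine opens
and stalks is a pushout of rings. -/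
theorem isPushout_germ_stalkMap
    (hinj : Set.InjOn (fun x : X => f.base x) (gen X))
    (hmaps : Set.MapsTo (fun x : X => f.base x) (gen X) (gen Y))
    (hiso : ∀ x : X, x ∈ gen X → IsIso (f.stalkMap x))
    {x0 : X} (hx0 : x0 ∈ gen X) {U : X.Opens} {V : Y.Opens} (hU : IsAffineOpen U)
    (hV : IsAffineOpen V) (h : U ≤ f ⁻¹ᵁ V) (hx0U : x0 ∈ U) (hfx0 : f x0 ∈ V) :
    IsPushout (f.appLE V U h) (Y.presheaf.germ V (f x0) hfx0)
      (X.presheaf.germ U x0 hx0U) (f.stalkMap x0) := by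
  have hy : f x0 ∈ gen Y := hmaps hx0
  letI : Algebra Γ(Y, V) Γ(X, U) := (f.appLE V U h).hom.toAlgebra
  letI := Y.presheaf.algebra_section_stalk ⟨f x0, hfx0⟩
  letI := X.presheaf.algebra_section_stalk ⟨x0, hx0U⟩
  letI : Algebra (Y.presheaf.stalk (f x0)) (X.presheaf.stalk x0) := (f.stalkMap x0).hom.toAlgebra
  letI : Algebra Γ(Y, V) (X.presheaf.stalk x0) :=
    ((Y.presheaf.germ V (f x0) hfx0) ≫ f.stalkMap x0).hom.toAlgebra
  haveI : IsScalarTower Γ(Y, V) (Y.presheaf.stalk (f x0)) (X.presheaf.stalk x0) :=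
    IsScalarTower.of_algebraMap_eq' rfl
  haveI : IsScalarTower Γ(Y, V) Γ(X, U) (X.presheaf.stalk x0) := by
    apply IsScalarTower.of_algebraMap_eq'
    change ((Y.presheaf.germ V (f x0) hfx0) ≫ f.stalkMap x0).hom =
      ((f.appLE V U h) ≫ X.presheaf.germ U x0 hx0U).hom
    congr 1
    rw [Scheme.Hom.germ_stalkMap, Scheme.Hom.appLE, Category.assoc, TopCat.Presheaf.germ_res]
  haveI := hV.isLocalization_stalk ⟨f x0, hfx0⟩
  haveI := hU.isLocalization_stalk ⟨x0, hx0U⟩
  have := hiso x0 hx0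
  have hs : Function.Surjective (f.stalkMap x0) :=
    ((ConcreteCategory.isIso_iff_bijective _).mp this).2
  have hs' := (surjective_iff_of_arrow_iso
    (IsAffineOpen.arrowStalkMapIso f V hV U hU h hx0U)).mp hs
  have huniq : ∀ p : Ideal Γ(X, U), p.IsPrime → p.comap (algebraMap Γ(Y, V) Γ(X, U)) ≤
      (hV.primeIdealOf ⟨f x0, hfx0⟩).asIdeal → p = (hU.primeIdealOf ⟨x0, hx0U⟩).asIdeal := by
    intro p hp hle
    obtain ⟨x, hxU, rfl⟩ := exists_primeIdealOf_eq hU p
    have h1 := congr($(IsAffineOpen.comap_primeIdealOf_appLE V hV U hU h hxU).1)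
    have h2 : (hV.primeIdealOf ⟨f x, h hxU⟩).asIdeal ≤ (hV.primeIdealOf ⟨f x0, hfx0⟩).asIdeal :=
      h1 ▸ hle
    have h3 : f x ⤳ f x0 := specializes_of_primeIdealOf_le hV (h hxU) hfx0 h2
    have h4 : f x = f x0 := eq_of_specializes_gen hy h3
    have h5 : x = x0 := eq_of_map_eq_gen f hinj hmaps hiso hx0 h4
    subst h5
    rfl
  haveI : IsLocalization (Algebra.algebraMapSubmonoid Γ(X, U)
      (hV.primeIdealOf ⟨f x0, hfx0⟩).asIdeal.primeCompl) (X.presheaf.stalk x0) :=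
    isLocalization_algebraMapSubmonoid_of_unique (hU.primeIdealOf ⟨x0, hx0U⟩).asIdeal
      (hV.primeIdealOf ⟨f x0, hfx0⟩).asIdeal
      congr($(IsAffineOpen.comap_primeIdealOf_appLE V hV U hU h hx0U).1).symm hs' huniq
      (X.presheaf.stalk x0)
  haveI : Algebra.IsPushout Γ(Y, V) Γ(X, U) (Y.presheaf.stalk (f x0)) (X.presheaf.stalk x0) :=
    (Algebra.isLocalization_iff_isPushout (hV.primeIdealOf ⟨f x0, hfx0⟩).asIdeal.primeCompl
      (Y.presheaf.stalk (f x0))).mp inferInstance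
  exact CommRingCat.isPushout_of_isPushout Γ(Y, V) Γ(X, U) (Y.presheaf.stalk (f x0))
    (X.presheaf.stalk x0)

/-- Stacks 0BAA-ish: for a birational morphism, the base change to the local ring at a generic
point of the target is an isomorphism. -/
theorem isIso_snd_fromSpecStalk
    (hinj : Set.InjOn (fun x : X => f.base x) (gen X))
    (hmaps : Set.MapsTo (fun x : X => f.base x) (gen X) (gen Y))
    (hiso : ∀ x : X, x ∈ gen X → IsIso (f.stalkMap x))
    {x0 : X} (hx0 : x0 ∈ gen X) : IsIso (pullback.snd f (Y.fromSpecStalk (f x0))) := by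
  have hy : f x0 ∈ gen Y := hmaps hx0
  obtain ⟨V, U, hV, hU, hx0U, hUV⟩ := exists_affine_nhds f x0
  have hfx0 : f x0 ∈ V := hUV hx0U
  have hpo := isPushout_germ_stalkMap f hinj hmaps hiso hx0 hU hV hUV hx0U hfx0
  have hpb := isPullback_SpecMap_of_isPushout _ _ _ _ hpo
  have := hiso x0 hx0
  have h1 : IsIso (pullback.snd (Spec.map (f.appLE V U hUV))
      (Spec.map (Y.presheaf.germ V (f x0) hfx0))) := by
    rw [← hpb.isoPullback_inv_snd]
    infer_instance
  have e₁ : Spec.map (f.appLE V U hUV) ≫ hV.fromSpec = hU.fromSpec ≫ f :=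
    IsAffineOpen.SpecMap_appLE_fromSpec f hV hU hUV
  have e₂ : Spec.map (Y.presheaf.germ V (f x0) hfx0) ≫ hV.fromSpec =
      𝟙 _ ≫ Y.fromSpecStalk (f x0) := by
    rw [Category.id_comp, ← hV.fromSpecStalk_eq_fromSpecStalk hfx0, IsAffineOpen.fromSpecStalk]
  let m := pullback.map (Spec.map (f.appLE V U hUV)) (Spec.map (Y.presheaf.germ V (f x0) hfx0))
    f (Y.fromSpecStalk (f x0)) hU.fromSpec (𝟙 _) hV.fromSpec e₁ e₂
  have hm : IsIso m := by
    rw [isIso_iff_isOpenImmersion_and_surjective]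
    refine ⟨inferInstance, ⟨?_⟩⟩
    rw [← Set.range_eq_univ, Scheme.Pullback.range_map]
    rw [Set.eq_univ_iff_forall]
    intro z
    refine ⟨?_, ⟨pullback.snd f (Y.fromSpecStalk (f x0)) z, rfl⟩⟩
    rw [Set.mem_preimage, hU.range_fromSpec]
    have hc : f (pullback.fst f (Y.fromSpecStalk (f x0)) z) =
        Y.fromSpecStalk (f x0) (pullback.snd f (Y.fromSpecStalk (f x0)) z) := by
      rw [← Scheme.Hom.comp_apply, ← Scheme.Hom.comp_apply, pullback.condition]
    have hsp : Y.fromSpecStalk (f x0) (pullback.snd f (Y.fromSpecStalk (f x0)) z) ⤳ f x0 := by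
      have : Y.fromSpecStalk (f x0) (pullback.snd f (Y.fromSpecStalk (f x0)) z) ∈
          Set.range (Y.fromSpecStalk (f x0)) := ⟨_, rfl⟩
      rw [Scheme.range_fromSpecStalk] at this
      exact this
    have h4 : f (pullback.fst f (Y.fromSpecStalk (f x0)) z) = f x0 :=
      hc ▸ eq_of_specializes_gen hy hsp
    have h5 := eq_of_map_eq_gen f hinj hmaps hiso hx0 h4
    rw [h5]
    exact hx0U
  have hms : m ≫ pullback.snd f (Y.fromSpecStalk (f x0)) =
      pullback.snd _ _ ≫ 𝟙 _ := pullback.lift_snd _ _ _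
  have : pullback.snd f (Y.fromSpecStalk (f x0)) = inv m ≫ pullback.snd _ _ ≫ 𝟙 _ := by
    rw [← hms, IsIso.inv_hom_id_assoc]
  rw [this]
  infer_instance

end Groth.Agent.Lib.Helper21.Birat
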