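import Groth.Agent.Lib.Helper21.GenFin4

/-!
# Finite function field extensions: the quasi-compact case
-/

set_option autoImplicit false
set_option linter.style.haveILetI false
set_option linter.unusedSectionVars false
universe u
open AlgebraicGeometry CategoryTheory Limits TopologicalSpace
open Groth.Agent.Lib.Helper20.DimTrdeg

namespace Groth.Agent.Lib.Helper21.GenFin

theorem basicOpen_le_of_dvd {X : Scheme.{u}} {U : X.Opens} {a b : Γ(X, U)} (h : a ∣ b) :
    X.basicOpen b ≤ X.basicOpen a := by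
  obtain ⟨d, rfl⟩ := h
  rw [Scheme.basicOpen_mul]
  exact inf_le_left

theorem nonempty_basicOpen_of_ne_zero {Y : Scheme.{u}} [IsReduced Y] {V : Y.Opens}
    (a : Γ(Y, V)) (ha0 : a ≠ 0) : Nonempty ↥(Y.basicOpen a) := by
  by_contra hcon
  have hbot : Y.basicOpen a = ⊥ := by
    ext z
    simp only [Opens.coe_bot, Set.mem_empty_iff_false, iff_false]
    exact fun hz => hcon ⟨⟨z, hz⟩⟩
  rw [AlgebraicGeometry.basicOpen_eq_bot_iff] at hbot
  exact ha0 hbot

variable {X Y : Scheme.{u}} [IsIntegral X] [IsIntegral Y] (f : X ⟶ Y) [IsDominant f]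
  [LocallyOfFiniteType f]

/-- If the function field extension is finite, sections over a nonempty affine open of `X` are
algebraic over the sections of an affine open of `Y` containing its image. -/
theorem isAlgebraic_appLE
    (hfin : letI := (f.residueFieldMap (genericPoint X)).hom.toAlgebra
      Module.Finite (Y.residueField (f (genericPoint X))) (X.residueField (genericPoint X)))
    (U : X.Opens) (V : Y.Opens) (hU : IsAffineOpen U) (hV : IsAffineOpen V)
    (hUV : U ≤ f ⁻¹ᵁ V) (hξU : genericPoint X ∈ U) :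
    @Algebra.IsAlgebraic Γ(Y, V) Γ(X, U) _ _ (f.appLE V U hUV).hom.toAlgebra := by
  have hfξ : f (genericPoint X) = genericPoint Y := map_genericPoint f
  have hfξV : f (genericPoint X) ∈ V := hUV hξU
  have hneU : Nonempty U := ⟨⟨_, hξU⟩⟩
  have hneV : Nonempty V := ⟨⟨_, hfξV⟩⟩
  have hdomV : IsDomain Γ(Y, V) := inferInstance
  have hdomU : IsDomain Γ(X, U) := inferInstance
  -- algebra structures
  letI aRS : Algebra Γ(Y, V) Γ(X, U) := (f.appLE V U hUV).hom.toAlgebra
  letI aRK : Algebra Γ(Y, V) (Y.residueField (f (genericPoint X))) :=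
    (Y.evaluation V (f (genericPoint X)) hfξV).hom.toAlgebra
  letI aKL : Algebra (Y.residueField (f (genericPoint X))) (X.residueField (genericPoint X)) :=
    (f.residueFieldMap (genericPoint X)).hom.toAlgebra
  letI aSL : Algebra Γ(X, U) (X.residueField (genericPoint X)) :=
    (X.evaluation U (genericPoint X) hξU).hom.toAlgebra
  letI aRL : Algebra Γ(Y, V) (X.residueField (genericPoint X)) :=
    ((algebraMap (Y.residueField (f (genericPoint X))) (X.residueField (genericPoint X))).comp
      (algebraMap Γ(Y, V) (Y.residueField (f (genericPoint X))))).toAlgebra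
  haveI : IsScalarTower Γ(Y, V) (Y.residueField (f (genericPoint X)))
      (X.residueField (genericPoint X)) := IsScalarTower.of_algebraMap_eq fun _ => rfl
  haveI : IsScalarTower Γ(Y, V) Γ(X, U) (X.residueField (genericPoint X)) := by
    refine IsScalarTower.of_algebraMap_eq fun r => ?_
    change (f.residueFieldMap (genericPoint X)).hom
        ((Y.evaluation V (f (genericPoint X)) hfξV).hom r) =
      (X.evaluation U (genericPoint X) hξU).hom ((f.appLE V U hUV).hom r)
    have h1 := Scheme.evaluation_naturality_apply f (genericPoint X) hfξV r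
    rw [h1, Scheme.Hom.appLE]
    simp only [CommRingCat.hom_comp, RingHom.comp_apply]
    have h2 := congrArg (fun g => g.hom ((f.app V).hom r))
      (Groth.Agent.Lib.Helper20.DimTrdeg.map_evaluation hUV (genericPoint X) hξU)
    exact h2.symm
  haveI hfrK := isFractionRing_evaluation_of_eq_genericPoint V hV (f (genericPoint X)) hfξV hfξ
  haveI : Module.Finite (Y.residueField (f (genericPoint X))) (X.residueField (genericPoint X)) :=
    hfin
  have halgKL : Algebra.IsAlgebraic (Y.residueField (f (genericPoint X)))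
      (X.residueField (genericPoint X)) := Algebra.IsAlgebraic.of_finite _ _
  have halgRL : Algebra.IsAlgebraic Γ(Y, V) (X.residueField (genericPoint X)) :=
    (IsFractionRing.comap_isAlgebraic_iff (A := Γ(Y, V))
      (K := Y.residueField (f (genericPoint X))) (C := X.residueField (genericPoint X))).mpr halgKL
  have hinjSL : Function.Injective (algebraMap Γ(X, U) (X.residueField (genericPoint X))) := by
    exact @IsFractionRing.injective Γ(X, U) _ (X.residueField (genericPoint X)) _
      (evη U hξU).toAlgebra (isFractionRing_evη U hU hξU)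
  exact Algebra.IsAlgebraic.of_injective (IsScalarTower.toAlgHom Γ(Y, V) Γ(X, U)
      (X.residueField (genericPoint X))) hinjSL

/-- Per-chart shrinking: for an affine open `W ≤ f⁻¹ V` there is a nonzero `c` on `V` with
`W ∩ f⁻¹ D(c) ⊆ U`, whenever `U` is a nonempty open. -/
theorem exists_ne_zero_inf_preimage_basicOpen_le
    (hfin : letI := (f.residueFieldMap (genericPoint X)).hom.toAlgebra
      Module.Finite (Y.residueField (f (genericPoint X))) (X.residueField (genericPoint X)))
    (U : X.Opens) (V : Y.Opens) (hV : IsAffineOpen V) (hneV : Nonempty ↥V)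
    (hξU : genericPoint X ∈ U)
    (W : X.Opens) (hW : IsAffineOpen W) (hWV : W ≤ f ⁻¹ᵁ V) :
    ∃ c : Γ(Y, V), c ≠ 0 ∧ W ⊓ f ⁻¹ᵁ (Y.basicOpen c) ≤ U := by
  haveI : Nonempty V := hneV
  have hdomV : IsDomain Γ(Y, V) := inferInstance
  by_cases hne : Nonempty ↥W
  · haveI : Nonempty W := hne
    have hξW : genericPoint X ∈ W := genericPoint_mem_of_nonempty W hne
    obtain ⟨b, hbU, hξb⟩ := hW.exists_basicOpen_le (V := U) ⟨genericPoint X, hξU⟩ hξW
    have hdomW : IsDomain Γ(X, W) := inferInstance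
    have hb0 : b ≠ 0 := by
      rintro rfl
      rw [Scheme.basicOpen_zero] at hξb
      exact hξb
    letI aRS : Algebra Γ(Y, V) Γ(X, W) := (f.appLE V W hWV).hom.toAlgebra
    have halg : Algebra.IsAlgebraic Γ(Y, V) Γ(X, W) :=
      isAlgebraic_appLE f hfin W V hW hV hWV hξW
    obtain ⟨c, hc0, hdvd⟩ := (halg.isAlgebraic b).exists_nonzero_dvd
      (mem_nonZeroDivisors_of_ne_zero hb0)
    refine ⟨c, hc0, ?_⟩
    have h1 : X.basicOpen ((f.appLE V W hWV).hom c) = W ⊓ f ⁻¹ᵁ (Y.basicOpen c) :=
      Scheme.basicOpen_appLE f W V hWV c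
    rw [← h1]
    exact (basicOpen_le_of_dvd hdvd).trans hbU
  · refine ⟨1, one_ne_zero, ?_⟩
    · intro x hx
      exact absurd ⟨⟨x, hx.1⟩⟩ hne

/-- Quasi-compact case: shrink `V` so that the whole preimage lands in `U`. -/
theorem exists_isFinite_morphismRestrict_of_quasiCompact [QuasiCompact f]
    (hfin : letI := (f.residueFieldMap (genericPoint X)).hom.toAlgebra
      Module.Finite (Y.residueField (f (genericPoint X))) (X.residueField (genericPoint X)))
    (hB : ∃ (U : X.Opens) (V : Y.Opens) (hUV : U ≤ f ⁻¹ᵁ V), IsAffineOpen U ∧ IsAffineOpen V ∧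
      Nonempty ↥U ∧ IsFinite (f.resLE V U hUV)) :
    ∃ V : Y.Opens, IsAffineOpen V ∧ Nonempty ↥V ∧ IsFinite (f ∣_ V) := by
  obtain ⟨U, V, hUV, hU, hV, hne, hfinUV⟩ := hB
  have hξU : genericPoint X ∈ U := genericPoint_mem_of_nonempty U hne
  have hneV : Nonempty ↥V := ⟨⟨_, hUV hξU⟩⟩
  haveI : Nonempty V := hneV
  haveI : Nonempty U := hne
  have hdomV : IsDomain Γ(Y, V) := inferInstance
  -- finite affine cover of the preimage
  have hcpt : IsCompact (X := X) (f ⁻¹ᵁ V) := f.isCompact_preimage hV.isCompact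
  obtain ⟨s, hsfin, hs⟩ := isCompact_iff_finite_and_eq_biUnion_affineOpens.mp hcpt
  have hle : ∀ i ∈ s, (i : X.Opens) ≤ f ⁻¹ᵁ V := by
    intro i hi
    rw [hs]
    exact le_iSup₂_of_le i hi le_rfl
  have hex : ∀ i : X.affineOpens, ∃ c : Γ(Y, V), c ≠ 0 ∧
      (i ∈ s → (i : X.Opens) ⊓ f ⁻¹ᵁ (Y.basicOpen c) ≤ U) := by
    intro i
    by_cases hi : i ∈ s
    · obtain ⟨c, hc0, hc⟩ := exists_ne_zero_inf_preimage_basicOpen_le f hfin U V hV hneV hξU
        i.1 i.2 (hle i hi)
      exact ⟨c, hc0, fun _ => hc⟩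
    · exact ⟨1, one_ne_zero, fun h => absurd h hi⟩
  choose c hc0 hc using hex
  set a : Γ(Y, V) := ∏ i ∈ hsfin.toFinset, c i with ha
  have ha0 : a ≠ 0 := Finset.prod_ne_zero_iff.mpr fun i _ => hc0 i
  have hpre : f ⁻¹ᵁ (Y.basicOpen a) ≤ U := by
    intro x hx
    have hxV : x ∈ f ⁻¹ᵁ V := Y.basicOpen_le a hx
    rw [hs] at hxV
    simp only [Opens.mem_iSup] at hxV
    obtain ⟨i, hi, hxi⟩ := hxV
    apply hc i hi
    refine ⟨hxi, ?_⟩
    have hdvd : c i ∣ a := Finset.dvd_prod_of_mem c (hsfin.mem_toFinset.mpr hi)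
    exact basicOpen_le_of_dvd hdvd hx
  have hV' : IsAffineOpen (Y.basicOpen a) := hV.basicOpen a
  have hU' : IsAffineOpen (X.basicOpen ((f.appLE V U hUV).hom a)) := hU.basicOpen _
  have hle' : X.basicOpen ((f.appLE V U hUV).hom a) ≤ f ⁻¹ᵁ (Y.basicOpen a) := by
    rw [Scheme.basicOpen_appLE]
    exact inf_le_right
  have heq : X.basicOpen ((f.appLE V U hUV).hom a) = f ⁻¹ᵁ (Y.basicOpen a) := by
    rw [Scheme.basicOpen_appLE]
    exact le_antisymm inf_le_right (le_inf hpre le_rfl)
  have hφfin : (f.appLE V U hUV).hom.Finite := (isFinite_resLE_iff f hV hU hUV).mp hfinUV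
  have hfin' : IsFinite (f.resLE (Y.basicOpen a) (X.basicOpen ((f.appLE V U hUV).hom a)) hle') := by
    rw [isFinite_resLE_iff f hV' hU' hle']
    letI := hV.isLocalization_basicOpen a
    letI := hU.isLocalization_basicOpen ((f.appLE V U hUV).hom a)
    have h3 := hV.appLE_eq_away_map f hU hUV a
    have h4 : f.appLE (Y.basicOpen a) (X.basicOpen ((f.appLE V U hUV).hom a)) hle' =
        CommRingCat.ofHom (IsLocalization.Away.map _ _ (f.appLE V U hUV).hom a) := h3
    rw [h4]
    exact RingHom.finite_localizationPreserves.away (f.appLE V U hUV).hom a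
      Γ(Y, Y.basicOpen a) Γ(X, X.basicOpen ((f.appLE V U hUV).hom a)) hφfin
  refine ⟨Y.basicOpen a, hV', nonempty_basicOpen_of_ne_zero a ha0, ?_⟩
  rw [← Scheme.Hom.resLE_eq_morphismRestrict]
  exact (Scheme.Hom.resLE_congr f hle' rfl heq @IsFinite).mp hfin'

end Groth.Agent.Lib.Helper21.GenFin
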