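import Groth.Agent.Lib.Helper21.CurveVal
import Mathlib.RingTheory.Valuation.LocalSubring

/-!
# Birational, radicial, universally closed morphisms to a normal scheme (EGA II 7.?)
Auxiliary lemmas.
-/

set_option autoImplicit false
set_option linter.style.haveILetI false
set_option linter.unusedSectionVars false
universe u
open AlgebraicGeometry CategoryTheory Limits TopologicalSpace

namespace Groth.Agent.Lib.Helper21.BirRad

section Lift

variable {X : Scheme.{u}} [IsIntegral X]

/-- If an `R`-point of `X` extends the generic point, then the local ring at the image of the closed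
point is contained in `R` (inside the function field). -/
theorem range_subset_of_lift (R : ValuationSubring X.functionField)
    (l : Spec (CommRingCat.of R) ⟶ X)
    (hl : Spec.map (CommRingCat.ofHom R.subtype) ≫ l = X.fromSpecStalk (genericPoint X)) :
    Set.range (algebraMap
      (X.presheaf.stalk (l (IsLocalRing.closedPoint R))) X.functionField) ⊆
        (R : Set X.functionField) := by
  set x := l (IsLocalRing.closedPoint R) with hxdef
  let ψ : X.presheaf.stalk x ⟶ CommRingCat.of R := Scheme.stalkClosedPointTo l
  have hψl : Spec.map ψ ≫ X.fromSpecStalk x = l := Scheme.Spec_stalkClosedPointTo_fromSpecStalk l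
  have hcomp : ψ ≫ CommRingCat.ofHom R.subtype =
      X.presheaf.stalkSpecializes ((genericPoint_spec X).specializes trivial) := by
    apply Spec.map_injective
    rw [← cancel_mono (X.fromSpecStalk x), Spec.map_comp, Category.assoc, hψl, hl,
      Scheme.SpecMap_stalkSpecializes_fromSpecStalk]
  have hψ : ∀ a : X.presheaf.stalk x, ((ψ.hom a : R) : X.functionField) =
      algebraMap (X.presheaf.stalk x) X.functionField a := by
    intro a
    have := congrArg (fun g => g.hom a) hcomp
    exact this
  rintro _ ⟨a, rfl⟩
  rw [← hψ a]
  exact (ψ.hom a).2

theorem mem_of_lift (R : ValuationSubring X.functionField)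
    (l : Spec (CommRingCat.of R) ⟶ X)
    (hl : Spec.map (CommRingCat.ofHom R.subtype) ≫ l = X.fromSpecStalk (genericPoint X))
    (x : X) (hx : l (IsLocalRing.closedPoint R) = x) (b : X.presheaf.stalk x) :
    algebraMap (X.presheaf.stalk x) X.functionField b ∈ R := by
  subst hx
  exact range_subset_of_lift R l hl ⟨b, rfl⟩

end Lift

section Generic

variable {V : Scheme.{u}} [IsIntegral V]

theorem residue_bijective_of_eq_genericPoint (w : V) (hw : w = genericPoint V) :
    Function.Bijective (V.residue w).hom := by
  subst hw
  refine ⟨?_, V.residue_surjective _⟩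
  exact RingHom.injective (R := V.functionField) _

theorem stalkSpecializes_injective_of_eq_genericPoint (w v : V) (hw : w = genericPoint V)
    (s : w ⤳ v) : Function.Injective (V.presheaf.stalkSpecializes s).hom := by
  subst hw
  exact IsFractionRing.injective (V.presheaf.stalk v) V.functionField

theorem mem_range_stalkSpecializes_of_isIntegralElem (w v : V) (hw : w = genericPoint V)
    (s : w ⤳ v) [IsIntegrallyClosed (V.presheaf.stalk v)] (y : V.presheaf.stalk w)
    (hy : (V.presheaf.stalkSpecializes s).hom.IsIntegralElem y) :
    ∃ a, (V.presheaf.stalkSpecializes s).hom a = y := by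
  subst hw
  have h1 : IsIntegral (V.presheaf.stalk v) (y : V.functionField) := hy
  exact IsIntegrallyClosed.algebraMap_eq_of_integral h1

end Generic

end Groth.Agent.Lib.Helper21.BirRad
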