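import Groth.Agent.Lib.Helper21.MinFin2
import Groth.Agent.Lib.Helper21.ChartPt1
import Groth.Agent.Lib.Helper7.LocalNhd

/-!
# Generic points of irreducible components, and shrinking the base (quasi-compact case)
-/

set_option autoImplicit false
set_option linter.style.haveILetI false
set_option linter.unusedSectionVars false
universe u
open AlgebraicGeometry CategoryTheory Limits TopologicalSpace

namespace Groth.Agent.Lib.Helper21.MinFin

/-- A generic point of an irreducible component has no proper generisations. -/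
theorem eq_of_specializes_of_mem_irreducibleComponents {T : Type*} [TopologicalSpace T] [T0Space T]
    {η y : T} (hη : closure {η} ∈ irreducibleComponents T) (h : y ⤳ η) : y = η := by
  have h1 : closure ({η} : Set T) ⊆ closure {y} := by
    rw [← specializes_iff_closure_subset]; exact h
  have h2 : closure ({y} : Set T) ⊆ closure {η} :=
    hη.2 isIrreducible_singleton.closure h1
  have h3 : η ⤳ y := by
    rw [specializes_iff_closure_subset]; exact h2
  exact (h.antisymm h3).eq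

section Chart

variable {X : Scheme.{u}} {W : X.Opens} (hW : IsAffineOpen W)

theorem fromSpec_mem (q : PrimeSpectrum Γ(X, W)) : hW.fromSpec q ∈ W := by
  have : hW.fromSpec q ∈ Set.range hW.fromSpec := ⟨q, rfl⟩
  rw [hW.range_fromSpec] at this
  exact this

theorem primeIdealOf_fromSpec (q : PrimeSpectrum Γ(X, W)) :
    hW.primeIdealOf ⟨hW.fromSpec q, fromSpec_mem hW q⟩ = q := by
  apply hW.fromSpec.isOpenEmbedding.injective
  exact hW.fromSpec_primeIdealOf ⟨hW.fromSpec q, fromSpec_mem hW q⟩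

theorem primeIdealOf_injective {x y : W} (h : hW.primeIdealOf x = hW.primeIdealOf y) : x = y := by
  apply Subtype.ext
  rw [← hW.fromSpec_primeIdealOf x, ← hW.fromSpec_primeIdealOf y, h]

/-- The prime of a generic point of an irreducible component in an affine chart is a minimal
prime. -/
theorem primeIdealOf_mem_minimalPrimes (η : X) (hη : closure {η} ∈ irreducibleComponents X)
    (hηW : η ∈ W) : (hW.primeIdealOf ⟨η, hηW⟩).asIdeal ∈ minimalPrimes Γ(X, W) := by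
  refine ⟨⟨(hW.primeIdealOf ⟨η, hηW⟩).isPrime, bot_le⟩, ?_⟩
  rintro q ⟨hq, -⟩ hle
  set y := hW.fromSpec ⟨q, hq⟩ with hy
  have hyW : y ∈ W := fromSpec_mem hW _
  have h1 : hW.primeIdealOf ⟨y, hyW⟩ = ⟨q, hq⟩ := primeIdealOf_fromSpec hW _
  have h2 : (y : X) ⤳ η := by
    rw [Groth.Agent.Lib.Helper21.ChartPt.specializes_iff_primeIdealOf_le hW ⟨y, hyW⟩ ⟨η, hηW⟩,
      h1]
    exact hle
  have h3 : y = η := eq_of_specializes_of_mem_irreducibleComponents hη h2
  have h4 : hW.primeIdealOf ⟨η, hηW⟩ = ⟨q, hq⟩ := by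
    rw [← h1]; congr 1; exact Subtype.ext h3.symm
  rw [h4]

end Chart

variable {X Y : Scheme.{u}} (f : X ⟶ Y) (η : Y) (hη : closure {η} ∈ irreducibleComponents Y)
  (V : Y.Opens) (hV : IsAffineOpen V) (hηV : η ∈ V)

include hη hV hηV in
/-- Per-chart shrinking. -/
theorem exists_inf_preimage_basicOpen_le (U W : X.Opens) (hW : IsAffineOpen W)
    (hWV : W ≤ f ⁻¹ᵁ V) (hfib : ∀ x ∈ W, f x = η → x ∈ U) :
    ∃ c : Γ(Y, V), η ∈ Y.basicOpen c ∧ W ⊓ f ⁻¹ᵁ (Y.basicOpen c) ≤ U := by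
  set φ := (f.appLE V W hWV).hom with hφ
  set p := (hV.primeIdealOf ⟨η, hηV⟩).asIdeal with hp
  have hpmin : p ∈ minimalPrimes Γ(Y, V) := primeIdealOf_mem_minimalPrimes hV η hη hηV
  let I : Ideal Γ(X, W) := ⨅ x : {x : X // x ∈ W ∧ x ∉ U}, (hW.primeIdealOf ⟨x.1, x.2.1⟩).asIdeal
  have hImem : ∀ a : Γ(X, W), a ∈ I ↔ ∀ x (hx : x ∈ W), x ∉ U →
      a ∈ (hW.primeIdealOf ⟨x, hx⟩).asIdeal := by
    intro a
    simp only [I, Ideal.mem_iInf, Subtype.forall]
    constructor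
    · intro h x hx hxU; exact h x ⟨hx, hxU⟩
    · intro h x hx; exact h x hx.1 hx.2
  have hJ : ∀ c : Γ(Y, V), φ c ∈ I → W ⊓ f ⁻¹ᵁ (Y.basicOpen c) ≤ U := by
    intro c hc x hx
    by_contra hxU
    have h1 := (hImem _).mp hc x hx.1 hxU
    have h2 : x ∈ X.basicOpen (φ c) := by
      rw [hφ, Scheme.basicOpen_appLE]; exact hx
    exact ((Groth.Agent.Lib.Helper7.mem_basicOpen_iff_notMem_primeIdealOf X hW x hx.1 _).mp h2) h1
  by_contra hcon0
  have hcon : ∀ c : Γ(Y, V), η ∈ Y.basicOpen c → ¬ (W ⊓ f ⁻¹ᵁ (Y.basicOpen c) ≤ U) :=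
    fun c h1 h2 => hcon0 ⟨c, h1, h2⟩
  have hJle : I.comap φ ≤ p := by
    intro c hc
    by_contra hcp
    have h1 : η ∈ Y.basicOpen c :=
      (Groth.Agent.Lib.Helper7.mem_basicOpen_iff_notMem_primeIdealOf Y hV η hηV c).mpr hcp
    exact hcon c h1 (hJ c hc)
  have hmin : p ∈ (I.comap φ).minimalPrimes := by
    refine ⟨⟨hpmin.1.1, hJle⟩, ?_⟩
    rintro q ⟨hq, -⟩ hqp
    exact hpmin.2 ⟨hq, bot_le⟩ hqp
  obtain ⟨p', hp'prime, hIp', hp'comap⟩ := Ideal.exists_comap_eq_of_mem_minimalPrimes φ p hmin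
  set x := hW.fromSpec ⟨p', hp'prime⟩ with hx
  have hxW : x ∈ W := fromSpec_mem hW _
  have h1 : hW.primeIdealOf ⟨x, hxW⟩ = ⟨p', hp'prime⟩ := primeIdealOf_fromSpec hW _
  have hfx : f x = η := by
    have h2 := IsAffineOpen.comap_primeIdealOf_appLE V hV W hW hWV hxW
    rw [h1] at h2
    have h3 : hV.primeIdealOf ⟨f x, hWV hxW⟩ = hV.primeIdealOf ⟨η, hηV⟩ := by
      rw [← h2]
      apply PrimeSpectrum.ext
      exact hp'comap
    exact congrArg Subtype.val (primeIdealOf_injective hV h3)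
  have hxU : x ∈ U := hfib x hxW hfx
  obtain ⟨a, haU, hxa⟩ := hW.exists_basicOpen_le (V := U) ⟨x, hxU⟩ hxW
  have haI : a ∈ I := by
    rw [hImem]
    intro z hz hzU
    by_contra hza
    exact hzU (haU
      ((Groth.Agent.Lib.Helper7.mem_basicOpen_iff_notMem_primeIdealOf X hW z hz a).mpr hza))
  have h5 := (Groth.Agent.Lib.Helper7.mem_basicOpen_iff_notMem_primeIdealOf X hW x hxW a).mp hxa
  rw [h1] at h5
  exact h5 (hIp' haI)

include hη hV hηV in
/-- Shrinking the base so that a compact open part of the preimage lands in `U`. -/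
theorem exists_inf_preimage_basicOpen_le_of_isCompact (U K : X.Opens)
    (hK : IsCompact (K : Set X)) (hKV : K ≤ f ⁻¹ᵁ V) (hfib : ∀ x ∈ K, f x = η → x ∈ U) :
    ∃ c : Γ(Y, V), η ∈ Y.basicOpen c ∧ K ⊓ f ⁻¹ᵁ (Y.basicOpen c) ≤ U := by
  obtain ⟨s, hsfin, hs⟩ := isCompact_iff_finite_and_eq_biUnion_affineOpens.mp hK
  have hle : ∀ i ∈ s, (i : X.Opens) ≤ K := by
    intro i hi
    rw [hs]
    exact le_iSup₂_of_le i hi le_rfl
  have hex : ∀ i : X.affineOpens, ∃ c : Γ(Y, V), η ∈ Y.basicOpen c ∧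
      (i ∈ s → (i : X.Opens) ⊓ f ⁻¹ᵁ (Y.basicOpen c) ≤ U) := by
    intro i
    by_cases hi : i ∈ s
    · obtain ⟨c, hc0, hc⟩ := exists_inf_preimage_basicOpen_le f η hη V hV hηV U i.1 i.2
        ((hle i hi).trans hKV) (fun x hx => hfib x (hle i hi hx))
      exact ⟨c, hc0, fun _ => hc⟩
    · refine ⟨1, ?_, fun h => absurd h hi⟩
      rw [Scheme.basicOpen_of_isUnit _ isUnit_one]
      exact hηV
  choose c hc0 hc using hex
  set p := (hV.primeIdealOf ⟨η, hηV⟩).asIdeal with hp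
  set a : Γ(Y, V) := ∏ i ∈ hsfin.toFinset, c i with ha
  have haη : η ∈ Y.basicOpen a := by
    rw [Groth.Agent.Lib.Helper7.mem_basicOpen_iff_notMem_primeIdealOf Y hV η hηV a]
    intro hmem
    obtain ⟨i, -, hi⟩ := (Ideal.IsPrime.prod_mem_iff).mp hmem
    exact ((Groth.Agent.Lib.Helper7.mem_basicOpen_iff_notMem_primeIdealOf Y hV η hηV _).mp
      (hc0 i)) hi
  refine ⟨a, haη, ?_⟩
  intro x hx
  have hxK : x ∈ K := hx.1
  rw [hs] at hxK
  simp only [Opens.mem_iSup] at hxK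
  obtain ⟨i, hi, hxi⟩ := hxK
  apply hc i hi
  refine ⟨hxi, ?_⟩
  have hdvd : c i ∣ a := Finset.dvd_prod_of_mem c (hsfin.mem_toFinset.mpr hi)
  obtain ⟨d, hd⟩ := hdvd
  have h1 : Y.basicOpen a ≤ Y.basicOpen (c i) := by
    rw [hd, Scheme.basicOpen_mul]; exact inf_le_left
  exact h1 hx.2

end Groth.Agent.Lib.Helper21.MinFin
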