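import Groth.Agent.Lib.Helper21.DVRExt9
import Mathlib.AlgebraicGeometry.ValuativeCriterion

/-!
# The existence part of the valuative criterion from discrete valuation rings
(locally Noetherian base, finite type morphism)

For `f : X ⟶ S` of finite type over a locally Noetherian base and a point `x : X`: if every square
`Spec κ(x) → X`, `Spec A → S` with `A` a discrete valuation subring of `κ(x)` has a lift, then so
has every such square with `A` an arbitrary valuation subring of `κ(x)`.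
-/

set_option autoImplicit false
universe u
open AlgebraicGeometry CategoryTheory Limits TopologicalSpace

namespace Groth.Agent.Lib.Helper21.DVRExt

variable {X S : Scheme.{u}}

/-- A morphism from a local spectrum factors through any affine open containing the image of the
closed point. -/
theorem exists_factor_fromSpec {R : CommRingCat.{u}} [IsLocalRing R] (g : Spec R ⟶ X)
    {W : X.Opens} (hW : IsAffineOpen W) (h : g (IsLocalRing.closedPoint R) ∈ W) :
    ∃ φ : Γ(X, W) ⟶ R, Spec.map φ ≫ hW.fromSpec = g := by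
  have hr : Set.range g ⊆ Set.range hW.fromSpec := by
    rw [hW.range_fromSpec]
    have := range_subset_of_closedPoint_mem g W h
    rwa [Scheme.Opens.range_ι] at this
  refine ⟨Spec.preimage (IsOpenImmersion.lift hW.fromSpec g hr), ?_⟩
  rw [Spec.map_preimage, IsOpenImmersion.lift_fac]

theorem fromSpecResidueField_eq_evaluation {W : X.Opens} (hW : IsAffineOpen W) (x : X)
    (hx : x ∈ W) :
    X.fromSpecResidueField x = Spec.map (X.evaluation W x hx) ≫ hW.fromSpec := by
  rw [Scheme.fromSpecResidueField, ← hW.fromSpecStalk_eq_fromSpecStalk hx,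
    IsAffineOpen.fromSpecStalk, ← Scheme.germ_residue, Spec.map_comp, Category.assoc]

theorem specMap_fromSpec_cancel {W : X.Opens} (hW : IsAffineOpen W) {R : CommRingCat.{u}}
    {a b : Γ(X, W) ⟶ R} (h : Spec.map a ≫ hW.fromSpec = Spec.map b ≫ hW.fromSpec) : a = b :=
  Spec.map_injective ((cancel_mono hW.fromSpec).mp h)

theorem mem_of_specMap_fromSpec {W : X.Opens} (hW : IsAffineOpen W) {R : CommRingCat.{u}}
    (a : Γ(X, W) ⟶ R) (p : Spec R) : (Spec.map a ≫ hW.fromSpec) p ∈ W := by
  have : (Spec.map a ≫ hW.fromSpec) p ∈ Set.range hW.fromSpec := ⟨Spec.map a p, rfl⟩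
  rwa [hW.range_fromSpec] at this

/-- **From discrete valuation rings to arbitrary valuation rings** (at a point). -/
theorem exists_lift_of_dvr_at [IsLocallyNoetherian S] (f : X ⟶ S) [LocallyOfFiniteType f]
    [QuasiCompact f] (x : X)
    (H : ∀ (A : ValuationSubring (X.residueField x)), IsDiscreteValuationRing A →
      ∀ y : Spec (CommRingCat.of A) ⟶ S,
        Spec.map (CommRingCat.ofHom A.subtype) ≫ y = X.fromSpecResidueField x ≫ f →
        ∃ l : Spec (CommRingCat.of A) ⟶ X, l ≫ f = y ∧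
          Spec.map (CommRingCat.ofHom A.subtype) ≫ l = X.fromSpecResidueField x)
    (V : ValuationSubring (X.residueField x)) (y : Spec (CommRingCat.of V) ⟶ S)
    (hy : Spec.map (CommRingCat.ofHom V.subtype) ≫ y = X.fromSpecResidueField x ≫ f) :
    ∃ l : Spec (CommRingCat.of V) ⟶ X, l ≫ f = y ∧
      Spec.map (CommRingCat.ofHom V.subtype) ≫ l = X.fromSpecResidueField x := by
  classical
  let pt : Spec (X.residueField x) := (⟨⊥, Ideal.isPrime_bot⟩ : PrimeSpectrum (X.residueField x))
  -- a chart on `S`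
  obtain ⟨W₀, hW₀, hsW₀⟩ : ∃ W₀ : S.Opens, IsAffineOpen W₀ ∧
      y (IsLocalRing.closedPoint V) ∈ W₀ := by
    obtain ⟨W, h1, h2, -⟩ := Opens.isBasis_iff_nbhd.mp S.isBasis_affineOpens
      (show y (IsLocalRing.closedPoint V) ∈ (⊤ : S.Opens) from trivial)
    exact ⟨W, h1, h2⟩
  obtain ⟨φ, hφ⟩ := exists_factor_fromSpec y hW₀ hsW₀
  have hRN : IsNoetherianRing Γ(S, W₀) := IsLocallyNoetherian.component_noetherian ⟨W₀, hW₀⟩
  let ρ : Γ(S, W₀) ⟶ X.residueField x := φ ≫ CommRingCat.ofHom V.subtype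
  have hρ : Spec.map ρ ≫ hW₀.fromSpec = X.fromSpecResidueField x ≫ f := by
    rw [Spec.map_comp, Category.assoc, hφ]
    exact hy
  have hfx : f x ∈ W₀ := by
    have h1 := mem_of_specMap_fromSpec hW₀ ρ pt
    rwa [hρ, Scheme.Hom.comp_apply, Scheme.fromSpecResidueField_apply] at h1
  -- a finite affine cover of the preimage
  have hcomp : IsCompact ((f ⁻¹ᵁ W₀ : X.Opens) : Set X) :=
    QuasiCompact.isCompact_preimage (f := f) _ W₀.isOpen hW₀.isCompact
  obtain ⟨𝒲, h𝒲fin, h𝒲⟩ := isCompact_iff_finite_and_eq_biUnion_affineOpens.mp hcomp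
  have hmem𝒲 : ∀ t : X, f t ∈ W₀ → ∃ W ∈ 𝒲, t ∈ (W : X.Opens) := by
    intro t ht
    have h1 : t ∈ (f ⁻¹ᵁ W₀ : X.Opens) := ht
    rw [h𝒲] at h1
    simpa using h1
  have hle𝒲 : ∀ W ∈ 𝒲, (W : X.Opens) ≤ f ⁻¹ᵁ W₀ := by
    intro W hW
    rw [h𝒲]
    exact le_iSup₂ (f := fun (i : X.affineOpens) (_ : i ∈ 𝒲) => (i : X.Opens)) W hW
  -- compatibility of the evaluations
  have hcompat : ∀ (W : X.affineOpens) (hW : W ∈ 𝒲) (hx : x ∈ (W : X.Opens)),
      f.appLE W₀ W (hle𝒲 W hW) ≫ X.evaluation W x hx = ρ := by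
    intro W hW hx
    apply specMap_fromSpec_cancel hW₀
    rw [Spec.map_comp, Category.assoc, IsAffineOpen.SpecMap_appLE_fromSpec f hW₀ W.2 (hle𝒲 W hW),
      ← Category.assoc, ← fromSpecResidueField_eq_evaluation W.2 x hx, hρ]
  by_cases hcase : ∃ W ∈ 𝒲, ∃ hx : x ∈ (W : X.Opens), ∀ b, (X.evaluation W x hx).hom b ∈ V
  · -- some chart maps into `V`
    obtain ⟨W, hW, hx, hb⟩ := hcase
    let lam : Γ(X, W) ⟶ CommRingCat.of V :=
      CommRingCat.ofHom ((X.evaluation W x hx).hom.codRestrict V.toSubring hb)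
    have hlam : lam ≫ CommRingCat.ofHom V.subtype = X.evaluation W x hx := by
      ext b; rfl
    refine ⟨Spec.map lam ≫ W.2.fromSpec, ?_, ?_⟩
    · rw [← hφ, Category.assoc, ← IsAffineOpen.SpecMap_appLE_fromSpec f hW₀ W.2 (hle𝒲 W hW),
        ← Category.assoc, ← Spec.map_comp]
      congr 2
      ext r
      have h1 := congrArg (fun g => g.hom r) (hcompat W hW hx)
      exact h1
    · rw [← Category.assoc, ← Spec.map_comp, hlam, ← fromSpecResidueField_eq_evaluation]
  · -- no chart maps into `V`: build a discrete valuation ring without lift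
    exfalso
    push Not at hcase
    choose b hb using hcase
    let c : X.affineOpens → X.residueField x := fun W =>
      if h : W ∈ 𝒲 ∧ x ∈ (W : X.Opens) then ((X.evaluation W x h.2).hom (b W h.1 h.2))⁻¹ else 0
    have hc : ∀ (W : X.affineOpens) (hW : W ∈ 𝒲) (hx : x ∈ (W : X.Opens)),
        c W = ((X.evaluation W x hx).hom (b W hW hx))⁻¹ := by
      intro W hW hx
      simp only [c, dif_pos (And.intro hW hx)]
    let T : Finset (X.residueField x) := h𝒲fin.toFinset.image c
    have hTval : ∀ t ∈ T, V.valuation t < 1 := by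
      intro t ht
      obtain ⟨W, -, rfl⟩ := Finset.mem_image.mp ht
      by_cases h : W ∈ 𝒲 ∧ x ∈ (W : X.Opens)
      · rw [hc W h.1 h.2, map_inv₀]
        have h1 : ¬ V.valuation ((X.evaluation W x h.2).hom (b W h.1 h.2)) ≤ 1 := fun hle =>
          hb W h.1 h.2 ((V.valuation_le_one_iff _).mp hle)
        exact inv_lt_one_of_one_lt₀ (not_le.mp h1)
      · simp only [c, dif_neg h, map_zero]
        exact zero_lt_one
    have hTV : ∀ t ∈ T, t ∈ V := fun t ht => (V.valuation_le_one_iff t).mp (hTval t ht).le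
    -- the Noetherian domain `R'`
    let algR : Algebra Γ(S, W₀) (X.residueField x) := ρ.hom.toAlgebra
    let R' : Subalgebra Γ(S, W₀) (X.residueField x) := Algebra.adjoin Γ(S, W₀) (T : Set _)
    have hR'fg : R'.FG := Subalgebra.fg_adjoin_finset T
    have hR'ft : Algebra.FiniteType Γ(S, W₀) R' := (Subalgebra.fg_iff_finiteType R').mp hR'fg
    have hR'N : IsNoetherianRing R' := Algebra.FiniteType.isNoetherianRing Γ(S, W₀) R'
    let V' : Subalgebra Γ(S, W₀) (X.residueField x) :=
      { V.toSubring with algebraMap_mem' := fun r => (φ.hom r).2 }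
    have hR'V : R' ≤ V' := Algebra.adjoin_le fun t ht => hTV t (Finset.mem_coe.mp ht)
    let ι : R' →+* V := (R'.val : R' →+* X.residueField x).codRestrict V.toSubring
      (fun r => hR'V r.2)
    let 𝔭' : Ideal R' := (IsLocalRing.maximalIdeal V).comap ι
    have h𝔭'prime : 𝔭'.IsPrime := Ideal.comap_isPrime ι _
    have hmem𝔭' : ∀ r : R', r ∈ 𝔭' ↔ V.valuation (r : X.residueField x) < 1 := by
      intro r
      change ι r ∈ IsLocalRing.maximalIdeal V ↔ _
      rw [V.valuation_lt_one_iff]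
      rfl
    obtain ⟨W₁, hW₁, hxW₁⟩ := hmem𝒲 x hfx
    have hcW₁T : c W₁ ∈ T :=
      Finset.mem_image_of_mem c (h𝒲fin.mem_toFinset.mpr hW₁)
    have hcW₁0 : c W₁ ≠ 0 := by
      rw [hc W₁ hW₁ hxW₁]
      refine inv_ne_zero fun h0 => hb W₁ hW₁ hxW₁ ?_
      rw [h0]; exact zero_mem V
    have h𝔭'0 : 𝔭' ≠ ⊥ := by
      intro hbot
      have h1 : (⟨c W₁, Algebra.subset_adjoin (Finset.mem_coe.mpr hcW₁T)⟩ : R') ∈ 𝔭' :=
        (hmem𝔭' _).mpr (hTval _ hcW₁T)
      rw [hbot, Ideal.mem_bot] at h1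
      exact hcW₁0 (congrArg Subtype.val h1)
    -- generators of the residue field
    let algRB : Algebra Γ(S, W₀) Γ(X, W₁) := (f.appLE W₀ W₁ (hle𝒲 W₁ hW₁)).hom.toAlgebra
    have hft : Algebra.FiniteType Γ(S, W₀) Γ(X, W₁) :=
      HasRingHomProperty.appLE (P := @LocallyOfFiniteType) f inferInstance ⟨W₀, hW₀⟩ W₁
        (hle𝒲 W₁ hW₁)
    obtain ⟨t, ht⟩ := (Algebra.FiniteType.out : (⊤ : Subalgebra Γ(S, W₀) Γ(X, W₁)).FG)
    let S₀ : Finset (X.residueField x) := t.image (X.evaluation W₁ x hxW₁).hom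
    have hS₀ : Subfield.closure (Set.range (algebraMap R' (X.residueField x)) ∪ (S₀ : Set _))
        = ⊤ := by
      set G := Subfield.closure (Set.range (algebraMap R' (X.residueField x)) ∪ (S₀ : Set _))
        with hG
      have hψG : ∀ b : Γ(X, W₁), (X.evaluation W₁ x hxW₁).hom b ∈ G := by
        intro b
        have hb' : b ∈ Algebra.adjoin Γ(S, W₀) (t : Set Γ(X, W₁)) := by
          rw [ht]; exact Algebra.mem_top
        induction hb' using Algebra.adjoin_induction with
        | mem g hg =>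
          exact Subfield.subset_closure
            (Or.inr (Finset.mem_coe.mpr (Finset.mem_image_of_mem _ hg)))
        | algebraMap a =>
          refine Subfield.subset_closure (Or.inl ⟨algebraMap Γ(S, W₀) R' a, ?_⟩)
          have h1 := congrArg (fun g => g.hom a) (hcompat W₁ hW₁ hxW₁)
          exact h1.symm
        | add b₁ b₂ _ _ h₁ h₂ => rw [map_add]; exact add_mem h₁ h₂
        | mul b₁ b₂ _ _ h₁ h₂ => rw [map_mul]; exact mul_mem h₁ h₂
      rw [eq_top_iff]
      intro z _
      obtain ⟨b₁, s₁, -, rfl⟩ := residueField_eq_div W₁.2 x hxW₁ z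
      exact div_mem (hψG b₁) (hψG s₁)
    obtain ⟨A, hAdvr, hR'A, hAval⟩ :=
      KA.exists_dvr_of_closure_eq_top R' (X.residueField x) Subtype.val_injective S₀ hS₀ 𝔭' h𝔭'0
    -- the square for `A`
    have hρA : ∀ r : Γ(S, W₀), ρ.hom r ∈ A.toSubring := fun r =>
      hR'A (algebraMap Γ(S, W₀) R' r)
    let χ : Γ(S, W₀) →+* A := ρ.hom.codRestrict A.toSubring hρA
    let yA : Spec (CommRingCat.of A) ⟶ S := Spec.map (CommRingCat.ofHom χ) ≫ hW₀.fromSpec
    have hyA : Spec.map (CommRingCat.ofHom A.subtype) ≫ yA = X.fromSpecResidueField x ≫ f := by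
      rw [← hρ]
      change Spec.map (CommRingCat.ofHom A.subtype) ≫ Spec.map (CommRingCat.ofHom χ) ≫
        hW₀.fromSpec = _
      rw [← Category.assoc, ← Spec.map_comp]
      rfl
    obtain ⟨l, hl1, hl2⟩ := H A hAdvr yA hyA
    have hfx' : f (l (IsLocalRing.closedPoint A)) ∈ W₀ := by
      rw [← Scheme.Hom.comp_apply, hl1]
      exact mem_of_specMap_fromSpec hW₀ _ _
    obtain ⟨W, hW, hx'W⟩ := hmem𝒲 _ hfx'
    obtain ⟨lam, hlam⟩ := exists_factor_fromSpec l W.2 hx'W
    have hxW : x ∈ (W : X.Opens) := by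
      have h1 := mem_of_specMap_fromSpec W.2 (lam ≫ CommRingCat.ofHom A.subtype) pt
      rw [Spec.map_comp, Category.assoc, hlam] at h1
      have h2 : (Spec.map (CommRingCat.ofHom A.subtype) ≫ l) pt = x := by
        rw [hl2, Scheme.fromSpecResidueField_apply]
      rwa [h2] at h1
    have hlam2 : lam ≫ CommRingCat.ofHom A.subtype = X.evaluation W x hxW := by
      apply specMap_fromSpec_cancel W.2
      rw [Spec.map_comp, Category.assoc, hlam, ← fromSpecResidueField_eq_evaluation W.2 x hxW]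
      exact hl2
    have hbA : (X.evaluation W x hxW).hom (b W hW hxW) ∈ A := by
      rw [← hlam2]
      exact (lam.hom (b W hW hxW)).2
    have hcWT : c W ∈ T := Finset.mem_image_of_mem c (h𝒲fin.mem_toFinset.mpr hW)
    have h1 : A.valuation (c W) < 1 := by
      have h2 := (hAval ⟨c W, Algebra.subset_adjoin (Finset.mem_coe.mpr hcWT)⟩).mpr
        ((hmem𝔭' _).mpr (hTval _ hcWT))
      exact h2
    have h3 : A.valuation ((X.evaluation W x hxW).hom (b W hW hxW)) ≤ 1 :=
      (A.valuation_le_one_iff _).mpr hbA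
    have h4 : (X.evaluation W x hxW).hom (b W hW hxW) ≠ 0 := by
      intro h0
      exact hb W hW hxW (h0 ▸ zero_mem V)
    have h5 : A.valuation (c W) * A.valuation ((X.evaluation W x hxW).hom (b W hW hxW)) = 1 := by
      rw [← map_mul, hc W hW hxW, inv_mul_cancel₀ h4, map_one]
    have h6 : A.valuation (c W) * A.valuation ((X.evaluation W x hxW).hom (b W hW hxW)) < 1 :=
      (mul_le_of_le_one_right' h3).trans_lt h1
    exact absurd h5 h6.ne

/-- Existence of lifts for the valuation subrings of the residue fields implies the existence part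
of the valuative criterion. -/
theorem valuativeCriterion_existence_of_valuationSubring (f : X ⟶ S)
    (H : ∀ (x : X) (V : ValuationSubring (X.residueField x)) (y : Spec (CommRingCat.of V) ⟶ S),
      Spec.map (CommRingCat.ofHom V.subtype) ≫ y = X.fromSpecResidueField x ≫ f →
      ∃ l : Spec (CommRingCat.of V) ⟶ X, l ≫ f = y ∧
        Spec.map (CommRingCat.ofHom V.subtype) ≫ l = X.fromSpecResidueField x) :
    ValuativeCriterion.Existence f := by
  rintro ⟨R, K, i₁, i₂, ⟨w⟩⟩
  let x : X := i₁ (IsLocalRing.closedPoint K)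
  let ψ : X.residueField x ⟶ CommRingCat.of K :=
    Scheme.descResidueField (Scheme.stalkClosedPointTo i₁)
  have hψ : Spec.map ψ ≫ X.fromSpecResidueField x = i₁ :=
    Scheme.descResidueField_stalkClosedPointTo_fromSpecResidueField K X i₁
  let RK : ValuationSubring K := KA.toValuationSubring R K
  let V : ValuationSubring (X.residueField x) := RK.comap ψ.hom
  let e : R ≃+* RK := KA.toValuationSubringEquiv R K
  let θ₀ : V →+* RK := (ψ.hom.comp V.subtype).codRestrict RK.toSubring (fun a => a.2)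
  let θ : V →+* R := (e.symm : RK →+* R).comp θ₀
  have hθ : ∀ a : V, algebraMap R K (θ a) = ψ.hom (a : X.residueField x) := by
    intro a
    have h1 : (e (θ a) : K) = algebraMap R K (θ a) := KA.coe_toValuationSubringEquiv R K _
    rw [← h1]
    change ((e (e.symm (θ₀ a)) : RK) : K) = _
    rw [e.apply_symm_apply]
    rfl
  -- a chart on `S`
  obtain ⟨W₀, hW₀, hsW₀⟩ : ∃ W₀ : S.Opens, IsAffineOpen W₀ ∧
      i₂ (IsLocalRing.closedPoint R) ∈ W₀ := by
    obtain ⟨W, h1, h2, -⟩ := Opens.isBasis_iff_nbhd.mp S.isBasis_affineOpens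
      (show i₂ (IsLocalRing.closedPoint R) ∈ (⊤ : S.Opens) from trivial)
    exact ⟨W, h1, h2⟩
  obtain ⟨φ, hφ⟩ := exists_factor_fromSpec (R := CommRingCat.of R) i₂ hW₀ hsW₀
  have hfx : (X.fromSpecResidueField x ≫ f) (IsLocalRing.closedPoint (X.residueField x)) ∈ W₀ := by
    have h1 := mem_of_specMap_fromSpec hW₀ (φ ≫ CommRingCat.ofHom (algebraMap R K))
      (IsLocalRing.closedPoint K)
    rw [Spec.map_comp, Category.assoc, hφ, ← w, ← hψ, Category.assoc,
      Scheme.Hom.comp_apply] at h1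
    have h2 : Spec.map ψ (IsLocalRing.closedPoint K) =
        IsLocalRing.closedPoint (X.residueField x) := by
      apply PrimeSpectrum.ext
      exact Ideal.eq_bot_of_prime _ |>.trans (Ideal.eq_bot_of_prime _).symm
    rwa [h2] at h1
  obtain ⟨ρ, hρ⟩ := exists_factor_fromSpec (X.fromSpecResidueField x ≫ f) hW₀ hfx
  have hcomm : φ ≫ CommRingCat.ofHom (algebraMap R K) = ρ ≫ ψ := by
    apply specMap_fromSpec_cancel hW₀
    rw [Spec.map_comp, Category.assoc, hφ, ← w, Spec.map_comp, Category.assoc, hρ,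
      ← Category.assoc, hψ]
  have hρV : ∀ r : Γ(S, W₀), ρ.hom r ∈ V.toSubring := by
    intro r
    change ψ.hom (ρ.hom r) ∈ RK
    have h1 := congrArg (fun g => g.hom r) hcomm
    exact ⟨φ.hom r, h1⟩
  let ρ' : Γ(S, W₀) ⟶ CommRingCat.of V := CommRingCat.ofHom (ρ.hom.codRestrict V.toSubring hρV)
  have hρ'θ : ρ' ≫ CommRingCat.ofHom θ = φ := by
    ext r
    apply IsFractionRing.injective R K
    have h1 := congrArg (fun g => g.hom r) hcomm
    exact (hθ _).trans h1.symm
  let y : Spec (CommRingCat.of V) ⟶ S := Spec.map ρ' ≫ hW₀.fromSpec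
  have hy : Spec.map (CommRingCat.ofHom V.subtype) ≫ y = X.fromSpecResidueField x ≫ f := by
    rw [← hρ]
    change Spec.map (CommRingCat.ofHom V.subtype) ≫ Spec.map ρ' ≫ hW₀.fromSpec = _
    rw [← Category.assoc, ← Spec.map_comp]
    rfl
  obtain ⟨l, hl1, hl2⟩ := H x V y hy
  have hθψ : CommRingCat.ofHom θ ≫ CommRingCat.ofHom (algebraMap R K) =
      CommRingCat.ofHom V.subtype ≫ ψ := by
    ext a
    exact hθ a
  refine ⟨⟨⟨Spec.map (CommRingCat.ofHom θ) ≫ l, ?_, ?_⟩⟩⟩
  · rw [← Category.assoc, ← Spec.map_comp, hθψ, Spec.map_comp, Category.assoc]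
    exact (congrArg (fun z => Spec.map ψ ≫ z) hl2).trans hψ
  · rw [Category.assoc, hl1]
    change Spec.map (CommRingCat.ofHom θ) ≫ Spec.map ρ' ≫ hW₀.fromSpec = _
    rw [← Category.assoc, ← Spec.map_comp, hρ'θ, hφ]

end Groth.Agent.Lib.Helper21.DVRExt
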