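import Mathlib.RingTheory.Valuation.LocalSubring
import Mathlib.RingTheory.Valuation.ValuationSubring
import Mathlib.RingTheory.LocalRing.ResidueField.Basic

/-!
# Composite valuation subrings

`V₁` a valuation subring of a field `F`, `V₂` a valuation subring of the residue field of `V₁`:
the composite `{a ∈ V₁ | ā ∈ V₂}` is a valuation subring of `F`.
-/

set_option autoImplicit false
universe u

namespace Groth.Agent.Lib.Helper21.Comp

variable {F : Type u} [Field F] (V₁ : ValuationSubring F)
  (V₂ : ValuationSubring (IsLocalRing.ResidueField V₁))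

/-- The composite of two valuation subrings. -/
def composite : ValuationSubring F where
  toSubring := (V₂.toSubring.comap (IsLocalRing.residue V₁)).map V₁.toSubring.subtype
  mem_or_inv_mem' := by
    intro a
    by_cases ha : a ∈ V₁
    · by_cases hu : IsUnit (⟨a, ha⟩ : V₁)
      · -- a unit of `V₁`
        obtain ⟨b, hb⟩ := hu.exists_right_inv
        have hbK : a * (b : F) = 1 := congrArg Subtype.val hb
        have hainv : a⁻¹ = (b : F) := (eq_inv_of_mul_eq_one_right hbK).symm ▸ rfl
        have hres : IsLocalRing.residue V₁ ⟨a, ha⟩ * IsLocalRing.residue V₁ b = 1 := by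
          rw [← map_mul, hb, map_one]
        rcases V₂.mem_or_inv_mem (IsLocalRing.residue V₁ ⟨a, ha⟩) with h | h
        · exact Or.inl ⟨⟨a, ha⟩, h, rfl⟩
        · refine Or.inr ⟨b, ?_, hainv.symm⟩
          have : IsLocalRing.residue V₁ b = (IsLocalRing.residue V₁ ⟨a, ha⟩)⁻¹ :=
            eq_inv_of_mul_eq_one_right hres
          change IsLocalRing.residue V₁ b ∈ V₂
          rw [this]; exact h
      · -- a non-unit of `V₁`
        refine Or.inl ⟨⟨a, ha⟩, ?_, rfl⟩
        change IsLocalRing.residue V₁ ⟨a, ha⟩ ∈ V₂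
        have : IsLocalRing.residue V₁ ⟨a, ha⟩ = 0 :=
          (IsLocalRing.residue_eq_zero_iff _).mpr ((IsLocalRing.mem_maximalIdeal _).mpr hu)
        rw [this]; exact zero_mem V₂
    · -- `a ∉ V₁`
      have hainv : a⁻¹ ∈ V₁ := (V₁.mem_or_inv_mem a).resolve_left ha
      refine Or.inr ⟨⟨a⁻¹, hainv⟩, ?_, rfl⟩
      change IsLocalRing.residue V₁ ⟨a⁻¹, hainv⟩ ∈ V₂
      have hnu : ¬ IsUnit (⟨a⁻¹, hainv⟩ : V₁) := by
        intro hu
        obtain ⟨b, hb⟩ := hu.exists_right_inv
        have hbK : a⁻¹ * (b : F) = 1 := congrArg Subtype.val hb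
        have : a = (b : F) := by
          have h0 : a⁻¹ ≠ 0 := left_ne_zero_of_mul_eq_one hbK
          have := eq_inv_of_mul_eq_one_right hbK
          rw [inv_inv] at this
          exact this.symm
        exact ha (this ▸ b.2)
      have : IsLocalRing.residue V₁ ⟨a⁻¹, hainv⟩ = 0 :=
        (IsLocalRing.residue_eq_zero_iff _).mpr ((IsLocalRing.mem_maximalIdeal _).mpr hnu)
      rw [this]; exact zero_mem V₂

theorem mem_composite_iff (a : F) :
    a ∈ composite V₁ V₂ ↔ ∃ ha : a ∈ V₁, IsLocalRing.residue V₁ ⟨a, ha⟩ ∈ V₂ := by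
  constructor
  · rintro ⟨b, hb, rfl⟩
    exact ⟨b.2, hb⟩
  · rintro ⟨ha, h⟩
    exact ⟨⟨a, ha⟩, h, rfl⟩

theorem composite_le : ∀ a, a ∈ composite V₁ V₂ → a ∈ V₁ := fun a ha =>
  ((mem_composite_iff V₁ V₂ a).mp ha).1

/-- The inclusion of the composite in `V₁`. -/
def toFst : composite V₁ V₂ →+* V₁ :=
  (composite V₁ V₂).subtype.codRestrict V₁.toSubring (fun a => composite_le V₁ V₂ a a.2)

/-- The projection of the composite to `V₂`. -/
noncomputable def toSnd : composite V₁ V₂ →+* V₂ :=
  ((IsLocalRing.residue V₁).comp (toFst V₁ V₂)).codRestrict V₂.toSubring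
    (fun a => ((mem_composite_iff V₁ V₂ a).mp a.2).2)

theorem subtype_toFst (a : composite V₁ V₂) : ((toFst V₁ V₂ a : V₁) : F) = (a : F) := rfl

theorem subtype_toSnd (a : composite V₁ V₂) :
    ((toSnd V₁ V₂ a : V₂) : IsLocalRing.ResidueField V₁) =
      IsLocalRing.residue V₁ (toFst V₁ V₂ a) := rfl

/-- A local homomorphism of valuation rings along a field extension: the smaller one is the
preimage of the bigger one. -/
theorem comap_eq_of_isLocalHom {K L : Type u} [Field K] [Field L] (θ : K →+* L)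
    (V : ValuationSubring K) (V' : ValuationSubring L) (h : ∀ a : V, θ a ∈ V')
    (hloc : IsLocalHom ((θ.comp V.subtype).codRestrict V'.toSubring h)) :
    V'.comap θ = V := by
  ext a
  rw [ValuationSubring.mem_comap]
  constructor
  · intro ha
    by_contra hnV
    have hainv : a⁻¹ ∈ V := (V.mem_or_inv_mem a).resolve_left hnV
    have ha0 : a ≠ 0 := fun h0 => hnV (h0 ▸ zero_mem V)
    -- `a⁻¹` is a non-unit of `V`
    have hnu : ¬ IsUnit (⟨a⁻¹, hainv⟩ : V) := by
      intro hu
      obtain ⟨b, hb⟩ := hu.exists_right_inv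
      have hbK : a⁻¹ * (b : K) = 1 := congrArg Subtype.val hb
      have := eq_inv_of_mul_eq_one_right hbK
      rw [inv_inv] at this
      exact hnV (this ▸ b.2)
    -- but its image is a unit of `V'`
    have hu' : IsUnit (((θ.comp V.subtype).codRestrict V'.toSubring h) ⟨a⁻¹, hainv⟩) := by
      refine ⟨⟨_, ⟨θ a, ha⟩, ?_, ?_⟩, rfl⟩
      · apply Subtype.ext
        change θ a⁻¹ * θ a = 1
        rw [← map_mul, inv_mul_cancel₀ ha0, map_one]
      · apply Subtype.ext
        change θ a * θ a⁻¹ = 1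
        rw [← map_mul, mul_inv_cancel₀ ha0, map_one]
    exact hnu (hloc.map_nonunit _ hu')
  · intro ha
    exact h ⟨a, ha⟩

end Groth.Agent.Lib.Helper21.Comp
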