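import Groth.Agent.Lib.Helper21.KA6
import Mathlib.RingTheory.Polynomial.Ideal

/-!
# DVRs dominating a normal Noetherian local domain and avoiding an element

`A` a Noetherian normal local domain with fraction field `K`, `k ∈ K ∖ A`. Then there is a DVR
`R` with `A ⊆ R ⊆ K`, dominating `A`, with `k ∉ R`.
-/

set_option autoImplicit false
universe u

namespace Groth.Agent.Lib.Helper21.KA

section Loc

variable {A : Type u} [CommRing A] [IsDomain A] {K : Type u} [Field K] [Algebra A K]
  [IsFractionRing A K]

theorem isFractionRing_subalgebra (B : Subalgebra A K) : IsFractionRing B K := by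
  have hfaith : FaithfulSMul B K :=
    (faithfulSMul_iff_algebraMap_injective B K).mpr Subtype.val_injective
  refine IsFractionRing.of_field (R := B) K ?_
  intro z
  obtain ⟨a, a', -, rfl⟩ := IsFractionRing.div_surjective (A := A) z
  exact ⟨algebraMap A B a, algebraMap A B a', by
    rw [← IsScalarTower.algebraMap_apply, ← IsScalarTower.algebraMap_apply]⟩

theorem isUnit_algebraMap_subalgebra (B : Subalgebra A K) (𝔓 : Ideal B) [𝔓.IsPrime]
    (y : 𝔓.primeCompl) : IsUnit (algebraMap B K y) := by
  refine IsUnit.mk0 _ ?_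
  have hfaith : FaithfulSMul B K :=
    (faithfulSMul_iff_algebraMap_injective B K).mpr Subtype.val_injective
  rw [Ne, FaithfulSMul.algebraMap_eq_zero_iff]
  intro h0
  exact y.2 (h0 ▸ zero_mem 𝔓)

/-- The `K`-algebra structure on the localization of a subalgebra of `K` at a prime. -/
noncomputable def algLocK (B : Subalgebra A K) (𝔓 : Ideal B) [𝔓.IsPrime] :
    Algebra (Localization.AtPrime 𝔓) K :=
  (IsLocalization.lift (M := 𝔓.primeCompl) (S := Localization.AtPrime 𝔓)
    (isUnit_algebraMap_subalgebra B 𝔓)).toAlgebra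

attribute [local instance] algLocK

theorem tower_sub_loc (B : Subalgebra A K) (𝔓 : Ideal B) [𝔓.IsPrime] :
    IsScalarTower B (Localization.AtPrime 𝔓) K :=
  IsScalarTower.of_algebraMap_eq fun t =>
    (IsLocalization.lift_eq (M := 𝔓.primeCompl) (S := Localization.AtPrime 𝔓)
      (isUnit_algebraMap_subalgebra B 𝔓) t).symm

theorem tower_base_loc (B : Subalgebra A K) (𝔓 : Ideal B) [𝔓.IsPrime] :
    IsScalarTower A (Localization.AtPrime 𝔓) K := by
  have := tower_sub_loc B 𝔓
  exact IsScalarTower.of_algebraMap_eq fun t => by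
    rw [IsScalarTower.algebraMap_apply A B (Localization.AtPrime 𝔓),
      ← IsScalarTower.algebraMap_apply B (Localization.AtPrime 𝔓) K,
      ← IsScalarTower.algebraMap_apply A B K]

theorem isFractionRing_loc (B : Subalgebra A K) (𝔓 : Ideal B) [𝔓.IsPrime] :
    IsFractionRing (Localization.AtPrime 𝔓) K := by
  have := tower_sub_loc B 𝔓
  have := isFractionRing_subalgebra B
  have : IsDomain (Localization.AtPrime 𝔓) :=
    IsLocalization.isDomain_localization 𝔓.primeCompl_le_nonZeroDivisors
  exact IsFractionRing.isFractionRing_of_isDomain_of_isLocalization 𝔓.primeCompl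
    (Localization.AtPrime 𝔓) K

end Loc

attribute [local instance] algLocK

/-- A normal Noetherian local domain is the intersection of the DVRs of its fraction field
dominating it: given `k ∉ A` there is a dominating DVR not containing `k`. -/
theorem exists_dvr_dominating_notMem (A : Type u) [CommRing A] [IsDomain A]
    [IsNoetherianRing A] [IsLocalRing A] [IsIntegrallyClosed A] (K : Type u) [Field K]
    [Algebra A K] [IsFractionRing A K] (k : K) (hk : k ∉ Set.range (algebraMap A K)) :
    ∃ (R : Type u) (_ : CommRing R) (_ : IsDomain R) (_ : IsDiscreteValuationRing R)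
      (_ : Algebra A R) (_ : Algebra R K) (_ : IsScalarTower A R K),
      IsFractionRing R K ∧ IsLocalHom (algebraMap A R) ∧ k ∉ Set.range (algebraMap R K) := by
  classical
  have hk0 : k ≠ 0 := by
    rintro rfl
    exact hk ⟨0, map_zero _⟩
  let x : K := k⁻¹
  have hx0 : x ≠ 0 := inv_ne_zero hk0
  let _ : Invertible x := invertibleOfNonzero hx0
  have hinvx : ⅟x = k := by
    rw [invOf_eq_inv, inv_inv]
  let C : Subalgebra A K := Algebra.adjoin A {x}
  let xC : C := ⟨x, Algebra.subset_adjoin rfl⟩
  let m := IsLocalRing.maximalIdeal A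
  let J : Ideal C := m.map (algebraMap A C) ⊔ Ideal.span {xC}
  have hJ : J ≠ ⊤ := by
    intro htop
    obtain ⟨p, hp, hpx⟩ := Algebra.exists_aeval_invOf_eq_zero_of_idealMap_adjoin_sup_span_eq_top
      x m (IsLocalRing.maximalIdeal.isMaximal A).ne_top htop
    rw [hinvx] at hpx
    have hlc : IsUnit p.leadingCoeff := by
      by_contra hnu
      have h1 : p.leadingCoeff ∈ m := (IsLocalRing.mem_maximalIdeal _).mpr hnu
      have h2 : (1 : A) ∈ m := by
        have := m.sub_mem h1 hp
        rwa [sub_sub_cancel] at this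
      exact (IsLocalRing.maximalIdeal.isMaximal A).ne_top ((Ideal.eq_top_iff_one m).mpr h2)
    have hint : IsIntegral A k := by
      refine ⟨Polynomial.C (hlc.unit⁻¹ : Aˣ).1 * p, ?_, ?_⟩
      · rw [Polynomial.Monic, Polynomial.leadingCoeff_mul, Polynomial.leadingCoeff_C]
        exact hlc.unit.inv_mul
      · rw [← Polynomial.aeval_def, map_mul, hpx, mul_zero]
    obtain ⟨a, ha⟩ := IsIntegrallyClosed.isIntegral_iff.mp hint
    exact hk ⟨a, ha⟩
  obtain ⟨𝔫, h𝔫max, hJ𝔫⟩ := Ideal.exists_le_maximal J hJ
  have h𝔫p : 𝔫.IsPrime := h𝔫max.isPrime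
  have hCfg : C.FG := by
    have := Subalgebra.fg_adjoin_finset (R := A) ({x} : Finset K)
    rwa [Finset.coe_singleton] at this
  have hCft : Algebra.FiniteType A C := (Subalgebra.fg_iff_finiteType C).mp hCfg
  have hNC : IsNoetherianRing C := Algebra.FiniteType.isNoetherianRing A C
  have hxC𝔫 : xC ∈ 𝔫 := hJ𝔫 (Ideal.mem_sup_right (Ideal.mem_span_singleton_self xC))
  have hxC0 : xC ≠ 0 := fun h0 => hx0 (congrArg Subtype.val h0)
  have h𝔫0 : 𝔫 ≠ ⊥ := fun h0 => hxC0 (by rw [h0] at hxC𝔫; exact hxC𝔫)
  let R' := Localization.AtPrime 𝔫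
  have hR'dom : IsDomain R' :=
    IsLocalization.isDomain_localization 𝔫.primeCompl_le_nonZeroDivisors
  have hR'N : IsNoetherianRing R' := IsLocalization.isNoetherianRing 𝔫.primeCompl R' hNC
  have hR'nf : ¬ IsField R' := IsLocalization.AtPrime.not_isField C h𝔫0 R'
  have towCR'K : IsScalarTower C R' K := tower_sub_loc C 𝔫
  have towAR'K : IsScalarTower A R' K := tower_base_loc C 𝔫
  have hFrR' : IsFractionRing R' K := isFractionRing_loc C 𝔫
  obtain ⟨R, _, _, _, _, _, _, hFrR, hlocR⟩ := exists_dvr_dominating R' hR'nf K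
  let algAR : Algebra A R := ((algebraMap R' R).comp (algebraMap A R')).toAlgebra
  have tow1 : IsScalarTower A R' R := IsScalarTower.of_algebraMap_eq fun _ => rfl
  have tow : IsScalarTower A R K := IsScalarTower.of_algebraMap_eq fun t => by
    rw [IsScalarTower.algebraMap_apply A R' R, ← IsScalarTower.algebraMap_apply R' R K,
      ← IsScalarTower.algebraMap_apply A R' K]
  have hlocAR' : IsLocalHom (algebraMap A R') := by
    constructor
    intro a ha
    by_contra hna
    have ham : a ∈ m := (IsLocalRing.mem_maximalIdeal a).mpr hna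
    have haC : algebraMap A C a ∈ 𝔫 := hJ𝔫 (Ideal.mem_sup_left (Ideal.mem_map_of_mem _ ham))
    rw [IsScalarTower.algebraMap_apply A C R'] at ha
    exact ((IsLocalization.AtPrime.isUnit_to_map_iff R' 𝔫 _).mp ha) haC
  refine ⟨R, inferInstance, inferInstance, inferInstance, algAR, inferInstance, tow, hFrR,
    ?_, ?_⟩
  · constructor
    intro a ha
    have h1 : IsUnit (algebraMap R' R (algebraMap A R' a)) := ha
    exact hlocAR'.map_nonunit a (hlocR.map_nonunit _ h1)
  · rintro ⟨r, hr⟩
    let ξ : R := algebraMap R' R (algebraMap C R' xC)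
    have hξ : algebraMap R K ξ = x := by
      change algebraMap R K (algebraMap R' R (algebraMap C R' xC)) = x
      rw [← IsScalarTower.algebraMap_apply R' R K, ← IsScalarTower.algebraMap_apply C R' K]
      rfl
    have h1 : r * ξ = 1 := by
      apply IsFractionRing.injective R K
      rw [map_mul, hr, hξ, map_one]
      exact mul_inv_cancel₀ hk0
    have hξu : IsUnit ξ := IsUnit.of_mul_eq_one _ (by rw [mul_comm]; exact h1)
    have h2 : IsUnit (algebraMap C R' xC) := hlocR.map_nonunit _ hξu
    exact ((IsLocalization.AtPrime.isUnit_to_map_iff R' 𝔫 _).mp h2) hxC𝔫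

end Groth.Agent.Lib.Helper21.KA
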