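import Groth.Agent.Lib.Helper21.ZMTExt3

/-!
# Extension of a rational section from a pointwise "denominator" bound

Variants of `exists_away_lift` / `exists_local_extension` in which the control of denominators
(`ψ d ∈ A_p` for all `d`) is a hypothesis rather than deduced from Zariski's main theorem.
No separatedness is needed.
-/

set_option autoImplicit false
universe u
open AlgebraicGeometry CategoryTheory Limits TopologicalSpace

namespace Groth.Agent.Lib.Helper21.ZMTExt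

section Ring

variable {A D : Type u} [CommRing A] [IsDomain A] [CommRing D] [Algebra A D]
  [Algebra.FiniteType A D]

theorem exists_away_lift_of_key {T : Type u} [CommRing T] [Algebra A T] (a : A) (ha : a ≠ 0)
    [IsLocalization.Away a T] (ψ : D →ₐ[A] T) (p : Ideal A) [p.IsPrime]
    (key : ∀ d : D, ∃ s : A, s ∉ p ∧ ∃ c : A, ψ d * algebraMap A T s = algebraMap A T c) :
    ∃ f : A, f ∉ p ∧ ∀ (T' : Type u) [CommRing T'] [Algebra A T']
      [IsLocalization.Away f T'], ∃ θ : D →ₐ[A] T',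
      ∀ (T'' : Type u) [CommRing T''] [Algebra A T''] [IsLocalization.Away (a * f) T'']
        (r : T →ₐ[A] T'') (r' : T' →ₐ[A] T'') (d : D), r' (θ d) = r (ψ d) := by
  classical
  let K := FractionRing A
  have hMa : Submonoid.powers a ≤ nonZeroDivisors A :=
    powers_le_nonZeroDivisors_of_noZeroDivisors ha
  let ιT : T →ₐ[A] K := toK (Submonoid.powers a) hMa T K
  have hιT : Function.Injective ιT := toK_injective _ hMa T K
  let j : D →ₐ[A] K := ιT.comp ψ
  choose s hs c hc' using key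
  have hc : ∀ d, j d * algebraMap A K (s d) = algebraMap A K (c d) := by
    intro d
    have h1 : ιT (ψ d * algebraMap A T (s d)) = ιT (algebraMap A T (c d)) := by rw [hc' d]
    rw [map_mul, AlgHom.commutes, AlgHom.commutes] at h1
    exact h1
  obtain ⟨t, ht⟩ := (Algebra.FiniteType.out : (⊤ : Subalgebra A D).FG)
  let f : A := ∏ d ∈ t, s d
  have hf : f ∉ p := by
    intro hmem
    obtain ⟨d, -, hd⟩ := Ideal.IsPrime.prod_mem_iff.mp hmem
    exact hs d hd
  refine ⟨f, hf, ?_⟩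
  intro T' _ _ _
  have hf0 : f ≠ 0 := fun h0 => hf (h0 ▸ zero_mem _)
  have hMf : Submonoid.powers f ≤ nonZeroDivisors A :=
    powers_le_nonZeroDivisors_of_noZeroDivisors hf0
  let ιT' : T' →ₐ[A] K := toK (Submonoid.powers f) hMf T' K
  have hιT' : Function.Injective ιT' := toK_injective _ hMf T' K
  have hrange : ∀ d, j d ∈ ιT'.range := by
    have hle : Algebra.adjoin A (t : Set D) ≤ ιT'.range.comap j := by
      refine Algebra.adjoin_le ?_
      intro d hd
      have hdt : d ∈ t := hd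
      change j d ∈ ιT'.range
      refine ⟨IsLocalization.mk' T' (c d * ∏ e ∈ t.erase d, s e)
        (⟨f, Submonoid.mem_powers f⟩ : Submonoid.powers f), ?_⟩
      change toK (Submonoid.powers f) hMf T' K _ = j d
      rw [toK_mk'_eq_iff]
      have hfprod : f = s d * ∏ e ∈ t.erase d, s e := (Finset.mul_prod_erase t s hdt).symm
      change algebraMap A K (c d * ∏ e ∈ t.erase d, s e) = algebraMap A K f * j d
      rw [hfprod, map_mul, map_mul, ← hc d]
      ring
    intro d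
    have : d ∈ Algebra.adjoin A (t : Set D) := by rw [ht]; exact Algebra.mem_top
    exact hle this
  let e := AlgEquiv.ofInjective ιT' hιT'
  let θ : D →ₐ[A] T' := (e.symm : ιT'.range →ₐ[A] T').comp (j.codRestrict ιT'.range hrange)
  have hθ : ∀ d, ιT' (θ d) = j d := by
    intro d
    have h1 : (e (θ d) : K) = ιT' (θ d) := rfl
    rw [← h1]
    change ((e (e.symm (j.codRestrict ιT'.range hrange d)) : ιT'.range) : K) = j d
    rw [AlgEquiv.apply_symm_apply]
    rfl
  refine ⟨θ, ?_⟩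
  intro T'' _ _ _ r r' d
  have haf : a * f ≠ 0 := mul_ne_zero ha hf0
  have hMaf : Submonoid.powers (a * f) ≤ nonZeroDivisors A :=
    powers_le_nonZeroDivisors_of_noZeroDivisors haf
  let ιT'' : T'' →ₐ[A] K := toK (Submonoid.powers (a * f)) hMaf T'' K
  have hιT'' : Function.Injective ιT'' := toK_injective _ hMaf T'' K
  have h1 : ιT''.comp r = ιT :=
    (IsLocalization.algHom_subsingleton (Submonoid.powers a)).elim _ _
  have h2 : ιT''.comp r' = ιT' :=
    (IsLocalization.algHom_subsingleton (Submonoid.powers f)).elim _ _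
  apply hιT''
  have h3 : ιT'' (r' (θ d)) = ιT' (θ d) := congrArg (fun g => g (θ d)) h2
  have h4 : ιT'' (r (ψ d)) = ιT (ψ d) := congrArg (fun g => g (ψ d)) h1
  rw [h3, h4, hθ]
  rfl

end Ring

section Geom

variable {X P : Scheme.{u}}

/-- Extension of a rational section `γ` of `p₁ : P ⟶ X` (locally of finite type, not necessarily
separated) at a point `x` of an integral affine open `X₁`, given an affine chart `P₀` of `P` over
`X₁` containing `γ (D(a))` such that all functions on `P₀`, pulled back along `γ`, have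
denominators outside the prime of `x`. The extension takes values in `P₀`. -/
theorem exists_local_extension_of_key (p₁ : P ⟶ X) [LocallyOfFiniteType p₁]
    (U : X.Opens) (γ : (U : Scheme.{u}) ⟶ P) (hγ : γ ≫ p₁ = U.ι)
    (X₁ : X.Opens) (hX₁ : IsAffineOpen X₁) [IsIntegral (X₁ : Scheme.{u})]
    (x : X) (hxX₁ : x ∈ X₁)
    (P₀ : P.Opens) (hP₀ : IsAffineOpen P₀) (hP₀le : P₀ ≤ p₁ ⁻¹ᵁ X₁)
    (a : Γ(X, X₁)) (ha0 : a ≠ 0) (hDaU : X.basicOpen a ≤ U)
    (g : Spec Γ(X, X.basicOpen a) ⟶ (U : Scheme.{u}))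
    (hg : g ≫ U.ι = (hX₁.basicOpen a).fromSpec)
    (ψ : Γ(P, P₀) ⟶ Γ(X, X.basicOpen a)) (hψ : Spec.map ψ ≫ hP₀.fromSpec = g ≫ γ)
    (key : ∀ d : Γ(P, P₀), ∃ s : Γ(X, X₁), s ∉ (hX₁.primeIdealOf ⟨x, hxX₁⟩).asIdeal ∧
      ∃ c : Γ(X, X₁),
        ψ.hom d * (X.presheaf.map (homOfLE (X.basicOpen_le a)).op).hom s =
          (X.presheaf.map (homOfLE (X.basicOpen_le a)).op).hom c) :
    ∃ (V V' : X.Opens) (v : (V : Scheme.{u}) ⟶ P) (hV'V : V' ≤ V) (hV'U : V' ≤ U),
      x ∈ V ∧ V ≤ X₁ ∧ (V' : Set X).Nonempty ∧ (∀ w, v w ∈ P₀) ∧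
      v ≫ p₁ = V.ι ∧ X.homOfLE hV'V ≫ v = X.homOfLE hV'U ≫ γ := by
  classical
  have hDa : IsAffineOpen (X.basicOpen a) := hX₁.basicOpen a
  let iX : Spec Γ(X, X₁) ⟶ X := hX₁.fromSpec
  let iP : Spec Γ(P, P₀) ⟶ P := hP₀.fromSpec
  let iT : Spec Γ(X, X.basicOpen a) ⟶ X := hDa.fromSpec
  let φ : Γ(X, X₁) ⟶ Γ(P, P₀) := p₁.appLE X₁ P₀ hP₀le
  have hφ : Spec.map φ ≫ iX = iP ≫ p₁ := IsAffineOpen.SpecMap_appLE_fromSpec p₁ hX₁ hP₀ hP₀le
  let res : Γ(X, X₁) ⟶ Γ(X, X.basicOpen a) := X.presheaf.map (homOfLE (X.basicOpen_le a)).op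
  have hres : Spec.map res ≫ iX = iT := hX₁.map_fromSpec hDa _
  have hφψ : φ ≫ ψ = res := by
    apply Spec.map_injective
    rw [← cancel_mono iX, Spec.map_comp, Category.assoc, hφ, ← Category.assoc, hψ,
      Category.assoc, hγ, hg, hres]
  letI algAD : Algebra Γ(X, X₁) Γ(P, P₀) := φ.hom.toAlgebra
  have hft : Algebra.FiniteType Γ(X, X₁) Γ(P, P₀) :=
    HasRingHomProperty.appLE (P := @LocallyOfFiniteType) p₁ inferInstance ⟨X₁, hX₁⟩ ⟨P₀, hP₀⟩
      hP₀le
  have hlocT : IsLocalization.Away a Γ(X, X.basicOpen a) := hX₁.isLocalization_basicOpen a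
  have hdom : IsDomain Γ(X, X₁) := isDomain_of_isIntegral_opens X₁
  let ψa : Γ(P, P₀) →ₐ[Γ(X, X₁)] Γ(X, X.basicOpen a) :=
    { ψ.hom with
      commutes' := fun t => by
        change ψ.hom (φ.hom t) = res.hom t
        rw [← hφψ]; rfl }
  obtain ⟨f, hfq, H⟩ := exists_away_lift_of_key a ha0 ψa (hX₁.primeIdealOf ⟨x, hxX₁⟩).asIdeal key
  have hDf : IsAffineOpen (X.basicOpen f) := hX₁.basicOpen f
  have hDaf : IsAffineOpen (X.basicOpen (a * f)) := hX₁.basicOpen (a * f)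
  have hlocT' : IsLocalization.Away f Γ(X, X.basicOpen f) := hX₁.isLocalization_basicOpen f
  have hlocT'' : IsLocalization.Away (a * f) Γ(X, X.basicOpen (a * f)) :=
    hX₁.isLocalization_basicOpen (a * f)
  obtain ⟨θ, Hθ⟩ := H Γ(X, X.basicOpen f)
  have hle1 : X.basicOpen (a * f) ≤ X.basicOpen a := by
    rw [Scheme.basicOpen_mul]; exact inf_le_left
  have hle2 : X.basicOpen (a * f) ≤ X.basicOpen f := by
    rw [Scheme.basicOpen_mul]; exact inf_le_right
  let r₁ : Γ(X, X.basicOpen a) ⟶ Γ(X, X.basicOpen (a * f)) := X.presheaf.map (homOfLE hle1).op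
  let r₂ : Γ(X, X.basicOpen f) ⟶ Γ(X, X.basicOpen (a * f)) := X.presheaf.map (homOfLE hle2).op
  let resf : Γ(X, X₁) ⟶ Γ(X, X.basicOpen f) := X.presheaf.map (homOfLE (X.basicOpen_le f)).op
  let r₁a : Γ(X, X.basicOpen a) →ₐ[Γ(X, X₁)] Γ(X, X.basicOpen (a * f)) :=
    { r₁.hom with
      commutes' := fun t => by
        change r₁.hom (res.hom t) = (X.presheaf.map (homOfLE (X.basicOpen_le (a * f))).op).hom t
        rw [← CommRingCat.comp_apply, ← Functor.map_comp]; rfl }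
  let r₂a : Γ(X, X.basicOpen f) →ₐ[Γ(X, X₁)] Γ(X, X.basicOpen (a * f)) :=
    { r₂.hom with
      commutes' := fun t => by
        change r₂.hom (resf.hom t) = (X.presheaf.map (homOfLE (X.basicOpen_le (a * f))).op).hom t
        rw [← CommRingCat.comp_apply, ← Functor.map_comp]; rfl }
  have Hθ' := Hθ Γ(X, X.basicOpen (a * f)) r₁a r₂a
  let θc : Γ(P, P₀) ⟶ Γ(X, X.basicOpen f) := CommRingCat.ofHom θ.toRingHom
  have hθφ : φ ≫ θc = resf := by
    ext t; exact θ.commutes t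
  have hθr : θc ≫ r₂ = ψ ≫ r₁ := by
    ext d; exact Hθ' d
  let v : (X.basicOpen f : Scheme.{u}) ⟶ P := hDf.isoSpec.hom ≫ Spec.map θc ≫ iP
  refine ⟨X.basicOpen f, X.basicOpen (a * f), v, hle2, hle1.trans hDaU, ?_, X.basicOpen_le f,
    ?_, ?_, ?_, ?_⟩
  · rw [mem_basicOpen_iff_notMem_primeIdealOf hX₁ x hxX₁]; exact hfq
  · have hne : PrimeSpectrum.basicOpen (a * f) ≠ ⊥ := by
      rw [Ne, PrimeSpectrum.basicOpen_eq_bot_iff]
      intro hnil
      have hf0 : f ≠ 0 := fun h0 => hfq (h0 ▸ zero_mem _)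
      exact mul_ne_zero ha0 hf0 (IsNilpotent.eq_zero hnil)
    obtain ⟨Q, hQ⟩ : ((PrimeSpectrum.basicOpen (a * f) : Opens (PrimeSpectrum Γ(X, X₁))) :
        Set (PrimeSpectrum Γ(X, X₁))).Nonempty := by
      by_contra hcon
      exact hne ((Opens.not_nonempty_iff_eq_bot _).mp hcon)
    refine ⟨iX Q, ?_⟩
    have : Q ∈ iX ⁻¹ᵁ X.basicOpen (a * f) := by
      rw [hX₁.fromSpec_preimage_basicOpen]; exact hQ
    exact this
  · intro w
    have h1 : v w ∈ Set.range iP := by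
      change (hDf.isoSpec.hom ≫ Spec.map θc ≫ iP) w ∈ Set.range iP
      rw [← Category.assoc, Scheme.Hom.comp_apply]
      exact ⟨_, rfl⟩
    rw [hP₀.range_fromSpec] at h1
    exact h1
  · calc v ≫ p₁ = hDf.isoSpec.hom ≫ Spec.map θc ≫ (iP ≫ p₁) := by
          simp only [v, Category.assoc]
      _ = hDf.isoSpec.hom ≫ Spec.map θc ≫ Spec.map φ ≫ iX := by rw [← hφ]
      _ = hDf.isoSpec.hom ≫ Spec.map (φ ≫ θc) ≫ iX := by rw [Spec.map_comp, Category.assoc]
      _ = hDf.isoSpec.hom ≫ hDf.fromSpec := by rw [hθφ, hX₁.map_fromSpec hDf]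
      _ = _ := hDf.isoSpec_hom_fromSpec
  · rw [← cancel_epi hDaf.isoSpec.inv]
    have e1 : hDaf.isoSpec.inv ≫ X.homOfLE hle2 ≫ hDf.isoSpec.hom = Spec.map r₂ := by
      rw [← cancel_mono hDf.fromSpec]
      simp only [Category.assoc, IsAffineOpen.isoSpec_hom_fromSpec, Scheme.homOfLE_ι,
        IsAffineOpen.isoSpec_inv_ι]
      exact (hDf.map_fromSpec hDaf _).symm
    have e2 : hDaf.isoSpec.inv ≫ X.homOfLE (hle1.trans hDaU) = Spec.map r₁ ≫ g := by
      rw [← cancel_mono U.ι]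
      simp only [Category.assoc, Scheme.homOfLE_ι, IsAffineOpen.isoSpec_inv_ι, hg]
      exact (hDa.map_fromSpec hDaf _).symm
    calc hDaf.isoSpec.inv ≫ X.homOfLE hle2 ≫ v
        = (hDaf.isoSpec.inv ≫ X.homOfLE hle2 ≫ hDf.isoSpec.hom) ≫ Spec.map θc ≫ iP := by
          simp only [v, Category.assoc]
      _ = Spec.map r₂ ≫ Spec.map θc ≫ iP := by rw [e1]
      _ = Spec.map (θc ≫ r₂) ≫ iP := by rw [Spec.map_comp, Category.assoc]
      _ = Spec.map (ψ ≫ r₁) ≫ iP := by rw [hθr]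
      _ = Spec.map r₁ ≫ Spec.map ψ ≫ iP := by rw [Spec.map_comp, Category.assoc]
      _ = Spec.map r₁ ≫ g ≫ γ := by rw [hψ]
      _ = (hDaf.isoSpec.inv ≫ X.homOfLE (hle1.trans hDaU)) ≫ γ := by rw [e2, Category.assoc]
      _ = _ := by rw [Category.assoc]

end Geom

end Groth.Agent.Lib.Helper21.ZMTExt
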