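import Groth.Agent.Lib.Helper21.DVRExt3
import Groth.Agent.Lib.Helper21.BiratTop
import Groth.Agent.Lib.Helper21.KA7
import Groth.Agent.Lib.Helper21.ZMTExt4

/-!
# The valuative criterion for a rational section to be defined at a normal point

Ingredients of the DVR criterion: specializations from locally closed sets in Noetherian spaces,
and the control of denominators at a normal point from the valuative condition.
-/

set_option autoImplicit false
universe u
open AlgebraicGeometry CategoryTheory Limits TopologicalSpace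

namespace Groth.Agent.Lib.Helper21.DVRExt

section Top

variable {T : Type*} [TopologicalSpace T]

/-- In a Noetherian quasi-sober `T0` space, a point in the closure of a locally closed set `O ∩ C`
is a specialization of a point of `O ∩ C`. -/
theorem exists_specializes_of_mem_closure [QuasiSober T] [T0Space T] [NoetherianSpace T]
    {O C : Set T} (hO : IsOpen O) (hC : IsClosed C) {x : T} (hx : x ∈ closure (O ∩ C)) :
    ∃ t ∈ O ∩ C, t ⤳ x := by
  classical
  let Z : Set T := closure (O ∩ C)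
  have hZ : IsClosed Z := isClosed_closure
  have hZC : Z ⊆ C := closure_minimal Set.inter_subset_right hC
  have hemb : Topology.IsClosedEmbedding (Subtype.val : Z → T) := hZ.isClosedEmbedding_subtypeVal
  have : QuasiSober Z := hemb.quasiSober
  have hfin : (irreducibleComponents Z).Finite := NoetherianSpace.finite_irreducibleComponents
  let S : Set Z := Subtype.val ⁻¹' O
  have hSo : IsOpen S := hO.preimage continuous_subtype_val
  have hSd : Dense S := by
    intro z
    have h1 : (z : T) ∈ closure (O ∩ C) := z.2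
    rw [Topology.IsInducing.subtypeVal.closure_eq_preimage_closure_image]
    change (z : T) ∈ closure (Subtype.val '' S)
    refine closure_mono ?_ h1
    rintro t ht
    exact ⟨⟨t, subset_closure ht⟩, ht.1, rfl⟩
  obtain ⟨ξ, hξ, hξx⟩ := Birat.exists_gen_specializes (⟨x, hx⟩ : Z)
  have hξS : ξ ∈ S := Birat.gen_mem_of_dense_isOpen hfin hSo hSd hξ
  exact ⟨ξ.1, ⟨hξS, hZC ξ.2⟩, hξx.map continuous_subtype_val⟩

end Top

section Scheme

variable {X Y : Scheme.{u}}

/-- In a locally Noetherian scheme, a point in the closure of a locally closed set `O ∩ C`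
is a specialization of a point of `O ∩ C`. -/
theorem exists_specializes_of_mem_closure_scheme [IsLocallyNoetherian X]
    {O C : Set X} (hO : IsOpen O) (hC : IsClosed C) {x : X} (hx : x ∈ closure (O ∩ C)) :
    ∃ t ∈ O ∩ C, t ⤳ x := by
  obtain ⟨W₁, hW₁, hxW₁, -⟩ := Opens.isBasis_iff_nbhd.mp X.isBasis_affineOpens
    (show x ∈ (⊤ : X.Opens) from trivial)
  replace hW₁ : IsAffineOpen W₁ := hW₁
  have hN : IsNoetherianRing Γ(X, W₁) := IsLocallyNoetherian.component_noetherian ⟨W₁, hW₁⟩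
  let W : Set X := (W₁ : Set X)
  have : NoetherianSpace W := noetherianSpace_of_isAffineOpen W₁ hW₁
  have : QuasiSober W := W₁.isOpen.isOpenEmbedding_subtypeVal.quasiSober
  let O' : Set W := Subtype.val ⁻¹' O
  let C' : Set W := Subtype.val ⁻¹' C
  have hx' : (⟨x, hxW₁⟩ : W) ∈ closure (O' ∩ C') := by
    rw [Topology.IsInducing.subtypeVal.closure_eq_preimage_closure_image]
    change x ∈ closure (Subtype.val '' (O' ∩ C'))
    rw [mem_closure_iff] at hx ⊢
    intro N hN hxN
    obtain ⟨y, ⟨hyN, hyW⟩, hy⟩ := hx (N ∩ W₁) (hN.inter W₁.isOpen) ⟨hxN, hxW₁⟩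
    exact ⟨y, hyN, ⟨⟨y, hyW⟩, hy, rfl⟩⟩
  obtain ⟨t, ht, htx⟩ := exists_specializes_of_mem_closure
    (hO.preimage continuous_subtype_val) (hC.preimage continuous_subtype_val) hx'
  exact ⟨t.1, ht, htx.map continuous_subtype_val⟩

/-- The valuative condition at `x`, `y₀` for a rational section `h` of `q` defined on `U`: every
DVR-valued point of `X` with closed point `x` and generic point in `U` lifts to `Y` through `y₀`,
compatibly with `h`. -/
def VC (q : Y ⟶ X) (U : X.Opens) (h : (U : Scheme.{u}) ⟶ Y) (x : X) (y₀ : Y) : Prop :=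
  ∀ (R : Type u) [CommRing R] [IsDomain R] [IsDiscreteValuationRing R]
    (u : Spec (CommRingCat.of R) ⟶ X), u (IsLocalRing.closedPoint R) = x →
    ∀ ub : Spec (CommRingCat.of (FractionRing R)) ⟶ (U : Scheme.{u}),
      ub ≫ U.ι = Spec.map (CommRingCat.ofHom (algebraMap R (FractionRing R))) ≫ u →
      ∃ h₁ : Spec (CommRingCat.of R) ⟶ Y, h₁ ≫ q = u ∧ h₁ (IsLocalRing.closedPoint R) = y₀ ∧
        Spec.map (CommRingCat.ofHom (algebraMap R (FractionRing R))) ≫ h₁ = ub ≫ h

/-- The generic point of `Spec R`, as the image of the point of `Spec (Frac R)`. -/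
theorem specMap_fractionRing_apply (R : Type u) [CommRing R] [IsDomain R]
    (p : Spec (CommRingCat.of (FractionRing R))) :
    Spec.map (CommRingCat.ofHom (algebraMap R (FractionRing R))) p =
      (⟨⊥, Ideal.isPrime_bot⟩ : PrimeSpectrum R) := by
  have hp' : p = (⟨⊥, Ideal.isPrime_bot⟩ : PrimeSpectrum (FractionRing R)) :=
    spec_field_point_eq p
  rw [hp']
  exact comap_bot_eq (algebraMap R (FractionRing R)) (IsFractionRing.injective R _)

/-- Lift the generic point of a DVR-valued point to an open containing its image. -/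
theorem exists_generic_lift (R : Type u) [CommRing R] [IsDomain R]
    (u : Spec (CommRingCat.of R) ⟶ X) (U : X.Opens)
    (hgen : u (⟨⊥, Ideal.isPrime_bot⟩ : PrimeSpectrum R) ∈ U) :
    ∃ ub : Spec (CommRingCat.of (FractionRing R)) ⟶ (U : Scheme.{u}),
      ub ≫ U.ι = Spec.map (CommRingCat.ofHom (algebraMap R (FractionRing R))) ≫ u := by
  have hrange : Set.range (Spec.map (CommRingCat.ofHom (algebraMap R (FractionRing R))) ≫ u) ⊆
      Set.range U.ι := by
    rintro _ ⟨p, rfl⟩
    rw [Scheme.Opens.range_ι, Scheme.Hom.comp_apply, specMap_fractionRing_apply]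
    exact hgen
  exact ⟨IsOpenImmersion.lift U.ι _ hrange, IsOpenImmersion.lift_fac _ _ _⟩

/-- For a compatible pair `(u, ub)` the point of `Spec (Frac R)` goes to the image of the generic
point. -/
theorem ι_generic_apply (R : Type u) [CommRing R] [IsDomain R]
    (u : Spec (CommRingCat.of R) ⟶ X) (U : X.Opens)
    (ub : Spec (CommRingCat.of (FractionRing R)) ⟶ (U : Scheme.{u}))
    (hub : ub ≫ U.ι = Spec.map (CommRingCat.ofHom (algebraMap R (FractionRing R))) ≫ u)
    (p : Spec (CommRingCat.of (FractionRing R))) :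
    U.ι (ub p) = u (⟨⊥, Ideal.isPrime_bot⟩ : PrimeSpectrum R) := by
  rw [← Scheme.Hom.comp_apply, hub, Scheme.Hom.comp_apply, specMap_fractionRing_apply]

/-- Under the valuative condition, `h` maps a neighbourhood of `x` (intersected with `U`) into any
given open neighbourhood of `y₀`. -/
theorem VC.exists_nhd [IsLocallyNoetherian X] {q : Y ⟶ X} {U : X.Opens}
    {h : (U : Scheme.{u}) ⟶ Y} {x : X} {y₀ : Y} (hVC : VC q U h x y₀) (hxU : x ∉ U)
    (Y₀ : Y.Opens) (hy₀ : y₀ ∈ Y₀) :
    ∃ V₀ : X.Opens, x ∈ V₀ ∧ ∀ (t : X) (ht : t ∈ U), t ∈ V₀ → h ⟨t, ht⟩ ∈ Y₀ := by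
  classical
  let U₁ : X.Opens := U.ι ''ᵁ (h ⁻¹ᵁ Y₀)
  have hU₁ : ∀ (t : X) (ht : t ∈ U), t ∈ U₁ → h ⟨t, ht⟩ ∈ Y₀ := by
    rintro t ht ⟨t', ht', rfl⟩
    exact ht'
  by_cases hcl : x ∈ closure ((U : Set X) ∩ (U₁ : Set X)ᶜ)
  · exfalso
    obtain ⟨t, ⟨htU, htU₁⟩, htx⟩ := exists_specializes_of_mem_closure_scheme U.isOpen
      (isClosed_compl_iff.mpr U₁.isOpen) hcl
    have hne : t ≠ x := fun e => hxU (e ▸ htU)
    obtain ⟨R, _, _, _, u, hu, hut⟩ := exists_dvr_of_specializes t x htx hne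
    obtain ⟨ub, hub⟩ := exists_generic_lift R u U (hut ▸ htU)
    obtain ⟨h₁, -, hh₁c, hgen⟩ := hVC R u hu ub hub
    let pt : Spec (CommRingCat.of (FractionRing R)) :=
      (⟨⊥, Ideal.isPrime_bot⟩ : PrimeSpectrum (FractionRing R))
    have h1 : U.ι (ub pt) = t := by rw [ι_generic_apply R u U ub hub, hut]
    have h2 : ub pt = ⟨t, htU⟩ := U.ι.isOpenEmbedding.injective h1
    have h3 : h₁ (⟨⊥, Ideal.isPrime_bot⟩ : PrimeSpectrum R) ∈ Y₀ := by
      have hs : (⟨⊥, Ideal.isPrime_bot⟩ : PrimeSpectrum R) ⤳ IsLocalRing.closedPoint R :=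
        IsLocalRing.specializes_closedPoint _
      exact (hs.map h₁.continuous).mem_open Y₀.isOpen (hh₁c ▸ hy₀)
    have h4 : h ⟨t, htU⟩ ∈ Y₀ := by
      rw [← h2, ← Scheme.Hom.comp_apply, ← hgen, Scheme.Hom.comp_apply,
        specMap_fractionRing_apply]
      exact h3
    exact htU₁ ⟨⟨t, htU⟩, h4, rfl⟩
  · refine ⟨⟨(closure ((U : Set X) ∩ (U₁ : Set X)ᶜ))ᶜ, isClosed_closure.isOpen_compl⟩, hcl, ?_⟩
    intro t ht htV
    apply hU₁ t ht
    by_contra htU₁
    exact htV (subset_closure ⟨ht, htU₁⟩)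

/-- **Control of denominators from the valuative condition.** At a normal point `x` of an integral
affine open `X₁`, with `Y₀` an affine open neighbourhood of `y₀` and `ψ` the comorphism of `h` on
`D(a) ⟶ Y₀`: every `ψ d` lies in the local ring of `x`, because that local ring is the
intersection of the DVRs dominating it. -/
theorem VC.key [IsLocallyNoetherian X] {q : Y ⟶ X} {U : X.Opens}
    {h : (U : Scheme.{u}) ⟶ Y} {x : X} {y₀ : Y} (hVC : VC q U h x y₀)
    [IsDomain (X.presheaf.stalk x)] (hx : IsIntegrallyClosed (X.presheaf.stalk x))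
    (X₁ : X.Opens) (hX₁ : IsAffineOpen X₁) [IsIntegral (X₁ : Scheme.{u})] (hxX₁ : x ∈ X₁)
    (Y₀ : Y.Opens) (hY₀ : IsAffineOpen Y₀) (hy₀ : y₀ ∈ Y₀)
    (a : Γ(X, X₁)) (ha0 : a ≠ 0)
    (g : Spec Γ(X, X.basicOpen a) ⟶ (U : Scheme.{u}))
    (hg : g ≫ U.ι = (hX₁.basicOpen a).fromSpec)
    (ψ : Γ(Y, Y₀) ⟶ Γ(X, X.basicOpen a)) (hψ : Spec.map ψ ≫ hY₀.fromSpec = g ≫ h)
    (d : Γ(Y, Y₀)) :
    ∃ s : Γ(X, X₁), s ∉ (hX₁.primeIdealOf ⟨x, hxX₁⟩).asIdeal ∧
      ∃ c : Γ(X, X₁),
        ψ.hom d * (X.presheaf.map (homOfLE (X.basicOpen_le a)).op).hom s =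
          (X.presheaf.map (homOfLE (X.basicOpen_le a)).op).hom c := by
  classical
  have hDa : IsAffineOpen (X.basicOpen a) := hX₁.basicOpen a
  have hdom : IsDomain Γ(X, X₁) := ZMTExt.isDomain_of_isIntegral_opens X₁
  have hlocT : IsLocalization.Away a Γ(X, X.basicOpen a) := hX₁.isLocalization_basicOpen a
  let res : Γ(X, X₁) ⟶ Γ(X, X.basicOpen a) := X.presheaf.map (homOfLE (X.basicOpen_le a)).op
  have hres : Spec.map res ≫ hX₁.fromSpec = hDa.fromSpec := hX₁.map_fromSpec hDa _
  let K := FractionRing Γ(X, X₁)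
  have hMa : Submonoid.powers a ≤ nonZeroDivisors Γ(X, X₁) :=
    powers_le_nonZeroDivisors_of_noZeroDivisors ha0
  let ιT : Γ(X, X.basicOpen a) →ₐ[Γ(X, X₁)] K :=
    ZMTExt.toK (Submonoid.powers a) hMa Γ(X, X.basicOpen a) K
  have hιT : Function.Injective ιT := ZMTExt.toK_injective _ hMa _ K
  -- the local ring at `x`
  let p : Ideal Γ(X, X₁) := (hX₁.primeIdealOf ⟨x, hxX₁⟩).asIdeal
  let S := X.presheaf.stalk x
  let _ : Algebra Γ(X, X₁) S := TopCat.Presheaf.algebra_section_stalk X.presheaf ⟨x, hxX₁⟩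
  have hlocS : IsLocalization.AtPrime S p := hX₁.isLocalization_stalk ⟨x, hxX₁⟩
  have hMp : p.primeCompl ≤ nonZeroDivisors Γ(X, X₁) := p.primeCompl_le_nonZeroDivisors
  let ιS : S →ₐ[Γ(X, X₁)] K := ZMTExt.toK p.primeCompl hMp S K
  have hιS : Function.Injective ιS := ZMTExt.toK_injective _ hMp S K
  let _ : Algebra S K := ιS.toRingHom.toAlgebra
  have towASK : IsScalarTower Γ(X, X₁) S K :=
    IsScalarTower.of_algebraMap_eq fun t => (ιS.commutes t).symm
  have hFrS : IsFractionRing S K :=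
    IsFractionRing.isFractionRing_of_isDomain_of_isLocalization p.primeCompl S K
  let k : K := ιT (ψ.hom d)
  by_cases hk : k ∈ Set.range (algebraMap S K)
  · obtain ⟨σ, hσ⟩ := hk
    obtain ⟨⟨c, s⟩, h1⟩ := IsLocalization.surj p.primeCompl σ
    refine ⟨s.1, s.2, c, ?_⟩
    apply hιT
    have h2 := congrArg (algebraMap S K) h1
    rw [map_mul, hσ, ← IsScalarTower.algebraMap_apply, ← IsScalarTower.algebraMap_apply] at h2
    rw [map_mul]
    have e1 : ιT (res.hom s.1) = algebraMap Γ(X, X₁) K s.1 := ιT.commutes s.1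
    have e2 : ιT (res.hom c) = algebraMap Γ(X, X₁) K c := ιT.commutes c
    change k * ιT (res.hom s.1) = ιT (res.hom c)
    rw [e1, e2]
    exact h2
  · exfalso
    obtain ⟨R, _, _, _, _, _, towSRK, hFr, hloc, hkR⟩ :=
      KA.exists_dvr_dominating_notMem S K k hk
    let φ : S ⟶ CommRingCat.of R := CommRingCat.ofHom (algebraMap S R)
    let u : Spec (CommRingCat.of R) ⟶ X := Spec.map φ ≫ X.fromSpecStalk x
    have hu_closed : u (IsLocalRing.closedPoint R) = x := by
      change (Spec.map φ ≫ X.fromSpecStalk x) (IsLocalRing.closedPoint R) = x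
      rw [Scheme.Hom.comp_apply]
      have : Spec.map φ (IsLocalRing.closedPoint R) = IsLocalRing.closedPoint S :=
        IsLocalRing.comap_closedPoint (algebraMap S R)
      rw [this, Scheme.fromSpecStalk_closedPoint]
    let e : FractionRing R ≃ₐ[R] K := FractionRing.algEquiv R K
    let ι' : CommRingCat.of R ⟶ CommRingCat.of (FractionRing R) :=
      CommRingCat.ofHom (algebraMap R (FractionRing R))
    let εc : CommRingCat.of K ⟶ CommRingCat.of (FractionRing R) :=
      CommRingCat.ofHom (e.symm : K →+* FractionRing R)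
    let ιTc : Γ(X, X.basicOpen a) ⟶ CommRingCat.of K := CommRingCat.ofHom ιT.toRingHom
    let ub : Spec (CommRingCat.of (FractionRing R)) ⟶ (U : Scheme.{u}) :=
      Spec.map εc ≫ Spec.map ιTc ≫ g
    let germ : Γ(X, X₁) ⟶ S := X.presheaf.germ X₁ x hxX₁
    have hstalk : X.fromSpecStalk x = Spec.map germ ≫ hX₁.fromSpec := by
      rw [← hX₁.fromSpecStalk_eq_fromSpecStalk hxX₁, IsAffineOpen.fromSpecStalk]
    have hring : res ≫ ιTc ≫ εc = germ ≫ φ ≫ ι' := by
      ext t
      change e.symm (ιT (res.hom t)) = algebraMap R (FractionRing R)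
        (algebraMap S R (algebraMap Γ(X, X₁) S t))
      have e1 : ιT (res.hom t) = algebraMap Γ(X, X₁) K t := ιT.commutes t
      rw [e1, IsScalarTower.algebraMap_apply Γ(X, X₁) S K, IsScalarTower.algebraMap_apply S R K,
        AlgEquiv.commutes]
    have hub : ub ≫ U.ι = Spec.map ι' ≫ u := by
      calc (Spec.map εc ≫ Spec.map ιTc ≫ g) ≫ U.ι
          = Spec.map εc ≫ Spec.map ιTc ≫ (g ≫ U.ι) := by simp only [Category.assoc]
        _ = Spec.map εc ≫ Spec.map ιTc ≫ Spec.map res ≫ hX₁.fromSpec := by rw [hg, ← hres]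
        _ = Spec.map (res ≫ ιTc ≫ εc) ≫ hX₁.fromSpec := by
          simp only [Spec.map_comp, Category.assoc]
        _ = Spec.map (germ ≫ φ ≫ ι') ≫ hX₁.fromSpec := by rw [hring]
        _ = Spec.map ι' ≫ Spec.map φ ≫ Spec.map germ ≫ hX₁.fromSpec := by
          simp only [Spec.map_comp, Category.assoc]
        _ = Spec.map ι' ≫ Spec.map φ ≫ X.fromSpecStalk x := by rw [hstalk]
    obtain ⟨h₁, -, hh₁c, hgen⟩ := hVC R u hu_closed ub hub
    have hrange : Set.range h₁ ⊆ Set.range hY₀.fromSpec := by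
      rw [hY₀.range_fromSpec, ← Scheme.Opens.range_ι]
      exact range_subset_of_closedPoint_mem h₁ Y₀ (hh₁c ▸ hy₀)
    let h₁' : Spec (CommRingCat.of R) ⟶ Spec Γ(Y, Y₀) :=
      IsOpenImmersion.lift hY₀.fromSpec h₁ hrange
    have hh₁' : h₁' ≫ hY₀.fromSpec = h₁ := IsOpenImmersion.lift_fac _ _ _
    let χ : Γ(Y, Y₀) ⟶ CommRingCat.of R := Spec.preimage h₁'
    have hχ : Spec.map χ ≫ hY₀.fromSpec = h₁ := by rw [Spec.map_preimage]; exact hh₁'
    have hcomp : χ ≫ ι' = ψ ≫ ιTc ≫ εc := by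
      apply Spec.map_injective
      rw [← cancel_mono hY₀.fromSpec, Spec.map_comp, Category.assoc, hχ, hgen]
      simp only [Spec.map_comp, Category.assoc, hψ]
      rfl
    have h5 : algebraMap R (FractionRing R) (χ.hom d) = e.symm k :=
      congrArg (fun m => m.hom d) hcomp
    have h6 : algebraMap R K (χ.hom d) = k := by
      have := congrArg e h5
      rwa [AlgEquiv.commutes, AlgEquiv.apply_symm_apply] at this
    exact hkR ⟨χ.hom d, h6⟩

end Scheme

end Groth.Agent.Lib.Helper21.DVRExt
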