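import Mathlib
import Groth.Prelude.Def_W4c5cptfessfintypeLocImm
import Groth.Prelude.Def_EssFT

namespace Groth.Agent.Lib.Helper21.LocImmLib
open CategoryTheory AlgebraicGeometry

universe u

section Ring
variable {A B : Type*} [CommRing A] [CommRing B]

theorem localRingHom_bijective_of_isLocalization [Algebra A B] (S : Submonoid A)
    [IsLocalization S B] (p : Ideal B) [p.IsPrime] :
    Function.Bijective
      (Localization.localRingHom (p.comap (algebraMap A B)) p (algebraMap A B) rfl) := by
  have : IsLocalization.AtPrime (Localization.AtPrime p) (p.comap (algebraMap A B)) :=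
    IsLocalization.isLocalization_isLocalization_atPrime_isLocalization S _ p
  let e := IsLocalization.algEquiv (p.comap (algebraMap A B)).primeCompl
    (Localization.AtPrime (p.comap (algebraMap A B))) (Localization.AtPrime p)
  have : Localization.localRingHom (p.comap (algebraMap A B)) p (algebraMap A B) rfl
      = e.toRingEquiv.toRingHom := by
    apply IsLocalization.ringHom_ext (p.comap (algebraMap A B)).primeCompl
    ext a
    simp [Localization.localRingHom_to_map, e, ← IsScalarTower.algebraMap_apply]
  rw [this]
  exact e.bijective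

theorem localRingHom_bijective_of_isLocHom (φ : A →+* B) (h : LocImm.IsLocHom φ)
    (p : Ideal B) [p.IsPrime] :
    Function.Bijective (Localization.localRingHom (p.comap φ) p φ rfl) := by
  let _ := φ.toAlgebra
  obtain ⟨S, hS⟩ := h
  exact localRingHom_bijective_of_isLocalization S p

end Ring

section Stalk

variable {X Y : Scheme.{u}}

instance : (stalkwise (Function.Bijective ·)).RespectsRight @IsOpenImmersion where
  postcomp i hi f hf := fun x => by
    rw [Scheme.Hom.stalkMap_comp]
    have h1 : Function.Bijective (i.stalkMap (f x)).hom :=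
      (ConcreteCategory.isIso_iff_bijective _).mp inferInstance
    exact (hf x).comp h1

theorem stalkwise_bijective_of_isLocalizing (f : X ⟶ Y) (hf : LocImm.IsLocalizing f) :
    stalkwise (Function.Bijective ·) f := by
  have := HasRingHomProperty.stalkwise (P := fun φ => Function.Bijective φ)
    RingHom.Bijective.respectsIso
  refine (IsZariskiLocalAtSource.iff_exists_resLE
    (P := stalkwise (Function.Bijective ·))).mpr fun x => ?_
  obtain ⟨U, V, hxV, e, h⟩ := hf x
  refine ⟨U, V, hxV, e, ?_⟩
  rw [HasRingHomProperty.iff_of_isAffine (P := stalkwise (Function.Bijective ·))]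
  have hQ := (HasRingHomProperty.isLocal_ringHomProperty
    (stalkwise (Function.Bijective ·))).respectsIso
  have : (RingHom.toMorphismProperty (fun {R S : Type u} [CommRing R] [CommRing S]
      (φ : R →+* S) => ∀ (p : Ideal S) (_ : p.IsPrime),
        Function.Bijective (Localization.localRingHom _ p φ rfl))).RespectsIso :=
    RingHom.toMorphismProperty_respectsIso_iff.mp hQ
  refine (MorphismProperty.arrow_mk_iso_iff (RingHom.toMorphismProperty
      (fun {R S : Type u} [CommRing R] [CommRing S]
      (φ : R →+* S) => ∀ (p : Ideal S) (_ : p.IsPrime),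
        Function.Bijective (Localization.localRingHom _ p φ rfl)))
      (arrowResLEAppIso f U V e)).mpr ?_
  intro p hp
  exact localRingHom_bijective_of_isLocHom _ h p

theorem isIso_stalkMap_of_isLocalizing (f : X ⟶ Y) (hf : LocImm.IsLocalizing f) (x : X) :
    IsIso (f.stalkMap x) :=
  (ConcreteCategory.isIso_iff_bijective _).mpr (stalkwise_bijective_of_isLocalizing f hf x)

theorem surjectiveOnStalks_of_isLocalizing (f : X ⟶ Y) (hf : LocImm.IsLocalizing f) :
    SurjectiveOnStalks f :=
  ⟨fun x => (stalkwise_bijective_of_isLocalizing f hf x).2⟩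

theorem mono_of_isLocImmersion (f : X ⟶ Y) (hf : LocImm.IsLocImmersion f) : Mono f := by
  have := surjectiveOnStalks_of_isLocalizing f hf.1
  exact SurjectiveOnStalks.mono_of_injective hf.2

theorem isLocImmersion_iff_mono (f : X ⟶ Y) :
    LocImm.IsLocImmersion f ↔ (LocImm.IsLocalizing f ∧ Mono f) :=
  ⟨fun h => ⟨h.1, mono_of_isLocImmersion f h⟩, fun ⟨h1, _⟩ => ⟨h1, f.injective⟩⟩

end Stalk

end Groth.Agent.Lib.Helper21.LocImmLib
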