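import Mathlib
import Groth.Agent.Lib.Helper21.LocImmLib

namespace Groth.Agent.Lib.Helper21.LocImmLib
open CategoryTheory AlgebraicGeometry TopologicalSpace Topology

universe u

theorem isInducing_of_specializes {X Y : Type*} [tX : TopologicalSpace X] [tY : TopologicalSpace Y]
    [NoetherianSpace X] [QuasiSober X]
    (f : X → Y) (hf : Continuous f) (h : ∀ z x, f z ⤳ f x → z ⤳ x) : IsInducing f := by
  refine ⟨le_antisymm hf.le_induced ?_⟩
  intro s hs
  have hc : IsClosed sᶜ := isClosed_compl_iff.mpr hs
  rw [← @isClosed_compl_iff _ (tY.induced f), isClosed_induced_iff]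
  refine ⟨closure (f '' sᶜ), isClosed_closure, ?_⟩
  apply Set.Subset.antisymm
  · intro x hx
    obtain ⟨S, hSf, hSc, hSi, hSU⟩ := NoetherianSpace.exists_finite_set_isClosed_irreducible hc
    rw [Set.mem_preimage, hSU, Set.image_sUnion, (hSf.image _).closure_sUnion] at hx
    obtain ⟨_, ⟨t, ht, rfl⟩, hxt⟩ := Set.mem_iUnion₂.mp hx
    have hgen : closure {(hSi t ht).genericPoint} = t := (hSi t ht).closure_genericPoint (hSc t ht)
    rw [← hgen, closure_image_closure hf, Set.image_singleton, ← specializes_iff_mem_closure] at hxt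
    have := h _ _ hxt
    rw [hSU]
    refine ⟨t, ht, ?_⟩
    rw [← hgen]
    exact this.mem_closure
  · intro x hx
    exact subset_closure ⟨x, hx, rfl⟩

variable {X Y : Scheme.{u}}

/-- A flat injective morphism out of a Noetherian scheme is a topological embedding. -/
theorem isEmbedding_of_flat_of_injective [IsNoetherian X] (f : X ⟶ Y) [Flat f]
    (hinj : Function.Injective f) : IsEmbedding f := by
  refine ⟨isInducing_of_specializes f f.continuous fun z x hzx => ?_, hinj⟩
  obtain ⟨z', hz', e⟩ := Flat.generalizingMap f hzx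
  rwa [← hinj e]

theorem flat_of_isLocalizing (f : X ⟶ Y) (hf : LocImm.IsLocalizing f) : Flat f :=
  Flat.of_stalkMap f fun x => RingHom.Flat.of_bijective (stalkwise_bijective_of_isLocalizing f hf x)

theorem isEmbedding_of_isLocImmersion [IsNoetherian X] (f : X ⟶ Y)
    (hf : LocImm.IsLocImmersion f) : IsEmbedding f := by
  have := flat_of_isLocalizing f hf.1
  exact isEmbedding_of_flat_of_injective f hf.2

theorem stableUnderGeneralization_range_of_isLocalizing (f : X ⟶ Y)
    (hf : LocImm.IsLocalizing f) : StableUnderGeneralization (Set.range f) := by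
  have := flat_of_isLocalizing f hf
  exact (Flat.generalizingMap f).stableUnderGeneralization_range

theorem isOpen_of_isClosed_of_stableUnderGeneralization {Y : Type*} [TopologicalSpace Y]
    [NoetherianSpace Y] [QuasiSober Y] {T : Set Y} (hc : IsClosed T)
    (hg : StableUnderGeneralization T) : IsOpen T := by
  obtain ⟨S, hSf, hSc, hSi, hSU⟩ :=
    NoetherianSpace.exists_finite_set_isClosed_irreducible (isClosed_univ (X := Y))
  have : Tᶜ = ⋃₀ {t ∈ S | ¬ t ⊆ T} := by
    ext y; constructor
    · intro hy
      have : y ∈ ⋃₀ S := hSU ▸ Set.mem_univ y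
      obtain ⟨t, ht, hyt⟩ := this
      exact ⟨t, ⟨ht, fun h => hy (h hyt)⟩, hyt⟩
    · rintro ⟨t, ⟨ht, hnt⟩, hyt⟩ hyT
      apply hnt
      have hgen := (hSi t ht).closure_genericPoint (hSc t ht)
      have hz : (hSi t ht).genericPoint ⤳ y := by
        rw [specializes_iff_mem_closure, hgen]; exact hyt
      have := hg hz hyT
      rw [← hgen]; exact hc.closure_subset_iff.mpr (Set.singleton_subset_iff.mpr this)
  rw [← isClosed_compl_iff, this, Set.sUnion_eq_biUnion]
  exact (hSf.subset (Set.sep_subset _ _)).isClosed_biUnion (fun t ht => hSc t ht.1)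



theorem isOpenImmersion_of_isClosed_range [IsNoetherian X] [IsNoetherian Y] (f : X ⟶ Y)
    (hf : LocImm.IsLocImmersion f) (hc : IsClosed (Set.range f)) : IsOpenImmersion f := by
  have hopen : IsOpen (Set.range f) :=
    isOpen_of_isClosed_of_stableUnderGeneralization hc
      (stableUnderGeneralization_range_of_isLocalizing f hf.1)
  have hemb : IsOpenEmbedding f := ⟨isEmbedding_of_isLocImmersion f hf, hopen⟩
  have := isIso_stalkMap_of_isLocalizing f hf.1
  exact IsOpenImmersion.of_isIso_stalkMap f hemb

theorem isOpenImmersion_of_locallyOfFiniteType [IsLocallyNoetherian Y] (f : X ⟶ Y)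
    (hf : LocImm.IsLocImmersion f) [LocallyOfFiniteType f] : IsOpenImmersion f := by
  have := flat_of_isLocalizing f hf.1
  have hopen : IsOpenMap f := f.isOpenMap
  have hemb : IsOpenEmbedding f := .of_continuous_injective_isOpenMap f.continuous hf.2 hopen
  have := isIso_stalkMap_of_isLocalizing f hf.1
  exact IsOpenImmersion.of_isIso_stalkMap f hemb

end Groth.Agent.Lib.Helper21.LocImmLib
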