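import Groth.Agent.Lib.Helper21.NagFin2

set_option autoImplicit false
set_option linter.style.haveILetI false
set_option linter.unusedSectionVars false
universe u

namespace Groth.Agent.Lib.Helper21.NagFin

section Prod

variable (R : Type u) [CommRing R] [IsNoetherianRing R] (S : Type u) [CommRing S] [Algebra R S]

/-- If `S` embeds (jointly) in finitely many `R`-algebras `L i` in each of which `R` has finite
integral closure, then `R` has finite integral closure in `S`. -/
theorem finite_integralClosure_of_jointly_injective {ι : Type u} [Finite ι] (L : ι → Type u)
    [∀ i, CommRing (L i)] [∀ i, Algebra R (L i)] (ψ : ∀ i, S →ₐ[R] L i)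
    (hinj : ∀ x : S, (∀ i, ψ i x = 0) → x = 0)
    (hfin : ∀ i, Module.Finite R (integralClosure R (L i))) :
    Module.Finite R (integralClosure R S) := by
  classical
  haveI := Fintype.ofFinite ι
  let φ : integralClosure R S →ₗ[R] (∀ i, integralClosure R (L i)) :=
    { toFun := fun x i => ⟨ψ i x.1, x.2.map (ψ i)⟩
      map_add' := fun x y => by
        funext i
        apply Subtype.ext
        simp
      map_smul' := fun r x => by
        funext i
        apply Subtype.ext
        simp }
  have hφ : Function.Injective φ := by
    rw [← LinearMap.ker_eq_bot, LinearMap.ker_eq_bot']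
    intro x hx
    apply Subtype.ext
    apply hinj
    intro i
    have := congrFun hx i
    exact congrArg Subtype.val this
  exact Module.Finite.of_injective φ hφ

end Prod

section FiniteType

variable (R : Type u) [CommRing R] (S : Type u) [CommRing S] [Algebra R S]

/-- Stacks 03GH: for a Nagata ring `R` and a reduced `R`-algebra `S` of finite type, the integral
closure of `R` in `S` is finite over `R`. -/
theorem finite_integralClosure_of_finiteType (hN : CAlg.IsNagata R) [IsReduced S]
    [Algebra.FiniteType R S] : Module.Finite R (integralClosure R S) := by
  classical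
  haveI : IsNoetherianRing R := hN.1
  haveI : IsNoetherianRing S := Algebra.FiniteType.isNoetherianRing R S
  have hfinmin : (minimalPrimes S).Finite := minimalPrimes.finite_of_isNoetherianRing S
  haveI : Finite (minimalPrimes S) := hfinmin.to_subtype
  haveI hprime : ∀ q : minimalPrimes S, q.1.IsPrime := fun q => q.2.1.1
  refine finite_integralClosure_of_jointly_injective R S
    (fun q : minimalPrimes S => q.1.ResidueField)
    (fun q => IsScalarTower.toAlgHom R S q.1.ResidueField) ?_ ?_
  · intro x hx
    have hmem : x ∈ nilradical S := by
      rw [nilradical_eq_sInf, Ideal.mem_sInf]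
      intro J hJ
      haveI : J.IsPrime := hJ
      obtain ⟨q, hq, hqJ⟩ := Ideal.exists_minimalPrimes_le (I := (⊥ : Ideal S)) (J := J)
        (by exact bot_le)
      apply hqJ
      have := hx ⟨q, hq⟩
      rw [IsScalarTower.coe_toAlgHom', Ideal.algebraMap_residueField_eq_zero] at this
      exact this
    rw [nilradical_eq_zero S] at hmem
    exact hmem
  · intro q
    haveI : Algebra.EssFiniteType R q.1.ResidueField := Algebra.EssFiniteType.comp R S _
    exact finite_integralClosure_field R _ hN

end FiniteType

end Groth.Agent.Lib.Helper21.NagFin
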