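import Mathlib.AlgebraicGeometry.ValuativeCriterion
import Mathlib.AlgebraicGeometry.Limits
import Mathlib.AlgebraicGeometry.Noetherian

/-!
# Completion of normal curves, part 3: a finite disjoint union of proper schemes is proper
-/

set_option autoImplicit false
set_option linter.style.haveILetI false
universe u
open AlgebraicGeometry CategoryTheory Limits TopologicalSpace

namespace Groth.Agent.Lib.Helper21.CurveCompl

variable {ι : Type u} (C : ι → Scheme.{u})

theorem exists_sigmaι_eq (c : (∐ C : Scheme.{u})) : ∃ (i : ι) (y : C i), Sigma.ι C i y = c := by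
  obtain ⟨y, hy⟩ := (sigmaOpenCover C).covers c
  exact ⟨_, y, hy⟩

theorem isClosed_range_sigmaι (i : ι) : IsClosed (Set.range (Sigma.ι C i)) := by
  have h : (Set.range (Sigma.ι C i))ᶜ = ⋃ j ∈ {j : ι | j ≠ i}, Set.range (Sigma.ι C j) := by
    ext c
    simp only [Set.mem_compl_iff, Set.mem_iUnion, Set.mem_setOf_eq, exists_prop]
    constructor
    · intro hc
      obtain ⟨j, y, rfl⟩ := exists_sigmaι_eq C c
      refine ⟨j, ?_, y, rfl⟩
      rintro rfl
      exact hc ⟨y, rfl⟩
    · rintro ⟨j, hj, y, rfl⟩ ⟨z, hz⟩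
      have := (disjoint_opensRange_sigmaι C i j (Ne.symm hj))
      rw [disjoint_iff, Opens.ext_iff] at this
      have h2 : Sigma.ι C j y ∈ ((Sigma.ι C i).opensRange ⊓ (Sigma.ι C j).opensRange : Opens _) :=
        ⟨⟨z, hz⟩, ⟨y, rfl⟩⟩
      rw [← SetLike.mem_coe, this] at h2
      exact h2
  rw [← isOpen_compl_iff, h]
  exact isOpen_biUnion fun j _ => (Sigma.ι C j).isOpenEmbedding.isOpen_range

/-- A morphism to a coproduct mapping a dense point into a component factors through this
component. -/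
theorem range_subset_of_generic {T : Scheme.{u}}
    (l : T ⟶ (∐ C : Scheme.{u})) (i : ι) (g : T) (hg : closure {g} = Set.univ)
    (h : l g ∈ Set.range (Sigma.ι C i)) :
    Set.range l ⊆ Set.range (Sigma.ι C i) := by
  have hcl : IsClosed (l ⁻¹' Set.range (Sigma.ι C i)) :=
    (isClosed_range_sigmaι C i).preimage l.continuous
  have hsub : closure {g} ⊆ l ⁻¹' Set.range (Sigma.ι C i) := by
    rw [hcl.closure_subset_iff]
    rintro _ rfl
    exact h
  rintro _ ⟨z, rfl⟩
  exact hsub (hg ▸ Set.mem_univ z)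

theorem closure_bot_eq_univ (R : Type u) [CommRing R] [IsDomain R] :
    closure {(show Spec (CommRingCat.of R) from
      (⟨⊥, Ideal.isPrime_bot⟩ : PrimeSpectrum R))} = Set.univ := by
  change closure {(⟨⊥, Ideal.isPrime_bot⟩ : PrimeSpectrum R)} = Set.univ
  rw [PrimeSpectrum.closure_singleton]
  exact PrimeSpectrum.zeroLocus_bot

theorem valuativeCriterion_sigmaDesc {S : Scheme.{u}} (f : ∀ i, C i ⟶ S)
    (h : ∀ i, ValuativeCriterion (f i)) : ValuativeCriterion (Sigma.desc f) := by
  intro Sq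
  let pt : Spec (CommRingCat.of Sq.K) := (⟨⊥, Ideal.isPrime_bot⟩ : PrimeSpectrum Sq.K)
  have hpt : ∀ z : Spec (CommRingCat.of Sq.K), z = pt := fun z =>
    Subsingleton.elim (α := PrimeSpectrum Sq.K) _ _
  obtain ⟨i, y, hy⟩ := exists_sigmaι_eq C (Sq.i₁ pt)
  have hrange : Set.range Sq.i₁ ⊆ Set.range (Sigma.ι C i) := by
    rintro _ ⟨z, rfl⟩
    rw [hpt z]
    exact ⟨y, hy⟩
  let i₁' := IsOpenImmersion.lift (Sigma.ι C i) Sq.i₁ hrange
  have h1 : i₁' ≫ Sigma.ι C i = Sq.i₁ := IsOpenImmersion.lift_fac _ _ _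
  have hw : i₁' ≫ f i = Spec.map (CommRingCat.ofHom (algebraMap Sq.R Sq.K)) ≫ Sq.i₂ := by
    rw [← Sq.commSq.w, ← h1, Category.assoc, Sigma.ι_desc]
  let Sq' : ValuativeCommSq (f i) :=
    { R := Sq.R, K := Sq.K, i₁ := i₁', i₂ := Sq.i₂, commSq := ⟨hw⟩ }
  obtain ⟨hU⟩ := h i Sq'
  -- the generic point of `Spec R`
  have hgen : (Spec.map (CommRingCat.ofHom (algebraMap Sq.R Sq.K))) pt =
      (show Spec (CommRingCat.of Sq.R) from (⟨⊥, Ideal.isPrime_bot⟩ : PrimeSpectrum Sq.R)) := by
    apply PrimeSpectrum.ext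
    change Ideal.comap (algebraMap Sq.R Sq.K) ⊥ = ⊥
    rw [← RingHom.ker_eq_comap_bot, RingHom.ker_eq_bot_iff_eq_zero]
    intro a ha
    exact (IsFractionRing.injective Sq.R Sq.K) (by rw [ha, map_zero])
  refine ⟨⟨⟨⟨hU.default.l ≫ Sigma.ι C i, ?_, ?_⟩⟩, ?_⟩⟩
  · rw [← Category.assoc]
    have := hU.default.fac_left
    change Spec.map (CommRingCat.ofHom (algebraMap Sq.R Sq.K)) ≫ hU.default.l = i₁' at this
    rw [this, h1]
  · rw [Category.assoc, Sigma.ι_desc]
    exact hU.default.fac_right
  · intro L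
    have hL : Set.range L.l ⊆ Set.range (Sigma.ι C i) := by
      refine range_subset_of_generic C L.l i _ (closure_bot_eq_univ Sq.R) ?_
      have h3 : L.l (Spec.map (CommRingCat.ofHom (algebraMap Sq.R Sq.K)) pt) = Sq.i₁ pt := by
        rw [← Scheme.Hom.comp_apply, L.fac_left]
      rw [hgen] at h3
      rw [h3]
      exact ⟨y, hy⟩
    let l' := IsOpenImmersion.lift (Sigma.ι C i) L.l hL
    have hl' : l' ≫ Sigma.ι C i = L.l := IsOpenImmersion.lift_fac _ _ _
    let L' : Sq'.commSq.LiftStruct :=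
      { l := l'
        fac_left := by
          rw [← cancel_mono (Sigma.ι C i), Category.assoc, hl', h1]
          exact L.fac_left
        fac_right := by
          have := L.fac_right
          rw [← hl', Category.assoc, Sigma.ι_desc] at this
          exact this }
    have hLL : L' = hU.default := hU.uniq L'
    apply CommSq.LiftStruct.ext
    change L.l = hU.default.l ≫ Sigma.ι C i
    rw [← hLL, ← hl']

theorem valuativeCriterion_of_isProper {X S : Scheme.{u}} (f : X ⟶ S) [IsProper f] :
    ValuativeCriterion f := by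
  have h : IsProper f := inferInstance
  rw [IsProper.eq_valuativeCriterion] at h
  exact h.1.1.1

/-- A finite coproduct of schemes proper over a Noetherian scheme is proper. -/
theorem isProper_sigmaDesc [Finite ι] {S : Scheme.{u}} [IsLocallyNoetherian S] [CompactSpace S]
    (f : ∀ i, C i ⟶ S) [∀ i, IsProper (f i)] : IsProper (Sigma.desc f) := by
  haveI : LocallyOfFiniteType (Sigma.desc f) :=
    IsZariskiLocalAtSource.sigmaDesc (fun i => inferInstance)
  haveI : IsLocallyNoetherian (∐ C : Scheme.{u}) :=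
    LocallyOfFiniteType.isLocallyNoetherian (Sigma.desc f)
  haveI : ∀ i, CompactSpace (C i) := fun i => QuasiCompact.compactSpace_of_compactSpace (f i)
  haveI : CompactSpace (∐ C : Scheme.{u}) := (sigmaMk C).compactSpace
  exact IsProper.of_valuativeCriterion _
    (valuativeCriterion_sigmaDesc C f fun i => valuativeCriterion_of_isProper (f i))

end Groth.Agent.Lib.Helper21.CurveCompl
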