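import Groth.Agent.Lib.Helper21.FibDim5

set_option autoImplicit false
set_option linter.style.haveILetI false
set_option linter.unusedSectionVars false
universe u

open AlgebraicGeometry CategoryTheory Limits TopologicalSpace

namespace Groth.Agent.Lib.Helper21.FibDim

open Groth.Agent.Lib.Helper21.ChartPt Groth.Agent.Lib.Helper21.NagDvr
  Groth.Agent.Lib.Helper20.DimTrdeg

section Top

variable {T : Type*} [TopologicalSpace T]

/-- an irreducible component of a quasi-sober space has a generic point -/
theorem exists_isGenericPoint_of_mem_irreducibleComponents [QuasiSober T] (Z : Set T)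
    (hZ : Z ∈ irreducibleComponents T) : ∃ z : T, IsGenericPoint z Z :=
  ⟨hZ.1.genericPoint,
    hZ.1.isGenericPoint_genericPoint (isClosed_of_mem_irreducibleComponents Z hZ)⟩

/-- the generic point of an irreducible component has no proper generisation -/
theorem eq_of_specializes_isGenericPoint [T0Space T] (Z : Set T)
    (hZ : Z ∈ irreducibleComponents T) (z z' : T) (hz : IsGenericPoint z Z) (h : z' ⤳ z) :
    z' = z := by
  have h1 : Z ≤ closure {z'} := by
    rw [← hz.def]
    exact specializes_iff_closure_subset.mp h
  have h2 := hZ.2 (isIrreducible_singleton.closure) h1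
  have h3 : z ⤳ z' := by
    rw [specializes_iff_mem_closure, hz.def]
    exact h2 (subset_closure rfl)
  exact (h.antisymm h3).eq

end Top

section Fib

variable {X S : Scheme.{u}} (f : X ⟶ S) [LocallyOfFiniteType f]

/-- at a point which is maximal in its fibre, the local fibre dimension is the transcendence
degree of the residue field extension -/
theorem fibreDimAt_eq_trdeg_of_maximal (x : X)
    (hmax : ∀ x' : X, x' ⤳ x → f x' = f x → x' = x) :
    ∃ n : ℕ, FlatMor.fibreDimAt f x = n ∧
      @Algebra.trdeg (S.residueField (f x)) (X.residueField x) _ _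
        (f.residueFieldMap x).hom.toAlgebra = n := by
  obtain ⟨n, hn1, ⟨y, hy1, hy2, hy3⟩, -⟩ := exists_fibreDimAt_eq_trdeg f x
  have hyx : y = x := hmax y hy1 hy2
  subst hyx
  exact ⟨n, hn1, hy3⟩

/-- **Bridge**: an irreducible component of a fibre has a generic point, its dimension is the
local fibre dimension there, and that point is maximal in the fibre. -/
theorem exists_isGenericPoint_fiber (s : S) (Z : Set (f.fiber s))
    (hZ : Z ∈ irreducibleComponents (f.fiber s)) :
    ∃ z : f.fiber s, IsGenericPoint z Z ∧
      topologicalKrullDim Z = FlatMor.fibreDimAt f (f.fiberι s z) ∧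
      ∀ x' : X, x' ⤳ f.fiberι s z → f x' = f (f.fiberι s z) → x' = f.fiberι s z := by
  obtain ⟨z, hz⟩ := exists_isGenericPoint_of_mem_irreducibleComponents Z hZ
  have hfz : f (f.fiberι s z) = s := (f.fiberHomeo s z).2
  have hmax : ∀ x' : X, x' ⤳ f.fiberι s z → f x' = f (f.fiberι s z) → x' = f.fiberι s z := by
    intro x' hx' hfx'
    have hfx's : f x' = s := hfx'.trans hfz
    let z' : f.fiber s := (f.fiberHomeo s).symm ⟨x', hfx's⟩
    have hz' : f.fiberι s z' = x' := Scheme.Hom.fiberι_fiberHomeo_symm f s ⟨x', hfx's⟩
    have hz'z : z' ⤳ z := by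
      rw [← (f.fiberι s).isEmbedding.isInducing.specializes_iff, hz']
      exact hx'
    have := eq_of_specializes_isGenericPoint Z hZ z z' hz hz'z
    rw [← hz', this]
  refine ⟨z, hz, ?_, hmax⟩
  obtain ⟨n, hn1, hn2⟩ := fibreDimAt_eq_trdeg_of_maximal f (f.fiberι s z) hmax
  rw [hn1]
  letI := fiberOver f s
  haveI : LocallyOfFiniteType (f.fiber s ↘ Spec (CommRingCat.of (S.residueField s))) :=
    MorphismProperty.pullback_snd (P := @LocallyOfFiniteType) _ _ inferInstance
  have key : ∀ (y : X) (z : f.fiber s), f.fiberι s z = y →
      @Algebra.trdeg (S.residueField s) ((f.fiber s).residueField z) _ _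
        (Curv2.resAlgebra (S.residueField s) (f.fiber s) z) =
      @Algebra.trdeg (S.residueField (f y)) (X.residueField y) _ _
        (f.residueFieldMap y).hom.toAlgebra := by
    rintro y z rfl
    exact trdeg_fiber_eq f s z
  have h1 := key _ z rfl
  rw [hn2] at h1
  have h2 := topologicalKrullDim_closure_singleton (S.residueField s) (f.fiber s) z n h1
  rw [hz.def] at h2
  exact h2

end Fib

end Groth.Agent.Lib.Helper21.FibDim
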