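import Mathlib

/-!
# Topological and sheaf-theoretic lemmas for one-dimensional proper schemes with `H⁰ = k`

* `ringKrullDim_stalk_le`, `ringKrullDim_stalk_eq_zero_of_not_isClosed`
* `topologicalKrullDim_irreducibleComponent` : in a connected Noetherian sober space of
  dimension one every irreducible component has dimension one.
* `exists_glue₂` : binary gluing of sections of the structure sheaf.
* `exists_section_of_closedPoint` : extension by zero at a closed point.
-/

set_option autoImplicit false
universe u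
open CategoryTheory CategoryTheory.Limits AlgebraicGeometry TopologicalSpace Opposite

namespace Groth.Agent.Lib.Helper21.CurveH0

theorem krullDim_eq_topologicalKrullDim (X : Scheme.{u}) :
    Order.krullDim X = topologicalKrullDim X :=
  (Order.krullDim_eq_of_orderIso (irreducibleSetEquivPoints (α := X))).symm

theorem isClosed_singleton_iff_isMin (X : Scheme.{u}) (x : X) :
    IsClosed ({x} : Set X) ↔ IsMin x := by
  constructor
  · intro h y hy
    have : y ∈ closure ({x} : Set X) := by
      rw [closure_singleton_eq_Iic]; exact hy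
    rw [h.closure_eq] at this
    rw [Set.mem_singleton_iff.mp this]
  · intro h
    rw [← closure_subset_iff_isClosed]
    intro y hy
    rw [closure_singleton_eq_Iic] at hy
    have h1 : x ≤ y := h hy
    have : x ⤳ y := hy
    have h2 : y ⤳ x := h1
    exact (this.antisymm h2).eq.symm

theorem ringKrullDim_stalk_eq_zero_of_not_isClosed (X : Scheme.{u})
    (hdim : topologicalKrullDim X ≤ 1) (x : X) (hx : ¬ IsClosed ({x} : Set X)) :
    ringKrullDim (X.presheaf.stalk x) = 0 := by
  rw [ringKrullDim_stalk_eq_coheight]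
  haveI : Nonempty X := ⟨x⟩
  have h1 : ((Order.height x + Order.coheight x : ℕ∞) : WithBot ℕ∞) ≤ 1 := by
    rw [← krullDim_eq_topologicalKrullDim,
      Order.krullDim_eq_iSup_height_add_coheight_of_nonempty] at hdim
    refine le_trans ?_ hdim
    rw [WithBot.coe_le_coe]
    exact le_iSup (fun a : X => Order.height a + Order.coheight a) x
  have h2 : Order.height x + Order.coheight x ≤ 1 := by exact_mod_cast h1
  have h3 : 1 ≤ Order.height x := by
    rw [ENat.one_le_iff_ne_zero, Ne, Order.height_eq_zero, ← isClosed_singleton_iff_isMin]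
    exact hx
  have h4 : Order.coheight x = 0 := by
    by_contra hc
    have h5 : 1 ≤ Order.coheight x := ENat.one_le_iff_ne_zero.mpr hc
    have h6 : (1 : ℕ∞) + 1 ≤ 1 := (add_le_add h3 h5).trans h2
    exact absurd h6 (by decide)
  rw [h4]
  rfl

theorem ringKrullDim_stalk_le (X : Scheme.{u}) (x : X) :
    ringKrullDim (X.presheaf.stalk x) ≤ topologicalKrullDim X := by
  rw [ringKrullDim_stalk_eq_coheight, ← krullDim_eq_topologicalKrullDim]
  exact Order.coheight_le_krullDim x

theorem topologicalKrullDim_irreducibleComponent {T : Type*} [TopologicalSpace T]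
    [NoetherianSpace T] [QuasiSober T] [T0Space T] [ConnectedSpace T]
    (hdim : topologicalKrullDim T = 1) (Z : Set T) (hZ : Z ∈ irreducibleComponents T) :
    topologicalKrullDim Z = 1 := by
  refine le_antisymm ((topologicalKrullDim_subspace_le T Z).trans hdim.le) ?_
  have hZc : IsClosed Z := isClosed_of_mem_irreducibleComponents Z hZ
  have hZi : IsIrreducible Z := hZ.1
  by_contra hnot
  set η : T := hZi.genericPoint with hη
  have hηcl : closure ({η} : Set T) = Z := by
    rw [hη, hZi.genericPoint_closure_eq, hZc.closure_eq]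
  have hηZ : η ∈ Z := by rw [← hηcl]; exact subset_closure rfl
  have : QuasiSober Z := hZc.isClosedEmbedding_subtypeVal.quasiSober
  -- Z ⊆ {η}
  have hsub : ∀ z ∈ Z, z = η := by
    intro z hz
    by_contra hne
    apply hnot
    letI : PartialOrder Z := specializationOrder Z
    have hkd : topologicalKrullDim Z = Order.krullDim Z :=
      Order.krullDim_eq_of_orderIso (irreducibleSetEquivPoints (α := Z))
    rw [hkd, Order.one_le_krullDim_iff]
    have h1 : η ⤳ z := by
      rw [specializes_iff_mem_closure, hηcl]; exact hz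
    have h1' : (⟨η, hηZ⟩ : Z) ⤳ (⟨z, hz⟩ : Z) := by
      exact Topology.IsInducing.subtypeVal.specializes_iff.mp h1
    refine ⟨⟨z, hz⟩, ⟨η, hηZ⟩, lt_of_le_of_ne h1' ?_⟩
    intro h
    exact hne (congrArg Subtype.val h)
  have hZeq : Z = {η} := by
    ext z
    exact ⟨fun hz => hsub z hz, fun hz => by rw [Set.mem_singleton_iff.mp hz]; exact hηZ⟩
  -- Z is open
  have hfin : (irreducibleComponents T \ {Z}).Finite :=
    (NoetherianSpace.finite_irreducibleComponents).subset Set.diff_subset
  have hcl : IsClosed (⋃ Z' ∈ irreducibleComponents T \ {Z}, Z') :=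
    hfin.isClosed_biUnion fun Z' hZ' => isClosed_of_mem_irreducibleComponents Z' hZ'.1
  have hcompl : Zᶜ = ⋃ Z' ∈ irreducibleComponents T \ {Z}, Z' := by
    ext y
    simp only [Set.mem_compl_iff, Set.mem_iUnion, Set.mem_diff, Set.mem_singleton_iff,
      exists_prop]
    constructor
    · intro hy
      have : y ∈ ⋃₀ irreducibleComponents T := by
        rw [sUnion_irreducibleComponents]; trivial
      obtain ⟨Z', hZ', hyZ'⟩ := this
      refine ⟨Z', ⟨hZ', ?_⟩, hyZ'⟩
      rintro rfl
      exact hy hyZ'
    · rintro ⟨Z', ⟨hZ', hne⟩, hyZ'⟩ hyZ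
      have hyη : y = η := hsub y hyZ
      apply hne
      have hle : Z ≤ Z' := by
        intro w hw
        rw [hsub w hw, ← hyη]
        exact hyZ'
      exact (le_antisymm (hZ.2 hZ'.1 hle) hle)
  have hopen : IsOpen Z := by
    rw [← isClosed_compl_iff, hcompl]
    exact hcl
  have huniv : Z = Set.univ := IsClopen.eq_univ ⟨hZc, hopen⟩ ⟨η, hηZ⟩
  apply hnot
  rw [huniv, (Homeomorph.Set.univ T).isHomeomorph.topologicalKrullDim_eq, hdim]

/-- Binary gluing of sections of the structure sheaf. -/
theorem exists_glue₂ (X : Scheme.{u}) (U V : X.Opens) (hUV : U ⊔ V = ⊤) (a : Γ(X, U))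
    (b : Γ(X, V))
    (h : X.presheaf.map (homOfLE (inf_le_left : U ⊓ V ≤ U)).op a =
      X.presheaf.map (homOfLE (inf_le_right : U ⊓ V ≤ V)).op b) :
    ∃ s : Γ(X, ⊤), X.presheaf.map (homOfLE (le_top : U ≤ ⊤)).op s = a ∧
      X.presheaf.map (homOfLE (le_top : V ≤ ⊤)).op s = b := by
  classical
  let W : Bool → X.Opens := fun b => if b then U else V
  let sf : ∀ b : Bool, Γ(X, W b) := fun c => match c with
    | true => a
    | false => b
  have hW : (⊤ : X.Opens) ≤ iSup W := by
    rw [← hUV]
    exact sup_le (le_iSup W true) (le_iSup W false)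
  have hcompat : TopCat.Presheaf.IsCompatible X.sheaf.1 W sf := by
    intro c c'
    cases c <;> cases c'
    · rfl
    · change X.presheaf.map (homOfLE (inf_le_left : V ⊓ U ≤ V)).op b =
        X.presheaf.map (homOfLE (inf_le_right : V ⊓ U ≤ U)).op a
      have e : V ⊓ U ≤ U ⊓ V := by rw [inf_comm]
      have h' := congrArg (X.presheaf.map (homOfLE e).op) h
      simp only [← CommRingCat.comp_apply, ← Functor.map_comp] at h'
      exact h'.symm
    · exact h
    · rfl
  obtain ⟨s, hs, -⟩ := X.sheaf.existsUnique_gluing' W ⊤ (fun b => homOfLE le_top) hW sf hcompat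
  exact ⟨s, hs true, hs false⟩

/-- Extension by zero of a section on an affine neighbourhood of a closed point `x` which is
killed by every function vanishing at `x`. -/
theorem exists_section_of_closedPoint (X : Scheme.{u}) (x : X) (hx : IsClosed ({x} : Set X))
    (U : X.Opens) (hU : IsAffineOpen U) (hxU : x ∈ U) (a : Γ(X, U))
    (ha : ∀ f : Γ(X, U), x ∉ X.basicOpen f → f * a = 0) :
    ∃ s : Γ(X, ⊤), X.presheaf.map (homOfLE (le_top : U ≤ ⊤)).op s = a := by
  let V : X.Opens := ⟨{x}ᶜ, hx.isOpen_compl⟩
  have hxV : x ∉ V := fun h => h rfl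
  have hUV : U ⊔ V = ⊤ := by
    ext y
    simp only [Opens.coe_sup, Set.mem_union, SetLike.mem_coe, Opens.coe_top, Set.mem_univ,
      iff_true]
    by_cases hy : y = x
    · left; rw [hy]; exact hxU
    · right
      exact hy
  have hres : X.presheaf.map (homOfLE (inf_le_left : U ⊓ V ≤ U)).op a =
      X.presheaf.map (homOfLE (inf_le_right : U ⊓ V ≤ V)).op 0 := by
    rw [map_zero]
    refine TopCat.Presheaf.section_ext X.sheaf (U ⊓ V) _ 0 fun y hy => ?_
    change X.presheaf.germ (U ⊓ V) y hy _ = X.presheaf.germ (U ⊓ V) y hy 0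
    rw [map_zero]
    obtain ⟨f, hfV, hyf⟩ := hU.exists_basicOpen_le (V := V) ⟨y, hy.2⟩ hy.1
    have hxf : x ∉ X.basicOpen f := fun h => hxV (hfV h)
    have hfa := ha f hxf
    have hunit : IsUnit (X.presheaf.germ U y hy.1 f) := (X.mem_basicOpen f y hy.1).mp hyf
    have h0 : X.presheaf.germ U y hy.1 f * X.presheaf.germ U y hy.1 a = 0 := by
      rw [← map_mul, hfa, map_zero]
    have h1 : X.presheaf.germ U y hy.1 a = 0 := by
      rwa [hunit.mul_right_eq_zero] at h0
    rw [← h1]
    exact TopCat.Presheaf.germ_res_apply X.presheaf (homOfLE (inf_le_left : U ⊓ V ≤ U)) y hy a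
  obtain ⟨s, hs, -⟩ := exists_glue₂ X U V hUV a 0 hres
  exact ⟨s, hs⟩

end Groth.Agent.Lib.Helper21.CurveH0
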