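import Groth.Agent.Lib.Helper29.IntegInv
import Groth.Agent.Lib.Helper29.IsoLocus
import Groth.Agent.Lib.Helper21.CurveH0a

set_option autoImplicit false
set_option linter.style.haveILetI false
universe u
open CategoryTheory CategoryTheory.Limits AlgebraicGeometry TopologicalSpace Opposite

namespace Groth.Agent.Lib.Helper21.CDeg

open Groth.Agent.Lib.Helper29.QCoh

variable {X : Scheme.{u}}

/-- a map of invertible modules on an integral scheme killing a local generator is zero -/
theorem hom_eq_zero_of_app_eq_zero [IsIntegral X] {N L : X.Modules} (hL : PicF.IsInvertible L)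
    (φ : N ⟶ L) {V : X.Opens} {e : Γ(N, V)} (he : IsTriv N V e) (hV : (V : Set X).Nonempty)
    (h0 : φ.app V e = 0) : φ = 0 := by
  apply Scheme.Modules.hom_ext
  intro W
  ext m
  change φ.app W m = 0
  by_cases hW : (W : Set X).Nonempty
  · have hne := inter_nonempty_of_isIntegral hW hV
    obtain ⟨r, hr⟩ := (he.restrict (inf_le_right : W ⊓ V ≤ V)).exists_eq_smul
      (Groth.Agent.Lib.Helper29.QCoh.res N (inf_le_left : W ⊓ V ≤ W) m)
    have h1 : Groth.Agent.Lib.Helper29.QCoh.res L (inf_le_left : W ⊓ V ≤ W) (φ.app W m) = 0 := by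
      rw [← app_res, hr, Scheme.Modules.Hom.app_smul, app_res, h0, map_zero, smul_zero]
    exact eq_zero_of_res_eq_zero_of_isIntegral hL inf_le_left hne _ h1
  · refine eq_zero_of_res_cover_eq_zero L (fun i : Empty => (⊥ : X.Opens)) (fun i => i.elim)
      ?_ _ (fun i => i.elim)
    intro x hx
    exact (hW ⟨x, hx⟩).elim

/-- a nonzero map of invertible modules on an integral scheme is a monomorphism -/
theorem mono_of_ne_zero [IsIntegral X] {N L : X.Modules} (hN : PicF.IsInvertible N)
    (hL : PicF.IsInvertible L) (φ : N ⟶ L) (hφ : φ ≠ 0) : Mono φ := by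
  rw [mono_iff_app_injective]
  intro W
  rw [injective_iff_map_eq_zero]
  intro m hm
  have hcov : ∀ x : W, ∃ (V : X.Opens) (e : Γ(N, V)) (e' : Γ(L, V)), (x : X) ∈ V ∧ V ≤ W ∧
      IsTriv N V e ∧ IsTriv L V e' := by
    intro x
    obtain ⟨V, e, e', -, hxV, hVW, he, he'⟩ := exists_affine_isTriv₂ hN hL (W := W) x x.2
    exact ⟨V, e, e', hxV, hVW, he, he'⟩
  choose V e e' hxV hVW he he' using hcov
  refine eq_zero_of_res_cover_eq_zero N V hVW ?_ m fun x => ?_
  · intro y hy
    exact Opens.mem_iSup.mpr ⟨⟨y, hy⟩, hxV ⟨y, hy⟩⟩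
  have hVne : ((V x : X.Opens) : Set X).Nonempty := ⟨x, hxV x⟩
  have hdom := isDomain_sections_of_isIntegral hVne
  obtain ⟨r, hr⟩ := (he x).exists_eq_smul (Groth.Agent.Lib.Helper29.QCoh.res N (hVW x) m)
  obtain ⟨b, hb⟩ := (he' x).exists_eq_smul (φ.app (V x) (e x))
  have hb0 : b ≠ 0 := by
    rintro rfl
    rw [zero_smul] at hb
    exact hφ (hom_eq_zero_of_app_eq_zero hL φ (he x) hVne hb)
  have h1 : φ.app (V x) (Groth.Agent.Lib.Helper29.QCoh.res N (hVW x) m) = 0 := by rw [app_res, hm, map_zero]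
  rw [hr, Scheme.Modules.Hom.app_smul, hb, smul_smul] at h1
  have h2 : r * b = 0 := (he' x).smul_left_cancel (by rw [h1, zero_smul])
  have hr0 : r = 0 := (mul_eq_zero.mp h2).resolve_right hb0
  rw [hr, hr0, zero_smul]

/-- where the coefficient of `φ` in local trivialisations is invertible, `φ` is surjective on
stalks -/
theorem stalkMap_surjective_of_mem_basicOpen {N L : X.Modules} (φ : N ⟶ L) {V : X.Opens}
    {e : Γ(N, V)} {e' : Γ(L, V)} (he' : IsTriv L V e') (b : Γ(X, V))
    (hb : φ.app V e = b • e') (y : X) (hyV : y ∈ V) (hy : y ∈ X.basicOpen b) :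
    Function.Surjective (stalkMap φ y) := by
  intro t
  obtain ⟨U, hyU, m, rfl⟩ := TopCat.Presheaf.exists_germ_eq L.presheaf t
  let W : X.Opens := (U ⊓ V) ⊓ X.basicOpen b
  have hyW : y ∈ W := ⟨⟨hyU, hyV⟩, hy⟩
  have hWU : W ≤ U := inf_le_left.trans inf_le_left
  have hWV : W ≤ V := inf_le_left.trans inf_le_right
  have hWb : W ≤ X.basicOpen b := inf_le_right
  obtain ⟨r, hr⟩ := (he'.restrict hWV).exists_eq_smul (Groth.Agent.Lib.Helper29.QCoh.res L hWU m)
  have hu : IsUnit (rres X hWV b) := (isUnit_rres_iff hWV b).mpr hWb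
  obtain ⟨c, hc⟩ := hu.exists_right_inv
  refine ⟨N.presheaf.germ W y hyW ((r * c) • Groth.Agent.Lib.Helper29.QCoh.res N hWV e), ?_⟩
  rw [stalkMap_germ, Scheme.Modules.Hom.app_smul, app_res, hb, res_smul, smul_smul]
  have h1 : r * c * (X.presheaf.map (homOfLE hWV).op b) = r := by
    have : (X.presheaf.map (homOfLE hWV).op b) = rres X hWV b := rfl
    rw [this, mul_assoc, mul_comm c, hc, mul_one]
  rw [h1, ← hr, germ_res]

/-- the cokernel of a nonzero map of invertible modules on an integral scheme vanishes at the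
generic point -/
theorem genericPoint_notMem_support_cokernel [IsIntegral X] {N L : X.Modules}
    (hN : PicF.IsInvertible N) (hL : PicF.IsInvertible L) (φ : N ⟶ L) (hφ : φ ≠ 0) :
    genericPoint X ∉ CohB1.support (cokernel φ) := by
  intro hmem
  apply hmem
  obtain ⟨V, e, e', -, hξV, -, he, he'⟩ :=
    exists_affine_isTriv₂ hN hL (W := ⊤) (genericPoint X) trivial
  have hVne : (V : Set X).Nonempty := ⟨_, hξV⟩
  obtain ⟨b, hb⟩ := he'.exists_eq_smul (φ.app V e)
  have hb0 : b ≠ 0 := by
    rintro rfl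
    rw [zero_smul] at hb
    exact hφ (hom_eq_zero_of_app_eq_zero hL φ he hVne hb)
  have hne : ((X.basicOpen b : X.Opens) : Set X).Nonempty := by
    rw [Set.nonempty_iff_ne_empty]
    intro h
    apply hb0
    have h2 : X.basicOpen b = ⊥ := by
      ext x
      simp only [Opens.coe_bot, Set.mem_empty_iff_false, iff_false]
      intro hx
      have : x ∈ ((X.basicOpen b : X.Opens) : Set X) := hx
      rw [h] at this
      exact this
    exact (AlgebraicGeometry.basicOpen_eq_bot_iff b).mp h2
  have hξb : genericPoint X ∈ X.basicOpen b :=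
    ((genericPoint_spec X).mem_open_set_iff (X.basicOpen b).isOpen).mpr
      (by simpa [Set.univ_inter] using hne)
  exact (stalkMap_surjective_iff_cokernel φ _).mp
    (stalkMap_surjective_of_mem_basicOpen φ he' b hb _ hξV hξb)

end Groth.Agent.Lib.Helper21.CDeg
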