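import Groth.Agent.Lib.Helper21.CondT1

/-!
# Condition (T): every point lies on an irreducible component which is equidimensional over
the base at the point
-/

set_option autoImplicit false
set_option linter.style.haveILetI false
set_option linter.unusedSectionVars false
universe u

open AlgebraicGeometry CategoryTheory Limits TopologicalSpace IsLocalRing

namespace Groth.Agent.Lib.Helper21.CondT

open Groth.Agent.Lib.Helper21.FibDim Groth.Agent.Lib.Helper21.EquiSub
  Groth.Agent.Lib.Helper21.FourCond Groth.Agent.Lib.Helper21.OpenAt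

variable {W X Y : Scheme.{u}}

/-- a scheme mapping homeomorphically onto an irreducible closed subset has a generic point -/
theorem exists_generic_of_range (ι : W ⟶ X) (hemb : Topology.IsEmbedding ι.base)
    (Wc : Set X) (hcl : IsClosed Wc) (hW : IsIrreducible Wc) (hr : Set.range ι.base = Wc) :
    ∃ ξ' : W, (∀ u : W, ξ' ⤳ u) ∧ closure ({ι ξ'} : Set X) = Wc := by
  obtain ⟨ξ, hξ⟩ := QuasiSober.sober hW hcl
  obtain ⟨ξ', hξ'⟩ : ξ ∈ Set.range ι.base := by
    rw [hr, ← hξ.def]
    exact subset_closure rfl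
  have h1 : ι ξ' = ξ := hξ'
  refine ⟨ξ', ?_, ?_⟩
  · intro u
    rw [← hemb.isInducing.specializes_iff, specializes_iff_mem_closure]
    have h2 : closure ({ι.base ξ'} : Set X) = Wc := by
      have : ι.base ξ' = ξ := hξ'
      rw [this, hξ.def]
    rw [h2, ← hr]
    exact ⟨u, rfl⟩
  · rw [h1, hξ.def]

/-- the range of the reduced closed subscheme on a closed subset -/
theorem range_subschemeι_vanishingIdeal (Wc : TopologicalSpace.Closeds X) :
    Set.range (Scheme.IdealSheafData.vanishingIdeal Wc).subschemeι.base = (Wc : Set X) := by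
  rw [Scheme.IdealSheafData.range_subschemeι, Scheme.IdealSheafData.coe_support_vanishingIdeal]

/-- **equidimensional at `x` ⟹ every irreducible component through `x` is equidimensional
over the base at `x`** -/
theorem isEquidimAt_component_of_isEquidimAt (f : X ⟶ Y) [LocallyOfFiniteType f] (x : X)
    (h : EGA43.IsEquidimAt f x) (ι : W ⟶ X) [IsClosedImmersion ι] (Wc : Set X)
    (hW : Wc ∈ irreducibleComponents (X : Type u)) (hr : Set.range ι.base = Wc)
    (w : W) (hw : ι.base w = x) :
    EGA43.IsEquidimAt (ι ≫ f) w := by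
  have hemb : Topology.IsEmbedding ι.base := ι.isEmbedding
  obtain ⟨ξ', hgen, hcl⟩ := exists_generic_of_range ι hemb Wc
    (isClosed_of_mem_irreducibleComponents Wc hW) hW.1 hr
  obtain ⟨e, U, hxU, hcomp, hfib⟩ := h
  have hfd := Groth.Agent.Lib.Helper21.EquidimAt.fibreDimAt_eq_of_forall_components f U e hfib
  have hξw : ι ξ' ⤳ x := by
    rw [← hw]
    exact (hgen w).map ι.continuous
  have hξU : ι ξ' ∈ U := hξw.mem_open U.2 hxU
  -- `ι ξ'` is a maximal point of `X`
  have hmax : ∀ τ : X, τ ⤳ ι ξ' → τ = ι ξ' := by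
    intro τ hτ
    have h1 : closure ({ι ξ'} : Set X) ⊆ closure {τ} := specializes_iff_closure_subset.mp hτ
    have h2 : Wc ≤ closure ({τ} : Set X) := by
      rw [← hcl]
      exact h1
    have h3 : closure ({τ} : Set X) ≤ Wc := hW.2 isIrreducible_singleton.closure h2
    have h4 : ι ξ' ⤳ τ := by
      rw [specializes_iff_mem_closure, hcl]
      exact h3 (subset_closure rfl)
    exact (h4.antisymm hτ).eq.symm
  obtain ⟨E, hE⟩ := exists_nat_trdeg_residueFieldMap f (ι ξ')
  have hEe : E = e := by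
    have h1 := fibreDimAt_eq_trdeg_of_maximal f (ι ξ') (fun τ hτ _ => hmax τ hτ) E hE
    rw [hfd (ι ξ') hξU] at h1
    exact_mod_cast h1.symm
  subst hEe
  have hE' : @Algebra.trdeg (Y.residueField ((ι ≫ f) ξ')) (W.residueField ξ') _ _
      ((ι ≫ f).residueFieldMap ξ').hom.toAlgebra = E :=
    Groth.Agent.Lib.Helper21.IrrFib.trdeg_comp_of_surjectiveOnStalks ι f ξ' E hE
  let O : W.Opens := ι ⁻¹ᵁ U
  have hwO : w ∈ O := by
    show ι.base w ∈ U
    rw [hw]
    exact hxU
  have hξO : ξ' ∈ O := hξU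
  refine isEquidimAt_of_forall_fibreDimAt (ι ≫ f) w O hwO ξ' hξO (fun u _ => hgen u) ?_ E ?_
  · -- the component condition
    obtain ⟨W₀, hW₀, -, hcl₀⟩ :=
      hcomp _ (closure_mem_irreducibleComponents_opens U (ι ξ') hξU hmax)
    have hcl' : closure ({f (ι ξ')} : Set Y) = W₀ := by
      rw [← hcl₀]
      apply Set.Subset.antisymm
      · apply closure_minimal _ isClosed_closure
        rw [Set.singleton_subset_iff]
        apply subset_closure
        exact ⟨⟨ι ξ', hξU⟩, subset_closure rfl, rfl⟩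
      · apply closure_minimal _ isClosed_closure
        rintro _ ⟨u, hu, rfl⟩
        rw [← specializes_iff_mem_closure]
        have h1 : (⟨ι ξ', hξU⟩ : U.toScheme) ⤳ u := specializes_iff_mem_closure.mpr hu
        exact h1.map (U.ι ≫ f).continuous
    have : (ι ≫ f) ξ' = f (ι ξ') := rfl
    rw [this, hcl']
    exact hW₀
  · intro u hu
    apply le_antisymm
    · have h1 := Groth.Agent.Lib.Helper21.OpenAt.fibreDimAt_comp_le ι f u
      rw [hfd (ι u) hu] at h1
      exact h1
    · exact le_fibreDimAt_of_specializes (ι ≫ f) (hgen u) E hE'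

/-- if an irreducible component is equidimensional over the base at a maximal generisation `ζ`
of `x` in the fibre, of maximal dimension, it is so at `x` -/
theorem isEquidimAt_of_maximal_generization (f : X ⟶ Y) [LocallyOfFiniteType f] (x ζ : X)
    (N : ℕ) (hζx : ζ ⤳ x) (hζmax : ∀ τ : X, τ ⤳ ζ → f τ = f ζ → τ = ζ)
    (hζN : @Algebra.trdeg (Y.residueField (f ζ)) (X.residueField ζ) _ _
        (f.residueFieldMap ζ).hom.toAlgebra = N) (hFN : FlatMor.fibreDimAt f x = N)
    (ι : W ⟶ X) [IsClosedImmersion ι] (Wc : Set X)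
    (hW : Wc ∈ irreducibleComponents (X : Type u)) (hr : Set.range ι.base = Wc)
    (w' : W) (hw' : ι.base w' = ζ) (heq : EGA43.IsEquidimAt (ι ≫ f) w')
    (w : W) (hw : ι.base w = x) :
    EGA43.IsEquidimAt (ι ≫ f) w := by
  have hemb : Topology.IsEmbedding ι.base := ι.isEmbedding
  obtain ⟨ξ', hgen, hcl⟩ := exists_generic_of_range ι hemb Wc
    (isClosed_of_mem_irreducibleComponents Wc hW) hW.1 hr
  obtain ⟨e, O', hw'O', hcomp, hfd'⟩ :=
    exists_of_isEquidimAt_of_generic (ι ≫ f) w' heq ξ' hgen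
  -- `w'` is maximal in its fibre
  have hw'max : ∀ τ : W, τ ⤳ w' → (ι ≫ f) τ = (ι ≫ f) w' → τ = w' := by
    intro τ hτ hfτ
    apply hemb.injective
    have h1 : ι.base τ ⤳ ζ := by
      rw [← hw']
      exact hτ.map ι.continuous
    have h2 : f (ι.base τ) = f ζ := by
      have : f (ι.base w') = f ζ := by rw [hw']
      rw [← this]
      exact hfτ
    rw [hw']
    exact hζmax _ h1 h2
  have hN' : @Algebra.trdeg (Y.residueField ((ι ≫ f) w')) (W.residueField w') _ _
      ((ι ≫ f).residueFieldMap w').hom.toAlgebra = N :=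
    Groth.Agent.Lib.Helper21.IrrFib.trdeg_comp_of_surjectiveOnStalks ι f w' N
      (trdeg_eq_of_eq f hw'.symm N hζN)
  have heN : e = N := by
    have h1 := fibreDimAt_eq_trdeg_of_maximal (ι ≫ f) w' hw'max N hN'
    rw [hfd' w' hw'O'] at h1
    exact_mod_cast h1
  subst heN
  -- the generic fibre dimension
  have hξ'O' : ξ' ∈ O' := (hgen w').mem_open O'.2 hw'O'
  obtain ⟨E, hE⟩ := exists_nat_trdeg_residueFieldMap (ι ≫ f) ξ'
  have hEe : E = e := by
    have hmax : ∀ τ : W, τ ⤳ ξ' → (ι ≫ f) τ = (ι ≫ f) ξ' → τ = ξ' :=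
      fun τ hτ _ => ((hgen τ).antisymm hτ).eq.symm
    have h1 := fibreDimAt_eq_trdeg_of_maximal (ι ≫ f) ξ' hmax E hE
    rw [hfd' ξ' hξ'O'] at h1
    exact_mod_cast h1.symm
  subst hEe
  let O : W.Opens :=
    ⟨{u | FlatMor.fibreDimAt (ι ≫ f) u ≤ (E : ℕ)}, isOpen_setOf_fibreDimAt_le (ι ≫ f) E⟩
  have hwO : w ∈ O := by
    show FlatMor.fibreDimAt (ι ≫ f) w ≤ (E : ℕ)
    have h1 := Groth.Agent.Lib.Helper21.OpenAt.fibreDimAt_comp_le ι f w
    have h2 : ι w = x := hw
    rw [h2, hFN] at h1
    exact h1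
  have hξO : ξ' ∈ O := (hgen w).mem_open O.2 hwO
  refine isEquidimAt_of_forall_fibreDimAt (ι ≫ f) w O hwO ξ' hξO (fun u _ => hgen u) hcomp E ?_
  intro u hu
  exact le_antisymm hu (le_fibreDimAt_of_specializes (ι ≫ f) (hgen u) E hE)

/-- **(iv) ⟹ (iii)**: if every point maximal in its fibre lies on an irreducible component
equidimensional over the base at the point, so does every point -/
theorem conditionT_of_maximal_points (f : X ⟶ Y) [LocallyOfFiniteType f]
    (h : ∀ x : X, (∀ x' : X, f.base x' = f.base x → x ∈ closure ({x'} : Set X) → x' = x) →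
      ∃ W : TopologicalSpace.Closeds X, (W : Set X) ∈ irreducibleComponents (X : Type u) ∧
      ∃ w : ↥((Scheme.IdealSheafData.vanishingIdeal W).subscheme),
        (Scheme.IdealSheafData.vanishingIdeal W).subschemeι.base w = x ∧
        EGA43.IsEquidimAt ((Scheme.IdealSheafData.vanishingIdeal W).subschemeι ≫ f) w)
    (x : X) :
    ∃ W : TopologicalSpace.Closeds X, (W : Set X) ∈ irreducibleComponents (X : Type u) ∧
      ∃ w : ↥((Scheme.IdealSheafData.vanishingIdeal W).subscheme),
        (Scheme.IdealSheafData.vanishingIdeal W).subschemeι.base w = x ∧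
        EGA43.IsEquidimAt ((Scheme.IdealSheafData.vanishingIdeal W).subschemeι ≫ f) w := by
  obtain ⟨ζ, N, hζx, hfζ, hζmax, hζN, hFN⟩ := exists_maximal_generization_fibreDimAt f x
  obtain ⟨Wc, hW, w', hw', heq⟩ := h ζ (by
    intro x' hfx' hcl
    exact hζmax x' (specializes_iff_mem_closure.mpr hcl) hfx')
  refine ⟨Wc, hW, ?_⟩
  have hr := range_subschemeι_vanishingIdeal Wc
  have hζW : ζ ∈ (Wc : Set X) := by
    rw [← hr]
    exact ⟨w', hw'⟩
  have hxW : x ∈ (Wc : Set X) := by
    have h1 : x ∈ closure ({ζ} : Set X) := specializes_iff_mem_closure.mp hζx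
    exact (closure_minimal (Set.singleton_subset_iff.mpr hζW) Wc.2) h1
  obtain ⟨w, hw⟩ : x ∈ Set.range (Scheme.IdealSheafData.vanishingIdeal Wc).subschemeι.base := by
    rw [hr]; exact hxW
  exact ⟨w, hw, isEquidimAt_of_maximal_generization f x ζ N hζx hζmax hζN hFN
    (Scheme.IdealSheafData.vanishingIdeal Wc).subschemeι (Wc : Set X) hW hr w' hw' heq w hw⟩

/-- **(i) ⟹ (iii)**: equidimensional at every point ⟹ condition (T) -/
theorem conditionT_of_forall_isEquidimAt (f : X ⟶ Y) [LocallyOfFiniteType f]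
    (h : ∀ x : X, EGA43.IsEquidimAt f x) (x : X) :
    ∃ W : TopologicalSpace.Closeds X, (W : Set X) ∈ irreducibleComponents (X : Type u) ∧
      ∃ w : ↥((Scheme.IdealSheafData.vanishingIdeal W).subscheme),
        (Scheme.IdealSheafData.vanishingIdeal W).subschemeι.base w = x ∧
        EGA43.IsEquidimAt ((Scheme.IdealSheafData.vanishingIdeal W).subschemeι ≫ f) w := by
  let Wc : TopologicalSpace.Closeds X := ⟨irreducibleComponent x, isClosed_irreducibleComponent⟩
  have hW : (Wc : Set X) ∈ irreducibleComponents (X : Type u) :=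
    irreducibleComponent_mem_irreducibleComponents x
  have hr := range_subschemeι_vanishingIdeal Wc
  obtain ⟨w, hw⟩ : x ∈ Set.range (Scheme.IdealSheafData.vanishingIdeal Wc).subschemeι.base := by
    rw [hr]; exact mem_irreducibleComponent
  exact ⟨Wc, hW, w, hw, isEquidimAt_component_of_isEquidimAt f x (h x)
    (Scheme.IdealSheafData.vanishingIdeal Wc).subschemeι (Wc : Set X) hW hr w hw⟩

end Groth.Agent.Lib.Helper21.CondT
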