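import Groth.Agent.Lib.Helper6.PUO7
import Groth.Agent.Lib.Helper21.CondT2
import Groth.Agent.Lib.Helper16.ReducedSub

/-!
# Equidimensional morphisms over a geometrically unibranch point (EGA IV 14.4.4)
-/

set_option autoImplicit false
set_option linter.style.haveILetI false
set_option linter.unusedSectionVars false
universe u

open AlgebraicGeometry CategoryTheory Limits TopologicalSpace IsLocalRing

namespace Groth.Agent.Lib.Helper21.EquiGU

open Groth.Agent.Lib.Helper21.FibDim Groth.Agent.Lib.Helper21.EquiSub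
  Groth.Agent.Lib.Helper21.FourCond Groth.Agent.Lib.Helper21.OpenAt
  Groth.Agent.Lib.Helper21.CondT

variable {W X Y : Scheme.{u}}

/-- equidimensionality at `x` passes to generisations of `x` in the same fibre -/
theorem isEquidimAt_of_specializes (f : X ⟶ Y) (x z : X) (h : EGA43.IsEquidimAt f x)
    (hzx : z ⤳ x) (hfz : f.base z = f.base x) : EGA43.IsEquidimAt f z := by
  obtain ⟨e, U, hxU, hcomp, hfib⟩ := h
  refine ⟨e, U, hzx.mem_open U.2 hxU, fun Z hZ => ?_, hfib⟩
  obtain ⟨W, hW, hxW, hcl⟩ := hcomp Z hZ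
  exact ⟨W, hW, hfz ▸ hxW, hcl⟩

/-- the reduced closed subscheme on an irreducible closed subset is integral -/
theorem isIntegral_subscheme_vanishingIdeal (Wc : TopologicalSpace.Closeds X)
    (hirr : IsIrreducible (Wc : Set X)) :
    IsIntegral (Scheme.IdealSheafData.vanishingIdeal Wc).subscheme := by
  haveI := Groth.Agent.Lib.Helper16.isReduced_subscheme_vanishingIdeal Wc
  haveI : IrreducibleSpace ↥(Scheme.IdealSheafData.vanishingIdeal Wc).subscheme := by
    have hemb : Topology.IsEmbedding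
        (Scheme.IdealSheafData.vanishingIdeal Wc).subschemeι.base :=
      (Scheme.IdealSheafData.vanishingIdeal Wc).subschemeι.isEmbedding
    have hr := range_subschemeι_vanishingIdeal Wc
    have h1 : IsIrreducible (Set.univ :
        Set ↥(Scheme.IdealSheafData.vanishingIdeal Wc).subscheme) := by
      apply isIrreducible_of_image_of_isInducing hemb.isInducing
      rw [Set.image_univ, hr]
      exact hirr
    exact (irreducibleSpace_def _).mpr h1
  exact isIntegral_of_irreducibleSpace_of_isReduced _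

/-- the local ring of an integral closed subscheme which is an irreducible component is the
quotient of the local ring of the ambient scheme by the corresponding minimal prime -/
theorem ringKrullDim_stalk_eq_quotient_of_closedImmersion (ι : W ⟶ X) [IsClosedImmersion ι]
    [IsIntegral W] (w : W) (𝔭 : Ideal (X.presheaf.stalk (ι w))) [h𝔭 : 𝔭.IsPrime]
    (hmin : 𝔭 ∈ minimalPrimes (X.presheaf.stalk (ι w)))
    (hr : Set.range ι.base = closure {X.fromSpecStalk (ι w) ⟨𝔭, h𝔭⟩}) :
    ringKrullDim (W.presheaf.stalk w) = ringKrullDim (X.presheaf.stalk (ι w) ⧸ 𝔭) := by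
  have hsurj : Function.Surjective (ι.stalkMap w).hom := ι.stalkMap_surjective w
  have hemb : Topology.IsEmbedding ι.base := ι.isEmbedding
  set ξ := X.fromSpecStalk (ι w) ⟨𝔭, h𝔭⟩ with hξ
  have hξx : ξ ⤳ ι w := by
    have : ξ ∈ Set.range (X.fromSpecStalk (ι w)) := ⟨_, rfl⟩
    rw [Scheme.range_fromSpecStalk] at this
    exact this
  obtain ⟨ξ', hξ'⟩ : ξ ∈ Set.range ι.base := by
    rw [hr]; exact subset_closure rfl
  have hξ'w : ξ' ⤳ w := by
    rw [← hemb.isInducing.specializes_iff]
    have : ι.base ξ' = ξ := hξ'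
    rw [this]
    exact hξx
  obtain ⟨P', hP'⟩ : ξ' ∈ Set.range (W.fromSpecStalk w) := by
    rw [Scheme.range_fromSpecStalk]
    exact hξ'w
  have h1 := map_fromSpecStalk ι w P'
  rw [hP'] at h1
  have h2 : X.fromSpecStalk (ι w) (Spec.map (ι.stalkMap w) P') =
      X.fromSpecStalk (ι w) ⟨𝔭, h𝔭⟩ := h1.trans hξ'
  have h3 : Spec.map (ι.stalkMap w) P' = ⟨𝔭, h𝔭⟩ :=
    (X.fromSpecStalk (ι w)).isEmbedding.injective h2
  have hker : RingHom.ker (ι.stalkMap w).hom ≤ 𝔭 := by
    have h4 : (Spec.map (ι.stalkMap w) P').asIdeal = 𝔭 := by rw [h3]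
    rw [← h4]
    intro a ha
    change (ι.stalkMap w).hom a ∈ P'.asIdeal
    rw [RingHom.mem_ker.mp ha]
    exact zero_mem _
  haveI hdom : IsDomain (W.presheaf.stalk w) := inferInstance
  haveI hkp : (RingHom.ker (ι.stalkMap w).hom).IsPrime := RingHom.ker_isPrime _
  have hkeq : RingHom.ker (ι.stalkMap w).hom = 𝔭 :=
    le_antisymm hker (hmin.2 ⟨hkp, bot_le⟩ hker)
  rw [← ringKrullDim_eq_of_ringEquiv (RingHom.quotientKerEquivOfSurjective hsurj)]
  exact ringKrullDim_eq_of_ringEquiv (Ideal.quotEquivOfEq hkeq)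

/-- **pointwise Chevalley criterion, general source** -/
theorem isUnivOpenAt_of_isEquidimAt [IsLocallyNoetherian Y] (f : X ⟶ Y) [LocallyOfFiniteType f]
    (x : X) (h : EGA43.IsEquidimAt f x)
    (hy : CAlg2.IsGeomUnibranch (Y.presheaf.stalk (f.base x))) : EGA43.IsUnivOpenAt f x := by
  let Wc : TopologicalSpace.Closeds X := ⟨irreducibleComponent x, isClosed_irreducibleComponent⟩
  have hW : (Wc : Set X) ∈ irreducibleComponents (X : Type u) :=
    irreducibleComponent_mem_irreducibleComponents x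
  have hr := range_subschemeι_vanishingIdeal Wc
  obtain ⟨w, hw⟩ : x ∈ Set.range (Scheme.IdealSheafData.vanishingIdeal Wc).subschemeι.base := by
    rw [hr]; exact mem_irreducibleComponent
  have heq := isEquidimAt_component_of_isEquidimAt f x h
    (Scheme.IdealSheafData.vanishingIdeal Wc).subschemeι (Wc : Set X) hW hr w hw
  haveI := isIntegral_subscheme_vanishingIdeal Wc hW.1
  have hy' : CAlg2.IsGeomUnibranch (Y.presheaf.stalk
      (((Scheme.IdealSheafData.vanishingIdeal Wc).subschemeι ≫ f).base w)) := by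
    have : ((Scheme.IdealSheafData.vanishingIdeal Wc).subschemeι ≫ f).base w = f.base x := by
      rw [← hw]; rfl
    rw [this]
    exact hy
  have h1 := Groth.Agent.Lib.Helper6.PUO.isUnivOpenAt_of_isEquidimAt_of_irreducible
    ((Scheme.IdealSheafData.vanishingIdeal Wc).subschemeι ≫ f) w heq hy'
  have h2 := Groth.Agent.Lib.Helper6.QFac.isUnivOpenAt_of_comp _ f w h1
  rw [← hw]
  exact h2

/-- the local fibre dimension of a component through a point of equidimensionality -/
theorem fibreDimAt_component_of_isEquidimAt (f : X ⟶ Y) [LocallyOfFiniteType f] (x : X)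
    (h : EGA43.IsEquidimAt f x) (ι : W ⟶ X) [IsClosedImmersion ι] (Wc : Set X)
    (hW : Wc ∈ irreducibleComponents (X : Type u)) (hr : Set.range ι.base = Wc)
    (w : W) (hw : ι.base w = x) :
    FlatMor.fibreDimAt (ι ≫ f) w = FlatMor.fibreDimAt f x := by
  have hemb : Topology.IsEmbedding ι.base := ι.isEmbedding
  obtain ⟨ξ', hgen, hcl⟩ := exists_generic_of_range ι hemb Wc
    (isClosed_of_mem_irreducibleComponents Wc hW) hW.1 hr
  obtain ⟨e, U, hxU, hcomp, hfib⟩ := h
  have hfd := Groth.Agent.Lib.Helper21.EquidimAt.fibreDimAt_eq_of_forall_components f U e hfib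
  have hξw : ι ξ' ⤳ x := by
    rw [← hw]
    exact (hgen w).map ι.continuous
  have hξU : ι ξ' ∈ U := hξw.mem_open U.2 hxU
  have hmax : ∀ τ : X, τ ⤳ ι ξ' → τ = ι ξ' := by
    intro τ hτ
    have h1 : closure ({ι ξ'} : Set X) ⊆ closure {τ} := specializes_iff_closure_subset.mp hτ
    have h2 : Wc ≤ closure ({τ} : Set X) := by
      rw [← hcl]
      exact h1
    have h3 : closure ({τ} : Set X) ≤ Wc := hW.2 isIrreducible_singleton.closure h2
    have h4 : ι ξ' ⤳ τ := by
      rw [specializes_iff_mem_closure, hcl]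
      exact h3 (subset_closure rfl)
    exact (h4.antisymm hτ).eq.symm
  obtain ⟨E, hE⟩ := exists_nat_trdeg_residueFieldMap f (ι ξ')
  have hEe : E = e := by
    have h1 := fibreDimAt_eq_trdeg_of_maximal f (ι ξ') (fun τ hτ _ => hmax τ hτ) E hE
    rw [hfd (ι ξ') hξU] at h1
    exact_mod_cast h1.symm
  subst hEe
  have hE' : @Algebra.trdeg (Y.residueField ((ι ≫ f) ξ')) (W.residueField ξ') _ _
      ((ι ≫ f).residueFieldMap ξ').hom.toAlgebra = E :=
    Groth.Agent.Lib.Helper21.IrrFib.trdeg_comp_of_surjectiveOnStalks ι f ξ' E hE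
  rw [hfd x hxU]
  apply le_antisymm
  · have h1 := Groth.Agent.Lib.Helper21.OpenAt.fibreDimAt_comp_le ι f w
    have h2 : ι w = x := hw
    rw [h2, hfd x hxU] at h1
    exact h1
  · exact le_fibreDimAt_of_specializes (ι ≫ f) (hgen w) E hE'

/-- openness at the points of the fibre generising `w`, irreducible source -/
theorem isUnivOpenAt_fibre_of_irreducible [IrreducibleSpace W] [IsLocallyNoetherian Y]
    (g : W ⟶ Y) [LocallyOfFiniteType g] (w : W) (h : EGA43.IsEquidimAt g w)
    (hy : CAlg2.IsGeomUnibranch (Y.presheaf.stalk (g.base w)))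
    (z : ↥(g.fiber (g.base w))) (hz : g.asFiber w ∈ closure {z}) :
    EGA43.IsUnivOpenAt g ((g.fiberι (g.base w)).base z) := by
  have hzw : (g.fiberι (g.base w)).base z ⤳ w := by
    have h1 : z ⤳ g.asFiber w := specializes_iff_mem_closure.mpr hz
    have h2 := h1.map (g.fiberι (g.base w)).continuous
    have h3 : (g.fiberι (g.base w)) (g.asFiber w) = w := Scheme.Hom.fiberι_asFiber g w
    rw [h3] at h2
    exact h2
  have hgz : g.base ((g.fiberι (g.base w)).base z) = g.base w := by
    have : (g.fiberι (g.base w)).base z ∈ Set.range (g.fiberι (g.base w)) := ⟨z, rfl⟩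
    rw [Scheme.Hom.range_fiberι] at this
    exact this
  have heq := isEquidimAt_of_specializes g w _ h hzw hgz
  refine Groth.Agent.Lib.Helper6.PUO.isUnivOpenAt_of_isEquidimAt_of_irreducible g _ heq ?_
  rw [hgz]
  exact hy

/-- the dimension formula at a point of equidimensionality over a geometrically unibranch point:
core form on a component -/
theorem ringKrullDim_quotient_formula_core [IsLocallyNoetherian Y] (ι : W ⟶ X)
    [IsClosedImmersion ι] [IsIntegral W] (f : X ⟶ Y) [LocallyOfFiniteType f] (x : X) (w : W)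
    (hw : ι.base w = x) (h : EGA43.IsEquidimAt f x)
    (hy : CAlg2.IsGeomUnibranch (Y.presheaf.stalk (f.base x)))
    (𝔭 : Ideal (X.presheaf.stalk x)) [h𝔭 : 𝔭.IsPrime]
    (hmin : 𝔭 ∈ minimalPrimes (X.presheaf.stalk x))
    (hr : Set.range ι.base = closure {X.fromSpecStalk x ⟨𝔭, h𝔭⟩})
    (a e c : ℕ)
    (ha : @Algebra.trdeg (Y.residueField (f x)) (X.residueField x) _ _
      (f.residueFieldMap x).hom.toAlgebra = a)
    (he : FlatMor.fibreDimAt f x = e)
    (hc : ringKrullDim (Y.presheaf.stalk (f.base x)) = c) :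
    ringKrullDim (X.presheaf.stalk x ⧸ 𝔭) + (a : WithBot ℕ∞) = (c : WithBot ℕ∞) + e := by
  subst hw
  have hξmax := Groth.Agent.Lib.Helper21.EquidimAt.eq_of_specializes_fromSpecStalk_of_minimal
    (ι.base w) 𝔭 hmin
  have hW : closure {X.fromSpecStalk (ι.base w) ⟨𝔭, h𝔭⟩} ∈ irreducibleComponents (X : Type u) :=
    Groth.Agent.Lib.Helper21.FibDim.closure_mem_irreducibleComponents_of_maximal _ hξmax
  haveI : LocallyOfFiniteType (ι ≫ f) := inferInstance
  haveI : IsLocallyNoetherian W := LocallyOfFiniteType.isLocallyNoetherian (ι ≫ f)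
  have heq := isEquidimAt_component_of_isEquidimAt f (ι.base w) h ι _ hW hr w rfl
  have hFd := fibreDimAt_component_of_isEquidimAt f (ι.base w) h ι _ hW hr w rfl
  obtain ⟨n, k, hn, hk, hF⟩ := exists_fibreDimAt_eq_add (ι ≫ f) w
  have hna : n = a := by
    have h1 := Groth.Agent.Lib.Helper21.IrrFib.trdeg_comp_of_surjectiveOnStalks ι f w a ha
    rw [hn] at h1
    exact_mod_cast h1
  subst hna
  have hy' : CAlg2.IsGeomUnibranch (Y.presheaf.stalk ((ι ≫ f).base w)) := hy
  have hform := ringKrullDim_stalk_eq_of_isOpenAt (ι ≫ f) w (fun z hz _ =>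
    Groth.Agent.Lib.Helper6.PUO.isOpenAt_of_isUnivOpenAt (ι ≫ f) _
      (isUnivOpenAt_fibre_of_irreducible (ι ≫ f) w heq hy' z hz))
  have hdimW := ringKrullDim_stalk_eq_quotient_of_closedImmersion ι w 𝔭 hmin hr
  rw [← hdimW, hform, hk]
  have hc' : ringKrullDim (Y.presheaf.stalk ((ι ≫ f).base w)) = c := hc
  rw [hc']
  rw [hFd, he] at hF
  have h1 : e = n + k := by exact_mod_cast hF
  rw [h1]
  push_cast
  ring

/-- **equidimensional over a geometrically unibranch point ⟹ equidimensional local ring** -/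
theorem isEquidim_stalk_of_isEquidimAt_of_geomUnibranch [IsLocallyNoetherian Y] (f : X ⟶ Y)
    [LocallyOfFiniteType f] (x : X) (h : EGA43.IsEquidimAt f x)
    (hy : CAlg2.IsGeomUnibranch (Y.presheaf.stalk (f.base x))) :
    EGA4.IsEquidim (X.presheaf.stalk x) := by
  haveI : IsLocallyNoetherian X := LocallyOfFiniteType.isLocallyNoetherian f
  obtain ⟨a, ha⟩ := exists_nat_trdeg_residueFieldMap f x
  obtain ⟨c, hc⟩ := Groth.Agent.Lib.Helper18.SerreReg.exists_ringKrullDim_eq_nat
    (Y.presheaf.stalk (f.base x))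
  obtain ⟨e, he⟩ : ∃ e : ℕ, FlatMor.fibreDimAt f x = e := by
    obtain ⟨e, U, hxU, -, hfib⟩ := h
    exact ⟨e, Groth.Agent.Lib.Helper21.EquidimAt.fibreDimAt_eq_of_forall_components f U e hfib
      x hxU⟩
  have hall : ∀ 𝔭 ∈ minimalPrimes (X.presheaf.stalk x),
      ringKrullDim (X.presheaf.stalk x ⧸ 𝔭) + (a : WithBot ℕ∞) = (c : WithBot ℕ∞) + e := by
    intro 𝔭 hmin
    haveI h𝔭 : 𝔭.IsPrime := hmin.1.1
    let Wc : TopologicalSpace.Closeds X :=
      ⟨closure {X.fromSpecStalk x ⟨𝔭, h𝔭⟩}, isClosed_closure⟩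
    have hr := range_subschemeι_vanishingIdeal Wc
    have hξx : X.fromSpecStalk x ⟨𝔭, h𝔭⟩ ⤳ x := by
      have : X.fromSpecStalk x ⟨𝔭, h𝔭⟩ ∈ Set.range (X.fromSpecStalk x) := ⟨_, rfl⟩
      rw [Scheme.range_fromSpecStalk] at this
      exact this
    obtain ⟨w, hw⟩ : x ∈ Set.range
        (Scheme.IdealSheafData.vanishingIdeal Wc).subschemeι.base := by
      rw [hr]; exact hξx.mem_closure
    haveI := isIntegral_subscheme_vanishingIdeal Wc isIrreducible_singleton.closure
    exact ringKrullDim_quotient_formula_core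
      (Scheme.IdealSheafData.vanishingIdeal Wc).subschemeι f x w hw h hy 𝔭 hmin hr a e c ha he hc
  obtain ⟨𝔭₀, hmin₀, h𝔭₀⟩ :=
    Groth.Agent.Lib.Helper21.EquidimAt.exists_minimalPrimes_ringKrullDim_quotient_eq
      (X.presheaf.stalk x)
  intro 𝔭 hmin
  have h0 := hall 𝔭₀ hmin₀
  have h1 := hall 𝔭 hmin
  rw [← h0, h𝔭₀] at h1
  apply le_antisymm
  · exact le_of_add_nat_le_add_nat _ _ a h1.le
  · exact le_of_add_nat_le_add_nat _ _ a h1.ge

/-- the Krull dimension does not change modulo a nil ideal (after helper7) -/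
theorem ringKrullDim_quotient_of_le_nilradical {A : Type*} [CommRing A] (N : Ideal A)
    (hN : N ≤ nilradical A) : ringKrullDim (A ⧸ N) = ringKrullDim A := by
  apply le_antisymm (ringKrullDim_quotient_le N)
  have hker : ∀ P : PrimeSpectrum A, RingHom.ker (Ideal.Quotient.mk N) ≤ P.asIdeal := by
    intro P
    rw [Ideal.mk_ker]
    exact hN.trans (nilradical_le_prime P.asIdeal)
  have hcm : ∀ P : PrimeSpectrum A,
      (P.asIdeal.map (Ideal.Quotient.mk N)).comap (Ideal.Quotient.mk N) = P.asIdeal := by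
    intro P
    rw [Ideal.comap_map_of_surjective _ Ideal.Quotient.mk_surjective, ← RingHom.ker_eq_comap_bot]
    exact sup_eq_left.2 (hker P)
  let f : PrimeSpectrum A → PrimeSpectrum (A ⧸ N) := fun P =>
    ⟨P.asIdeal.map (Ideal.Quotient.mk N),
      Ideal.map_isPrime_of_surjective Ideal.Quotient.mk_surjective (hker P)⟩
  refine Order.krullDim_le_of_strictMono f ?_
  intro P Q hPQ
  have hPQ' : P.asIdeal < Q.asIdeal := (PrimeSpectrum.asIdeal_lt_asIdeal P Q).mpr hPQ
  rw [← PrimeSpectrum.asIdeal_lt_asIdeal]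
  refine lt_of_le_of_ne (Ideal.map_mono hPQ'.le) ?_
  intro heq
  have h1 : P.asIdeal = Q.asIdeal := by
    rw [← hcm P, ← hcm Q]
    exact congrArg (Ideal.comap (Ideal.Quotient.mk N)) heq
  exact hPQ'.ne h1

/-- a ring with prime nilradical is equidimensional -/
theorem isEquidim_of_nilradical_isPrime (R : Type u) [CommRing R] (h : (nilradical R).IsPrime) :
    EGA4.IsEquidim R := by
  intro p hp
  haveI hpp : p.IsPrime := hp.1.1
  have h1 : nilradical R ≤ p := nilradical_le_prime p
  have h2 : p ≤ nilradical R := hp.2 ⟨h, bot_le⟩ h1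
  have h3 : p = nilradical R := le_antisymm h2 h1
  rw [h3]
  exact ringKrullDim_quotient_of_le_nilradical _ le_rfl

end Groth.Agent.Lib.Helper21.EquiGU
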