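import Groth.Agent.Lib.Helper21.EquiSub9
import Groth.Agent.Lib.Helper16.ReducedSub
import Groth.Agent.Lib.Helper14.LqfDim0

/-!
# Quasi-sections of equidimensional morphisms (EGA IV 14.5-style)
-/

set_option autoImplicit false
set_option linter.style.haveILetI false
set_option linter.unusedSectionVars false
universe u

open AlgebraicGeometry CategoryTheory Limits TopologicalSpace IsLocalRing

namespace Groth.Agent.Lib.Helper21.EquiSub

open Groth.Agent.Lib.Helper21.FibDim

variable {X Y : Scheme.{u}}

/-- variant of `localDim_inter_preimage_eq_fibreDimAt` with a free point -/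
theorem localDim_inter_preimage_eq_fibreDimAt' {W : Scheme.{u}} (ι : W ⟶ X)
    (hι : Topology.IsEmbedding ι.base)
    (f : X ⟶ Y) (X' : Set X) (hr : Set.range ι.base = X') (w : W) (x : X) (hw : ι.base w = x)
    (hx : x ∈ X') :
    FlatMor.localDim ↥(X' ∩ f.base ⁻¹' {f.base x}) ⟨x, ⟨hx, rfl⟩⟩ =
      FlatMor.fibreDimAt (ι ≫ f) w := by
  subst hw
  exact localDim_inter_preimage_eq_fibreDimAt ι hι f X' hr w hx

/-- transport of residue transcendence degrees along an equality of points -/
theorem trdeg_eq_of_eq (f : X ⟶ Y) {x₁ x₂ : X} (h : x₁ = x₂) (n : ℕ)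
    (hn : @Algebra.trdeg (Y.residueField (f x₁)) (X.residueField x₁) _ _
      (f.residueFieldMap x₁).hom.toAlgebra = n) :
    @Algebra.trdeg (Y.residueField (f x₂)) (X.residueField x₂) _ _
      (f.residueFieldMap x₂).hom.toAlgebra = n := by
  subst h
  exact hn

/-- **quasi-sections of equidimensional morphisms** -/
theorem exists_quasiSection [IrreducibleSpace Y] [IsLocallyNoetherian Y] (f : X ⟶ Y)
    [LocallyOfFiniteType f] (x : X) (hf : EGA43.IsEquidimAt f x)
    (hcl : ∀ x' : X, f.base x' = f.base x → x ⤳ x' → x' = x) :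
    ∃ (T : Scheme.{u}) (i : T ⟶ X), IsImmersion i ∧ IrreducibleSpace ↥T ∧ IsReduced T ∧
      x ∈ Set.range i.base ∧ LocallyOfFiniteType (i ≫ f) ∧ LocallyQuasiFinite (i ≫ f) ∧
      QuasiCompact (i ≫ f) ∧ IsDominant (i ≫ f) := by
  haveI : IsLocallyNoetherian X := LocallyOfFiniteType.isLocallyNoetherian f
  -- numerical data at `x`
  obtain ⟨a, b, ha, hb, hab⟩ := exists_fibreDimAt_eq_add f x
  have ha0 : a = 0 := by
    have := trdeg_eq_zero_of_closed_in_fibre f x hcl
    rw [ha] at this
    exact_mod_cast this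
  subst ha0
  rw [zero_add] at hab
  -- the prime
  have hJ : (maximalIdeal (Y.presheaf.stalk (f x))).map (f.stalkMap x).hom ≤
      maximalIdeal (X.presheaf.stalk x) := IsLocalRing.map_maximalIdeal_le (f.stalkMap x).hom
  obtain ⟨𝔭, h𝔭, hht, hprim⟩ := exists_prime_height_le_of_quotient_dim (X.presheaf.stalk x)
    ((maximalIdeal (Y.presheaf.stalk (f x))).map (f.stalkMap x).hom) hJ b
    ((ringKrullDim_quotient_map_maximalIdeal f x).trans hb)
  let P : Spec (X.presheaf.stalk x) := ⟨𝔭, h𝔭⟩
  set x'' := X.fromSpecStalk x P with hx''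
  have hx''x : x'' ⤳ x := by
    have : x'' ∈ Set.range (X.fromSpecStalk x) := ⟨_, rfl⟩
    rw [Scheme.range_fromSpecStalk] at this
    exact this
  let T'' : TopologicalSpace.Closeds X := ⟨closure {x''}, isClosed_closure⟩
  have hxT : x ∈ T'' := specializes_iff_mem_closure.mp hx''x
  have hcodim : ringKrullDim (X.presheaf.stalk x'') ≤ b := by
    rw [ringKrullDim_stalk_fromSpecStalk]
    exact_mod_cast hht
  have hr : Set.range (Scheme.IdealSheafData.vanishingIdeal T'').subschemeι.base =
      (T'' : Set X) := by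
    rw [Scheme.IdealSheafData.range_subschemeι, Scheme.IdealSheafData.coe_support_vanishingIdeal]
  have hemb : Topology.IsEmbedding (Scheme.IdealSheafData.vanishingIdeal T'').subschemeι.base :=
    (Scheme.IdealSheafData.vanishingIdeal T'').subschemeι.isEmbedding
  obtain ⟨w, hw⟩ : ∃ w, (Scheme.IdealSheafData.vanishingIdeal T'').subschemeι.base w = x := by
    have : x ∈ Set.range (Scheme.IdealSheafData.vanishingIdeal T'').subschemeι.base := by
      rw [hr]; exact hxT
    exact this
  obtain ⟨ξ, hξ⟩ : ∃ ξ, (Scheme.IdealSheafData.vanishingIdeal T'').subschemeι.base ξ = x'' := by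
    have : x'' ∈ Set.range (Scheme.IdealSheafData.vanishingIdeal T'').subschemeι.base := by
      rw [hr]; exact subset_closure rfl
    exact this
  -- the fibre of the closed subset through `x` is `{x}` near `x`
  have hfib0 : FlatMor.fibreDimAt ((Scheme.IdealSheafData.vanishingIdeal T'').subschemeι ≫ f) w =
      0 := by
    obtain ⟨N, hN, ⟨τ', hτ'w, hfτ', hτ'N⟩, -⟩ := exists_fibreDimAt_eq_trdeg
      ((Scheme.IdealSheafData.vanishingIdeal T'').subschemeι ≫ f) w
    have hτx : (Scheme.IdealSheafData.vanishingIdeal T'').subschemeι.base τ' ⤳ x := by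
      rw [← hw]
      exact hτ'w.map (Scheme.IdealSheafData.vanishingIdeal T'').subschemeι.continuous
    have hτT : (Scheme.IdealSheafData.vanishingIdeal T'').subschemeι.base τ' ∈ (T'' : Set X) := by
      rw [← hr]; exact ⟨τ', rfl⟩
    have hfτ : f ((Scheme.IdealSheafData.vanishingIdeal T'').subschemeι.base τ') = f x := by
      have : f ((Scheme.IdealSheafData.vanishingIdeal T'').subschemeι.base τ') =
          f ((Scheme.IdealSheafData.vanishingIdeal T'').subschemeι.base w) := hfτ'
      rw [this, hw]
    obtain ⟨Q, hQ⟩ : (Scheme.IdealSheafData.vanishingIdeal T'').subschemeι.base τ' ∈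
        Set.range (X.fromSpecStalk x) := by
      rw [Scheme.range_fromSpecStalk]
      exact hτx
    have hPQ : P ⤳ Q := by
      rw [← (X.fromSpecStalk x).isEmbedding.isInducing.specializes_iff, hQ]
      exact specializes_iff_mem_closure.mpr hτT
    have h1 : 𝔭 ≤ Q.asIdeal := (PrimeSpectrum.le_iff_specializes P Q).mpr hPQ
    have h2 := map_maximalIdeal_le_of_map_eq f x Q (by rw [hQ]; exact hfτ)
    have h3 := hprim Q.asIdeal Q.2 h1 h2
    have h4 : Q = closedPoint (X.presheaf.stalk x) := PrimeSpectrum.ext h3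
    have h5 : (Scheme.IdealSheafData.vanishingIdeal T'').subschemeι.base τ' = x := by
      rw [← hQ, h4, Scheme.fromSpecStalk_closedPoint]
    have h6 : τ' = w := hemb.injective (h5.trans hw.symm)
    subst h6
    have h7 := trdeg_of_comp_of_surjectiveOnStalks
      (Scheme.IdealSheafData.vanishingIdeal T'').subschemeι f τ' N hτ'N
    have h8 := trdeg_eq_of_eq f hw N h7
    rw [ha] at h8
    have : N = 0 := by exact_mod_cast h8.symm
    rw [hN, this]
    rfl
  have hbridge := localDim_inter_preimage_eq_fibreDimAt'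
    (Scheme.IdealSheafData.vanishingIdeal T'').subschemeι hemb f (T'' : Set X) hr w x hw hxT
  have hdim : FlatMor.localDim ↥((T'' : Set X) ∩ f.base ⁻¹' {f.base x}) ⟨x, ⟨hxT, rfl⟩⟩ +
      (b : WithBot ℕ∞) ≤ FlatMor.fibreDimAt f x := by
    rw [hbridge, hfib0, hab, zero_add]
  obtain ⟨-, -, heq⟩ := equidim_restrict f x hf T'' x'' rfl hxT b hcodim hdim
  obtain ⟨e', O, hwO, hcompO, hfibO⟩ := heq w hw
  have he'0 : ∀ u ∈ O, FlatMor.fibreDimAt
      ((Scheme.IdealSheafData.vanishingIdeal T'').subschemeι ≫ f) u = 0 := by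
    have h1 := Groth.Agent.Lib.Helper21.EquidimAt.fibreDimAt_eq_of_forall_components
      ((Scheme.IdealSheafData.vanishingIdeal T'').subschemeι ≫ f) O e' hfibO w hwO
    rw [hfib0] at h1
    have he' : e' = 0 := by exact_mod_cast h1.symm
    intro u hu
    have h2 := Groth.Agent.Lib.Helper21.EquidimAt.fibreDimAt_eq_of_forall_components
      ((Scheme.IdealSheafData.vanishingIdeal T'').subschemeι ≫ f) O e' hfibO u hu
    rw [h2, he']
    rfl
  -- an affine neighbourhood
  obtain ⟨V, hV, hwV, hVO⟩ : ∃ V : (Scheme.IdealSheafData.vanishingIdeal T'').subscheme.Opens,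
      IsAffineOpen V ∧ w ∈ V ∧ V ≤ O := by
    obtain ⟨V, hV, hwV, hVO⟩ := Opens.isBasis_iff_nbhd.mp
      (Scheme.IdealSheafData.vanishingIdeal T'').subscheme.isBasis_affineOpens hwO
    exact ⟨V, hV, hwV, hVO⟩
  have hgenξ : ∀ u : (Scheme.IdealSheafData.vanishingIdeal T'').subscheme, ξ ⤳ u := by
    intro u
    rw [← hemb.isInducing.specializes_iff, hξ, specializes_iff_mem_closure]
    have : (Scheme.IdealSheafData.vanishingIdeal T'').subschemeι.base u ∈ (T'' : Set X) := by
      rw [← hr]; exact ⟨u, rfl⟩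
    exact this
  have hξV : ξ ∈ V := (hgenξ w).mem_open V.2 hwV
  haveI : IsLocallyNoetherian (Scheme.IdealSheafData.vanishingIdeal T'').subscheme :=
    LocallyOfFiniteType.isLocallyNoetherian (Scheme.IdealSheafData.vanishingIdeal T'').subschemeι
  refine ⟨V.toScheme, V.ι ≫ (Scheme.IdealSheafData.vanishingIdeal T'').subschemeι,
    inferInstance, ?_, ?_, ?_, ?_, ?_, ?_, ?_⟩
  · -- irreducible
    let ξV : V.toScheme := ⟨ξ, hξV⟩
    have hclV : closure ({ξV} : Set V.toScheme) = Set.univ := by
      rw [← Set.univ_subset_iff]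
      intro u _
      rw [← specializes_iff_mem_closure, ← V.ι.isEmbedding.isInducing.specializes_iff]
      exact hgenξ u.1
    have : IsIrreducible (Set.univ : Set V.toScheme) := by
      rw [← hclV]
      exact isIrreducible_singleton.closure
    exact (irreducibleSpace_def _).mpr this
  · haveI := Groth.Agent.Lib.Helper16.isReduced_subscheme_vanishingIdeal T''
    infer_instance
  · exact ⟨⟨w, hwV⟩, hw⟩
  · infer_instance
  · rw [Category.assoc, Groth.Agent.Lib.Helper14.AS.locallyQuasiFinite_iff_fibreDimAt_eq_zero]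
    intro t
    rw [Groth.Agent.Lib.Helper21.EquidimAt.fibreDimAt_ι_comp]
    exact he'0 t.1 (hVO t.2)
  · haveI : IsNoetherianRing Γ((Scheme.IdealSheafData.vanishingIdeal T'').subscheme, V) :=
      IsLocallyNoetherian.component_noetherian ⟨V, hV⟩
    haveI : NoetherianSpace V.toScheme :=
      noetherianSpace_of_isAffineOpen V hV
    exact ⟨fun U _ _ => NoetherianSpace.isCompact _⟩
  · -- dominant
    refine ⟨?_⟩
    let ξO : O.toScheme := ⟨ξ, hVO hξV⟩
    have hclO : closure ({ξO} : Set O.toScheme) = Set.univ := by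
      rw [← Set.univ_subset_iff]
      intro u _
      rw [← specializes_iff_mem_closure, ← O.ι.isEmbedding.isInducing.specializes_iff]
      exact hgenξ u.1
    have hirr : (Set.univ : Set O.toScheme) ∈ irreducibleComponents O.toScheme := by
      haveI : IrreducibleSpace O.toScheme := by
        have : IsIrreducible (Set.univ : Set O.toScheme) := by
          rw [← hclO]
          exact isIrreducible_singleton.closure
        exact (irreducibleSpace_def _).mpr this
      rw [irreducibleComponents_eq_singleton]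
      rfl
    obtain ⟨W, hW, -, hWcl⟩ := hcompO _ hirr
    rw [irreducibleComponents_eq_singleton, Set.mem_singleton_iff] at hW
    rw [hW, ← hclO] at hWcl
    have h1 : closure ((O.ι ≫ (Scheme.IdealSheafData.vanishingIdeal T'').subschemeι ≫ f).base ''
        closure {ξO}) = closure {((Scheme.IdealSheafData.vanishingIdeal T'').subschemeι ≫ f) ξ} :=
      (closure_image_closure
        (O.ι ≫ (Scheme.IdealSheafData.vanishingIdeal T'').subschemeι ≫ f).continuous).trans (by
          rw [Set.image_singleton]
          rfl)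
    rw [h1] at hWcl
    rw [DenseRange, dense_iff_closure_eq, ← Set.univ_subset_iff, ← hWcl]
    apply closure_mono
    rw [Set.singleton_subset_iff]
    exact ⟨⟨ξ, hξV⟩, rfl⟩

end Groth.Agent.Lib.Helper21.EquiSub
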