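import Groth.Agent.Lib.Helper21.EquiSub12

/-!
# The four conditions of EGA IV 13.2.7-13.2.8: local ring inequalities
-/

set_option autoImplicit false
set_option linter.style.haveILetI false
set_option linter.unusedSectionVars false
universe u

open AlgebraicGeometry CategoryTheory Limits TopologicalSpace IsLocalRing

namespace Groth.Agent.Lib.Helper21.FourCond

open Groth.Agent.Lib.Helper21.FibDim Groth.Agent.Lib.Helper21.EquiSub

variable {X' Y' X Y : Scheme.{u}}

/-- transport of the dimension of a stalk along an equality of points -/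
theorem ringKrullDim_stalk_congr {y₁ y₂ : Y} (h : y₁ = y₂) :
    ringKrullDim (Y.presheaf.stalk y₁) = ringKrullDim (Y.presheaf.stalk y₂) := by
  subst h; rfl

/-- (F1) the local ring of a closed subscheme has smaller dimension -/
theorem ringKrullDim_stalk_le_of_surjectiveOnStalks (j : Y' ⟶ Y) [SurjectiveOnStalks j] (v : Y') :
    ringKrullDim (Y'.presheaf.stalk v) ≤ ringKrullDim (Y.presheaf.stalk (j v)) :=
  ringKrullDim_le_of_surjective _ (j.stalkMap_surjective v)

/-- (F2) the local ring of the fibre of a closed subscheme has smaller dimension -/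
theorem ringKrullDim_stalk_fiber_comp_le (ι : X' ⟶ X) [SurjectiveOnStalks ι] (f : X ⟶ Y)
    (w : X') :
    ringKrullDim (((ι ≫ f).fiber ((ι ≫ f) w)).presheaf.stalk ((ι ≫ f).asFiber w)) ≤
      ringKrullDim ((f.fiber (f (ι w))).presheaf.stalk (f.asFiber (ι w))) := by
  rw [← ringKrullDim_quotient_map_maximalIdeal, ← ringKrullDim_quotient_map_maximalIdeal]
  have hcomp : ((ι ≫ f).stalkMap w).hom = (ι.stalkMap w).hom.comp (f.stalkMap (ι w)).hom := by
    rw [Scheme.Hom.stalkMap_comp]
    rfl
  have hle : (maximalIdeal (Y.presheaf.stalk (f (ι w)))).map (f.stalkMap (ι w)).hom ≤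
      ((maximalIdeal (Y.presheaf.stalk ((ι ≫ f) w))).map ((ι ≫ f).stalkMap w).hom).comap
        (ι.stalkMap w).hom := by
    rw [← Ideal.map_le_iff_le_comap, Ideal.map_map, ← hcomp]
    exact le_rfl
  refine ringKrullDim_le_of_surjective (Ideal.quotientMap _ (ι.stalkMap w).hom hle) ?_
  exact Ideal.quotientMap_surjective (ι.stalkMap_surjective w)

/-- (F3) the dimension inequality for a morphism into a closed subscheme, in terms of the fibre
of the composite -/
theorem ringKrullDim_stalk_le_add_fiber_comp [IsLocallyNoetherian X'] [IsLocallyNoetherian Y']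
    (g : X' ⟶ Y') (j : Y' ⟶ Y) [SurjectiveOnStalks j] (w : X') :
    ringKrullDim (X'.presheaf.stalk w) ≤ ringKrullDim (Y'.presheaf.stalk (g w)) +
      ringKrullDim (((g ≫ j).fiber ((g ≫ j) w)).presheaf.stalk ((g ≫ j).asFiber w)) := by
  rw [← ringKrullDim_quotient_map_maximalIdeal]
  letI : Algebra (Y'.presheaf.stalk (g w)) (X'.presheaf.stalk w) := (g.stalkMap w).hom.toAlgebra
  haveI : IsLocalHom (algebraMap (Y'.presheaf.stalk (g w)) (X'.presheaf.stalk w)) :=
    inferInstanceAs (IsLocalHom (g.stalkMap w).hom)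
  have h := Groth.Agent.Lib.Helper18.CM.ringKrullDim_le_add_fibre
    (R := Y'.presheaf.stalk (g w)) (S := X'.presheaf.stalk w)
  have hcomp : ((g ≫ j).stalkMap w).hom = (g.stalkMap w).hom.comp (j.stalkMap (g w)).hom := by
    rw [Scheme.Hom.stalkMap_comp]
    rfl
  have hI : (maximalIdeal (Y'.presheaf.stalk (g w))).map (g.stalkMap w).hom =
      (maximalIdeal (Y.presheaf.stalk ((g ≫ j) w))).map ((g ≫ j).stalkMap w).hom := by
    rw [← IsLocalRing.map_maximalIdeal_of_surjective _ (j.stalkMap_surjective (g w)),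
      Ideal.map_map, ← hcomp]
    rfl
  have key : ∀ (I J : Ideal (X'.presheaf.stalk w)), I = J →
      ringKrullDim (X'.presheaf.stalk w ⧸ I) = ringKrullDim (X'.presheaf.stalk w ⧸ J) := by
    intro I J hIJ
    subst hIJ
    rfl
  refine h.trans (le_of_eq ?_)
  exact congrArg _ (key _ _ hI)

/-- the set-theoretic fibre of `X' ∩ f⁻¹(y)` is homeomorphic to the fibre of the restriction of `f`
to a scheme structure on `X'` -/
theorem topologicalKrullDim_inter_preimage_eq {W : Scheme.{u}} (ι : W ⟶ X)
    (hι : Topology.IsEmbedding ι.base) (f : X ⟶ Y) (Z : Set X) (hr : Set.range ι.base = Z)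
    (y : Y) :
    topologicalKrullDim ↥(Z ∩ f.base ⁻¹' {y}) =
      topologicalKrullDim ↥((ι ≫ f).base ⁻¹' {y}) := by
  let φ : ↥((ι ≫ f).base ⁻¹' {y}) → ↥(Z ∩ f.base ⁻¹' {y}) :=
    fun v => ⟨ι.base v.1, ⟨hr ▸ ⟨v.1, rfl⟩, v.2⟩⟩
  have hφ : Topology.IsEmbedding φ := by
    have h1 : Topology.IsEmbedding (fun v : ↥((ι ≫ f).base ⁻¹' {y}) => ι.base v.1) :=
      hι.comp Topology.IsEmbedding.subtypeVal
    exact Topology.IsEmbedding.of_comp (h1.continuous.subtype_mk _) continuous_subtype_val h1
  have hsurj : Function.Surjective φ := by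
    rintro ⟨z, hz1, hz2⟩
    rw [← hr] at hz1
    obtain ⟨v, rfl⟩ := hz1
    exact ⟨⟨v, hz2⟩, rfl⟩
  exact ((hφ.toHomeomorphOfSurjective hsurj).isHomeomorph.topologicalKrullDim_eq).symm

/-- residue transcendence degrees are unchanged by postcomposition with a morphism surjective on
stalks -/
theorem trdeg_comp_surjectiveOnStalks_right (g : X' ⟶ Y') (j : Y' ⟶ Y) [SurjectiveOnStalks j]
    (w : X') (c : ℕ)
    (hc : @Algebra.trdeg (Y'.residueField (g w)) (X'.residueField w) _ _
      (g.residueFieldMap w).hom.toAlgebra = c) :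
    @Algebra.trdeg (Y.residueField ((g ≫ j) w)) (X'.residueField w) _ _
      ((g ≫ j).residueFieldMap w).hom.toAlgebra = c := by
  have h0 : @Algebra.trdeg (Y.residueField (j (g w))) (Y'.residueField (g w)) _ _
      (j.residueFieldMap (g w)).hom.toAlgebra = (0 : ℕ) := by
    letI := (j.residueFieldMap (g w)).hom.toAlgebra
    have := isAlgebraic_of_surjective (j.residueFieldMap (g w)).hom
      (residueFieldMap_surjective j (g w))
    rw [Nat.cast_zero]
    exact trdeg_eq_zero
  have := trdeg_comp g j w 0 c h0 hc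
  simpa using this

/-- transport of residue transcendence degrees along an equality of morphisms -/
theorem trdeg_congr_hom {φ ψ : X' ⟶ Y} (h : φ = ψ) (w : X') (c : ℕ)
    (hc : @Algebra.trdeg (Y.residueField (φ w)) (X'.residueField w) _ _
      (φ.residueFieldMap w).hom.toAlgebra = c) :
    @Algebra.trdeg (Y.residueField (ψ w)) (X'.residueField w) _ _
      (ψ.residueFieldMap w).hom.toAlgebra = c := by
  subst h
  exact hc

/-- transport of fibre stalk dimensions along an equality of morphisms -/
theorem ringKrullDim_fiber_stalk_congr_hom {φ ψ : X' ⟶ Y} (h : φ = ψ) (w : X') :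
    ringKrullDim ((φ.fiber (φ w)).presheaf.stalk (φ.asFiber w)) =
      ringKrullDim ((ψ.fiber (ψ w)).presheaf.stalk (ψ.asFiber w)) := by
  subst h
  rfl

end Groth.Agent.Lib.Helper21.FourCond
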