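import Groth.Agent.Lib.Helper21.OpenAt9

/-!
# Equidimensionality at a point in terms of the irreducible components through the point
(EGA IV 13.3.1.1), main statement
-/

set_option autoImplicit false
set_option linter.style.haveILetI false
set_option linter.unusedSectionVars false
universe u

open AlgebraicGeometry CategoryTheory Limits TopologicalSpace IsLocalRing

namespace Groth.Agent.Lib.Helper21.OpenAt

open Groth.Agent.Lib.Helper21.FibDim Groth.Agent.Lib.Helper21.EquiSub
  Groth.Agent.Lib.Helper21.FourCond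

variable {X Y : Scheme.{u}}

/-- the closure of the image of the closure of a point -/
theorem closure_image_closure_singleton (f : X ⟶ Y) (ξ : X) :
    closure (f.base '' closure ({ξ} : Set X)) = closure {f ξ} := by
  apply subset_antisymm
  · apply closure_minimal _ isClosed_closure
    refine (image_closure_subset_closure_image f.continuous).trans ?_
    rw [Set.image_singleton]
  · apply closure_mono
    rw [Set.singleton_subset_iff]
    exact ⟨ξ, subset_closure rfl, rfl⟩

/-- **EGA IV 13.3.1.1** -/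
theorem isEquidimAt_iff_components [IsLocallyNoetherian Y] (f : X ⟶ Y) [LocallyOfFiniteType f]
    (x : X) :
    EGA43.IsEquidimAt f x ↔
      ∃ e : ℕ, ∀ Xj ∈ irreducibleComponents (X : Type u), ∀ hx : x ∈ Xj,
        closure (f.base '' Xj) ∈ irreducibleComponents (Y : Type u) ∧
        (∀ η : Y, closure ({η} : Set Y) = closure (f.base '' Xj) →
          topologicalKrullDim ↥(Xj ∩ f.base ⁻¹' {η}) = e) ∧
        FlatMor.localDim ↥(Xj ∩ f.base ⁻¹' {f.base x})
          ⟨x, ⟨hx, Set.mem_singleton (f.base x)⟩⟩ = e := by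
  haveI : IsLocallyNoetherian X := LocallyOfFiniteType.isLocallyNoetherian f
  constructor
  · rintro ⟨e, U, hxU, hcomp, hfib⟩
    refine ⟨e, fun Xj hXj hx => ?_⟩
    obtain ⟨ξ, hξ⟩ := QuasiSober.sober hXj.1 (isClosed_of_mem_irreducibleComponents Xj hXj)
    have hcl : closure ({ξ} : Set X) = Xj := hξ.def
    subst hcl
    have hξx : ξ ⤳ x := specializes_iff_mem_closure.mpr hx
    have hξU : ξ ∈ U := hξx.mem_open U.2 hxU
    have hξmax := eq_of_specializes_of_closure_mem ξ hXj
    have hfξmax : ∀ η : Y, η ⤳ f ξ → η = f ξ := fun η hη =>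
      Groth.Agent.Lib.Helper21.EquidimAt.eq_of_specializes_map_of_components f U
        (fun Z hZ => by
          obtain ⟨W, hW, -, hcl⟩ := hcomp Z hZ
          exact ⟨W, hW, hcl⟩) ξ hξU hξmax η hη
    have himg := closure_image_closure_singleton f ξ
    obtain ⟨E, hE⟩ := exists_nat_trdeg_residueFieldMap f ξ
    have hFξ : FlatMor.fibreDimAt f ξ = E :=
      fibreDimAt_eq_trdeg_of_maximal f ξ (fun τ h _ => hξmax τ h) E hE
    have hEe : E = e := by
      have := Groth.Agent.Lib.Helper21.EquidimAt.fibreDimAt_eq_of_forall_components f U e hfib ξ hξU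
      rw [hFξ] at this
      exact_mod_cast this
    have hFx : FlatMor.fibreDimAt f x = e :=
      Groth.Agent.Lib.Helper21.EquidimAt.fibreDimAt_eq_of_forall_components f U e hfib x hxU
    obtain ⟨h1, h2, -⟩ := component_facts f ξ x hξx E hE hx
    refine ⟨?_, ?_, ?_⟩
    · rw [himg]
      exact Groth.Agent.Lib.Helper21.FibDim.closure_mem_irreducibleComponents_of_maximal (f ξ)
        hfξmax
    · intro η hη
      rw [himg] at hη
      have hηξ : η = f ξ :=
        (show IsGenericPoint η (closure {f ξ}) from hη).eq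
          (show IsGenericPoint (f ξ) (closure {f ξ}) from rfl)
      rw [hηξ, topologicalKrullDim_closure_inter_fiber f ξ E hE, hEe]
    · apply le_antisymm
      · rw [← hFx]
        exact h2
      · rw [← hEe]
        exact h1
  · rintro ⟨e, hall⟩
    have key : ∀ ξ : X, ξ ⤳ x → (∀ ξ' : X, ξ' ⤳ ξ → ξ' = ξ) →
        @Algebra.trdeg (Y.residueField (f ξ)) (X.residueField ξ) _ _
          (f.residueFieldMap ξ).hom.toAlgebra = e ∧ (∀ t : Y, t ⤳ f ξ → t = f ξ) ∧
        ∀ hx : x ∈ closure ({ξ} : Set X),
          FlatMor.localDim ↥(closure ({ξ} : Set X) ∩ f.base ⁻¹' {f.base x})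
            ⟨x, ⟨hx, Set.mem_singleton (f.base x)⟩⟩ = e := by
      intro ξ hξx hξmax
      have hXj := Groth.Agent.Lib.Helper21.FibDim.closure_mem_irreducibleComponents_of_maximal ξ
        hξmax
      have hx : x ∈ closure ({ξ} : Set X) := specializes_iff_mem_closure.mp hξx
      obtain ⟨c1, c2, c3⟩ := hall _ hXj hx
      have himg := closure_image_closure_singleton f ξ
      rw [himg] at c1 c2
      have c2' := c2 (f ξ) rfl
      obtain ⟨E, hE⟩ := exists_nat_trdeg_residueFieldMap f ξ
      rw [topologicalKrullDim_closure_inter_fiber f ξ E hE] at c2'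
      have hEe : E = e := by exact_mod_cast c2'
      refine ⟨by rw [hE, hEe], eq_of_specializes_of_closure_mem (f ξ) c1, fun _ => c3⟩
    -- the local fibre dimension at `x`
    have hFx : FlatMor.fibreDimAt f x = e := by
      apply le_antisymm
      · obtain ⟨N, hN, ⟨τ, hτx, hfτ, hτN⟩, -⟩ := exists_fibreDimAt_eq_trdeg f x
        obtain ⟨ξ, hξτ, hξmax⟩ := exists_maximal_specializes τ
        have hξx := hξτ.trans hτx
        have hx : x ∈ closure ({ξ} : Set X) := specializes_iff_mem_closure.mp hξx
        obtain ⟨hE, -, c3⟩ := key ξ hξx hξmax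
        have := (component_facts f ξ x hξx e hE hx).2.2 τ hξτ hτx hfτ N hτN
        rw [c3 hx] at this
        rw [hN]
        exact this
      · obtain ⟨ξ, hξx, hξmax⟩ := exists_maximal_specializes x
        obtain ⟨hE, -, -⟩ := key ξ hξx hξmax
        exact le_fibreDimAt_of_specializes f hξx e hE
    obtain ⟨O₁, hxO₁, hO₁⟩ := exists_open_forall_maximal_specializes X x
    let O₂ : X.Opens :=
      ⟨{u | ((e + 1 : ℕ) : WithBot ℕ∞) ≤ FlatMor.fibreDimAt f u}ᶜ,
        (Groth.Agent.Lib.Helper18.FibSemi.isClosed_setOf_le_fibreDimAt f (e + 1)).isOpen_compl⟩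
    have hxO₂ : x ∈ O₂ := by
      intro hcon
      have hcon' : ((e + 1 : ℕ) : WithBot ℕ∞) ≤ FlatMor.fibreDimAt f x := hcon
      rw [hFx] at hcon'
      have : e + 1 ≤ e := by exact_mod_cast hcon'
      omega
    refine Groth.Agent.Lib.Helper21.EquiBC.isEquidimAt_of_maximal_of_forall_fibreDimAt f x
      (O₁ ⊓ O₂) ⟨hxO₁, hxO₂⟩ ?_ e ?_
    · intro ξ hξO hξmax
      have hξx : ξ ⤳ x := hO₁ ξ hξO.1 ξ hξmax specializes_rfl
      exact ⟨hξx, (key ξ hξx hξmax).2.1⟩
    · intro u hu
      obtain ⟨ξ, hξu, hξmax⟩ := exists_maximal_specializes u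
      have hξx : ξ ⤳ x := hO₁ u hu.1 ξ hξmax hξu
      have hE := (key ξ hξx hξmax).1
      have hl := le_fibreDimAt_of_specializes f hξu e hE
      obtain ⟨M, hM, -, -⟩ := exists_fibreDimAt_eq_trdeg f u
      have hu' : ¬ ((e + 1 : ℕ) : WithBot ℕ∞) ≤ FlatMor.fibreDimAt f u := hu.2
      rw [hM] at hl hu' ⊢
      have h5 : e ≤ M := by exact_mod_cast hl
      have h6 : ¬ (e + 1 ≤ M) := by
        intro h
        exact hu' (by exact_mod_cast h)
      have : M = e := by omega
      rw [this]

end Groth.Agent.Lib.Helper21.OpenAt
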