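import Groth.Agent.Lib.Helper21.EquiSub4

/-!
# Hypersurface sections of equidimensional morphisms (EGA IV 13.3.7-13.3.8): components
-/

set_option autoImplicit false
set_option linter.style.haveILetI false
set_option linter.unusedSectionVars false
universe u

open AlgebraicGeometry CategoryTheory Limits TopologicalSpace

namespace Groth.Agent.Lib.Helper21.EquiSub

open Groth.Agent.Lib.Helper21.FibDim

variable {X Y : Scheme.{u}}

/-- residue transcendence degrees are unchanged by precomposition with a morphism surjective on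
stalks, converse form -/
theorem trdeg_of_comp_of_surjectiveOnStalks {W : Scheme.{u}} (ι : W ⟶ X) [SurjectiveOnStalks ι]
    (f : X ⟶ Y) [LocallyOfFiniteType f] (w : W) (n : ℕ)
    (h : @Algebra.trdeg (Y.residueField ((ι ≫ f) w)) (W.residueField w) _ _
      ((ι ≫ f).residueFieldMap w).hom.toAlgebra = n) :
    @Algebra.trdeg (Y.residueField (f (ι w))) (X.residueField (ι w)) _ _
      (f.residueFieldMap (ι w)).hom.toAlgebra = n := by
  obtain ⟨m, hm⟩ := exists_nat_trdeg_residueFieldMap f (ι w)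
  have h1 := Groth.Agent.Lib.Helper21.IrrFib.trdeg_comp_of_surjectiveOnStalks ι f w m hm
  rw [h] at h1
  have : n = m := by exact_mod_cast h1
  rw [hm, this]

/-- **the fibre dimension drops on a closed subset avoiding the maximal points of the fibre** -/
theorem fibreDimAt_restrict_add_one_le {W : Scheme.{u}} (ι : W ⟶ X) [SurjectiveOnStalks ι]
    (f : X ⟶ Y) [LocallyOfFiniteType f] [LocallyOfFiniteType (ι ≫ f)] (w : W)
    (hT : ∀ τ' : W, f (ι τ') = f (ι w) → ∃ z' : X, f z' = f (ι w) ∧ z' ⤳ ι τ' ∧ z' ≠ ι τ') :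
    FlatMor.fibreDimAt (ι ≫ f) w + 1 ≤ FlatMor.fibreDimAt f (ι w) := by
  obtain ⟨N, hN, ⟨τ', hτ'w, hfτ', hτ'N⟩, -⟩ := exists_fibreDimAt_eq_trdeg (ι ≫ f) w
  obtain ⟨e, he, -, hall⟩ := exists_fibreDimAt_eq_trdeg f (ι w)
  have hτN : @Algebra.trdeg (Y.residueField (f (ι τ'))) (X.residueField (ι τ')) _ _
      (f.residueFieldMap (ι τ')).hom.toAlgebra = N :=
    trdeg_of_comp_of_surjectiveOnStalks ι f τ' N hτ'N
  have hfτ : f (ι τ') = f (ι w) := hfτ'
  obtain ⟨z', hfz', hz'τ, hne⟩ := hT τ' hfτ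
  have hlt := trdeg_lt_of_specializes_of_ne f hz'τ hne (hfz'.trans hfτ.symm)
  rw [hτN] at hlt
  have hτw : ι τ' ⤳ ι w := hτ'w.map ι.continuous
  have hle := hall z' (hz'τ.trans hτw) hfz'
  obtain ⟨m, hm⟩ := exists_nat_trdeg_residueFieldMap f z'
  rw [hm] at hlt hle
  have h1 : N < m := by exact_mod_cast hlt
  have h2 : m ≤ e := by exact_mod_cast hle
  rw [hN, he]
  have : N + 1 ≤ e := by omega
  exact_mod_cast this

/-- from the numerical conclusion of EGA IV 13.3.6: the generic point of the closed subset lies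
over the generic point of the base -/
theorem map_eq_genericPoint_of_restrict [IrreducibleSpace Y] [IsLocallyNoetherian Y]
    (f : X ⟶ Y) [LocallyOfFiniteType f] (U : X.Opens) (e : ℕ)
    (hcomp : ∀ Z ∈ irreducibleComponents (↥U : Type u),
      ∃ W ∈ irreducibleComponents (Y : Type u), closure ((U.ι ≫ f).base '' Z) = W)
    (hfib : ∀ x' : U, ∀ Z ∈ irreducibleComponents ((U.ι ≫ f).fiber ((U.ι ≫ f) x')),
      topologicalKrullDim Z = e)
    (x' : X) (hx'U : x' ∈ U) (n N δ : ℕ) (hc : ringKrullDim (X.presheaf.stalk x') = n)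
    (hN : N + n = e)
    (hδ : @Algebra.trdeg (Y.residueField (f x')) (X.residueField x') _ _
      (f.residueFieldMap x').hom.toAlgebra = δ) (hδN : δ ≤ N) :
    f x' = genericPoint Y ∧ δ = N := by
  have hfx' : FlatMor.fibreDimAt f x' = e :=
    Groth.Agent.Lib.Helper21.EquidimAt.fibreDimAt_eq_of_forall_components f U e hfib _ hx'U
  obtain ⟨δ', b', hδ', hb', hloc⟩ := exists_fibreDimAt_eq_add f x'
  have hδδ : δ' = δ := by
    rw [hδ] at hδ'
    exact_mod_cast hδ'.symm
  subst hδδ
  have he : e = δ' + b' := by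
    rw [hloc] at hfx'
    exact_mod_cast hfx'.symm
  have hb'le := ringKrullDim_stalk_fiber_le f x'
  rw [hc, hb'] at hb'le
  have h4 : b' ≤ n := by exact_mod_cast hb'le
  have hb'n : b' = n := by omega
  have hNδ : δ' = N := by omega
  refine ⟨?_, hNδ⟩
  obtain ⟨z, hzx', hfz, hzmax⟩ := exists_maximal_of_dim_fiber_eq f x' n hc (by rw [hb', hb'n])
  have hzU : z ∈ U := hzx'.mem_open U.2 hx'U
  have hgen : genericPoint Y = f z :=
    Groth.Agent.Lib.Helper21.EquidimAt.eq_of_specializes_map_of_components f U hcomp z hzU hzmax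
      (genericPoint Y) (genericPoint_specializes _)
  rw [hgen, hfz]

end Groth.Agent.Lib.Helper21.EquiSub
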