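import Groth.Agent.Lib.Helper21.EquiSub12
import Groth.Agent.Lib.Helper21.BaseChg4

/-!
# Flat base change of equidimensional morphisms (EGA IV 13.3.8)
-/

set_option autoImplicit false
set_option linter.style.haveILetI false
set_option linter.unusedSectionVars false
universe u

open AlgebraicGeometry CategoryTheory Limits TopologicalSpace

namespace Groth.Agent.Lib.Helper21.EquiBC

open Groth.Agent.Lib.Helper21.FibDim Groth.Agent.Lib.Helper21.EquiSub

/-- a criterion for equidimensionality at a point: an open neighbourhood whose maximal points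
specialise to the point and lie over maximal points of the base, on which the local fibre
dimension is constant -/
theorem isEquidimAt_of_maximal_of_forall_fibreDimAt {W Y : Scheme.{u}} (g : W ⟶ Y)
    [LocallyOfFiniteType g] (w : W) (O : W.Opens) (hwO : w ∈ O)
    (hmaxO : ∀ ξ ∈ O, (∀ ξ' : W, ξ' ⤳ ξ → ξ' = ξ) →
      ξ ⤳ w ∧ ∀ t : Y, t ⤳ g ξ → t = g ξ) (e : ℕ)
    (hO : ∀ u ∈ O, FlatMor.fibreDimAt g u = e) : EGA43.IsEquidimAt g w := by
  refine ⟨e, O, hwO, ?_, fun u Z hZ => topologicalKrullDim_component_fiber_eq g O e hO u Z hZ⟩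
  intro Z hZ
  haveI : QuasiSober ↥O := inferInstanceAs (QuasiSober O.toScheme)
  obtain ⟨ξO, hξO⟩ := QuasiSober.sober hZ.1 (isClosed_of_mem_irreducibleComponents Z hZ)
  have hcl : closure ({ξO} : Set ↥O) = Z := hξO.def
  have hmaxξ : ∀ ξ' : W, ξ' ⤳ ξO.1 → ξ' = ξO.1 := by
    intro ξ' hξ'
    have hξ'O : ξ' ∈ O := hξ'.mem_open O.2 ξO.2
    let u' : ↥O := ⟨ξ', hξ'O⟩
    have h1 : u' ⤳ ξO := by
      rw [← Topology.IsInducing.subtypeVal.specializes_iff]
      exact hξ'
    have h2 : closure ({ξO} : Set ↥O) ⊆ closure {u'} :=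
      specializes_iff_closure_subset.mp h1
    have h3 : closure ({u'} : Set ↥O) ≤ Z :=
      hZ.2 (isIrreducible_singleton (x := u')).closure (by rw [← hcl]; exact h2)
    have h4 : ξO ⤳ u' := by
      rw [specializes_iff_mem_closure, hcl]
      exact h3 (subset_closure rfl)
    have h5 : u' = ξO := (h1.antisymm h4).eq
    exact congrArg Subtype.val h5
  obtain ⟨hξw, hgmax⟩ := hmaxO ξO.1 ξO.2 hmaxξ
  refine ⟨closure {g ξO.1},
    Groth.Agent.Lib.Helper21.FibDim.closure_mem_irreducibleComponents_of_maximal _ hgmax, ?_, ?_⟩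
  · rw [← specializes_iff_mem_closure]
    exact hξw.map g.continuous
  · rw [← hcl]
    apply subset_antisymm
    · apply closure_minimal _ isClosed_closure
      rintro _ ⟨z, hz, rfl⟩
      rw [← specializes_iff_mem_closure]
      have h1 : ξO ⤳ z := specializes_iff_mem_closure.mpr hz
      exact h1.map (O.ι ≫ g).continuous
    · apply closure_mono
      rw [Set.singleton_subset_iff]
      exact ⟨ξO, subset_closure rfl, rfl⟩

/-- in a cartesian square, a maximal point of the fibre product lying over a maximal point of the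
base lies over a maximal point of the other factor (the fibre product is flat over the other
factor over the residue field of the maximal point) -/
theorem maximal_map_of_isPullback {X Y X' Y' : Scheme.{u}} {f : X ⟶ Y} {g : Y' ⟶ Y}
    {pr : X' ⟶ X} {f' : X' ⟶ Y'} (hsq : IsPullback pr f' f g) (ξ' : X')
    (hmax : ∀ t : X', t ⤳ ξ' → t = ξ')
    (hη : ∀ t : Y, t ⤳ g (f' ξ') → t = g (f' ξ')) :
    ∀ t' : Y', t' ⤳ f' ξ' → t' = f' ξ' := by
  intro t' ht'
  set η := g (f' ξ') with hηdef
  let j := g.fiberι η
  let q := g.fiberToSpecResidueField η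
  let iη := Y.fromSpecResidueField η
  have hjq : j ≫ g = q ≫ iη := pullback.condition
  let a := pullback.fst f' j
  let b := pullback.snd f' j
  have hA : IsPullback a b f' j := IsPullback.of_hasPullback f' j
  have hAB : IsPullback (a ≫ pr) b f (q ≫ iη) := by
    rw [← hjq]
    exact hA.paste_horiz hsq
  have hC : IsPullback (f.fiberι η) (f.fiberToSpecResidueField η) f iη :=
    IsPullback.of_hasPullback f iη
  let l : pullback f' j ⟶ f.fiber η := pullback.lift (a ≫ pr) (b ≫ q) (by
    rw [Category.assoc, Category.assoc]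
    exact hAB.w)
  have hl1 : l ≫ f.fiberι η = a ≫ pr := pullback.lift_fst _ _ _
  have hl2 : l ≫ f.fiberToSpecResidueField η = b ≫ q := pullback.lift_snd _ _ _
  have hL : IsPullback l b (f.fiberToSpecResidueField η) q :=
    IsPullback.of_right (by rw [hl1]; exact hAB) hl2 hC
  haveI : Flat (f.fiberToSpecResidueField η) := inferInstance
  haveI : Flat b := MorphismProperty.of_isPullback (P := @Flat) hL inferInstance
  have hgen := Flat.generalizingMap b
  -- the points
  have hgt' : g t' = η := hη _ (ht'.map g.continuous)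
  obtain ⟨t'', ht''⟩ : t' ∈ Set.range j := by
    rw [Scheme.Hom.range_fiberι]
    exact hgt'
  obtain ⟨η'', hη''⟩ : f' ξ' ∈ Set.range j := by
    rw [Scheme.Hom.range_fiberι]
    rfl
  have hspec : t'' ⤳ η'' := by
    rw [← j.isEmbedding.isInducing.specializes_iff, ht'', hη'']
    exact ht'
  obtain ⟨p, hp1, hp2⟩ := Scheme.Pullback.exists_preimage_pullback (f := f') (g := j) ξ' η''
    hη''.symm
  obtain ⟨p', hp'p, hp'⟩ := hgen (a := p) (b := t'') (by
    change t'' ⤳ b p
    rw [show b p = η'' from hp2]
    exact hspec)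
  have h1 : a p' ⤳ ξ' := by
    have := hp'p.map a.continuous
    rwa [show a p = ξ' from hp1] at this
  have h2 : a p' = ξ' := hmax _ h1
  have h3 : f' (a p') = j (b p') := by
    have := congrArg (fun φ : pullback f' j ⟶ Y' => φ p') hA.w
    simpa using this
  rw [← ht'', ← hp', ← h3, h2]

end Groth.Agent.Lib.Helper21.EquiBC
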