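import Groth.Agent.Lib.Helper21.OpenAt14
import Groth.Agent.Lib.Helper17.ProCons

/-!
# Morphisms open along a fibre: lower semicontinuity of the fibre dimension at a point
(EGA IV 14.2.6, 14.2.7 preparations)
-/

set_option autoImplicit false
set_option linter.style.haveILetI false
set_option linter.unusedSectionVars false
universe u

open AlgebraicGeometry CategoryTheory Limits TopologicalSpace IsLocalRing

namespace Groth.Agent.Lib.Helper21.OpenAt

open Groth.Agent.Lib.Helper21.FibDim Groth.Agent.Lib.Helper21.EquiSub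
  Groth.Agent.Lib.Helper21.FourCond

variable {X Y : Scheme.{u}}

/-- every point has a generisation in its fibre, maximal in the fibre, whose residue field has
transcendence degree the local fibre dimension -/
theorem exists_maximal_generization_fibreDimAt (f : X ⟶ Y) [LocallyOfFiniteType f] (x : X) :
    ∃ (ζ : X) (N : ℕ), ζ ⤳ x ∧ f ζ = f x ∧ (∀ τ : X, τ ⤳ ζ → f τ = f ζ → τ = ζ) ∧
      @Algebra.trdeg (Y.residueField (f ζ)) (X.residueField ζ) _ _
        (f.residueFieldMap ζ).hom.toAlgebra = N ∧ FlatMor.fibreDimAt f x = N := by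
  obtain ⟨N, hN, ⟨ζ, hζx, hfζ, hζN⟩, -⟩ := exists_fibreDimAt_eq_trdeg f x
  obtain ⟨t, kτ, ht, hkτ, hFτ⟩ := exists_fibreDimAt_eq_add f ζ
  have htN : t = N := by
    rw [hζN] at ht
    exact_mod_cast ht.symm
  have hle := fibreDimAt_le_of_specializes f hζx
  rw [hFτ, hN] at hle
  have h1 : t + kτ ≤ N := by exact_mod_cast hle
  have hkτ0 : kτ = 0 := by omega
  refine ⟨ζ, N, hζx, hfζ, ?_, hζN, hN⟩
  intro z' hz'τ hfz'
  obtain ⟨z'', rfl⟩ : z' ∈ Set.range (f.fiberι (f ζ)) := by
    rw [Scheme.Hom.range_fiberι]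
    exact hfz'
  have h7 : z'' ⤳ f.asFiber ζ := by
    rw [← (f.fiberι (f ζ)).isEmbedding.isInducing.specializes_iff, Scheme.Hom.fiberι_asFiber]
    exact hz'τ
  have h8 := eq_of_specializes_of_ringKrullDim_stalk_eq_zero (f.asFiber ζ)
    (by rw [hkτ, hkτ0]; rfl) z'' h7
  rw [h8, Scheme.Hom.fiberι_asFiber]

/-- **Lemma N**: if `ζ` is maximal in its fibre, with residue field of transcendence degree `n`,
and `f` is open at `ζ`, then the image of the locus of local fibre dimension `≥ n` is a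
neighbourhood of `f ζ` -/
theorem image_setOf_le_fibreDimAt_mem_nhds [IsLocallyNoetherian Y] (f : X ⟶ Y)
    [LocallyOfFiniteType f] (ζ : X) (hζmax : ∀ τ : X, τ ⤳ ζ → f τ = f ζ → τ = ζ)
    (hop : EGA43.IsOpenAt f.base ζ) (n : ℕ)
    (hn : @Algebra.trdeg (Y.residueField (f ζ)) (X.residueField ζ) _ _
      (f.residueFieldMap ζ).hom.toAlgebra = n) :
    f.base '' {x : X | (n : WithBot ℕ∞) ≤ FlatMor.fibreDimAt f x} ∈ nhds (f.base ζ) := by
  haveI : IsLocallyNoetherian X := LocallyOfFiniteType.isLocallyNoetherian f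
  have hcl := Groth.Agent.Lib.Helper18.FibSemi.isClosed_setOf_le_fibreDimAt f n
  have hind : ProCons.IsIndConstructible {x : X | (n : WithBot ℕ∞) ≤ FlatMor.fibreDimAt f x} := by
    apply Groth.Agent.Lib.Helper17.ProConsLib.isIndConstructible_of_nhds_in_closure
    intro x hx
    have : (Subtype.val ⁻¹' {x : X | (n : WithBot ℕ∞) ≤ FlatMor.fibreDimAt f x} :
        Set ↥(closure ({x} : Set X))) = Set.univ := by
      ext ⟨w, hw⟩
      simp only [Set.mem_preimage, Set.mem_univ, iff_true]
      exact (specializes_iff_mem_closure.mpr hw).mem_closed hcl hx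
    rw [this]
    exact Filter.univ_mem
  have himg := Groth.Agent.Lib.Helper17.ProConsLib.isIndConstructible_image f hind
  rw [← mem_interior_iff_mem_nhds,
    Groth.Agent.Lib.Helper17.ProConsLib.mem_interior_iff_of_isIndConstructible himg]
  intro η hη
  obtain ⟨ξ, -, hfξ, hE⟩ := exists_generization_of_isOpenAt_maximal f ζ hζmax hop n hn η hη
  refine ⟨ξ, ?_, hfξ⟩
  obtain ⟨a, b, ha, -, hF⟩ := exists_fibreDimAt_eq_add f ξ
  have han : a = n := by
    rw [hE] at ha
    exact_mod_cast ha.symm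
  change (n : WithBot ℕ∞) ≤ FlatMor.fibreDimAt f ξ
  rw [hF, ← han]
  exact_mod_cast Nat.le_add_right a b

/-- the dimension of a non-empty quasi-compact fibre is attained as a local fibre dimension -/
theorem exists_fibreDimAt_eq_topologicalKrullDim_fiber (f : X ⟶ Y) [LocallyOfFiniteType f]
    [QuasiCompact f] (x₀ : X) :
    ∃ x : X, f x = f x₀ ∧ FlatMor.fibreDimAt f x = topologicalKrullDim ↥(f.fiber (f x₀)) := by
  obtain ⟨t₀, -, hmax⟩ := UpperSemicontinuousOn.exists_isMaxOn
    (f := fun t : ↥(f.fiber (f x₀)) => FlatMor.localDim ↥(f.fiber (f x₀)) t)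
    (s := Set.univ) ⟨f.asFiber x₀, Set.mem_univ _⟩ isCompact_univ
    (Groth.Agent.Lib.Helper18.TopDim.upperSemicontinuous_localDim.upperSemicontinuousOn _)
  have hx : f (f.fiberι (f x₀) t₀) = f x₀ := (f.fiberHomeo (f x₀) t₀).2
  refine ⟨f.fiberι (f x₀) t₀, hx, ?_⟩
  rw [← Groth.Agent.Lib.Helper6.EtaleSq.localDim_fiber_eq_fibreDimAt f (f.fiberι (f x₀) t₀) (f x₀)
    hx t₀ rfl, Groth.Agent.Lib.Helper18.TopDim.topologicalKrullDim_eq_iSup_localDim]
  exact le_antisymm (le_iSup (fun t => FlatMor.localDim ↥(f.fiber (f x₀)) t) t₀)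
    (iSup_le fun t => hmax (Set.mem_univ t))

/-- the local fibre dimension is at most the dimension of the fibre -/
theorem fibreDimAt_le_topologicalKrullDim_fiber (f : X ⟶ Y) (x : X) :
    FlatMor.fibreDimAt f x ≤ topologicalKrullDim ↥(f.fiber (f x)) :=
  Groth.Agent.Lib.Helper18.TopDim.localDim_le_topologicalKrullDim _

/-- **Theorem A**: lower semicontinuity at `y` of the fibre dimension for a quasi-compact
morphism locally of finite type that is open at all points of the fibre over `y` -/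
theorem exists_nhds_topologicalKrullDim_fiber_le [IsLocallyNoetherian Y] (f : X ⟶ Y)
    [LocallyOfFiniteType f] [QuasiCompact f] (y : Y)
    (h : ∀ x : X, f.base x = y → EGA43.IsOpenAt f.base x) :
    ∃ V ∈ nhds y, ∀ z ∈ V,
      topologicalKrullDim ↥(f.fiber y) ≤ topologicalKrullDim ↥(f.fiber z) := by
  by_cases hne : ∃ x₀ : X, f x₀ = y
  · obtain ⟨x₀, rfl⟩ := hne
    obtain ⟨x, hfx, hFx⟩ := exists_fibreDimAt_eq_topologicalKrullDim_fiber f x₀
    obtain ⟨ζ, N, -, hfζ, hζmax, hζN, hFN⟩ := exists_maximal_generization_fibreDimAt f x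
    have hfζ' : f ζ = f x₀ := hfζ.trans hfx
    have hnb := image_setOf_le_fibreDimAt_mem_nhds f ζ hζmax (h ζ hfζ') N hζN
    rw [hfζ'] at hnb
    refine ⟨_, hnb, ?_⟩
    rintro z ⟨x', hx', rfl⟩
    rw [← hFx, hFN]
    exact le_trans hx' (fibreDimAt_le_topologicalKrullDim_fiber f x')
  · push Not at hne
    refine ⟨Set.univ, Filter.univ_mem, fun z _ => ?_⟩
    haveI : IsEmpty ↥(f.fiber y) := ⟨fun t => hne (f.fiberι y t) (f.fiberHomeo y t).2⟩
    haveI : IsEmpty (IrreducibleCloseds ↥(f.fiber y)) :=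
      ⟨fun Z => IsEmpty.false (Z.isIrreducible.nonempty.some : ↥(f.fiber y))⟩
    have : topologicalKrullDim ↥(f.fiber y) = ⊥ := by
      unfold topologicalKrullDim
      exact Order.krullDim_eq_bot
    rw [this]
    exact bot_le

/-- **EGA IV 14.2.6 (ii)**: an open quasi-compact morphism locally of finite type whose fibre
dimension at `y` agrees with that at the maximal points above `y` has locally constant fibre
dimension near `y` -/
theorem fibre_dim_locally_const_of_eq_at_generic [IsLocallyNoetherian Y] (f : X ⟶ Y)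
    [LocallyOfFiniteType f] [QuasiCompact f] (y : Y)
    (hop : ∀ x : X, EGA43.IsOpenAt f.base x)
    (h : ∀ η : Y, y ∈ closure {η} → closure {η} ∈ irreducibleComponents (Y : Type u) →
      topologicalKrullDim ↥(f.fiber y) = topologicalKrullDim ↥(f.fiber η)) :
    ∃ V ∈ nhds y, ∀ z ∈ V,
      topologicalKrullDim ↥(f.fiber z) = topologicalKrullDim ↥(f.fiber y) := by
  obtain ⟨O₁, hyO₁, hO₁⟩ := exists_open_forall_maximal_specializes Y y
  obtain ⟨V, hV, hVle⟩ := exists_nhds_topologicalKrullDim_fiber_le f y (fun x _ => hop x)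
  refine ⟨V ∩ O₁, Filter.inter_mem hV (O₁.2.mem_nhds hyO₁), ?_⟩
  rintro z ⟨hz1, hz2⟩
  refine le_antisymm ?_ (hVle z hz1)
  obtain ⟨η, hηz, hηmax⟩ := exists_maximal_specializes z
  have hηy : η ⤳ y := hO₁ z hz2 η hηmax hηz
  have h1 := topologicalKrullDim_fiber_le_of_specializes f z (fun x _ => hop x) η hηz
  rw [h η (specializes_iff_mem_closure.mp hηy)
    (Groth.Agent.Lib.Helper21.FibDim.closure_mem_irreducibleComponents_of_maximal η hηmax)]
  exact h1

end Groth.Agent.Lib.Helper21.OpenAt
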