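import Groth.Agent.Lib.Helper21.OpenAt4

/-!
# Morphisms open at the generic point of a component of a fibre (EGA IV 14.2.4), main statement
-/

set_option autoImplicit false
set_option linter.style.haveILetI false
set_option linter.unusedSectionVars false
universe u

open AlgebraicGeometry CategoryTheory Limits TopologicalSpace IsLocalRing

namespace Groth.Agent.Lib.Helper21.OpenAt

open Groth.Agent.Lib.Helper21.FibDim Groth.Agent.Lib.Helper21.EquiSub
  Groth.Agent.Lib.Helper21.FourCond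

variable {X Y : Scheme.{u}}

/-- the numerical core of EGA IV 14.2.4: if `f` is open at a point `ζ` maximal in its fibre,
there is a maximal point `ξ` of `X` specialising to `ζ`, lying over a maximal point of `Y`, whose
residue transcendence degree is that of `ζ` -/
theorem exists_maximal_of_isOpenAt_maximal [IsLocallyNoetherian Y] (f : X ⟶ Y)
    [LocallyOfFiniteType f] (ζ : X) (hζmax : ∀ τ : X, τ ⤳ ζ → f τ = f ζ → τ = ζ)
    (hop : EGA43.IsOpenAt f.base ζ) (n : ℕ)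
    (hn : @Algebra.trdeg (Y.residueField (f ζ)) (X.residueField ζ) _ _
      (f.residueFieldMap ζ).hom.toAlgebra = n) :
    ∃ ξ : X, ξ ⤳ ζ ∧ (∀ ξ' : X, ξ' ⤳ ξ → ξ' = ξ) ∧ (∀ t : Y, t ⤳ f ξ → t = f ξ) ∧
      @Algebra.trdeg (Y.residueField (f ξ)) (X.residueField ξ) _ _
        (f.residueFieldMap ξ).hom.toAlgebra = n := by
  haveI : IsLocallyNoetherian X := LocallyOfFiniteType.isLocallyNoetherian f
  have hFζ : FlatMor.fibreDimAt f ζ = n := by
    obtain ⟨N, hN, ⟨τ, hτζ, hfτ, hτN⟩, -⟩ := exists_fibreDimAt_eq_trdeg f ζ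
    rw [trdeg_eq_of_eq f (hζmax τ hτζ hfτ).symm n hn] at hτN
    have : n = N := by exact_mod_cast hτN
    rw [hN, this]
  obtain ⟨𝔭, h𝔭min, h𝔭dim⟩ :=
    Groth.Agent.Lib.Helper21.EquidimAt.exists_minimalPrimes_ringKrullDim_quotient_eq
      (X.presheaf.stalk ζ)
  haveI h𝔭p : 𝔭.IsPrime := h𝔭min.1.1
  set ξ := X.fromSpecStalk ζ ⟨𝔭, h𝔭p⟩ with hξ
  have hξζ : ξ ⤳ ζ := by
    have : ξ ∈ Set.range (X.fromSpecStalk ζ) := ⟨_, rfl⟩
    rw [Scheme.range_fromSpecStalk] at this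
    exact this
  have hξmax : ∀ ξ' : X, ξ' ⤳ ξ → ξ' = ξ := fun ξ' h =>
    Groth.Agent.Lib.Helper21.EquidimAt.eq_of_specializes_fromSpecStalk_of_minimal ζ 𝔭 h𝔭min ξ' h
  obtain ⟨E, hE⟩ := exists_nat_trdeg_residueFieldMap f ξ
  have hineq := Groth.Agent.Lib.Helper21.DimLoc.ringKrullDim_quotient_inequality f ζ 𝔭 n E hn hE
  have hca := ringKrullDim_stalk_le_of_isOpenAt f ζ hop
  have hChev := le_fibreDimAt_of_specializes f hξζ E hE
  haveI h𝔮p : (𝔭.comap (f.stalkMap ζ).hom).IsPrime := Ideal.comap_isPrime _ _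
  have hquot := height_add_ringKrullDim_quotient_le (𝔭.comap (f.stalkMap ζ).hom)
  haveI : IsLocalRing (Y.presheaf.stalk (f ζ) ⧸ 𝔭.comap (f.stalkMap ζ).hom) :=
    isLocalRing_quotient_of_le_maximalIdeal (le_maximalIdeal h𝔮p.ne_top)
  obtain ⟨aq, haq⟩ := exists_nat_eq_ringKrullDim
    (R := Y.presheaf.stalk (f ζ) ⧸ 𝔭.comap (f.stalkMap ζ).hom)
  obtain ⟨a, ha⟩ := Groth.Agent.Lib.Helper18.SerreReg.exists_ringKrullDim_eq_nat
    (Y.presheaf.stalk (f ζ))
  obtain ⟨c, hc⟩ := Groth.Agent.Lib.Helper18.SerreReg.exists_ringKrullDim_eq_nat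
    (X.presheaf.stalk ζ)
  have hht : (𝔭.comap (f.stalkMap ζ).hom).height ≠ ⊤ := Ideal.height_ne_top h𝔮p.ne_top
  obtain ⟨h, hh⟩ := ENat.ne_top_iff_exists.mp hht
  rw [h𝔭dim, hc, haq] at hineq
  rw [ha, hc] at hca
  rw [hFζ] at hChev
  rw [haq, ha, ← hh] at hquot
  have h1 : c + n ≤ aq + E := by exact_mod_cast hineq
  have h2 : a ≤ c := by exact_mod_cast hca
  have h3 : E ≤ n := by exact_mod_cast hChev
  have h4 : h + aq ≤ a := by exact_mod_cast hquot
  have h5 : h = 0 := by omega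
  have h6 : E = n := by omega
  refine ⟨ξ, hξζ, hξmax, ?_, by rw [hE, h6]⟩
  have hmin : 𝔭.comap (f.stalkMap ζ).hom ∈ minimalPrimes (Y.presheaf.stalk (f ζ)) := by
    rw [← Ideal.height_eq_zero_iff, ← hh, h5]
    rfl
  intro t ht
  have hmap := map_fromSpecStalk f ζ ⟨𝔭, h𝔭p⟩
  rw [← hξ] at hmap
  rw [← hmap] at ht ⊢
  exact Groth.Agent.Lib.Helper21.EquidimAt.eq_of_specializes_fromSpecStalk_of_minimal (f ζ)
    (𝔭.comap (f.stalkMap ζ).hom) hmin t ht

end Groth.Agent.Lib.Helper21.OpenAt
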