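import Groth.Agent.Lib.Helper21.OpenAt8

/-!
# Equidimensionality at a point in terms of the irreducible components through the point
(EGA IV 13.3.1.1)
-/

set_option autoImplicit false
set_option linter.style.haveILetI false
set_option linter.unusedSectionVars false
universe u

open AlgebraicGeometry CategoryTheory Limits TopologicalSpace IsLocalRing

namespace Groth.Agent.Lib.Helper21.OpenAt

open Groth.Agent.Lib.Helper21.FibDim Groth.Agent.Lib.Helper21.EquiSub
  Groth.Agent.Lib.Helper21.FourCond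

variable {X Y : Scheme.{u}}

/-- the local fibre dimension does not increase on a subscheme -/
theorem fibreDimAt_comp_le {W : Scheme.{u}} (ι : W ⟶ X) [SurjectiveOnStalks ι] (f : X ⟶ Y)
    [LocallyOfFiniteType f] [LocallyOfFiniteType (ι ≫ f)] (w : W) :
    FlatMor.fibreDimAt (ι ≫ f) w ≤ FlatMor.fibreDimAt f (ι w) := by
  obtain ⟨N, hN, ⟨τ, hτw, hfτ, hτN⟩, -⟩ := exists_fibreDimAt_eq_trdeg (ι ≫ f) w
  obtain ⟨M, hM, -, hall⟩ := exists_fibreDimAt_eq_trdeg f (ι w)
  have h1 := hall (ι τ) (hτw.map ι.continuous) hfτ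
  rw [trdeg_of_comp_of_surjectiveOnStalks ι f τ N hτN] at h1
  rw [hN, hM]
  have : N ≤ M := by exact_mod_cast h1
  exact_mod_cast this

/-- the local fibre dimension at a point maximal in its fibre -/
theorem fibreDimAt_eq_trdeg_of_maximal (f : X ⟶ Y) [LocallyOfFiniteType f] (ζ : X)
    (hζmax : ∀ τ : X, τ ⤳ ζ → f τ = f ζ → τ = ζ) (n : ℕ)
    (hn : @Algebra.trdeg (Y.residueField (f ζ)) (X.residueField ζ) _ _
      (f.residueFieldMap ζ).hom.toAlgebra = n) :
    FlatMor.fibreDimAt f ζ = n := by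
  obtain ⟨N, hN, ⟨τ, hτζ, hfτ, hτN⟩, -⟩ := exists_fibreDimAt_eq_trdeg f ζ
  rw [trdeg_eq_of_eq f (hζmax τ hτζ hfτ).symm n hn] at hτN
  have : n = N := by exact_mod_cast hτN
  rw [hN, this]

/-- the data of the irreducible component `closure {ξ}` at a point `x` -/
theorem component_facts (f : X ⟶ Y) [LocallyOfFiniteType f] (ξ x : X) (hξx : ξ ⤳ x) (E : ℕ)
    (hE : @Algebra.trdeg (Y.residueField (f ξ)) (X.residueField ξ) _ _
      (f.residueFieldMap ξ).hom.toAlgebra = E)
    (hx : x ∈ closure ({ξ} : Set X)) :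
    (E : WithBot ℕ∞) ≤ FlatMor.localDim ↥(closure ({ξ} : Set X) ∩ f.base ⁻¹' {f.base x})
        ⟨x, ⟨hx, Set.mem_singleton (f.base x)⟩⟩ ∧
      FlatMor.localDim ↥(closure ({ξ} : Set X) ∩ f.base ⁻¹' {f.base x})
        ⟨x, ⟨hx, Set.mem_singleton (f.base x)⟩⟩ ≤ FlatMor.fibreDimAt f x ∧
      ∀ τ : X, ξ ⤳ τ → τ ⤳ x → f τ = f x → ∀ N : ℕ,
        @Algebra.trdeg (Y.residueField (f τ)) (X.residueField τ) _ _
          (f.residueFieldMap τ).hom.toAlgebra = N →
        (N : WithBot ℕ∞) ≤ FlatMor.localDim ↥(closure ({ξ} : Set X) ∩ f.base ⁻¹' {f.base x})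
          ⟨x, ⟨hx, Set.mem_singleton (f.base x)⟩⟩ := by
  let X' : TopologicalSpace.Closeds X := ⟨closure {ξ}, isClosed_closure⟩
  let I := Scheme.IdealSheafData.vanishingIdeal X'
  let ι := I.subschemeι
  have hr : Set.range ι.base = closure ({ξ} : Set X) := by
    rw [Scheme.IdealSheafData.range_subschemeι, Scheme.IdealSheafData.coe_support_vanishingIdeal]
    rfl
  have hemb : Topology.IsEmbedding ι.base := ι.isEmbedding
  obtain ⟨w, hw⟩ : x ∈ Set.range ι.base := by rw [hr]; exact hx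
  obtain ⟨ξ', hξ'⟩ : ξ ∈ Set.range ι.base := by rw [hr]; exact subset_closure rfl
  have hbridge := localDim_inter_preimage_eq_fibreDimAt' ι hemb f (closure ({ξ} : Set X)) hr
    w x hw hx
  rw [hbridge]
  have hgen : ∀ u : I.subscheme, ξ' ⤳ u := by
    intro u
    rw [← hemb.isInducing.specializes_iff, specializes_iff_mem_closure, hξ', ← hr]
    exact ⟨u, rfl⟩
  refine ⟨?_, ?_, ?_⟩
  · have hE' : @Algebra.trdeg (Y.residueField ((ι ≫ f) ξ')) (I.subscheme.residueField ξ') _ _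
        ((ι ≫ f).residueFieldMap ξ').hom.toAlgebra = E :=
      Groth.Agent.Lib.Helper21.IrrFib.trdeg_comp_of_surjectiveOnStalks ι f ξ' E
        (trdeg_eq_of_eq f hξ'.symm E hE)
    exact le_fibreDimAt_of_specializes (ι ≫ f) (hgen w) E hE'
  · have := fibreDimAt_comp_le ι f w
    rw [hw] at this
    exact this
  · intro τ hξτ hτx hfτ N hN
    obtain ⟨τ', hτ'⟩ : τ ∈ Set.range ι.base := by
      rw [hr]
      exact specializes_iff_mem_closure.mp hξτ
    obtain ⟨M, hM, -, hall⟩ := exists_fibreDimAt_eq_trdeg (ι ≫ f) w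
    have h1 : τ' ⤳ w := by
      rw [← hemb.isInducing.specializes_iff, hτ', hw]
      exact hτx
    have h2 : (ι ≫ f) τ' = (ι ≫ f) w := by
      change f (ι τ') = f (ι w)
      rw [hτ', hw]
      exact hfτ
    have h3 := hall τ' h1 h2
    rw [Groth.Agent.Lib.Helper21.IrrFib.trdeg_comp_of_surjectiveOnStalks ι f τ' N
      (trdeg_eq_of_eq f hτ'.symm N hN)] at h3
    rw [hM]
    have : N ≤ M := by exact_mod_cast h3
    exact_mod_cast this

end Groth.Agent.Lib.Helper21.OpenAt
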