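import Groth.Agent.Lib.Helper21.PC14
import Groth.Agent.Lib.Helper29.RelAmple2
import Groth.Agent.Lib.Helper29.PA2
import Groth.Agent.Lib.Lead.ToImageDominant

/-!
# Projective completion of curves XV: quasi-projectivity
-/

set_option autoImplicit false
set_option linter.style.haveILetI false
set_option linter.unusedSectionVars false
universe u
open CategoryTheory CategoryTheory.Limits AlgebraicGeometry TopologicalSpace
open Groth.Agent.Lib.Helper29.QCoh

namespace Groth.Agent.Lib.Helper21.PC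

/-- **Zariski's main theorem**: a separated quasi-finite morphism is quasi-affine -/
theorem isQuasiAffine_of_locallyQuasiFinite {X Y : Scheme.{u}} (g : X ⟶ Y) [LocallyQuasiFinite g]
    [LocallyOfFiniteType g] [IsSeparated g] [QuasiCompact g] : Mor2.IsQuasiAffine g := by
  refine ⟨inferInstance, fun V hV => ?_⟩
  have hW : IsAffineOpen (g.fromNormalization ⁻¹ᵁ V) := hV.preimage g.fromNormalization
  haveI : IsAffine (g.fromNormalization ⁻¹ᵁ V : Scheme.{u}) := hW
  have he : g ⁻¹ᵁ V = g.toNormalization ⁻¹ᵁ (g.fromNormalization ⁻¹ᵁ V) := by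
    rw [← Scheme.Hom.comp_preimage, g.toNormalization_fromNormalization]
  have hc : IsCompact ((g ⁻¹ᵁ V : X.Opens) : Set X) :=
    QuasiCompact.isCompact_preimage (f := g) _ V.2 hV.isCompact
  rw [he] at hc ⊢
  haveI : CompactSpace (g.toNormalization ⁻¹ᵁ (g.fromNormalization ⁻¹ᵁ V) : Scheme.{u}) :=
    isCompact_iff_compactSpace.mp hc
  exact Scheme.IsQuasiAffine.of_isImmersion
    (g.toNormalization ∣_ (g.fromNormalization ⁻¹ᵁ V))

variable (k : Type u) [Field k] (X : Scheme.{u}) (sX : X ⟶ Spec (CommRingCat.of k))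
  [IsSeparated sX] [LocallyOfFiniteType sX] [QuasiCompact sX]

include k sX in
/-- a separated scheme of finite type and of dimension `≤ 1` over a field has an ample invertible
sheaf -/
theorem exists_isAmple (hdim : topologicalKrullDim X ≤ 1) :
    ∃ L : X.Modules, CohB1.IsAmple L := by
  obtain ⟨g, hg, hq⟩ := exists_quasiFinite_P1 k X sX hdim
  haveI hprop : IsProper (CohB1.ProjSpace.toSpec 1 k) := Groth.Agent.S9705.isProper_toSpec 1 k
  haveI : IsSeparated (g ≫ CohB1.ProjSpace.toSpec 1 k) := by rw [hg]; infer_instance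
  haveI : QuasiCompact (g ≫ CohB1.ProjSpace.toSpec 1 k) := by rw [hg]; infer_instance
  haveI : LocallyOfFiniteType (g ≫ CohB1.ProjSpace.toSpec 1 k) := by rw [hg]; infer_instance
  haveI : IsSeparated g := IsSeparated.of_comp g (CohB1.ProjSpace.toSpec 1 k)
  haveI : QuasiCompact g := QuasiCompact.of_comp g (CohB1.ProjSpace.toSpec 1 k)
  haveI : LocallyOfFiniteType g := locallyOfFiniteType_of_comp g (CohB1.ProjSpace.toSpec 1 k)
  have h1 : CohB1.IsAmple (Twist.twist (CohB1.polyGrading 1 k) 1) :=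
    isAmple_twist_one_of_cover (projSpace_degree_one_cover 1 k)
  exact ⟨_, isAmple_pullback_of_isQuasiAffine g (isQuasiAffine_of_locallyQuasiFinite g) h1⟩

/-- a separated scheme of finite type and of dimension `≤ 1` over a field is quasi-projective -/
theorem exists_immersion (hdim : topologicalKrullDim X ≤ 1) :
    ∃ (n : ℕ) (i : X ⟶ CohB1.ProjSpace n k), IsImmersion i ∧ QuasiCompact i ∧
      i ≫ CohB1.ProjSpace.toSpec n k = sX := by
  obtain ⟨L, hA⟩ := exists_isAmple k X sX hdim
  obtain ⟨k₀, hk₀⟩ := exists_isRelVeryAmplePn_of_isAmple sX hA (isInvertible_unit X)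
  obtain ⟨n, i, hi, hif, -⟩ := hk₀ k₀ le_rfl
  obtain ⟨α, β, hα, hαβ⟩ := exists_splitMono_projSpaceOver_spec n k
  have hif' : i ≫ CohB1.ProjSpaceOver.toBase n (Spec (CommRingCat.of k)) = sX := hif
  have hj : (i ≫ α) ≫ CohB1.ProjSpace.toSpec n k = sX := by
    rw [Category.assoc, hα, hif']
  have hjβ : (i ≫ α) ≫ β = i := by rw [Category.assoc, hαβ, Category.comp_id]
  have : IsImmersion ((i ≫ α) ≫ β) := by rw [hjβ]; exact hi
  have himm : IsImmersion (i ≫ α) := IsImmersion.of_comp (i ≫ α) β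
  haveI hprop : IsProper (CohB1.ProjSpace.toSpec n k) := Groth.Agent.S9705.isProper_toSpec n k
  haveI : QuasiCompact ((i ≫ α) ≫ CohB1.ProjSpace.toSpec n k) := by rw [hj]; infer_instance
  exact ⟨n, i ≫ α, himm, QuasiCompact.of_comp (i ≫ α) (CohB1.ProjSpace.toSpec n k), hj⟩

end Groth.Agent.Lib.Helper21.PC
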