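import Groth.Agent.Lib.Helper21.CDeg9
import Groth.Agent.Lib.Helper21.PC15
import Groth.Agent.Lib.Lead.TwistExact

/-!
# Additivity of the degree of invertible modules on proper integral curves
-/

set_option autoImplicit false
set_option linter.style.haveILetI false
set_option linter.unusedSectionVars false
universe u
open CategoryTheory CategoryTheory.Limits AlgebraicGeometry TopologicalSpace Opposite

namespace Groth.Agent.Lib.Helper21.CDeg

open Groth.Agent.Lib.Helper29.QCoh Groth.Agent.Lib.Lead.LinLES Groth.Agent.Lib.Lead.TwistExact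

variable (k : Type u) [Field k] (X : Scheme.{u}) [X.Over (Spec (CommRingCat.of k))]

section Iso

variable {X}

/-- The linear equivalence on cohomology induced by an isomorphism of modules. -/
noncomputable def HHlinEquiv {M N : X.Modules} (e : M ≅ N) (q : ℕ) :
    Coh.HH X M q ≃ₗ[k] Coh.HH X N q :=
  LinearEquiv.ofLinearMap (Canon.HHlin k e.hom q) (Canon.HHlin k e.inv q)
    (by
      ext x
      change Canon.HHlin k e.hom q (Canon.HHlin k e.inv q x) = x
      rw [← HHlin_comp, e.inv_hom_id, HHlin_id])
    (by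
      ext x
      change Canon.HHlin k e.inv q (Canon.HHlin k e.hom q x) = x
      rw [← HHlin_comp, e.hom_inv_id, HHlin_id])

theorem euler_of_iso {M N : X.Modules} (e : M ≅ N) : Curv2.euler k X M = Curv2.euler k X N := by
  unfold Curv2.euler
  congr 1
  funext i
  rw [(HHlinEquiv k e i).finrank_eq]

theorem deg_of_iso {M N : X.Modules} (e : M ≅ N) (n : ℕ) :
    Curv2.deg k X M n = Curv2.deg k X N n := by
  unfold Curv2.deg
  rw [euler_of_iso k e]

end Iso

variable [IsIntegral X] [IsProper (X ↘ (Spec (CommRingCat.of k)))]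

include k in
/-- a section of an invertible module with nonempty generating locus is nonzero -/
theorem ne_zero_of_mem_genLocus {L : X.Modules} (s : unitM X ⟶ L) {x : X}
    (hx : x ∈ CohB1.genLocus L s) : s ≠ 0 := by
  rintro rfl
  obtain ⟨U, hxU, hU⟩ := (mem_genLocus_iff (0 : unitM X ⟶ L) x).mp hx
  have h1 : (toUnit (1 : Γ(X, U)) : Γ(unitM X, U)) = toUnit (0 : Γ(X, U)) :=
    (hU U le_rfl).1 rfl
  have h2 : (1 : Γ(X, U)) = 0 := h1
  have h3 : X.presheaf.germ U x hxU 1 = X.presheaf.germ U x hxU 0 := by rw [h2]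
  rw [map_one, map_zero] at h3
  exact one_ne_zero h3

include k in
/-- **additivity of the degree** when the first factor has a nonzero section -/
theorem deg_tensorMod_of_section (hdim : topologicalKrullDim X ≤ 1) {N G : X.Modules}
    (hN : PicF.IsInvertible N) (hG : PicF.IsInvertible G) (c : unitM X ⟶ N) (hc : c ≠ 0) :
    Curv2.deg k X (CohB1.tensorMod N G) 1 = Curv2.deg k X N 1 + Curv2.deg k X G 1 := by
  haveI : IsLocallyNoetherian X :=
    LocallyOfFiniteType.isLocallyNoetherian (X ↘ Spec (CommRingCat.of k))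
  haveI hmono : Mono c := mono_of_ne_zero (isInvertible_unit X) hN c hc
  have hOc : Coh.IsCoh (unitM X) := ⟨isQuasicoherent_of_isInvertible (isInvertible_unit X),
    isFiniteType_of_isInvertible (isInvertible_unit X)⟩
  have hNc : Coh.IsCoh N := ⟨isQuasicoherent_of_isInvertible hN, isFiniteType_of_isInvertible hN⟩
  have hGc : Coh.IsCoh G := ⟨isQuasicoherent_of_isInvertible hG, isFiniteType_of_isInvertible hG⟩
  have hQc : Coh.IsCoh (cokernel c) := Groth.Agent.Lib.Helper12.H12Dev.isCoh_cokernel c hOc hNc
  haveI : (cokernel c).IsQuasicoherent := hQc.1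
  have hS : (ShortComplex.mk c (cokernel.π c) (cokernel.condition c)).ShortExact :=
    ShortComplex.ShortExact.mk' (ShortComplex.exact_of_g_is_cokernel _ (cokernelIsCokernel c))
      hmono inferInstance
  have hS' := shortExact_map_tensorRight (isFlat_of_isInvertible hG) _ hS
  have hadd := Groth.Agent.S1524.result k X _ hS'
    (Groth.Agent.Lib.Helper12.H12Fin.isCoh_tensorMod' hOc hGc)
    (Groth.Agent.Lib.Helper12.H12Fin.isCoh_tensorMod' hNc hGc)
    (Groth.Agent.Lib.Helper12.H12Fin.isCoh_tensorMod' hQc hGc)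
  change Curv2.euler k X (CohB1.tensorMod N G) = Curv2.euler k X (CohB1.tensorMod (unitM X) G) +
    Curv2.euler k X (CohB1.tensorMod (cokernel c) G) at hadd
  rw [euler_of_iso k (tensorUnitL G)] at hadd
  -- the twisted cokernel
  have hZ : ∀ T : Set X, T ⊆ ((CohB1.genLocus N c : X.Opens) : Set X)ᶜ → IsClosed T :=
    fun T hT => isClosed_of_subset_compl_genLocus hdim hN c hc hT
  have hQ : ∀ x, x ∉ ((CohB1.genLocus N c : X.Opens) : Set X)ᶜ →
      Subsingleton ((cokernel c).presheaf.stalk x) := by
    intro x hx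
    rw [Set.notMem_compl_iff] at hx
    exact subsingleton_stalk_cokernel_of_mem_genLocus c hx
  obtain ⟨Ψ⟩ := nonempty_linearEquiv_HH_zero_tensorMod k (cokernel c) G hG _ hZ hQ
  have hsupp : CohB1.support (CohB1.tensorMod (cokernel c) G) ⊆
      ((CohB1.genLocus N c : X.Opens) : Set X)ᶜ := by
    intro x hx hmem
    exact hx (subsingleton_stalk_tensorMod (cokernel c) G hG x
      (subsingleton_stalk_cokernel_of_mem_genLocus c hmem))
  haveI : Subsingleton (Coh.HH X (CohB1.tensorMod (cokernel c) G) 1) :=
    subsingleton_HH_succ_of_support_hereditarily_closed _ (fun T hT => hZ T (hT.trans hsupp)) 0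
  have heQ : Curv2.euler k X (CohB1.tensorMod (cokernel c) G) =
      (Module.finrank k (Coh.HH X (cokernel c) 0) : ℤ) := by
    rw [euler_eq_sub k X hdim, Module.finrank_zero_of_subsingleton (M := Coh.HH X _ 1),
      ← Ψ.finrank_eq]
    simp
  obtain ⟨hdegN, -⟩ := deg_eq_finrank_of_section k X hdim hN c hc
  rw [heQ, ← hdegN] at hadd
  unfold Curv2.deg at hdegN ⊢
  rw [hadd]
  unfold Curv2.deg
  ring

include k in
/-- a globally generated invertible module on an integral scheme has a nonzero section -/
theorem exists_section_ne_zero_of_isGloballyGenerated {P : X.Modules} (hP : PicF.IsInvertible P)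
    (hgg : Curv2.IsGloballyGenerated P) : ∃ s : unitM X ⟶ P, s ≠ 0 := by
  obtain ⟨ι, p, hp⟩ := hgg
  let p' : freeM X ι ⟶ P := p
  haveI : Epi p' := hp
  obtain ⟨i, hi⟩ := exists_mem_genLocus_of_epi hP p' (genericPoint X)
  exact ⟨_, ne_zero_of_mem_genLocus k X _ hi⟩

include k in
/-- **additivity of the degree of invertible modules** on a proper integral curve -/
theorem deg_tensorMod (hdim : topologicalKrullDim X ≤ 1) {M G : X.Modules}
    (hM : PicF.IsInvertible M) (hG : PicF.IsInvertible G) :
    Curv2.deg k X (CohB1.tensorMod M G) 1 = Curv2.deg k X M 1 + Curv2.deg k X G 1 := by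
  haveI : IsLocallyNoetherian X :=
    LocallyOfFiniteType.isLocallyNoetherian (X ↘ Spec (CommRingCat.of k))
  obtain ⟨A, hA⟩ := Groth.Agent.Lib.Helper21.PC.exists_isAmple k X
    (X ↘ (Spec (CommRingCat.of k))) hdim
  have hAi := hA.1
  haveI := isQuasicoherent_of_isInvertible hM
  haveI := isFiniteType_of_isInvertible hM
  haveI := isQuasicoherent_of_isInvertible (isInvertible_unit X)
  haveI := isFiniteType_of_isInvertible (isInvertible_unit X)
  obtain ⟨n₁, hn₁⟩ := exists_isGloballyGenerated_twist hA M
  obtain ⟨n₂, hn₂⟩ := exists_isGloballyGenerated_twist hA (unitM X)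
  have hgg1 := hn₁ (max n₁ n₂) (le_max_left _ _)
  have hgg2 := hn₂ (max n₁ n₂) (le_max_right _ _)
  have hP : PicF.IsInvertible (CohB1.tensorPow A (max n₁ n₂)) := isInvertible_tensorPow hAi _
  generalize CohB1.tensorPow A (max n₁ n₂) = P at hgg1 hgg2 hP
  have hMP : PicF.IsInvertible (CohB1.tensorMod M P) := isInvertible_tensorMod hM hP
  obtain ⟨b, hb⟩ := exists_section_ne_zero_of_isGloballyGenerated k X hMP hgg1
  obtain ⟨a', ha'⟩ := exists_section_ne_zero_of_isGloballyGenerated k X
    (isInvertible_tensorMod (isInvertible_unit X) hP) hgg2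
  -- transport the section of `O ⊗ P` to `P`
  have ha : a' ≫ (tensorUnitL P).hom ≠ 0 := by
    intro h0
    apply ha'
    have : a' = (a' ≫ (tensorUnitL P).hom) ≫ (tensorUnitL P).inv := by
      rw [Category.assoc, Iso.hom_inv_id, Category.comp_id]
    rw [this, h0, zero_comp]
  have h1 := deg_tensorMod_of_section k X hdim hMP hG b hb
  have h2 := deg_tensorMod_of_section k X hdim hP hM _ ha
  have h3 := deg_tensorMod_of_section k X hdim hP (isInvertible_tensorMod hM hG) _ ha
  have e1 : CohB1.tensorMod M P ≅ CohB1.tensorMod P M := tensorBraid M P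
  have e2 : CohB1.tensorMod (CohB1.tensorMod M P) G ≅ CohB1.tensorMod P (CohB1.tensorMod M G) :=
    tensorCongr (tensorBraid M P) (Iso.refl G) ≪≫ tensorAssoc P M G
  rw [deg_of_iso k e1 1, h2] at h1
  rw [deg_of_iso k e2 1, h3] at h1
  linarith

include k in
/-- the degree of a tensor power -/
theorem deg_tensorPow (hdim : topologicalKrullDim X ≤ 1) {L : X.Modules}
    (hL : PicF.IsInvertible L) (n : ℕ) :
    Curv2.deg k X (CohB1.tensorPow L n) 1 = n * Curv2.deg k X L 1 := by
  induction n with
  | zero =>
    change Curv2.deg k X (Coh.structureModule X) 1 = _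
    rw [deg_structureModule]
    simp
  | succ n ih =>
    change Curv2.deg k X (CohB1.tensorMod (CohB1.tensorPow L n) L) 1 = _
    rw [deg_tensorMod k X hdim (isInvertible_tensorPow hL n) hL, ih]
    push_cast
    ring

end Groth.Agent.Lib.Helper21.CDeg
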