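import Groth.Agent.Lib.Helper21.OpenAt2

/-!
# Morphisms open at the maximal points of a fibre: equidimensionality (EGA IV 14.2.2)
-/

set_option autoImplicit false
set_option linter.style.haveILetI false
set_option linter.unusedSectionVars false
universe u

open AlgebraicGeometry CategoryTheory Limits TopologicalSpace IsLocalRing

namespace Groth.Agent.Lib.Helper21.OpenAt

open Groth.Agent.Lib.Helper21.FibDim Groth.Agent.Lib.Helper21.EquiSub
  Groth.Agent.Lib.Helper21.FourCond

variable {X Y : Scheme.{u}}

/-- the dimension formula of EGA IV 14.2.1 -/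
theorem ringKrullDim_stalk_eq_of_isOpenAt [IsLocallyNoetherian X] [IsLocallyNoetherian Y]
    (f : X ⟶ Y) (x : X)
    (h : ∀ z : ↥(f.fiber (f.base x)), f.asFiber x ∈ closure {z} →
      (∀ z' : ↥(f.fiber (f.base x)), z ∈ closure {z'} → z' = z) →
      EGA43.IsOpenAt f.base ((f.fiberι (f.base x)).base z)) :
    ringKrullDim (X.presheaf.stalk x) =
      ringKrullDim (Y.presheaf.stalk (f.base x)) +
        ringKrullDim ((f.fiber (f.base x)).presheaf.stalk (f.asFiber x)) := by
  apply le_antisymm
  · exact ringKrullDim_stalk_le_add_fiber f x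
  · have h1 := add_le_ringKrullDim_stalk_of_isOpenAt f (f.base x) (f.asFiber x) h
    have h2 : (f.fiberι (f.base x)) (f.asFiber x) = x := Scheme.Hom.fiberι_asFiber f x
    rw [ringKrullDim_stalk_congr h2] at h1
    exact h1

/-- if `f` is open at the maximal points of the fibre through `x`, the local fibre dimension at
`x` is bounded by the residue transcendence degrees at the maximal points of `X` through `x` -/
theorem fibreDimAt_le_of_isOpenAt [IsLocallyNoetherian Y] (f : X ⟶ Y) [LocallyOfFiniteType f]
    (x : X)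
    (h : ∀ z : ↥(f.fiber (f.base x)), f.asFiber x ∈ closure {z} →
      (∀ z' : ↥(f.fiber (f.base x)), z ∈ closure {z'} → z' = z) →
      EGA43.IsOpenAt f.base ((f.fiberι (f.base x)).base z)) (E : ℕ)
    (hE : ∀ ξ : X, closure {ξ} ∈ irreducibleComponents ↥X → ξ ⤳ x →
      @Algebra.trdeg (Y.residueField (f ξ)) (X.residueField ξ) _ _
        (f.residueFieldMap ξ).hom.toAlgebra ≤ E) :
    FlatMor.fibreDimAt f x ≤ E := by
  haveI : IsLocallyNoetherian X := LocallyOfFiniteType.isLocallyNoetherian f
  have hform := ringKrullDim_stalk_eq_of_isOpenAt f x h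
  obtain ⟨n, k, hn, hk, hF⟩ := exists_fibreDimAt_eq_add f x
  have hineq := Groth.Agent.Lib.Helper18.SchDim.stalk_dim_inequality f x n E hn hE
  obtain ⟨a, ha⟩ := Groth.Agent.Lib.Helper18.SerreReg.exists_ringKrullDim_eq_nat
    (Y.presheaf.stalk (f x))
  obtain ⟨b, hb⟩ := Groth.Agent.Lib.Helper18.SerreReg.exists_ringKrullDim_eq_nat
    (X.presheaf.stalk x)
  rw [hb, ha] at hineq
  rw [hb] at hform
  have hform' : ringKrullDim (Y.presheaf.stalk (f x)) +
      ringKrullDim ((f.fiber (f x)).presheaf.stalk (f.asFiber x)) = (b : WithBot ℕ∞) :=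
    hform.symm
  rw [ha, hk] at hform'
  have h1 : a + k = b := by exact_mod_cast hform'
  have h2 : b + n ≤ a + E := by exact_mod_cast hineq
  rw [hF]
  have h3 : n + k ≤ E := by omega
  exact_mod_cast h3

/-- **EGA IV 14.2.2**: a dominant morphism locally of finite type from an irreducible scheme to
a locally Noetherian scheme, open at the maximal points of the fibre through `x`, is
equidimensional at `x` -/
theorem isEquidimAt_of_isOpenAt_of_irreducible [IsLocallyNoetherian Y] [IrreducibleSpace X]
    (f : X ⟶ Y) [LocallyOfFiniteType f] [IsDominant f] (x : X)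
    (h : ∀ z : ↥(f.fiber (f.base x)), f.asFiber x ∈ closure {z} →
      (∀ z' : ↥(f.fiber (f.base x)), z ∈ closure {z'} → z' = z) →
      EGA43.IsOpenAt f.base ((f.fiberι (f.base x)).base z)) :
    EGA43.IsEquidimAt f x := by
  haveI : IrreducibleSpace Y := by
    have hd : DenseRange f.base := f.denseRange
    have hirr : IsIrreducible (Set.range f.base) := by
      rw [← Set.image_univ]
      exact (IrreducibleSpace.isIrreducible_univ X).image f.base f.continuous.continuousOn
    have h2 : IsIrreducible (closure (Set.range f.base)) := hirr.closure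
    rw [hd.closure_range] at h2
    exact (irreducibleSpace_def Y).mpr h2
  set ξ := genericPoint X with hξ
  have hgen : ∀ u : X, ξ ⤳ u := fun u => genericPoint_specializes u
  have hfξ : f ξ = genericPoint Y := by
    have h1 : IsGenericPoint (f ξ) (closure (f.base '' (⊤ : Set X))) :=
      (genericPoint_spec X).image f.continuous
    rw [Set.top_eq_univ, Set.image_univ, f.denseRange.closure_range] at h1
    exact h1.eq (genericPoint_spec Y)
  obtain ⟨e, he⟩ := exists_nat_trdeg_residueFieldMap f ξ
  let O : X.Opens :=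
    ⟨{u | ((e + 1 : ℕ) : WithBot ℕ∞) ≤ FlatMor.fibreDimAt f u}ᶜ,
      (Groth.Agent.Lib.Helper18.FibSemi.isClosed_setOf_le_fibreDimAt f (e + 1)).isOpen_compl⟩
  have hO : ∀ u ∈ O, FlatMor.fibreDimAt f u = e := by
    intro u hu
    have hl := le_fibreDimAt_of_specializes f (hgen u) e he
    obtain ⟨M, hM, -, -⟩ := exists_fibreDimAt_eq_trdeg f u
    have hu' : ¬ ((e + 1 : ℕ) : WithBot ℕ∞) ≤ FlatMor.fibreDimAt f u := hu
    rw [hM] at hl hu' ⊢
    have h5 : e ≤ M := by exact_mod_cast hl
    have h6 : ¬ (e + 1 ≤ M) := by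
      intro h
      exact hu' (by exact_mod_cast h)
    have : M = e := by omega
    rw [this]
  have hxO : x ∈ O := by
    have hle := fibreDimAt_le_of_isOpenAt f x h e (by
      intro ξ' hξ' _
      have h1 : ξ' = ξ := by
        have h2 : closure ({ξ} : Set X) ⊆ closure {ξ'} := by
          have h3 : closure ({ξ'} : Set X) ⊆ closure {ξ} :=
            specializes_iff_closure_subset.mp (hgen ξ')
          exact hξ'.2 isIrreducible_singleton.closure h3
        have h4 : ξ' ⤳ ξ := specializes_iff_closure_subset.mpr h2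
        exact (h4.antisymm (hgen ξ')).eq
      rw [h1, he])
    intro hcon
    have hcon' : ((e + 1 : ℕ) : WithBot ℕ∞) ≤ FlatMor.fibreDimAt f x := hcon
    obtain ⟨M, hM, -, -⟩ := exists_fibreDimAt_eq_trdeg f x
    rw [hM] at hle hcon'
    have h5 : M ≤ e := by exact_mod_cast hle
    have h6 : e + 1 ≤ M := by exact_mod_cast hcon'
    omega
  exact isEquidimAt_of_forall_fibreDimAt f x O hxO ξ
    ((hgen x).mem_open O.2 hxO) (fun u _ => hgen u) hfξ e hO

end Groth.Agent.Lib.Helper21.OpenAt
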