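import Groth.Agent.Lib.Helper21.MirTFAE1
import Groth.Agent.Lib.Helper21.OpenAt3
import Groth.Agent.Lib.Helper18.FlG
import Groth.Agent.Lib.Helper14.UnivOpenAt

/-!
# Flatness, universal openness and the dimension formula over a regular base (EGA IV 15.4.2)
-/

set_option autoImplicit false
set_option linter.style.haveILetI false
universe u

open AlgebraicGeometry CategoryTheory Limits IsLocalRing

namespace Groth.Agent.Lib.Helper21.MirTFAE

variable {X Y : Scheme.{u}}

/-- flat at `x` implies universally open on a neighbourhood -/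
theorem exists_universallyOpen_nhd_of_flat [IsLocallyNoetherian Y] (f : X ⟶ Y)
    [LocallyOfFiniteType f] (x : X) (hflat : (f.stalkMap x).hom.Flat) :
    ∃ U : X.Opens, x ∈ U ∧ UniversallyOpen (U.ι ≫ f) := by
  haveI : LocallyOfFinitePresentation f :=
    LocallyOfFinitePresentation.iff_locallyOfFiniteType.mpr inferInstance
  let U : X.Opens := ⟨_, Groth.Agent.Lib.Helper18.Fl.isOpen_flatLocus_scheme f⟩
  refine ⟨U, hflat, ?_⟩
  haveI : Flat (U.ι ≫ f) := by
    rw [Flat.iff_flat_stalkMap]
    intro u
    rw [Scheme.Hom.stalkMap_comp]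
    have h1 : (f.stalkMap (U.ι.base u)).hom.Flat := u.2
    haveI : IsIso (U.ι.stalkMap u) := inferInstance
    have h2 : (U.ι.stalkMap u).hom.Flat :=
      RingHom.Flat.of_bijective (ConcreteCategory.bijective_of_isIso (U.ι.stalkMap u))
    exact RingHom.Flat.comp h1 h2
  infer_instance

/-- miracle flatness for schemes -/
theorem flat_stalkMap_of_dim_formula [IsLocallyNoetherian Y] (f : X ⟶ Y)
    [LocallyOfFiniteType f] (x : X) (hreg : IsRegularLocalRing (Y.presheaf.stalk (f.base x)))
    (hCM : LocCoh.IsCohenMacaulayLocalRing (X.presheaf.stalk x))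
    (hdim : ringKrullDim (X.presheaf.stalk x) =
      ringKrullDim (Y.presheaf.stalk (f.base x)) +
        ringKrullDim ((f.fiber (f.base x)).presheaf.stalk (f.asFiber x))) :
    (f.stalkMap x).hom.Flat := by
  letI alg : Algebra (Y.presheaf.stalk (f.base x)) (X.presheaf.stalk x) :=
    (f.stalkMap x).hom.toAlgebra
  haveI : IsLocalHom (algebraMap (Y.presheaf.stalk (f.base x)) (X.presheaf.stalk x)) :=
    inferInstanceAs (IsLocalHom (f.stalkMap x).hom)
  have h1 := Groth.Agent.Lib.Helper21.EquiSub.ringKrullDim_quotient_map_maximalIdeal f x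
  rw [← h1] at hdim
  exact Groth.Agent.Lib.Helper18.CM.miracle_flatness hdim

/-- the fibre is Cohen–Macaulay at a point where the morphism is flat with Cohen–Macaulay source
and target -/
theorem isCohenMacaulayLocalRing_fibre_stalk [IsLocallyNoetherian Y] (f : X ⟶ Y)
    [LocallyOfFiniteType f] (s : Y) (t : ↥(f.fiber s))
    (hA : LocCoh.IsCohenMacaulayLocalRing
      (Y.presheaf.stalk (f.base ((f.fiberι s).base t))))
    (hB : LocCoh.IsCohenMacaulayLocalRing (X.presheaf.stalk ((f.fiberι s).base t)))
    (hflat : (f.stalkMap ((f.fiberι s).base t)).hom.Flat) :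
    LocCoh.IsCohenMacaulayLocalRing ((f.fiber s).presheaf.stalk t) := by
  letI alg : Algebra (Y.presheaf.stalk (f.base ((f.fiberι s).base t)))
      (X.presheaf.stalk ((f.fiberι s).base t)) := (f.stalkMap ((f.fiberι s).base t)).hom.toAlgebra
  haveI : IsLocalHom (algebraMap (Y.presheaf.stalk (f.base ((f.fiberι s).base t)))
      (X.presheaf.stalk ((f.fiberι s).base t))) :=
    inferInstanceAs (IsLocalHom (f.stalkMap ((f.fiberι s).base t)).hom)
  haveI : IsLocallyNoetherian X := LocallyOfFiniteType.isLocallyNoetherian f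
  haveI : Module.Flat (Y.presheaf.stalk (f.base ((f.fiberι s).base t)))
      (X.presheaf.stalk ((f.fiberι s).base t)) := hflat
  have h1 := isCohenMacaulayLocalRing_fibre_of_flat
    (Y.presheaf.stalk (f.base ((f.fiberι s).base t))) (X.presheaf.stalk ((f.fiberι s).base t))
    hA hB
  obtain ⟨hsurj, hker⟩ := Groth.Agent.S9501.result f s t
  have e1 := RingHom.quotientKerEquivOfSurjective hsurj
  have e2 := Ideal.quotEquivOfEq hker
  haveI := h1
  exact Groth.Agent.Lib.Helper18.FibQuot.isCohenMacaulayLocalRing_of_ringEquiv (e2.symm.trans e1)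

end Groth.Agent.Lib.Helper21.MirTFAE
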