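import Groth.Prelude.Def_WittGrp
import Groth.Prelude.Def_AlgGrp
import Mathlib.AlgebraicGeometry.Morphisms.Flat
import Mathlib.AlgebraicGeometry.Morphisms.Smooth
import Mathlib.AlgebraicGeometry.Morphisms.Separated

/-!
# Witt group schemes: coordinates, splitting `W_{n+m} ≅ W_n × W_m` as schemes, flatness

Helper library (helper21).
-/

set_option autoImplicit false
set_option linter.unusedSectionVars false
universe u
open CategoryTheory MonoidalCategory CartesianMonoidalCategory MonObj GrpObj AlgebraicGeometry CategoryTheory.Limits
open WittGrp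

namespace Groth.Agent.Lib.Helper21.WG

section RingLevel

variable (p : ℕ) [hp : Fact p.Prime] {A B : Type*} [CommRing A] [CommRing B] (n m : ℕ)

/-- The last `m` components of a Witt vector of length `n + m`. -/
def lastFun (x : TruncatedWittVector p (n + m) A) : TruncatedWittVector p m A :=
  TruncatedWittVector.mk p fun i => x.coeff ⟨n + i, by omega⟩

/-- Concatenation of components. -/
def concatFun (a : TruncatedWittVector p n A) (b : TruncatedWittVector p m A) :
    TruncatedWittVector p (n + m) A :=
  TruncatedWittVector.mk p fun i => if h : (i : ℕ) < n then a.coeff ⟨i, h⟩ else b.coeff ⟨i - n, by omega⟩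

variable {n m}

theorem coeff_lastFun (x : TruncatedWittVector p (n + m) A) (i : Fin m) :
    (lastFun p n m x).coeff i = x.coeff ⟨n + i, by omega⟩ := TruncatedWittVector.coeff_mk _ _

theorem coeff_concatFun (a : TruncatedWittVector p n A) (b : TruncatedWittVector p m A) (i : Fin (n + m)) :
    (concatFun p n m a b).coeff i =
      if h : (i : ℕ) < n then a.coeff ⟨i, h⟩ else b.coeff ⟨i - n, by omega⟩ := TruncatedWittVector.coeff_mk _ _

theorem truncMap_lastFun (f : A →+* B) (x : TruncatedWittVector p (n + m) A) :
    truncMap p m f (lastFun p n m x) = lastFun p n m (truncMap p (n + m) f x) :=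
  TruncatedWittVector.ext fun i => by simp only [coeff_truncMap, coeff_lastFun]

theorem truncMap_concatFun (f : A →+* B) (a : TruncatedWittVector p n A) (b : TruncatedWittVector p m A) :
    truncMap p (n + m) f (concatFun p n m a b) = concatFun p n m (truncMap p n f a) (truncMap p m f b) :=
  TruncatedWittVector.ext fun i => by
    simp only [coeff_truncMap, coeff_concatFun]
    split_ifs <;> rfl

theorem truncate_shift_eq_zero (x : TruncatedWittVector p m A) :
    TruncatedWittVector.truncate (Nat.le_add_right n m) (shift p (Nat.le_add_left m n) x) = 0 :=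
  TruncatedWittVector.ext fun i => by
    rw [TruncatedWittVector.coeff_truncate, coeff_shift, dif_neg, TruncatedWittVector.coeff_zero]
    simp only [Fin.val_castLE]
    omega

theorem lastFun_shift (x : TruncatedWittVector p m A) :
    lastFun p n m (shift p (Nat.le_add_left m n) x) = x :=
  TruncatedWittVector.ext fun i => by
    rw [coeff_lastFun, coeff_shift, dif_pos (by simp only; omega)]
    congr 1
    ext
    simp only
    omega

theorem shift_lastFun (x : TruncatedWittVector p (n + m) A)
    (hx : TruncatedWittVector.truncate (Nat.le_add_right n m) x = 0) :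
    shift p (Nat.le_add_left m n) (lastFun p n m x) = x :=
  TruncatedWittVector.ext fun i => by
    rw [coeff_shift]
    by_cases hi : n + m - m ≤ (i : ℕ)
    · rw [dif_pos hi, coeff_lastFun]
      congr 1
      ext
      simp only
      omega
    · rw [dif_neg hi]
      have h := congrArg (fun y => TruncatedWittVector.coeff (p := p) ⟨(i : ℕ), by omega⟩ y) hx
      simp only [TruncatedWittVector.coeff_truncate, TruncatedWittVector.coeff_zero] at h
      rw [← h]
      congr 1

theorem concatFun_truncate_lastFun (x : TruncatedWittVector p (n + m) A) :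
    concatFun p n m (TruncatedWittVector.truncate (Nat.le_add_right n m) x) (lastFun p n m x) = x :=
  TruncatedWittVector.ext fun i => by
    rw [coeff_concatFun]
    split_ifs with h
    · rw [TruncatedWittVector.coeff_truncate]
      congr 1
    · rw [coeff_lastFun]
      congr 1
      ext
      simp only
      omega

theorem truncate_concatFun (a : TruncatedWittVector p n A) (b : TruncatedWittVector p m A) :
    TruncatedWittVector.truncate (Nat.le_add_right n m) (concatFun p n m a b) = a :=
  TruncatedWittVector.ext fun i => by
    rw [TruncatedWittVector.coeff_truncate, coeff_concatFun, dif_pos (by simp only [Fin.val_castLE]; omega)]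
    congr 1

theorem lastFun_concatFun (a : TruncatedWittVector p n A) (b : TruncatedWittVector p m A) :
    lastFun p n m (concatFun p n m a b) = b :=
  TruncatedWittVector.ext fun i => by
    rw [coeff_lastFun, coeff_concatFun, dif_neg (by simp only; omega)]
    congr 1
    ext
    simp only
    omega

end RingLevel


section SchemeLevel

variable (p : ℕ) [hp : Fact p.Prime] {S : Scheme.{u}} {n m : ℕ}

/-- The morphism `T ⟶ W_k` with given Witt vector of functions. -/
noncomputable def ofVec {k : ℕ} (T : Over S) (v : TruncatedWittVector p k Γ(T.left, ⊤)) : T ⟶ W p k S :=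
  (ptsMul p T).symm (Multiplicative.ofAdd v)

@[simp]
theorem pts_ofVec {k : ℕ} (T : Over S) (v : TruncatedWittVector p k Γ(T.left, ⊤)) :
    pts p T (Additive.ofMul (ofVec p T v)) = v := by
  change Multiplicative.toAdd ((ptsMul p T) ((ptsMul p T).symm _)) = _
  rw [MulEquiv.apply_symm_apply]
  rfl

theorem ofVec_pts {k : ℕ} (T : Over S) (x : T ⟶ W p k S) :
    ofVec p T (pts p T (Additive.ofMul x)) = x :=
  pts_injective p T (pts_ofVec p T _)

theorem pts_comp_ofVec {k : ℕ} {T T' : Over S} (g : T' ⟶ T) (v : TruncatedWittVector p k Γ(T.left, ⊤)) :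
    pts p T' (Additive.ofMul (g ≫ ofVec p T v)) = truncMap p k (g.left.appTop).hom v := by
  rw [pts_comp, pts_ofVec]

variable (S n m) in
/-- The morphism `W_{n+m} ⟶ W_m` taking the last `m` coordinates (not a homomorphism). -/
noncomputable def L : W p (n + m) S ⟶ W p m S :=
  ofVec p _ (lastFun p n m (pts p _ (Additive.ofMul (𝟙 _))))

theorem pts_L {T : Over S} (x : T ⟶ W p (n + m) S) :
    pts p T (Additive.ofMul (x ≫ L p S n m)) = lastFun p n m (pts p T (Additive.ofMul x)) := by
  rw [L, pts_comp_ofVec, truncMap_lastFun, ← pts_comp, Category.comp_id]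

variable (S n m) in
/-- The morphism `W_n × W_m ⟶ W_{n+m}` concatenating coordinates (not a homomorphism). -/
noncomputable def J : W p n S ⊗ W p m S ⟶ W p (n + m) S :=
  ofVec p _ (concatFun p n m (pts p _ (Additive.ofMul (fst _ _))) (pts p _ (Additive.ofMul (snd _ _))))

theorem pts_J {T : Over S} (x : T ⟶ W p n S ⊗ W p m S) :
    pts p T (Additive.ofMul (x ≫ J p S n m)) =
      concatFun p n m (pts p T (Additive.ofMul (x ≫ fst _ _))) (pts p T (Additive.ofMul (x ≫ snd _ _))) := by
  rw [J, pts_comp_ofVec, truncMap_concatFun, ← pts_comp, ← pts_comp]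

theorem V_comp_L : V p S (Nat.le_add_left m n) ≫ L p S n m = 𝟙 _ := by
  apply pts_injective p (W p m S)
  change pts p _ (Additive.ofMul _) = pts p _ (Additive.ofMul _)
  rw [pts_L, ← Category.id_comp (V p S (Nat.le_add_left m n)), pts_V, lastFun_shift]

theorem V_comp_R : V p S (Nat.le_add_left m n) ≫ R p S (Nat.le_add_right n m) = 1 := by
  apply pts_injective p (W p m S)
  change pts p _ (Additive.ofMul _) = pts p _ (Additive.ofMul _)
  rw [pts_R, ← Category.id_comp (V p S (Nat.le_add_left m n)), pts_V, truncate_shift_eq_zero, pts_one]

variable (S n m) in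
/-- `W_{n+m} ≅ W_n × W_m` as schemes over `S`. -/
noncomputable def splitIso : W p (n + m) S ≅ W p n S ⊗ W p m S where
  hom := lift (R p S (Nat.le_add_right n m)) (L p S n m)
  inv := J p S n m
  hom_inv_id := by
    apply pts_injective p (W p (n + m) S)
    change pts p _ (Additive.ofMul _) = pts p _ (Additive.ofMul _)
    rw [pts_J, lift_fst, lift_snd, ← Category.id_comp (R p S _), pts_R, ← Category.id_comp (L p S n m), pts_L,
      concatFun_truncate_lastFun]
  inv_hom_id := by
    apply CartesianMonoidalCategory.hom_ext
    · rw [Category.assoc, lift_fst, Category.id_comp]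
      apply pts_injective p
      change pts p _ (Additive.ofMul _) = pts p _ (Additive.ofMul _)
      rw [pts_R, ← Category.id_comp (J p S n m), pts_J, truncate_concatFun, Category.id_comp]
    · rw [Category.assoc, lift_snd, Category.id_comp]
      apply pts_injective p
      change pts p _ (Additive.ofMul _) = pts p _ (Additive.ofMul _)
      rw [pts_L, ← Category.id_comp (J p S n m), pts_J, lastFun_concatFun, Category.id_comp]

theorem splitIso_hom_fst : (splitIso p S n m).hom ≫ fst _ _ = R p S (Nat.le_add_right n m) := lift_fst _ _

/-- The shift is the kernel of the restriction. -/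
theorem isKernel_V_R :
    AlgGrp.IsKernel (V p S (Nat.le_add_left m n)) (R p S (Nat.le_add_right n m)) := by
  have w : V p S (Nat.le_add_left m n) ≫ R p S (Nat.le_add_right n m) = toUnit _ ≫ η[W p n S] := by
    rw [V_comp_R, Hom.one_def]
  refine IsPullback.of_isLimit (PullbackCone.IsLimit.mk w (fun s => s.fst ≫ L p S n m) ?_ ?_ ?_)
  · intro s
    apply pts_injective p
    change pts p _ (Additive.ofMul _) = pts p _ (Additive.ofMul _)
    rw [pts_V, pts_L, shift_lastFun]
    rw [← pts_R, s.condition, toUnit_unique s.snd (toUnit _), ← Hom.one_def, pts_one]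
  · intro s
    exact toUnit_unique _ _
  · intro s t h1 _
    rw [← h1, Category.assoc, V_comp_L, Category.comp_id]

end SchemeLevel


section AffineSpaceProps

open AffineSpace MvPolynomial

set_option backward.isDefEq.respectTransparency.types false in
/-- Affine space is flat over its base. -/
theorem flat_affineSpace_over (n : Type u) (S : Scheme.{u}) : Flat (𝔸(n; S) ↘ S) :=
  MorphismProperty.pullback_fst _ _ <| by
  have := isIso_of_isTerminal specULiftZIsTerminal.{u} terminalIsTerminal (terminal.from _)
  rw [← terminal.comp_from (Spec.map (CommRingCat.ofHom (C (R := ULift.{u} ℤ) (σ := n)))),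
    MorphismProperty.cancel_right_of_respectsIso (P := @Flat),
    HasRingHomProperty.Spec_iff (P := @Flat)]
  exact RingHom.flat_algebraMap_iff.mpr
    (inferInstance : Module.Flat (ULift.{u} ℤ) (MvPolynomial n (ULift.{u} ℤ)))

set_option backward.isDefEq.respectTransparency.types false in
/-- Affine space of finite dimension is smooth over its base. -/
theorem smooth_affineSpace_over (n : Type u) [Finite n] (S : Scheme.{u}) : Smooth (𝔸(n; S) ↘ S) :=
  MorphismProperty.pullback_fst _ _ <| by
  have := isIso_of_isTerminal specULiftZIsTerminal.{u} terminalIsTerminal (terminal.from _)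
  rw [← terminal.comp_from (Spec.map (CommRingCat.ofHom (C (R := ULift.{u} ℤ) (σ := n)))),
    MorphismProperty.cancel_right_of_respectsIso (P := @Smooth),
    HasRingHomProperty.Spec_iff (P := @Smooth)]
  exact RingHom.smooth_algebraMap.mpr
    ⟨inferInstance, inferInstance⟩

end AffineSpaceProps

end Groth.Agent.Lib.Helper21.WG
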