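import Groth.Agent.Lib.Helper20.DimTrdeg
import Groth.Agent.Lib.Helper7.DimFT

/-!
# Dimension and transcendence degree of finitely generated domains over a field
(both as exact equalities with a natural number)
-/

set_option autoImplicit false
universe u

namespace Groth.Agent.Lib.Helper21.DimTr

/-- For a finitely generated domain `B` over a field `k` with fraction field `L`: there is a
natural number `s` with `trdeg k L = s` and `dim B = s`. -/
theorem exists_nat_trdeg_eq_and_dim_eq (k : Type u) [Field k] (B : Type u) [CommRing B] [IsDomain B]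
    [Algebra k B] [Algebra.FiniteType k B] (L : Type u) [Field L] [Algebra B L]
    [IsFractionRing B L] [Algebra k L] [IsScalarTower k B L] :
    ∃ s : ℕ, Algebra.trdeg k L = s ∧ ringKrullDim B = s := by
  obtain ⟨s, g, hinj, hfin⟩ := exists_finite_inj_algHom_of_fg k B
  have hint : ∀ b : B, g.toRingHom.IsIntegralElem b := fun b => hfin.to_isIntegral b
  have hs : ringKrullDim B = s :=
    Groth.Agent.Lib.Helper22.ringKrullDim_eq_of_finite_inj s g hinj hint
  refine ⟨s, ?_, hs⟩
  let _ : Algebra (MvPolynomial (Fin s) k) B := g.toRingHom.toAlgebra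
  have hfinPB : Module.Finite (MvPolynomial (Fin s) k) B := hfin
  have : IsScalarTower k (MvPolynomial (Fin s) k) B :=
    IsScalarTower.of_algebraMap_eq fun c => (g.commutes c).symm
  let _ : Algebra (MvPolynomial (Fin s) k) L :=
    ((algebraMap B L).comp (algebraMap (MvPolynomial (Fin s) k) B)).toAlgebra
  have : IsScalarTower (MvPolynomial (Fin s) k) B L := IsScalarTower.of_algebraMap_eq fun _ => rfl
  have : IsScalarTower k (MvPolynomial (Fin s) k) L := by
    refine IsScalarTower.of_algebraMap_eq fun c => ?_
    rw [IsScalarTower.algebraMap_apply k B L,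
      IsScalarTower.algebraMap_apply k (MvPolynomial (Fin s) k) B,
      ← IsScalarTower.algebraMap_apply (MvPolynomial (Fin s) k) B L]
  have hPB : Function.Injective (algebraMap (MvPolynomial (Fin s) k) B) := hinj
  have : FaithfulSMul (MvPolynomial (Fin s) k) L :=
    (faithfulSMul_iff_algebraMap_injective _ _).mpr
      ((IsFractionRing.injective B L).comp hPB)
  have : Algebra.IsAlgebraic (MvPolynomial (Fin s) k) B := Algebra.IsIntegral.isAlgebraic
  have hPL : Algebra.IsAlgebraic (MvPolynomial (Fin s) k) L :=
    (IsFractionRing.isAlgebraic_iff' (MvPolynomial (Fin s) k) B L).mp inferInstance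
  have h1 := trdeg_add_eq k (MvPolynomial (Fin s) k) (A := L)
  rw [MvPolynomial.trdeg_of_isDomain, trdeg_eq_zero, add_zero] at h1
  rw [← h1]
  simp

end Groth.Agent.Lib.Helper21.DimTr
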