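import Groth.Agent.Lib.Helper21.ChartPt1
import Groth.Agent.Lib.Helper21.DimTr
import Groth.Prelude.Def_CurvBase

/-!
# Points of an affine chart of a scheme locally of finite type over a field:
transcendence degree of the residue field is the dimension of the closure
-/

set_option autoImplicit false
set_option linter.style.haveILetI false
set_option linter.unusedSectionVars false
universe u
open AlgebraicGeometry CategoryTheory Limits TopologicalSpace

namespace Groth.Agent.Lib.Helper21.ChartPt

open Groth.Agent.Lib.Helper21.NagDvr Groth.Agent.Lib.Helper20.DimTrdeg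

section OverField

variable (k : Type u) [Field k] (X : Scheme.{u}) [X.Over (Spec (CommRingCat.of k))]
variable {U : X.Opens} (hU : IsAffineOpen U)

/-- The structure map `k → Γ(X, U) ⧸ 𝔭_y`. -/
noncomputable def kQ (y : X) (hy : y ∈ U) :
    k →+* Γ(X, U) ⧸ (hU.primeIdealOf ⟨y, hy⟩).asIdeal :=
  (Ideal.Quotient.mk _).comp (kMap (X ↘ Spec (CommRingCat.of k)) U)

theorem evQ_comp_kQ (y : X) (hy : y ∈ U) :
    (evQ hU y hy).comp (kQ k X hU y hy) = Curv2.resMap k X y := by
  ext c
  change (X.evaluation U y hy).hom (kMap (X ↘ Spec (CommRingCat.of k)) U c) = _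
  unfold Curv2.resMap Curv2.stalkMap Coh.toGlobal kMap
  rw [← Scheme.germ_residue]
  simp only [RingHom.comp_apply, CommRingCat.hom_comp]
  congr 1
  rw [Scheme.Hom.appLE]
  simp only [CommRingCat.hom_comp, RingHom.comp_apply]
  erw [TopCat.Presheaf.germ_res_apply]
  rfl

variable [LocallyOfFiniteType (X ↘ Spec (CommRingCat.of k))]

theorem kQ_finiteType (y : X) (hy : y ∈ U) : (kQ k X hU y hy).FiniteType :=
  RingHom.FiniteType.comp (RingHom.FiniteType.of_surjective _ Ideal.Quotient.mk_surjective)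
    (kMap_finiteType _ U hU)

/-- For a point `y` of an affine open `U` of a scheme locally of finite type over a field `k`,
`trdeg_k κ(y) = dim Γ(X, U) ⧸ 𝔭_y` (and both are finite). -/
theorem exists_nat_trdeg_eq_and_dim_quotient (y : X) (hy : y ∈ U) :
    ∃ s : ℕ, @Algebra.trdeg k (X.residueField y) _ _ (Curv2.resAlgebra k X y) = s ∧
      ringKrullDim (Γ(X, U) ⧸ (hU.primeIdealOf ⟨y, hy⟩).asIdeal) = s := by
  letI := Curv2.resAlgebra k X y
  letI : Algebra k (Γ(X, U) ⧸ (hU.primeIdealOf ⟨y, hy⟩).asIdeal) := (kQ k X hU y hy).toAlgebra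
  letI : Algebra (Γ(X, U) ⧸ (hU.primeIdealOf ⟨y, hy⟩).asIdeal) (X.residueField y) :=
    (evQ hU y hy).toAlgebra
  haveI := isFractionRing_evQ hU y hy
  haveI : IsScalarTower k (Γ(X, U) ⧸ (hU.primeIdealOf ⟨y, hy⟩).asIdeal) (X.residueField y) :=
    IsScalarTower.of_algebraMap_eq fun c =>
      (congrArg (fun φ : k →+* X.residueField y => φ c) (evQ_comp_kQ k X hU y hy)).symm
  haveI : Algebra.FiniteType k (Γ(X, U) ⧸ (hU.primeIdealOf ⟨y, hy⟩).asIdeal) :=
    kQ_finiteType k X hU y hy
  exact DimTr.exists_nat_trdeg_eq_and_dim_eq k _ _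

end OverField

end Groth.Agent.Lib.Helper21.ChartPt
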