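import Groth.Agent.Lib.Helper21.OpenImm1

set_option autoImplicit false
set_option linter.style.haveILetI false
set_option linter.unusedSectionVars false
universe u
open AlgebraicGeometry CategoryTheory Limits TopologicalSpace

namespace Groth.Agent.Lib.Helper21.OpenImm

variable {X Y : Scheme.{u}} (f : X ⟶ Y)

/-- A separated morphism which is locally on the source an open immersion and which is injective
on generic points of irreducible components is injective. -/
theorem injective_of_separated [IsSeparated f]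
    (hloc : ∀ x : X, ∃ U : X.Opens, x ∈ U ∧ IsOpenImmersion (U.ι ≫ f))
    (hinj : ∀ ξ ξ' : X, closure ({ξ} : Set X) ∈ irreducibleComponents (X : Type u) →
      closure ({ξ'} : Set X) ∈ irreducibleComponents (X : Type u) →
      f ξ = f ξ' → ξ = ξ') :
    Function.Injective f := by
  intro x x' hxx'
  obtain ⟨U, hxU, hU⟩ := hloc x
  obtain ⟨U', hx'U', hU'⟩ := hloc x'
  obtain ⟨ξ', hξ'max, hξ'x'⟩ := NagFin.exists_generic_specializes x'
  have hξ'U' : ξ' ∈ U' := hξ'x'.mem_open U'.isOpen hx'U'
  have hfξ' : f ξ' ∈ f '' (U : Set X) := by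
    have : f ξ' ⤳ f x' := hξ'x'.map f.continuous
    exact this.mem_open (isOpen_image f U) ⟨x, hxU, hxx'⟩
  obtain ⟨ξ'', hξ''U, hξ''⟩ := hfξ'
  have hξ''max : closure {ξ''} ∈ irreducibleComponents X := by
    rw [OpenNbhd.closure_singleton_mem_irreducibleComponents_iff]
    intro z hz
    have hzU : z ∈ U := hz.mem_open U.isOpen hξ''U
    have h1 : f z ⤳ f ξ' := by rw [← hξ'']; exact hz.map f.continuous
    have h2 : f z ∈ f '' (U' : Set X) := h1.mem_open (isOpen_image f U') ⟨ξ', hξ'U', rfl⟩
    obtain ⟨z', hz'U', hz'⟩ := h2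
    have h3 : z' ⤳ ξ' :=
      specializes_of_apply_specializes f U' hz'U' hξ'U' (by rw [hz']; exact h1)
    have h4 : z' = ξ' :=
      (OpenNbhd.closure_singleton_mem_irreducibleComponents_iff ξ').mp hξ'max z' h3
    have h5 : f z = f ξ'' := by rw [← hz', h4, hξ'']
    exact eq_of_mem_of_apply_eq f U hzU hξ''U h5
  have h6 : ξ'' = ξ' := hinj ξ'' ξ' hξ''max hξ'max hξ''
  have hξ'U : ξ' ∈ U := h6 ▸ hξ''U
  have hx'U : x' ∈ U := mem_of_specializes f U hξ'U hξ'x' ⟨x, hxU, hxx'⟩
  exact eq_of_mem_of_apply_eq f U hxU hx'U hxx'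

/-- A separated morphism which is locally on the source an open immersion and which is injective
on generic points of irreducible components is an open immersion. -/
theorem isOpenImmersion_of_separated [IsSeparated f]
    (hloc : ∀ x : X, ∃ U : X.Opens, x ∈ U ∧ IsOpenImmersion (U.ι ≫ f))
    (hinj : ∀ ξ ξ' : X, closure ({ξ} : Set X) ∈ irreducibleComponents (X : Type u) →
      closure ({ξ'} : Set X) ∈ irreducibleComponents (X : Type u) →
      f ξ = f ξ' → ξ = ξ') :
    IsOpenImmersion f := by
  have hinjf := injective_of_separated f hloc hinj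
  have hlh : IsLocalHomeomorph f := by
    rw [isLocalHomeomorph_iff_isOpenEmbedding_restrict]
    intro x
    obtain ⟨U, hxU, hU⟩ := hloc x
    refine ⟨U, U.isOpen.mem_nhds hxU, ?_⟩
    exact (U.ι ≫ f).isOpenEmbedding
  have hemb : Topology.IsOpenEmbedding f := hlh.isOpenEmbedding_of_injective hinjf
  haveI : ∀ x, IsIso (f.stalkMap x) := by
    intro x
    obtain ⟨U, hxU, hU⟩ := hloc x
    let x' : ↥(U : Scheme) := ⟨x, hxU⟩
    have h := Scheme.Hom.stalkMap_comp U.ι f x'
    have h1 : IsIso ((U.ι ≫ f).stalkMap x') := inferInstance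
    rw [h] at h1
    haveI : IsIso (U.ι.stalkMap x') := inferInstance
    exact @IsIso.of_isIso_comp_right _ _ _ _ _ (f.stalkMap (U.ι x')) (U.ι.stalkMap x') this h1
  exact IsOpenImmersion.of_isIso_stalkMap f hemb

end Groth.Agent.Lib.Helper21.OpenImm
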