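import Groth.Agent.Lib.Helper21.OpenNbhd2

set_option autoImplicit false
set_option linter.style.haveILetI false
set_option linter.unusedSectionVars false
universe u
open AlgebraicGeometry CategoryTheory Limits TopologicalSpace

namespace Groth.Agent.Lib.Helper21.OpenNbhd

section Main

variable {X S : Scheme.{u}} (f : X ⟶ S)

theorem exists_openImmersion_nhd [LocallyOfFiniteType f] [IsReduced S]
    (hS : (irreducibleComponents (S : Type u)).Finite) (x : X) (hx : IsIso (f.stalkMap x)) :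
    ∃ U : X.Opens, x ∈ U ∧ IsOpenImmersion (U.ι ≫ f) := by
  classical
  obtain ⟨_, ⟨V, hV, rfl⟩, hxV, -⟩ := S.isBasis_affineOpens.exists_subset_of_mem_open
    (Set.mem_univ (f x)) isOpen_univ
  obtain ⟨_, ⟨U, hU, rfl⟩, hxU, hUV⟩ := X.isBasis_affineOpens.exists_subset_of_mem_open
    (show x ∈ (f ⁻¹ᵁ V : Set X) from hxV) (f ⁻¹ᵁ V).isOpen
  have hUV' : U ≤ f ⁻¹ᵁ V := hUV
  letI algAB : Algebra Γ(S, V) Γ(X, U) := (f.appLE V U hUV').hom.toAlgebra
  haveI hft : Algebra.FiniteType Γ(S, V) Γ(X, U) :=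
    HasRingHomProperty.appLE @LocallyOfFiniteType f inferInstance ⟨V, hV⟩ ⟨U, hU⟩ hUV'
  have hfin := finite_minimalPrimes_of_finite_irreducibleComponents hS V hV
  letI algA := S.presheaf.algebra_section_stalk ⟨f x, hxV⟩
  letI algB := X.presheaf.algebra_section_stalk ⟨x, hxU⟩
  haveI locA := hV.isLocalization_stalk ⟨f x, hxV⟩
  haveI locB := hU.isLocalization_stalk ⟨x, hxU⟩
  have hpq : (hV.primeIdealOf ⟨f x, hxV⟩).asIdeal =
      (hU.primeIdealOf ⟨x, hxU⟩).asIdeal.comap (algebraMap Γ(S, V) Γ(X, U)) := by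
    have := IsAffineOpen.comap_primeIdealOf_appLE (f := f) V hV U hU hUV' hxU
    exact (congrArg PrimeSpectrum.asIdeal this).symm
  have hcomp : ∀ a : Γ(S, V), (f.stalkMap x).hom (algebraMap Γ(S, V) (S.presheaf.stalk (f x)) a) =
      algebraMap Γ(X, U) (X.presheaf.stalk x) (algebraMap Γ(S, V) Γ(X, U) a) := by
    intro a
    change (f.stalkMap x).hom (S.presheaf.germ V (f x) hxV a) =
      X.presheaf.germ U x hxU ((f.appLE V U hUV').hom a)
    rw [Scheme.Hom.germ_stalkMap_apply, Scheme.Hom.appLE]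
    rw [CommRingCat.comp_apply, TopCat.Presheaf.germ_res_apply]
  obtain ⟨h, hhq, a, hloc⟩ := exists_away (hV.primeIdealOf ⟨f x, hxV⟩).asIdeal
    (hU.primeIdealOf ⟨x, hxU⟩).asIdeal (S.presheaf.stalk (f x)) (X.presheaf.stalk x) hfin hpq
    (f.stalkMap x).hom (ConcreteCategory.bijective_of_isIso (f.stalkMap x)) hcomp
  have hU' : IsAffineOpen (X.basicOpen h) := hU.basicOpen h
  have hxU' : x ∈ X.basicOpen h :=
    (NagDvr.mem_basicOpen_iff_notMem_primeIdealOf hU h ⟨x, hxU⟩).mpr hhq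
  have hle : X.basicOpen h ≤ f ⁻¹ᵁ V := (X.basicOpen_le h).trans hUV'
  letI algBh : Algebra Γ(X, U) Γ(X, X.basicOpen h) :=
    (X.presheaf.map (homOfLE (X.basicOpen_le h)).op).hom.toAlgebra
  haveI locBh : IsLocalization.Away h Γ(X, X.basicOpen h) := hU.isLocalization_basicOpen h
  letI algAh : Algebra Γ(S, V) Γ(X, X.basicOpen h) :=
    (f.appLE V (X.basicOpen h) hle).hom.toAlgebra
  haveI : IsScalarTower Γ(S, V) Γ(X, U) Γ(X, X.basicOpen h) := by
    refine IsScalarTower.of_algebraMap_eq (fun r => ?_)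
    change (f.appLE V (X.basicOpen h) hle).hom r =
      (X.presheaf.map (homOfLE (X.basicOpen_le h)).op).hom ((f.appLE V U hUV').hom r)
    rw [← CommRingCat.comp_apply, Scheme.Hom.appLE_map]
  let e : Localization.Away h ≃ₐ[Γ(X, U)] Γ(X, X.basicOpen h) :=
    IsLocalization.algEquiv (Submonoid.powers h) _ _
  haveI : IsLocalization.Away a Γ(X, X.basicOpen h) :=
    IsLocalization.isLocalization_of_algEquiv (Submonoid.powers a) (e.restrictScalars Γ(S, V))
  haveI : IsOpenImmersion (Spec.map (f.appLE V (X.basicOpen h) hle)) :=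
    IsOpenImmersion.of_isLocalization (R := Γ(S, V)) (S := Γ(X, X.basicOpen h)) a
  refine ⟨X.basicOpen h, hxU', ?_⟩
  have key := IsAffineOpen.SpecMap_appLE_fromSpec f hV hU' hle
  have h2 : (X.basicOpen h).ι ≫ f =
      hU'.isoSpec.hom ≫ Spec.map (f.appLE V (X.basicOpen h) hle) ≫ hV.fromSpec := by
    rw [key, ← Category.assoc, ← IsAffineOpen.isoSpec_inv_ι, Iso.hom_inv_id_assoc]
  rw [h2]
  infer_instance

end Main

end Groth.Agent.Lib.Helper21.OpenNbhd
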