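import Groth.Agent.Lib.Helper21.Glue4

/-!
# Glueing finitely many one-dimensional semi-local domains: the intersection
-/

set_option autoImplicit false
universe u
open AlgebraicGeometry CategoryTheory Limits

namespace Groth.Agent.Lib.Helper21.Glue

variable {K : Type u} [Field K]

/-- A domain of Krull dimension at most one which is not a field has Krull dimension one. -/
theorem ringKrullDim_eq_one_of_not_isField (R : Type u) [CommRing R] [IsDomain R]
    [Ring.KrullDimLE 1 R] (hnf : ¬ IsField R) : ringKrullDim R = 1 := by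
  have h1 : ringKrullDim R ≤ 1 := Ring.krullDimLE_iff.mp inferInstance
  have h0 : 0 ≤ ringKrullDim R := ringKrullDim_nonneg_of_nontrivial
  have hne : ringKrullDim R ≠ 0 := by
    intro h
    have : Ring.KrullDimLE 0 R := ringKrullDimZero_iff_ringKrullDim_eq_zero.mpr h
    exact hnf Ring.KrullDimLE.isField_of_isDomain
  generalize ringKrullDim R = x at h1 h0 hne
  induction x with
  | bot => exact absurd h0 (by decide)
  | coe n =>
    induction n with
    | top => exact absurd h1 (by decide)
    | coe k =>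
      have hk1 : k ≤ 1 := by exact_mod_cast h1
      have hk0 : k ≠ 0 := by
        intro hk; apply hne; subst hk; rfl
      have : k = 1 := by omega
      subst this
      rfl

/-- **Glueing finitely many one-dimensional Noetherian semi-local domains pairwise generating
`K`.** -/
theorem glue_family (r : ℕ)
    (A : Fin (r + 1) → Subring K) [∀ i, IsNoetherianRing (A i)] [∀ i, IsFractionRing (A i) K]
    (hdim : ∀ i, ringKrullDim (A i) = 1) (hsl : ∀ i, Finite (MaximalSpectrum (A i)))
    (hgen : ∀ i j, i ≠ j → A i ⊔ A j = ⊤) :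
    IsNoetherianRing ↥(⨅ i, A i) ∧ ringKrullDim ↥(⨅ i, A i) = 1 ∧
      Finite (MaximalSpectrum ↥(⨅ i, A i)) ∧ IsFractionRing ↥(⨅ i, A i) K ∧
      (∀ i, IsOpenImmersion (Spec.map (CommRingCat.ofHom (Subring.inclusion (iInf_le A i))))) ∧
      (⋃ i, Set.range (Spec.map (CommRingCat.ofHom
        (Subring.inclusion (iInf_le A i)))).base) = Set.univ ∧
      (∀ m : PrimeSpectrum ↥(⨅ i, A i), m.asIdeal.IsMaximal →
        ∃! i, m ∈ Set.range (Spec.map (CommRingCat.ofHom
          (Subring.inclusion (iInf_le A i)))).base) := by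
  classical
  obtain ⟨t, ht0, htmem, htinv, htJ, htsum⟩ := exists_partition r A hdim hsl hgen
  let R : Subring K := ⨅ i, A i
  have hRle : ∀ i, R ≤ A i := fun i => iInf_le A i
  let ι : ∀ i, R →+* A i := fun i => Subring.inclusion (hRle i)
  let tR : Fin (r + 1) → R := fun i => ⟨t i, Subring.mem_iInf.mpr (htmem i)⟩
  have htRsum : ∑ i, tR i = 1 := by
    apply Subtype.ext
    rw [AddSubmonoidClass.coe_finsetSum]
    exact htsum
  have hKD : ∀ i, Ring.KrullDimLE 1 (A i) := fun i =>
    Ring.krullDimLE_iff.mpr (le_of_eq (hdim i))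
  -- denominators
  have hden : ∀ i (a : K), a ∈ A i → ∃ n : ℕ, a * t i ^ n ∈ R := by
    intro i a ha
    have h1 : ∀ j, ∃ n : ℕ, ∀ m, n ≤ m → a * t i ^ m ∈ A j := by
      intro j
      by_cases hij : i = j
      · subst hij
        exact ⟨0, fun m _ => (A i).mul_mem ha ((A i).pow_mem (htmem i i) m)⟩
      · exact exists_forall_mul_pow_mem_of_mem_jacobson (A j) (hdim j).le ⟨t i, htmem i j⟩
          (htJ i j hij _) a
    choose nf hnf using h1
    exact ⟨Finset.univ.sup nf, Subring.mem_iInf.mpr fun j =>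
      hnf j _ (Finset.le_sup (f := nf) (Finset.mem_univ j))⟩
  -- the localizations
  have loc : ∀ i, @IsLocalization.Away R _ (tR i) (A i) _ (ι i).toAlgebra := by
    intro i
    let _ := (ι i).toAlgebra
    refine isLocalization_away_aux (Subring.inclusion_injective _) (tR i) ?_ ?_
    · refine ⟨⟨⟨t i, htmem i i⟩, ⟨(t i)⁻¹, htinv i⟩, Subtype.ext (mul_inv_cancel₀ (ht0 i)),
        Subtype.ext (inv_mul_cancel₀ (ht0 i))⟩, rfl⟩
    · intro a
      obtain ⟨n, hn⟩ := hden i a a.2
      refine ⟨n, ⟨(a : K) * t i ^ n, hn⟩, ?_⟩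
      apply Subtype.ext
      change (a : K) * ((algebraMap R (A i) (tR i) ^ n : A i) : K) = (a : K) * t i ^ n
      rw [Subring.coe_pow]
      rfl
  have hrange : ∀ i, Set.range (Spec.map (CommRingCat.ofHom (ι i))).base =
      ((PrimeSpectrum.basicOpen (tR i) : TopologicalSpace.Opens (PrimeSpectrum R)) :
        Set (PrimeSpectrum R)) := fun i =>
    @PrimeSpectrum.localization_away_comap_range R _ (A i) _ (ι i).toAlgebra (tR i) (loc i)
  -- every proper ideal misses some `tR i`
  have hmiss : ∀ I : Ideal R, I ≠ ⊤ → ∃ i, tR i ∉ I := by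
    intro I hI
    by_contra hcon
    push Not at hcon
    apply hI
    rw [Ideal.eq_top_iff_one, ← htRsum]
    exact Ideal.sum_mem _ fun i _ => hcon i
  -- transport of primes
  have hprime : ∀ i (p : Ideal R), p.IsPrime → tR i ∉ p →
      (p.map (ι i)).IsPrime ∧ (p.map (ι i)).comap (ι i) = p := by
    intro i p hp hnot
    let _ := (ι i).toAlgebra
    have := loc i
    have hd : Disjoint (Submonoid.powers (tR i) : Set R) (p : Set R) :=
      (Ideal.disjoint_powers_iff_notMem _ hp.isRadical).mpr hnot
    exact ⟨IsLocalization.isPrime_of_isPrime_disjoint (Submonoid.powers (tR i)) (A i) p hp hd,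
      IsLocalization.under_map_of_isPrime_disjoint (Submonoid.powers (tR i)) (A i) hp hd⟩
  have hmapne : ∀ i (p : Ideal R), (p.map (ι i)).comap (ι i) = p → p ≠ ⊥ → p.map (ι i) ≠ ⊥ := by
    intro i p hcomap hp0 hbot
    apply hp0
    rw [← hcomap, hbot]
    exact Ideal.comap_bot_of_injective _ (Subring.inclusion_injective _)
  -- nonzero primes are maximal
  have hmax : ∀ p : Ideal R, p ≠ ⊥ → p.IsPrime → p.IsMaximal := by
    intro p hp0 hp
    obtain ⟨m, hm, hpm⟩ := Ideal.exists_le_maximal p hp.ne_top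
    obtain ⟨i, hi⟩ := hmiss m hm.ne_top
    have hip : tR i ∉ p := fun h => hi (hpm h)
    obtain ⟨hp', hpc⟩ := hprime i p hp hip
    obtain ⟨hm', hmc⟩ := hprime i m hm.isPrime hi
    have hp'max : (p.map (ι i)).IsMaximal :=
      hp'.isMaximal_of_ne_bot (hmapne i p hpc hp0)
    have heq : p.map (ι i) = m.map (ι i) :=
      hp'max.eq_of_le hm'.ne_top (Ideal.map_mono hpm)
    have : p = m := by rw [← hpc, ← hmc, heq]
    rw [this]; exact hm
  have hKDR : Ring.KrullDimLE 1 R := Ring.KrullDimLE.mk₁' hmax
  -- `R` is not a field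
  have hRnf : ¬ IsField R := by
    have hA0nf : ¬ IsField (A 0) := by
      intro hf
      have := ringKrullDim_eq_zero_of_isField hf
      rw [hdim 0] at this
      exact one_ne_zero this
    obtain ⟨q, hq0, hq⟩ := Ring.not_isField_iff_exists_prime.mp hA0nf
    refine Ring.not_isField_iff_exists_prime.mpr ⟨q.comap (ι 0), ?_, Ideal.comap_isPrime _ _⟩
    intro hbot
    apply hq0
    let _ := (ι 0).toAlgebra
    have := loc 0
    have h1 := IsLocalization.map_under (Submonoid.powers (tR 0)) (S := A 0) q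
    change Ideal.map (ι 0) (Ideal.comap (ι 0) q) = q at h1
    rw [hbot, Ideal.map_bot] at h1
    exact h1.symm
  refine ⟨?_, ringKrullDim_eq_one_of_not_isField R hRnf, ?_, ?_, ?_, ?_, ?_⟩
  · -- Noetherian
    let S : Finset R := Finset.univ.image tR
    refine isNoetherianRing_of_away S ?_ ?_
    · rw [Ideal.eq_top_iff_one, ← htRsum]
      exact Ideal.sum_mem _ fun i _ =>
        Ideal.subset_span (Finset.mem_coe.mpr (Finset.mem_image_of_mem tR (Finset.mem_univ i)))
    · rintro ⟨s, hs⟩
      obtain ⟨i, -, rfl⟩ := Finset.mem_image.mp hs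
      let _ := (ι i).toAlgebra
      have := loc i
      exact isNoetherianRing_of_ringEquiv (A i)
        (IsLocalization.algEquiv (Submonoid.powers (tR i)) (A i)
          (Localization.Away (tR i))).toRingEquiv
  · -- finitely many maximal ideals
    have hfinset : Set.Finite {I : Ideal R | I.IsMaximal} := by
      refine Set.Finite.subset (s := ⋃ i, (Ideal.comap (ι i)) '' {J : Ideal (A i) | J.IsMaximal})
        ?_ ?_
      · refine Set.finite_iUnion fun i => Set.Finite.image _ ?_
        have : {J : Ideal (A i) | J.IsMaximal} =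
            Set.range (fun m : MaximalSpectrum (A i) => m.asIdeal) := by
          ext J
          constructor
          · intro hJ; exact ⟨⟨J, hJ⟩, rfl⟩
          · rintro ⟨m, rfl⟩; exact m.isMaximal
        rw [this]
        have := hsl i
        exact Set.finite_range _
      · intro m hm
        obtain ⟨i, hi⟩ := hmiss m (Ideal.IsMaximal.ne_top hm)
        obtain ⟨hm', hmc⟩ := hprime i m (Ideal.IsMaximal.isPrime hm) hi
        have hm0 : m ≠ ⊥ := Ring.ne_bot_of_isMaximal_of_not_isField hm hRnf
        exact Set.mem_iUnion.mpr ⟨i, m.map (ι i),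
          hm'.isMaximal_of_ne_bot (hmapne i m hmc hm0), hmc⟩
    have := hfinset.to_subtype
    exact Finite.of_injective
      (fun m : MaximalSpectrum R => (⟨m.asIdeal, m.isMaximal⟩ : {I : Ideal R | I.IsMaximal}))
      (fun a b hab => MaximalSpectrum.ext (congrArg Subtype.val hab))
  · -- fraction field
    have : FaithfulSMul R K := (faithfulSMul_iff_algebraMap_injective R K).mpr
      Subtype.val_injective
    refine IsFractionRing.of_field (R := R) K ?_
    intro z
    obtain ⟨a, a', ha', rfl⟩ := IsFractionRing.div_surjective (A := A 0) z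
    obtain ⟨n, hn⟩ := hden 0 a a.2
    obtain ⟨n', hn'⟩ := hden 0 a' a'.2
    have htn : ∀ k : ℕ, t 0 ^ k ∈ R := fun k => R.pow_mem (tR 0).2 k
    refine ⟨⟨(a : K) * t 0 ^ n * t 0 ^ n', R.mul_mem hn (htn n')⟩,
      ⟨(a' : K) * t 0 ^ n' * t 0 ^ n, R.mul_mem hn' (htn n)⟩, ?_⟩
    change (a : K) / (a' : K) = ((a : K) * t 0 ^ n * t 0 ^ n') / ((a' : K) * t 0 ^ n' * t 0 ^ n)
    have h1 : t 0 ^ n ≠ 0 := pow_ne_zero _ (ht0 0)
    have h2 : t 0 ^ n' ≠ 0 := pow_ne_zero _ (ht0 0)
    have h3 : (a' : K) ≠ 0 := fun h0 => nonZeroDivisors.ne_zero ha' (Subtype.ext h0)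
    field_simp
  · -- open immersions
    intro i
    exact @IsOpenImmersion.of_isLocalization R (A i) _ _ (ι i).toAlgebra (tR i) (loc i)
  · -- the cover
    rw [Set.eq_univ_iff_forall]
    intro p
    obtain ⟨i, hi⟩ := hmiss p.asIdeal p.isPrime.ne_top
    refine Set.mem_iUnion.mpr ⟨i, ?_⟩
    change p ∈ Set.range (Spec.map (CommRingCat.ofHom (ι i))).base
    rw [hrange i]
    exact hi
  · -- each closed point lies in exactly one chart
    intro m hm
    obtain ⟨i, hi⟩ := hmiss m.asIdeal hm.ne_top
    refine ⟨i, ?_, ?_⟩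
    · change m ∈ Set.range (Spec.map (CommRingCat.ofHom (ι i))).base
      rw [hrange i]
      exact hi
    · intro j hj
      change m ∈ Set.range (Spec.map (CommRingCat.ofHom (ι j))).base at hj
      rw [hrange j] at hj
      have hj' : tR j ∉ m.asIdeal := hj
      by_contra hne
      obtain ⟨hm', hmc⟩ := hprime i m.asIdeal m.isPrime hi
      have hm0 : m.asIdeal ≠ ⊥ := Ring.ne_bot_of_isMaximal_of_not_isField hm hRnf
      have hm'max : (m.asIdeal.map (ι i)).IsMaximal :=
        hm'.isMaximal_of_ne_bot (hmapne i m.asIdeal hmc hm0)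
      have h1 : (⟨t j, htmem j i⟩ : A i) ∈ m.asIdeal.map (ι i) := by
        have hJ := htJ j i hne (htmem j i)
        rw [Ideal.jacobson, Ideal.mem_sInf] at hJ
        exact hJ ⟨bot_le, hm'max⟩
      apply hj'
      rw [← hmc]
      exact h1

end Groth.Agent.Lib.Helper21.Glue
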