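import Groth.Agent.Lib.Helper21.DimLoc6

/-!
# The dimension inequality for the quotients of `O_{X,x}` by its primes
-/

set_option autoImplicit false
set_option linter.style.haveILetI false
set_option linter.unusedSectionVars false
set_option linter.unnecessarySimpa false
universe u
open AlgebraicGeometry CategoryTheory TopologicalSpace IsLocalRing

namespace Groth.Agent.Lib.Helper21.DimLoc

open Groth.Agent.Lib.Helper12.Codim Groth.Agent.Lib.Helper18.DimFormula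
  Groth.Agent.Lib.Helper18.SchDim Groth.Agent.Lib.Helper21.ChartPt

/-- the codimension form of the dimension inequality -/
theorem cd_add_trdeg_le (A T : Type u) [CommRing A] [CommRing T] [Algebra A T]
    [IsNoetherianRing A] [Algebra.FiniteType A T]
    (P₁ P₂ : Ideal T) [h1 : P₁.IsPrime] [h2 : P₂.IsPrime] (h : P₁ ≤ P₂)
    (𝔭₁ 𝔭₂ : Ideal A) [hp1 : 𝔭₁.IsPrime] [hp2 : 𝔭₂.IsPrime] [P₁.LiesOver 𝔭₁] [P₂.LiesOver 𝔭₂] :
    ((cd (⟨P₁, h1⟩ : PrimeSpectrum T) ⟨P₂, h2⟩ : ℕ∞) : Cardinal.{u}) +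
        Algebra.trdeg (A ⧸ 𝔭₂) (T ⧸ P₂) ≤
      ((cd (⟨𝔭₁, hp1⟩ : PrimeSpectrum A) ⟨𝔭₂, hp2⟩ : ℕ∞) : Cardinal.{u}) +
        Algebra.trdeg (A ⧸ 𝔭₁) (T ⧸ P₁) := by
  have h' : 𝔭₁ ≤ 𝔭₂ := by
    rw [Ideal.over_def P₁ 𝔭₁, Ideal.over_def P₂ 𝔭₂]
    exact Ideal.comap_mono h
  haveI := liesOver_map_mk A T P₁ P₂ h 𝔭₁ 𝔭₂ h'
  haveI : (P₂.map (Ideal.Quotient.mk P₁)).IsPrime :=
    Ideal.map_isPrime_of_surjective Ideal.Quotient.mk_surjective (by rw [Ideal.mk_ker]; exact h)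
  haveI : (𝔭₂.map (Ideal.Quotient.mk 𝔭₁)).IsPrime :=
    Ideal.map_isPrime_of_surjective Ideal.Quotient.mk_surjective (by rw [Ideal.mk_ker]; exact h')
  have key := dim_inequality (A ⧸ 𝔭₁) (T ⧸ P₁) (𝔭₂.map (Ideal.Quotient.mk 𝔭₁))
    (P₂.map (Ideal.Quotient.mk P₁))
  rw [trdeg_quotQuot A T P₁ P₂ h 𝔭₁ 𝔭₂ h', ← cd_eq_height_map_mk P₁ P₂ h,
    ← cd_eq_height_map_mk 𝔭₁ 𝔭₂ h'] at key
  exact key

/-- **Dimension inequality for the quotient by a prime of the local ring**: with `ξ` the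
generisation of `x` corresponding to `𝔭`,
`dim O_{X,x}/𝔭 + trdeg κ(x)/κ(f x) ≤ dim O_{S,f x}/(𝔭 ∩ O_{S,f x}) + trdeg κ(ξ)/κ(f ξ)`. -/
theorem ringKrullDim_quotient_inequality {X S : Scheme.{u}} [IsLocallyNoetherian S] (f : X ⟶ S)
    [LocallyOfFiniteType f] (x : X)
    (𝔭 : Ideal (X.presheaf.stalk x)) [h𝔭 : 𝔭.IsPrime] (n E : ℕ)
    (hn : @Algebra.trdeg (S.residueField (f x)) (X.residueField x) _ _
      (f.residueFieldMap x).hom.toAlgebra = n)
    (hE : @Algebra.trdeg (S.residueField (f (X.fromSpecStalk x ⟨𝔭, h𝔭⟩)))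
      (X.residueField (X.fromSpecStalk x ⟨𝔭, h𝔭⟩)) _ _
      (f.residueFieldMap (X.fromSpecStalk x ⟨𝔭, h𝔭⟩)).hom.toAlgebra = E) :
    ringKrullDim (X.presheaf.stalk x ⧸ 𝔭) + n ≤
      ringKrullDim (S.presheaf.stalk (f x) ⧸ 𝔭.comap (f.stalkMap x).hom) + E := by
  obtain ⟨V, hV, hxV, -⟩ := Opens.isBasis_iff_nbhd.mp S.isBasis_affineOpens
    (show f x ∈ (⊤ : S.Opens) from trivial)
  have hV : IsAffineOpen V := hV
  obtain ⟨U, hU, hxU, e⟩ := Opens.isBasis_iff_nbhd.mp X.isBasis_affineOpens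
    (show x ∈ f ⁻¹ᵁ V from hxV)
  have hU : IsAffineOpen U := hU
  set P : Spec (X.presheaf.stalk x) := ⟨𝔭, h𝔭⟩ with hP
  set ξ : X := X.fromSpecStalk x P with hξ
  have hξx : ξ ⤳ x := by
    have : ξ ∈ Set.range (X.fromSpecStalk x) := ⟨P, rfl⟩
    rw [Scheme.range_fromSpecStalk] at this
    exact this
  have hξU : ξ ∈ U := hξx.mem_open U.2 hxU
  haveI h𝔭' : (𝔭.comap (f.stalkMap x).hom).IsPrime := Ideal.comap_isPrime _ _
  set P' : Spec (S.presheaf.stalk (f x)) := ⟨𝔭.comap (f.stalkMap x).hom, h𝔭'⟩ with hP'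
  have hfξ : S.fromSpecStalk (f x) P' = f ξ := by
    have h3 := congrArg (fun φ : Spec (X.presheaf.stalk x) ⟶ S => φ P)
      (Scheme.SpecMap_stalkMap_fromSpecStalk f (x := x))
    simp only [Scheme.Hom.comp_apply] at h3
    exact h3
  letI alg : Algebra Γ(S, V) Γ(X, U) := (f.appLE V U e).hom.toAlgebra
  haveI : Algebra.FiniteType Γ(S, V) Γ(X, U) :=
    HasRingHomProperty.appLE (P := @LocallyOfFiniteType) f inferInstance ⟨V, hV⟩ ⟨U, hU⟩ e
  letI := S.presheaf.algebra_section_stalk ⟨f x, e hxU⟩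
  haveI := hV.isLocalization_stalk ⟨f x, e hxU⟩
  letI := X.presheaf.algebra_section_stalk ⟨x, hxU⟩
  haveI := hU.isLocalization_stalk ⟨x, hxU⟩
  set q := (hU.primeIdealOf ⟨x, hxU⟩).asIdeal with hq
  set Q₀ := (hU.primeIdealOf ⟨ξ, hξU⟩).asIdeal with hQ₀
  set p := (hV.primeIdealOf ⟨f x, e hxU⟩).asIdeal with hp
  set P₀ := (hV.primeIdealOf ⟨f ξ, e hξU⟩).asIdeal with hP₀
  haveI : q.IsPrime := (hU.primeIdealOf ⟨x, hxU⟩).2
  haveI : Q₀.IsPrime := (hU.primeIdealOf ⟨ξ, hξU⟩).2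
  haveI : p.IsPrime := (hV.primeIdealOf ⟨f x, e hxU⟩).2
  haveI : P₀.IsPrime := (hV.primeIdealOf ⟨f ξ, e hξU⟩).2
  have hqp : q.under Γ(S, V) = p := comap_primeIdealOf f hU hV e x hxU
  have hQP : Q₀.under Γ(S, V) = P₀ := comap_primeIdealOf f hU hV e ξ hξU
  haveI : q.LiesOver p := ⟨hqp.symm⟩
  haveI : Q₀.LiesOver P₀ := ⟨hQP.symm⟩
  have hle : Q₀ ≤ q := (specializes_iff_primeIdealOf_le hU ⟨ξ, hξU⟩ ⟨x, hxU⟩).1 hξx
  haveI : IsNoetherianRing Γ(S, V) := IsLocallyNoetherian.component_noetherian ⟨V, hV⟩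
  have key := cd_add_trdeg_le Γ(S, V) Γ(X, U) Q₀ q hle P₀ p
  -- codimensions upstairs
  have hcd1 : cd (⟨Q₀, inferInstance⟩ : PrimeSpectrum Γ(X, U)) ⟨q, inferInstance⟩ =
      cd (⟨𝔭, h𝔭⟩ : PrimeSpectrum (X.presheaf.stalk x))
        ⟨maximalIdeal (X.presheaf.stalk x), inferInstance⟩ := by
    rw [← cd_comap_of_isLocalization q.primeCompl (X.presheaf.stalk x)]
    congr 1
    · apply PrimeSpectrum.ext
      exact primeIdealOf_fromSpecStalk hU x hxU P hξU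
    · apply PrimeSpectrum.ext
      have hcl : X.fromSpecStalk x (closedPoint (X.presheaf.stalk x)) ∈ U := by
        rw [Scheme.fromSpecStalk_closedPoint]; exact hxU
      have h1 := primeIdealOf_fromSpecStalk hU x hxU (closedPoint (X.presheaf.stalk x)) hcl
      have h2 : hU.primeIdealOf ⟨X.fromSpecStalk x (closedPoint (X.presheaf.stalk x)), hcl⟩ =
          hU.primeIdealOf ⟨x, hxU⟩ := by
        congr 1
        exact Subtype.ext Scheme.fromSpecStalk_closedPoint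
      rw [h2] at h1
      exact h1
  have hcd2 : cd (⟨P₀, inferInstance⟩ : PrimeSpectrum Γ(S, V)) ⟨p, inferInstance⟩ =
      cd (⟨𝔭.comap (f.stalkMap x).hom, h𝔭'⟩ : PrimeSpectrum (S.presheaf.stalk (f x)))
        ⟨maximalIdeal (S.presheaf.stalk (f x)), inferInstance⟩ := by
    rw [← cd_comap_of_isLocalization p.primeCompl (S.presheaf.stalk (f x))]
    congr 1
    · apply PrimeSpectrum.ext
      have hPV : S.fromSpecStalk (f x) P' ∈ V := by rw [hfξ]; exact e hξU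
      have h1 := primeIdealOf_fromSpecStalk hV (f x) (e hxU) P' hPV
      have h2 : hV.primeIdealOf ⟨S.fromSpecStalk (f x) P', hPV⟩ =
          hV.primeIdealOf ⟨f ξ, e hξU⟩ := by
        congr 1
        exact Subtype.ext hfξ
      rw [h2] at h1
      exact h1
    · apply PrimeSpectrum.ext
      have hcl : S.fromSpecStalk (f x) (closedPoint (S.presheaf.stalk (f x))) ∈ V := by
        rw [Scheme.fromSpecStalk_closedPoint]; exact e hxU
      have h1 := primeIdealOf_fromSpecStalk hV (f x) (e hxU)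
        (closedPoint (S.presheaf.stalk (f x))) hcl
      have h2 : hV.primeIdealOf
          ⟨S.fromSpecStalk (f x) (closedPoint (S.presheaf.stalk (f x))), hcl⟩ =
          hV.primeIdealOf ⟨f x, e hxU⟩ := by
        congr 1
        exact Subtype.ext Scheme.fromSpecStalk_closedPoint
      rw [h2] at h1
      exact h1
  rw [hcd1, hcd2] at key
  have hn' := hn
  rw [trdeg_residueField f hU hV e x hxU] at hn'
  have hE' := hE
  rw [trdeg_residueField f hU hV e ξ hξU] at hE'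
  have hn'' : Algebra.trdeg (Γ(S, V) ⧸ p) (Γ(X, U) ⧸ q) = n := by
    have h0 : ∀ (p' : Ideal Γ(S, V)) (hp' : p' = q.under Γ(S, V)),
        @Algebra.trdeg (Γ(S, V) ⧸ p') (Γ(X, U) ⧸ q) _ _
          (@Ideal.Quotient.algebraOfLiesOver _ _ _ _ _ q p' ⟨hp'⟩) = n := by
      intro p' hp'
      subst hp'
      exact hn'
    exact h0 p hqp.symm
  have hE'' : Algebra.trdeg (Γ(S, V) ⧸ P₀) (Γ(X, U) ⧸ Q₀) = E := by
    have h0 : ∀ (p' : Ideal Γ(S, V)) (hp' : p' = Q₀.under Γ(S, V)),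
        @Algebra.trdeg (Γ(S, V) ⧸ p') (Γ(X, U) ⧸ Q₀) _ _
          (@Ideal.Quotient.algebraOfLiesOver _ _ _ _ _ Q₀ p' ⟨hp'⟩) = E := by
      intro p' hp'
      subst hp'
      exact hE'
    exact h0 P₀ hQP.symm
  rw [hn'', hE''] at key
  have key3 : cd (⟨𝔭, h𝔭⟩ : PrimeSpectrum (X.presheaf.stalk x))
        ⟨maximalIdeal (X.presheaf.stalk x), inferInstance⟩ + (n : ℕ∞) ≤
      cd (⟨𝔭.comap (f.stalkMap x).hom, h𝔭'⟩ : PrimeSpectrum (S.presheaf.stalk (f x)))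
        ⟨maximalIdeal (S.presheaf.stalk (f x)), inferInstance⟩ + (E : ℕ∞) := by
    have h := key
    rw [← Cardinal.ofENat_nat n, ← Cardinal.ofENat_nat E, ← Cardinal.ofENat_add,
      ← Cardinal.ofENat_add, Cardinal.ofENat_le_ofENat] at h
    exact h
  rw [ringKrullDim_quotient_eq_cd, ringKrullDim_quotient_eq_cd]
  exact_mod_cast key3

end Groth.Agent.Lib.Helper21.DimLoc
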