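import Groth.Agent.Lib.Helper21.OpenAt3
import Groth.Agent.Lib.Helper21.DimLoc7

/-!
# Morphisms open at the generic point of a component of a fibre (EGA IV 14.2.4)
-/

set_option autoImplicit false
set_option linter.style.haveILetI false
set_option linter.unusedSectionVars false
universe u

open AlgebraicGeometry CategoryTheory Limits TopologicalSpace IsLocalRing

namespace Groth.Agent.Lib.Helper21.OpenAt

open Groth.Agent.Lib.Helper21.FibDim Groth.Agent.Lib.Helper21.EquiSub
  Groth.Agent.Lib.Helper21.FourCond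

variable {X Y : Scheme.{u}}

/-- the dimension of the closure of a point in its fibre -/
theorem topologicalKrullDim_closure_inter_fiber (f : X ⟶ Y) [LocallyOfFiniteType f] (ζ : X)
    (n : ℕ) (hn : @Algebra.trdeg (Y.residueField (f ζ)) (X.residueField ζ) _ _
      (f.residueFieldMap ζ).hom.toAlgebra = n) :
    topologicalKrullDim ↥(closure ({ζ} : Set X) ∩ f.base ⁻¹' {f ζ}) = n := by
  letI := fiberOver f (f ζ)
  haveI : LocallyOfFiniteType (f.fiber (f ζ) ↘ Spec (CommRingCat.of (Y.residueField (f ζ)))) :=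
    MorphismProperty.pullback_snd (P := @LocallyOfFiniteType) _ _ inferInstance
  have key : ∀ (y : X) (z : f.fiber (f ζ)), f.fiberι (f ζ) z = y →
      @Algebra.trdeg (Y.residueField (f ζ)) ((f.fiber (f ζ)).residueField z) _ _
        (Curv2.resAlgebra (Y.residueField (f ζ)) (f.fiber (f ζ)) z) =
      @Algebra.trdeg (Y.residueField (f y)) (X.residueField y) _ _
        (f.residueFieldMap y).hom.toAlgebra := by
    rintro y z rfl
    exact trdeg_fiber_eq f (f ζ) z
  have h1 := key ζ (f.asFiber ζ) (Scheme.Hom.fiberι_asFiber f ζ)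
  rw [hn] at h1
  have h2 := topologicalKrullDim_closure_singleton (Y.residueField (f ζ)) (f.fiber (f ζ))
    (f.asFiber ζ) n h1
  rw [← h2]
  let φ : ↥(closure ({f.asFiber ζ} : Set (f.fiber (f ζ)))) →
      ↥(closure ({ζ} : Set X) ∩ f.base ⁻¹' {f ζ}) :=
    fun t => ⟨f.fiberι (f ζ) t.1, ⟨by
      have h3 := (specializes_iff_mem_closure.mpr t.2).map (f.fiberι (f ζ)).continuous
      rw [Scheme.Hom.fiberι_asFiber] at h3
      exact specializes_iff_mem_closure.mp h3, (f.fiberHomeo (f ζ) t.1).2⟩⟩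
  have hφ : Topology.IsEmbedding φ := by
    have h1 : Topology.IsEmbedding
        (fun t : ↥(closure ({f.asFiber ζ} : Set (f.fiber (f ζ)))) => f.fiberι (f ζ) t.1) :=
      (f.fiberι (f ζ)).isEmbedding.comp Topology.IsEmbedding.subtypeVal
    exact Topology.IsEmbedding.of_comp (h1.continuous.subtype_mk _) continuous_subtype_val h1
  have hsurj : Function.Surjective φ := by
    rintro ⟨z, hz1, hz2⟩
    obtain ⟨t, rfl⟩ : z ∈ Set.range (f.fiberι (f ζ)) := by
      rw [Scheme.Hom.range_fiberι]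
      exact hz2
    refine ⟨⟨t, ?_⟩, rfl⟩
    rw [← specializes_iff_mem_closure,
      ← (f.fiberι (f ζ)).isEmbedding.isInducing.specializes_iff, Scheme.Hom.fiberι_asFiber]
    exact specializes_iff_mem_closure.mpr hz1
  exact ((hφ.toHomeomorphOfSurjective hsurj).isHomeomorph.topologicalKrullDim_eq).symm

/-- irreducibility can be tested after an inducing map -/
theorem isIrreducible_of_image_of_isInducing {A B : Type*} [TopologicalSpace A]
    [TopologicalSpace B] {g : A → B} (hg : Topology.IsInducing g) {s : Set A}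
    (h : IsIrreducible (g '' s)) : IsIrreducible s := by
  refine ⟨h.1.of_image, ?_⟩
  rintro U V hU hV ⟨a, has, haU⟩ ⟨b, hbs, hbV⟩
  obtain ⟨U', hU', rfl⟩ := hg.isOpen_iff.mp hU
  obtain ⟨V', hV', rfl⟩ := hg.isOpen_iff.mp hV
  obtain ⟨_, ⟨c, hcs, rfl⟩, hcU, hcV⟩ := h.2 U' V' hU' hV' ⟨g a, ⟨a, has, rfl⟩, haU⟩
    ⟨g b, ⟨b, hbs, rfl⟩, hbV⟩
  exact ⟨c, hcs, hcU, hcV⟩

/-- a maximal irreducible subset of a fibre has a generic point -/
theorem exists_generic_of_fibre_component (f : X ⟶ Y) (y : Y) (Z : Set X)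
    (hZy : Z ⊆ f.base ⁻¹' {y}) (hZ : IsIrreducible Z)
    (hZmax : ∀ Z' : Set X, IsIrreducible Z' → Z' ⊆ f.base ⁻¹' {y} → Z ⊆ Z' → Z' = Z) :
    ∃ ζ ∈ Z, Z = closure {ζ} ∩ f.base ⁻¹' {y} := by
  haveI : QuasiSober ↥(f.base ⁻¹' {y}) :=
    (f.fiberHomeo y).symm.isClosedEmbedding.quasiSober
  let ZF : Set ↥(f.base ⁻¹' {y}) := Subtype.val ⁻¹' Z
  have himg : Subtype.val '' ZF = Z := by
    rw [Subtype.image_preimage_coe]
    exact Set.inter_eq_right.mpr hZy
  have hZF : IsIrreducible ZF := by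
    apply isIrreducible_of_image_of_isInducing Topology.IsInducing.subtypeVal
    rw [himg]
    exact hZ
  obtain ⟨ζF, hζF⟩ := QuasiSober.sober hZF.closure isClosed_closure
  have hcl : closure ({ζF} : Set ↥(f.base ⁻¹' {y})) = closure ZF := hζF.def
  have h1 : IsIrreducible (Subtype.val '' closure ZF) :=
    hZF.closure.image _ continuous_subtype_val.continuousOn
  have h2 : Subtype.val '' closure ZF ⊆ f.base ⁻¹' {y} := by
    rintro _ ⟨t, -, rfl⟩
    exact t.2
  have h3 : Z ⊆ Subtype.val '' closure ZF := by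
    rw [← himg]
    exact Set.image_mono subset_closure
  have h4 := hZmax _ h1 h2 h3
  refine ⟨ζF.1, ?_, ?_⟩
  · rw [← h4]
    exact ⟨ζF, by rw [← hcl]; exact subset_closure rfl, rfl⟩
  · rw [← h4, ← hcl, Topology.IsInducing.subtypeVal.closure_eq_preimage_closure_image,
      Subtype.image_preimage_coe, Set.image_singleton, Set.inter_comm]

end Groth.Agent.Lib.Helper21.OpenAt
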