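import Groth.Agent.Lib.Helper21.FibDimR3

/-!
# Finiteness of a map between iterated pushouts of rings
-/

set_option autoImplicit false
set_option linter.style.haveILetI false
universe u

open Algebra TensorProduct

namespace Groth.Agent.Lib.Helper21.AffFib

/-- in the situation `R → A' → B`, `R → k`, `F' = A' ⊔_R k`, `Q' = B ⊔_{A'} F'` (only the
commutativity and the generation of `Q'` are used), with `R[T] → A'`: if
`k ⊗ R[T] → k ⊗ B` is finite, so is `F' → Q'` -/
theorem finite_of_pushout_data {R A' B k F' Q' : Type u} [CommRing R] [CommRing A'] [CommRing B]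
    [Field k] [CommRing F'] [CommRing Q'] [algRk : Algebra R k] [algRB : Algebra R B]
    (α : R →+* A') (γ : A' →+* B) (ι₁ : A' →+* F') (ι₂ : k →+* F')
    (j₁ : B →+* Q') (j₂ : F' →+* Q') (hB : algebraMap R B = γ.comp α)
    (h1 : ι₁.comp α = ι₂.comp (algebraMap R k)) (h2 : j₁.comp γ = j₂.comp ι₁)
    (hgen : Subring.closure (Set.range j₁ ∪ Set.range (j₂.comp ι₂)) = ⊤)
    {n : Type u} (ψ : MvPolynomial n R →+* A') (hψ : ψ.comp MvPolynomial.C = α)
    (π : MvPolynomial n R →ₐ[R] B) (hπ : (π : MvPolynomial n R →+* B) = γ.comp ψ)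
    (hT : (Algebra.TensorProduct.map (AlgHom.id k k) π).toRingHom.Finite) :
    j₂.Finite := by
  letI algRQ : Algebra R Q' := (j₁.comp (algebraMap R B)).toAlgebra
  letI algRF : Algebra R F' := (ι₁.comp α).toAlgebra
  set ρ : R →+* k := algebraMap R k with hρ
  have hB' : ∀ r : R, algebraMap R B r = γ (α r) := fun r =>
    congrArg (fun φ : R →+* B => φ r) hB
  have h1' : ∀ r : R, ι₁ (α r) = ι₂ (ρ r) := fun r => congrArg (fun φ : R →+* F' => φ r) h1
  have h2' : ∀ x : A', j₁ (γ x) = j₂ (ι₁ x) := fun x => congrArg (fun φ : A' →+* Q' => φ x) h2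
  have hψ' : ∀ r : R, ψ (MvPolynomial.C r) = α r := fun r =>
    congrArg (fun φ : R →+* A' => φ r) hψ
  have hπ' : ∀ t : MvPolynomial n R, π t = γ (ψ t) := fun t =>
    congrArg (fun φ : MvPolynomial n R →+* B => φ t) hπ
  let J₁ : B →ₐ[R] Q' := { j₁ with commutes' := fun r => rfl }
  let J₂ι₂ : k →ₐ[R] Q' := { j₂.comp ι₂ with
    commutes' := fun r => by
      show j₂ (ι₂ (ρ r)) = j₁ (algebraMap R B r)
      rw [hB', ← h1', ← h2'] }
  let J₂ : F' →ₐ[R] Q' := { j₂ with
    commutes' := fun r => by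
      show j₂ (ι₁ (α r)) = j₁ (algebraMap R B r)
      rw [hB', ← h2'] }
  let I₂ : k →ₐ[R] F' := { ι₂ with
    commutes' := fun r => by
      show ι₂ (ρ r) = ι₁ (α r)
      rw [h1'] }
  let Ψ : MvPolynomial n R →ₐ[R] F' := { ι₁.comp ψ with
    commutes' := fun r => by
      show ι₁ (ψ (MvPolynomial.C r)) = ι₁ (α r)
      rw [hψ'] }
  let eQ : k ⊗[R] B →ₐ[R] Q' := Algebra.TensorProduct.productMap J₂ι₂ J₁
  let eF : k ⊗[R] MvPolynomial n R →ₐ[R] F' := Algebra.TensorProduct.productMap I₂ Ψ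
  let T := Algebra.TensorProduct.map (AlgHom.id k k) π
  have hcomm : J₂.comp eF = eQ.comp (T.restrictScalars R) := by
    apply Algebra.TensorProduct.ext'
    intro a t
    show j₂ (eF (a ⊗ₜ t)) = eQ (T (a ⊗ₜ t))
    simp only [eF, eQ, T, Algebra.TensorProduct.productMap_apply_tmul,
      Algebra.TensorProduct.map_tmul, AlgHom.coe_id, id_eq, map_mul]
    show j₂ (ι₂ a) * j₂ (ι₁ (ψ t)) = j₂ (ι₂ a) * j₁ (π t)
    rw [hπ', h2']
  have hsurj : Function.Surjective eQ := by
    rw [← AlgHom.range_eq_top, Algebra.TensorProduct.productMap_range]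
    rw [_root_.eq_top_iff]
    intro x _
    have hx : x ∈ Subring.closure (Set.range j₁ ∪ Set.range (j₂.comp ι₂)) := by
      rw [hgen]; trivial
    have hle : Subring.closure (Set.range j₁ ∪ Set.range (j₂.comp ι₂)) ≤
        (J₂ι₂.range ⊔ J₁.range).toSubring := by
      rw [Subring.closure_le]
      rintro y (⟨b, rfl⟩ | ⟨c, rfl⟩)
      · exact (le_sup_right : J₁.range ≤ J₂ι₂.range ⊔ J₁.range) ⟨b, rfl⟩
      · exact (le_sup_left : J₂ι₂.range ≤ J₂ι₂.range ⊔ J₁.range) ⟨c, rfl⟩
    exact hle hx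
  have hfin1 : (eQ.toRingHom.comp T.toRingHom).Finite :=
    (RingHom.Finite.of_surjective _ hsurj).comp hT
  have heq : j₂.comp eF.toRingHom = eQ.toRingHom.comp T.toRingHom := by
    apply RingHom.ext
    intro x
    exact congrArg (fun φ : k ⊗[R] MvPolynomial n R →ₐ[R] Q' => φ x) hcomm
  rw [← heq] at hfin1
  exact RingHom.Finite.of_comp_finite hfin1

end Groth.Agent.Lib.Helper21.AffFib
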