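import Groth.Agent.Lib.Helper21.AffFib1
import Groth.Agent.Lib.Helper21.ChartPt1
import Mathlib.AlgebraicGeometry.AffineSpace
import Mathlib.AlgebraicGeometry.Fiber
import Mathlib.AlgebraicGeometry.Morphisms.Finite

/-!
# A morphism to affine space which is finite on a fibre (affine case)
-/

set_option autoImplicit false
set_option linter.style.haveILetI false
universe u

open CategoryTheory Limits AlgebraicGeometry TensorProduct

namespace Groth.Agent.Lib.Helper21.AffFib

/-- every element of the residue field at a point of an affine scheme is a fraction of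
evaluations of global sections -/
theorem exists_frac_evaluation {Y : Scheme.{u}} [IsAffine Y] (y : Y) (z : Y.residueField y) :
    ∃ r s : Γ(Y, ⊤), (Y.evaluation ⊤ y trivial).hom s ≠ 0 ∧
      z * (Y.evaluation ⊤ y trivial).hom s = (Y.evaluation ⊤ y trivial).hom r := by
  have hU := isAffineOpen_top Y
  letI := (ChartPt.evQ hU y trivial).toAlgebra
  haveI := ChartPt.isFractionRing_evQ hU y trivial
  obtain ⟨⟨q, s⟩, hqs⟩ := IsLocalization.surj
    (nonZeroDivisors (Γ(Y, ⊤) ⧸ (hU.primeIdealOf ⟨y, trivial⟩).asIdeal)) z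
  obtain ⟨r, rfl⟩ := Ideal.Quotient.mk_surjective q
  obtain ⟨s', hs'⟩ := Ideal.Quotient.mk_surjective
    (s : Γ(Y, ⊤) ⧸ (hU.primeIdealOf ⟨y, trivial⟩).asIdeal)
  refine ⟨r, s', ?_, ?_⟩
  · intro h0
    have : (s : Γ(Y, ⊤) ⧸ (hU.primeIdealOf ⟨y, trivial⟩).asIdeal) = 0 := by
      apply ChartPt.evQ_injective hU y trivial
      rw [map_zero, ← hs', ChartPt.evQ_mk]
      exact h0
    exact nonZeroDivisors.ne_zero s.2 this
  · have := hqs
    simp only [RingHom.algebraMap_toAlgebra] at this
    rw [← hs', ChartPt.evQ_mk, ChartPt.evQ_mk] at this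
    exact this

theorem fromSpecResidueField_appTop {Y : Scheme.{u}} (y : Y) :
    (Y.fromSpecResidueField y).appTop ≫ (Scheme.ΓSpecIso _).hom = Y.evaluation ⊤ y trivial := by
  rw [Scheme.fromSpecResidueField, Scheme.Hom.comp_appTop, Scheme.fromSpecStalk_appTop]
  simp [Scheme.evaluation]

/-- the pushout square of global sections of a pullback along the inclusion of a point -/
theorem isPushout_of_isPullback_fromSpecResidueField {P X Y : Scheme.{u}} [IsAffine X]
    [IsAffine Y] {f : X ⟶ Y} {y : Y} {fst : P ⟶ X} {snd : P ⟶ Spec (Y.residueField y)}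
    (hpb : IsPullback fst snd f (Y.fromSpecResidueField y)) :
    IsPushout f.appTop (Y.evaluation ⊤ y trivial) fst.appTop
      ((Scheme.ΓSpecIso (Y.residueField y)).inv ≫ snd.appTop) := by
  have hpo := isPushout_appTop_of_isPullback hpb
  refine hpo.of_iso (Iso.refl _) (Iso.refl _) (Scheme.ΓSpecIso (Y.residueField y)) (Iso.refl _)
    ?_ ?_ ?_ ?_
  · simp
  · rw [fromSpecResidueField_appTop]; simp
  · simp
  · simp

/-- the pushout square of global sections of a fibre -/
theorem isPushout_fiber {X Y : Scheme.{u}} [IsAffine X] [IsAffine Y] (f : X ⟶ Y) (y : Y) :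
    IsPushout f.appTop (Y.evaluation ⊤ y trivial) (f.fiberι y).appTop
      ((Scheme.ΓSpecIso (Y.residueField y)).inv ≫ (f.fiberToSpecResidueField y).appTop) :=
  isPushout_of_isPullback_fromSpecResidueField (IsPullback.of_hasPullback _ _)

/-- the dimension of the fibre ring is the dimension of the fibre -/
theorem ringKrullDim_tensor_eq {X Y : Scheme.{u}} [IsAffine X] [IsAffine Y] (f : X ⟶ Y) (y : Y) :
    letI := (Y.evaluation ⊤ y trivial).hom.toAlgebra
    letI := f.appTop.hom.toAlgebra
    ringKrullDim ((Y.residueField y) ⊗[Γ(Y, ⊤)] Γ(X, ⊤)) = topologicalKrullDim ↥(f.fiber y) := by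
  letI := (Y.evaluation ⊤ y trivial).hom.toAlgebra
  letI := f.appTop.hom.toAlgebra
  have h1 := isPushout_fiber f y
  have h2 := CommRingCat.isPushout_tensorProduct Γ(Y, ⊤) (Y.residueField y) Γ(X, ⊤)
  have e := (h2.flip.isoIsPushout _ _ h1).commRingCatIsoToRingEquiv
  rw [ringKrullDim_eq_of_ringEquiv e,
    ← PrimeSpectrum.topologicalKrullDim_eq_ringKrullDim]
  exact (IsHomeomorph.topologicalKrullDim_eq _
    (f.fiber y).isoSpec.hom.homeomorph.isHomeomorph).symm

/-- reindexing the variables does not affect finiteness on the fibre -/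
theorem finite_map_comp_rename {R B K : Type u} [CommRing R] [CommRing B] [Algebra R B] [Field K]
    [Algebra R K] {m : Type*} {n : Type*} (ε : n ≃ m) (π : MvPolynomial m R →ₐ[R] B)
    (hπ : (Algebra.TensorProduct.map (AlgHom.id K K) π).toRingHom.Finite) :
    (Algebra.TensorProduct.map (AlgHom.id K K)
      (π.comp (MvPolynomial.rename ε :
        MvPolynomial n R →ₐ[R] MvPolynomial m R))).toRingHom.Finite := by
  rw [Algebra.TensorProduct.map_id_comp]
  have hsurj : Function.Surjective (Algebra.TensorProduct.map (AlgHom.id K K)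
      (MvPolynomial.rename ε : MvPolynomial n R →ₐ[R] MvPolynomial m R)) := by
    intro x
    induction x using TensorProduct.induction_on with
    | zero => exact ⟨0, map_zero _⟩
    | tmul a t =>
      refine ⟨a ⊗ₜ (MvPolynomial.rename ε.symm t), ?_⟩
      rw [Algebra.TensorProduct.map_tmul, MvPolynomial.rename_rename]
      simp
    | add x y hx hy =>
      obtain ⟨x', rfl⟩ := hx
      obtain ⟨y', rfl⟩ := hy
      exact ⟨x' + y', map_add _ _ _⟩
  exact RingHom.Finite.comp hπ (RingHom.Finite.of_surjective _ hsurj)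

end Groth.Agent.Lib.Helper21.AffFib
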