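import Groth.Agent.Lib.Helper21.AffFib2

set_option autoImplicit false
set_option linter.style.haveILetI false
universe u

open CategoryTheory Limits AlgebraicGeometry TensorProduct

namespace Groth.Agent.Lib.Helper21.AffFib

theorem exists_hom_finite {X Y : Scheme.{u}} [IsAffine X] [IsAffine Y] (f : X ⟶ Y)
    [LocallyOfFiniteType f] (y : Y) (e : ℕ)
    (he : topologicalKrullDim ↥(f.fiber y) = e) :
    ∃ g : X ⟶ 𝔸(ULift.{u} (Fin e); Y), g ≫ (𝔸(ULift.{u} (Fin e); Y) ↘ Y) = f ∧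
      IsFinite (pullback.snd g ((𝔸(ULift.{u} (Fin e); Y) ↘ Y).fiberι y)) := by
  letI algRk : Algebra Γ(Y, ⊤) (Y.residueField y) := (Y.evaluation ⊤ y trivial).hom.toAlgebra
  letI algRB : Algebra Γ(Y, ⊤) Γ(X, ⊤) := f.appTop.hom.toAlgebra
  haveI : Algebra.FiniteType Γ(Y, ⊤) Γ(X, ⊤) := by
    have := (HasRingHomProperty.iff_of_isAffine (P := @LocallyOfFiniteType)).mp ‹_›
    exact this
  have hK : ∀ k : Y.residueField y, ∃ r s : Γ(Y, ⊤), algebraMap Γ(Y, ⊤) (Y.residueField y) s ≠ 0 ∧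
      k * algebraMap Γ(Y, ⊤) (Y.residueField y) s = algebraMap Γ(Y, ⊤) (Y.residueField y) r :=
    exists_frac_evaluation y
  have hd : ringKrullDim ((Y.residueField y) ⊗[Γ(Y, ⊤)] Γ(X, ⊤)) = e := by
    rw [← he]
    exact ringKrullDim_tensor_eq f y
  obtain ⟨π, hπ⟩ := FibDim.exists_algHom_finite_fiber_of_ringKrullDim_of_frac Γ(Y, ⊤) Γ(X, ⊤)
    (Y.residueField y) hK e hd
  let π' : MvPolynomial (ULift.{u} (Fin e)) Γ(Y, ⊤) →ₐ[Γ(Y, ⊤)] Γ(X, ⊤) :=
    π.comp (MvPolynomial.rename Equiv.ulift :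
      MvPolynomial (ULift.{u} (Fin e)) Γ(Y, ⊤) →ₐ[Γ(Y, ⊤)] MvPolynomial (Fin e) Γ(Y, ⊤))
  have hπ' : (Algebra.TensorProduct.map (AlgHom.id (Y.residueField y) (Y.residueField y))
      π').toRingHom.Finite := finite_map_comp_rename Equiv.ulift π hπ
  let g : X ⟶ 𝔸(ULift.{u} (Fin e); Y) :=
    AffineSpace.homOfVector f (fun i => π' (MvPolynomial.X i))
  have hg : g ≫ (𝔸(ULift.{u} (Fin e); Y) ↘ Y) = f := AffineSpace.homOfVector_over _ _
  refine ⟨g, hg, ?_⟩
  -- notation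
  let h : 𝔸(ULift.{u} (Fin e); Y) ⟶ Y := 𝔸(ULift.{u} (Fin e); Y) ↘ Y
  let τ := h.fiberToSpecResidueField y
  let fstQ := pullback.fst g (h.fiberι y)
  let sndQ := pullback.snd g (h.fiberι y)
  haveI : IsAffine (h.fiber y) := inferInstance
  haveI : IsAffine (pullback g (h.fiberι y)) := inferInstance
  change IsFinite sndQ
  rw [HasAffineProperty.iff_of_isAffine (P := @IsFinite)]
  refine ⟨inferInstance, ?_⟩
  -- the pasted pullback square
  have hsq1 : IsPullback fstQ sndQ g (h.fiberι y) := IsPullback.of_hasPullback _ _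
  have hsq2 : IsPullback (h.fiberι y) τ h (Y.fromSpecResidueField y) :=
    IsPullback.of_hasPullback _ _
  have hsq : IsPullback fstQ (sndQ ≫ τ) (g ≫ h) (Y.fromSpecResidueField y) :=
    hsq1.paste_vert hsq2
  have hpo := isPushout_of_isPullback_fromSpecResidueField hsq
  have hgen := CommRingCat.closure_range_union_range_eq_top_of_isPushout hpo
  have hpoF := isPushout_fiber h y
  let ψ : MvPolynomial (ULift.{u} (Fin e)) Γ(Y, ⊤) →+* Γ(𝔸(ULift.{u} (Fin e); Y), ⊤) :=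
    MvPolynomial.eval₂Hom h.appTop.hom (AffineSpace.coord Y)
  refine finite_of_pushout_data (R := Γ(Y, ⊤)) (A' := Γ(𝔸(ULift.{u} (Fin e); Y), ⊤))
    (B := Γ(X, ⊤)) (k := Y.residueField y) (F' := Γ(h.fiber y, ⊤))
    (Q' := Γ(pullback g (h.fiberι y), ⊤))
    h.appTop.hom g.appTop.hom (h.fiberι y).appTop.hom
    ((Scheme.ΓSpecIso (Y.residueField y)).inv ≫ τ.appTop).hom
    fstQ.appTop.hom sndQ.appTop.hom ?_ ?_ ?_ ?_ ψ ?_ π' ?_ hπ'
  · have h1 : f.appTop = h.appTop ≫ g.appTop := by rw [← Scheme.Hom.comp_appTop, hg]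
    change f.appTop.hom = _
    rw [h1]
    rfl
  · exact congrArg CommRingCat.Hom.hom hpoF.w
  · have h3 := congrArg Scheme.Hom.appTop hsq1.w
    rw [Scheme.Hom.comp_appTop, Scheme.Hom.comp_appTop] at h3
    exact congrArg CommRingCat.Hom.hom h3
  · rw [Scheme.Hom.comp_appTop] at hgen
    exact hgen
  · exact RingHom.ext fun r => by simp [ψ]
  · apply MvPolynomial.ringHom_ext
    · intro r
      change π' (MvPolynomial.C r) = g.appTop.hom (ψ (MvPolynomial.C r))
      have h1 : f.appTop = h.appTop ≫ g.appTop := by rw [← Scheme.Hom.comp_appTop, hg]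
      simp only [ψ, MvPolynomial.coe_eval₂Hom, MvPolynomial.eval₂_C]
      rw [← MvPolynomial.algebraMap_eq, AlgHom.commutes]
      change f.appTop.hom r = _
      rw [h1]
      rfl
    · intro i
      change π' (MvPolynomial.X i) = g.appTop.hom (ψ (MvPolynomial.X i))
      simp only [ψ, MvPolynomial.coe_eval₂Hom, MvPolynomial.eval₂_X]
      exact (AffineSpace.homOfVector_appTop_coord f (fun i => π' (MvPolynomial.X i)) i).symm

end Groth.Agent.Lib.Helper21.AffFib
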