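import Groth.Agent.Lib.Helper21.AnDensity
import Mathlib.AlgebraicGeometry.Noetherian

/-!
# Consequences of the density theorem for ℂ-points

* `exists_pt_mem_of_isLocallyConstructible`: a nonempty locally constructible subset contains the
  point of a ℂ-point.
* `isOpen_iff_preimage`, `isClosed_iff_preimage`, `dense_iff_preimage`, `discreteTopology_iff`.
-/

set_option autoImplicit false
open CategoryTheory AlgebraicGeometry Topology TopologicalSpace Filter
open An

namespace Groth.Agent.Lib.Helper21.AnPts

/-- a nonempty constructible subset of a compact quasi-separated prespectral space contains a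
nonempty locally closed subset -/
lemma exists_isLocallyClosed_subset {Y : Type*} [TopologicalSpace Y] [CompactSpace Y]
    [QuasiSeparatedSpace Y] [PrespectralSpace Y] (s : Set Y) (hs : IsConstructible s)
    (hne : s.Nonempty) : ∃ Z ⊆ s, Z.Nonempty ∧ IsLocallyClosed Z := by
  have hbasis : IsTopologicalBasis
      (Set.range fun U : {U : Set Y // IsOpen U ∧ IsCompact U} => (U : Set Y)) := by
    rw [Subtype.range_coe_subtype]
    exact PrespectralSpace.isTopologicalBasis
  have : Nonempty {U : Set Y // IsOpen U ∧ IsCompact U} := ⟨⟨∅, isOpen_empty, isCompact_empty⟩⟩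
  revert hne
  refine IsConstructible.induction_of_isTopologicalBasis
    (P := fun s _ => s.Nonempty → ∃ Z ⊆ s, Z.Nonempty ∧ IsLocallyClosed Z)
    (fun U : {U : Set Y // IsOpen U ∧ IsCompact U} => (U : Set Y)) hbasis (fun U => U.2.2)
    ?_ ?_ s hs
  · intro U t _ hne
    refine ⟨_, subset_rfl, hne, ?_⟩
    have hO : IsOpen (⋃ j ∈ t, (j : Set Y)) := isOpen_biUnion fun V _ => V.2.1
    have : (U : Set Y) \ ⋃ j ∈ t, (j : Set Y) = (U : Set Y) ∩ (⋃ j ∈ t, (j : Set Y))ᶜ := rfl
    rw [this]
    exact U.2.1.isLocallyClosed.inter hO.isClosed_compl.isLocallyClosed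
  · intro s _ t _ hs ht hne
    rcases hne with ⟨e, he | he⟩
    · obtain ⟨Z, hZs, hZ⟩ := hs ⟨e, he⟩
      exact ⟨Z, hZs.trans Set.subset_union_left, hZ⟩
    · obtain ⟨Z, hZs, hZ⟩ := ht ⟨e, he⟩
      exact ⟨Z, hZs.trans Set.subset_union_right, hZ⟩

lemma isLocallyConstructible_compl {Y : Type*} [TopologicalSpace Y] {T : Set Y}
    (hT : IsLocallyConstructible T) : IsLocallyConstructible Tᶜ := by
  intro x
  obtain ⟨U, hU, hUo, hc⟩ := hT x
  refine ⟨U, hU, hUo, ?_⟩
  have := hc.compl
  rwa [← Set.preimage_compl] at this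

variable {X : Scheme.{0}} [X.Over SC] [LocallyOfFiniteType (X ↘ SC)]

lemma isLocallyNoetherian : IsLocallyNoetherian X :=
  LocallyOfFiniteType.isLocallyNoetherian (X ↘ SC)

/-- every nonempty locally constructible subset contains (the point of) a ℂ-point -/
theorem exists_pt_mem_of_isLocallyConstructible (E : Set X) (hE : IsLocallyConstructible E)
    (hne : E.Nonempty) : ∃ x : Pts X, x.pt ∈ E := by
  obtain ⟨e, he⟩ := hne
  obtain ⟨U, hU, heU⟩ := exists_affine_nhd e
  have : IsAffine (U : Scheme.{0}) := hU
  have hE' : IsConstructible (U.ι ⁻¹' E) :=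
    (hE.preimage_of_isOpenEmbedding U.ι.isOpenEmbedding).isConstructible
  obtain ⟨Z, hZE, hZne, hZ⟩ := exists_isLocallyClosed_subset _ hE' ⟨⟨e, heU⟩, he⟩
  have hZ' : IsLocallyClosed (U.ι '' Z) :=
    hZ.image U.ι.isOpenEmbedding.isInducing U.ι.isOpenEmbedding.isOpen_range.isLocallyClosed
  have := jacobsonSpace (X := X)
  obtain ⟨c, hcZ, hc⟩ := nonempty_inter_closedPoints (hZne.image U.ι) hZ'
  obtain ⟨x, rfl⟩ := exists_pt_eq_of_isClosed c hc
  refine ⟨x, ?_⟩
  obtain ⟨z, hz, hzx⟩ := hcZ
  rw [← hzx]
  exact hZE hz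

omit [X.Over SC] [LocallyOfFiniteType (X ↘ SC)] in
lemma isLocallyConstructible_of_isClosed [IsLocallyNoetherian X] (Z : Set X) (hZ : IsClosed Z) :
    IsLocallyConstructible Z := by
  have hret : IsRetrocompact (Zᶜ : Set X) := by
    let W : X.Opens := ⟨Zᶜ, hZ.isOpen_compl⟩
    have := W.ι.isSpectralMap
    exact IsRetrocompact_iff_isSpectralMap_subtypeVal.mpr this
  have := (hret.isConstructible hZ.isOpen_compl).compl
  rw [compl_compl] at this
  exact this.isLocallyConstructible

/-- open case of the comparison of topologies -/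
theorem isOpen_iff_preimage (T : Set X) (hT : IsLocallyConstructible T) :
    IsOpen T ↔ IsOpen (Pts.pt ⁻¹' T : Set (Pts X)) := by
  constructor
  · intro h
    exact h.preimage Pts.continuous_pt
  · intro h
    have hln := isLocallyNoetherian (X := X)
    rw [← isClosed_compl_iff, ← closure_subset_iff_isClosed]
    intro z hz
    by_contra hzT
    have hzT' : z ∈ T := not_not.mp hzT
    have hE : IsLocallyConstructible (closure Tᶜ ∩ T) :=
      (isLocallyConstructible_of_isClosed _ isClosed_closure).inter hT
    obtain ⟨x, hx1, hx2⟩ := exists_pt_mem_of_isLocallyConstructible _ hE ⟨z, hz, hzT'⟩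
    have h1 : x ∈ (Pts.pt ⁻¹' closure Tᶜ : Set (Pts X)) := hx1
    rw [preimage_closure Tᶜ (isLocallyConstructible_compl hT)] at h1
    obtain ⟨w, hw1, hw2⟩ := mem_closure_iff.mp h1 _ h hx2
    exact hw2 hw1

theorem dense_iff_preimage (T : Set X) (hT : IsLocallyConstructible T) :
    Dense T ↔ Dense (Pts.pt ⁻¹' T : Set (Pts X)) := by
  rw [dense_iff_closure_eq, dense_iff_closure_eq, ← preimage_closure T hT]
  constructor
  · intro h
    rw [h]
    rfl
  · intro h
    have := jacobsonSpace (X := X)
    rw [Set.eq_univ_iff_forall] at h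
    have hsub : closedPoints X ⊆ closure T := by
      intro c hc
      obtain ⟨x, rfl⟩ := exists_pt_eq_of_isClosed c hc
      exact h x
    rw [← Set.univ_subset_iff, ← closure_closedPoints (X := X)]
    exact closure_minimal hsub isClosed_closure

theorem discreteTopology_iff : DiscreteTopology X ↔ DiscreteTopology (Pts X) := by
  constructor
  · intro h
    exact DiscreteTopology.of_continuous_injective Pts.continuous_pt pt_injective
  · intro h
    have hln := isLocallyNoetherian (X := X)
    have := jacobsonSpace (X := X)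
    have hopen : ∀ c : X, IsClosed ({c} : Set X) → IsOpen ({c} : Set X) := by
      intro c hc
      rw [isOpen_iff_preimage _ (isLocallyConstructible_of_isClosed _ hc)]
      exact isOpen_discrete _
    rw [discreteTopology_iff_isOpen_singleton]
    intro y
    obtain ⟨c, hcy, hc⟩ := nonempty_inter_closedPoints (X := X) (Z := closure {y})
      ⟨y, subset_closure rfl⟩ isClosed_closure.isLocallyClosed
    have hco := hopen c hc
    obtain ⟨w, hw1, hw2⟩ := mem_closure_iff.mp hcy _ hco rfl
    rw [Set.mem_singleton_iff] at hw1 hw2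
    have hyc : y = c := hw2.symm.trans hw1
    rw [hyc]
    exact hco

end Groth.Agent.Lib.Helper21.AnPts
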