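import Groth.Agent.Lib.Helper21.AnConnRing
import Groth.Agent.Lib.Helper21.AnDensityCor

/-!
# Connectedness of the ℂ-points of an irreducible closed subset (affine case)
-/

set_option autoImplicit false
open CategoryTheory AlgebraicGeometry Topology TopologicalSpace Filter
open An

namespace Groth.Agent.Lib.Helper21.AnPts

open Groth.Agent.Lib.Helper21.AnDensity Groth.Agent.Lib.Helper21.AnConn

variable {X : Scheme.{0}} [X.Over SC]

/-- the ℂ-points of an affine scheme of finite type over ℂ whose evaluation kills a given prime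
ideal form a preconnected set -/
theorem isPreconnected_setOf_le_ker [IsAffine X] [LocallyOfFiniteType (X ↘ SC)]
    (p : Ideal Γ(X, ⊤)) [hp : p.IsPrime] :
    IsPreconnected {x : Pts X | p ≤ RingHom.ker (evHom x ⊤ (Opens.mem_top _))} := by
  classical
  let _ : Algebra ℂ Γ(X, ⊤) := (strHom X).toAlgebra
  have hft : Algebra.FiniteType ℂ Γ(X, ⊤) := finiteType_strHom (X := X)
  have hftB : Algebra.FiniteType ℂ (Γ(X, ⊤) ⧸ p) :=
    Algebra.FiniteType.of_surjective (Ideal.Quotient.mkₐ ℂ p) (Ideal.Quotient.mkₐ_surjective ℂ p)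
  have hdom : IsDomain (Γ(X, ⊤) ⧸ p) := Ideal.Quotient.isDomain p
  let r : ((Γ(X, ⊤) ⧸ p) → ℂ) → (Γ(X, ⊤) → ℂ) := fun w a => w (Ideal.Quotient.mk p a)
  have hr : Continuous r := continuous_pi fun a => continuous_apply _
  -- from points of the quotient to points of `X`
  have hup : ∀ x' : (Γ(X, ⊤) ⧸ p) →ₐ[ℂ] ℂ, ∃ x : Pts X,
      p ≤ RingHom.ker (evHom x ⊤ (Opens.mem_top _)) ∧ evTopMap X x = r ⇑x' := by
    intro x'
    let ψ : Γ(X, ⊤) →ₐ[ℂ] ℂ := x'.comp (Ideal.Quotient.mkₐ ℂ p)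
    let x'' : Pts X := ofHom (ψ : Γ(X, ⊤) →+* ℂ) (fun c => ψ.commutes c)
    have hx'' : ∀ a, x''.evTop a = x' (Ideal.Quotient.mk p a) := fun a => evTop_ofHom _ _ a
    refine ⟨x'', ?_, ?_⟩
    · intro a ha
      rw [RingHom.mem_ker, evHom_apply]
      change x''.evTop a = 0
      rw [hx'', Ideal.Quotient.eq_zero_iff_mem.mpr ha, map_zero]
    · funext a
      exact hx'' a
  -- from points of `X` killing `p` to points of the quotient
  have hdown : ∀ x : Pts X, p ≤ RingHom.ker (evHom x ⊤ (Opens.mem_top _)) →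
      ∃ x' : (Γ(X, ⊤) ⧸ p) →ₐ[ℂ] ℂ, evTopMap X x = r ⇑x' := by
    intro x hx
    let xA : Γ(X, ⊤) →ₐ[ℂ] ℂ :=
      { (evHom x ⊤ (Opens.mem_top _)) with commutes' := fun c => evTop_strHom x c }
    let xB : (Γ(X, ⊤) ⧸ p) →ₐ[ℂ] ℂ := Ideal.Quotient.liftₐ p xA (fun a ha => hx ha)
    refine ⟨xB, ?_⟩
    funext a
    rfl
  rw [isPreconnected_iff_subset_of_disjoint]
  intro u v hu hv hcov hdisj
  obtain ⟨U', hU', rfl⟩ := isInducing_evTopMap.isOpen_iff.mp hu
  obtain ⟨V', hV', rfl⟩ := isInducing_evTopMap.isOpen_iff.mp hv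
  by_contra hcon
  rw [not_or] at hcon
  obtain ⟨x₁, hx₁T, hx₁u⟩ := Set.not_subset.mp hcon.1
  obtain ⟨x₂, hx₂T, hx₂v⟩ := Set.not_subset.mp hcon.2
  have hx₁v : x₁ ∈ evTopMap X ⁻¹' V' := (hcov hx₁T).resolve_left hx₁u
  have hx₂u : x₂ ∈ evTopMap X ⁻¹' U' := (hcov hx₂T).resolve_right hx₂v
  obtain ⟨x₁', hx₁'⟩ := hdown x₁ hx₁T
  obtain ⟨x₂', hx₂'⟩ := hdown x₂ hx₂T
  refine ring_connected (B := Γ(X, ⊤) ⧸ p) (r ⁻¹' U') (r ⁻¹' V') (hU'.preimage hr)
    (hV'.preimage hr) ?_ ?_ ⟨x₂', ?_⟩ ⟨x₁', ?_⟩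
  · intro x'
    obtain ⟨x, hxT, hx⟩ := hup x'
    rcases hcov hxT with h | h
    · left
      rw [Set.mem_preimage, ← hx]
      exact h
    · right
      rw [Set.mem_preimage, ← hx]
      exact h
  · intro x' h1 h2
    obtain ⟨x, hxT, hx⟩ := hup x'
    have : x ∈ {x : Pts X | p ≤ RingHom.ker (evHom x ⊤ (Opens.mem_top _))} ∩
        (evTopMap X ⁻¹' U' ∩ evTopMap X ⁻¹' V') := by
      refine ⟨hxT, ?_, ?_⟩
      · rw [Set.mem_preimage, hx]
        exact h1
      · rw [Set.mem_preimage, hx]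
        exact h2
    rw [hdisj] at this
    exact this
  · rw [Set.mem_preimage, ← hx₂']
    exact hx₂u
  · rw [Set.mem_preimage, ← hx₁']
    exact hx₁v

/-- on an affine scheme, `z ⤳ x.pt` iff the prime of `z` is killed by the evaluation at `x` -/
lemma specializes_pt_iff [IsAffine X] (z : X) (x : Pts X) :
    z ⤳ x.pt ↔ (X.toSpecΓ z).asIdeal ≤ RingHom.ker (evHom x ⊤ (Opens.mem_top _)) := by
  have hh : IsHomeomorph X.toSpecΓ := by
    apply (TopCat.isIso_iff_isHomeomorph _).mp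
    infer_instance
  rw [← toSpecΓ_pt_asIdeal, ← hh.isInducing.specializes_iff]
  exact (PrimeSpectrum.le_iff_specializes (X.toSpecΓ z : PrimeSpectrum Γ(X, ⊤))
    (X.toSpecΓ x.pt)).symm

/-- the ℂ-points in the closure of a point of an affine scheme of finite type over ℂ form a
preconnected set -/
theorem isPreconnected_preimage_closure_of_isAffine [IsAffine X] [LocallyOfFiniteType (X ↘ SC)]
    (z : X) : IsPreconnected (Pts.pt ⁻¹' closure {z} : Set (Pts X)) := by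
  have := isPreconnected_setOf_le_ker (X := X) (X.toSpecΓ z).asIdeal
  convert this using 1
  ext x
  rw [Set.mem_preimage, ← specializes_iff_mem_closure, specializes_pt_iff]
  rfl

end Groth.Agent.Lib.Helper21.AnPts
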