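import Groth.Agent.Lib.Helper21.AnDensityAlg
import Mathlib.LinearAlgebra.LinearIndependent.Lemmas
import Mathlib.LinearAlgebra.Dimension.Finite
import Mathlib.RingTheory.Polynomial.Resultant.Basic
import Mathlib.RingTheory.Polynomial.GaussLemma
import Mathlib.FieldTheory.Separable
import Mathlib.RingTheory.Ideal.Quotient.Operations

/-!
# Generic structure of a finite injective map `ℂ[y₁..yₙ] → B` on ℂ-points

For a domain `B` which is a finite injective extension of `P = ℂ[y₁..yₙ]` we find `g ∈ B` with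
minimal polynomial `G` over `P` and `D ≠ 0` in `P` such that over the locus `D ≠ 0` the
specialisations of `G` are separable and `g` is injective on the fibres of `B(ℂ) → ℂⁿ`.
-/

set_option autoImplicit false
open Polynomial

namespace Groth.Agent.Lib.Helper21.AnConn

open Groth.Agent.Lib.Helper21.AnDensity

variable {n : ℕ} {B : Type*} [CommRing B] [Algebra ℂ B]
  (φ : MvPolynomial (Fin n) ℂ →ₐ[ℂ] B)

/-- the cardinality of the fibres of `B(ℂ) → ℂⁿ` is bounded -/
theorem exists_card_fibre_le (hφf : φ.Finite) :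
    ∃ m : ℕ, ∀ (y : Fin n → ℂ) (s : Finset (B →ₐ[ℂ] ℂ)), (∀ x ∈ s, proj φ x = y) → s.card ≤ m := by
  classical
  let _ : Algebra (MvPolynomial (Fin n) ℂ) B := φ.toRingHom.toAlgebra
  have hfin : Module.Finite (MvPolynomial (Fin n) ℂ) B := hφf
  obtain ⟨m, b, hb⟩ := Module.Finite.exists_fin (R := MvPolynomial (Fin n) ℂ) (M := B)
  refine ⟨m, fun y s hs => ?_⟩
  have hli := linearIndependent_algHom_toLinearMap ℂ B ℂ
  have hli' : LinearIndependent ℂ (fun x : s => (x.1.toLinearMap : B →ₗ[ℂ] ℂ)) :=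
    hli.comp (fun x : s => x.1) Subtype.val_injective
  let Φ : (B →ₗ[ℂ] ℂ) →ₗ[ℂ] (Fin m → ℂ) := LinearMap.pi fun j => LinearMap.applyₗ (b j)
  have hΦ : ∀ ψ : B →ₗ[ℂ] ℂ, ∀ j, Φ ψ j = ψ (b j) := fun ψ j => rfl
  have hdisj : Disjoint (Submodule.span ℂ (Set.range fun x : s => (x.1.toLinearMap : B →ₗ[ℂ] ℂ)))
      (LinearMap.ker Φ) := by
    rw [Submodule.disjoint_def]
    intro ψ hψ hker
    -- semilinearity over `P`
    have hsemi : ∀ (p : MvPolynomial (Fin n) ℂ) (c : B), ψ (φ p * c) = MvPolynomial.eval y p * ψ c := by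
      refine Submodule.span_induction (p := fun ψ _ => ∀ (p : MvPolynomial (Fin n) ℂ) (c : B),
        ψ (φ p * c) = MvPolynomial.eval y p * ψ c) ?_ ?_ ?_ ?_ hψ
      · rintro _ ⟨x, rfl⟩ p c
        change x.1 (φ p * c) = _ * x.1 c
        rw [map_mul, apply_φ, hs x.1 x.2]
      · intro p c
        simp
      · intro ψ₁ ψ₂ _ _ h1 h2 p c
        rw [LinearMap.add_apply, LinearMap.add_apply, h1, h2, mul_add]
      · intro a ψ₁ _ h1 p c
        rw [LinearMap.smul_apply, LinearMap.smul_apply, h1, smul_eq_mul, smul_eq_mul]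
        ring
    have hzero : ∀ j, ψ (b j) = 0 := by
      intro j
      have := congrFun (LinearMap.mem_ker.mp hker) j
      rwa [hΦ] at this
    ext c
    have hc : c ∈ Submodule.span (MvPolynomial (Fin n) ℂ) (Set.range b) := by
      rw [hb]
      trivial
    rw [LinearMap.zero_apply]
    refine Submodule.span_induction (p := fun c _ => ψ c = 0) ?_ ?_ ?_ ?_ hc
    · rintro _ ⟨j, rfl⟩
      exact hzero j
    · exact map_zero ψ
    · intro c₁ c₂ _ _ h1 h2
      rw [map_add, h1, h2, add_zero]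
    · intro p c₁ _ h1
      have : p • c₁ = φ p * c₁ := by
        rw [Algebra.smul_def]
        rfl
      rw [this, hsemi, h1, mul_zero]
  have hmap := hli'.map hdisj
  have := hmap.fintype_card_le_finrank
  rw [Module.finrank_fin_fun, Fintype.card_coe] at this
  exact this

variable [IsDomain B] [Algebra.FiniteType ℂ B]

omit [IsDomain B] [Algebra.FiniteType ℂ B] in
/-- a function separating the points of a finite set of ℂ-points -/
theorem exists_injOn (s : Finset (B →ₐ[ℂ] ℂ)) :
    ∃ g : B, Set.InjOn (fun x : B →ₐ[ℂ] ℂ => x g) (s : Set (B →ₐ[ℂ] ℂ)) := by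
  classical
  have hcop : Pairwise (Function.onFun IsCoprime fun x : s => RingHom.ker (x.1 : B →+* ℂ)) := by
    intro x x' hne
    have h1 : (RingHom.ker (x.1 : B →+* ℂ)).IsMaximal := ker_isMaximal x.1
    have h2 : (RingHom.ker (x'.1 : B →+* ℂ)).IsMaximal := ker_isMaximal x'.1
    apply Ideal.isCoprime_of_isMaximal
    intro heq
    apply hne
    apply Subtype.ext
    exact algHom_eq_of_ker_le x.1 x'.1 heq.le
  -- distinct targets
  obtain ⟨e⟩ : Nonempty (s ↪ ℂ) := by
    have : Infinite ℂ := inferInstance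
    exact ⟨(Function.Embedding.trans (Fintype.equivFin s).toEmbedding
      ⟨fun i => ((i : ℕ) : ℂ), fun i j h => Fin.ext (by
        have h' : ((i : ℕ) : ℂ) = ((j : ℕ) : ℂ) := h
        exact_mod_cast h')⟩)⟩
  obtain ⟨g, hg⟩ := Ideal.exists_forall_sub_mem_ideal hcop (fun x => algebraMap ℂ B (e x))
  refine ⟨g, fun x hx x' hx' hxx' => ?_⟩
  have h1 := hg ⟨x, hx⟩
  have h2 := hg ⟨x', hx'⟩
  rw [RingHom.mem_ker, map_sub, sub_eq_zero] at h1 h2
  have h1' : x g = e ⟨x, hx⟩ := by
    have : x (algebraMap ℂ B (e ⟨x, hx⟩)) = e ⟨x, hx⟩ := x.commutes _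
    exact h1.trans this
  have h2' : x' g = e ⟨x', hx'⟩ := by
    have : x' (algebraMap ℂ B (e ⟨x', hx'⟩)) = e ⟨x', hx'⟩ := x'.commutes _
    exact h2.trans this
  have : e ⟨x, hx⟩ = e ⟨x', hx'⟩ := by
    rw [← h1', ← h2']
    exact hxx'
  exact congrArg Subtype.val (e.injective this)

end Groth.Agent.Lib.Helper21.AnConn
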