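import Groth.Agent.Lib.Helper21.AnConnAlg

/-!
# Generic structure, part 2: minimal polynomial, discriminant locus, generic injectivity
-/

set_option autoImplicit false
open Polynomial

namespace Groth.Agent.Lib.Helper21.AnConn

open Groth.Agent.Lib.Helper21.AnDensity

variable {n : ℕ} {B : Type*} [CommRing B] [IsDomain B] [Algebra ℂ B]
  (φ : MvPolynomial (Fin n) ℂ →ₐ[ℂ] B)

/-- the minimal polynomial of `g` over `P`, with a nonzero `D ∈ P` off whose zero locus the
specialisations are separable -/
theorem exists_minpoly_package (hφi : Function.Injective φ) (hφ : φ.IsIntegral) (g : B) :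
    ∃ G : (MvPolynomial (Fin n) ℂ)[X], G.Monic ∧
      Polynomial.eval₂ (φ : MvPolynomial (Fin n) ℂ →+* B) g G = 0 ∧
      (∀ q : (MvPolynomial (Fin n) ℂ)[X],
        Polynomial.eval₂ (φ : MvPolynomial (Fin n) ℂ →+* B) g q = 0 → G ∣ q) ∧
      ∃ D : MvPolynomial (Fin n) ℂ, D ≠ 0 ∧
        ∀ y, MvPolynomial.eval y D ≠ 0 → (G.map (MvPolynomial.eval y)).Separable := by
  let _ : Algebra (MvPolynomial (Fin n) ℂ) B := φ.toRingHom.toAlgebra
  have htf : Module.IsTorsionFree (MvPolynomial (Fin n) ℂ) B :=
    Module.isTorsionFree_iff_algebraMap_injective.mpr hφi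
  have hint : IsIntegral (MvPolynomial (Fin n) ℂ) g := hφ g
  set G := minpoly (MvPolynomial (Fin n) ℂ) g with hGdef
  have hGm : G.Monic := minpoly.monic hint
  have hG0 : Polynomial.eval₂ (φ : MvPolynomial (Fin n) ℂ →+* B) g G = 0 :=
    minpoly.aeval (MvPolynomial (Fin n) ℂ) g
  refine ⟨G, hGm, hG0, fun q hq => minpoly.isIntegrallyClosed_dvd hint hq, ?_⟩
  have hirr : Irreducible G := minpoly.irreducible hint
  set K := FractionRing (MvPolynomial (Fin n) ℂ) with hK
  have hirrK : Irreducible (G.map (algebraMap (MvPolynomial (Fin n) ℂ) K)) :=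
    (hGm.irreducible_iff_irreducible_map_fraction_map).mp hirr
  have hchar : CharZero K :=
    charZero_of_injective_algebraMap (IsFractionRing.injective (MvPolynomial (Fin n) ℂ) K)
  have hsepK : (G.map (algebraMap (MvPolynomial (Fin n) ℂ) K)).Separable := hirrK.separable
  set d := G.natDegree with hd
  have hd0 : d ≠ 0 := by
    intro h0
    rw [Polynomial.eq_one_of_monic_natDegree_zero hGm h0, Polynomial.eval₂_one] at hG0
    exact one_ne_zero hG0
  obtain ⟨D, hDdef⟩ : ∃ D, D = resultant G G.derivative d (d - 1) := ⟨_, rfl⟩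
  have hD : D ≠ 0 := by
    intro h0
    have h1 : algebraMap (MvPolynomial (Fin n) ℂ) K D =
        resultant (G.map (algebraMap (MvPolynomial (Fin n) ℂ) K))
          (G.map (algebraMap (MvPolynomial (Fin n) ℂ) K)).derivative d (d - 1) := by
      rw [hDdef, derivative_map, resultant_map_map]
    have h2 : (G.map (algebraMap (MvPolynomial (Fin n) ℂ) K)).natDegree = d := hGm.natDegree_map _
    have h3 : (G.map (algebraMap (MvPolynomial (Fin n) ℂ) K)).derivative.natDegree = d - 1 := by
      rw [natDegree_derivative, h2]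
    have h4 : resultant (G.map (algebraMap (MvPolynomial (Fin n) ℂ) K))
        (G.map (algebraMap (MvPolynomial (Fin n) ℂ) K)).derivative = 0 := by
      have : resultant (G.map (algebraMap (MvPolynomial (Fin n) ℂ) K))
          (G.map (algebraMap (MvPolynomial (Fin n) ℂ) K)).derivative
          (G.map (algebraMap (MvPolynomial (Fin n) ℂ) K)).natDegree
          (G.map (algebraMap (MvPolynomial (Fin n) ℂ) K)).derivative.natDegree = 0 := by
        rw [h2, h3, ← h1, h0, map_zero]
      exact this
    rw [resultant_eq_zero_iff] at h4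
    exact h4.2 hsepK
  refine ⟨D, hD, fun y hy => ?_⟩
  obtain ⟨p, q, -, -, hpq⟩ := exists_mul_add_mul_eq_C_resultant (m := d) (n := d - 1) G G.derivative
    le_rfl (natDegree_derivative_le G) (Or.inl hd0)
  rw [← hDdef] at hpq
  have hmap := congrArg (Polynomial.map (MvPolynomial.eval y)) hpq
  rw [Polynomial.map_add, Polynomial.map_mul, Polynomial.map_mul, ← derivative_map, map_C] at hmap
  refine ⟨C (MvPolynomial.eval y D)⁻¹ * p.map (MvPolynomial.eval y),
    C (MvPolynomial.eval y D)⁻¹ * q.map (MvPolynomial.eval y), ?_⟩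
  calc C (MvPolynomial.eval y D)⁻¹ * p.map (MvPolynomial.eval y) * G.map (MvPolynomial.eval y) +
        C (MvPolynomial.eval y D)⁻¹ * q.map (MvPolynomial.eval y) *
          (G.map (MvPolynomial.eval y)).derivative
      = C (MvPolynomial.eval y D)⁻¹ * (G.map (MvPolynomial.eval y) * p.map (MvPolynomial.eval y) +
          (G.map (MvPolynomial.eval y)).derivative * q.map (MvPolynomial.eval y)) := by ring
    _ = C (MvPolynomial.eval y D)⁻¹ * C (MvPolynomial.eval y D) := by rw [hmap]
    _ = 1 := by rw [← C_mul, inv_mul_cancel₀ hy, C_1]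

omit [IsDomain B] in
/-- the value of `g` at a point over `y` is a root of the specialisation at `y` of any polynomial
killing `g` -/
lemma isRoot_of_eval₂_eq_zero (g : B) (G : (MvPolynomial (Fin n) ℂ)[X])
    (hG0 : Polynomial.eval₂ (φ : MvPolynomial (Fin n) ℂ →+* B) g G = 0) (x : B →ₐ[ℂ] ℂ) :
    (G.map (MvPolynomial.eval (proj φ x))).IsRoot (x g) := by
  rw [Polynomial.IsRoot.def, Polynomial.eval_map]
  have h1' := Polynomial.hom_eval₂ G (φ : MvPolynomial (Fin n) ℂ →+* B) (x : B →+* ℂ) g
  have h2 : ((x : B →+* ℂ).comp (φ : MvPolynomial (Fin n) ℂ →+* B)) =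
      MvPolynomial.eval (proj φ x) := by
    ext p
    · simp
    · simp [proj]
  rw [← h2]
  refine h1'.symm.trans ?_
  rw [hG0, map_zero]

variable [Algebra.FiniteType ℂ B]

/-- **Generic structure.** There are `g ∈ B` with minimal polynomial `G` over `P` and `D ≠ 0` in
`P` such that for `D y ≠ 0` the specialisation `G_y` is separable and `g` is injective on the
fibre over `y`. -/
theorem exists_generic_structure (hφi : Function.Injective φ) (hφf : φ.Finite) :
    ∃ (g : B) (G : (MvPolynomial (Fin n) ℂ)[X]) (D : MvPolynomial (Fin n) ℂ), G.Monic ∧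
      Polynomial.eval₂ (φ : MvPolynomial (Fin n) ℂ →+* B) g G = 0 ∧
      (∀ q : (MvPolynomial (Fin n) ℂ)[X],
        Polynomial.eval₂ (φ : MvPolynomial (Fin n) ℂ →+* B) g q = 0 → G ∣ q) ∧ D ≠ 0 ∧
      (∀ y, MvPolynomial.eval y D ≠ 0 → (G.map (MvPolynomial.eval y)).Separable) ∧
      (∀ y, MvPolynomial.eval y D ≠ 0 →
        Set.InjOn (fun x : B →ₐ[ℂ] ℂ => x g) {x | proj φ x = y}) := by
  classical
  have hφ : φ.IsIntegral := RingHom.Finite.to_isIntegral hφf
  obtain ⟨m, hm⟩ := exists_card_fibre_le φ hφf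
  -- the fibres as finsets
  set fib : (Fin n → ℂ) → Finset (B →ₐ[ℂ] ℂ) := fun y => (finite_fibre φ hφf y).toFinset with hfib
  have hfibmem : ∀ y x, x ∈ fib y ↔ proj φ x = y := by
    intro y x
    rw [hfib]
    simp only [Set.Finite.mem_toFinset, Set.mem_ofPred_eq]
  have hbdd : BddAbove (Set.range fun y => (fib y).card) := by
    refine ⟨m, ?_⟩
    rintro _ ⟨y, rfl⟩
    exact hm y (fib y) fun x hx => (hfibmem y x).mp hx
  obtain ⟨y₀, hy₀⟩ : ∃ y₀, (fib y₀).card = sSup (Set.range fun y => (fib y).card) :=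
    Nat.sSup_mem (Set.range_nonempty _) hbdd
  have hmax : ∀ y, (fib y).card ≤ (fib y₀).card := by
    intro y
    rw [hy₀]
    exact le_csSup hbdd (Set.mem_range_self y)
  obtain ⟨g, hg⟩ := exists_injOn (fib y₀)
  obtain ⟨G, hGm, hG0, hGd, D, hD, hsep⟩ := exists_minpoly_package φ hφi hφ g
  refine ⟨g, G, D, hGm, hG0, hGd, hD, hsep, fun y hy => ?_⟩
  -- the maximal fibre has at most `deg G` points
  have h1 : (fib y₀).card ≤ G.natDegree := by
    have hne : G.map (MvPolynomial.eval y₀) ≠ 0 := (hGm.map _).ne_zero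
    have hsub : (fib y₀).image (fun x : B →ₐ[ℂ] ℂ => x g) ⊆
        (G.map (MvPolynomial.eval y₀)).roots.toFinset := by
      intro α hα
      obtain ⟨x, hx, rfl⟩ := Finset.mem_image.mp hα
      rw [Multiset.mem_toFinset, mem_roots hne]
      have := isRoot_of_eval₂_eq_zero φ g G hG0 x
      rwa [(hfibmem y₀ x).mp hx] at this
    calc (fib y₀).card = ((fib y₀).image (fun x : B →ₐ[ℂ] ℂ => x g)).card :=
          (Finset.card_image_of_injOn hg).symm
      _ ≤ (G.map (MvPolynomial.eval y₀)).roots.toFinset.card := Finset.card_le_card hsub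
      _ ≤ (G.map (MvPolynomial.eval y₀)).roots.card := Multiset.toFinset_card_le _
      _ ≤ (G.map (MvPolynomial.eval y₀)).natDegree := card_roots' _
      _ = G.natDegree := hGm.natDegree_map _
  -- over the good locus every root lifts
  have hne : G.map (MvPolynomial.eval y) ≠ 0 := (hGm.map _).ne_zero
  have hcard : (G.map (MvPolynomial.eval y)).roots.toFinset.card = G.natDegree := by
    rw [Multiset.toFinset_card_of_nodup (nodup_roots (hsep y hy))]
    rw [splits_iff_card_roots.mp (IsAlgClosed.splits _), hGm.natDegree_map]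
  have hsub : (G.map (MvPolynomial.eval y)).roots.toFinset ⊆
      (fib y).image (fun x : B →ₐ[ℂ] ℂ => x g) := by
    intro α hα
    rw [Multiset.mem_toFinset, mem_roots hne] at hα
    obtain ⟨x, hxy, hxg⟩ := exists_point_of_root φ hφ g G hGd y α hα
    exact Finset.mem_image.mpr ⟨x, (hfibmem y x).mpr hxy, hxg⟩
  have h2 : ((fib y).image (fun x : B →ₐ[ℂ] ℂ => x g)).card = (fib y).card := by
    apply le_antisymm Finset.card_image_le
    calc (fib y).card ≤ (fib y₀).card := hmax y
      _ ≤ G.natDegree := h1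
      _ = (G.map (MvPolynomial.eval y)).roots.toFinset.card := hcard.symm
      _ ≤ _ := Finset.card_le_card hsub
  have h3 := Finset.card_image_iff.mp h2
  intro x hx x' hx' hxx'
  exact h3 ((hfibmem y x).mpr hx) ((hfibmem y x').mpr hx') hxx'

end Groth.Agent.Lib.Helper21.AnConn
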