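import Groth.Agent.Lib.Helper21.AnConnLoc
import Groth.Agent.Lib.Helper21.AnDensityRoots
import Mathlib.Analysis.Calculus.FDeriv.Mul
import Mathlib.Analysis.Calculus.FDeriv.Add

/-!
# Coefficients of `∏ α ∈ S y, (T - α)`: differentiability and growth
-/

set_option autoImplicit false
open Topology Filter Polynomial

namespace Groth.Agent.Lib.Helper21.AnConn

open Groth.Agent.Lib.Helper21.AnDensity

variable {n : ℕ}

/-- coefficients of `∏ (T - ψ i y)` are differentiable where the `ψ i` are -/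
lemma differentiableAt_coeff_prod {E : Type*} [NormedAddCommGroup E] [NormedSpace ℂ E]
    {ι : Type*} (s : Finset ι) (ψ : ι → E → ℂ) (y₀ : E)
    (h : ∀ i ∈ s, DifferentiableAt ℂ (ψ i) y₀) :
    ∀ k : ℕ, DifferentiableAt ℂ (fun y => (∏ i ∈ s, (X - C (ψ i y))).coeff k) y₀ := by
  classical
  induction s using Finset.induction_on with
  | empty =>
    intro k
    simp only [Finset.prod_empty]
    exact differentiableAt_const _
  | insert a s ha ih =>
    intro k
    have ih' := ih fun i hi => h i (Finset.mem_insert_of_mem hi)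
    have ha' := h a (Finset.mem_insert_self a s)
    cases k with
    | zero =>
      have : (fun y => (∏ i ∈ insert a s, (X - C (ψ i y))).coeff 0) =
          fun y => -(ψ a y) * (∏ i ∈ s, (X - C (ψ i y))).coeff 0 := by
        funext y
        rw [Finset.prod_insert ha, mul_coeff_zero]
        simp
      rw [this]
      exact ha'.neg.mul (ih' 0)
    | succ k =>
      have : (fun y => (∏ i ∈ insert a s, (X - C (ψ i y))).coeff (k + 1)) =
          fun y => (∏ i ∈ s, (X - C (ψ i y))).coeff k -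
            ψ a y * (∏ i ∈ s, (X - C (ψ i y))).coeff (k + 1) := by
        funext y
        rw [Finset.prod_insert ha, coeff_X_sub_C_mul]
      rw [this]
      exact (ih' k).sub (ha'.mul (ih' (k + 1)))

/-- bound for the coefficients of `∏ (T - α)` in terms of a bound for the roots -/
lemma norm_coeff_prod_le (s : Finset ℂ) (B : ℝ) (hB : 1 ≤ B) (h : ∀ α ∈ s, ‖α‖ ≤ B) :
    ∀ k : ℕ, ‖(∏ α ∈ s, (X - C α)).coeff k‖ ≤ (2 * B) ^ s.card := by
  classical
  induction s using Finset.induction_on with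
  | empty =>
    intro k
    simp only [Finset.prod_empty, Finset.card_empty, pow_zero]
    rw [coeff_one]
    split_ifs <;> simp
  | insert a s ha ih =>
    intro k
    have ih' := ih fun α hα => h α (Finset.mem_insert_of_mem hα)
    have ha' := h a (Finset.mem_insert_self a s)
    have hB0 : 0 ≤ B := le_trans zero_le_one hB
    have hpos : 0 ≤ (2 * B) ^ s.card := by positivity
    rw [Finset.card_insert_of_notMem ha, pow_succ, Finset.prod_insert ha]
    cases k with
    | zero =>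
      rw [mul_coeff_zero]
      have : (X - C a).coeff 0 = -a := by simp
      rw [this, norm_mul, norm_neg, mul_comm]
      calc ‖(∏ α ∈ s, (X - C α)).coeff 0‖ * ‖a‖ ≤ (2 * B) ^ s.card * B :=
            mul_le_mul (ih' 0) ha' (norm_nonneg _) hpos
        _ ≤ (2 * B) ^ s.card * (2 * B) := by
            apply mul_le_mul_of_nonneg_left _ hpos
            linarith
    | succ k =>
      rw [coeff_X_sub_C_mul]
      calc ‖(∏ α ∈ s, (X - C α)).coeff k - a * (∏ α ∈ s, (X - C α)).coeff (k + 1)‖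
          ≤ ‖(∏ α ∈ s, (X - C α)).coeff k‖ + ‖a * (∏ α ∈ s, (X - C α)).coeff (k + 1)‖ :=
            norm_sub_le _ _
        _ ≤ (2 * B) ^ s.card + B * (2 * B) ^ s.card := by
            refine add_le_add (ih' k) ?_
            rw [norm_mul]
            exact mul_le_mul ha' (ih' (k + 1)) (norm_nonneg _) hB0
        _ ≤ (2 * B) ^ s.card * (2 * B) := by
            have : (2 * B) ^ s.card + B * (2 * B) ^ s.card = (2 * B) ^ s.card * (1 + B) := by ring
            rw [this]
            apply mul_le_mul_of_nonneg_left _ hpos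
            linarith

/-- polynomial growth of polynomial functions -/
lemma exists_growth (p : MvPolynomial (Fin n) ℂ) :
    ∃ (C : ℝ) (N : ℕ), 0 ≤ C ∧ ∀ y : Fin n → ℂ, ‖MvPolynomial.eval y p‖ ≤ C * (1 + ‖y‖) ^ N := by
  induction p using MvPolynomial.induction_on with
  | C a =>
    refine ⟨‖a‖, 0, norm_nonneg _, fun y => ?_⟩
    simp
  | add p q hp hq =>
    obtain ⟨C1, N1, hC1, h1⟩ := hp
    obtain ⟨C2, N2, hC2, h2⟩ := hq
    refine ⟨C1 + C2, max N1 N2, add_nonneg hC1 hC2, fun y => ?_⟩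
    rw [map_add]
    have hy : (1 : ℝ) ≤ 1 + ‖y‖ := by linarith [norm_nonneg y]
    have e1 : (1 + ‖y‖) ^ N1 ≤ (1 + ‖y‖) ^ max N1 N2 := pow_le_pow_right₀ hy (le_max_left _ _)
    have e2 : (1 + ‖y‖) ^ N2 ≤ (1 + ‖y‖) ^ max N1 N2 := pow_le_pow_right₀ hy (le_max_right _ _)
    calc ‖MvPolynomial.eval y p + MvPolynomial.eval y q‖
        ≤ ‖MvPolynomial.eval y p‖ + ‖MvPolynomial.eval y q‖ := norm_add_le _ _
      _ ≤ C1 * (1 + ‖y‖) ^ N1 + C2 * (1 + ‖y‖) ^ N2 := add_le_add (h1 y) (h2 y)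
      _ ≤ C1 * (1 + ‖y‖) ^ max N1 N2 + C2 * (1 + ‖y‖) ^ max N1 N2 :=
          add_le_add (mul_le_mul_of_nonneg_left e1 hC1) (mul_le_mul_of_nonneg_left e2 hC2)
      _ = _ := by ring
  | mul_X p i hp =>
    obtain ⟨C1, N1, hC1, h1⟩ := hp
    refine ⟨C1, N1 + 1, hC1, fun y => ?_⟩
    rw [map_mul, MvPolynomial.eval_X, norm_mul, pow_succ, ← mul_assoc]
    have hyi : ‖y i‖ ≤ 1 + ‖y‖ := (norm_le_pi_norm y i).trans (by linarith)
    exact mul_le_mul (h1 y) hyi (norm_nonneg _) (by positivity)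

/-- uniform polynomial bound for the roots of the specialisations of a monic polynomial -/
lemma exists_root_growth (G : (MvPolynomial (Fin n) ℂ)[X]) (hG : G.Monic) :
    ∃ (C : ℝ) (N : ℕ), 1 ≤ C ∧ ∀ (y : Fin n → ℂ) (α : ℂ),
      (G.map (MvPolynomial.eval y)).IsRoot α → ‖α‖ ≤ C * (1 + ‖y‖) ^ N := by
  classical
  choose Cc Nc hCc hb using fun k : ℕ => exists_growth (G.coeff k)
  obtain ⟨N, hN⟩ : ∃ N : ℕ, ∀ k ∈ Finset.range G.natDegree, Nc k ≤ N :=
    ⟨(Finset.range G.natDegree).sup Nc, fun k hk => Finset.le_sup hk⟩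
  obtain ⟨C, hC, hC'⟩ : ∃ C : ℝ, 0 ≤ C ∧ ∀ k ∈ Finset.range G.natDegree, Cc k ≤ C := by
    refine ⟨∑ k ∈ Finset.range G.natDegree, Cc k, Finset.sum_nonneg fun k _ => hCc k, ?_⟩
    intro k hk
    exact Finset.single_le_sum (f := Cc) (fun j _ => hCc j) hk
  refine ⟨C + 1, N, by linarith, fun y α hα => ?_⟩
  have hy : (1 : ℝ) ≤ 1 + ‖y‖ := by linarith [norm_nonneg y]
  have hpow : (1 : ℝ) ≤ (1 + ‖y‖) ^ N := one_le_pow₀ hy
  have hroot := norm_root_le_of_monic (G.map (MvPolynomial.eval y)) (hG.map _)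
    (C * (1 + ‖y‖) ^ N) (fun i hi => ?_) α hα
  · calc ‖α‖ ≤ C * (1 + ‖y‖) ^ N + 1 := hroot
      _ ≤ C * (1 + ‖y‖) ^ N + (1 + ‖y‖) ^ N := by linarith
      _ = _ := by ring
  · rw [hG.natDegree_map] at hi
    have hi' := Finset.mem_range.mpr hi
    rw [coeff_map]
    calc ‖MvPolynomial.eval y (G.coeff i)‖ ≤ Cc i * (1 + ‖y‖) ^ Nc i := hb i y
      _ ≤ C * (1 + ‖y‖) ^ N :=
          mul_le_mul (hC' i hi') (pow_le_pow_right₀ hy (hN i hi')) (by positivity) hC

end Groth.Agent.Lib.Helper21.AnConn
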