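import Groth.Agent.Lib.Helper21.AnConnAff
import Mathlib.Topology.NoetherianSpace
import Mathlib.Topology.Sober
import Mathlib.Topology.LocalAtTarget

/-!
# Clopen subsets of `X(ℂ)` come from clopen subsets of `X`
-/

set_option autoImplicit false
open CategoryTheory AlgebraicGeometry Topology TopologicalSpace Filter
open An

namespace Groth.Agent.Lib.Helper21.AnPts

/-- in a Noetherian quasi-sober space, a set stable under specialization and generalization is
closed -/
lemma isClosed_of_stable {Y : Type*} [TopologicalSpace Y] [NoetherianSpace Y] [QuasiSober Y]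
    (E : Set Y) (hs : StableUnderSpecialization E) (hg : StableUnderGeneralization E) :
    IsClosed E := by
  have hE : E = ⋃₀ {C ∈ irreducibleComponents Y | C ⊆ E} := by
    apply Set.Subset.antisymm
    · intro z hz
      have hC := irreducibleComponent_mem_irreducibleComponents z
      have hCirr : IsIrreducible (irreducibleComponent z) := isIrreducible_irreducibleComponent
      have hCcl : IsClosed (irreducibleComponent z) := isClosed_irreducibleComponent
      obtain ⟨η, hη⟩ := QuasiSober.sober hCirr hCcl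
      have hηz : η ⤳ z := hη.specializes mem_irreducibleComponent
      have hηE : η ∈ E := hg hηz hz
      refine ⟨irreducibleComponent z, ⟨hC, ?_⟩, mem_irreducibleComponent⟩
      intro w hw
      exact hs (hη.specializes hw) hηE
    · rintro z ⟨C, ⟨-, hCE⟩, hzC⟩
      exact hCE hzC
  rw [hE, Set.sUnion_eq_biUnion]
  refine Set.Finite.isClosed_biUnion ?_ ?_
  · exact (NoetherianSpace.finite_irreducibleComponents (α := Y)).subset fun C hC => hC.1
  · intro C hC
    exact isClosed_of_mem_irreducibleComponents C hC.1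

variable {X : Scheme.{0}} [X.Over SC] [LocallyOfFiniteType (X ↘ SC)]

/-- the ℂ-points in a nonempty locally closed set -/
lemma exists_pt_mem_of_isLocallyClosed (E : Set X) (hE : IsLocallyClosed E) (hne : E.Nonempty) :
    ∃ x : Pts X, x.pt ∈ E := by
  have := jacobsonSpace (X := X)
  obtain ⟨c, hcE, hc⟩ := nonempty_inter_closedPoints hne hE
  obtain ⟨x, rfl⟩ := exists_pt_eq_of_isClosed c hc
  exact ⟨x, hcE⟩

/-- the ℂ-points in the closure of a point form a preconnected set -/
theorem isPreconnected_preimage_closure (z : X) :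
    IsPreconnected (Pts.pt ⁻¹' closure {z} : Set (Pts X)) := by
  -- the pieces
  let A : {U : X.Opens // IsAffineOpen U ∧ z ∈ U} → Set (Pts X) := fun U =>
    {x | x.pt ∈ closure {z} ∧ x.pt ∈ U.1}
  have hA : ∀ U, IsPreconnected (A U) := by
    rintro ⟨U, hU, hzU⟩
    have : IsAffine (U : Scheme.{0}) := hU
    have h1 := isPreconnected_preimage_closure_of_isAffine (X := (U : Scheme.{0})) ⟨z, hzU⟩
    have h2 := h1.image (Pts.map U.ι) (Pts.continuous_map U.ι).continuousOn
    convert h2 using 1
    ext x
    constructor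
    · rintro ⟨hx1, hx2⟩
      obtain ⟨x', rfl⟩ := exists_map_ι_eq U x hx2
      refine ⟨x', ?_, rfl⟩
      rw [Set.mem_preimage, U.ι.isOpenEmbedding.isInducing.closure_eq_preimage_closure_image,
        Set.mem_preimage, Set.image_singleton]
      rw [Pts.pt_map] at hx1
      exact hx1
    · rintro ⟨x', hx', rfl⟩
      rw [Set.mem_preimage, U.ι.isOpenEmbedding.isInducing.closure_eq_preimage_closure_image,
        Set.mem_preimage, Set.image_singleton] at hx'
      refine ⟨?_, ?_⟩
      · rw [Pts.pt_map]
        exact hx'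
      · change (Pts.map U.ι x').pt ∈ U
        rw [Pts.pt_map]
        exact (x'.pt).2
  have hmeet : ∀ U V, (A U ∩ A V).Nonempty := by
    rintro ⟨U, hU, hzU⟩ ⟨V, hV, hzV⟩
    have hlc : IsLocallyClosed (closure {z} ∩ ((U ⊓ V : X.Opens) : Set X)) :=
      isClosed_closure.isLocallyClosed.inter (U ⊓ V).2.isLocallyClosed
    obtain ⟨x, hx⟩ := exists_pt_mem_of_isLocallyClosed _ hlc ⟨z, subset_closure rfl, hzU, hzV⟩
    exact ⟨x, ⟨hx.1, hx.2.1⟩, ⟨hx.1, hx.2.2⟩⟩
  obtain ⟨U₀, hU₀, hzU₀⟩ := exists_affine_nhd z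
  have hunion : (Pts.pt ⁻¹' closure {z} : Set (Pts X)) =
      ⋃ U, (A ⟨U₀, hU₀, hzU₀⟩ ∪ A U) := by
    apply Set.Subset.antisymm
    · intro x hx
      obtain ⟨U, hU, hxU⟩ := exists_affine_nhd x.pt
      have hzU : z ∈ U := (specializes_iff_mem_closure.mpr hx).mem_open U.2 hxU
      exact Set.mem_iUnion.mpr ⟨⟨U, hU, hzU⟩, Or.inr ⟨hx, hxU⟩⟩
    · intro x hx
      obtain ⟨U, hxU⟩ := Set.mem_iUnion.mp hx
      rcases hxU with h | h
      · exact h.1
      · exact h.1
  rw [hunion]
  apply isPreconnected_iUnion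
  · obtain ⟨x, hx⟩ := hmeet ⟨U₀, hU₀, hzU₀⟩ ⟨U₀, hU₀, hzU₀⟩
    exact ⟨x, Set.mem_iInter.mpr fun U => Or.inl hx.1⟩
  · intro U
    exact IsPreconnected.union' (hmeet _ _) (hA _) (hA _)

lemma nonempty_preimage_closure (z : X) : (Pts.pt ⁻¹' closure {z} : Set (Pts X)).Nonempty := by
  obtain ⟨x, hx⟩ := exists_pt_mem_of_isLocallyClosed (closure {z}) isClosed_closure.isLocallyClosed
    ⟨z, subset_closure rfl⟩
  exact ⟨x, hx⟩

/-- **Clopen sets descend.** Every clopen subset of `X(ℂ)` is the set of ℂ-points of a clopen subset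
of `X`. -/
theorem exists_isClopen_preimage_eq (M : Set (Pts X)) (hM : IsClopen M) :
    ∃ T : Set X, IsClopen T ∧ Pts.pt ⁻¹' T = M := by
  have hln := isLocallyNoetherian (X := X)
  -- dichotomy
  have hdich : ∀ z : X, (Pts.pt ⁻¹' closure {z} : Set (Pts X)) ⊆ M ∨
      (Pts.pt ⁻¹' closure {z} : Set (Pts X)) ⊆ Mᶜ := by
    intro z
    by_cases h : ((Pts.pt ⁻¹' closure {z} : Set (Pts X)) ∩ M).Nonempty
    · exact Or.inl ((isPreconnected_preimage_closure z).subset_isClopen hM h)
    · right
      intro x hx hxM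
      exact h ⟨x, hx, hxM⟩
  have hstable : ∀ (N : Set (Pts X)),
      StableUnderSpecialization {z : X | (Pts.pt ⁻¹' closure {z} : Set (Pts X)) ⊆ N} := by
    intro N z z' hzz' hz
    exact (Set.preimage_mono (specializes_iff_closure_subset.mp hzz')).trans hz
  have hcompl : {z : X | (Pts.pt ⁻¹' closure {z} : Set (Pts X)) ⊆ M}ᶜ =
      {z : X | (Pts.pt ⁻¹' closure {z} : Set (Pts X)) ⊆ Mᶜ} := by
    ext z
    simp only [Set.mem_compl_iff, Set.mem_ofPred_eq]
    constructor
    · intro h
      exact (hdich z).resolve_left h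
    · intro h h'
      obtain ⟨x, hx⟩ := nonempty_preimage_closure z
      exact h hx (h' hx)
  have hclosed : ∀ (T : Set X), StableUnderSpecialization T → StableUnderSpecialization Tᶜ →
      IsClosed T := by
    intro T h1 h2
    rw [TopologicalSpace.IsOpenCover.isClosed_iff_coe_preimage (iSup_affineOpens_eq_top X)]
    intro U
    have : NoetherianSpace ↥(U : X.Opens) := by
      have := hln.component_noetherian U
      exact noetherianSpace_of_isAffineOpen U.1 U.2
    have : QuasiSober ↥(U : X.Opens) := (U : X.Opens).2.isOpenEmbedding_subtypeVal.quasiSober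
    apply isClosed_of_stable
    · intro w w' hww' hw
      exact h1 (Topology.IsInducing.subtypeVal.specializes_iff.mpr hww') hw
    · intro w w' hww' hw'
      by_contra hw
      exact h2 (Topology.IsInducing.subtypeVal.specializes_iff.mpr hww') hw hw'
  refine ⟨{z : X | (Pts.pt ⁻¹' closure {z} : Set (Pts X)) ⊆ M}, ⟨?_, ?_⟩, ?_⟩
  · apply hclosed _ (hstable M)
    rw [hcompl]
    exact hstable Mᶜ
  · rw [← isClosed_compl_iff]
    apply hclosed _ (by rw [hcompl]; exact hstable Mᶜ)
    rw [compl_compl]
    exact hstable M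
  · ext x
    simp only [Set.mem_preimage, Set.mem_ofPred_eq]
    have hcl : closure {x.pt} = {x.pt} := (isClosed_singleton_pt x).closure_eq
    constructor
    · intro h
      apply h
      rw [Set.mem_preimage, hcl]
      rfl
    · intro hx x' hx'
      rw [Set.mem_preimage, hcl, Set.mem_singleton_iff] at hx'
      rw [pt_injective hx']
      exact hx

end Groth.Agent.Lib.Helper21.AnPts
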