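import Mathlib.Analysis.Calculus.ImplicitFunction.ProdDomain
import Mathlib.Analysis.Analytic.Polynomial
import Mathlib.Analysis.Calculus.FDeriv.Analytic
import Mathlib.Analysis.Calculus.Deriv.Polynomial
import Mathlib.Analysis.Complex.Basic

/-!
# Local root functions of a polynomial with polynomial coefficients

`exists_local_root`: if `α` is a simple root of the specialisation `G_{y₀}` of `G ∈ ℂ[y][T]`, then
there is a function `ψ` near `y₀`, complex differentiable at `y₀`, with `ψ y₀ = α`, such that near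
`(y₀, α)` the zeros of `(y, T) ↦ G_y(T)` are exactly the points `(y, ψ y)`.
-/

set_option autoImplicit false
open Topology Filter

namespace Groth.Agent.Lib.Helper21.AnConn

variable {n : ℕ}

/-- the function `(y, T) ↦ G_y(T)` -/
noncomputable def polyFun (G : Polynomial (MvPolynomial (Fin n) ℂ)) : (Fin n → ℂ) × ℂ → ℂ :=
  fun p => (G.map (MvPolynomial.eval p.1)).eval p.2

lemma polyFun_eq_sum (G : Polynomial (MvPolynomial (Fin n) ℂ)) (p : (Fin n → ℂ) × ℂ) :
    polyFun G p = ∑ k ∈ G.support, MvPolynomial.eval p.1 (G.coeff k) * p.2 ^ k := by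
  unfold polyFun
  rw [Polynomial.eval_map, Polynomial.eval₂_eq_sum, Polynomial.sum_def]

lemma analyticAt_polyFun (G : Polynomial (MvPolynomial (Fin n) ℂ)) (p : (Fin n → ℂ) × ℂ) :
    AnalyticAt ℂ (polyFun G) p := by
  have h : polyFun G = ∑ k ∈ G.support,
      fun p : (Fin n → ℂ) × ℂ => MvPolynomial.eval p.1 (G.coeff k) * p.2 ^ k := by
    funext p
    rw [polyFun_eq_sum, Finset.sum_apply]
  rw [h]
  refine Finset.analyticAt_sum _ fun k _ => ?_
  refine AnalyticAt.mul ?_ ?_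
  · exact AnalyticOnNhd.eval_continuousLinearMap (ContinuousLinearMap.fst ℂ (Fin n → ℂ) ℂ)
      (G.coeff k) p (Set.mem_univ _)
  · exact (ContinuousLinearMap.snd ℂ (Fin n → ℂ) ℂ).analyticAt p |>.pow k

lemma continuous_polyFun (G : Polynomial (MvPolynomial (Fin n) ℂ)) : Continuous (polyFun G) :=
  continuous_iff_continuousAt.mpr fun p => (analyticAt_polyFun G p).continuousAt

theorem exists_local_root (G : Polynomial (MvPolynomial (Fin n) ℂ)) (y₀ : Fin n → ℂ) (α : ℂ)
    (hroot : (G.map (MvPolynomial.eval y₀)).IsRoot α)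
    (hsimple : (G.map (MvPolynomial.eval y₀)).derivative.eval α ≠ 0) :
    ∃ ψ : (Fin n → ℂ) → ℂ, ψ y₀ = α ∧ DifferentiableAt ℂ ψ y₀ ∧
      (∀ᶠ p in 𝓝 ((y₀, α) : (Fin n → ℂ) × ℂ),
        (G.map (MvPolynomial.eval p.1)).IsRoot p.2 ↔ ψ p.1 = p.2) ∧
      ∀ᶠ y in 𝓝 y₀, (G.map (MvPolynomial.eval y)).IsRoot (ψ y) := by
  set f := polyFun G with hf
  set u : (Fin n → ℂ) × ℂ := (y₀, α) with hu
  have hstrict : HasStrictFDerivAt f (fderiv ℂ f u) u := (analyticAt_polyFun G u).hasStrictFDerivAt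
  have hfu : f u = 0 := hroot
  -- the partial derivative in the second variable
  have hpartial : (fderiv ℂ f u ∘L ContinuousLinearMap.inr ℂ (Fin n → ℂ) ℂ) 1 =
      (G.map (MvPolynomial.eval y₀)).derivative.eval α := by
    have h1 : HasFDerivAt (fun T : ℂ => ((y₀, T) : (Fin n → ℂ) × ℂ))
        (ContinuousLinearMap.inr ℂ (Fin n → ℂ) ℂ) α := hasFDerivAt_prodMk_right y₀ α
    have h2 : HasFDerivAt (f ∘ fun T : ℂ => ((y₀, T) : (Fin n → ℂ) × ℂ))
        (fderiv ℂ f u ∘L ContinuousLinearMap.inr ℂ (Fin n → ℂ) ℂ) α :=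
      HasFDerivAt.comp α (hstrict.hasFDerivAt) h1
    have h3 : HasDerivAt (f ∘ fun T : ℂ => ((y₀, T) : (Fin n → ℂ) × ℂ))
        ((G.map (MvPolynomial.eval y₀)).derivative.eval α) α :=
      (G.map (MvPolynomial.eval y₀)).hasDerivAt α
    exact h2.hasDerivAt.unique h3
  have hinv : (fderiv ℂ f u ∘L ContinuousLinearMap.inr ℂ (Fin n → ℂ) ℂ).IsInvertible := by
    refine ⟨ContinuousLinearEquiv.unitsEquivAut ℂ (Units.mk0 _ hsimple), ?_⟩
    apply ContinuousLinearMap.ext_ring
    rw [hpartial]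
    simp
  set ψ := hstrict.implicitFunctionOfProdDomain hinv with hψ
  have hiff := hstrict.eventually_apply_eq_iff_implicitFunctionOfProdDomain hinv
  have hψ0 : ψ y₀ = α := (hiff.self_of_nhds).mp rfl
  have hdiff : DifferentiableAt ℂ ψ y₀ :=
    (hstrict.hasStrictFDerivAt_implicitFunctionOfProdDomain hinv).hasFDerivAt.differentiableAt
  have hiff' : ∀ᶠ p in 𝓝 u, (G.map (MvPolynomial.eval p.1)).IsRoot p.2 ↔ ψ p.1 = p.2 := by
    filter_upwards [hiff] with p hp
    rw [← hp, hfu]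
    rfl
  refine ⟨ψ, hψ0, hdiff, hiff', ?_⟩
  have hev := hstrict.eventually_apply_implicitFunctionOfProdDomain hinv
  filter_upwards [hev] with y hy
  rw [hfu] at hy
  exact hy

end Groth.Agent.Lib.Helper21.AnConn
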