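import Groth.Agent.Lib.Helper21.AnConnIFT
import Mathlib.FieldTheory.Separable
import Mathlib.Analysis.Complex.Polynomial.Basic

/-!
# Local structure of a semicontinuous family of subsets of the roots of a polynomial

Setting: `G ∈ ℂ[y][T]` monic, `y₀` a point where the specialisation `G_{y₀}` is separable,
`S y` a finite set of roots of `G_y` (for `y` near `y₀`) such that both `S` and the complementary
sets of roots are lower semicontinuous at `y₀`.  Then near `y₀` the set `S y` is the image of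
`S y₀` under root functions which are differentiable at `y₀`.
-/

set_option autoImplicit false
open Topology Filter Polynomial

namespace Groth.Agent.Lib.Helper21.AnConn

variable {n : ℕ}

lemma card_roots_toFinset_of_separable (p : ℂ[X]) (hp : p.Separable) :
    p.roots.toFinset.card = p.natDegree := by
  classical
  rw [Multiset.toFinset_card_of_nodup (nodup_roots hp)]
  exact splits_iff_card_roots.mp (IsAlgClosed.splits p)

theorem local_structure (G : (MvPolynomial (Fin n) ℂ)[X]) (hG : G.Monic)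
    (S : (Fin n → ℂ) → Finset ℂ) (y₀ : Fin n → ℂ)
    (hsep : (G.map (MvPolynomial.eval y₀)).Separable)
    (hS : ∀ᶠ y in 𝓝 y₀, ∀ α ∈ S y, (G.map (MvPolynomial.eval y)).IsRoot α)
    (hlsc1 : ∀ α ∈ S y₀, ∀ ε > 0, ∀ᶠ y in 𝓝 y₀, ∃ α' ∈ S y, dist α' α < ε)
    (hlsc2 : ∀ α, (G.map (MvPolynomial.eval y₀)).IsRoot α → α ∉ S y₀ → ∀ ε > 0,
      ∀ᶠ y in 𝓝 y₀, ∃ α', (G.map (MvPolynomial.eval y)).IsRoot α' ∧ α' ∉ S y ∧ dist α' α < ε) :
    ∃ ψ : ℂ → (Fin n → ℂ) → ℂ, (∀ α ∈ S y₀, DifferentiableAt ℂ (ψ α) y₀) ∧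
      ∀ᶠ y in 𝓝 y₀, Set.InjOn (fun α => ψ α y) (S y₀ : Set ℂ) ∧
        S y = (S y₀).image (fun α => ψ α y) := by
  classical
  set G₀ := G.map (MvPolynomial.eval y₀) with hG₀
  have hG₀ne : G₀ ≠ 0 := (hG.map _).ne_zero
  set R₀ : Finset ℂ := G₀.roots.toFinset with hR₀
  have hR₀mem : ∀ α, α ∈ R₀ ↔ G₀.IsRoot α := by
    intro α
    rw [hR₀, Multiset.mem_toFinset, mem_roots hG₀ne]
  have hR₀card : R₀.card = G.natDegree := by
    rw [hR₀, card_roots_toFinset_of_separable _ hsep, hG₀, hG.natDegree_map]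
  have hS₀ : S y₀ ⊆ R₀ := by
    intro α hα
    rw [hR₀mem]
    exact hS.self_of_nhds α hα
  -- local root functions
  have hloc : ∀ α : ℂ, ∃ ψ : (Fin n → ℂ) → ℂ, G₀.IsRoot α → (ψ y₀ = α ∧ DifferentiableAt ℂ ψ y₀ ∧
      (∀ᶠ p in 𝓝 ((y₀, α) : (Fin n → ℂ) × ℂ),
        (G.map (MvPolynomial.eval p.1)).IsRoot p.2 ↔ ψ p.1 = p.2) ∧
      ∀ᶠ y in 𝓝 y₀, (G.map (MvPolynomial.eval y)).IsRoot (ψ y)) := by
    intro α
    by_cases hα : G₀.IsRoot α
    · have hsimple : G₀.derivative.eval α ≠ 0 := by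
        have := hsep.eval₂_derivative_ne_zero (RingHom.id ℂ) (x := α) (by
          rw [eval₂_id]; exact hα)
        rwa [eval₂_id] at this
      obtain ⟨ψ, h1, h2, h3, h4⟩ := exists_local_root G y₀ α hα hsimple
      exact ⟨ψ, fun _ => ⟨h1, h2, h3, h4⟩⟩
    · exact ⟨fun _ => 0, fun h => absurd h hα⟩
  choose ψ hψ using hloc
  refine ⟨ψ, fun α hα => (hψ α ((hR₀mem α).mp (hS₀ hα))).2.1, ?_⟩
  -- radii of uniqueness
  have hrad : ∀ α : ℂ, ∃ ρ : ℝ, 0 < ρ ∧ (G₀.IsRoot α → ∀ y, dist y y₀ < ρ → ∀ β, dist β α < ρ →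
      ((G.map (MvPolynomial.eval y)).IsRoot β ↔ ψ α y = β)) := by
    intro α
    by_cases hα : G₀.IsRoot α
    · have hev := (hψ α hα).2.2.1
      rw [nhds_prod_eq, Filter.eventually_prod_iff] at hev
      obtain ⟨pa, hpa, pb, hpb, hpab⟩ := hev
      obtain ⟨ρ1, hρ1, hρ1'⟩ := Metric.eventually_nhds_iff.mp hpa
      obtain ⟨ρ2, hρ2, hρ2'⟩ := Metric.eventually_nhds_iff.mp hpb
      refine ⟨min ρ1 ρ2, lt_min hρ1 hρ2, fun _ y hy β hβ => ?_⟩
      exact hpab (hρ1' (hy.trans_le (min_le_left _ _))) (hρ2' (hβ.trans_le (min_le_right _ _)))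
    · exact ⟨1, one_pos, fun h => absurd h hα⟩
  choose ρ hρpos hρ using hrad
  -- choose ε
  have hev1 : ∀ᶠ ε in 𝓝[>] (0 : ℝ), ∀ α ∈ R₀, ε < ρ α := by
    rw [Filter.eventually_all_finset]
    intro α _
    exact (eventually_lt_nhds (hρpos α)).filter_mono nhdsWithin_le_nhds
  have hev2 : ∀ᶠ ε in 𝓝[>] (0 : ℝ), ∀ α ∈ R₀, ∀ β ∈ R₀, α ≠ β → ε < dist α β / 2 := by
    rw [Filter.eventually_all_finset]
    intro α _
    rw [Filter.eventually_all_finset]
    intro β _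
    by_cases hαβ : α = β
    · exact Filter.Eventually.of_forall fun ε h => absurd hαβ h
    · have : 0 < dist α β / 2 := by
        have := dist_pos.mpr hαβ
        linarith
      exact ((eventually_lt_nhds this).filter_mono nhdsWithin_le_nhds).mono fun ε hε _ => hε
  have hev3 : ∀ᶠ ε in 𝓝[>] (0 : ℝ), 0 < ε := eventually_mem_nhdsWithin
  obtain ⟨ε, ⟨hε1, hε2⟩, hεpos⟩ := ((hev1.and hev2).and hev3).exists
  -- conditions on `y`
  have hc1 : ∀ᶠ y in 𝓝 y₀, ∀ α ∈ R₀, dist (ψ α y) α < ε := by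
    rw [Filter.eventually_all_finset]
    intro α hα
    obtain ⟨h1, h2, -, -⟩ := hψ α ((hR₀mem α).mp hα)
    have := Metric.tendsto_nhds.mp h2.continuousAt.tendsto ε hεpos
    rw [h1] at this
    exact this
  have hc2 : ∀ᶠ y in 𝓝 y₀, ∀ α ∈ R₀, (G.map (MvPolynomial.eval y)).IsRoot (ψ α y) := by
    rw [Filter.eventually_all_finset]
    intro α hα
    exact (hψ α ((hR₀mem α).mp hα)).2.2.2
  have hc3 : ∀ᶠ y in 𝓝 y₀, dist y y₀ < ε := Metric.ball_mem_nhds y₀ hεpos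
  have hc4 : ∀ᶠ y in 𝓝 y₀, ∀ α ∈ S y₀, ∃ α' ∈ S y, dist α' α < ε := by
    rw [Filter.eventually_all_finset]
    intro α hα
    exact hlsc1 α hα ε hεpos
  have hc5 : ∀ᶠ y in 𝓝 y₀, ∀ α ∈ R₀ \ S y₀, ∃ α', (G.map (MvPolynomial.eval y)).IsRoot α' ∧
      α' ∉ S y ∧ dist α' α < ε := by
    rw [Filter.eventually_all_finset]
    intro α hα
    rw [Finset.mem_sdiff] at hα
    exact hlsc2 α ((hR₀mem α).mp hα.1) hα.2 ε hεpos
  filter_upwards [hc1, hc2, hc3, hc4, hc5, hS] with y h1 h2 h3 h4 h5 h6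
  set Gy := G.map (MvPolynomial.eval y) with hGy
  have hGyne : Gy ≠ 0 := (hG.map _).ne_zero
  -- injectivity on `R₀`
  have hinj : Set.InjOn (fun α => ψ α y) (R₀ : Set ℂ) := by
    intro α hα β hβ hαβ
    by_contra hne
    have hd := hε2 α hα β hβ hne
    have e1 : dist α β ≤ dist α (ψ α y) + dist (ψ α y) β := dist_triangle _ _ _
    have e2 : dist α (ψ α y) < ε := by rw [dist_comm]; exact h1 α hα
    have e3 : dist (ψ α y) β < ε := by
      have : ψ α y = ψ β y := hαβ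
      rw [this]
      exact h1 β hβ
    linarith
  -- uniqueness
  have huniq : ∀ α ∈ R₀, ∀ β, Gy.IsRoot β → dist β α < ε → β = ψ α y := by
    intro α hα β hβ hd
    have := (hρ α ((hR₀mem α).mp hα) y (h3.trans (hε1 α hα)) β (hd.trans (hε1 α hα))).mp hβ
    exact this.symm
  -- all roots of `G_y`
  have hroots : Gy.roots.toFinset = R₀.image (fun α => ψ α y) := by
    symm
    apply Finset.eq_of_subset_of_card_le
    · intro β hβ
      obtain ⟨α, hα, rfl⟩ := Finset.mem_image.mp hβ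
      rw [Multiset.mem_toFinset, mem_roots hGyne]
      exact h2 α hα
    · rw [Finset.card_image_of_injOn hinj, hR₀card]
      calc Gy.roots.toFinset.card ≤ Gy.roots.card := Multiset.toFinset_card_le _
        _ ≤ Gy.natDegree := card_roots' _
        _ = G.natDegree := hG.natDegree_map _
  have hin : ∀ α ∈ S y₀, ψ α y ∈ S y := by
    intro α hα
    obtain ⟨α', hα', hd⟩ := h4 α hα
    have := huniq α (hS₀ hα) α' (h6 α' hα') hd
    rwa [← this]
  have hout : ∀ α ∈ R₀, α ∉ S y₀ → ψ α y ∉ S y := by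
    intro α hα hαS
    obtain ⟨α', hα', hα'S, hd⟩ := h5 α (Finset.mem_sdiff.mpr ⟨hα, hαS⟩)
    have := huniq α hα α' hα' hd
    rwa [← this]
  refine ⟨hinj.mono (by exact_mod_cast hS₀), ?_⟩
  ext β
  constructor
  · intro hβ
    have hβroot : β ∈ Gy.roots.toFinset := by
      rw [Multiset.mem_toFinset, mem_roots hGyne]
      exact h6 β hβ
    rw [hroots] at hβroot
    obtain ⟨α, hα, rfl⟩ := Finset.mem_image.mp hβroot
    by_cases hαS : α ∈ S y₀
    · exact Finset.mem_image.mpr ⟨α, hαS, rfl⟩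
    · exact absurd hβ (hout α hα hαS)
  · intro hβ
    obtain ⟨α, hα, rfl⟩ := Finset.mem_image.mp hβ
    exact hin α hα

end Groth.Agent.Lib.Helper21.AnConn
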