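import Groth.Agent.Lib.Helper21.AnConnGlobal
import Groth.Agent.Lib.Helper16.LocNoeth
import Mathlib.Topology.Connected.TotallyDisconnected

/-!
# Connectedness: `X` vs `X(ℂ)`

* `connectedSpace_pts_iff`: `X` is connected iff `X(ℂ)` is.
* `connectedComponentsMap_pt_bijective`: `π₀(X(ℂ)) → π₀(X)` is bijective.
-/

set_option autoImplicit false
open CategoryTheory AlgebraicGeometry Topology TopologicalSpace Filter
open An

namespace Groth.Agent.Lib.Helper21.AnPts

variable {X : Scheme.{0}} [X.Over SC] [LocallyOfFiniteType (X ↘ SC)]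

theorem connectedSpace_pts [ConnectedSpace X] : ConnectedSpace (Pts X) := by
  rw [connectedSpace_iff_clopen]
  refine ⟨nonempty_iff.mp inferInstance, fun M hM => ?_⟩
  obtain ⟨T, hT, rfl⟩ := exists_isClopen_preimage_eq M hM
  rcases isClopen_iff.mp hT with h | h
  · left
    rw [h, Set.preimage_empty]
  · right
    rw [h, Set.preimage_univ]

theorem connectedSpace_of_pts [ConnectedSpace (Pts X)] : ConnectedSpace X := by
  rw [connectedSpace_iff_clopen]
  refine ⟨nonempty_iff.mpr inferInstance, fun T hT => ?_⟩
  have hM : IsClopen (Pts.pt ⁻¹' T : Set (Pts X)) := hT.preimage Pts.continuous_pt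
  rcases isClopen_iff.mp hM with h | h
  · left
    by_contra hne
    obtain ⟨x, hx⟩ := exists_pt_mem_of_isLocallyClosed T hT.2.isLocallyClosed
      (Set.nonempty_iff_ne_empty.mpr hne)
    have : x ∈ (Pts.pt ⁻¹' T : Set (Pts X)) := hx
    rw [h] at this
    exact this
  · right
    by_contra hne
    have hne' : (Tᶜ).Nonempty := Set.nonempty_compl.mpr hne
    obtain ⟨x, hx⟩ := exists_pt_mem_of_isLocallyClosed Tᶜ hT.1.isOpen_compl.isLocallyClosed hne'
    have : x ∈ (Pts.pt ⁻¹' T : Set (Pts X)) := by
      rw [h]
      trivial
    exact hx this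

theorem connectedSpace_pts_iff : ConnectedSpace X ↔ ConnectedSpace (Pts X) :=
  ⟨fun _ => connectedSpace_pts, fun _ => connectedSpace_of_pts⟩

lemma locallyConnectedSpace : LocallyConnectedSpace X := by
  have hln := isLocallyNoetherian (X := X)
  apply Groth.Agent.Lib.Helper16.locallyConnectedSpace_of_locallyNoetherian
  intro x
  obtain ⟨U, hU, hxU⟩ := exists_affine_nhd x
  refine ⟨(U : Set X), U.2.mem_nhds hxU, ?_⟩
  have := hln.component_noetherian ⟨U, hU⟩
  exact noetherianSpace_of_isAffineOpen U hU

theorem connectedComponentsMap_pt_bijective :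
    Function.Bijective (Pts.continuous_pt (X := X)).connectedComponentsMap := by
  constructor
  · -- injectivity
    intro c c' hcc'
    obtain ⟨x, rfl⟩ := ConnectedComponents.surjective_coe c
    obtain ⟨x', rfl⟩ := ConnectedComponents.surjective_coe c'
    rw [Continuous.connectedComponentsMap_mk, Continuous.connectedComponentsMap_mk] at hcc'
    have hmem : x.pt ∈ connectedComponent x'.pt := ConnectedComponents.coe_eq_coe'.mp hcc'
    have := locallyConnectedSpace (X := X)
    let C : X.Opens := ⟨connectedComponent x'.pt, isOpen_connectedComponent⟩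
    have hconn : ConnectedSpace ↥(C : Scheme.{0}) :=
      Subtype.connectedSpace isConnected_connectedComponent
    have hC : ConnectedSpace (Pts (C : Scheme.{0})) := connectedSpace_pts
    obtain ⟨y, hy⟩ := exists_map_ι_eq C x hmem
    obtain ⟨y', hy'⟩ := exists_map_ι_eq C x' mem_connectedComponent
    have himg : _root_.IsPreconnected (Set.range (Pts.map C.ι)) :=
      isPreconnected_range (Pts.continuous_map C.ι)
    have hsub := himg.subset_connectedComponent (x := x') ⟨y', hy'⟩
    have hx : x ∈ connectedComponent x' := hsub ⟨y, hy⟩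
    exact ConnectedComponents.coe_eq_coe'.mpr hx
  · -- surjectivity
    intro c
    obtain ⟨z, rfl⟩ := ConnectedComponents.surjective_coe c
    obtain ⟨x, hx⟩ := nonempty_preimage_closure z
    refine ⟨(x : ConnectedComponents (Pts X)), ?_⟩
    rw [Continuous.connectedComponentsMap_mk]
    apply ConnectedComponents.coe_eq_coe'.mpr
    have hpre : _root_.IsPreconnected (closure ({z} : Set X)) := isPreconnected_singleton.closure
    exact hpre.subset_connectedComponent (subset_closure rfl) hx

end Groth.Agent.Lib.Helper21.AnPts
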