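import Mathlib.Analysis.Complex.RemovableSingularity
import Mathlib.Analysis.Complex.Liouville
import Mathlib.Analysis.Calculus.DSlope
import Mathlib.Topology.Algebra.Module.Cardinality

/-!
# One-variable complex analysis used for the connectedness theorem

* `exists_polynomial_of_growth`: an entire function with `‖f t‖ ≤ C (1 + ‖t‖) ^ N` is a polynomial
  of degree at most `N`.
* `exists_polynomial_of_differentiableAt_off_finite`: a function which is complex differentiable
  off a finite set and satisfies such a bound there agrees off the finite set with a polynomial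
  of degree at most `N`.
-/

set_option autoImplicit false
open Polynomial Topology Filter

namespace Groth.Agent.Lib.Helper21.AnConn

/-- an entire function of polynomial growth is a polynomial -/
theorem exists_polynomial_of_growth (N : ℕ) : ∀ (f : ℂ → ℂ), Differentiable ℂ f →
    (∃ C : ℝ, ∀ t, ‖f t‖ ≤ C * (1 + ‖t‖) ^ N) →
    ∃ q : ℂ[X], q.natDegree ≤ N ∧ ∀ t, f t = q.eval t := by
  induction N with
  | zero =>
    intro f hf ⟨C, hC⟩
    have hb : Bornology.IsBounded (Set.range f) := by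
      rw [isBounded_iff_forall_norm_le]
      refine ⟨C, ?_⟩
      rintro _ ⟨t, rfl⟩
      simpa using hC t
    refine ⟨Polynomial.C (f 0), by simp, fun t => ?_⟩
    rw [eval_C]
    exact hf.apply_eq_apply_of_bounded hb t 0
  | succ N ih =>
    intro f hf ⟨C, hC⟩
    have hg : Differentiable ℂ (dslope f 0) := by
      rw [← differentiableOn_univ]
      exact (Complex.differentiableOn_dslope Filter.univ_mem).mpr hf.differentiableOn
    obtain ⟨C1, hC1⟩ := (isCompact_closedBall (0 : ℂ) 1).exists_bound_of_continuousOn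
      hg.continuous.continuousOn
    have hkey : ∀ t, t * dslope f 0 t = f t - f 0 := by
      intro t
      have := sub_smul_dslope f 0 t
      simpa using this
    have hbound : ∀ t, ‖dslope f 0 t‖ ≤ (2 * |C| + ‖f 0‖ + |C1|) * (1 + ‖t‖) ^ N := by
      intro t
      have h1 : (1 : ℝ) ≤ (1 + ‖t‖) ^ N := one_le_pow₀ (by linarith [norm_nonneg t])
      have hpos : (0 : ℝ) ≤ (1 + ‖t‖) ^ N := by positivity
      by_cases ht : ‖t‖ ≤ 1
      · have h2 : ‖dslope f 0 t‖ ≤ C1 := hC1 t (by simpa using ht)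
        have h3 : C1 ≤ |C1| := le_abs_self _
        have h4 : |C1| ≤ (2 * |C| + ‖f 0‖ + |C1|) := by
          have := abs_nonneg C
          have := norm_nonneg (f 0)
          linarith
        calc ‖dslope f 0 t‖ ≤ |C1| := h2.trans h3
          _ ≤ |C1| * (1 + ‖t‖) ^ N := le_mul_of_one_le_right (abs_nonneg _) h1
          _ ≤ _ := mul_le_mul_of_nonneg_right h4 hpos
      · push Not at ht
        have htpos : 0 < ‖t‖ := by linarith
        have h2 : ‖t‖ * ‖dslope f 0 t‖ = ‖f t - f 0‖ := by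
          rw [← norm_mul, hkey]
        have h3 : ‖f t - f 0‖ ≤ |C| * (1 + ‖t‖) ^ (N + 1) + ‖f 0‖ := by
          refine (norm_sub_le _ _).trans (add_le_add ((hC t).trans ?_) le_rfl)
          exact mul_le_mul_of_nonneg_right (le_abs_self C) (by positivity)
        have h4 : |C| * (1 + ‖t‖) ^ (N + 1) + ‖f 0‖ ≤
            ‖t‖ * ((2 * |C| + ‖f 0‖ + |C1|) * (1 + ‖t‖) ^ N) := by
          have hC0 := abs_nonneg C
          have hf0 := norm_nonneg (f 0)
          have hC10 := abs_nonneg C1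
          have e1 : |C| * (1 + ‖t‖) ^ (N + 1) ≤ ‖t‖ * (2 * |C| * (1 + ‖t‖) ^ N) := by
            rw [pow_succ]
            have : (1 + ‖t‖) ≤ 2 * ‖t‖ := by linarith
            calc |C| * ((1 + ‖t‖) ^ N * (1 + ‖t‖)) = (|C| * (1 + ‖t‖) ^ N) * (1 + ‖t‖) := by ring
              _ ≤ (|C| * (1 + ‖t‖) ^ N) * (2 * ‖t‖) :=
                mul_le_mul_of_nonneg_left this (by positivity)
              _ = _ := by ring
          have e2 : ‖f 0‖ ≤ ‖t‖ * (‖f 0‖ * (1 + ‖t‖) ^ N) := by
            calc ‖f 0‖ = 1 * (‖f 0‖ * 1) := by ring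
              _ ≤ ‖t‖ * (‖f 0‖ * (1 + ‖t‖) ^ N) :=
                mul_le_mul ht.le (mul_le_mul_of_nonneg_left h1 hf0) (by positivity) htpos.le
          have e3 : 0 ≤ ‖t‖ * (|C1| * (1 + ‖t‖) ^ N) := by positivity
          calc |C| * (1 + ‖t‖) ^ (N + 1) + ‖f 0‖
              ≤ ‖t‖ * (2 * |C| * (1 + ‖t‖) ^ N) + ‖t‖ * (‖f 0‖ * (1 + ‖t‖) ^ N) +
                ‖t‖ * (|C1| * (1 + ‖t‖) ^ N) := by linarith
            _ = _ := by ring
        have h5 : ‖t‖ * ‖dslope f 0 t‖ ≤ ‖t‖ * ((2 * |C| + ‖f 0‖ + |C1|) * (1 + ‖t‖) ^ N) := by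
          rw [h2]
          exact h3.trans h4
        exact le_of_mul_le_mul_left h5 htpos
    obtain ⟨q', hq'deg, hq'⟩ := ih (dslope f 0) hg ⟨_, hbound⟩
    refine ⟨Polynomial.C (f 0) + X * q', ?_, fun t => ?_⟩
    · refine (natDegree_add_le _ _).trans (max_le (by simp) ?_)
      refine natDegree_mul_le.trans ?_
      rw [natDegree_X]
      omega
    · rw [eval_add, eval_C, eval_mul, eval_X, ← hq' t, hkey]
      ring

/-- a function which is complex differentiable and of polynomial growth off a finite set agrees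
there with a polynomial -/
theorem exists_polynomial_of_differentiableAt_off_finite (c : ℂ → ℂ) (F : Set ℂ) (hF : F.Finite)
    (N : ℕ) (C : ℝ) (hd : ∀ t, t ∉ F → DifferentiableAt ℂ c t)
    (hb : ∀ t, t ∉ F → ‖c t‖ ≤ C * (1 + ‖t‖) ^ N) :
    ∃ q : ℂ[X], q.natDegree ≤ N ∧ ∀ t, t ∉ F → c t = q.eval t := by
  classical
  set c' : ℂ → ℂ := fun t => limUnder (𝓝[≠] t) c with hc'
  have h1 : ∀ t, t ∉ F → c' t = c t := by
    intro t ht
    have : Tendsto c (𝓝[≠] t) (𝓝 (c t)) :=
      ((hd t ht).continuousAt.tendsto).mono_left nhdsWithin_le_nhds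
    exact this.limUnder_eq
  have hopen : ∀ t0, IsOpen ((F \ {t0})ᶜ ∩ Metric.ball t0 1) := fun t0 =>
    ((hF.subset Set.sdiff_subset).isClosed.isOpen_compl).inter Metric.isOpen_ball
  have hmem : ∀ t0, t0 ∈ ((F \ {t0})ᶜ ∩ Metric.ball t0 1) := fun t0 =>
    ⟨fun h => h.2 rfl, Metric.mem_ball_self one_pos⟩
  have hnotF : ∀ t0 t, t ∈ ((F \ {t0})ᶜ ∩ Metric.ball t0 1) → t ≠ t0 → t ∉ F := by
    intro t0 t ht hne htF
    exact ht.1 ⟨htF, hne⟩
  have h2 : Differentiable ℂ c' := by
    intro t0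
    set s := ((F \ {t0})ᶜ ∩ Metric.ball t0 1) with hs
    have hs_nhds : s ∈ 𝓝 t0 := (hopen t0).mem_nhds (hmem t0)
    have hdiff : DifferentiableOn ℂ c (s \ {t0}) := by
      intro t ht
      exact (hd t (hnotF t0 t ht.1 ht.2)).differentiableWithinAt
    have hbdd : BddAbove (norm ∘ c '' (s \ {t0})) := by
      refine ⟨|C| * (2 + ‖t0‖) ^ N, ?_⟩
      rintro _ ⟨t, ht, rfl⟩
      have h3 := hb t (hnotF t0 t ht.1 ht.2)
      have h4 : ‖t‖ ≤ 1 + ‖t0‖ := by
        have : dist t t0 < 1 := ht.1.2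
        rw [dist_eq_norm] at this
        have := norm_sub_norm_le t t0
        linarith
      calc ‖c t‖ ≤ C * (1 + ‖t‖) ^ N := h3
        _ ≤ |C| * (1 + ‖t‖) ^ N := mul_le_mul_of_nonneg_right (le_abs_self C) (by positivity)
        _ ≤ |C| * (2 + ‖t0‖) ^ N := by
          apply mul_le_mul_of_nonneg_left _ (abs_nonneg C)
          apply pow_le_pow_left₀ (by positivity)
          linarith
    have h5 := Complex.differentiableOn_update_limUnder_of_bddAbove hs_nhds hdiff hbdd
    have h6 : c' =ᶠ[𝓝 t0] Function.update c t0 (limUnder (𝓝[≠] t0) c) := by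
      filter_upwards [hs_nhds] with t ht
      by_cases hne : t = t0
      · subst hne
        simp [hc']
      · rw [Function.update_of_ne hne]
        exact h1 t (hnotF t0 t ht hne)
    exact (h5.differentiableAt hs_nhds).congr_of_eventuallyEq h6
  have h3 : ∀ t, ‖c' t‖ ≤ C * (1 + ‖t‖) ^ N := by
    have hcl : IsClosed {t : ℂ | ‖c' t‖ ≤ C * (1 + ‖t‖) ^ N} :=
      isClosed_le h2.continuous.norm (by fun_prop)
    have hdense : Dense (Fᶜ : Set ℂ) := hF.countable.dense_compl ℂ
    have hsub : (Fᶜ : Set ℂ) ⊆ {t : ℂ | ‖c' t‖ ≤ C * (1 + ‖t‖) ^ N} := by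
      intro t ht
      simp only [Set.mem_ofPred_eq]
      rw [h1 t ht]
      exact hb t ht
    intro t
    have := hcl.closure_subset_iff.mpr hsub (hdense t)
    exact this
  obtain ⟨q, hq, hq'⟩ := exists_polynomial_of_growth N c' h2 ⟨C, h3⟩
  exact ⟨q, hq, fun t ht => (h1 t ht).symm.trans (hq' t)⟩

end Groth.Agent.Lib.Helper21.AnConn
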