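import Mathlib.LinearAlgebra.Lagrange
import Mathlib.Algebra.MvPolynomial.Funext
import Mathlib.Algebra.MvPolynomial.Rename
import Mathlib.Topology.Algebra.MvPolynomial
import Groth.Agent.Lib.Helper21.AnDensityRoots

/-!
# Separately polynomial functions are polynomial

`exists_mvPolynomial_of_separately`: a function on the nonvanishing locus `V` of a nonzero
polynomial `D` on `ℂⁿ` which is continuous on `V` and which on every axis-parallel line through a
point of `V` agrees (on the part of the line inside `V`) with a polynomial of degree at most `N`,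
agrees on `V` with a polynomial.
-/

set_option autoImplicit false
open MvPolynomial Topology Filter

namespace Groth.Agent.Lib.Helper21.AnConn

open Groth.Agent.Lib.Helper21.AnDensity

/-- specialise the first variable of a polynomial in `n+1` variables -/
noncomputable def specZero {n : ℕ} (t : ℂ) :
    MvPolynomial (Fin (n + 1)) ℂ →ₐ[ℂ] MvPolynomial (Fin n) ℂ :=
  MvPolynomial.aeval (Fin.cons (MvPolynomial.C t) MvPolynomial.X :
    Fin (n + 1) → MvPolynomial (Fin n) ℂ)

lemma eval_specZero {n : ℕ} (t : ℂ) (y' : Fin n → ℂ) (D : MvPolynomial (Fin (n + 1)) ℂ) :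
    eval y' (specZero t D) = eval (Fin.cons t y' : Fin (n + 1) → ℂ) D := by
  have h := MvPolynomial.comp_aeval (R := ℂ)
    (f := (Fin.cons (MvPolynomial.C t) MvPolynomial.X : Fin (n + 1) → MvPolynomial (Fin n) ℂ))
    (φ := (MvPolynomial.aeval y' : MvPolynomial (Fin n) ℂ →ₐ[ℂ] ℂ))
  have h2 := congrArg (fun ψ : MvPolynomial (Fin (n + 1)) ℂ →ₐ[ℂ] ℂ => ψ D) h
  simp only [AlgHom.comp_apply] at h2
  rw [← MvPolynomial.aeval_eq_eval, ← MvPolynomial.aeval_eq_eval]
  unfold specZero
  rw [h2]
  have : (fun i => (MvPolynomial.aeval y' : MvPolynomial (Fin n) ℂ →ₐ[ℂ] ℂ)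
      ((Fin.cons (MvPolynomial.C t) MvPolynomial.X : Fin (n + 1) → MvPolynomial (Fin n) ℂ) i)) =
      (Fin.cons t y' : Fin (n + 1) → ℂ) := by
    funext i
    refine Fin.cases ?_ (fun j => ?_) i
    · simp
    · simp
  rw [this]

/-- restrict a polynomial in `n+1` variables to the line `t ↦ (t, y')` -/
noncomputable def lineZero {n : ℕ} (y' : Fin n → ℂ) :
    MvPolynomial (Fin (n + 1)) ℂ →ₐ[ℂ] Polynomial ℂ :=
  MvPolynomial.aeval (Fin.cons Polynomial.X (fun i => Polynomial.C (y' i)) :
    Fin (n + 1) → Polynomial ℂ)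

lemma eval_lineZero {n : ℕ} (t : ℂ) (y' : Fin n → ℂ) (D : MvPolynomial (Fin (n + 1)) ℂ) :
    Polynomial.eval t (lineZero y' D) = eval (Fin.cons t y' : Fin (n + 1) → ℂ) D := by
  have h := MvPolynomial.comp_aeval (R := ℂ)
    (f := (Fin.cons Polynomial.X (fun i => Polynomial.C (y' i)) : Fin (n + 1) → Polynomial ℂ))
    (φ := (Polynomial.aeval t : Polynomial ℂ →ₐ[ℂ] ℂ))
  have h2 := congrArg (fun ψ : MvPolynomial (Fin (n + 1)) ℂ →ₐ[ℂ] ℂ => ψ D) h
  simp only [AlgHom.comp_apply] at h2
  rw [← MvPolynomial.aeval_eq_eval, ← Polynomial.coe_aeval_eq_eval]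
  unfold lineZero
  rw [h2]
  have : (fun i => (Polynomial.aeval t : Polynomial ℂ →ₐ[ℂ] ℂ)
      ((Fin.cons Polynomial.X (fun i => Polynomial.C (y' i)) : Fin (n + 1) → Polynomial ℂ) i)) =
      (Fin.cons t y' : Fin (n + 1) → ℂ) := by
    funext i
    refine Fin.cases ?_ (fun j => ?_) i
    · simp
    · simp
  rw [this]

/-- for a nonzero polynomial in `n+1` variables only finitely many specialisations of the first
variable vanish identically -/
lemma finite_specZero_eq_zero {n : ℕ} (D : MvPolynomial (Fin (n + 1)) ℂ) (hD : D ≠ 0) :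
    {t : ℂ | specZero (n := n) t D = 0}.Finite := by
  obtain ⟨p, hp⟩ : ∃ p : Fin (n + 1) → ℂ, eval p D ≠ 0 := by
    by_contra hcon
    push Not at hcon
    apply hD
    apply MvPolynomial.funext
    intro x
    rw [hcon x, map_zero]
  have hne : lineZero (Fin.tail p) D ≠ 0 := by
    intro h0
    apply hp
    have := eval_lineZero (p 0) (Fin.tail p) D
    rw [Fin.cons_self_tail] at this
    rw [← this, h0, Polynomial.eval_zero]
  refine ((lineZero (Fin.tail p) D).rootSet_finite ℂ).subset ?_
  intro t ht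
  rw [Polynomial.mem_rootSet_of_ne hne]
  simp only [Set.mem_ofPred_eq] at ht
  rw [Polynomial.coe_aeval_eq_eval, eval_lineZero, ← eval_specZero, ht, map_zero]

theorem exists_mvPolynomial_of_separately (N : ℕ) : ∀ (n : ℕ) (D : MvPolynomial (Fin n) ℂ),
    D ≠ 0 → ∀ c : (Fin n → ℂ) → ℂ, ContinuousOn c {y | eval y D ≠ 0} →
    (∀ a, eval a D ≠ 0 → ∀ i : Fin n, ∃ q : Polynomial ℂ, q.natDegree ≤ N ∧
      ∀ t, eval (Function.update a i t) D ≠ 0 → c (Function.update a i t) = q.eval t) →
    ∃ Q : MvPolynomial (Fin n) ℂ, ∀ y, eval y D ≠ 0 → c y = eval y Q := by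
  classical
  intro n
  induction n with
  | zero =>
    intro D _ c _ _
    refine ⟨MvPolynomial.C (c default), fun y _ => ?_⟩
    rw [eval_C]
    exact congrArg c (Subsingleton.elim _ _)
  | succ n ih =>
    intro D hD c hcont hline
    -- choose `N+1` good nodes
    have hinf : {t : ℂ | specZero (n := n) t D ≠ 0}.Infinite := by
      have := (finite_specZero_eq_zero D hD).infinite_compl
      exact this
    obtain ⟨T, hTsub, hTcard⟩ := hinf.exists_subset_card_eq (N + 1)
    have hT : ∀ τ ∈ T, specZero (n := n) τ D ≠ 0 := fun τ hτ => hTsub hτ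
    -- induction hypothesis at each node
    have hex : ∀ τ : ℂ, ∃ Qτ : MvPolynomial (Fin n) ℂ, τ ∈ T →
        ∀ y', eval y' (specZero τ D) ≠ 0 → c (Fin.cons τ y') = eval y' Qτ := by
      intro τ
      by_cases hτ : τ ∈ T
      swap
      · exact ⟨0, fun h => absurd h hτ⟩
      have hcont' : ContinuousOn (fun y' : Fin n → ℂ => c (Fin.cons τ y'))
          {y' | eval y' (specZero τ D) ≠ 0} := by
        refine hcont.comp (Continuous.continuousOn
          (Continuous.finCons continuous_const continuous_id)) ?_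
        intro y' hy'
        simp only [Set.mem_ofPred_eq] at hy' ⊢
        rwa [eval_specZero] at hy'
      obtain ⟨Qτ, hQτ⟩ := ih (specZero τ D) (hT τ hτ) (fun y' => c (Fin.cons τ y')) hcont' (by
        intro a' ha' i
        rw [eval_specZero] at ha'
        obtain ⟨q, hq, hq'⟩ := hline (Fin.cons τ a') ha' i.succ
        refine ⟨q, hq, fun t ht => ?_⟩
        rw [eval_specZero, Fin.cons_update] at ht
        rw [Fin.cons_update]
        exact hq' t ht)
      exact ⟨Qτ, fun _ => hQτ⟩
    choose Qn hQn using hex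
    -- the interpolated polynomial
    obtain ⟨Q, hQdef⟩ : ∃ Q : MvPolynomial (Fin (n + 1)) ℂ, Q = ∑ τ ∈ T,
        (Polynomial.aeval (MvPolynomial.X 0 : MvPolynomial (Fin (n + 1)) ℂ)
          (Lagrange.basis T id τ)) * rename Fin.succ (Qn τ) := ⟨_, rfl⟩
    have hQeval : ∀ (t : ℂ) (y' : Fin n → ℂ), eval (Fin.cons t y' : Fin (n + 1) → ℂ) Q =
        ∑ τ ∈ T, (Lagrange.basis T id τ).eval t * eval y' (Qn τ) := by
      intro t y'
      rw [hQdef, map_sum]
      refine Finset.sum_congr rfl fun τ _ => ?_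
      rw [map_mul, eval_rename]
      congr 1
      have := Polynomial.aeval_algHom_apply
        (MvPolynomial.aeval (Fin.cons t y' : Fin (n + 1) → ℂ) : MvPolynomial (Fin (n + 1)) ℂ →ₐ[ℂ] ℂ)
        (MvPolynomial.X 0) (Lagrange.basis T id τ)
      rw [MvPolynomial.aeval_X, Fin.cons_zero] at this
      rw [← MvPolynomial.aeval_eq_eval, ← this, Polynomial.coe_aeval_eq_eval]
    -- the auxiliary polynomial whose nonvanishing locus is where we know `c = Q`
    obtain ⟨E, hEdef⟩ : ∃ E : MvPolynomial (Fin (n + 1)) ℂ,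
        E = D * ∏ τ ∈ T, rename Fin.succ (specZero τ D) := ⟨_, rfl⟩
    have hE : E ≠ 0 := by
      rw [hEdef]
      refine mul_ne_zero hD (Finset.prod_ne_zero_iff.mpr fun τ hτ => ?_)
      intro h0
      apply hT τ hτ
      exact rename_injective _ (Fin.succ_injective n) (h0.trans (map_zero _).symm)
    have hEeval : ∀ y, eval y E ≠ 0 → eval y D ≠ 0 ∧ ∀ τ ∈ T, eval (Fin.tail y) (specZero τ D) ≠ 0 := by
      intro y hy
      rw [hEdef, map_mul, map_prod] at hy
      refine ⟨left_ne_zero_of_mul hy, fun τ hτ => ?_⟩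
      have := Finset.prod_ne_zero_iff.mp (right_ne_zero_of_mul hy) τ hτ
      rwa [eval_rename] at this
    have hkey : ∀ y, eval y E ≠ 0 → c y = eval y Q := by
      intro y hy
      obtain ⟨hyD, hyT⟩ := hEeval y hy
      obtain ⟨q, hq, hq'⟩ := hline y hyD 0
      have hupd : ∀ s : ℂ, Function.update y 0 s = Fin.cons s (Fin.tail y) := by
        intro s
        conv_lhs => rw [← Fin.cons_self_tail y]
        rw [Fin.update_cons_zero]
      have hnode : ∀ τ ∈ T, q.eval τ = eval (Fin.tail y) (Qn τ) := by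
        intro τ hτ
        have h1 := hyT τ hτ
        have h2 := hQn τ hτ (Fin.tail y) h1
        rw [eval_specZero] at h1
        rw [← hupd] at h1 h2
        rw [← hq' τ h1, h2]
      have hdeg : q.degree < T.card := by
        rw [hTcard]
        exact lt_of_le_of_lt Polynomial.degree_le_natDegree (by exact_mod_cast Nat.lt_succ_of_le hq)
      have hinterp := Lagrange.eq_interpolate (s := T) (v := id) (f := q)
        (Set.injOn_id _) hdeg
      have h3 : c y = q.eval (y 0) := by
        have h4 := hq' (y 0) (by rw [Function.update_eq_self]; exact hyD)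
        rwa [Function.update_eq_self] at h4
      rw [h3, ← Fin.cons_self_tail y, hQeval]
      conv_lhs => rw [hinterp]
      rw [Lagrange.interpolate_apply, Polynomial.eval_finsetSum]
      simp only [Fin.cons_zero]
      refine Finset.sum_congr rfl fun τ hτ => ?_
      rw [Polynomial.eval_mul, Polynomial.eval_C, id, hnode τ hτ, mul_comm]
    refine ⟨Q, fun y hy => ?_⟩
    -- density argument
    have hVopen : IsOpen {y : Fin (n + 1) → ℂ | eval y D ≠ 0} :=
      isOpen_ne_fun (MvPolynomial.continuous_eval D) continuous_const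
    have hdense : Dense {y : Fin (n + 1) → ℂ | eval y E ≠ 0} := dense_eval_ne_zero E hE
    have hycl : y ∈ closure ({y : Fin (n + 1) → ℂ | eval y D ≠ 0} ∩
        {y : Fin (n + 1) → ℂ | eval y E ≠ 0}) :=
      hdense.open_subset_closure_inter hVopen hy
    have hne : (𝓝[{y : Fin (n + 1) → ℂ | eval y D ≠ 0} ∩
        {y : Fin (n + 1) → ℂ | eval y E ≠ 0}] y).NeBot :=
      mem_closure_iff_nhdsWithin_neBot.mp hycl
    have h1 : Tendsto c (𝓝[{y : Fin (n + 1) → ℂ | eval y D ≠ 0} ∩
        {y : Fin (n + 1) → ℂ | eval y E ≠ 0}] y) (𝓝 (c y)) :=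
      ((hcont y hy).mono Set.inter_subset_left).tendsto
    have h2 : Tendsto (fun z => eval z Q) (𝓝[{y : Fin (n + 1) → ℂ | eval y D ≠ 0} ∩
        {y : Fin (n + 1) → ℂ | eval y E ≠ 0}] y) (𝓝 (eval y Q)) :=
      ((MvPolynomial.continuous_eval Q).tendsto y).mono_left nhdsWithin_le_nhds
    have h3 : c =ᶠ[𝓝[{y : Fin (n + 1) → ℂ | eval y D ≠ 0} ∩
        {y : Fin (n + 1) → ℂ | eval y E ≠ 0}] y] fun z => eval z Q := by
      filter_upwards [self_mem_nhdsWithin] with z hz
      exact hkey z hz.2
    exact tendsto_nhds_unique (h1.congr' h3) h2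

end Groth.Agent.Lib.Helper21.AnConn
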