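import Groth.Agent.Lib.Helper21.AnConnCoeff
import Groth.Agent.Lib.Helper21.AnConnPoly
import Groth.Agent.Lib.Helper21.AnConnSep

/-!
# The monodromy lemma

Let `G ∈ ℂ[y][T]` be monic, `D ≠ 0` in `ℂ[y]` such that `G_y` is separable when `D y ≠ 0`, and let
`S y` be a set of roots of `G_y` for each such `y`, such that `S` and its complement in the roots
are lower semicontinuous.  Then there is a monic `H ∈ ℂ[y][T]` dividing `G` with
`H_y = ∏ α ∈ S y, (T - α)` for all `y` with `D y ≠ 0`.
-/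

set_option autoImplicit false
open Topology Filter Polynomial

namespace Groth.Agent.Lib.Helper21.AnConn

open Groth.Agent.Lib.Helper21.AnDensity

variable {n : ℕ}

/-- restriction of a polynomial to an axis-parallel line -/
noncomputable def lineAt (a : Fin n → ℂ) (i : Fin n) : MvPolynomial (Fin n) ℂ →ₐ[ℂ] ℂ[X] :=
  MvPolynomial.aeval (Function.update (fun j => C (a j)) i X : Fin n → ℂ[X])

lemma eval_lineAt (a : Fin n → ℂ) (i : Fin n) (t : ℂ) (D : MvPolynomial (Fin n) ℂ) :
    (lineAt a i D).eval t = MvPolynomial.eval (Function.update a i t) D := by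
  have h := MvPolynomial.comp_aeval (R := ℂ)
    (f := (Function.update (fun j => C (a j)) i X : Fin n → ℂ[X]))
    (φ := (Polynomial.aeval t : ℂ[X] →ₐ[ℂ] ℂ))
  have h2 := congrArg (fun ψ : MvPolynomial (Fin n) ℂ →ₐ[ℂ] ℂ => ψ D) h
  simp only [AlgHom.comp_apply] at h2
  rw [← MvPolynomial.aeval_eq_eval, ← Polynomial.coe_aeval_eq_eval]
  unfold lineAt
  rw [h2]
  have : (fun j => (Polynomial.aeval t : ℂ[X] →ₐ[ℂ] ℂ)
      ((Function.update (fun j => C (a j)) i X : Fin n → ℂ[X]) j)) = Function.update a i t := by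
    funext j
    by_cases hj : j = i
    · subst hj
      simp
    · simp [Function.update_of_ne hj]
  rw [this]

/-- a polynomial vanishing on the nonvanishing locus of a nonzero polynomial is zero -/
lemma eq_zero_of_forall_eval_eq_zero (D p : MvPolynomial (Fin n) ℂ) (hD : D ≠ 0)
    (h : ∀ y, MvPolynomial.eval y D ≠ 0 → MvPolynomial.eval y p = 0) : p = 0 := by
  by_contra hp
  have hpD : p * D ≠ 0 := mul_ne_zero hp hD
  obtain ⟨y, hy⟩ : ∃ y : Fin n → ℂ, MvPolynomial.eval y (p * D) ≠ 0 := by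
    by_contra hcon
    push Not at hcon
    apply hpD
    apply MvPolynomial.funext
    intro x
    rw [hcon x, map_zero]
  rw [map_mul] at hy
  exact left_ne_zero_of_mul hy (h y (right_ne_zero_of_mul hy))

theorem monodromy (G : (MvPolynomial (Fin n) ℂ)[X]) (hG : G.Monic)
    (D : MvPolynomial (Fin n) ℂ) (hD : D ≠ 0)
    (hsep : ∀ y, MvPolynomial.eval y D ≠ 0 → (G.map (MvPolynomial.eval y)).Separable)
    (S : (Fin n → ℂ) → Finset ℂ)
    (hS : ∀ y, MvPolynomial.eval y D ≠ 0 → ∀ α ∈ S y, (G.map (MvPolynomial.eval y)).IsRoot α)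
    (hlsc1 : ∀ y₀, MvPolynomial.eval y₀ D ≠ 0 → ∀ α ∈ S y₀, ∀ ε > 0,
      ∀ᶠ y in 𝓝 y₀, ∃ α' ∈ S y, dist α' α < ε)
    (hlsc2 : ∀ y₀, MvPolynomial.eval y₀ D ≠ 0 → ∀ α,
      (G.map (MvPolynomial.eval y₀)).IsRoot α → α ∉ S y₀ → ∀ ε > 0,
      ∀ᶠ y in 𝓝 y₀, ∃ α', (G.map (MvPolynomial.eval y)).IsRoot α' ∧ α' ∉ S y ∧ dist α' α < ε) :
    ∃ H : (MvPolynomial (Fin n) ℂ)[X], H.Monic ∧ H ∣ G ∧
      ∀ y, MvPolynomial.eval y D ≠ 0 → H.map (MvPolynomial.eval y) = ∏ α ∈ S y, (X - C α) := by
  classical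
  set d := G.natDegree with hd
  have hVopen : IsOpen {y : Fin n → ℂ | MvPolynomial.eval y D ≠ 0} :=
    isOpen_ne_fun (MvPolynomial.continuous_eval D) continuous_const
  have hVev : ∀ y₀, MvPolynomial.eval y₀ D ≠ 0 → ∀ᶠ y in 𝓝 y₀, MvPolynomial.eval y D ≠ 0 :=
    fun y₀ hy₀ => hVopen.mem_nhds hy₀
  -- the coefficient functions
  set a : ℕ → (Fin n → ℂ) → ℂ := fun k y => (∏ α ∈ S y, (X - C α)).coeff k with ha
  -- (P1) differentiability
  have hP1 : ∀ y₀, MvPolynomial.eval y₀ D ≠ 0 → ∀ k, DifferentiableAt ℂ (a k) y₀ := by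
    intro y₀ hy₀ k
    obtain ⟨ψ, hψd, hψ⟩ := local_structure G hG S y₀ (hsep y₀ hy₀)
      ((hVev y₀ hy₀).mono fun y hy => hS y hy) (hlsc1 y₀ hy₀) (hlsc2 y₀ hy₀)
    have h1 := differentiableAt_coeff_prod (S y₀) ψ y₀ hψd k
    refine h1.congr_of_eventuallyEq ?_
    filter_upwards [hψ] with y hy
    change (∏ α ∈ S y, (X - C α)).coeff k = _
    rw [hy.2, Finset.prod_image]
    intro x hx x' hx' hxx'
    exact hy.1 hx hx' hxx'
  -- (P2) growth
  obtain ⟨C0, N0, hC0, hroot⟩ := exists_root_growth G hG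
  have hcard : ∀ y, MvPolynomial.eval y D ≠ 0 → (S y).card ≤ d := by
    intro y hy
    have hne : G.map (MvPolynomial.eval y) ≠ 0 := (hG.map _).ne_zero
    have hsub : S y ⊆ (G.map (MvPolynomial.eval y)).roots.toFinset := by
      intro α hα
      rw [Multiset.mem_toFinset, mem_roots hne]
      exact hS y hy α hα
    calc (S y).card ≤ (G.map (MvPolynomial.eval y)).roots.toFinset.card := Finset.card_le_card hsub
      _ ≤ (G.map (MvPolynomial.eval y)).roots.card := Multiset.toFinset_card_le _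
      _ ≤ (G.map (MvPolynomial.eval y)).natDegree := card_roots' _
      _ = d := hG.natDegree_map _
  have hP2 : ∀ y, MvPolynomial.eval y D ≠ 0 → ∀ k,
      ‖a k y‖ ≤ (2 * C0) ^ d * (1 + ‖y‖) ^ (N0 * d) := by
    intro y hy k
    have hy1 : (1 : ℝ) ≤ 1 + ‖y‖ := by linarith [norm_nonneg y]
    have hB : 1 ≤ C0 * (1 + ‖y‖) ^ N0 := by
      calc (1 : ℝ) = 1 * 1 := by ring
        _ ≤ C0 * (1 + ‖y‖) ^ N0 := mul_le_mul hC0 (one_le_pow₀ hy1) zero_le_one (by linarith)
    have h1 := norm_coeff_prod_le (S y) (C0 * (1 + ‖y‖) ^ N0) hB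
      (fun α hα => hroot y α (hS y hy α hα)) k
    have h2 : (2 * (C0 * (1 + ‖y‖) ^ N0)) ^ (S y).card ≤ (2 * (C0 * (1 + ‖y‖) ^ N0)) ^ d :=
      pow_le_pow_right₀ (by linarith) (hcard y hy)
    calc ‖a k y‖ ≤ (2 * (C0 * (1 + ‖y‖) ^ N0)) ^ (S y).card := h1
      _ ≤ (2 * (C0 * (1 + ‖y‖) ^ N0)) ^ d := h2
      _ = (2 * C0) ^ d * (1 + ‖y‖) ^ (N0 * d) := by
        rw [← mul_assoc, mul_pow, ← pow_mul]
  -- (P3)+(P4) polynomial on lines
  have hP4 : ∀ k a₀, MvPolynomial.eval a₀ D ≠ 0 → ∀ i : Fin n, ∃ q : ℂ[X],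
      q.natDegree ≤ N0 * d ∧ ∀ t, MvPolynomial.eval (Function.update a₀ i t) D ≠ 0 →
        a k (Function.update a₀ i t) = q.eval t := by
    intro k a₀ ha₀ i
    have hu : lineAt a₀ i D ≠ 0 := by
      intro h0
      apply ha₀
      have := eval_lineAt a₀ i (a₀ i) D
      rw [Function.update_eq_self, h0, eval_zero] at this
      exact this.symm
    have hF : {t : ℂ | MvPolynomial.eval (Function.update a₀ i t) D = 0}.Finite := by
      refine ((lineAt a₀ i D).rootSet_finite ℂ).subset ?_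
      intro t ht
      rw [mem_rootSet_of_ne hu, coe_aeval_eq_eval, eval_lineAt]
      exact ht
    have hline : Differentiable ℂ (fun t : ℂ => Function.update a₀ i t) := by
      rw [differentiable_pi]
      intro j
      by_cases hj : j = i
      · subst hj
        simp only [Function.update_self]
        exact differentiable_id
      · simp only [Function.update_of_ne hj]
        exact differentiable_const _
    have hnorm : ∀ t : ℂ, ‖Function.update a₀ i t‖ ≤ ‖a₀‖ + ‖t‖ := by
      intro t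
      rw [pi_norm_le_iff_of_nonneg (by positivity)]
      intro j
      by_cases hj : j = i
      · subst hj
        rw [Function.update_self]
        linarith [norm_nonneg a₀]
      · rw [Function.update_of_ne hj]
        linarith [norm_le_pi_norm a₀ j, norm_nonneg t]
    obtain ⟨q, hq, hq'⟩ := exists_polynomial_of_differentiableAt_off_finite
      (fun t => a k (Function.update a₀ i t)) _ hF (N0 * d)
      ((2 * C0) ^ d * (1 + ‖a₀‖) ^ (N0 * d)) (by
        intro t ht
        exact (hP1 _ ht k).comp t (hline t)) (by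
        intro t ht
        have h1 := hP2 _ ht k
        have h2 : (1 + ‖Function.update a₀ i t‖) ≤ (1 + ‖a₀‖) * (1 + ‖t‖) := by
          have := hnorm t
          nlinarith [norm_nonneg a₀, norm_nonneg t]
        calc ‖a k (Function.update a₀ i t)‖
            ≤ (2 * C0) ^ d * (1 + ‖Function.update a₀ i t‖) ^ (N0 * d) := h1
          _ ≤ (2 * C0) ^ d * ((1 + ‖a₀‖) * (1 + ‖t‖)) ^ (N0 * d) := by
              apply mul_le_mul_of_nonneg_left _ (by positivity)
              exact pow_le_pow_left₀ (by positivity) h2 _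
          _ = _ := by rw [mul_pow (1 + ‖a₀‖) (1 + ‖t‖)]; ring)
    exact ⟨q, hq, fun t ht => hq' t ht⟩
  -- (P5) the coefficients are polynomials
  have hP5 : ∀ k, ∃ A : MvPolynomial (Fin n) ℂ, ∀ y, MvPolynomial.eval y D ≠ 0 →
      a k y = MvPolynomial.eval y A := by
    intro k
    apply exists_mvPolynomial_of_separately (N0 * d) n D hD (a k)
    · intro y hy
      exact (hP1 y hy k).continuousAt.continuousWithinAt
    · intro a₀ ha₀ i
      exact hP4 k a₀ ha₀ i
  choose A hA using hP5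
  -- (P6) assemble
  obtain ⟨H, hHdef⟩ : ∃ H : (MvPolynomial (Fin n) ℂ)[X],
      H = ∑ k ∈ Finset.range (d + 1), C (A k) * X ^ k := ⟨_, rfl⟩
  have hHmap : ∀ y, MvPolynomial.eval y D ≠ 0 →
      H.map (MvPolynomial.eval y) = ∏ α ∈ S y, (X - C α) := by
    intro y hy
    have hdeg : (∏ α ∈ S y, (X - C α)).natDegree < d + 1 := by
      rw [natDegree_finsetProd_X_sub_C_eq_card]
      exact Nat.lt_succ_of_le (hcard y hy)
    rw [hHdef, Polynomial.map_sum]
    conv_rhs => rw [as_sum_range' _ _ hdeg]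
    refine Finset.sum_congr rfl fun k _ => ?_
    rw [Polynomial.map_mul, Polynomial.map_pow, map_X, map_C, ← hA k y hy, ← C_mul_X_pow_eq_monomial]
  obtain ⟨y₁, hy₁⟩ : ∃ y₁ : Fin n → ℂ, MvPolynomial.eval y₁ D ≠ 0 := by
    by_contra hcon
    push Not at hcon
    apply hD
    apply MvPolynomial.funext
    intro x
    rw [hcon x, map_zero]
  have hmonicy : ∀ y, (∏ α ∈ S y, (X - C α) : ℂ[X]).Monic := fun y => monic_prod_X_sub_C _ _
  have hHne : H ≠ 0 := by
    intro h0
    have := hHmap y₁ hy₁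
    rw [h0, Polynomial.map_zero] at this
    exact (hmonicy y₁).ne_zero this.symm
  -- monicity
  have hcoeff : ∀ y, MvPolynomial.eval y D ≠ 0 → ∀ k,
      MvPolynomial.eval y (H.coeff k) = (∏ α ∈ S y, (X - C α)).coeff k := by
    intro y hy k
    rw [← hHmap y hy, coeff_map]
  have hle : ∀ y, MvPolynomial.eval y D ≠ 0 → (S y).card ≤ H.natDegree := by
    intro y hy
    by_contra hlt
    push Not at hlt
    have h1 := hcoeff y hy (S y).card
    rw [coeff_eq_zero_of_natDegree_lt hlt, map_zero] at h1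
    have h2 : (∏ α ∈ S y, (X - C α)).coeff (S y).card = 1 := by
      have := (hmonicy y).coeff_natDegree
      rwa [natDegree_finsetProd_X_sub_C_eq_card] at this
    rw [h2] at h1
    exact zero_ne_one h1
  have hlead : H.leadingCoeff * (H.leadingCoeff - 1) = 0 := by
    apply eq_zero_of_forall_eval_eq_zero D _ hD
    intro y hy
    rw [map_mul, map_sub, map_one]
    have h1 := hcoeff y hy H.natDegree
    rw [coeff_natDegree] at h1
    rcases (hle y hy).eq_or_lt with heq | hlt
    · have h2 : (∏ α ∈ S y, (X - C α)).coeff H.natDegree = 1 := by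
        have := (hmonicy y).coeff_natDegree
        rwa [natDegree_finsetProd_X_sub_C_eq_card, heq] at this
      rw [h1, h2, sub_self, mul_zero]
    · have h2 : (∏ α ∈ S y, (X - C α)).coeff H.natDegree = 0 := by
        apply coeff_eq_zero_of_natDegree_lt
        rwa [natDegree_finsetProd_X_sub_C_eq_card]
      rw [h1, h2, zero_mul]
  have hmonic : H.Monic := by
    rcases mul_eq_zero.mp hlead with h | h
    · exact absurd (leadingCoeff_eq_zero.mp h) hHne
    · exact sub_eq_zero.mp h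
  -- divisibility
  have hdvd : H ∣ G := by
    rw [← modByMonic_eq_zero_iff_dvd hmonic]
    refine Polynomial.ext fun k => ?_
    rw [coeff_zero]
    apply eq_zero_of_forall_eval_eq_zero D _ hD
    intro y hy
    rw [← coeff_map, map_modByMonic _ hmonic, hHmap y hy]
    have hne : G.map (MvPolynomial.eval y) ≠ 0 := (hG.map _).ne_zero
    have hdvd' : (∏ α ∈ S y, (X - C α)) ∣ G.map (MvPolynomial.eval y) := by
      have h1 : (S y).val ≤ (G.map (MvPolynomial.eval y)).roots := by
        rw [Multiset.le_iff_subset (S y).nodup]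
        intro α hα
        rw [mem_roots hne]
        exact hS y hy α hα
      have h2 := Multiset.prod_dvd_prod_of_le (Multiset.map_le_map (f := fun a => X - C a) h1)
      exact h2.trans (prod_multiset_X_sub_C_dvd _)
    rw [(modByMonic_eq_zero_iff_dvd (hmonicy y)).mpr hdvd', coeff_zero]
  exact ⟨H, hmonic, hdvd, hHmap⟩

end Groth.Agent.Lib.Helper21.AnConn
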