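import Groth.Agent.Lib.Helper21.AnDensityAlg
import Mathlib.Topology.Algebra.Ring.Basic
import Mathlib.Topology.MetricSpace.ProperSpace
import Mathlib.Order.Filter.Ultrafilter.Basic

/-!
# The density theorem for ℂ-points of an affine variety (algebraic core)

`core`: if `B` is a finitely generated ℂ-algebra which is a domain, `g ≠ 0` in `B` and `x` is a
ℂ-point of `B`, then there are ℂ-points `x'` with `g(x') ≠ 0` which are arbitrarily close to `x`
(with respect to any finite set of functions in `B`).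
-/

set_option autoImplicit false
open Polynomial Topology Filter

namespace Groth.Agent.Lib.Helper21.AnDensity

section pointSet

variable (B : Type*) [CommRing B] [Algebra ℂ B]

/-- the functions `B → ℂ` which are ℂ-algebra homomorphisms -/
def pointSet : Set (B → ℂ) :=
  {u | (∀ a b, u (a + b) = u a + u b) ∧ (∀ a b, u (a * b) = u a * u b) ∧
    ∀ c : ℂ, u (algebraMap ℂ B c) = c}

lemma isClosed_pointSet : IsClosed (pointSet B) := by
  have h1 : IsClosed {u : B → ℂ | ∀ a b, u (a + b) = u a + u b} := by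
    simp only [Set.ofPred_forall]
    exact isClosed_iInter fun a => isClosed_iInter fun b =>
      isClosed_eq (continuous_apply (a + b)) ((continuous_apply a).add (continuous_apply b))
  have h2 : IsClosed {u : B → ℂ | ∀ a b, u (a * b) = u a * u b} := by
    simp only [Set.ofPred_forall]
    exact isClosed_iInter fun a => isClosed_iInter fun b =>
      isClosed_eq (continuous_apply (a * b)) ((continuous_apply a).mul (continuous_apply b))
  have h3 : IsClosed {u : B → ℂ | ∀ c : ℂ, u (algebraMap ℂ B c) = c} := by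
    simp only [Set.ofPred_forall]
    exact isClosed_iInter fun c => isClosed_eq (continuous_apply _) continuous_const
  exact h1.inter (h2.inter h3)

variable {B}

/-- the algebra homomorphism attached to an element of `pointSet` -/
def toAlgHom (u : B → ℂ) (hu : u ∈ pointSet B) : B →ₐ[ℂ] ℂ where
  toFun := u
  map_one' := by have := hu.2.2 1; simpa using this
  map_mul' := hu.2.1
  map_zero' := by have := hu.2.2 0; simpa using this
  map_add' := hu.1
  commutes' := hu.2.2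

@[simp] lemma toAlgHom_apply (u : B → ℂ) (hu : u ∈ pointSet B) (b : B) : toAlgHom u hu b = u b := rfl

lemma coe_mem_pointSet (x : B →ₐ[ℂ] ℂ) : (⇑x : B → ℂ) ∈ pointSet B :=
  ⟨fun a b => map_add x a b, fun a b => map_mul x a b, fun c => x.commutes c⟩

lemma isCompact_bounded (M : B → ℝ) : IsCompact {u : B → ℂ | u ∈ pointSet B ∧ ∀ b, ‖u b‖ ≤ M b} := by
  have h : IsCompact (Set.pi Set.univ fun b : B => Metric.closedBall (0 : ℂ) (M b)) :=
    isCompact_univ_pi fun b => isCompact_closedBall 0 (M b)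
  have : {u : B → ℂ | u ∈ pointSet B ∧ ∀ b, ‖u b‖ ≤ M b} =
      pointSet B ∩ Set.pi Set.univ fun b : B => Metric.closedBall (0 : ℂ) (M b) := by
    ext u
    simp [Set.mem_pi]
  rw [this]
  exact h.inter_left (isClosed_pointSet B)

end pointSet

section core

variable {B : Type*} [CommRing B] [IsDomain B] [Algebra ℂ B] [Algebra.FiniteType ℂ B]

/-- **Density theorem, algebraic core.** On an affine complex variety, the points where a nonzero
function does not vanish are dense for the complex topology. -/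
theorem core (g : B) (hg : g ≠ 0) (x : B →ₐ[ℂ] ℂ) (S : Finset B) (ε : ℝ) (hε : 0 < ε) :
    ∃ x' : B →ₐ[ℂ] ℂ, x' g ≠ 0 ∧ ∀ f ∈ S, ‖x' f - x f‖ < ε := by
  classical
  obtain ⟨n, φ, hφi, hφf⟩ := exists_finite_inj_algHom_of_fg ℂ B
  have hφ : φ.IsIntegral := RingHom.Finite.to_isIntegral hφf
  obtain ⟨a, ha, bg, hbg⟩ := exists_nonzero_multiple φ hφi hφ g hg
  obtain ⟨f, hxf, hsep⟩ := exists_separating φ hφf x
  obtain ⟨F, hFm, hF0, hFd⟩ := exists_monic_generator φ hφi hφ f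
  obtain ⟨y₀, hy₀⟩ : ∃ y₀, y₀ = proj φ x := ⟨_, rfl⟩
  have hdeg : F.natDegree ≠ 0 := by
    intro hd
    rw [Polynomial.eq_one_of_monic_natDegree_zero hFm hd, Polynomial.eval₂_one] at hF0
    exact one_ne_zero hF0
  -- the constant coefficient of `F` vanishes at `y₀`
  have hxφ : ((x : B →+* ℂ).comp (φ : MvPolynomial (Fin n) ℂ →+* B)) = MvPolynomial.eval y₀ := by
    ext p
    · simp
    · simp [hy₀, proj]
  have hc0 : MvPolynomial.eval y₀ (F.coeff 0) = 0 := by
    have h1 := Polynomial.hom_eval₂ F (φ : MvPolynomial (Fin n) ℂ →+* B) (x : B →+* ℂ) f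
    rw [hF0, map_zero, hxφ] at h1
    have h2 : (x : B →+* ℂ) f = 0 := hxf
    rw [h2, Polynomial.eval₂_at_zero] at h1
    exact h1.symm
  -- uniform bounds
  choose M hM using fun b => exists_bound φ hφ b y₀ 1
  obtain ⟨K, hKdef⟩ : ∃ K : Set (B → ℂ), K = {u : B → ℂ | u ∈ pointSet B ∧ ∀ b, ‖u b‖ ≤ M b} :=
    ⟨_, rfl⟩
  have hK : IsCompact K := hKdef ▸ isCompact_bounded M
  by_contra hcon
  push Not at hcon
  obtain ⟨G, hGdef⟩ : ∃ G : Set (Fin n → ℂ), G = {y | MvPolynomial.eval y a ≠ 0} := ⟨_, rfl⟩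
  have hdense : Dense G := hGdef ▸ dense_eval_ne_zero a ha
  have hne : (𝓝[G] y₀).NeBot := mem_closure_iff_nhdsWithin_neBot.mp (hdense y₀)
  -- choose points over the good `y`
  have hpick : ∀ y : Fin n → ℂ, ∃ u : B → ℂ, y ∈ G → y ∈ Metric.closedBall y₀ 1 →
      u ∈ K ∧ (∀ i, u (φ (MvPolynomial.X i)) = y i) ∧
      ‖u f‖ ^ F.natDegree ≤ ‖MvPolynomial.eval y (F.coeff 0)‖ ∧ u g ≠ 0 := by
    intro y
    by_cases hy : y ∈ G ∧ y ∈ Metric.closedBall y₀ 1
    swap
    · exact ⟨fun _ => 0, fun h1 h2 => absurd ⟨h1, h2⟩ hy⟩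
    obtain ⟨hyG, hyB⟩ := hy
    have hmonic : (F.map (MvPolynomial.eval y)).Monic := hFm.map _
    have hnd : (F.map (MvPolynomial.eval y)).natDegree = F.natDegree := hFm.natDegree_map _
    obtain ⟨α, hα, hαle⟩ := exists_root_norm_pow_le (F.map (MvPolynomial.eval y)) hmonic
      (by rw [hnd]; exact hdeg)
    obtain ⟨x', hx'y, hx'f⟩ := exists_point_of_root φ hφ f F hFd y α hα
    refine ⟨⇑x', fun _ _ => ⟨?_, ?_, ?_, ?_⟩⟩
    · rw [hKdef]
      refine ⟨coe_mem_pointSet x', fun b => hM b x' ?_⟩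
      rw [hx'y]
      exact hyB
    · intro i
      exact congrFun hx'y i
    · rw [hx'f]
      rw [hnd, Polynomial.coeff_map] at hαle
      exact hαle
    · intro h0
      have h1 : x' (φ a) = 0 := by rw [hbg, map_mul, h0, zero_mul]
      rw [apply_φ, hx'y] at h1
      rw [hGdef] at hyG
      exact hyG h1
  choose u hu using hpick
  let 𝒰 : Ultrafilter (Fin n → ℂ) := Ultrafilter.of (𝓝[G] y₀)
  have h𝒰 : (𝒰 : Filter (Fin n → ℂ)) ≤ 𝓝[G] y₀ := Ultrafilter.of_le _
  have hev : ∀ᶠ y in (𝒰 : Filter (Fin n → ℂ)), y ∈ G ∧ y ∈ Metric.closedBall y₀ 1 :=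
    h𝒰 (Filter.inter_mem self_mem_nhdsWithin
      (mem_nhdsWithin_of_mem_nhds (Metric.closedBall_mem_nhds _ one_pos)))
  have hKev : ∀ᶠ y in (𝒰 : Filter (Fin n → ℂ)), u y ∈ K :=
    hev.mono fun y hy => (hu y hy.1 hy.2).1
  obtain ⟨u₀, hu₀K, hu₀⟩ := hK.ultrafilter_le_nhds (𝒰.map u) (by
    rw [Filter.le_principal_iff]
    exact hKev)
  have htend : Tendsto u (𝒰 : Filter (Fin n → ℂ)) (𝓝 u₀) := hu₀
  have htb : ∀ b, Tendsto (fun y => u y b) (𝒰 : Filter (Fin n → ℂ)) (𝓝 (u₀ b)) :=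
    fun b => ((continuous_apply b).tendsto u₀).comp htend
  have hu₀pt : u₀ ∈ pointSet B := by rw [hKdef] at hu₀K; exact hu₀K.1
  obtain ⟨x₀, hx₀⟩ : ∃ x₀ : B →ₐ[ℂ] ℂ, ∀ b, x₀ b = u₀ b := ⟨toAlgHom u₀ hu₀pt, fun _ => rfl⟩
  have hy : Tendsto id (𝒰 : Filter (Fin n → ℂ)) (𝓝 y₀) := h𝒰.trans nhdsWithin_le_nhds
  have hproj : proj φ x₀ = proj φ x := by
    rw [← hy₀]
    funext i
    have h1 := htb (φ (MvPolynomial.X i))
    have h2 : Tendsto (fun y : Fin n → ℂ => y i) (𝒰 : Filter (Fin n → ℂ)) (𝓝 (y₀ i)) :=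
      ((continuous_apply i).tendsto y₀).comp hy
    have h3 : (fun y => u y (φ (MvPolynomial.X i))) =ᶠ[(𝒰 : Filter (Fin n → ℂ))] fun y => y i :=
      hev.mono fun y hy => (hu y hy.1 hy.2).2.1 i
    have := tendsto_nhds_unique (h1.congr' h3) h2
    rw [proj, hx₀]
    exact this
  have hf0 : x₀ f = 0 := by
    have h1 : Tendsto (fun y => ‖u y f‖ ^ F.natDegree) (𝒰 : Filter (Fin n → ℂ))
        (𝓝 (‖u₀ f‖ ^ F.natDegree)) := (htb f).norm.pow _
    have h2 : Tendsto (fun y => ‖MvPolynomial.eval y (F.coeff 0)‖) (𝒰 : Filter (Fin n → ℂ))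
        (𝓝 0) := by
      have := ((MvPolynomial.continuous_eval (F.coeff 0)).norm.tendsto y₀).comp hy
      simp only [hc0, norm_zero] at this
      exact this
    have h3 : ‖u₀ f‖ ^ F.natDegree ≤ 0 :=
      le_of_tendsto_of_tendsto h1 h2 (hev.mono fun y hy => (hu y hy.1 hy.2).2.2.1)
    have h4 : ‖u₀ f‖ ^ F.natDegree = 0 := le_antisymm h3 (pow_nonneg (norm_nonneg _) _)
    rw [hx₀]
    exact norm_eq_zero.mp (pow_eq_zero_iff hdeg |>.mp h4)
  have hxx : x₀ = x := hsep x₀ hproj hf0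
  have hclose : ∀ᶠ y in (𝒰 : Filter (Fin n → ℂ)), ∀ f' ∈ S, ‖u y f' - x f'‖ < ε := by
    rw [Filter.eventually_all_finset]
    intro f' _
    have h1 := htb f'
    have : u₀ f' = x f' := by rw [← hx₀, hxx]
    rw [this] at h1
    exact (Metric.tendsto_nhds.mp h1 ε hε).mono fun y hy => by
      rw [dist_eq_norm] at hy
      exact hy
  have hfar : ∀ᶠ y in (𝒰 : Filter (Fin n → ℂ)), ∃ f' ∈ S, ε ≤ ‖u y f' - x f'‖ :=
    hev.mono fun y hy => by
      obtain ⟨hK', _, _, hg'⟩ := hu y hy.1 hy.2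
      rw [hKdef] at hK'
      exact hcon (toAlgHom (u y) hK'.1) hg'
  obtain ⟨y, h1, h2⟩ := (hclose.and hfar).exists
  obtain ⟨f', hf', hge⟩ := h2
  exact absurd (h1 f' hf') (not_lt.mpr hge)

end core

end Groth.Agent.Lib.Helper21.AnDensity
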