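import Groth.Agent.Lib.Helper21.AnPtsLft
import Groth.Agent.Lib.Helper21.AnDensityCore
import Mathlib.Topology.Constructible
import Mathlib.AlgebraicGeometry.Morphisms.QuasiSeparated
import Mathlib.AlgebraicGeometry.Properties

/-!
# Density theorem for ℂ-points: closure in the Zariski topology vs. closure in the complex topology

Main result `preimage_closure`: for `X` locally of finite type over `ℂ` and `T ⊆ X` locally
constructible, `pt ⁻¹' closure T = closure (pt ⁻¹' T)` in `An.Pts X`.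
-/

set_option autoImplicit false
open CategoryTheory AlgebraicGeometry Topology TopologicalSpace Filter
open An

namespace Groth.Agent.Lib.Helper21.AnPts

open Groth.Agent.Lib.Helper21.AnDensity

/-- open-set version of the algebraic core of the density theorem -/
theorem core_open {B : Type*} [CommRing B] [IsDomain B] [Algebra ℂ B] [Algebra.FiniteType ℂ B]
    (g : B) (hg : g ≠ 0) (x : B →ₐ[ℂ] ℂ) (V : Set (B → ℂ)) (hV : IsOpen V) (hx : ⇑x ∈ V) :
    ∃ x' : B →ₐ[ℂ] ℂ, x' g ≠ 0 ∧ ⇑x' ∈ V := by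
  classical
  obtain ⟨I, u, hu, hsub⟩ := isOpen_pi_iff.mp hV ⇑x hx
  have hev : ∀ᶠ ε in 𝓝[>] (0 : ℝ), ∀ a ∈ I, Metric.ball (x a) ε ⊆ u a := by
    rw [Filter.eventually_all_finset]
    intro a ha
    obtain ⟨ε₀, hε₀, hball⟩ := Metric.isOpen_iff.mp (hu a ha).1 (x a) (hu a ha).2
    have : ∀ᶠ ε in 𝓝[>] (0 : ℝ), ε < ε₀ :=
      (eventually_lt_nhds hε₀).filter_mono nhdsWithin_le_nhds
    exact this.mono fun ε hε => (Metric.ball_subset_ball hε.le).trans hball
  have hpos : ∀ᶠ ε in 𝓝[>] (0 : ℝ), 0 < ε := eventually_mem_nhdsWithin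
  obtain ⟨ε, hε, hεpos⟩ := (hev.and hpos).exists
  obtain ⟨x', hx'g, hx'⟩ := core g hg x I ε hεpos
  refine ⟨x', hx'g, hsub ?_⟩
  intro a ha
  apply hε a ha
  rw [Metric.mem_ball, dist_eq_norm]
  exact hx' a ha

variable {X : Scheme.{0}} [X.Over SC]

omit [X.Over SC] in
lemma mem_basicOpen_iff_notMem (z : X) (a : Γ(X, ⊤)) :
    z ∈ X.basicOpen a ↔ a ∉ (X.toSpecΓ z).asIdeal := by
  rw [← Scheme.toSpecΓ_preimage_basicOpen]
  rfl

/-- base case of the density theorem on an affine scheme: locally closed sets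
`D(f) \ ⋃ j ∈ s, D(j)` -/
theorem mem_closure_basic [IsAffine X] [LocallyOfFiniteType (X ↘ SC)] (f : Γ(X, ⊤))
    (s : Set Γ(X, ⊤)) (x : Pts X)
    (hx : x.pt ∈ closure (((X.basicOpen f : X.Opens) : Set X) \
      ⋃ j ∈ s, ((X.basicOpen j : X.Opens) : Set X))) :
    x ∈ closure (Pts.pt ⁻¹' (((X.basicOpen f : X.Opens) : Set X) \
      ⋃ j ∈ s, ((X.basicOpen j : X.Opens) : Set X))) := by
  classical
  let _ : Algebra ℂ Γ(X, ⊤) := (strHom X).toAlgebra
  have hft : Algebra.FiniteType ℂ Γ(X, ⊤) := finiteType_strHom (X := X)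
  -- the point `x` as an algebra homomorphism
  let xA : Γ(X, ⊤) →ₐ[ℂ] ℂ :=
    { (evHom x ⊤ (Opens.mem_top _)) with commutes' := fun c => evTop_strHom x c }
  have hxA : ∀ a, xA a = x.evTop a := fun _ => rfl
  obtain ⟨I, hI⟩ : ∃ I : Ideal Γ(X, ⊤), I = Ideal.span s := ⟨_, rfl⟩
  obtain ⟨Sg, hSg⟩ : ∃ Sg : Submonoid Γ(X, ⊤),
      Sg = (RingHom.ker xA).primeCompl ⊔ Submonoid.powers f := ⟨_, rfl⟩
  have hdisj : Disjoint (I : Set Γ(X, ⊤)) (Sg : Set Γ(X, ⊤)) := by
    rw [Set.disjoint_left]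
    intro a haI haSg
    rw [hSg] at haSg
    obtain ⟨u, hu, w, hw, rfl⟩ := Submonoid.mem_sup.mp haSg
    obtain ⟨k, rfl⟩ := hw
    have hxu : x.pt ∈ X.basicOpen u := by
      rw [pt_mem_basicOpen_iff x ⊤ (Opens.mem_top _)]
      exact hu
    obtain ⟨z, hzu, hzT⟩ := mem_closure_iff.mp hx _ (X.basicOpen u).2 hxu
    have hzf : f ∉ (X.toSpecΓ z).asIdeal := (mem_basicOpen_iff_notMem z f).mp hzT.1
    have hzu' : u ∉ (X.toSpecΓ z).asIdeal := (mem_basicOpen_iff_notMem z u).mp hzu
    have hzs : I ≤ (X.toSpecΓ z).asIdeal := by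
      rw [hI, Ideal.span_le]
      intro j hj
      by_contra hcon
      apply hzT.2
      simp only [Set.mem_iUnion]
      exact ⟨j, hj, (mem_basicOpen_iff_notMem z j).mpr hcon⟩
    have := hzs haI
    rcases (X.toSpecΓ z).isPrime.mem_or_mem this with h | h
    · exact hzu' h
    · exact hzf ((X.toSpecΓ z).isPrime.mem_of_pow_mem k h)
  obtain ⟨p, hp, hIp, hpSg⟩ := Ideal.exists_le_prime_disjoint I Sg hdisj
  have hfp : f ∉ p := fun h =>
    Set.disjoint_left.mp hpSg h (hSg ▸ Submonoid.mem_sup_right (Submonoid.mem_powers f))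
  have hpm : p ≤ RingHom.ker xA := by
    intro a ha
    by_contra hcon
    exact Set.disjoint_left.mp hpSg ha (hSg ▸ Submonoid.mem_sup_left hcon)
  -- the quotient domain
  have hftB : Algebra.FiniteType ℂ (Γ(X, ⊤) ⧸ p) :=
    Algebra.FiniteType.of_surjective (Ideal.Quotient.mkₐ ℂ p) (Ideal.Quotient.mkₐ_surjective ℂ p)
  have hdom : IsDomain (Γ(X, ⊤) ⧸ p) := Ideal.Quotient.isDomain p
  let xB : (Γ(X, ⊤) ⧸ p) →ₐ[ℂ] ℂ := Ideal.Quotient.liftₐ p xA (fun a ha => hpm ha)
  have hxB : ∀ a, xB (Ideal.Quotient.mk p a) = xA a := fun a => rfl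
  rw [mem_closure_iff]
  intro N hN hxN
  obtain ⟨V, hV, rfl⟩ := isInducing_evTopMap.isOpen_iff.mp hN
  -- pull `V` back to functions on the quotient
  let r : ((Γ(X, ⊤) ⧸ p) → ℂ) → (Γ(X, ⊤) → ℂ) := fun w a => w (Ideal.Quotient.mk p a)
  have hr : Continuous r := continuous_pi fun a => continuous_apply _
  have hxV : ⇑xB ∈ r ⁻¹' V := by
    have : r ⇑xB = evTopMap X x := by
      funext a
      rfl
    rw [Set.mem_preimage, this]
    exact hxN
  have hfB : Ideal.Quotient.mk p f ≠ 0 := by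
    rw [Ne, Ideal.Quotient.eq_zero_iff_mem]
    exact hfp
  obtain ⟨x', hx'f, hx'V⟩ := core_open (Ideal.Quotient.mk p f) hfB xB (r ⁻¹' V)
    (hV.preimage hr) hxV
  let ψ : Γ(X, ⊤) →ₐ[ℂ] ℂ := x'.comp (Ideal.Quotient.mkₐ ℂ p)
  let x'' : Pts X := ofHom (ψ : Γ(X, ⊤) →+* ℂ) (fun c => ψ.commutes c)
  have hx'' : ∀ a, x''.evTop a = x' (Ideal.Quotient.mk p a) := fun a => evTop_ofHom _ _ a
  refine ⟨x'', ?_, ?_, ?_⟩
  · have : evTopMap X x'' = r ⇑x' := by
      funext a
      exact hx'' a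
    rw [Set.mem_preimage, this]
    exact hx'V
  · change x''.pt ∈ X.basicOpen f
    rw [pt_mem_basicOpen_iff x'' ⊤ (Opens.mem_top _)]
    rw [show x''.ev ⊤ (Opens.mem_top _) f = x''.evTop f from rfl, hx'']
    exact hx'f
  · simp only [Set.mem_iUnion, not_exists]
    intro j hj hmem
    have hmem' : x''.pt ∈ X.basicOpen j := hmem
    rw [pt_mem_basicOpen_iff x'' ⊤ (Opens.mem_top _)] at hmem'
    apply hmem'
    rw [show x''.ev ⊤ (Opens.mem_top _) j = x''.evTop j from rfl, hx'']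
    have : Ideal.Quotient.mk p j = 0 := by
      rw [Ideal.Quotient.eq_zero_iff_mem]
      exact hIp (hI ▸ Ideal.subset_span hj)
    rw [this, map_zero]

/-- the density theorem on an affine scheme of finite type over ℂ -/
theorem mem_closure_of_isAffine [IsAffine X] [LocallyOfFiniteType (X ↘ SC)] (T : Set X)
    (hT : IsConstructible T) (x : Pts X) (hx : x.pt ∈ closure T) :
    x ∈ closure (Pts.pt ⁻¹' T) := by
  have hbasis : IsTopologicalBasis
      (Set.range fun f : Γ(X, ⊤) => ((X.basicOpen f : X.Opens) : Set X)) := by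
    have := isBasis_basicOpen X
    rw [Opens.isBasis_iff_nbhd] at this
    apply isTopologicalBasis_of_isOpen_of_nhds
    · rintro _ ⟨f, rfl⟩
      exact (X.basicOpen f).2
    · intro a u hau hu
      obtain ⟨U', ⟨f, rfl⟩, haf, hfu⟩ := this (U := ⟨u, hu⟩) hau
      exact ⟨_, ⟨f, rfl⟩, haf, hfu⟩
  have hcompact : ∀ f : Γ(X, ⊤), IsCompact (((X.basicOpen f : X.Opens) : Set X)) :=
    fun f => ((isAffineOpen_top X).basicOpen f).isCompact
  revert x
  refine IsConstructible.induction_of_isTopologicalBasis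
    (P := fun T _ => ∀ x : Pts X, x.pt ∈ closure T → x ∈ closure (Pts.pt ⁻¹' T))
    (fun f : Γ(X, ⊤) => ((X.basicOpen f : X.Opens) : Set X)) hbasis hcompact ?_ ?_ T hT
  · intro f s _ x hx
    exact mem_closure_basic f s x hx
  · intro s _ t _ hs ht x hx
    rw [closure_union] at hx
    rw [Set.preimage_union, closure_union]
    rcases hx with h | h
    · exact Or.inl (hs x h)
    · exact Or.inr (ht x h)

/-- **Density theorem.** For `X` locally of finite type over `ℂ` and `T ⊆ X` locally constructible,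
the ℂ-points in the Zariski closure of `T` are the closure, for the complex topology, of the
ℂ-points in `T`. -/
theorem preimage_closure [LocallyOfFiniteType (X ↘ SC)] (T : Set X)
    (hT : IsLocallyConstructible T) :
    (Pts.pt ⁻¹' closure T : Set (Pts X)) = closure (Pts.pt ⁻¹' T) := by
  apply Set.Subset.antisymm
  · intro x hx
    obtain ⟨U, hU, hxU⟩ := exists_affine_nhd x.pt
    have : IsAffine (U : Scheme.{0}) := hU
    obtain ⟨x', rfl⟩ := exists_map_ι_eq U x hxU
    have hT' : IsConstructible (U.ι ⁻¹' T) :=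
      (hT.preimage_of_isOpenEmbedding U.ι.isOpenEmbedding).isConstructible
    have hx' : x'.pt ∈ closure (U.ι ⁻¹' T) := by
      rw [← U.ι.isOpenEmbedding.isOpenMap.preimage_closure_eq_closure_preimage U.ι.continuous]
      rw [Set.mem_preimage, Pts.pt_map] at hx
      exact hx
    have h1 := mem_closure_of_isAffine (X := (U : Scheme.{0})) _ hT' x' hx'
    have h2 := image_closure_subset_closure_image (Pts.continuous_map U.ι) ⟨x', h1, rfl⟩
    refine closure_mono ?_ h2
    rintro _ ⟨w, hw, rfl⟩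
    rw [Set.mem_preimage, Pts.pt_map]
    exact hw
  · exact closure_minimal (Set.preimage_mono subset_closure)
      (isClosed_closure.preimage Pts.continuous_pt)

end Groth.Agent.Lib.Helper21.AnPts
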