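import Groth.Agent.Lib.Helper21.AnConnTop
import Groth.Agent.Lib.Helper21.AnDensity

/-!
# Connectedness of the ℂ-points of an affine complex variety (ring level)

`ring_connected`: for a finitely generated ℂ-algebra `B` which is a domain, the set of ℂ-points
`B →ₐ[ℂ] ℂ`, viewed inside `B → ℂ` with the product topology, cannot be split by two disjoint
open sets both meeting it.
-/

set_option autoImplicit false
open Topology Filter Polynomial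

namespace Groth.Agent.Lib.Helper21.AnConn

open Groth.Agent.Lib.Helper21.AnDensity

variable {B : Type*} [CommRing B] [IsDomain B] [Algebra ℂ B] [Algebra.FiniteType ℂ B]

theorem ring_connected (W₁ W₂ : Set (B → ℂ)) (h₁ : IsOpen W₁) (h₂ : IsOpen W₂)
    (hcover : ∀ x : B →ₐ[ℂ] ℂ, ⇑x ∈ W₁ ∨ ⇑x ∈ W₂)
    (hdisj : ∀ x : B →ₐ[ℂ] ℂ, ⇑x ∈ W₁ → ⇑x ∈ W₂ → False)
    (hne₁ : ∃ x : B →ₐ[ℂ] ℂ, ⇑x ∈ W₁) (hne₂ : ∃ x : B →ₐ[ℂ] ℂ, ⇑x ∈ W₂) : False := by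
  classical
  obtain ⟨n, φ, hφi, hφf⟩ := exists_finite_inj_algHom_of_fg ℂ B
  have hφ : φ.IsIntegral := RingHom.Finite.to_isIntegral hφf
  obtain ⟨g, G, D, hGm, hG0, hGd, hD, hsep, hinj⟩ := exists_generic_structure φ hφi hφf
  set fib : (Fin n → ℂ) → Finset (B →ₐ[ℂ] ℂ) := fun y => (finite_fibre φ hφf y).toFinset with hfib
  have hfibmem : ∀ y x, x ∈ fib y ↔ proj φ x = y := by
    intro y x
    rw [hfib]
    simp only [Set.Finite.mem_toFinset, Set.mem_ofPred_eq]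
  set S : (Fin n → ℂ) → Finset ℂ := fun y =>
    ((fib y).filter fun x : B →ₐ[ℂ] ℂ => ⇑x ∈ W₁).image (fun x : B →ₐ[ℂ] ℂ => x g) with hSdef
  have hSmem : ∀ y α, α ∈ S y ↔ ∃ x : B →ₐ[ℂ] ℂ, proj φ x = y ∧ ⇑x ∈ W₁ ∧ x g = α := by
    intro y α
    rw [hSdef]
    simp only [Finset.mem_image, Finset.mem_filter, hfibmem]
    constructor
    · rintro ⟨x, ⟨h1, h2⟩, h3⟩
      exact ⟨x, h1, h2, h3⟩
    · rintro ⟨x, h1, h2, h3⟩
      exact ⟨x, ⟨h1, h2⟩, h3⟩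
  have hroot : ∀ x : B →ₐ[ℂ] ℂ, (G.map (MvPolynomial.eval (proj φ x))).IsRoot (x g) :=
    fun x => isRoot_of_eval₂_eq_zero φ g G hG0 x
  have hS : ∀ y, MvPolynomial.eval y D ≠ 0 → ∀ α ∈ S y,
      (G.map (MvPolynomial.eval y)).IsRoot α := by
    intro y _ α hα
    obtain ⟨x, hxy, -, rfl⟩ := (hSmem y α).mp hα
    have := hroot x
    rwa [hxy] at this
  have hVopen : IsOpen {y : Fin n → ℂ | MvPolynomial.eval y D ≠ 0} :=
    isOpen_ne_fun (MvPolynomial.continuous_eval D) continuous_const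
  -- points in `W₂` give roots outside `S`
  have hnotS : ∀ y, MvPolynomial.eval y D ≠ 0 → ∀ x : B →ₐ[ℂ] ℂ, proj φ x = y → ⇑x ∈ W₂ →
      x g ∉ S y := by
    intro y hy x hxy hxW hmem
    obtain ⟨x', hx'y, hx'W, hx'g⟩ := (hSmem y _).mp hmem
    have : x' = x := hinj y hy hx'y hxy hx'g
    rw [this] at hx'W
    exact hdisj x hx'W hxW
  have hlsc1 : ∀ y₀, MvPolynomial.eval y₀ D ≠ 0 → ∀ α ∈ S y₀, ∀ ε > 0,
      ∀ᶠ y in 𝓝 y₀, ∃ α' ∈ S y, dist α' α < ε := by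
    intro y₀ hy₀ α hα ε hε
    obtain ⟨x₀, hx₀y, hx₀W, rfl⟩ := (hSmem y₀ α).mp hα
    have := eventually_exists_lift φ hφ hφf g G hGd hG0 y₀ (hsep y₀ hy₀) (hinj y₀ hy₀) x₀ hx₀y
      W₁ h₁ hx₀W ε hε
    filter_upwards [this] with y ⟨x, hxy, hxW, hd⟩
    exact ⟨x g, (hSmem y _).mpr ⟨x, hxy, hxW, rfl⟩, hd⟩
  have hlsc2 : ∀ y₀, MvPolynomial.eval y₀ D ≠ 0 → ∀ α,
      (G.map (MvPolynomial.eval y₀)).IsRoot α → α ∉ S y₀ → ∀ ε > 0,
      ∀ᶠ y in 𝓝 y₀, ∃ α', (G.map (MvPolynomial.eval y)).IsRoot α' ∧ α' ∉ S y ∧ dist α' α < ε := by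
    intro y₀ hy₀ α hα hαS ε hε
    obtain ⟨x₀, hx₀y, rfl⟩ := exists_point_of_root φ hφ g G hGd y₀ α hα
    have hx₀W : ⇑x₀ ∈ W₂ := by
      rcases hcover x₀ with h | h
      · exact absurd ((hSmem y₀ _).mpr ⟨x₀, hx₀y, h, rfl⟩) hαS
      · exact h
    have := eventually_exists_lift φ hφ hφf g G hGd hG0 y₀ (hsep y₀ hy₀) (hinj y₀ hy₀) x₀ hx₀y
      W₂ h₂ hx₀W ε hε
    filter_upwards [this, hVopen.mem_nhds hy₀] with y ⟨x, hxy, hxW, hd⟩ hyV
    refine ⟨x g, ?_, hnotS y hyV x hxy hxW, hd⟩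
    have := hroot x
    rwa [hxy] at this
  obtain ⟨H, hHm, hHdvd, hHmap⟩ := monodromy G hGm D hD hsep S hS hlsc1 hlsc2
  -- density of the good locus
  have hφD : φ D ≠ 0 := by
    intro h0
    exact hD (hφi (h0.trans (map_zero φ).symm))
  have hgood : ∀ (W : Set (B → ℂ)), IsOpen W → (∃ x : B →ₐ[ℂ] ℂ, ⇑x ∈ W) →
      ∃ x : B →ₐ[ℂ] ℂ, MvPolynomial.eval (proj φ x) D ≠ 0 ∧ ⇑x ∈ W := by
    intro W hW ⟨x, hx⟩
    obtain ⟨x', hx'D, hx'W⟩ := Groth.Agent.Lib.Helper21.AnPts.core_open (φ D) hφD x W hW hx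
    refine ⟨x', ?_, hx'W⟩
    rwa [← apply_φ]
  obtain ⟨Q, hQ⟩ := hHdvd
  have hprod : Polynomial.eval₂ (φ : MvPolynomial (Fin n) ℂ →+* B) g H *
      Polynomial.eval₂ (φ : MvPolynomial (Fin n) ℂ →+* B) g Q = 0 := by
    rw [← Polynomial.eval₂_mul, ← hQ, hG0]
  rcases mul_eq_zero.mp hprod with hH0 | hQ0
  · -- `G ∣ H`, so `H = G` and `S y` is everything
    have hGH : G ∣ H := hGd H hH0
    have hdeg : G.natDegree ≤ H.natDegree := natDegree_le_of_dvd hGH hHm.ne_zero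
    obtain ⟨x, hxD, hxW⟩ := hgood W₂ h₂ hne₂
    have h1 := hHmap _ hxD
    have h2 : (G.map (MvPolynomial.eval (proj φ x))).IsRoot (x g) := hroot x
    have h3 : (H.map (MvPolynomial.eval (proj φ x))).IsRoot (x g) := by
      obtain ⟨Q', hQ'⟩ := hGH
      rw [hQ', Polynomial.map_mul]
      exact root_mul_right_of_isRoot _ h2
    rw [h1] at h3
    have h4 : x g ∈ (∏ α ∈ S (proj φ x), (X - C α) : ℂ[X]).roots := by
      rw [mem_roots (monic_prod_X_sub_C _ _).ne_zero]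
      exact h3
    rw [roots_prod_X_sub_C] at h4
    exact hnotS _ hxD x rfl hxW (Finset.mem_val.mp h4)
  · -- `G ∣ Q`, so `H = 1` and `S y` is empty
    have hGQ : G ∣ Q := hGd Q hQ0
    have hQne : Q ≠ 0 := by
      rintro rfl
      rw [mul_zero] at hQ
      exact hGm.ne_zero hQ
    have hHdeg : H.natDegree = 0 := by
      have h1 : G.natDegree = H.natDegree + Q.natDegree := by
        rw [hQ, natDegree_mul hHm.ne_zero hQne]
      have h2 : G.natDegree ≤ Q.natDegree := natDegree_le_of_dvd hGQ hQne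
      omega
    have hH1 : H = 1 := eq_one_of_monic_natDegree_zero hHm hHdeg
    obtain ⟨x, hxD, hxW⟩ := hgood W₁ h₁ hne₁
    have h1 := hHmap _ hxD
    rw [hH1, Polynomial.map_one] at h1
    have h2 : x g ∈ S (proj φ x) := (hSmem _ _).mpr ⟨x, rfl, hxW, rfl⟩
    have h3 : (∏ α ∈ S (proj φ x), (X - C α) : ℂ[X]).IsRoot (x g) := by
      rw [Polynomial.IsRoot.def, eval_prod]
      exact Finset.prod_eq_zero h2 (by simp)
    rw [← h1] at h3
    simp at h3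

end Groth.Agent.Lib.Helper21.AnConn
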