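import Groth.Agent.Lib.Helper21.AnConnAlg2
import Groth.Agent.Lib.Helper21.AnConnMono
import Groth.Agent.Lib.Helper21.AnDensityCore

/-!
# Properness and lifting of nearby points for a finite map to `ℂⁿ`
-/

set_option autoImplicit false
open Topology Filter Polynomial

namespace Groth.Agent.Lib.Helper21.AnConn

open Groth.Agent.Lib.Helper21.AnDensity

variable {n : ℕ} {B : Type*} [CommRing B] [Algebra ℂ B]
  (φ : MvPolynomial (Fin n) ℂ →ₐ[ℂ] B)

/-- **Properness.** An open set of functions containing the fibre over `y₀` contains the fibres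
over all nearby points. -/
theorem eventually_fibre_subset (hφ : φ.IsIntegral) (y₀ : Fin n → ℂ) (𝒲 : Set (B → ℂ))
    (h𝒲 : IsOpen 𝒲) (hfib : ∀ x : B →ₐ[ℂ] ℂ, proj φ x = y₀ → ⇑x ∈ 𝒲) :
    ∀ᶠ y in 𝓝 y₀, ∀ x : B →ₐ[ℂ] ℂ, proj φ x = y → ⇑x ∈ 𝒲 := by
  choose M hM using fun b => exists_bound φ hφ b y₀ 1
  have hK : IsCompact {u : B → ℂ | u ∈ pointSet B ∧ ∀ b, ‖u b‖ ≤ M b} := isCompact_bounded M
  have hK' : IsCompact ({u : B → ℂ | u ∈ pointSet B ∧ ∀ b, ‖u b‖ ≤ M b} \ 𝒲) := hK.diff h𝒲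
  let projU : (B → ℂ) → (Fin n → ℂ) := fun u i => u (φ (MvPolynomial.X i))
  have hprojU : Continuous projU := continuous_pi fun i => continuous_apply _
  have hcl : IsClosed (projU '' ({u : B → ℂ | u ∈ pointSet B ∧ ∀ b, ‖u b‖ ≤ M b} \ 𝒲)) :=
    (hK'.image hprojU).isClosed
  have hy₀ : y₀ ∉ projU '' ({u : B → ℂ | u ∈ pointSet B ∧ ∀ b, ‖u b‖ ≤ M b} \ 𝒲) := by
    rintro ⟨u, ⟨⟨hu, -⟩, hu𝒲⟩, huy⟩
    apply hu𝒲
    have := hfib (toAlgHom u hu) (by
      funext i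
      exact congrFun huy i)
    exact this
  have h1 : ∀ᶠ y in 𝓝 y₀, y ∉ projU '' ({u : B → ℂ | u ∈ pointSet B ∧ ∀ b, ‖u b‖ ≤ M b} \ 𝒲) :=
    hcl.isOpen_compl.mem_nhds hy₀
  have h2 : ∀ᶠ y in 𝓝 y₀, y ∈ Metric.closedBall y₀ 1 := Metric.closedBall_mem_nhds y₀ one_pos
  filter_upwards [h1, h2] with y hy1 hy2 x hx
  by_contra hcon
  apply hy1
  refine ⟨⇑x, ⟨⟨coe_mem_pointSet x, fun b => hM b x ?_⟩, hcon⟩, ?_⟩
  · rw [hx]
    exact hy2
  · funext i
    exact congrFun hx i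

variable [IsDomain B] [Algebra.FiniteType ℂ B]

omit [IsDomain B] in
/-- **Lifting nearby points.** Over the good locus, a point `x₀` over `y₀` can be followed to the
fibres over nearby `y`, inside any neighbourhood of `x₀`. -/
theorem eventually_exists_lift (hφ : φ.IsIntegral) (hφf : φ.Finite) (g : B)
    (G : (MvPolynomial (Fin n) ℂ)[X])
    (hGd : ∀ q : (MvPolynomial (Fin n) ℂ)[X],
      Polynomial.eval₂ (φ : MvPolynomial (Fin n) ℂ →+* B) g q = 0 → G ∣ q)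
    (hG0 : Polynomial.eval₂ (φ : MvPolynomial (Fin n) ℂ →+* B) g G = 0)
    (y₀ : Fin n → ℂ) (hsep : (G.map (MvPolynomial.eval y₀)).Separable)
    (hinj : Set.InjOn (fun x : B →ₐ[ℂ] ℂ => x g) {x | proj φ x = y₀})
    (x₀ : B →ₐ[ℂ] ℂ) (hx₀ : proj φ x₀ = y₀) (W : Set (B → ℂ)) (hW : IsOpen W) (hx₀W : ⇑x₀ ∈ W)
    (ε : ℝ) (hε : 0 < ε) :
    ∀ᶠ y in 𝓝 y₀, ∃ x : B →ₐ[ℂ] ℂ, proj φ x = y ∧ ⇑x ∈ W ∧ dist (x g) (x₀ g) < ε := by
  classical
  set fib := (finite_fibre φ hφf y₀).toFinset with hfibdef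
  have hfibmem : ∀ x, x ∈ fib ↔ proj φ x = y₀ := by
    intro x
    rw [hfibdef]
    simp only [Set.Finite.mem_toFinset, Set.mem_ofPred_eq]
  -- choose ε'
  have hev1 : ∀ᶠ ε' in 𝓝[>] (0 : ℝ), ∀ x ∈ fib, x ≠ x₀ → ε' < dist (x g) (x₀ g) := by
    rw [Filter.eventually_all_finset]
    intro x hx
    by_cases hxx : x = x₀
    · exact Filter.Eventually.of_forall fun _ h => absurd hxx h
    · have hpos : 0 < dist (x g) (x₀ g) := by
        apply dist_pos.mpr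
        intro heq
        exact hxx (hinj ((hfibmem x).mp hx) hx₀ heq)
      exact ((eventually_lt_nhds hpos).filter_mono nhdsWithin_le_nhds).mono fun _ h _ => h
  have hev2 : ∀ᶠ ε' in 𝓝[>] (0 : ℝ), ε' < ε :=
    (eventually_lt_nhds hε).filter_mono nhdsWithin_le_nhds
  have hev3 : ∀ᶠ ε' in 𝓝[>] (0 : ℝ), 0 < ε' := eventually_mem_nhdsWithin
  obtain ⟨ε', ⟨hε'1, hε'2⟩, hε'pos⟩ := ((hev1.and hev2).and hev3).exists
  -- the open set
  have hcontg : Continuous fun u : B → ℂ => dist (u g) (x₀ g) :=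
    (continuous_apply g).dist continuous_const
  have h𝒲open : IsOpen ((W ∩ {u : B → ℂ | dist (u g) (x₀ g) < ε'}) ∪
      {u : B → ℂ | ε' < dist (u g) (x₀ g)}) :=
    (hW.inter (isOpen_lt hcontg continuous_const)).union (isOpen_lt continuous_const hcontg)
  have h𝒲fib : ∀ x : B →ₐ[ℂ] ℂ, proj φ x = y₀ → ⇑x ∈ (W ∩ {u : B → ℂ | dist (u g) (x₀ g) < ε'}) ∪
      {u : B → ℂ | ε' < dist (u g) (x₀ g)} := by
    intro x hx
    by_cases hxx : x = x₀
    · left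
      rw [hxx]
      refine ⟨hx₀W, ?_⟩
      simp only [Set.mem_ofPred_eq, dist_self]
      exact hε'pos
    · right
      exact hε'1 x ((hfibmem x).mpr hx) hxx
  have hprop := eventually_fibre_subset φ hφ y₀ _ h𝒲open h𝒲fib
  -- a root near `x₀ g`
  have hroot₀ : (G.map (MvPolynomial.eval y₀)).IsRoot (x₀ g) := by
    have := isRoot_of_eval₂_eq_zero φ g G hG0 x₀
    rwa [hx₀] at this
  have hsimple : (G.map (MvPolynomial.eval y₀)).derivative.eval (x₀ g) ≠ 0 := by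
    have := hsep.eval₂_derivative_ne_zero (RingHom.id ℂ) (x := x₀ g) (by
      rw [eval₂_id]; exact hroot₀)
    rwa [eval₂_id] at this
  obtain ⟨ψ, hψ0, hψd, -, hψroot⟩ := exists_local_root G y₀ (x₀ g) hroot₀ hsimple
  have hψclose : ∀ᶠ y in 𝓝 y₀, dist (ψ y) (x₀ g) < ε' := by
    have := Metric.tendsto_nhds.mp hψd.continuousAt.tendsto ε' hε'pos
    rw [hψ0] at this
    exact this
  filter_upwards [hprop, hψroot, hψclose] with y hy1 hy2 hy3
  obtain ⟨x, hxy, hxg⟩ := exists_point_of_root φ hφ g G hGd y (ψ y) hy2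
  refine ⟨x, hxy, ?_, ?_⟩
  · rcases hy1 x hxy with h | h
    · exact h.1
    · exfalso
      simp only [Set.mem_ofPred_eq] at h
      rw [hxg] at h
      exact absurd hy3 (not_lt.mpr h.le)
  · rw [hxg]
    exact hy3.trans hε'2

end Groth.Agent.Lib.Helper21.AnConn
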