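import Mathlib.RingTheory.NoetherNormalization
import Mathlib.RingTheory.Ideal.GoingUp
import Mathlib.FieldTheory.Minpoly.IsIntegrallyClosed
import Mathlib.RingTheory.Polynomial.UniqueFactorization
import Mathlib.RingTheory.Polynomial.RationalRoot
import Mathlib.Analysis.Complex.Polynomial.Basic
import Groth.Agent.Lib.Helper21.TensorDomain
import Groth.Agent.Lib.Helper21.AnDensityRoots

/-!
# Algebraic facts on ℂ-points of finitely generated ℂ-algebras used for the density theorem
-/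

set_option autoImplicit false
open Polynomial

namespace Groth.Agent.Lib.Helper21.AnDensity

section basic

variable {A : Type*} [CommRing A] [Algebra ℂ A]

/-- two ℂ-points with comparable kernels agree -/
lemma algHom_eq_of_ker_le (x y : A →ₐ[ℂ] ℂ) (h : RingHom.ker x ≤ RingHom.ker y) : x = y := by
  ext a
  have h1 : a - algebraMap ℂ A (x a) ∈ RingHom.ker x := by
    rw [RingHom.mem_ker, map_sub, AlgHom.commutes]
    simp
  have h2 := h h1
  rw [RingHom.mem_ker, map_sub, AlgHom.commutes, sub_eq_zero] at h2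
  simpa using h2.symm

lemma algHom_surjective (x : A →ₐ[ℂ] ℂ) : Function.Surjective x := fun c =>
  ⟨algebraMap ℂ A c, by rw [AlgHom.commutes]; rfl⟩

instance ker_isMaximal (x : A →ₐ[ℂ] ℂ) : (RingHom.ker x).IsMaximal :=
  RingHom.ker_isMaximal_of_surjective x (algHom_surjective x)

end basic

/-- lifting ℂ-points along integral maps of ℂ-algebras (lying over + Nullstellensatz) -/
theorem exists_algHom_lift {R S : Type*} [CommRing R] [CommRing S] [Algebra ℂ R] [Algebra ℂ S]
    [Algebra.FiniteType ℂ S] (ψ : R →ₐ[ℂ] S) (hψ : ψ.IsIntegral) (y : R →ₐ[ℂ] ℂ)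
    (hy : RingHom.ker ψ ≤ RingHom.ker y) : ∃ x : S →ₐ[ℂ] ℂ, x.comp ψ = y := by
  let _ : Algebra R S := ψ.toRingHom.toAlgebra
  have hint : Algebra.IsIntegral R S := ⟨hψ⟩
  obtain ⟨Q, hQ, hQc⟩ := Ideal.exists_ideal_over_maximal_of_isIntegral (S := S)
    (RingHom.ker y) hy
  obtain ⟨x, hx⟩ := Groth.Agent.Lib.Helper21.exists_algHom_ker_eq_of_isMaximal ℂ S Q
  refine ⟨x, (algHom_eq_of_ker_le y (x.comp ψ) ?_).symm⟩
  intro r hr
  rw [← hQc] at hr
  rw [RingHom.mem_ker]
  have : ψ r ∈ Q := hr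
  rw [← hx] at this
  exact this

section normalization

variable {n : ℕ} {B : Type*} [CommRing B] [IsDomain B] [Algebra ℂ B]
  (φ : MvPolynomial (Fin n) ℂ →ₐ[ℂ] B)

/-- the image of a point of `B` in `ℂⁿ` -/
noncomputable def proj (x : B →ₐ[ℂ] ℂ) : Fin n → ℂ := fun i => x (φ (MvPolynomial.X i))

omit [IsDomain B] in
lemma apply_φ (x : B →ₐ[ℂ] ℂ) (p : MvPolynomial (Fin n) ℂ) :
    x (φ p) = MvPolynomial.eval (proj φ x) p := by
  have : (x.comp φ) = MvPolynomial.aeval (proj φ x) := by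
    apply MvPolynomial.algHom_ext
    intro i
    simp [proj]
  have h := congrArg (fun ψ : MvPolynomial (Fin n) ℂ →ₐ[ℂ] ℂ => ψ p) this
  exact h

/-- the kernel of `P[T] → B`, `T ↦ f` is generated by a monic polynomial
(`P = ℂ[X₁..Xₙ]` is integrally closed) -/
theorem exists_monic_generator (hφi : Function.Injective φ) (hφ : φ.IsIntegral) (f : B) :
    ∃ F : (MvPolynomial (Fin n) ℂ)[X], F.Monic ∧
      Polynomial.eval₂ (φ : MvPolynomial (Fin n) ℂ →+* B) f F = 0 ∧
      ∀ q : (MvPolynomial (Fin n) ℂ)[X],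
        Polynomial.eval₂ (φ : MvPolynomial (Fin n) ℂ →+* B) f q = 0 → F ∣ q := by
  let _ : Algebra (MvPolynomial (Fin n) ℂ) B := φ.toRingHom.toAlgebra
  have htf : Module.IsTorsionFree (MvPolynomial (Fin n) ℂ) B :=
    Module.isTorsionFree_iff_algebraMap_injective.mpr hφi
  have hint : IsIntegral (MvPolynomial (Fin n) ℂ) f := hφ f
  refine ⟨minpoly (MvPolynomial (Fin n) ℂ) f, minpoly.monic hint, ?_, fun q hq =>
    minpoly.isIntegrallyClosed_dvd hint ?_⟩
  · exact minpoly.aeval (MvPolynomial (Fin n) ℂ) f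
  · exact hq

variable [Algebra.FiniteType ℂ B]

omit [IsDomain B] in
/-- points of `B` over `y` with prescribed value of `f`: any root of the specialised generator of
the kernel of `P[T] → B` is the value of `f` at a point over `y` -/
theorem exists_point_of_root (hφ : φ.IsIntegral) (f : B)
    (F : (MvPolynomial (Fin n) ℂ)[X])
    (hF : ∀ q : (MvPolynomial (Fin n) ℂ)[X],
        Polynomial.eval₂ (φ : MvPolynomial (Fin n) ℂ →+* B) f q = 0 → F ∣ q)
    (y : Fin n → ℂ) (α : ℂ) (hα : (F.map (MvPolynomial.eval y)).IsRoot α) :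
    ∃ x : B →ₐ[ℂ] ℂ, proj φ x = y ∧ x f = α := by
  -- the ℂ-algebra maps `P[T] → B` and `P[T] → ℂ`
  let ψ : (MvPolynomial (Fin n) ℂ)[X] →ₐ[ℂ] B :=
    Polynomial.eval₂AlgHom φ f (fun _ => Commute.all _ _)
  let yα : (MvPolynomial (Fin n) ℂ)[X] →ₐ[ℂ] ℂ :=
    Polynomial.eval₂AlgHom (MvPolynomial.aeval y) α (fun _ => Commute.all _ _)
  have hψint : ψ.IsIntegral := by
    intro b
    have hb := hφ b
    obtain ⟨q, hq, hq0⟩ := hb
    refine ⟨q.map Polynomial.C, hq.map _, ?_⟩
    rw [Polynomial.eval₂_map]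
    have : (ψ.toRingHom.comp Polynomial.C) = φ.toRingHom := by
      ext p
      · simp [ψ]
      · simp [ψ]
    rw [this]
    exact hq0
  have hker : RingHom.ker ψ ≤ RingHom.ker yα := by
    intro q hq
    rw [RingHom.mem_ker] at hq ⊢
    have hq' : Polynomial.eval₂ (φ : MvPolynomial (Fin n) ℂ →+* B) f q = 0 := hq
    obtain ⟨r, rfl⟩ := hF q hq'
    rw [map_mul]
    have : yα F = 0 := by
      have : yα F = Polynomial.eval α (F.map (MvPolynomial.eval y)) := by
        rw [Polynomial.eval_map]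
        rfl
      rw [this]
      exact hα
    rw [this, zero_mul]
  obtain ⟨x, hx⟩ := exists_algHom_lift ψ hψint yα hker
  refine ⟨x, ?_, ?_⟩
  · funext i
    have := congrArg (fun χ : (MvPolynomial (Fin n) ℂ)[X] →ₐ[ℂ] ℂ =>
      χ (Polynomial.C (MvPolynomial.X i))) hx
    simpa [ψ, yα, proj] using this
  · have := congrArg (fun χ : (MvPolynomial (Fin n) ℂ)[X] →ₐ[ℂ] ℂ => χ Polynomial.X) hx
    simpa [ψ, yα] using this

end normalization

section more

variable {n : ℕ} {B : Type*} [CommRing B] [IsDomain B] [Algebra ℂ B]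
  (φ : MvPolynomial (Fin n) ℂ →ₐ[ℂ] B)

/-- a nonzero element of `B` divides the image of a nonzero element of `P` -/
theorem exists_nonzero_multiple (hφi : Function.Injective φ) (hφ : φ.IsIntegral) (g : B)
    (hg : g ≠ 0) : ∃ a : MvPolynomial (Fin n) ℂ, a ≠ 0 ∧ ∃ b : B, φ a = g * b := by
  obtain ⟨F, hFm, hF0, hFd⟩ := exists_monic_generator φ hφi hφ g
  have hdecomp := Polynomial.divX_mul_X_add F
  have hev : Polynomial.eval₂ (φ : MvPolynomial (Fin n) ℂ →+* B) g (F.divX) * g +
      φ (F.coeff 0) = 0 := by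
    have := congrArg (Polynomial.eval₂ (φ : MvPolynomial (Fin n) ℂ →+* B) g) hdecomp
    rw [Polynomial.eval₂_add, Polynomial.eval₂_mul, Polynomial.eval₂_X, Polynomial.eval₂_C,
      hF0] at this
    exact this
  refine ⟨F.coeff 0, ?_, -(Polynomial.eval₂ (φ : MvPolynomial (Fin n) ℂ →+* B) g (F.divX)), ?_⟩
  · intro h0
    rw [h0, map_zero, add_zero] at hev
    have h1 : Polynomial.eval₂ (φ : MvPolynomial (Fin n) ℂ →+* B) g (F.divX) = 0 := by
      rcases mul_eq_zero.mp hev with h | h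
      · exact h
      · exact absurd h hg
    have hdvd := hFd _ h1
    have hdeg : F.natDegree ≠ 0 := by
      intro hd
      rw [Polynomial.eq_one_of_monic_natDegree_zero hFm hd, Polynomial.eval₂_one] at hF0
      exact one_ne_zero hF0
    have hne : F.divX ≠ 0 := by
      intro hz
      rw [hz, zero_mul, zero_add, h0, Polynomial.C_0] at hdecomp
      exact hFm.ne_zero hdecomp.symm
    have hlt : F.divX.natDegree < F.natDegree := by
      rw [Polynomial.natDegree_divX_eq_natDegree_tsub_one]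
      omega
    exact hne (Polynomial.eq_zero_of_dvd_of_natDegree_lt hdvd hlt)
  · have : φ (F.coeff 0) = -(Polynomial.eval₂ (φ : MvPolynomial (Fin n) ℂ →+* B) g (F.divX) * g) :=
      eq_neg_of_add_eq_zero_right hev
    rw [this]
    ring

omit [IsDomain B] in
/-- values of a fixed element at points lying over a bounded set are bounded -/
theorem exists_bound (hφ : φ.IsIntegral) (b : B) (y₀ : Fin n → ℂ) (R : ℝ) :
    ∃ M : ℝ, ∀ x : B →ₐ[ℂ] ℂ, proj φ x ∈ Metric.closedBall y₀ R → ‖x b‖ ≤ M := by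
  obtain ⟨H, hHm, hH0⟩ := hφ b
  have hcont : Continuous (fun y : Fin n → ℂ =>
      ∑ i ∈ Finset.range H.natDegree, ‖MvPolynomial.eval y (H.coeff i)‖) := by
    apply continuous_finsetSum
    intro i _
    exact (MvPolynomial.continuous_eval (H.coeff i)).norm
  obtain ⟨C, hC⟩ := (isCompact_closedBall y₀ R).exists_bound_of_continuousOn hcont.continuousOn
  refine ⟨C + 1, fun x hx => ?_⟩
  have hmonic : (H.map (MvPolynomial.eval (proj φ x))).Monic := hHm.map _
  have hroot : (H.map (MvPolynomial.eval (proj φ x))).IsRoot (x b) := by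
    rw [Polynomial.IsRoot.def, Polynomial.eval_map]
    have h1 : x (Polynomial.eval₂ (φ : MvPolynomial (Fin n) ℂ →+* B) b H) = 0 := by
      have : Polynomial.eval₂ (φ : MvPolynomial (Fin n) ℂ →+* B) b H = 0 := hH0
      rw [this, map_zero]
    have h1' := Polynomial.hom_eval₂ H (φ : MvPolynomial (Fin n) ℂ →+* B) (x : B →+* ℂ) b
    have h2 : ((x : B →+* ℂ).comp (φ : MvPolynomial (Fin n) ℂ →+* B)) =
        MvPolynomial.eval (proj φ x) := by
      ext p
      · simp
      · simp [proj]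
    rw [← h2]
    exact h1'.symm.trans h1
  apply norm_root_le_of_monic _ hmonic C _ _ hroot
  intro i hi
  rw [hHm.natDegree_map] at hi
  rw [Polynomial.coeff_map]
  have h3 := hC _ hx
  have h4 : ‖MvPolynomial.eval (proj φ x) (H.coeff i)‖ ≤
      ∑ j ∈ Finset.range H.natDegree, ‖MvPolynomial.eval (proj φ x) (H.coeff j)‖ :=
    Finset.single_le_sum (f := fun j => ‖MvPolynomial.eval (proj φ x) (H.coeff j)‖)
      (fun j _ => norm_nonneg _) (Finset.mem_range.mpr hi)
  exact h4.trans ((le_abs_self _).trans h3)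


omit [IsDomain B] in
/-- the fibres of the projection to `ℂⁿ` are finite -/
theorem finite_fibre (hφf : φ.Finite) (y₀ : Fin n → ℂ) :
    {x : B →ₐ[ℂ] ℂ | proj φ x = y₀}.Finite := by
  let _ : Algebra (MvPolynomial (Fin n) ℂ) B := φ.toRingHom.toAlgebra
  let _ : Algebra (MvPolynomial (Fin n) ℂ) ℂ := (MvPolynomial.eval y₀).toAlgebra
  have : Module.Finite (MvPolynomial (Fin n) ℂ) B := hφf
  have hfin : Finite (B →ₐ[MvPolynomial (Fin n) ℂ] ℂ) := inferInstance
  let ι : {x : B →ₐ[ℂ] ℂ // proj φ x = y₀} → (B →ₐ[MvPolynomial (Fin n) ℂ] ℂ) := fun x =>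
    { toRingHom := (x.1 : B →+* ℂ)
      commutes' := fun p => by
        change x.1 (φ p) = MvPolynomial.eval y₀ p
        rw [apply_φ, x.2] }
  have hinj : Function.Injective ι := by
    intro x x' h
    apply Subtype.ext
    ext b
    exact congrArg (fun ψ : B →ₐ[MvPolynomial (Fin n) ℂ] ℂ => ψ b) h
  exact Set.finite_coe_iff.mp (Finite.of_injective ι hinj)

omit [IsDomain B] in
/-- a function vanishing at `x` but at no other point of the fibre through `x` -/
theorem exists_separating (hφf : φ.Finite) (x : B →ₐ[ℂ] ℂ) :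
    ∃ f : B, x f = 0 ∧ ∀ x' : B →ₐ[ℂ] ℂ, proj φ x' = proj φ x → x' f = 0 → x' = x := by
  classical
  have hfin := finite_fibre φ hφf (proj φ x)
  let s : Finset (B →ₐ[ℂ] ℂ) := hfin.toFinset.erase x
  by_contra hcon
  push Not at hcon
  have hsub : ((RingHom.ker x : Ideal B) : Set B) ⊆
      ⋃ i ∈ (s : Set (B →ₐ[ℂ] ℂ)), ((RingHom.ker i : Ideal B) : Set B) := by
    intro f hf
    obtain ⟨x', h1, h2, h3⟩ := hcon f hf
    simp only [Set.mem_iUnion]
    refine ⟨x', ?_, h2⟩
    simp only [s, Finset.coe_erase, Set.Finite.coe_toFinset, Set.mem_sdiff, Set.mem_ofPred_eq,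
      Set.mem_singleton_iff]
    exact ⟨h1, h3⟩
  obtain ⟨i, his, hle⟩ := (Ideal.subset_union_prime (R := B) (f := fun i : B →ₐ[ℂ] ℂ =>
    (RingHom.ker i : Ideal B)) x x (fun i _ _ _ => (ker_isMaximal i).isPrime)).mp hsub
  have h := algHom_eq_of_ker_le x i hle
  rw [Finset.mem_erase] at his
  exact his.1 h.symm

end more

end Groth.Agent.Lib.Helper21.AnDensity
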