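import Groth.Agent.Lib.Helper21.AnConnMain
import Groth.Agent.Lib.Helper10.AnEps
import Groth.Agent.S3694
import Mathlib.AlgebraicGeometry.Morphisms.IsIso
import Mathlib.AlgebraicGeometry.Morphisms.UniversallyInjective
import Mathlib.AlgebraicGeometry.Morphisms.Etale

/-!
# Etale morphisms inducing a bijection on ℂ-points are isomorphisms
-/

set_option autoImplicit false
open CategoryTheory AlgebraicGeometry Topology TopologicalSpace Filter
open An

namespace Groth.Agent.Lib.Helper21.AnPts

open Groth.Agent.Lib.Helper10.AnPts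

variable {T U : Scheme.{0}} [T.Over SC] [LocallyOfFiniteType (T ↘ SC)]
  [U.Over SC] [LocallyOfFiniteType (U ↘ SC)] (f : T ⟶ U) [f.IsOver SC]

/-- a closed subset without ℂ-points is empty -/
lemma eq_empty_of_isClosed_of_forall_pt_notMem (Z : Set U) (hZ : IsClosed Z)
    (h : ∀ y : Pts U, y.pt ∉ Z) : Z = ∅ := by
  by_contra hne
  obtain ⟨y, hy⟩ := exists_pt_mem_of_isLocallyClosed Z hZ.isLocallyClosed
    (Set.nonempty_iff_ne_empty.mpr hne)
  exact h y hy

omit [LocallyOfFiniteType (U ↘ SC)] in
theorem universallyInjective_of_injective_pts [Etale f] (hf : Function.Injective (Pts.map f)) :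
    UniversallyInjective f := by
  rw [UniversallyInjective.iff_diagonal]
  have hlft : LocallyOfFiniteType f := locallyOfFiniteType_of_isOver f
  have hoi : IsOpenImmersion (Limits.pullback.diagonal f) := inferInstance
  have hcl : IsClosed (Set.range (Limits.pullback.diagonal f))ᶜ :=
    (Limits.pullback.diagonal f).isOpenEmbedding.isOpen_range.isClosed_compl
  have hempty := eq_empty_of_isClosed_of_forall_pt_notMem (U := Limits.pullback f f) _ hcl (by
    intro z hz
    apply hz
    have hx : Pts.map (Limits.pullback.fst f f) z = Pts.map (Limits.pullback.snd f f) z :=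
      hf (Pts.map_pullback_condition f f z)
    have hx' : z.1 ≫ Limits.pullback.fst f f = z.1 ≫ Limits.pullback.snd f f :=
      congrArg Subtype.val hx
    refine ⟨(z.1 ≫ Limits.pullback.fst f f) cpt, ?_⟩
    have hz' : z.1 = (z.1 ≫ Limits.pullback.fst f f) ≫ Limits.pullback.diagonal f := by
      apply Limits.pullback.hom_ext
      · simp
      · simp [hx']
    conv_rhs => rw [Pts.pt, hz']
    rw [Scheme.Hom.comp_apply]
    rfl)
  constructor
  intro w
  by_contra hw
  have : w ∈ (Set.range (Limits.pullback.diagonal f))ᶜ := hw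
  rw [hempty] at this
  exact this

theorem isIso_of_etale_of_bijective_pts [Etale f] (hf : Function.Bijective (Pts.map f)) :
    IsIso f := by
  have h1 : UniversallyInjective f := universallyInjective_of_injective_pts f hf.1
  have h2 : IsOpenImmersion f := Groth.Agent.S3694.result f
  rw [isIso_iff_isOpenImmersion_and_surjective]
  refine ⟨h2, ⟨?_⟩⟩
  have hcl : IsClosed (Set.range f)ᶜ := f.isOpenEmbedding.isOpen_range.isClosed_compl
  have hempty := eq_empty_of_isClosed_of_forall_pt_notMem _ hcl (by
    intro y hy
    obtain ⟨t, rfl⟩ := hf.2 y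
    apply hy
    rw [Pts.pt_map]
    exact ⟨t.pt, rfl⟩)
  intro y
  by_contra hy
  have : y ∈ (Set.range f)ᶜ := hy
  rw [hempty] at this
  exact this


end Groth.Agent.Lib.Helper21.AnPts
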