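import Groth.Agent.Lib.Helper21.AnFull
import Groth.Agent.Lib.Helper10.AnEtaleLH
import Mathlib.AlgebraicGeometry.Morphisms.Separated

/-!
# Morphisms between etale schemes over `X` versus continuous maps of ℂ-points over `X(ℂ)`
-/

set_option autoImplicit false
open CategoryTheory AlgebraicGeometry Topology TopologicalSpace Filter
open An

namespace Groth.Agent.Lib.Helper21.AnPts

open Groth.Agent.Lib.Helper10.AnPts Groth.Agent.Lib.Helper10.AnEps

variable {X U V : Scheme.{0}} [X.Over SC] [U.Over SC] [V.Over SC]
  (a : U ⟶ X) (b : V ⟶ X) [a.IsOver SC] [b.IsOver SC]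

/-- the locus where two continuous maps to `V(ℂ)` over `X(ℂ)` agree is closed when `V` is
separated over `X` -/
theorem isClosed_eqLocus_of_isSeparated [IsSeparated b] {A : Type*} [TopologicalSpace A]
    (a' b' : A → Pts V) (ha' : Continuous a') (hb' : Continuous b')
    (hab : ∀ x, Pts.map b (a' x) = Pts.map b (b' x)) : IsClosed {x | a' x = b' x} := by
  have H : IsPullback (Limits.pullback.fst b b) (Limits.pullback.snd b b) b b :=
    IsPullback.of_hasPullback b b
  have hΔ : (Limits.pullback.diagonal b).IsOver SC := ⟨by
    change Limits.pullback.diagonal b ≫ Limits.pullback.fst b b ≫ (V ↘ SC) = V ↘ SC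
    rw [← Category.assoc, Limits.pullback.diagonal_fst, Category.id_comp]⟩
  have hcl : IsClosed (Set.range (Pts.map (Limits.pullback.diagonal b))) :=
    (isClosedEmbedding_map_of_isClosedImmersion (Limits.pullback.diagonal b)).isClosed_range
  have hex : ∀ x, ∃ z : Pts (Limits.pullback b b),
      Pts.map (Limits.pullback.fst b b) z = a' x ∧ Pts.map (Limits.pullback.snd b b) z = b' x :=
    fun x => exists_of_isPullback H (a' x) (b' x) (hab x)
  choose c hc1 hc2 using hex
  have hc : Continuous c := by
    rw [(isInducing_of_isPullback H).continuous_iff]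
    have : (fun z : Pts (Limits.pullback b b) =>
        (Pts.map (Limits.pullback.fst b b) z, Pts.map (Limits.pullback.snd b b) z)) ∘ c =
        fun x => (a' x, b' x) := by
      funext x
      exact Prod.ext (hc1 x) (hc2 x)
    rw [this]
    exact ha'.prodMk hb'
  have : {x | a' x = b' x} = c ⁻¹' Set.range (Pts.map (Limits.pullback.diagonal b)) := by
    ext x
    constructor
    · intro hx
      refine ⟨a' x, ?_⟩
      apply injective_of_isPullback H
      apply Prod.ext
      · change Pts.map (Limits.pullback.fst b b) (Pts.map (Limits.pullback.diagonal b) (a' x)) =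
          Pts.map (Limits.pullback.fst b b) (c x)
        rw [hc1]
        apply Subtype.ext
        change ((a' x).1 ≫ Limits.pullback.diagonal b) ≫ Limits.pullback.fst b b = _
        rw [Category.assoc, Limits.pullback.diagonal_fst, Category.comp_id]
      · change Pts.map (Limits.pullback.snd b b) (Pts.map (Limits.pullback.diagonal b) (a' x)) =
          Pts.map (Limits.pullback.snd b b) (c x)
        rw [hc2, ← (show a' x = b' x from hx)]
        apply Subtype.ext
        change ((a' x).1 ≫ Limits.pullback.diagonal b) ≫ Limits.pullback.snd b b = _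
        rw [Category.assoc, Limits.pullback.diagonal_snd, Category.comp_id]
    · rintro ⟨v, hv⟩
      have h1 : Pts.map (Limits.pullback.fst b b) (c x) = v := by
        rw [← hv]
        apply Subtype.ext
        change (v.1 ≫ Limits.pullback.diagonal b) ≫ Limits.pullback.fst b b = _
        rw [Category.assoc, Limits.pullback.diagonal_fst, Category.comp_id]
      have h2 : Pts.map (Limits.pullback.snd b b) (c x) = v := by
        rw [← hv]
        apply Subtype.ext
        change (v.1 ≫ Limits.pullback.diagonal b) ≫ Limits.pullback.snd b b = _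
        rw [Category.assoc, Limits.pullback.diagonal_snd, Category.comp_id]
      change a' x = b' x
      rw [← hc1 x, ← hc2 x, h1, h2]
  rw [this]
  exact hcl.preimage hc

variable [LocallyOfFiniteType (X ↘ SC)] [LocallyOfFiniteType (U ↘ SC)]
  [LocallyOfFiniteType (V ↘ SC)]

omit [LocallyOfFiniteType (X ↘ SC)] in
/-- **Fullness.** A continuous map `U(ℂ) → V(ℂ)` over `X(ℂ)`, for `U`, `V` etale over `X` and `V`
separated over `X`, is induced by a morphism `U ⟶ V` over `X`. -/
theorem exists_hom_of_continuous [Etale a] [Etale b] [IsSeparated b]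
    (h : Pts U → Pts V) (hh : Continuous h) (hcompat : ∀ u, Pts.map b (h u) = Pts.map a u) :
    ∃ g : U ⟶ V, g ≫ b = a ∧ ∀ u : Pts U, u.1 ≫ g = (h u).1 := by
  have hLH : EtaleLH := Groth.Agent.Lib.Helper10.AnEtaleLH.etaleLH
  have hlftb : LocallyOfFiniteType b := locallyOfFiniteType_of_isOver b
  have H : IsPullback (Limits.pullback.fst a b) (Limits.pullback.snd a b) a b :=
    IsPullback.of_hasPullback a b
  -- the section
  have hex : ∀ u : Pts U, ∃ z : Pts (Limits.pullback a b),
      Pts.map (Limits.pullback.fst a b) z = u ∧ Pts.map (Limits.pullback.snd a b) z = h u :=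
    fun u => exists_of_isPullback H u (h u) (hcompat u).symm
  choose s hs1 hs2 using hex
  have hs : Continuous s := by
    rw [(isInducing_of_isPullback H).continuous_iff]
    have : (fun z : Pts (Limits.pullback a b) =>
        (Pts.map (Limits.pullback.fst a b) z, Pts.map (Limits.pullback.snd a b) z)) ∘ s =
        fun u => (u, h u) := by
      funext u
      exact Prod.ext (hs1 u) (hs2 u)
    rw [this]
    exact continuous_id.prodMk hh
  have hπ : IsLocalHomeomorph (Pts.map (Limits.pullback.fst a b)) :=
    hLH (Limits.pullback a b) U (Limits.pullback.fst a b)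
  have hsLH : IsLocalHomeomorph s := by
    refine IsLocalHomeomorph.of_comp (g := Pts.map (Limits.pullback.fst a b)) ?_ hπ hs
    have : Pts.map (Limits.pullback.fst a b) ∘ s = id := funext hs1
    rw [this]
    exact (Homeomorph.refl _).isLocalHomeomorph
  have hMopen : IsOpen (Set.range s) := hsLH.isOpenMap.isOpen_range
  have hMeq : Set.range s = {w | Pts.map (Limits.pullback.snd a b) w =
      h (Pts.map (Limits.pullback.fst a b) w)} := by
    ext w
    constructor
    · rintro ⟨u, rfl⟩
      change Pts.map (Limits.pullback.snd a b) (s u) = h (Pts.map (Limits.pullback.fst a b) (s u))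
      rw [hs1, hs2]
    · intro hw
      refine ⟨Pts.map (Limits.pullback.fst a b) w, ?_⟩
      apply injective_of_isPullback H
      exact Prod.ext (hs1 _) ((hs2 _).trans hw.symm)
  have hMclosed : IsClosed (Set.range s) := by
    rw [hMeq]
    apply isClosed_eqLocus_of_isSeparated b _ _ (Pts.continuous_map _)
      (hh.comp (Pts.continuous_map _))
    intro w
    change Pts.map b (Pts.map (Limits.pullback.snd a b) w) =
      Pts.map b (h (Pts.map (Limits.pullback.fst a b) w))
    rw [hcompat]
    exact (Pts.map_pullback_condition a b w).symm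
  obtain ⟨T, hT, hTM⟩ := exists_isClopen_preimage_eq (Set.range s) ⟨hMclosed, hMopen⟩
  let T' : (Limits.pullback a b).Opens := ⟨T, hT.2⟩
  -- the restriction of the first projection to `T'`
  have hbij : Function.Bijective (Pts.map (T'.ι ≫ Limits.pullback.fst a b)) := by
    constructor
    · intro t t' htt'
      apply map_injective_of_mono T'.ι
      have h1 : Pts.map T'.ι t ∈ Set.range s := by
        rw [← hTM, Set.mem_preimage, Pts.pt_map]
        exact (t.pt).2
      have h2 : Pts.map T'.ι t' ∈ Set.range s := by
        rw [← hTM, Set.mem_preimage, Pts.pt_map]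
        exact (t'.pt).2
      obtain ⟨u, hu⟩ := h1
      obtain ⟨u', hu'⟩ := h2
      have e1 : Pts.map (Limits.pullback.fst a b) (Pts.map T'.ι t) = u := by rw [← hu, hs1]
      have e2 : Pts.map (Limits.pullback.fst a b) (Pts.map T'.ι t') = u' := by rw [← hu', hs1]
      have e3 : Pts.map (Limits.pullback.fst a b) (Pts.map T'.ι t) =
          Pts.map (Limits.pullback.fst a b) (Pts.map T'.ι t') := by
        rw [← Pts.map_comp, ← Pts.map_comp]
        exact htt'
      rw [← hu, ← hu', ← e1, ← e2, e3]
    · intro u
      have hmem : (s u).pt ∈ T' := by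
        have : s u ∈ Pts.pt ⁻¹' T := by
          rw [hTM]
          exact ⟨u, rfl⟩
        exact this
      obtain ⟨t, ht⟩ := exists_map_ι_eq T' (s u) hmem
      refine ⟨t, ?_⟩
      rw [Pts.map_comp, ht, hs1]
  have hiso : IsIso (T'.ι ≫ Limits.pullback.fst a b) :=
    isIso_of_etale_of_bijective_pts _ hbij
  refine ⟨inv (T'.ι ≫ Limits.pullback.fst a b) ≫ T'.ι ≫ Limits.pullback.snd a b, ?_, ?_⟩
  · rw [Category.assoc, Category.assoc, ← Limits.pullback.condition, ← Category.assoc T'.ι,
      IsIso.inv_hom_id_assoc]
  · intro u
    obtain ⟨t, ht⟩ := hbij.2 u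
    have ht' : t.1 ≫ (T'.ι ≫ Limits.pullback.fst a b) = u.1 := congrArg Subtype.val ht
    have h1 : u.1 ≫ inv (T'.ι ≫ Limits.pullback.fst a b) = t.1 := by
      rw [← ht', Category.assoc, IsIso.hom_inv_id, Category.comp_id]
    have h2 : Pts.map T'.ι t = s u := by
      have hmem : Pts.map T'.ι t ∈ Set.range s := by
        rw [← hTM, Set.mem_preimage, Pts.pt_map]
        exact (t.pt).2
      obtain ⟨u', hu'⟩ := hmem
      have : u' = u := by
        rw [← hs1 u', hu', ← Pts.map_comp]
        exact ht
      rw [← hu', this]
    rw [← Category.assoc, h1, ← Category.assoc]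
    have h3 : (t.1 ≫ T'.ι) ≫ Limits.pullback.snd a b =
        (Pts.map (Limits.pullback.snd a b) (Pts.map T'.ι t)).1 := rfl
    rw [h3, h2, hs2]

omit [LocallyOfFiniteType (X ↘ SC)] [LocallyOfFiniteType (V ↘ SC)] [a.IsOver SC] [b.IsOver SC]
  [X.Over SC] [V.Over SC] in
/-- **Faithfulness.** Two morphisms `U ⟶ V` over `X` into an etale `X`-scheme which agree on
ℂ-points are equal. -/
theorem hom_ext_of_pts [Etale b] (g₁ g₂ : U ⟶ V) (h₁ : g₁ ≫ b = a) (h₂ : g₂ ≫ b = a)
    (h : ∀ u : Pts U, u.1 ≫ g₁ = u.1 ≫ g₂) : g₁ = g₂ := by
  let k : U ⟶ Limits.pullback b b := Limits.pullback.lift g₁ g₂ (h₁.trans h₂.symm)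
  have hk1 : k ≫ Limits.pullback.fst b b = g₁ := Limits.pullback.lift_fst _ _ _
  have hk2 : k ≫ Limits.pullback.snd b b = g₂ := Limits.pullback.lift_snd _ _ _
  have hoi : IsOpenImmersion (Limits.pullback.diagonal b) := inferInstance
  have hoi' : IsOpenImmersion (Limits.pullback.fst k (Limits.pullback.diagonal b)) := inferInstance
  have hcl : IsClosed (Set.range (Limits.pullback.fst k (Limits.pullback.diagonal b)))ᶜ :=
    (Limits.pullback.fst k (Limits.pullback.diagonal b)).isOpenEmbedding.isOpen_range.isClosed_compl
  have hempty := eq_empty_of_isClosed_of_forall_pt_notMem (U := U) _ hcl (by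
    intro u hu
    apply hu
    have hk : u.1 ≫ k = (u.1 ≫ g₁) ≫ Limits.pullback.diagonal b := by
      apply Limits.pullback.hom_ext
      · rw [Category.assoc, hk1, Category.assoc, Limits.pullback.diagonal_fst, Category.comp_id]
      · rw [Category.assoc, hk2, Category.assoc, Limits.pullback.diagonal_snd, Category.comp_id,
          h u]
    refine ⟨(Limits.pullback.lift u.1 (u.1 ≫ g₁) hk) cpt, ?_⟩
    rw [← Scheme.Hom.comp_apply, Limits.pullback.lift_fst]
    rfl)
  have hsurj : Surjective (Limits.pullback.fst k (Limits.pullback.diagonal b)) := by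
    constructor
    intro y
    by_contra hy
    have : y ∈ (Set.range (Limits.pullback.fst k (Limits.pullback.diagonal b)))ᶜ := hy
    rw [hempty] at this
    exact this
  have hiso : IsIso (Limits.pullback.fst k (Limits.pullback.diagonal b)) :=
    (isIso_iff_isOpenImmersion_and_surjective _).mpr ⟨hoi', hsurj⟩
  have e1 : Limits.pullback.fst k (Limits.pullback.diagonal b) ≫ g₁ =
      Limits.pullback.snd k (Limits.pullback.diagonal b) := by
    rw [← hk1, ← Category.assoc, Limits.pullback.condition, Category.assoc,
      Limits.pullback.diagonal_fst, Category.comp_id]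
  have e2 : Limits.pullback.fst k (Limits.pullback.diagonal b) ≫ g₂ =
      Limits.pullback.snd k (Limits.pullback.diagonal b) := by
    rw [← hk2, ← Category.assoc, Limits.pullback.condition, Category.assoc,
      Limits.pullback.diagonal_snd, Category.comp_id]
  exact (cancel_epi (Limits.pullback.fst k (Limits.pullback.diagonal b))).mp (e1.trans e2.symm)

end Groth.Agent.Lib.Helper21.AnPts
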