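import Groth.Agent.Lib.Helper21.AnConnMono

/-!
# Polynomial lemmas for the theorem on null-homotopic units

* `separable_comp_X_pow`: `p ∘ Xⁿ` is separable when `p` is separable with `p 0 ≠ 0`.
* `natDegree_eq_zero_of_pow_growth`: a polynomial `q` with `‖q t‖ ^ n ≤ C (1 + ‖t‖) ^ M` off a finite
  set, where `M < n`, is constant.
* `eval_eq_of_pow_growth`: multivariate version along rays through the origin.
-/

set_option autoImplicit false
open Topology Filter Polynomial

namespace Groth.Agent.Lib.Helper21.AnNull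

open Groth.Agent.Lib.Helper21.AnConn

lemma separable_comp_X_pow {p : ℂ[X]} (hp : p.Separable) (h0 : p.eval 0 ≠ 0) {n : ℕ}
    (hn : n ≠ 0) : (p.comp (X ^ n)).Separable := by
  rw [separable_def, derivative_comp, derivative_X_pow]
  -- coprime to the composed derivative
  have h1 : IsCoprime (p.comp (X ^ n)) ((derivative p).comp (X ^ n)) := by
    obtain ⟨a, b, hab⟩ := hp
    refine ⟨a.comp (X ^ n), b.comp (X ^ n), ?_⟩
    rw [← mul_comp, ← mul_comp, ← add_comp, hab, one_comp]
  -- coprime to `X`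
  have h2 : IsCoprime (p.comp (X ^ n)) X := by
    have hc : (p.comp (X ^ n)).coeff 0 = p.eval 0 := by
      rw [coeff_zero_eq_eval_zero, eval_comp, eval_pow, eval_X, zero_pow hn]
    obtain ⟨r, hr⟩ : X ∣ p.comp (X ^ n) - C ((p.comp (X ^ n)).coeff 0) := X_dvd_sub_C
    rw [hc] at hr
    refine ⟨C (p.eval 0)⁻¹, -(C (p.eval 0)⁻¹ * r), ?_⟩
    have : p.comp (X ^ n) = X * r + C (p.eval 0) := by rw [← hr]; ring
    rw [this]
    have hcc : C (p.eval 0)⁻¹ * C (p.eval 0) = 1 := by
      rw [← C_mul, inv_mul_cancel₀ h0, C_1]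
    linear_combination hcc
  have h3 : IsCoprime (p.comp (X ^ n)) (C (n : ℂ) * X ^ (n - 1)) := by
    have hu : IsUnit (C (n : ℂ) : ℂ[X]) :=
      Polynomial.isUnit_C.mpr (isUnit_iff_ne_zero.mpr (Nat.cast_ne_zero.mpr hn))
    rw [isCoprime_mul_unit_left_right hu]
    exact h2.pow_right
  exact h3.mul_right h1

/-- a polynomial whose `n`-th power grows slower than degree `n` (off a finite set) is constant -/
lemma natDegree_eq_zero_of_pow_growth (q : ℂ[X]) (n M : ℕ) (hMn : M < n) (C : ℝ) (F : Set ℂ)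
    (hF : F.Finite) (h : ∀ t, t ∉ F → ‖q.eval t‖ ^ n ≤ C * (1 + ‖t‖) ^ M) : q.natDegree = 0 := by
  obtain ⟨r, hr, hr'⟩ := exists_polynomial_of_differentiableAt_off_finite
    (fun t => (q ^ n).eval t) F hF M C (fun t _ => (q ^ n).differentiable.differentiableAt)
    (fun t ht => by
      simp only [eval_pow, norm_pow]
      exact h t ht)
  have heq : q ^ n = r := by
    apply Polynomial.eq_of_infinite_eval_eq
    refine Set.Infinite.mono (s := Fᶜ) (fun t ht => hr' t ht) ?_
    exact hF.infinite_compl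
  have h1 : (q ^ n).natDegree = n * q.natDegree := natDegree_pow q n
  rw [heq] at h1
  by_contra hne
  have : n ≤ n * q.natDegree := Nat.le_mul_of_pos_right n (Nat.pos_of_ne_zero hne)
  omega

variable {d : ℕ}

/-- restriction of a polynomial to the line through the origin with direction `w` -/
noncomputable def rayAt (w : Fin d → ℂ) : MvPolynomial (Fin d) ℂ →ₐ[ℂ] ℂ[X] :=
  MvPolynomial.aeval (fun j => C (w j) * X : Fin d → ℂ[X])

lemma eval_rayAt (w : Fin d → ℂ) (t : ℂ) (A : MvPolynomial (Fin d) ℂ) :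
    (rayAt w A).eval t = MvPolynomial.eval (fun j => w j * t) A := by
  have h := MvPolynomial.comp_aeval (R := ℂ)
    (f := (fun j => C (w j) * X : Fin d → ℂ[X]))
    (φ := (Polynomial.aeval t : ℂ[X] →ₐ[ℂ] ℂ))
  have h2 := congrArg (fun ψ : MvPolynomial (Fin d) ℂ →ₐ[ℂ] ℂ => ψ A) h
  simp only [AlgHom.comp_apply] at h2
  rw [← MvPolynomial.aeval_eq_eval, ← Polynomial.coe_aeval_eq_eval]
  unfold rayAt
  rw [h2]
  congr 2
  funext j
  simp

/-- a multivariate polynomial whose `n`-th power grows slower than degree `n` on the nonvanishing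
locus of `D` takes the same value at all points of that locus -/
lemma eval_eq_of_pow_growth (A D : MvPolynomial (Fin d) ℂ) (n M : ℕ) (hMn : M < n) (C : ℝ)
    (h : ∀ y, MvPolynomial.eval y D ≠ 0 → ‖MvPolynomial.eval y A‖ ^ n ≤ C * (1 + ‖y‖) ^ M)
    (w : Fin d → ℂ) (hw : MvPolynomial.eval w D ≠ 0) :
    MvPolynomial.eval w A = MvPolynomial.eval 0 A := by
  have hC : 0 ≤ C := by
    have h1 := h w hw
    have h2 : (0 : ℝ) < (1 + ‖w‖) ^ M := by positivity
    by_contra hneg
    push Not at hneg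
    have : C * (1 + ‖w‖) ^ M < 0 := mul_neg_of_neg_of_pos hneg h2
    have h3 : (0 : ℝ) ≤ ‖MvPolynomial.eval w A‖ ^ n := by positivity
    linarith
  have hu : rayAt w D ≠ 0 := by
    intro h0
    apply hw
    have := eval_rayAt w 1 D
    rw [h0, eval_zero] at this
    simpa using this.symm
  have hF : {t : ℂ | MvPolynomial.eval (fun j => w j * t) D = 0}.Finite := by
    refine ((rayAt w D).rootSet_finite ℂ).subset ?_
    intro t ht
    rw [mem_rootSet_of_ne hu, coe_aeval_eq_eval, eval_rayAt]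
    exact ht
  have hnorm : ∀ t : ℂ, ‖(fun j => w j * t : Fin d → ℂ)‖ ≤ ‖w‖ * ‖t‖ := by
    intro t
    rw [pi_norm_le_iff_of_nonneg (by positivity)]
    intro j
    rw [norm_mul]
    exact mul_le_mul_of_nonneg_right (norm_le_pi_norm w j) (norm_nonneg t)
  have hdeg := natDegree_eq_zero_of_pow_growth (rayAt w A) n M hMn (C * (1 + ‖w‖) ^ M) _ hF (by
    intro t ht
    rw [eval_rayAt]
    have h1 := h _ ht
    have h2 : (1 + ‖(fun j => w j * t : Fin d → ℂ)‖) ≤ (1 + ‖w‖) * (1 + ‖t‖) := by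
      have := hnorm t
      nlinarith [norm_nonneg w, norm_nonneg t]
    calc ‖MvPolynomial.eval (fun j => w j * t) A‖ ^ n
        ≤ C * (1 + ‖(fun j => w j * t : Fin d → ℂ)‖) ^ M := h1
      _ ≤ C * ((1 + ‖w‖) * (1 + ‖t‖)) ^ M := by
          apply mul_le_mul_of_nonneg_left _ hC
          exact pow_le_pow_left₀ (by positivity) h2 _
      _ = _ := by rw [mul_pow (1 + ‖w‖) (1 + ‖t‖)]; ring)
  have hconst := eq_C_of_natDegree_eq_zero hdeg
  have e1 := eval_rayAt w 1 A
  have e0 := eval_rayAt w 0 A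
  rw [hconst, eval_C] at e1 e0
  have hw1 : (fun j => w j * (1 : ℂ)) = w := by funext j; ring
  have hw0 : (fun j => w j * (0 : ℂ)) = (0 : Fin d → ℂ) := by funext j; simp
  rw [hw1] at e1
  rw [hw0] at e0
  rw [← e1, ← e0]

end Groth.Agent.Lib.Helper21.AnNull
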