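import Groth.Agent.Lib.Helper21.AnNull1
import Groth.Agent.Lib.Helper21.AnConnTop
import Groth.Agent.Lib.Helper21.AnDensity

/-!
# A function with continuous roots of all orders on an affine complex variety is constant

`ring_root_const`: let `B` be a finitely generated ℂ-algebra which is a domain and `u ∈ B`.  If for
every `n > 0` the function `x ↦ u(x)` on the ℂ-points of `B` has an `n`-th root which is continuous
for the complex topology (the topology induced from `B → ℂ`), then `u` takes the same value at all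
ℂ-points.
-/

set_option autoImplicit false
open Topology Filter Polynomial

namespace Groth.Agent.Lib.Helper21.AnNull

open Groth.Agent.Lib.Helper21.AnDensity Groth.Agent.Lib.Helper21.AnConn

variable {B : Type*} [CommRing B] [IsDomain B] [Algebra ℂ B] [Algebra.FiniteType ℂ B]

theorem ring_root_const (u : B)
    (hv : ∀ n : ℕ, 0 < n → ∃ v : (B →ₐ[ℂ] ℂ) → ℂ, (∀ x, v x ^ n = x u) ∧
      ∀ O : Set ℂ, IsOpen O → ∃ W : Set (B → ℂ), IsOpen W ∧
        ∀ x : B →ₐ[ℂ] ℂ, ⇑x ∈ W ↔ v x ∈ O) :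
    ∀ x y : B →ₐ[ℂ] ℂ, x u = y u := by
  classical
  by_cases hu0 : u = 0
  · intro x y
    rw [hu0, map_zero, map_zero]
  obtain ⟨d, φ, hφi, hφf⟩ := exists_finite_inj_algHom_of_fg ℂ B
  have hφ : φ.IsIntegral := RingHom.Finite.to_isIntegral hφf
  obtain ⟨g, G, Dg, hGm, hG0, hGd, hDg, hsepg, hinj⟩ := exists_generic_structure φ hφi hφf
  obtain ⟨Gu, hGum, hGu0, hGud, Du, hDu, hsepu⟩ := exists_minpoly_package φ hφi hφ u
  obtain ⟨m, hm⟩ := exists_card_fibre_le φ hφf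
  obtain ⟨C0, N0, hC0, hrootg⟩ := exists_root_growth Gu hGum
  -- the constant coefficient of the minimal polynomial of `u`
  set c₀ := Gu.coeff 0 with hc₀
  have hc₀ne : c₀ ≠ 0 := by
    intro h0
    obtain ⟨Q, hQ⟩ : X ∣ Gu := by
      rw [X_dvd_iff]
      exact h0
    have hQne : Q ≠ 0 := by
      rintro rfl
      rw [mul_zero] at hQ
      exact hGum.ne_zero hQ
    have h1 : Polynomial.eval₂ (φ : MvPolynomial (Fin d) ℂ →+* B) u Gu =
        u * Polynomial.eval₂ (φ : MvPolynomial (Fin d) ℂ →+* B) u Q := by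
      rw [hQ, eval₂_mul, eval₂_X]
    rw [hGu0] at h1
    have h2 : Polynomial.eval₂ (φ : MvPolynomial (Fin d) ℂ →+* B) u Q = 0 :=
      (mul_eq_zero.mp h1.symm).resolve_left hu0
    have h3 := hGud Q h2
    have h4 := natDegree_le_of_dvd h3 hQne
    have h5 : Gu.natDegree = 1 + Q.natDegree := by
      rw [hQ, natDegree_mul X_ne_zero hQne, natDegree_X]
    omega
  set n := N0 * m + 1 with hn
  have hnpos : 0 < n := by omega
  obtain ⟨v, hvn, hvc⟩ := hv n hnpos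
  set Gt := Gu.comp (X ^ n) with hGt
  have hGtm : Gt.Monic := hGum.comp (monic_X_pow n) (by rw [natDegree_X_pow]; omega)
  have hGtmap : ∀ y, Gt.map (MvPolynomial.eval y) =
      (Gu.map (MvPolynomial.eval y)).comp (X ^ n) := by
    intro y
    rw [hGt, Polynomial.map_comp, Polynomial.map_pow, map_X]
  have hrootu : ∀ x : B →ₐ[ℂ] ℂ, (Gu.map (MvPolynomial.eval (proj φ x))).IsRoot (x u) :=
    fun x => isRoot_of_eval₂_eq_zero φ u Gu hGu0 x
  have hrootv : ∀ x : B →ₐ[ℂ] ℂ, (Gt.map (MvPolynomial.eval (proj φ x))).IsRoot (v x) := by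
    intro x
    rw [hGtmap, IsRoot.def, eval_comp, eval_pow, eval_X, hvn]
    exact hrootu x
  set D := Dg * Du * c₀ with hD
  have hDne : D ≠ 0 := mul_ne_zero (mul_ne_zero hDg hDu) hc₀ne
  have hDsplit : ∀ y, MvPolynomial.eval y D ≠ 0 → MvPolynomial.eval y Dg ≠ 0 ∧
      MvPolynomial.eval y Du ≠ 0 ∧ MvPolynomial.eval y c₀ ≠ 0 := by
    intro y hy
    rw [hD, map_mul, map_mul] at hy
    exact ⟨left_ne_zero_of_mul (left_ne_zero_of_mul hy),
      right_ne_zero_of_mul (left_ne_zero_of_mul hy), right_ne_zero_of_mul hy⟩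
  have hsep : ∀ y, MvPolynomial.eval y D ≠ 0 → (Gt.map (MvPolynomial.eval y)).Separable := by
    intro y hy
    obtain ⟨-, h2, h3⟩ := hDsplit y hy
    rw [hGtmap]
    apply separable_comp_X_pow (hsepu y h2) _ (by omega)
    rw [← coeff_zero_eq_eval_zero, coeff_map]
    exact h3
  -- the fibres and the sets of values of `v` on them
  set fib : (Fin d → ℂ) → Finset (B →ₐ[ℂ] ℂ) := fun y => (finite_fibre φ hφf y).toFinset with hfib
  have hfibmem : ∀ y x, x ∈ fib y ↔ proj φ x = y := by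
    intro y x
    rw [hfib]
    simp only [Set.Finite.mem_toFinset, Set.mem_ofPred_eq]
  set S : (Fin d → ℂ) → Finset ℂ := fun y => (fib y).image v with hSdef
  have hSmem : ∀ y α, α ∈ S y ↔ ∃ x : B →ₐ[ℂ] ℂ, proj φ x = y ∧ v x = α := by
    intro y α
    rw [hSdef]
    simp only [Finset.mem_image, hfibmem]
  have hScard : ∀ y, (S y).card ≤ m := fun y =>
    Finset.card_image_le.trans (hm y (fib y) fun x hx => (hfibmem y x).mp hx)
  have hS : ∀ y, MvPolynomial.eval y D ≠ 0 → ∀ α ∈ S y,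
      (Gt.map (MvPolynomial.eval y)).IsRoot α := by
    intro y _ α hα
    obtain ⟨x, hxy, rfl⟩ := (hSmem y α).mp hα
    have := hrootv x
    rwa [hxy] at this
  have hlsc1 : ∀ y₀, MvPolynomial.eval y₀ D ≠ 0 → ∀ α ∈ S y₀, ∀ ε > 0,
      ∀ᶠ y in 𝓝 y₀, ∃ α' ∈ S y, dist α' α < ε := by
    intro y₀ hy₀ α hα ε hε
    obtain ⟨x₀, hx₀y, rfl⟩ := (hSmem y₀ α).mp hα
    obtain ⟨W, hW, hWv⟩ := hvc (Metric.ball (v x₀) ε) Metric.isOpen_ball
    have hx₀W : ⇑x₀ ∈ W := (hWv x₀).mpr (Metric.mem_ball_self hε)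
    have := eventually_exists_lift φ hφ hφf g G hGd hG0 y₀ (hsepg y₀ (hDsplit y₀ hy₀).1)
      (hinj y₀ (hDsplit y₀ hy₀).1) x₀ hx₀y W hW hx₀W 1 one_pos
    filter_upwards [this] with y ⟨x, hxy, hxW, _⟩
    exact ⟨v x, (hSmem y _).mpr ⟨x, hxy, rfl⟩, (hWv x).mp hxW⟩
  have hlsc2 : ∀ y₀, MvPolynomial.eval y₀ D ≠ 0 → ∀ α,
      (Gt.map (MvPolynomial.eval y₀)).IsRoot α → α ∉ S y₀ → ∀ ε > 0,
      ∀ᶠ y in 𝓝 y₀, ∃ α', (Gt.map (MvPolynomial.eval y)).IsRoot α' ∧ α' ∉ S y ∧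
        dist α' α < ε := by
    intro y₀ hy₀ α hα hαS ε hε
    have hev1 : ∀ᶠ δ in 𝓝[>] (0 : ℝ), ∀ β ∈ S y₀, 2 * δ < dist β α := by
      rw [Filter.eventually_all_finset]
      intro β hβ
      have hpos : 0 < dist β α / 2 := by
        apply half_pos
        apply dist_pos.mpr
        rintro rfl
        exact hαS hβ
      exact ((eventually_lt_nhds hpos).filter_mono nhdsWithin_le_nhds).mono fun δ h => by linarith
    have hev2 : ∀ᶠ δ in 𝓝[>] (0 : ℝ), δ < ε :=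
      (eventually_lt_nhds hε).filter_mono nhdsWithin_le_nhds
    have hev3 : ∀ᶠ δ in 𝓝[>] (0 : ℝ), 0 < δ := eventually_mem_nhdsWithin
    obtain ⟨δ, ⟨hδ1, hδ2⟩, hδpos⟩ := ((hev1.and hev2).and hev3).exists
    choose Wf hWfo hWfv using fun x₀ : B →ₐ[ℂ] ℂ => hvc (Metric.ball (v x₀) δ) Metric.isOpen_ball
    have h𝒲open : IsOpen (⋃ x₀ ∈ fib y₀, Wf x₀) := isOpen_biUnion fun x₀ _ => hWfo x₀
    have h𝒲fib : ∀ x : B →ₐ[ℂ] ℂ, proj φ x = y₀ → ⇑x ∈ ⋃ x₀ ∈ fib y₀, Wf x₀ := by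
      intro x hx
      simp only [Set.mem_iUnion]
      exact ⟨x, (hfibmem y₀ x).mpr hx, (hWfv x x).mpr (Metric.mem_ball_self hδpos)⟩
    have hprop := eventually_fibre_subset φ hφ y₀ _ h𝒲open h𝒲fib
    have hsimple : (Gt.map (MvPolynomial.eval y₀)).derivative.eval α ≠ 0 := by
      have := (hsep y₀ hy₀).eval₂_derivative_ne_zero (RingHom.id ℂ) (x := α) (by
        rw [eval₂_id]; exact hα)
      rwa [eval₂_id] at this
    obtain ⟨ψ, hψ0, hψd, -, hψroot⟩ := exists_local_root Gt y₀ α hα hsimple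
    have hψclose : ∀ᶠ y in 𝓝 y₀, dist (ψ y) α < δ := by
      have := Metric.tendsto_nhds.mp hψd.continuousAt.tendsto δ hδpos
      rw [hψ0] at this
      exact this
    filter_upwards [hprop, hψroot, hψclose] with y hy1 hy2 hy3
    refine ⟨ψ y, hy2, ?_, hy3.trans hδ2⟩
    intro hmem
    obtain ⟨x, hxy, hvx⟩ := (hSmem y _).mp hmem
    have hxU := hy1 x hxy
    simp only [Set.mem_iUnion] at hxU
    obtain ⟨x₀, hx₀, hxW⟩ := hxU
    have h1 : dist (v x) (v x₀) < δ := (hWfv x₀ x).mp hxW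
    have h2 := hδ1 (v x₀) ((hSmem y₀ _).mpr ⟨x₀, (hfibmem y₀ x₀).mp hx₀, rfl⟩)
    have h3 : dist (v x₀) α ≤ dist (v x₀) (v x) + dist (v x) α := dist_triangle _ _ _
    rw [hvx] at h1 h3
    rw [dist_comm (v x₀) (ψ y)] at h3
    linarith
  obtain ⟨H, hHm, hHdvd, hHmap⟩ := monodromy Gt hGtm D hDne hsep S hS hlsc1 hlsc2
  -- growth of the coefficients of `H`
  have hgrow : ∀ k y, MvPolynomial.eval y D ≠ 0 →
      ‖MvPolynomial.eval y (H.coeff k)‖ ^ n ≤ (2 ^ (m * n) * C0 ^ m) * (1 + ‖y‖) ^ (N0 * m) := by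
    intro k y hy
    have hy1 : (1 : ℝ) ≤ 1 + ‖y‖ := by linarith [norm_nonneg y]
    set R := C0 * (1 + ‖y‖) ^ N0 with hR
    have hR1 : 1 ≤ R := by
      calc (1 : ℝ) = 1 * 1 := by ring
        _ ≤ C0 * (1 + ‖y‖) ^ N0 := mul_le_mul hC0 (one_le_pow₀ hy1) zero_le_one (by linarith)
    set Bd := R ^ ((n : ℝ)⁻¹) with hBd
    have hBd1 : 1 ≤ Bd := Real.one_le_rpow hR1 (by positivity)
    have hBdn : Bd ^ n = R := Real.rpow_inv_natCast_pow (by linarith) (by omega)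
    have hα : ∀ α ∈ S y, ‖α‖ ≤ Bd := by
      intro α hα
      obtain ⟨x, hxy, rfl⟩ := (hSmem y α).mp hα
      have h1 : ‖v x‖ ^ n = ‖x u‖ := by rw [← norm_pow, hvn]
      have h2 : ‖x u‖ ≤ R := by
        have := hrootg (proj φ x) (x u) (hrootu x)
        rwa [hxy] at this
      exact le_of_pow_le_pow_left₀ hnpos.ne' (by linarith) (by rw [h1, hBdn]; exact h2)
    have h1 := norm_coeff_prod_le (S y) Bd hBd1 hα k
    rw [← hHmap y hy, coeff_map] at h1
    have h2 : (2 * Bd) ^ (S y).card ≤ (2 * Bd) ^ m :=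
      pow_le_pow_right₀ (by linarith) (hScard y)
    calc ‖MvPolynomial.eval y (H.coeff k)‖ ^ n ≤ ((2 * Bd) ^ m) ^ n :=
          pow_le_pow_left₀ (norm_nonneg _) (h1.trans h2) n
      _ = 2 ^ (m * n) * (Bd ^ n) ^ m := by
          rw [← pow_mul, mul_pow, ← pow_mul, mul_comm n m]
      _ = (2 ^ (m * n) * C0 ^ m) * (1 + ‖y‖) ^ (N0 * m) := by
          rw [hBdn, hR, mul_pow, ← pow_mul]
          ring
  have hconst : ∀ k y, MvPolynomial.eval y D ≠ 0 →
      MvPolynomial.eval y (H.coeff k) = MvPolynomial.eval 0 (H.coeff k) := fun k y hy =>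
    eval_eq_of_pow_growth (H.coeff k) D n (N0 * m) (by omega) _ (hgrow k) y hy
  -- the finite set of values
  set R₀ : Finset ℂ := (H.map (MvPolynomial.eval (0 : Fin d → ℂ))).roots.toFinset with hR₀
  have hSeq : ∀ y, MvPolynomial.eval y D ≠ 0 → S y = R₀ := by
    intro y hy
    have h1 : H.map (MvPolynomial.eval y) = H.map (MvPolynomial.eval (0 : Fin d → ℂ)) := by
      ext k
      rw [coeff_map, coeff_map]
      exact hconst k y hy
    rw [hR₀, ← h1, hHmap y hy, roots_prod_X_sub_C, Finset.val_toFinset]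
  set F₀ : Finset ℂ := R₀.image (fun α => α ^ n) with hF₀
  have hval : ∀ x : B →ₐ[ℂ] ℂ, MvPolynomial.eval (proj φ x) D ≠ 0 → x u ∈ F₀ := by
    intro x hx
    rw [hF₀, Finset.mem_image]
    refine ⟨v x, ?_, hvn x⟩
    rw [← hSeq _ hx]
    exact (hSmem _ _).mpr ⟨x, rfl, rfl⟩
  -- the algebraic conclusion
  set f : B := (∏ c ∈ F₀, (u - algebraMap ℂ B c)) * φ D with hf
  have hfx : ∀ x : B →ₐ[ℂ] ℂ, x f = 0 := by
    intro x
    rw [hf, map_mul, apply_φ]
    by_cases hx : MvPolynomial.eval (proj φ x) D = 0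
    · rw [hx, mul_zero]
    · rw [map_prod, Finset.prod_eq_zero (hval x hx), zero_mul]
      rw [map_sub, AlgHom.commutes]
      simp
  intro x y
  have hf0 : f = 0 := by
    by_contra hne
    obtain ⟨x', hx', -⟩ := Groth.Agent.Lib.Helper21.AnPts.core_open f hne x Set.univ isOpen_univ
      (Set.mem_univ _)
    exact hx' (hfx x')
  have hφD : φ D ≠ 0 := by
    intro h0
    exact hDne (hφi (h0.trans (map_zero φ).symm))
  have hprod : ∏ c ∈ F₀, (u - algebraMap ℂ B c) = 0 := (mul_eq_zero.mp hf0).resolve_right hφD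
  obtain ⟨c, -, hc⟩ := Finset.prod_eq_zero_iff.mp hprod
  have hu : u = algebraMap ℂ B c := sub_eq_zero.mp hc
  rw [hu, AlgHom.commutes, AlgHom.commutes]

end Groth.Agent.Lib.Helper21.AnNull
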