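import Groth.Agent.Lib.Helper21.AnNull2
import Groth.Agent.Lib.Helper21.AnConnMain
import Mathlib.Topology.Homotopy.Lifting
import Mathlib.Analysis.Complex.CoveringMap

/-!
# Null-homotopic units on a connected complex variety are constant

* `exists_log`: a null-homotopic map to `ℂ^×` has a continuous logarithm.
* `evTop_eq_of_le_ker`: on an affine scheme of finite type over ℂ, a global function with a
  continuous logarithm on the ℂ-points is constant on the ℂ-points of an irreducible closed subset.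
* `evTop_eq_of_mem_closure`: the same on any scheme locally of finite type over ℂ.
* `evTop_eq_of_log`: on a connected scheme of finite type over ℂ, a global function with a
  continuous logarithm on the ℂ-points takes the same value at all ℂ-points.
-/

set_option autoImplicit false
open CategoryTheory AlgebraicGeometry Topology TopologicalSpace Filter
open An

namespace Groth.Agent.Lib.Helper21.AnPts

open Groth.Agent.Lib.Helper21.AnDensity Groth.Agent.Lib.Helper21.AnConn
  Groth.Agent.Lib.Helper21.AnNull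

/-- a null-homotopic map to `ℂ^×` has a continuous logarithm -/
theorem exists_log {A : Type*} [TopologicalSpace A] (φ : C(A, {z : ℂ // z ≠ 0}))
    (z₀ : {z : ℂ // z ≠ 0}) (hnull : φ.Homotopic (ContinuousMap.const A z₀)) :
    ∃ ℓ : A → ℂ, Continuous ℓ ∧ ∀ a, Complex.exp (ℓ a) = (φ a).1 := by
  obtain ⟨H⟩ := hnull.symm
  have cov := Complex.isCoveringMap_exp
  set w₀ : ℂ := Complex.log z₀.1 with hw₀
  have hw₀e : Complex.exp w₀ = z₀.1 := Complex.exp_log z₀.2
  have H_0 : ∀ a, (H : C(unitInterval × A, {z : ℂ // z ≠ 0})) (0, a) =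
      (⟨_, (ContinuousMap.const A w₀ a).exp_ne_zero⟩ : {z : ℂ // z ≠ 0}) := by
    intro a
    apply Subtype.ext
    have := H.map_zero_left a
    simp only [ContinuousMap.const_apply] at this ⊢
    rw [hw₀e]
    exact congrArg Subtype.val this
  set L := cov.liftHomotopy (H : C(unitInterval × A, {z : ℂ // z ≠ 0}))
    (ContinuousMap.const A w₀) H_0 with hL
  refine ⟨fun a => L (1, a), L.continuous.comp (by fun_prop), fun a => ?_⟩
  have h1 := congrFun (cov.liftHomotopy_lifts (H : C(unitInterval × A, {z : ℂ // z ≠ 0}))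
    (ContinuousMap.const A w₀) H_0) (1, a)
  have h2 := H.map_one_left a
  simp only [Function.comp_apply] at h1
  have h3 := congrArg Subtype.val h1
  simp only at h3
  rw [hL, h3]
  exact congrArg Subtype.val h2

variable {X : Scheme.{0}} [X.Over SC]

lemma evTop_map {Y : Scheme.{0}} [Y.Over SC] (g : X ⟶ Y) [g.IsOver SC] (x : Pts X)
    (f : Γ(Y, ⊤)) : (Pts.map g x).evTop f = x.evTop (g.appTop f) := by
  rw [evTop_eq, evTop_eq, Pts.map_val, Scheme.Hom.comp_appTop]
  rfl

/-- on an affine scheme of finite type over ℂ, a global function with a continuous logarithm on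
the ℂ-points is constant on the ℂ-points of an irreducible closed subset -/
theorem evTop_eq_of_le_ker [IsAffine X] [LocallyOfFiniteType (X ↘ SC)]
    (p : Ideal Γ(X, ⊤)) [hp : p.IsPrime] (u : Γ(X, ⊤)) (ℓ : Pts X → ℂ) (hℓc : Continuous ℓ)
    (hℓ : ∀ x : Pts X, Complex.exp (ℓ x) = x.evTop u) (x y : Pts X)
    (hx : p ≤ RingHom.ker (evHom x ⊤ (Opens.mem_top _)))
    (hy : p ≤ RingHom.ker (evHom y ⊤ (Opens.mem_top _))) : x.evTop u = y.evTop u := by
  classical
  let _ : Algebra ℂ Γ(X, ⊤) := (strHom X).toAlgebra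
  have hft : Algebra.FiniteType ℂ Γ(X, ⊤) := finiteType_strHom (X := X)
  have hftB : Algebra.FiniteType ℂ (Γ(X, ⊤) ⧸ p) :=
    Algebra.FiniteType.of_surjective (Ideal.Quotient.mkₐ ℂ p) (Ideal.Quotient.mkₐ_surjective ℂ p)
  have hdom : IsDomain (Γ(X, ⊤) ⧸ p) := Ideal.Quotient.isDomain p
  let r : ((Γ(X, ⊤) ⧸ p) → ℂ) → (Γ(X, ⊤) → ℂ) := fun w a => w (Ideal.Quotient.mk p a)
  have hr : Continuous r := continuous_pi fun a => continuous_apply _
  -- from points of the quotient to points of `X`
  have hup : ∀ x' : (Γ(X, ⊤) ⧸ p) →ₐ[ℂ] ℂ, ∃ x : Pts X, evTopMap X x = r ⇑x' := by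
    intro x'
    let ψ : Γ(X, ⊤) →ₐ[ℂ] ℂ := x'.comp (Ideal.Quotient.mkₐ ℂ p)
    let x'' : Pts X := ofHom (ψ : Γ(X, ⊤) →+* ℂ) (fun c => ψ.commutes c)
    have hx'' : ∀ a, x''.evTop a = x' (Ideal.Quotient.mk p a) := fun a => evTop_ofHom _ _ a
    refine ⟨x'', ?_⟩
    funext a
    exact hx'' a
  -- from points of `X` killing `p` to points of the quotient
  have hdown : ∀ x : Pts X, p ≤ RingHom.ker (evHom x ⊤ (Opens.mem_top _)) →
      ∃ x' : (Γ(X, ⊤) ⧸ p) →ₐ[ℂ] ℂ, evTopMap X x = r ⇑x' := by
    intro x hx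
    let xA : Γ(X, ⊤) →ₐ[ℂ] ℂ :=
      { (evHom x ⊤ (Opens.mem_top _)) with commutes' := fun c => evTop_strHom x c }
    let xB : (Γ(X, ⊤) ⧸ p) →ₐ[ℂ] ℂ := Ideal.Quotient.liftₐ p xA (fun a ha => hx ha)
    refine ⟨xB, ?_⟩
    funext a
    rfl
  choose up hupeq using hup
  have hupev : ∀ (x' : (Γ(X, ⊤) ⧸ p) →ₐ[ℂ] ℂ) (a : Γ(X, ⊤)),
      (up x').evTop a = x' (Ideal.Quotient.mk p a) := fun x' a => congrFun (hupeq x') a
  have key := ring_root_const (B := Γ(X, ⊤) ⧸ p) (Ideal.Quotient.mk p u) (by
    intro n hn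
    refine ⟨fun x' => Complex.exp (ℓ (up x') / n), fun x' => ?_, fun O hO => ?_⟩
    · rw [← Complex.exp_nat_mul, mul_div_cancel₀ _ (Nat.cast_ne_zero.mpr hn.ne'), hℓ, hupev]
    · have hopen : IsOpen {x : Pts X | Complex.exp (ℓ x / n) ∈ O} := by
        apply hO.preimage
        exact Complex.continuous_exp.comp (hℓc.div_const _)
      obtain ⟨W', hW', hW'eq⟩ := isInducing_evTopMap.isOpen_iff.mp hopen
      refine ⟨r ⁻¹' W', hW'.preimage hr, fun x' => ?_⟩
      rw [Set.mem_preimage, ← hupeq x']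
      have : up x' ∈ evTopMap X ⁻¹' W' ↔ up x' ∈ {x : Pts X | Complex.exp (ℓ x / n) ∈ O} := by
        rw [hW'eq]
      exact this)
  obtain ⟨x', hx'⟩ := hdown x hx
  obtain ⟨y', hy'⟩ := hdown y hy
  have h1 : x.evTop u = x' (Ideal.Quotient.mk p u) := congrFun hx' u
  have h2 : y.evTop u = y' (Ideal.Quotient.mk p u) := congrFun hy' u
  rw [h1, h2]
  exact key x' y'

variable [LocallyOfFiniteType (X ↘ SC)]

/-- a global function with a continuous logarithm on the ℂ-points is constant on the ℂ-points of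
`closure {z} ∩ U` for an affine open `U` -/
lemma evTop_eq_of_mem_closure_of_isAffineOpen (u : Γ(X, ⊤)) (ℓ : Pts X → ℂ) (hℓc : Continuous ℓ)
    (hℓ : ∀ x : Pts X, Complex.exp (ℓ x) = x.evTop u) (z : X) (U : X.Opens) (hU : IsAffineOpen U)
    (hzU : z ∈ U) (x y : Pts X) (hx : x.pt ∈ closure {z}) (hy : y.pt ∈ closure {z})
    (hxU : x.pt ∈ U) (hyU : y.pt ∈ U) : x.evTop u = y.evTop u := by
  have : IsAffine (U : Scheme.{0}) := hU
  obtain ⟨x', rfl⟩ := exists_map_ι_eq U x hxU
  obtain ⟨y', rfl⟩ := exists_map_ι_eq U y hyU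
  rw [evTop_map, evTop_map]
  have hspec : ∀ w' : Pts (U : Scheme.{0}), (Pts.map U.ι w').pt ∈ closure {z} →
      (Scheme.toSpecΓ (U : Scheme.{0}) ⟨z, hzU⟩).asIdeal ≤
        RingHom.ker (evHom w' ⊤ (Opens.mem_top _)) := by
    intro w' hw'
    rw [← specializes_pt_iff]
    rw [← specializes_iff_mem_closure, Pts.pt_map] at hw'
    exact U.ι.isOpenEmbedding.isInducing.specializes_iff.mp hw'
  refine evTop_eq_of_le_ker (X := (U : Scheme.{0}))
    (Scheme.toSpecΓ (U : Scheme.{0}) ⟨z, hzU⟩).asIdeal (U.ι.appTop u)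
    (fun w' => ℓ (Pts.map U.ι w')) (hℓc.comp (Pts.continuous_map U.ι)) (fun w' => ?_) x' y'
    (hspec x' hx) (hspec y' hy)
  rw [hℓ, evTop_map]

/-- a global function with a continuous logarithm on the ℂ-points is constant on the ℂ-points of
an irreducible closed subset -/
theorem evTop_eq_of_mem_closure (u : Γ(X, ⊤)) (ℓ : Pts X → ℂ) (hℓc : Continuous ℓ)
    (hℓ : ∀ x : Pts X, Complex.exp (ℓ x) = x.evTop u) (z : X) (x y : Pts X)
    (hx : x.pt ∈ closure {z}) (hy : y.pt ∈ closure {z}) : x.evTop u = y.evTop u := by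
  obtain ⟨U, hU, hxU⟩ := exists_affine_nhd x.pt
  obtain ⟨V, hV, hyV⟩ := exists_affine_nhd y.pt
  have hzU : z ∈ U := (specializes_iff_mem_closure.mpr hx).mem_open U.2 hxU
  have hzV : z ∈ V := (specializes_iff_mem_closure.mpr hy).mem_open V.2 hyV
  have hlc : IsLocallyClosed (closure {z} ∩ ((U ⊓ V : X.Opens) : Set X)) :=
    isClosed_closure.isLocallyClosed.inter (U ⊓ V).2.isLocallyClosed
  obtain ⟨w, hw⟩ := exists_pt_mem_of_isLocallyClosed _ hlc ⟨z, subset_closure rfl, hzU, hzV⟩
  rw [evTop_eq_of_mem_closure_of_isAffineOpen u ℓ hℓc hℓ z U hU hzU x w hx hw.1 hxU hw.2.1,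
    evTop_eq_of_mem_closure_of_isAffineOpen u ℓ hℓc hℓ z V hV hzV w y hw.1 hy hw.2.2 hyV]

/-- on a connected scheme of finite type over ℂ, a global function with a continuous logarithm on
the ℂ-points takes the same value at all ℂ-points -/
theorem evTop_eq_of_log [QuasiCompact (X ↘ SC)] [ConnectedSpace X] (u : Γ(X, ⊤))
    (ℓ : Pts X → ℂ) (hℓc : Continuous ℓ) (hℓ : ∀ x : Pts X, Complex.exp (ℓ x) = x.evTop u)
    (x y : Pts X) : x.evTop u = y.evTop u := by
  classical
  have hln := isLocallyNoetherian (X := X)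
  have hcpt : CompactSpace X := QuasiCompact.compactSpace_of_compactSpace (X ↘ SC)
  have hnoeth : IsNoetherian X := { }
  have hfin : (irreducibleComponents X).Finite := NoetherianSpace.finite_irreducibleComponents
  have hconn : ConnectedSpace (Pts X) := connectedSpace_pts
  -- continuity of `u` on points
  have hcont : Continuous fun x : Pts X => x.evTop u := by
    have : (fun x : Pts X => x.evTop u) = fun x => Complex.exp (ℓ x) := by
      funext x
      exact (hℓ x).symm
    rw [this]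
    exact Complex.continuous_exp.comp hℓc
  -- the finite set of values
  let val : Set X → ℂ := fun Z =>
    if h : ∃ w : Pts X, w.pt ∈ Z then (Classical.choose h).evTop u else 0
  have hmaps : Set.MapsTo (fun x : Pts X => x.evTop u) Set.univ (val '' irreducibleComponents X) := by
    intro w _
    refine ⟨irreducibleComponent w.pt, irreducibleComponent_mem_irreducibleComponents _, ?_⟩
    have hex : ∃ w' : Pts X, w'.pt ∈ irreducibleComponent w.pt := ⟨w, mem_irreducibleComponent⟩
    change (if h : ∃ w' : Pts X, w'.pt ∈ irreducibleComponent w.pt then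
      (Classical.choose h).evTop u else 0) = w.evTop u
    rw [dif_pos hex]
    obtain ⟨z, hz⟩ := QuasiSober.sober (isIrreducible_irreducibleComponent (x := w.pt))
      isClosed_irreducibleComponent
    have hzcl : closure {z} = irreducibleComponent w.pt := hz
    apply evTop_eq_of_mem_closure u ℓ hℓc hℓ z
    · rw [hzcl]
      exact Classical.choose_spec hex
    · rw [hzcl]
      exact mem_irreducibleComponent
  exact isPreconnected_univ.constant_of_mapsTo (hfin.image val).isDiscrete hcont.continuousOn hmaps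
    (Set.mem_univ x) (Set.mem_univ y)

end Groth.Agent.Lib.Helper21.AnPts
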