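import Mathlib

/-!
# H⁰ of a flat family over a local Artinian ring (abstract part)

An abstract dévissage lemma: for a diagram of flat modules `A i` over a local Artinian ring `C`
with distinguished elements `u i`, if "constants mod `m`" are exactly `C ⧸ m`, then compatible
families are exactly `C`.
-/

namespace Groth.Agent.Lib.Helper21.ArtinH0

open TensorProduct

section KF

variable {C : Type*} [CommRing C] [IsLocalRing C]

lemma map_mem_smul_top {M N : Type*} [AddCommGroup M] [Module C M] [AddCommGroup N] [Module C N]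
    (f : M →ₗ[C] N) (I : Ideal C) {y : M} (hy : y ∈ (I • ⊤ : Submodule C M)) :
    f y ∈ (I • ⊤ : Submodule C N) := by
  refine Submodule.smul_induction_on hy (fun r hr n _ => ?_) (fun x y hx hy => ?_)
  · rw [map_smul]; exact Submodule.smul_mem_smul hr trivial
  · rw [map_add]; exact add_mem hx hy

lemma smul_mem_smul_top_of_mem {M : Type*} [AddCommGroup M] [Module C M]
    (I J : Ideal C) (t : C) (hIt : ∀ x ∈ I, x * t ∈ J) {y : M}
    (hy : y ∈ (I • ⊤ : Submodule C M)) : t • y ∈ (J • ⊤ : Submodule C M) := by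
  refine Submodule.smul_induction_on hy (fun r hr n _ => ?_) (fun x y hx hy => ?_)
  · rw [smul_smul, mul_comm]; exact Submodule.smul_mem_smul (hIt r hr) trivial
  · rw [smul_add]; exact add_mem hx hy

/-- Key flatness fact. -/
lemma mem_smul_top_of_smul_mem {A : Type*} [AddCommGroup A] [Module C A] [Module.Flat C A]
    (J : Ideal C) (t : C) (ht : t ∉ J)
    (hmt : ∀ x ∈ IsLocalRing.maximalIdeal C, x * t ∈ J)
    (a : A) (ha : t • a ∈ (J • ⊤ : Submodule C A)) :
    a ∈ (IsLocalRing.maximalIdeal C • ⊤ : Submodule C A) := by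
  set m := IsLocalRing.maximalIdeal C with hm
  let ψ : (C ⧸ m) →ₗ[C] (C ⧸ J) :=
    Submodule.liftQ m ((Submodule.mkQ J).comp (LinearMap.toSpanSingleton C C t)) (by
      intro x hx
      simp only [LinearMap.mem_ker, LinearMap.coe_comp, Function.comp_apply,
        LinearMap.toSpanSingleton_apply, Submodule.mkQ_apply, smul_eq_mul]
      exact (Submodule.Quotient.mk_eq_zero _).mpr (hmt x hx))
  have hψ : Function.Injective ψ := by
    rw [← LinearMap.ker_eq_bot]
    apply Submodule.ker_liftQ_eq_bot
    intro x hx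
    simp only [LinearMap.mem_ker, LinearMap.coe_comp, Function.comp_apply,
      LinearMap.toSpanSingleton_apply, Submodule.mkQ_apply, smul_eq_mul] at hx
    have hx' : x * t ∈ J := (Submodule.Quotient.mk_eq_zero _).mp hx
    by_contra hxm
    have hu : IsUnit x := IsLocalRing.notMem_maximalIdeal.mp hxm
    obtain ⟨v, rfl⟩ := hu
    apply ht
    have : t = (↑v⁻¹ : C) * (↑v * t) := by rw [← mul_assoc, Units.inv_mul, one_mul]
    rw [this]
    exact Ideal.mul_mem_left _ _ hx'
  have hinj := Module.Flat.rTensor_preserves_injective_linearMap (M := A) ψ hψ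
  have hzero : ∀ y ∈ (J • ⊤ : Submodule C A), (Ideal.Quotient.mk J 1) ⊗ₜ[C] y = 0 := by
    intro y hy
    refine Submodule.smul_induction_on hy (fun r hr n _ => ?_) (fun x y hx hy => ?_)
    · rw [← TensorProduct.smul_tmul]
      have : r • (Ideal.Quotient.mk J 1) = 0 := by
        rw [map_one, Algebra.smul_def, mul_one, Ideal.Quotient.algebraMap_eq]
        exact Ideal.Quotient.eq_zero_iff_mem.mpr hr
      rw [this, TensorProduct.zero_tmul]
    · rw [TensorProduct.tmul_add, hx, hy, add_zero]
  have h1 : ψ.rTensor A ((Ideal.Quotient.mk m 1) ⊗ₜ[C] a) = 0 := by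
    rw [LinearMap.rTensor_tmul]
    have : ψ (Ideal.Quotient.mk m 1) = t • (Ideal.Quotient.mk J 1) := by
      change (Submodule.mkQ J) ((LinearMap.toSpanSingleton C C t) 1) = _
      rw [LinearMap.toSpanSingleton_apply, one_smul, map_one, Algebra.smul_def, mul_one,
        Ideal.Quotient.algebraMap_eq]
      rfl
    rw [this, TensorProduct.smul_tmul]
    exact hzero _ ha
  have h2 : (Ideal.Quotient.mk m 1) ⊗ₜ[C] a = 0 := hinj (by rw [h1, map_zero])
  have h3 := congrArg (TensorProduct.quotTensorEquivQuotSMul A m) h2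
  rw [TensorProduct.quotTensorEquivQuotSMul_mk_tmul, map_zero, one_smul] at h3
  exact (Submodule.Quotient.mk_eq_zero _).mp h3

end KF

section Main

variable {C : Type*} [CommRing C] [IsLocalRing C] [IsArtinianRing C]

/-- Abstract dévissage (module version). -/
theorem main_module {ι E : Type*} (A : ι → Type*) [∀ i, AddCommGroup (A i)]
    [∀ i, Module C (A i)] [∀ i, Module.Flat C (A i)] (u : ∀ i, A i) (src tgt : E → ι)
    (ρ : ∀ e, A (src e) →ₗ[C] A (tgt e)) (hρu : ∀ e, ρ e (u (src e)) = u (tgt e))
    (H1 : ∀ a : ∀ i, A i,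
      (∀ e, ρ e (a (src e)) - a (tgt e) ∈
        (IsLocalRing.maximalIdeal C • ⊤ : Submodule C (A (tgt e)))) →
      ∃ c : C, ∀ i, a i - c • u i ∈ (IsLocalRing.maximalIdeal C • ⊤ : Submodule C (A i)))
    (H2 : ∀ c : C, (∀ i, c • u i ∈ (IsLocalRing.maximalIdeal C • ⊤ : Submodule C (A i))) →
      c ∈ IsLocalRing.maximalIdeal C) :
    (∀ s : ∀ i, A i, (∀ e, ρ e (s (src e)) = s (tgt e)) → ∃ c : C, ∀ i, s i = c • u i) ∧
      (∀ c : C, (∀ i, c • u i = 0) → c = 0) := by
  set m := IsLocalRing.maximalIdeal C with hm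
  have key : ∀ I : Ideal C,
      (∀ s : ∀ i, A i, (∀ e, ρ e (s (src e)) = s (tgt e)) →
        (∀ i, s i ∈ (I • ⊤ : Submodule C (A i))) → ∃ c ∈ I, ∀ i, s i = c • u i) ∧
      (∀ c ∈ I, (∀ i, c • u i = 0) → c = 0) := by
    intro I
    induction I using WellFoundedLT.induction with
    | ind I ih =>
    by_cases hI : I = ⊥
    · subst hI
      refine ⟨fun s _ hs => ⟨0, Submodule.zero_mem _, fun i => ?_⟩, fun c hc _ => by simpa using hc⟩
      have := hs i
      rw [Submodule.bot_smul, Submodule.mem_bot] at this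
      rw [this, zero_smul]
    · have hN : IsNoetherianRing C := inferInstance
      obtain ⟨J, hJI, hJmax⟩ := (wellFounded_gt (α := Ideal C)).has_min {J : Ideal C | J < I}
        ⟨⊥, bot_lt_iff_ne_bot.mpr hI⟩
      have hJI' : J < I := hJI
      obtain ⟨t, htI, htJ⟩ := SetLike.exists_of_lt hJI'
      have hmax : ∀ J' : Ideal C, J ≤ J' → J' ≤ I → J' = J ∨ J' = I := by
        intro J' h1 h2
        by_cases h3 : J' = I
        · exact Or.inr h3
        · left
          have h4 : J' < I := lt_of_le_of_ne h2 h3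
          have h5 := hJmax J' h4
          exact (eq_of_le_of_not_lt h1 h5).symm
      have hsup : J ⊔ Ideal.span {t} = I := by
        rcases hmax (J ⊔ Ideal.span {t}) le_sup_left
          (sup_le hJI'.le ((Ideal.span_singleton_le_iff_mem _).mpr htI)) with h | h
        · exfalso; apply htJ
          rw [← h]
          exact Ideal.mem_sup_right (Ideal.mem_span_singleton_self t)
        · exact h
      have hmt : ∀ x ∈ m, x * t ∈ J := by
        intro x hx
        rcases hmax (J ⊔ Ideal.span {x * t}) le_sup_left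
          (sup_le hJI'.le ((Ideal.span_singleton_le_iff_mem _).mpr
            (Ideal.mul_mem_left _ _ htI))) with h | h
        · rw [← h]
          exact Ideal.mem_sup_right (Ideal.mem_span_singleton_self _)
        · exfalso
          have ht' : t ∈ J ⊔ Ideal.span {x * t} := h ▸ htI
          obtain ⟨j, hj, z, hz, hjz⟩ := Submodule.mem_sup.mp ht'
          obtain ⟨r, rfl⟩ := Ideal.mem_span_singleton'.mp hz
          have hu : IsUnit (1 - r * x) := by
            apply IsLocalRing.notMem_maximalIdeal.mp
            intro h1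
            have : (1 : C) ∈ m := by
              have := add_mem h1 (Ideal.mul_mem_left m r hx)
              simpa using this
            exact (Ideal.ne_top_iff_one m).mp (IsLocalRing.maximalIdeal.isMaximal C).ne_top this
          obtain ⟨v, hv⟩ := hu
          apply htJ
          have e1 : (1 - r * x) * t = j := by
            linear_combination (-1 : C) * hjz
          have : t = (↑v⁻¹ : C) * j := by
            rw [← e1, ← hv, ← mul_assoc, Units.inv_mul, one_mul]
          rw [this]
          exact Ideal.mul_mem_left _ _ hj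
      obtain ⟨ihA, ihB⟩ := ih J hJI'
      refine ⟨fun s hs hsI => ?_, fun c hcI hc => ?_⟩
      · -- part (a)
        have hex : ∀ i, ∃ a : A i, s i - t • a ∈ (J • ⊤ : Submodule C (A i)) := by
          intro i
          have h1 := hsI i
          rw [← hsup, Submodule.sup_smul] at h1
          obtain ⟨y, hy, z, hz, hyz⟩ := Submodule.mem_sup.mp h1
          rw [Submodule.ideal_span_singleton_smul] at hz
          obtain ⟨b, -, hb⟩ := Submodule.mem_smul_pointwise_iff_exists _ _ _ |>.mp hz
          refine ⟨b, ?_⟩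
          rw [hb, ← hyz, add_sub_cancel_right]
          exact hy
        choose a ha using hex
        have hcomp : ∀ e, ρ e (a (src e)) - a (tgt e) ∈ (m • ⊤ : Submodule C (A (tgt e))) := by
          intro e
          apply mem_smul_top_of_smul_mem J t htJ hmt
          have h1 : t • (ρ e (a (src e)) - a (tgt e)) =
              (s (tgt e) - t • a (tgt e)) - ρ e (s (src e) - t • a (src e)) := by
            rw [map_sub, map_smul, hs e, smul_sub]; abel
          rw [h1]
          exact sub_mem (ha _) (map_mem_smul_top (ρ e) J (ha _))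
        obtain ⟨c, hc⟩ := H1 a hcomp
        have hs' : ∀ i, s i - (t * c) • u i ∈ (J • ⊤ : Submodule C (A i)) := by
          intro i
          have h1 : s i - (t * c) • u i = (s i - t • a i) + t • (a i - c • u i) := by
            rw [smul_sub, smul_smul]; abel
          rw [h1]
          exact add_mem (ha i) (smul_mem_smul_top_of_mem m J t hmt (hc i))
        obtain ⟨c', hc'J, hc'⟩ := ihA (fun i => s i - (t * c) • u i) (fun e => by
          simp only [map_sub, map_smul, hs e, hρu e]) hs'
        refine ⟨t * c + c', add_mem (Ideal.mul_mem_right _ _ htI) (hJI'.le hc'J), fun i => ?_⟩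
        rw [add_smul, ← hc' i]; abel
      · -- part (b)
        have hc' : c ∈ J ⊔ Ideal.span {t} := hsup ▸ hcI
        obtain ⟨j, hj, z, hz, hjz⟩ := Submodule.mem_sup.mp hc'
        obtain ⟨x, rfl⟩ := Ideal.mem_span_singleton'.mp hz
        have hxm : x ∈ m := by
          apply H2
          intro i
          apply mem_smul_top_of_smul_mem J t htJ hmt
          have h1 : t • x • u i = - (j • u i) := by
            rw [smul_smul, mul_comm]
            have := hc i
            rw [← hjz, add_smul] at this
            exact (neg_eq_of_add_eq_zero_right this).symm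
          rw [h1]
          exact neg_mem (Submodule.smul_mem_smul hj trivial)
        have hcJ : c ∈ J := by
          rw [← hjz]
          exact add_mem hj (hmt x hxm)
        exact ihB c hcJ hc
  obtain ⟨kA, kB⟩ := key ⊤
  refine ⟨fun s hs => ?_, fun c hc => kB c trivial hc⟩
  obtain ⟨c, -, hc⟩ := kA s hs (fun i => by rw [Submodule.top_smul]; trivial)
  exact ⟨c, hc⟩

/-- Abstract dévissage (ring hom version). -/
theorem main_ring {ι E : Type*} (A : ι → Type*) [∀ i, CommRing (A i)]
    (φ : ∀ i, C →+* A i) (hφ : ∀ i, (φ i).Flat) (src tgt : E → ι)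
    (ρ : ∀ e, A (src e) →+* A (tgt e)) (hρ : ∀ e, (ρ e).comp (φ (src e)) = φ (tgt e))
    (H1 : ∀ a : ∀ i, A i,
      (∀ e, ρ e (a (src e)) - a (tgt e) ∈ (IsLocalRing.maximalIdeal C).map (φ (tgt e))) →
      ∃ c : C, ∀ i, a i - φ i c ∈ (IsLocalRing.maximalIdeal C).map (φ i))
    (H2 : ∀ c : C, (∀ i, φ i c ∈ (IsLocalRing.maximalIdeal C).map (φ i)) →
      c ∈ IsLocalRing.maximalIdeal C) :
    (∀ s : ∀ i, A i, (∀ e, ρ e (s (src e)) = s (tgt e)) → ∃ c : C, ∀ i, s i = φ i c) ∧
      (∀ c : C, (∀ i, φ i c = 0) → c = 0) := by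
  letI : ∀ i, Algebra C (A i) := fun i => (φ i).toAlgebra
  have hflat : ∀ i, Module.Flat C (A i) := fun i => hφ i
  have hρ' : ∀ e c, ρ e (φ (src e) c) = φ (tgt e) c := fun e c =>
    congrFun (congrArg DFunLike.coe (hρ e)) c
  let ρ' : ∀ e, A (src e) →ₗ[C] A (tgt e) := fun e =>
    { toFun := ρ e
      map_add' := map_add _
      map_smul' := fun c x => by
        simp only [Algebra.smul_def, map_mul, RingHom.id_apply]
        congr 1
        exact hρ' e c }
  have hmem : ∀ i (y : A i), y ∈ (IsLocalRing.maximalIdeal C • ⊤ : Submodule C (A i)) ↔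
      y ∈ (IsLocalRing.maximalIdeal C).map (φ i) := by
    intro i y
    rw [Ideal.smul_top_eq_map]; rfl
  have hsm : ∀ i (c : C), c • (1 : A i) = φ i c := fun i c => by
    rw [Algebra.smul_def, mul_one]; rfl
  obtain ⟨k1, k2⟩ := main_module A (fun i => 1) src tgt ρ' (fun e => map_one (ρ e))
    (fun a ha => by
      obtain ⟨c, hc⟩ := H1 a (fun e => (hmem _ _).mp (ha e))
      exact ⟨c, fun i => (hmem _ _).mpr (by rw [hsm]; exact hc i)⟩)
    (fun c hc => H2 c (fun i => by rw [← hsm]; exact (hmem _ _).mp (hc i)))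
  refine ⟨fun s hs => ?_, fun c hc => k2 c (fun i => by rw [hsm]; exact hc i)⟩
  obtain ⟨c, hc⟩ := k1 s hs
  exact ⟨c, fun i => by rw [hc i, hsm]⟩

end Main

end Groth.Agent.Lib.Helper21.ArtinH0
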