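import Groth.Agent.Lib.Helper21.ArtinH0

/-!
# Abstract dévissage over a local Artinian ring, relative to a module `B`

Generalisation of `ArtinH0.main_module`: compatible families in a diagram of flat `C`-modules
`A i` are exactly the images of elements of a `C`-module `B`, provided this holds modulo `m`.
-/

namespace Groth.Agent.Lib.Helper21.ArtinH0

open TensorProduct

lemma exists_sub_smul_mem {C : Type*} [CommRing C] {N : Type*} [AddCommGroup N] [Module C N]
    (I J : Ideal C) (t : C) (hsup : J ⊔ Ideal.span {t} = I) (y : N)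
    (h1 : y ∈ (I • ⊤ : Submodule C N)) : ∃ a : N, y - t • a ∈ (J • ⊤ : Submodule C N) := by
  rw [← hsup, Submodule.sup_smul] at h1
  obtain ⟨y', hy', z, hz, hyz⟩ := Submodule.mem_sup.mp h1
  rw [Submodule.ideal_span_singleton_smul] at hz
  obtain ⟨b, -, hb⟩ := Submodule.mem_smul_pointwise_iff_exists _ _ _ |>.mp hz
  refine ⟨b, ?_⟩
  rw [hb, ← hyz, add_sub_cancel_right]
  exact hy'

section MainGen

variable {C : Type*} [CommRing C] [IsLocalRing C] [IsArtinianRing C]

/-- Abstract dévissage (module version, relative to `B`). -/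
theorem main_module_gen {ι E : Type*} (B : Type*) [AddCommGroup B] [Module C B]
    (A : ι → Type*) [∀ i, AddCommGroup (A i)]
    [∀ i, Module C (A i)] [∀ i, Module.Flat C (A i)] (u : ∀ i, B →ₗ[C] A i) (src tgt : E → ι)
    (ρ : ∀ e, A (src e) →ₗ[C] A (tgt e)) (hρu : ∀ e b, ρ e (u (src e) b) = u (tgt e) b)
    (H1 : ∀ a : ∀ i, A i,
      (∀ e, ρ e (a (src e)) - a (tgt e) ∈
        (IsLocalRing.maximalIdeal C • ⊤ : Submodule C (A (tgt e)))) →
      ∃ b : B, ∀ i, a i - u i b ∈ (IsLocalRing.maximalIdeal C • ⊤ : Submodule C (A i)))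
    (H2 : ∀ b : B, (∀ i, u i b ∈ (IsLocalRing.maximalIdeal C • ⊤ : Submodule C (A i))) →
      b ∈ (IsLocalRing.maximalIdeal C • ⊤ : Submodule C B)) :
    (∀ s : ∀ i, A i, (∀ e, ρ e (s (src e)) = s (tgt e)) → ∃ b : B, ∀ i, s i = u i b) ∧
      (∀ b : B, (∀ i, u i b = 0) → b = 0) := by
  set m := IsLocalRing.maximalIdeal C with hm
  have key : ∀ I : Ideal C,
      (∀ s : ∀ i, A i, (∀ e, ρ e (s (src e)) = s (tgt e)) →
        (∀ i, s i ∈ (I • ⊤ : Submodule C (A i))) →
          ∃ b ∈ (I • ⊤ : Submodule C B), ∀ i, s i = u i b) ∧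
      (∀ b ∈ (I • ⊤ : Submodule C B), (∀ i, u i b = 0) → b = 0) := by
    intro I
    induction I using WellFoundedLT.induction with
    | ind I ih =>
    by_cases hI : I = ⊥
    · subst hI
      refine ⟨fun s _ hs => ⟨0, Submodule.zero_mem _, fun i => ?_⟩, fun b hb _ => ?_⟩
      · have := hs i
        rw [Submodule.bot_smul, Submodule.mem_bot] at this
        rw [this, map_zero]
      · rw [Submodule.bot_smul, Submodule.mem_bot] at hb
        exact hb
    · have hN : IsNoetherianRing C := inferInstance
      obtain ⟨J, hJI, hJmax⟩ := (wellFounded_gt (α := Ideal C)).has_min {J : Ideal C | J < I}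
        ⟨⊥, bot_lt_iff_ne_bot.mpr hI⟩
      have hJI' : J < I := hJI
      obtain ⟨t, htI, htJ⟩ := SetLike.exists_of_lt hJI'
      have hmax : ∀ J' : Ideal C, J ≤ J' → J' ≤ I → J' = J ∨ J' = I := by
        intro J' h1 h2
        by_cases h3 : J' = I
        · exact Or.inr h3
        · left
          have h4 : J' < I := lt_of_le_of_ne h2 h3
          have h5 := hJmax J' h4
          exact (eq_of_le_of_not_lt h1 h5).symm
      have hsup : J ⊔ Ideal.span {t} = I := by
        rcases hmax (J ⊔ Ideal.span {t}) le_sup_left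
          (sup_le hJI'.le ((Ideal.span_singleton_le_iff_mem _).mpr htI)) with h | h
        · exfalso; apply htJ
          rw [← h]
          exact Ideal.mem_sup_right (Ideal.mem_span_singleton_self t)
        · exact h
      have hmt : ∀ x ∈ m, x * t ∈ J := by
        intro x hx
        rcases hmax (J ⊔ Ideal.span {x * t}) le_sup_left
          (sup_le hJI'.le ((Ideal.span_singleton_le_iff_mem _).mpr
            (Ideal.mul_mem_left _ _ htI))) with h | h
        · rw [← h]
          exact Ideal.mem_sup_right (Ideal.mem_span_singleton_self _)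
        · exfalso
          have ht' : t ∈ J ⊔ Ideal.span {x * t} := h ▸ htI
          obtain ⟨j, hj, z, hz, hjz⟩ := Submodule.mem_sup.mp ht'
          obtain ⟨r, rfl⟩ := Ideal.mem_span_singleton'.mp hz
          have hu : IsUnit (1 - r * x) := by
            apply IsLocalRing.notMem_maximalIdeal.mp
            intro h1
            have : (1 : C) ∈ m := by
              have := add_mem h1 (Ideal.mul_mem_left m r hx)
              simpa using this
            exact (Ideal.ne_top_iff_one m).mp (IsLocalRing.maximalIdeal.isMaximal C).ne_top this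
          obtain ⟨v, hv⟩ := hu
          apply htJ
          have e1 : (1 - r * x) * t = j := by
            linear_combination (-1 : C) * hjz
          have : t = (↑v⁻¹ : C) * j := by
            rw [← e1, ← hv, ← mul_assoc, Units.inv_mul, one_mul]
          rw [this]
          exact Ideal.mul_mem_left _ _ hj
      obtain ⟨ihA, ihB⟩ := ih J hJI'
      refine ⟨fun s hs hsI => ?_, fun b hbI hb => ?_⟩
      · -- part (a)
        have hex : ∀ i, ∃ a : A i, s i - t • a ∈ (J • ⊤ : Submodule C (A i)) :=
          fun i => exists_sub_smul_mem I J t hsup (s i) (hsI i)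
        choose a ha using hex
        have hcomp : ∀ e, ρ e (a (src e)) - a (tgt e) ∈ (m • ⊤ : Submodule C (A (tgt e))) := by
          intro e
          apply mem_smul_top_of_smul_mem J t htJ hmt
          have h1 : t • (ρ e (a (src e)) - a (tgt e)) =
              (s (tgt e) - t • a (tgt e)) - ρ e (s (src e) - t • a (src e)) := by
            rw [map_sub, map_smul, hs e, smul_sub]; abel
          rw [h1]
          exact sub_mem (ha _) (map_mem_smul_top (ρ e) J (ha _))
        obtain ⟨b₁, hb₁⟩ := H1 a hcomp
        have hs' : ∀ i, s i - u i (t • b₁) ∈ (J • ⊤ : Submodule C (A i)) := by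
          intro i
          have h1 : s i - u i (t • b₁) = (s i - t • a i) + t • (a i - u i b₁) := by
            rw [smul_sub, map_smul]; abel
          rw [h1]
          exact add_mem (ha i) (smul_mem_smul_top_of_mem m J t hmt (hb₁ i))
        obtain ⟨b', hb'J, hb'⟩ := ihA (fun i => s i - u i (t • b₁)) (fun e => by
          simp only [map_sub, hs e, hρu e]) hs'
        refine ⟨t • b₁ + b', add_mem (Submodule.smul_mem_smul htI trivial)
          (Submodule.smul_mono_left hJI'.le hb'J), fun i => ?_⟩
        rw [map_add, ← hb' i]; abel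
      · -- part (b)
        obtain ⟨b', hb'⟩ := exists_sub_smul_mem I J t hsup b hbI
        have hxm : b' ∈ (m • ⊤ : Submodule C B) := by
          apply H2
          intro i
          apply mem_smul_top_of_smul_mem J t htJ hmt
          have h1 : t • u i b' = - u i (b - t • b') := by
            rw [map_sub, hb i, map_smul]; abel
          rw [h1]
          exact neg_mem (map_mem_smul_top (u i) J hb')
        have hbJ : b ∈ (J • ⊤ : Submodule C B) := by
          have h1 : b = (b - t • b') + t • b' := by abel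
          rw [h1]
          exact add_mem hb' (smul_mem_smul_top_of_mem m J t hmt hxm)
        exact ihB b hbJ hb
  obtain ⟨kA, kB⟩ := key ⊤
  refine ⟨fun s hs => ?_, fun b hb => kB b (by rw [Submodule.top_smul]; trivial) hb⟩
  obtain ⟨b, -, hb⟩ := kA s hs (fun i => by rw [Submodule.top_smul]; trivial)
  exact ⟨b, hb⟩

/-- Abstract dévissage (ring hom version, relative to `B`). -/
theorem main_ring_gen {ι E : Type*} (B : Type*) [CommRing B] (ψ : C →+* B)
    (A : ι → Type*) [∀ i, CommRing (A i)]
    (φ : ∀ i, C →+* A i) (hφ : ∀ i, (φ i).Flat) (u : ∀ i, B →+* A i)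
    (hu : ∀ i, (u i).comp ψ = φ i) (src tgt : E → ι)
    (ρ : ∀ e, A (src e) →+* A (tgt e)) (hρ : ∀ e, (ρ e).comp (u (src e)) = u (tgt e))
    (H1 : ∀ a : ∀ i, A i,
      (∀ e, ρ e (a (src e)) - a (tgt e) ∈ (IsLocalRing.maximalIdeal C).map (φ (tgt e))) →
      ∃ b : B, ∀ i, a i - u i b ∈ (IsLocalRing.maximalIdeal C).map (φ i))
    (H2 : ∀ b : B, (∀ i, u i b ∈ (IsLocalRing.maximalIdeal C).map (φ i)) →
      b ∈ (IsLocalRing.maximalIdeal C).map ψ) :
    (∀ s : ∀ i, A i, (∀ e, ρ e (s (src e)) = s (tgt e)) → ∃ b : B, ∀ i, s i = u i b) ∧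
      (∀ b : B, (∀ i, u i b = 0) → b = 0) := by
  let _ : Algebra C B := ψ.toAlgebra
  let _ : ∀ i, Algebra C (A i) := fun i => (φ i).toAlgebra
  have hflat : ∀ i, Module.Flat C (A i) := fun i => hφ i
  have hu' : ∀ i c, u i (ψ c) = φ i c := fun i c =>
    congrFun (congrArg DFunLike.coe (hu i)) c
  have hρ' : ∀ e b, ρ e (u (src e) b) = u (tgt e) b := fun e b =>
    congrFun (congrArg DFunLike.coe (hρ e)) b
  let u' : ∀ i, B →ₗ[C] A i := fun i =>
    { toFun := u i
      map_add' := map_add _
      map_smul' := fun c x => by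
        simp only [Algebra.smul_def, map_mul, RingHom.id_apply]
        congr 1
        exact hu' i c }
  let ρ' : ∀ e, A (src e) →ₗ[C] A (tgt e) := fun e =>
    { toFun := ρ e
      map_add' := map_add _
      map_smul' := fun c x => by
        simp only [Algebra.smul_def, map_mul, RingHom.id_apply]
        congr 1
        change ρ e (φ (src e) c) = φ (tgt e) c
        rw [← hu', hρ', hu'] }
  have hmem : ∀ i (y : A i), y ∈ (IsLocalRing.maximalIdeal C • ⊤ : Submodule C (A i)) ↔
      y ∈ (IsLocalRing.maximalIdeal C).map (φ i) := by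
    intro i y
    rw [Ideal.smul_top_eq_map]; rfl
  have hmemB : ∀ (y : B), y ∈ (IsLocalRing.maximalIdeal C • ⊤ : Submodule C B) ↔
      y ∈ (IsLocalRing.maximalIdeal C).map ψ := by
    intro y
    rw [Ideal.smul_top_eq_map]; rfl
  exact main_module_gen B A u' src tgt ρ' hρ'
    (fun a ha => by
      obtain ⟨b, hb⟩ := H1 a (fun e => (hmem _ _).mp (ha e))
      exact ⟨b, fun i => (hmem _ _).mpr (hb i)⟩)
    (fun b hb => (hmemB b).mpr (H2 b (fun i => (hmem _ _).mp (hb i))))

end MainGen

end Groth.Agent.Lib.Helper21.ArtinH0
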