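import Groth.Agent.Lib.Helper21.ArtinH0

/-!
# H⁰ of a flat family over a local Artinian ring (scheme part)
-/

universe u
open CategoryTheory AlgebraicGeometry Opposite TopologicalSpace

namespace Groth.Agent.Lib.Helper21.ArtinH0

section Sch

variable {C : Type u} [CommRing C] {X X₀ : Scheme.{u}}
  (g : X ⟶ Spec (CommRingCat.of C))

/-- The structure map `C → Γ(X, U)`. -/
noncomputable def phiU (U : X.Opens) : C →+* Γ(X, U) :=
  ((Scheme.ΓSpecIso (CommRingCat.of C)).inv ≫ g.appLE ⊤ U le_top).hom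

lemma phiU_top : phiU g ⊤ = ((Scheme.ΓSpecIso (CommRingCat.of C)).inv ≫ g.appTop).hom := by
  simp [phiU, Scheme.Hom.appLE]

lemma res_comp_phiU {U V : X.Opens} (h : V ≤ U) :
    (X.presheaf.map (homOfLE h).op).hom.comp (phiU g U) = phiU g V := by
  rw [phiU, phiU, ← CommRingCat.hom_comp, Category.assoc, Scheme.Hom.appLE_map]

lemma res_phiU {U V : X.Opens} (h : V ≤ U) (c : C) :
    (X.presheaf.map (homOfLE h).op).hom (phiU g U c) = phiU g V c :=
  congrFun (congrArg DFunLike.coe (res_comp_phiU g h)) c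

lemma flat_phiU [Flat g] {U : X.Opens} (hU : IsAffineOpen U) : (phiU g U).Flat := by
  rw [phiU, CommRingCat.hom_comp]
  exact RingHom.Flat.comp
    (RingHom.Flat.of_bijective (ConcreteCategory.bijective_of_isIso _))
    (g.flat_appLE (isAffineOpen_top _) hU _)

lemma appLE_congr_hom {S : Scheme.{u}} {a b : X₀ ⟶ S} (h : a = b) (U : S.Opens) (V : X₀.Opens)
    (e : V ≤ a ⁻¹ᵁ U) : a.appLE U V e = b.appLE U V (h ▸ e) := by
  subst h; rfl

variable (I : Ideal C) (i : X₀ ⟶ X) (f₀ : X₀ ⟶ Spec (CommRingCat.of (C ⧸ I)))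

lemma app_comp_phiU
    (w : i ≫ g = f₀ ≫ Spec.map (CommRingCat.ofHom (Ideal.Quotient.mk I))) (U : X.Opens) :
    (i.app U).hom.comp (phiU g U) = (phiU f₀ (i ⁻¹ᵁ U)).comp (Ideal.Quotient.mk I) := by
  have h1 : g.appLE ⊤ U le_top ≫ i.app U =
      (Spec.map (CommRingCat.ofHom (Ideal.Quotient.mk I))).app ⊤ ≫
        f₀.appLE ⊤ (i ⁻¹ᵁ U) le_top := by
    rw [Scheme.Hom.app_eq_appLE, Scheme.Hom.appLE_comp_appLE, appLE_congr_hom w]
    exact Scheme.Hom.comp_appLE f₀ _ _ _ _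
  have h2 : (Scheme.ΓSpecIso (CommRingCat.of C)).inv ≫ g.appLE ⊤ U le_top ≫ i.app U =
      CommRingCat.ofHom (Ideal.Quotient.mk I) ≫
        (Scheme.ΓSpecIso (CommRingCat.of (C ⧸ I))).inv ≫ f₀.appLE ⊤ (i ⁻¹ᵁ U) le_top := by
    rw [h1, Scheme.ΓSpecIso_inv_naturality_assoc]
    rfl
  refine RingHom.ext fun c => ?_
  exact congrArg (fun k => k.hom c) h2

lemma app_phiU
    (w : i ≫ g = f₀ ≫ Spec.map (CommRingCat.ofHom (Ideal.Quotient.mk I))) (U : X.Opens) (c : C) :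
    (i.app U).hom (phiU g U c) = phiU f₀ (i ⁻¹ᵁ U) (Ideal.Quotient.mk I c) :=
  congrFun (congrArg DFunLike.coe (app_comp_phiU g I i f₀ w U)) c

lemma app_eq_zero_of_mem
    (w : i ≫ g = f₀ ≫ Spec.map (CommRingCat.ofHom (Ideal.Quotient.mk I))) (U : X.Opens)
    {x : Γ(X, U)} (hx : x ∈ I.map (phiU g U)) : (i.app U).hom x = 0 := by
  have : I.map (phiU g U) ≤ RingHom.ker (i.app U).hom := by
    rw [Ideal.map_le_iff_le_comap]
    intro c hc
    rw [Ideal.mem_comap, RingHom.mem_ker, app_phiU g I i f₀ w U c,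
      Ideal.Quotient.eq_zero_iff_mem.mpr hc, map_zero]
  exact this hx

lemma mem_of_app_eq_zero
    (hsq : IsPullback i f₀ g (Spec.map (CommRingCat.ofHom (Ideal.Quotient.mk I))))
    {U : X.Opens} (hU : IsAffineOpen U) {x : Γ(X, U)} (hx : (i.app U).hom x = 0) :
    x ∈ I.map (phiU g U) := by
  have hUY : i ⁻¹ᵁ U = i ⁻¹ᵁ U ⊓ f₀ ⁻¹ᵁ ⊤ := by simp
  have hiso := isIso_pushoutSection_of_isAffineOpen hsq (US := ⊤) (UT := ⊤) (UX := U)
    le_top le_top hUY (isAffineOpen_top _) (isAffineOpen_top _) hU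
  have hp := (isIso_pushoutSection_iff hsq le_top le_top hUY).mp hiso
  let Q := CommRingCat.of (Γ(X, U) ⧸ I.map (phiU g U))
  let inl' : Γ(X, U) ⟶ Q := CommRingCat.ofHom (Ideal.Quotient.mk _)
  let lift : C ⧸ I →+* Γ(X, U) ⧸ I.map (phiU g U) :=
    Ideal.Quotient.lift I ((Ideal.Quotient.mk _).comp (phiU g U))
      (fun c hc => Ideal.Quotient.eq_zero_iff_mem.mpr (Ideal.mem_map_of_mem _ hc))
  let inr' : Γ(Spec (CommRingCat.of (C ⧸ I)), ⊤) ⟶ Q :=
    (Scheme.ΓSpecIso (CommRingCat.of (C ⧸ I))).hom ≫ CommRingCat.ofHom lift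
  have w : g.appLE ⊤ U le_top ≫ inl' =
      (Spec.map (CommRingCat.ofHom (Ideal.Quotient.mk I))).appLE ⊤ ⊤ le_top ≫ inr' := by
    rw [← cancel_epi (Scheme.ΓSpecIso (CommRingCat.of C)).inv]
    have e1 : (Spec.map (CommRingCat.ofHom (Ideal.Quotient.mk I))).appLE ⊤ ⊤ le_top =
        (Spec.map (CommRingCat.ofHom (Ideal.Quotient.mk I))).appTop := by
      simp [Scheme.Hom.appLE]
    rw [e1]
    simp only [inr', ← Scheme.ΓSpecIso_inv_naturality_assoc, Iso.inv_hom_id_assoc]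
    ext c
    change Ideal.Quotient.mk _ (phiU g U c) = lift (Ideal.Quotient.mk I c)
    rw [Ideal.Quotient.lift_mk]
    rfl
  have h1 := hp.inl_desc inl' inr' w
  have h2 : Ideal.Quotient.mk (I.map (phiU g U)) x = 0 := by
    have h3 : (hp.desc inl' inr' w).hom ((i.appLE U (i ⁻¹ᵁ U) (by simp)).hom x) = inl'.hom x :=
      congrArg (fun k => k.hom x) h1
    have h4 : (i.appLE U (i ⁻¹ᵁ U) (by simp)).hom x = 0 := by
      rw [show i.appLE U (i ⁻¹ᵁ U) (by simp) = i.app U from (Scheme.Hom.app_eq_appLE i).symm]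
      exact hx
    rw [h4, map_zero] at h3
    exact h3.symm
  exact Ideal.Quotient.eq_zero_iff_mem.mp h2

lemma top_le_iSup_preimage_affineOpens :
    (⊤ : X₀.Opens) ≤ ⨆ U : X.affineOpens, i ⁻¹ᵁ U.1 := by
  intro x _
  have hx : i.base x ∈ (⨆ U : X.affineOpens, (U : X.Opens)) := by
    rw [iSup_affineOpens_eq_top]; trivial
  rw [Opens.mem_iSup] at hx ⊢
  obtain ⟨U, hU⟩ := hx
  exact ⟨U, hU⟩

lemma res_res {Y : Scheme.{u}} {U V W : Y.Opens} (h1 : V ≤ U) (h2 : W ≤ V) (s : Γ(Y, U)) :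
    (Y.presheaf.map (homOfLE h2).op).hom ((Y.presheaf.map (homOfLE h1).op).hom s) =
      (Y.presheaf.map (homOfLE (h2.trans h1)).op).hom s := by
  rw [← RingHom.comp_apply, ← CommRingCat.hom_comp, ← Functor.map_comp]
  rfl

lemma app_res {U V : X.Opens} (h : V ≤ U) (s : Γ(X, U)) :
    (i.app V).hom ((X.presheaf.map (homOfLE h).op).hom s) =
      (X₀.presheaf.map (homOfLE (show i ⁻¹ᵁ V ≤ i ⁻¹ᵁ U from
        fun _ hx => h hx)).op).hom ((i.app U).hom s) := by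
  have := i.naturality (homOfLE h).op
  exact congrArg (fun k => k.hom s) this

end Sch

section Main

variable {C : Type u} [CommRing C] [IsLocalRing C] [IsArtinianRing C] {X X₀ : Scheme.{u}}
  (g : X ⟶ Spec (CommRingCat.of C)) [Flat g] (i : X₀ ⟶ X)
  (f₀ : X₀ ⟶ Spec (CommRingCat.of (C ⧸ IsLocalRing.maximalIdeal C)))

theorem bijective_phiU_top
    (hsq : IsPullback i f₀ g
      (Spec.map (CommRingCat.ofHom (Ideal.Quotient.mk (IsLocalRing.maximalIdeal C)))))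
    (h0 : Function.Bijective (phiU f₀ ⊤)) : Function.Bijective (phiU g ⊤) := by
  have w := hsq.w
  -- zero test on X₀
  have hzero : ∀ σ : Γ(X₀, ⊤), (∀ U : X.affineOpens,
      (X₀.presheaf.map (homOfLE (le_top : i ⁻¹ᵁ U.1 ≤ ⊤)).op).hom σ = 0) → σ = 0 := by
    intro σ hσ
    refine X₀.sheaf.eq_of_locally_eq' (fun U : X.affineOpens => i ⁻¹ᵁ U.1) ⊤
      (fun U => homOfLE le_top) (top_le_iSup_preimage_affineOpens i) σ 0 (fun U => ?_)
    exact (hσ U).trans (map_zero _).symm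
  have H1 : ∀ a : ∀ U : X.affineOpens, Γ(X, U.1),
      (∀ e : {p : X.affineOpens × X.affineOpens // p.2.1 ≤ p.1.1},
        (X.presheaf.map (homOfLE e.2).op).hom (a e.1.1) - a e.1.2 ∈
          (IsLocalRing.maximalIdeal C).map (phiU g e.1.2.1)) →
      ∃ c : C, ∀ U : X.affineOpens,
        a U - phiU g U.1 c ∈ (IsLocalRing.maximalIdeal C).map (phiU g U.1) := by
    intro a ha
    let b : ∀ U : X.affineOpens, Γ(X₀, i ⁻¹ᵁ U.1) := fun U => (i.app U.1).hom (a U)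
    have hb : ∀ (U V : X.affineOpens) (h : V.1 ≤ U.1),
        (X₀.presheaf.map (homOfLE (show i ⁻¹ᵁ V.1 ≤ i ⁻¹ᵁ U.1 from
          fun _ hx => h hx)).op).hom (b U) = b V := by
      intro U V h
      rw [← app_res i h (a U)]
      have h1 := app_eq_zero_of_mem g _ i f₀ w V.1 (ha ⟨(U, V), h⟩)
      rw [map_sub, sub_eq_zero] at h1
      exact h1
    have hcompat : TopCat.Presheaf.IsCompatible X₀.sheaf.1 (fun U : X.affineOpens => i ⁻¹ᵁ U.1)
        b := by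
      intro U U'
      refine X₀.sheaf.eq_of_locally_eq'
        (fun W : {W : X.affineOpens // W.1 ≤ U.1 ⊓ U'.1} => i ⁻¹ᵁ W.1.1)
        (i ⁻¹ᵁ U.1 ⊓ i ⁻¹ᵁ U'.1)
        (fun W => homOfLE (show i ⁻¹ᵁ W.1.1 ≤ i ⁻¹ᵁ U.1 ⊓ i ⁻¹ᵁ U'.1 from
          fun _ hx => ⟨(W.2 hx).1, (W.2 hx).2⟩)) ?_ _ _ (fun W => ?_)
      · intro x hx
        have hx' : i.base x ∈ U.1 ⊓ U'.1 := hx
        obtain ⟨W, hW, hxW, hWU⟩ := Opens.isBasis_iff_nbhd.mp X.isBasis_affineOpens hx'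
        rw [Opens.mem_iSup]
        exact ⟨⟨⟨W, hW⟩, hWU⟩, hxW⟩
      · have e1 := hb U W.1 (W.2.trans inf_le_left)
        have e2 := hb U' W.1 (W.2.trans inf_le_right)
        have e3 := res_res (Y := X₀) (U := i ⁻¹ᵁ U.1) (V := i ⁻¹ᵁ U.1 ⊓ i ⁻¹ᵁ U'.1)
          (W := i ⁻¹ᵁ W.1.1) inf_le_left (fun _ hx => ⟨(W.2 hx).1, (W.2 hx).2⟩) (b U)
        have e4 := res_res (Y := X₀) (U := i ⁻¹ᵁ U'.1) (V := i ⁻¹ᵁ U.1 ⊓ i ⁻¹ᵁ U'.1)
          (W := i ⁻¹ᵁ W.1.1) inf_le_right (fun _ hx => ⟨(W.2 hx).1, (W.2 hx).2⟩) (b U')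
        exact (e3.trans e1).trans (e4.trans e2).symm
    obtain ⟨β, hβ, -⟩ := X₀.sheaf.existsUnique_gluing' (fun U : X.affineOpens => i ⁻¹ᵁ U.1) ⊤
      (fun U => homOfLE le_top) (top_le_iSup_preimage_affineOpens i) b hcompat
    obtain ⟨cbar, hcbar⟩ := h0.surjective β
    obtain ⟨c, rfl⟩ := Ideal.Quotient.mk_surjective cbar
    refine ⟨c, fun U => ?_⟩
    apply mem_of_app_eq_zero g _ i f₀ hsq U.2
    rw [map_sub, sub_eq_zero, app_phiU g _ i f₀ w U.1 c,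
      ← res_phiU f₀ (le_top : i ⁻¹ᵁ U.1 ≤ ⊤), hcbar]
    exact (hβ U).symm
  have H2 : ∀ c : C, (∀ U : X.affineOpens,
      phiU g U.1 c ∈ (IsLocalRing.maximalIdeal C).map (phiU g U.1)) →
      c ∈ IsLocalRing.maximalIdeal C := by
    intro c hc
    have h1 : phiU f₀ ⊤ (Ideal.Quotient.mk _ c) = 0 := by
      apply hzero
      intro U
      rw [res_phiU f₀ (le_top : i ⁻¹ᵁ U.1 ≤ ⊤), ← app_phiU g _ i f₀ w U.1 c]
      exact app_eq_zero_of_mem g _ i f₀ w U.1 (hc U)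
    have h2 : Ideal.Quotient.mk (IsLocalRing.maximalIdeal C) c = 0 :=
      h0.injective (h1.trans (map_zero _).symm)
    exact Ideal.Quotient.eq_zero_iff_mem.mp h2
  obtain ⟨k1, k2⟩ := main_ring (C := C) (ι := X.affineOpens)
    (E := {p : X.affineOpens × X.affineOpens // p.2.1 ≤ p.1.1})
    (fun U => Γ(X, U.1)) (fun U => phiU g U.1) (fun U => flat_phiU g U.2)
    (fun e => e.1.1) (fun e => e.1.2) (fun e => (X.presheaf.map (homOfLE e.2).op).hom)
    (fun e => res_comp_phiU g e.2) H1 H2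
  constructor
  · rw [injective_iff_map_eq_zero]
    intro c hc
    apply k2
    intro U
    rw [← res_phiU g (le_top : U.1 ≤ ⊤), hc, map_zero]
  · intro s
    obtain ⟨c, hc⟩ := k1 (fun U => (X.presheaf.map (homOfLE (le_top : U.1 ≤ ⊤)).op).hom s)
      (fun e => res_res _ _ s)
    refine ⟨c, ?_⟩
    refine X.sheaf.eq_of_locally_eq' (fun U : X.affineOpens => U.1) ⊤
      (fun U => homOfLE le_top) (by rw [iSup_affineOpens_eq_top]) _ _ (fun U => ?_)
    exact (res_phiU g (le_top : U.1 ≤ ⊤) c).trans (hc U).symm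

end Main

end Groth.Agent.Lib.Helper21.ArtinH0
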