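import Groth.Agent.Lib.Helper21.ArtinH0Gen
import Groth.Agent.Lib.Helper21.ArtinH0Sch
import Groth.Agent.Lib.Helper9.ReflNormal4
import Groth.Agent.Lib.Helper25.Hartogs
import Groth.Agent.Lib.Helper8.FamCycFlat

/-!
# Hartogs for flat Noetherian algebras over a local Artinian ring with normal special fibre
-/

set_option autoImplicit false
universe u
open CategoryTheory AlgebraicGeometry Opposite TopologicalSpace CategoryTheory.Limits

namespace Groth.Agent.Lib.Helper21.ArtinHartogs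

open Groth.Agent.Lib.Helper21.ArtinH0

section Pushout

variable {C A : Type u} [CommRing C] [CommRing A] [Algebra C A] (I : Ideal C)

lemma isPushout_quotient :
    IsPushout (CommRingCat.ofHom (algebraMap C A)) (CommRingCat.ofHom (Ideal.Quotient.mk I))
      (CommRingCat.ofHom (Ideal.Quotient.mk (I.map (algebraMap C A))))
      (CommRingCat.ofHom (Ideal.quotientMap (I.map (algebraMap C A)) (algebraMap C A)
        Ideal.le_comap_map)) := by
  have hw : CommRingCat.ofHom (algebraMap C A) ≫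
      CommRingCat.ofHom (Ideal.Quotient.mk (I.map (algebraMap C A))) =
      CommRingCat.ofHom (Ideal.Quotient.mk I) ≫
      CommRingCat.ofHom (Ideal.quotientMap (I.map (algebraMap C A)) (algebraMap C A)
        Ideal.le_comap_map) := by
    ext c
    simp
  have hker : ∀ s : PushoutCocone (CommRingCat.ofHom (algebraMap C A))
      (CommRingCat.ofHom (Ideal.Quotient.mk I)),
      ∀ a ∈ I.map (algebraMap C A), s.inl.hom a = 0 := by
    intro s a ha
    have hle : I.map (algebraMap C A) ≤ RingHom.ker s.inl.hom := by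
      rw [Ideal.map_le_iff_le_comap]
      intro c hc
      rw [Ideal.mem_comap, RingHom.mem_ker]
      have h1 : s.inl.hom (algebraMap C A c) = s.inr.hom (Ideal.Quotient.mk I c) :=
        congrArg (fun k => k.hom c) s.condition
      rw [h1, Ideal.Quotient.eq_zero_iff_mem.mpr hc, map_zero]
    exact hle ha
  refine ⟨⟨hw⟩, ⟨PushoutCocone.IsColimit.mk _
    (fun s => CommRingCat.ofHom (Ideal.Quotient.lift _ s.inl.hom (hker s)))
    (fun s => ?_) (fun s => ?_) (fun s m h1 h2 => ?_)⟩⟩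
  · ext a
    simp
  · ext c
    have h1 : s.inl.hom (algebraMap C A c) = s.inr.hom (Ideal.Quotient.mk I c) :=
      congrArg (fun k => k.hom c) s.condition
    change (Ideal.Quotient.lift _ s.inl.hom (hker s))
      (Ideal.quotientMap (I.map (algebraMap C A)) (algebraMap C A) Ideal.le_comap_map
        (Ideal.Quotient.mk I c)) = s.inr.hom (Ideal.Quotient.mk I c)
    rw [Ideal.quotientMap_mk, Ideal.Quotient.lift_mk, h1]
  · ext a
    have h3 : m.hom (Ideal.Quotient.mk _ a) = s.inl.hom a := congrArg (fun k => k.hom a) h1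
    simp [h3]

end Pushout

section Depth

open Groth.Agent.Lib.Helper25.Hartogs Groth.Agent.Lib.Helper16.Depth

lemma depth2_of_normal {R : Type u} [CommRing R] [IsNoetherianRing R]
    (hnorm : Pi1.IsNormalScheme (Spec (CommRingCat.of R)))
    (U₀ : (Spec (CommRingCat.of R)).Opens)
    (h : ∀ p : ↥(Spec (CommRingCat.of R)), p ∉ U₀ → (2 : ℕ∞) ≤ p.asIdeal.height) :
    Depth2 U₀ := by
  intro z hz
  haveI := (hnorm z).1
  haveI := (hnorm z).2
  have hdim : ringKrullDim ((Spec (CommRingCat.of R)).presheaf.stalk z) = z.asIdeal.height :=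
    IsLocalization.AtPrime.ringKrullDim_eq_height z.asIdeal
      ((Spec.structureSheaf R).presheaf.stalk z)
  have h2 : (2 : WithBot ℕ∞) ≤ ringKrullDim ((Spec (CommRingCat.of R)).presheaf.stalk z) := by
    rw [hdim]
    have h3 : ((2 : ℕ∞) : WithBot ℕ∞) ≤ (z.asIdeal.height : WithBot ℕ∞) :=
      WithBot.coe_le_coe.mpr (h z hz)
    exact h3
  obtain ⟨rs, hlen, hreg, hmem⟩ :=
    Groth.Agent.Lib.Helper9.ReflNormal.hasRegSeq_two_of_normal
      ((Spec (CommRingCat.of R)).presheaf.stalk z) h2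
  obtain ⟨x, y, rfl⟩ := List.length_eq_two.mp hlen
  exact ⟨x, hmem x (by simp), y, hmem y (by simp),
    Groth.Agent.Lib.Helper25.Hartogs.reg2_of_isWeaklyRegular hreg⟩

end Depth

section Main

lemma appTop_SpecMap_surjective {R S : Type u} [CommRing R] [CommRing S] (q : R →+* S)
    (hq : Function.Surjective q) :
    Function.Surjective ((Spec.map (CommRingCat.ofHom q)).app ⊤).hom := by
  intro y
  obtain ⟨a, ha⟩ := hq ((Scheme.ΓSpecIso (CommRingCat.of S)).hom.hom y)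
  refine ⟨(Scheme.ΓSpecIso (CommRingCat.of R)).inv.hom a, ?_⟩
  have h1 := congrArg (fun k => k.hom a) (Scheme.ΓSpecIso_inv_naturality (CommRingCat.ofHom q))
  have h2 : ((Spec.map (CommRingCat.ofHom q)).app ⊤).hom
      ((Scheme.ΓSpecIso (CommRingCat.of R)).inv.hom a) =
      (Scheme.ΓSpecIso (CommRingCat.of S)).inv.hom (q a) := h1.symm
  rw [h2, ha]
  exact congrArg (fun k => k.hom y) (Scheme.ΓSpecIso (CommRingCat.of S)).hom_inv_id

theorem restrict_bijective (C : Type u) [CommRing C] [IsLocalRing C] [IsArtinianRing C]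
    (A : Type u) [CommRing A] [IsNoetherianRing A] [Algebra C A] [Module.Flat C A]
    (hnorm : Pi1.IsNormalScheme
      (Spec (CommRingCat.of (A ⧸ (IsLocalRing.maximalIdeal C).map (algebraMap C A)))))
    (U : (Spec (CommRingCat.of A)).Opens)
    (hU : ∀ p : ↥(Spec (CommRingCat.of A)), p ∉ U → (2 : ℕ∞) ≤ p.asIdeal.height) :
    Function.Bijective
      ((Spec (CommRingCat.of A)).presheaf.map (homOfLE (le_top : U ≤ ⊤)).op).hom := by
  let X : Scheme.{u} := Spec (CommRingCat.of A)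
  let X₀ : Scheme.{u} :=
    Spec (CommRingCat.of (A ⧸ (IsLocalRing.maximalIdeal C).map (algebraMap C A)))
  let g : X ⟶ Spec (CommRingCat.of C) := Spec.map (CommRingCat.ofHom (algebraMap C A))
  let i : X₀ ⟶ X := Spec.map (CommRingCat.ofHom
    (Ideal.Quotient.mk ((IsLocalRing.maximalIdeal C).map (algebraMap C A))))
  let f₀ : X₀ ⟶ Spec (CommRingCat.of (C ⧸ IsLocalRing.maximalIdeal C)) :=
    Spec.map (CommRingCat.ofHom (Ideal.quotientMap
      ((IsLocalRing.maximalIdeal C).map (algebraMap C A)) (algebraMap C A) Ideal.le_comap_map))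
  have hsq : IsPullback i f₀ g
      (Spec.map (CommRingCat.ofHom (Ideal.Quotient.mk (IsLocalRing.maximalIdeal C)))) :=
    isPullback_SpecMap_of_isPushout _ _ _ _ (isPushout_quotient (IsLocalRing.maximalIdeal C))
  have w := hsq.w
  haveI : Flat g := Flat.SpecMap_iff.mpr
    (RingHom.flat_algebraMap_iff.mpr (inferInstance : Module.Flat C A))
  -- Hartogs on the special fibre
  have hnil : IsNilpotent (IsLocalRing.maximalIdeal C) := by
    have := IsArtinianRing.isNilpotent_jacobson_bot (R := C)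
    rwa [IsLocalRing.jacobson_eq_maximalIdeal ⊥ bot_ne_top] at this
  have hker : RingHom.ker (Ideal.Quotient.mk
      ((IsLocalRing.maximalIdeal C).map (algebraMap C A))) ≤ nilradical A := by
    rw [Ideal.mk_ker]
    exact Groth.Agent.Lib.Helper8.FamCycFlat.map_maximalIdeal_le_nilradical hnil
  have hD : Groth.Agent.Lib.Helper25.Hartogs.Depth2 (i ⁻¹ᵁ U) := by
    apply depth2_of_normal hnorm
    intro z hz
    have h1 : (2 : ℕ∞) ≤ (i.base z).asIdeal.height := hU (i.base z) hz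
    have h2 := Groth.Agent.Lib.Helper8.FamCycFlat.height_comap_le_of_ker_le_nilradical
      (Ideal.Quotient.mk ((IsLocalRing.maximalIdeal C).map (algebraMap C A)))
      Ideal.Quotient.mk_surjective hker z.asIdeal
    exact h1.trans h2
  have hcpt : IsCompact ((i ⁻¹ᵁ U : X₀.Opens) : Set X₀) :=
    TopologicalSpace.NoetherianSpace.isCompact _
  have hH : Function.Bijective
      (X₀.presheaf.map (homOfLE (le_top : i ⁻¹ᵁ U ≤ ⊤)).op).hom :=
    Groth.Agent.Lib.Helper25.Hartogs.res_bijective hD (isAffineOpen_top X₀) le_top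
      (fun z _ hz => hz) hcpt
  -- covers
  have hcovU : ∀ x ∈ U, ∃ V : {V : X.affineOpens // V.1 ≤ U}, x ∈ V.1.1 := by
    intro x hx
    obtain ⟨W, hW, hxW, hWU⟩ := Opens.isBasis_iff_nbhd.mp X.isBasis_affineOpens hx
    exact ⟨⟨⟨W, hW⟩, hWU⟩, hxW⟩
  have hcov₀ : (i ⁻¹ᵁ U : X₀.Opens) ≤ ⨆ V : {V : X.affineOpens // V.1 ≤ U}, i ⁻¹ᵁ V.1.1 := by
    intro x hx
    obtain ⟨V, hV⟩ := hcovU (i.base x) hx
    rw [Opens.mem_iSup]
    exact ⟨V, hV⟩
  have hzero : ∀ σ : Γ(X₀, i ⁻¹ᵁ U), (∀ V : {V : X.affineOpens // V.1 ≤ U},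
      (X₀.presheaf.map (homOfLE (show i ⁻¹ᵁ V.1.1 ≤ i ⁻¹ᵁ U from
        fun _ hx => V.2 hx)).op).hom σ = 0) → σ = 0 := by
    intro σ hσ
    refine X₀.sheaf.eq_of_locally_eq' (fun V : {V : X.affineOpens // V.1 ≤ U} => i ⁻¹ᵁ V.1.1)
      (i ⁻¹ᵁ U) (fun V => homOfLE (show i ⁻¹ᵁ V.1.1 ≤ i ⁻¹ᵁ U from fun _ hx => V.2 hx))
      hcov₀ σ 0 (fun V => ?_)
    exact (hσ V).trans (map_zero _).symm
  have H1 : ∀ a : ∀ V : {V : X.affineOpens // V.1 ≤ U}, Γ(X, V.1.1),
      (∀ e : {p : {V : X.affineOpens // V.1 ≤ U} × {V : X.affineOpens // V.1 ≤ U} //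
          p.2.1.1 ≤ p.1.1.1},
        (X.presheaf.map (homOfLE e.2).op).hom (a e.1.1) - a e.1.2 ∈
          (IsLocalRing.maximalIdeal C).map (phiU g e.1.2.1.1)) →
      ∃ b : Γ(X, ⊤), ∀ V : {V : X.affineOpens // V.1 ≤ U},
        a V - (X.presheaf.map (homOfLE (le_top : V.1.1 ≤ ⊤)).op).hom b ∈
          (IsLocalRing.maximalIdeal C).map (phiU g V.1.1) := by
    intro a ha
    let b : ∀ V : {V : X.affineOpens // V.1 ≤ U}, Γ(X₀, i ⁻¹ᵁ V.1.1) :=
      fun V => (i.app V.1.1).hom (a V)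
    have hb : ∀ (V W : {V : X.affineOpens // V.1 ≤ U}) (h : W.1.1 ≤ V.1.1),
        (X₀.presheaf.map (homOfLE (show i ⁻¹ᵁ W.1.1 ≤ i ⁻¹ᵁ V.1.1 from
          fun _ hx => h hx)).op).hom (b V) = b W := by
      intro V W h
      rw [← app_res i h (a V)]
      have h1 := app_eq_zero_of_mem g _ i f₀ w W.1.1 (ha ⟨(V, W), h⟩)
      rw [map_sub, sub_eq_zero] at h1
      exact h1
    have hcompat : TopCat.Presheaf.IsCompatible X₀.sheaf.1
        (fun V : {V : X.affineOpens // V.1 ≤ U} => i ⁻¹ᵁ V.1.1) b := by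
      intro V V'
      refine X₀.sheaf.eq_of_locally_eq'
        (fun W : {W : X.affineOpens // W.1 ≤ V.1.1 ⊓ V'.1.1} => i ⁻¹ᵁ W.1.1)
        (i ⁻¹ᵁ V.1.1 ⊓ i ⁻¹ᵁ V'.1.1)
        (fun W => homOfLE (show i ⁻¹ᵁ W.1.1 ≤ i ⁻¹ᵁ V.1.1 ⊓ i ⁻¹ᵁ V'.1.1 from
          fun _ hx => ⟨(W.2 hx).1, (W.2 hx).2⟩)) ?_ _ _ (fun W => ?_)
      · intro x hx
        have hx' : i.base x ∈ V.1.1 ⊓ V'.1.1 := hx
        obtain ⟨W, hW, hxW, hWU⟩ := Opens.isBasis_iff_nbhd.mp X.isBasis_affineOpens hx'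
        rw [Opens.mem_iSup]
        exact ⟨⟨⟨W, hW⟩, hWU⟩, hxW⟩
      · have hWU : W.1.1 ≤ U := (W.2.trans inf_le_left).trans V.2
        have e1 := hb V ⟨W.1, hWU⟩ (W.2.trans inf_le_left)
        have e2 := hb V' ⟨W.1, hWU⟩ (W.2.trans inf_le_right)
        have e3 := res_res (Y := X₀) (U := i ⁻¹ᵁ V.1.1) (V := i ⁻¹ᵁ V.1.1 ⊓ i ⁻¹ᵁ V'.1.1)
          (W := i ⁻¹ᵁ W.1.1) inf_le_left (fun _ hx => ⟨(W.2 hx).1, (W.2 hx).2⟩) (b V)
        have e4 := res_res (Y := X₀) (U := i ⁻¹ᵁ V'.1.1) (V := i ⁻¹ᵁ V.1.1 ⊓ i ⁻¹ᵁ V'.1.1)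
          (W := i ⁻¹ᵁ W.1.1) inf_le_right (fun _ hx => ⟨(W.2 hx).1, (W.2 hx).2⟩) (b V')
        exact (e3.trans e1).trans (e4.trans e2).symm
    obtain ⟨β, hβ, -⟩ := X₀.sheaf.existsUnique_gluing'
      (fun V : {V : X.affineOpens // V.1 ≤ U} => i ⁻¹ᵁ V.1.1) (i ⁻¹ᵁ U)
      (fun V => homOfLE (show i ⁻¹ᵁ V.1.1 ≤ i ⁻¹ᵁ U from fun _ hx => V.2 hx)) hcov₀ b hcompat
    obtain ⟨bbar, hbbar⟩ := hH.surjective β
    obtain ⟨b₁, hb₁⟩ := appTop_SpecMap_surjective (Ideal.Quotient.mk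
      ((IsLocalRing.maximalIdeal C).map (algebraMap C A))) Ideal.Quotient.mk_surjective bbar
    refine ⟨b₁, fun V => ?_⟩
    apply mem_of_app_eq_zero g _ i f₀ hsq V.1.2
    rw [map_sub, sub_eq_zero, app_res i (le_top : V.1.1 ≤ ⊤) b₁]
    have h5 : (i.app ⊤).hom b₁ = bbar := hb₁
    rw [h5]
    have h6 := res_res (Y := X₀) (U := ⊤) (V := i ⁻¹ᵁ U) (W := i ⁻¹ᵁ V.1.1) le_top
      (fun _ hx => V.2 hx) bbar
    have h7 : (X₀.presheaf.map (homOfLE (le_top : i ⁻¹ᵁ U ≤ ⊤)).op).hom bbar = β := hbbar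
    rw [h7] at h6
    exact ((hβ V).symm.trans h6)
  have H2 : ∀ b : Γ(X, ⊤), (∀ V : {V : X.affineOpens // V.1 ≤ U},
      (X.presheaf.map (homOfLE (le_top : V.1.1 ≤ ⊤)).op).hom b ∈
        (IsLocalRing.maximalIdeal C).map (phiU g V.1.1)) →
      b ∈ (IsLocalRing.maximalIdeal C).map (phiU g ⊤) := by
    intro b hb
    apply mem_of_app_eq_zero g _ i f₀ hsq (isAffineOpen_top X)
    have h8 : (X₀.presheaf.map (homOfLE (le_top : i ⁻¹ᵁ U ≤ ⊤)).op).hom ((i.app ⊤).hom b) = 0 := by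
      apply hzero
      intro V
      have h6 := res_res (Y := X₀) (U := ⊤) (V := i ⁻¹ᵁ U) (W := i ⁻¹ᵁ V.1.1) le_top
        (fun _ hx => V.2 hx) ((i.app ⊤).hom b)
      exact h6.trans ((app_res i (le_top : V.1.1 ≤ ⊤) b).symm.trans
        (app_eq_zero_of_mem g _ i f₀ w V.1.1 (hb V)))
    exact hH.injective (h8.trans (map_zero _).symm)
  obtain ⟨k1, k2⟩ := main_ring_gen (C := C) (ι := {V : X.affineOpens // V.1 ≤ U})
    (E := {p : {V : X.affineOpens // V.1 ≤ U} × {V : X.affineOpens // V.1 ≤ U} //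
      p.2.1.1 ≤ p.1.1.1})
    Γ(X, ⊤) (phiU g ⊤)
    (fun V => Γ(X, V.1.1)) (fun V => phiU g V.1.1) (fun V => flat_phiU g V.1.2)
    (fun V => (X.presheaf.map (homOfLE (le_top : V.1.1 ≤ ⊤)).op).hom)
    (fun V => res_comp_phiU g le_top)
    (fun e => e.1.1) (fun e => e.1.2) (fun e => (X.presheaf.map (homOfLE e.2).op).hom)
    (fun e => RingHom.ext fun s => res_res (Y := X) (le_top : e.1.1.1.1 ≤ ⊤) e.2 s) H1 H2
  constructor
  · rw [injective_iff_map_eq_zero]
    intro s hs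
    apply k2
    intro V
    have h6 := res_res (Y := X) (U := ⊤) (V := U) (W := V.1.1) le_top V.2 s
    rw [← h6, hs, map_zero]
  · intro σ
    obtain ⟨b, hb⟩ := k1 (fun V => (X.presheaf.map (homOfLE V.2).op).hom σ)
      (fun e => res_res _ _ σ)
    refine ⟨b, ?_⟩
    refine X.sheaf.eq_of_locally_eq' (fun V : {V : X.affineOpens // V.1 ≤ U} => V.1.1) U
      (fun V => homOfLE V.2) ?_ _ _ (fun V => ?_)
    · intro x hx
      obtain ⟨V, hV⟩ := hcovU x hx
      rw [Opens.mem_iSup]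
      exact ⟨V, hV⟩
    · have h6 := res_res (Y := X) (U := ⊤) (V := U) (W := V.1.1) le_top V.2 b
      exact h6.trans (hb V).symm

end Main

end Groth.Agent.Lib.Helper21.ArtinHartogs
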