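import Groth.Agent.Lib.Helper21.FibDim7
import Groth.Agent.Lib.Helper21.ChartPt7

set_option autoImplicit false
set_option linter.style.haveILetI false
set_option linter.unusedSectionVars false
universe u

open AlgebraicGeometry CategoryTheory Limits TopologicalSpace

namespace Groth.Agent.Lib.Helper21.FibDim

open Groth.Agent.Lib.Helper21.ChartPt Groth.Agent.Lib.Helper21.NagDvr
  Groth.Agent.Lib.Helper20.DimTrdeg

/-- the closure of a point without proper generisations is an irreducible component -/
theorem closure_mem_irreducibleComponents_of_maximal {T : Type*} [TopologicalSpace T]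
    [QuasiSober T] [T0Space T] (y : T) (hmax : ∀ y' : T, y' ⤳ y → y' = y) :
    closure {y} ∈ irreducibleComponents T := by
  refine ⟨isIrreducible_singleton.closure, fun W hW hle => ?_⟩
  have hW' : IsIrreducible (closure W) := hW.closure
  obtain ⟨w, hw⟩ := QuasiSober.sober hW' isClosed_closure
  have hyW : y ∈ closure W := subset_closure (hle (subset_closure rfl))
  have h1 : w ⤳ y := hw.specializes hyW
  have h2 := hmax w h1
  subst h2
  rw [hw.def]
  exact subset_closure

/-- if all irreducible components of the fibre through a maximal point `ξ` have dimension `n`,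
then the local fibre dimension at `ξ` is `n` -/
theorem fibreDimAt_eq_of_components {X S : Scheme.{u}} (f : X ⟶ S) [LocallyOfFiniteType f]
    (ξ : X) (hmax : ∀ x' : X, x' ⤳ ξ → x' = ξ) (n : ℕ)
    (hfib : ∀ Z ∈ irreducibleComponents (f.fiber (f ξ)), topologicalKrullDim Z = n) :
    FlatMor.fibreDimAt f ξ = n := by
  let z : f.fiber (f ξ) := f.asFiber ξ
  have hZ := irreducibleComponent_mem_irreducibleComponents z
  obtain ⟨z'', hz'', hdim, -⟩ := exists_isGenericPoint_fiber f (f ξ) (irreducibleComponent z) hZ
  have h1 : z'' ⤳ z := hz''.specializes mem_irreducibleComponent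
  have h2 : f.fiberι (f ξ) z'' ⤳ f.fiberι (f ξ) z := h1.map (f.fiberι (f ξ)).continuous
  rw [Scheme.Hom.fiberι_asFiber] at h2
  have h3 := hmax _ h2
  rw [h3] at hdim
  rw [← hdim]
  exact hfib _ hZ

section OverField

variable (k : Type u) [Field k] (X Y : Scheme.{u}) [X.Over (Spec (CommRingCat.of k))]
  [Y.Over (Spec (CommRingCat.of k))] [LocallyOfFiniteType (X ↘ Spec (CommRingCat.of k))]
  [LocallyOfFiniteType (Y ↘ Spec (CommRingCat.of k))]

/-- for a flat `k`-morphism, an irreducible component of the source dominates an irreducible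
component of the target and its dimension is the sum of that of the target component and of the
local fibre dimension at its generic point -/
theorem exists_dim_eq_add_of_flat (f : X ⟶ Y)
    (hf : f ≫ (Y ↘ Spec (CommRingCat.of k)) = X ↘ Spec (CommRingCat.of k)) [Flat f]
    [LocallyOfFiniteType f] (ξ : X) (hξ : closure {ξ} ∈ irreducibleComponents X) :
    ∃ b e : ℕ, closure {f ξ} ∈ irreducibleComponents Y ∧
      topologicalKrullDim (closure ({f ξ} : Set Y)) = b ∧ FlatMor.fibreDimAt f ξ = e ∧
      topologicalKrullDim (closure ({ξ} : Set X)) = ((b + e : ℕ) : WithBot ℕ∞) := by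
  have hmax : ∀ x' : X, x' ⤳ ξ → x' = ξ := eq_of_specializes_of_closure_mem ξ hξ
  have hmaxY : ∀ y' : Y, y' ⤳ f ξ → y' = f ξ :=
    fun y' hy' => eq_of_specializes_map_of_flat f ξ hmax y' hy'
  obtain ⟨b, hb⟩ := exists_nat_trdeg k Y (f ξ)
  obtain ⟨e, he1, he2⟩ := fibreDimAt_eq_trdeg_of_maximal' f ξ hmax
  have ha := trdeg_add_of_comp k X Y f hf ξ b e hb he2
  exact ⟨b, e, closure_mem_irreducibleComponents_of_maximal (f ξ) hmaxY,
    topologicalKrullDim_closure_singleton k Y (f ξ) b hb, he1,
    topologicalKrullDim_closure_singleton k X ξ (b + e) ha⟩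

end OverField

end Groth.Agent.Lib.Helper21.FibDim
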