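import Mathlib
import Groth.Agent.Lib.Helper21.FibDim8

/-!
# A section vanishing at a point and at no maximal point of the fibre (prime avoidance)
-/

set_option autoImplicit false
set_option linter.style.haveILetI false
set_option linter.unusedSectionVars false
universe u

open AlgebraicGeometry CategoryTheory Limits TopologicalSpace

namespace Groth.Agent.Lib.Helper21.AvoidMax

variable {X Y : Scheme.{u}}

/-- the maximal points of a fibre lying in an affine open are finite in number -/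
theorem finite_maximal_points_fibre_inter (f : X ⟶ Y) [LocallyOfFiniteType f]
    [QuasiSeparatedSpace Y] (U : X.Opens) (hU : IsAffineOpen U) (y : Y) :
    {z : X | z ∈ U ∧ f.base z = y ∧
      ∀ z' : X, f.base z' = y → z ∈ closure ({z'} : Set X) → z' = z}.Finite := by
  set h := U.ι ≫ f with hh
  haveI : CompactSpace ↥(U : Scheme.{u}) :=
    (isCompact_iff_compactSpace.mp hU.isCompact : CompactSpace (U : Set X))
  haveI : QuasiCompact h := quasiCompact_of_compactSpace h
  haveI hlft : LocallyOfFiniteType (h.fiberToSpecResidueField y) :=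
    MorphismProperty.pullback_snd (P := @LocallyOfFiniteType) _ _ inferInstance
  haveI : IsLocallyNoetherian (h.fiber y) :=
    LocallyOfFiniteType.isLocallyNoetherian (h.fiberToSpecResidueField y)
  haveI : IsNoetherian (h.fiber y) := {}
  have hfin : (irreducibleComponents ↥(h.fiber y)).Finite :=
    NoetherianSpace.finite_irreducibleComponents
  set S := {z : X | z ∈ U ∧ f.base z = y ∧
      ∀ z' : X, f.base z' = y → z ∈ closure ({z'} : Set X) → z' = z} with hS
  -- lift the points of `S` to the fibre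
  have hlift : ∀ z ∈ S, ∃ t : h.fiber y, (U.ι (h.fiberι y t) = z) ∧
      closure ({t} : Set (h.fiber y)) ∈ irreducibleComponents ↥(h.fiber y) := by
    rintro z ⟨hzU, hfz, hzmax⟩
    obtain ⟨t, ht⟩ : (⟨z, hzU⟩ : U) ∈ Set.range (h.fiberι y) := by
      rw [Scheme.Hom.range_fiberι]
      change (U.ι ≫ f) ⟨z, hzU⟩ = y
      rw [Scheme.Hom.comp_apply]
      exact hfz
    refine ⟨t, by rw [ht]; rfl, ?_⟩
    apply Groth.Agent.Lib.Helper21.FibDim.closure_mem_irreducibleComponents_of_maximal
    intro t' ht'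
    have h1 : U.ι (h.fiberι y t') ⤳ U.ι (h.fiberι y t) :=
      (ht'.map (h.fiberι y).continuous).map U.ι.continuous
    have h2 : f (U.ι (h.fiberι y t')) = y := by
      have := (h.fiberHomeo y t').2
      simpa [hh] using this
    have h3 : U.ι (h.fiberι y t) = z := by rw [ht]; rfl
    rw [h3] at h1
    have h4 := hzmax _ h2 (specializes_iff_mem_closure.mp h1)
    apply (h.fiberι y).isEmbedding.injective
    apply U.ι.isEmbedding.injective
    rw [h4, h3]
  choose t ht1 ht2 using hlift
  haveI : Finite ↥(irreducibleComponents ↥(h.fiber y)) := Set.finite_coe_iff.mpr hfin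
  rw [← Set.finite_coe_iff]
  apply Finite.of_injective (fun z : S =>
    (⟨closure {t z.1 z.2}, ht2 z.1 z.2⟩ : irreducibleComponents ↥(h.fiber y)))
  intro z₁ z₂ heq
  have heq' : closure ({t z₁.1 z₁.2} : Set (h.fiber y)) = closure ({t z₂.1 z₂.2} : Set (h.fiber y)) :=
    congrArg Subtype.val heq
  have h5 : t z₁.1 z₁.2 = t z₂.1 z₂.2 := by
    have e1 : t z₁.1 z₁.2 ⤳ t z₂.1 z₂.2 := by
      rw [specializes_iff_mem_closure, heq']
      exact subset_closure rfl
    have e2 : t z₂.1 z₂.2 ⤳ t z₁.1 z₁.2 := by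
      rw [specializes_iff_mem_closure, ← heq']
      exact subset_closure rfl
    exact (e1.antisymm e2).eq
  apply Subtype.ext
  rw [← ht1 z₁.1 z₁.2, ← ht1 z₂.1 z₂.2, h5]

/-- **prime avoidance** on an affine neighbourhood of a point not maximal in its fibre -/
theorem exists_section_avoiding (f : X ⟶ Y) [LocallyOfFiniteType f] [QuasiSeparatedSpace Y]
    (x : X) (hx : ∃ x' : X, f.base x' = f.base x ∧ x' ≠ x ∧ x ∈ closure ({x'} : Set X)) :
    ∃ U : X.Opens, IsAffineOpen U ∧ x ∈ U ∧ ∃ g : Γ(X, U), x ∉ X.basicOpen g ∧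
      ∀ z : X, f.base z = f.base x →
        (∀ z' : X, f.base z' = f.base x → z ∈ closure ({z'} : Set X) → z' = z) →
        z ∈ U → z ∈ X.basicOpen g := by
  classical
  obtain ⟨U, hU, hxU, -⟩ := exists_isAffineOpen_mem_and_subset (U := ⊤) (x := x) (by simp)
  refine ⟨U, hU, hxU, ?_⟩
  have hfin := finite_maximal_points_fibre_inter f U hU (f.base x)
  let P : X → Ideal Γ(X, U) := fun z =>
    if hz : z ∈ U then (hU.primeIdealOf ⟨z, hz⟩).asIdeal else ⊤
  have hP : ∀ z (hz : z ∈ U), P z = (hU.primeIdealOf ⟨z, hz⟩).asIdeal := fun z hz => dif_pos hz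
  have hmem : ∀ (z : X) (hz : z ∈ U) (g : Γ(X, U)), z ∈ X.basicOpen g ↔ g ∉ P z := by
    intro z hz g
    rw [hP z hz, ← PrimeSpectrum.mem_basicOpen, ← hU.fromSpec_preimage_basicOpen]
    change z ∈ X.basicOpen g ↔ hU.fromSpec (hU.primeIdealOf ⟨z, hz⟩) ∈ X.basicOpen g
    rw [hU.fromSpec_primeIdealOf]
  have hnot : ¬ ((P x : Set Γ(X, U)) ⊆ ⋃ i ∈ (↑hfin.toFinset : Set X), (P i : Set Γ(X, U))) := by
    rw [Ideal.subset_union_prime x x]
    · rintro ⟨z, hzS, hle⟩
      rw [Set.Finite.mem_toFinset] at hzS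
      obtain ⟨hzU, hfz, hzmax⟩ := hzS
      rw [hP x hxU, hP z hzU] at hle
      have h1 : hU.primeIdealOf ⟨x, hxU⟩ ⤳ hU.primeIdealOf ⟨z, hzU⟩ :=
        (PrimeSpectrum.le_iff_specializes _ _).mp hle
      have h2 := h1.map hU.fromSpec.continuous
      rw [hU.fromSpec_primeIdealOf, hU.fromSpec_primeIdealOf] at h2
      have h3 : x = z := hzmax x rfl (specializes_iff_mem_closure.mp h2)
      obtain ⟨x', hfx', hne, hcl⟩ := hx
      rw [h3] at hcl
      exact hne ((hzmax x' hfx' hcl).trans h3.symm)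
    · intro i hi _ _
      rw [Set.Finite.mem_toFinset] at hi
      rw [hP i hi.1]
      exact (hU.primeIdealOf ⟨i, hi.1⟩).2
  rw [Set.not_subset] at hnot
  obtain ⟨g, hgx, hgS⟩ := hnot
  refine ⟨g, ?_, ?_⟩
  · rw [hmem x hxU g, not_not]
    exact hgx
  · intro z hfz hzmax hzU
    rw [hmem z hzU g]
    intro hgz
    apply hgS
    simp only [Set.mem_iUnion]
    exact ⟨z, by rw [Finset.mem_coe, Set.Finite.mem_toFinset]; exact ⟨hzU, hfz, hzmax⟩, hgz⟩

end Groth.Agent.Lib.Helper21.AvoidMax
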