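import Groth.Agent.Lib.Helper21.SecAdd
import Groth.Agent.Lib.Helper29.Dual3
import Groth.Prelude.Def_LinSer

/-!
# The base-point-free pencil trick

For an invertible module `D` generated by two global sections `s₁, s₂` and an invertible module `N`,
the kernel of `H⁰(N ⊗ D)² → H⁰(N ⊗ D ⊗ D)`, `(a₁, a₂) ↦ a₂ s₁ - a₁ s₂` is the image of
`H⁰(N) → H⁰(N ⊗ D)²`, `t ↦ (t s₁, t s₂)`.  Hence
`2 h⁰(N ⊗ D) ≤ h⁰(N ⊗ D ⊗ D) + h⁰(N)`.
-/

set_option autoImplicit false
set_option linter.style.haveILetI false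
set_option linter.unusedSectionVars false
universe u
open CategoryTheory CategoryTheory.Limits AlgebraicGeometry TopologicalSpace Opposite

namespace Groth.Agent.Lib.Helper21.BPF

open Groth.Agent.Lib.Helper29.QCoh Groth.Agent.Lib.Lead.LinLES Groth.Agent.Lib.Lead.TwistExact
  Groth.Agent.Lib.Helper21.CDeg

section Glue

variable {X : Scheme.{u}}

/-- `(t ⊗ s) ⊗ s' = (t ⊗ s') ⊗ s` for sections `s, s'` of an invertible module -/
theorem tmulSec_tmulSec_comm {N D : X.Modules} (hD : PicF.IsInvertible D) {W : X.Opens}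
    (t : Γ(N, W)) (s s' : Γ(D, W)) :
    tmulSec (CohB1.tensorMod N D) D (tmulSec N D t s) s' =
      tmulSec (CohB1.tensorMod N D) D (tmulSec N D t s') s := by
  have hcov : ∀ x : W, ∃ (V : X.Opens) (e : Γ(D, V)), (x : X) ∈ V ∧ V ≤ W ∧ IsTriv D V e := by
    intro x
    obtain ⟨V, e, -, hxV, hVW, he⟩ := exists_affine_isTriv hD (W := W) x x.2
    exact ⟨V, e, hxV, hVW, he⟩
  choose V e hxV hVW he using hcov
  refine eq_of_res_cover_eq _ V hVW ?_ _ _ fun x => ?_
  · intro y hy
    exact Opens.mem_iSup.mpr ⟨⟨y, hy⟩, hxV ⟨y, hy⟩⟩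
  · rw [res_tmulSec, res_tmulSec, res_tmulSec, res_tmulSec]
    obtain ⟨a, ha⟩ := (he x).exists_eq_smul (res D (hVW x) s)
    obtain ⟨b, hb⟩ := (he x).exists_eq_smul (res D (hVW x) s')
    rw [ha, hb, tmulSec_smul_right, tmulSec_smul_right, tmulSec_smul_left, tmulSec_smul_right,
      tmulSec_smul_right, tmulSec_smul_left, smul_comm]

/-- **gluing a common quotient**: sections `a i` of `N ⊗ D` with `a j ⊗ s i = a i ⊗ s j`, where
the `s i` generate `D`, are of the form `a i = t ⊗ s i` for one section `t` of `N`. -/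
theorem exists_section_of_relations {N D : X.Modules} [N.IsQuasicoherent]
    [(CohB1.tensorMod N D).IsQuasicoherent]
    (hD : PicF.IsInvertible D)
    {ι : Type*} (s : ι → (unitM X ⟶ D)) (hcov : ∀ x : X, ∃ i, x ∈ CohB1.genLocus D (s i))
    (a : ι → Γ(CohB1.tensorMod N D, ⊤))
    (hrel : ∀ i j, tmulSec (CohB1.tensorMod N D) D (a j) (sval (s i) ⊤) =
      tmulSec (CohB1.tensorMod N D) D (a i) (sval (s j) ⊤)) :
    ∃ t : Γ(N, ⊤), ∀ i, tmulSec N D t (sval (s i) ⊤) = a i := by
  haveI := isQuasicoherent_of_isInvertible hD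
  have hloc : ∀ x : X, ∃ (i : ι) (W : X.Opens) (t : Γ(N, W)), IsAffineOpen W ∧ x ∈ W ∧
      IsTriv D W (sval (s i) W) ∧
      tmulSec N D t (sval (s i) W) = res (CohB1.tensorMod N D) (le_top : W ≤ ⊤) (a i) := by
    intro x
    obtain ⟨i, hi⟩ := hcov x
    obtain ⟨W, hW, hxW, hWle⟩ := exists_isAffineOpen_mem_and_subset (x := x)
      (U := CohB1.genLocus D (s i)) hi
    have hT : IsTriv D W (sval (s i) W) := isTriv_sval_of_le_genLocus (s i) hWle
    obtain ⟨t, ht⟩ := (Dual.tmulSec_bijective_of_isTriv N hW hT).2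
      (res (CohB1.tensorMod N D) (le_top : W ≤ ⊤) (a i))
    exact ⟨i, W, t, hW, hxW, hT, ht⟩
  choose i W t hW hxW hT ht using hloc
  -- the local quotients work for all indices
  have hall : ∀ (x : X) (j : ι), tmulSec N D (t x) (sval (s j) (W x)) =
      res (CohB1.tensorMod N D) (le_top : W x ≤ ⊤) (a j) := by
    intro x j
    apply Dual.tmulSec_injective_of_isTriv (CohB1.tensorMod N D) (hT x)
    change tmulSec (CohB1.tensorMod N D) D (tmulSec N D (t x) (sval (s j) (W x)))
        (sval (s (i x)) (W x)) =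
      tmulSec (CohB1.tensorMod N D) D (res (CohB1.tensorMod N D) (le_top : W x ≤ ⊤) (a j))
        (sval (s (i x)) (W x))
    rw [tmulSec_tmulSec_comm hD, ht x, ← res_sval (s j) (le_top : W x ≤ ⊤),
      ← res_sval (s (i x)) (le_top : W x ≤ ⊤), ← res_tmulSec, ← res_tmulSec, hrel]
  have hcompat : ∀ x y, res N (inf_le_left : W x ⊓ W y ≤ W x) (t x) =
      res N (inf_le_right : W x ⊓ W y ≤ W y) (t y) := by
    intro x y
    apply Dual.tmulSec_injective_of_isTriv N ((hT x).restrict (inf_le_left : W x ⊓ W y ≤ W x))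
    change tmulSec N D (res N inf_le_left (t x)) (res D inf_le_left (sval (s (i x)) (W x))) =
      tmulSec N D (res N inf_le_right (t y)) (res D inf_le_left (sval (s (i x)) (W x)))
    rw [← res_tmulSec, ht x, res_sval, ← res_sval (s (i x)) (inf_le_right : W x ⊓ W y ≤ W y),
      ← res_tmulSec, hall y (i x), res_res, res_res]
  obtain ⟨t', ht'⟩ := exists_gluing N W ⊤ (fun _ => le_top)
    (fun x _ => Opens.mem_iSup.mpr ⟨x, hxW x⟩) t hcompat
  refine ⟨t', fun j => ?_⟩
  refine eq_of_res_cover_eq _ W (fun _ => le_top)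
    (fun x _ => Opens.mem_iSup.mpr ⟨x, hxW x⟩) _ _ fun x => ?_
  rw [res_tmulSec, ht' x, res_sval]
  exact hall x j

end Glue

/-- the tower `N ⊗ M^{⊗ (n+1)}` -/
noncomputable def tower {X : Scheme.{u}} (N M : X.Modules) : ℕ → X.Modules
  | 0 => CohB1.tensorMod N M
  | n + 1 => CohB1.tensorMod (tower N M n) M

section Ineq

variable (k : Type u) [Field k] [IsAlgClosed k] (X : Scheme.{u}) [X.Over (Spec (CommRingCat.of k))]
  [IsIntegral X] [IsProper (X ↘ (Spec (CommRingCat.of k)))]

open Groth.Agent.Lib.Helper21.SecAdd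

/-- **the base-point-free pencil trick**, as an inequality -/
theorem two_mul_finrank_le (N D : X.Modules) (hN : PicF.IsInvertible N) (hD : PicF.IsInvertible D)
    (s₁ s₂ : unitM X ⟶ D)
    (hcov : ∀ x : X, x ∈ CohB1.genLocus D s₁ ∨ x ∈ CohB1.genLocus D s₂) :
    2 * Module.finrank k (Coh.HH X (CohB1.tensorMod N D) 0) ≤
      Module.finrank k (Coh.HH X (CohB1.tensorMod (CohB1.tensorMod N D) D) 0) +
        Module.finrank k (Coh.HH X N 0) := by
  have hM := isInvertible_tensorMod hN hD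
  have hMD := isInvertible_tensorMod hM hD
  haveI := finite_HH_zero k X _ hN
  haveI := finite_HH_zero k X _ hM
  haveI := finite_HH_zero k X _ hMD
  haveI := isQuasicoherent_of_isInvertible hN
  haveI := isQuasicoherent_of_isInvertible hM
  set M := CohB1.tensorMod N D with hMdef
  let s : Bool → (unitM X ⟶ D) := fun b => if b then s₁ else s₂
  let μ : Bool → (Coh.HH X M 0 →ₗ[k] Coh.HH X (CohB1.tensorMod M D) 0) := fun b =>
    Canon.HHlin k (tmulRightHom M (s b)) 0
  let ν : Bool → (Coh.HH X N 0 →ₗ[k] Coh.HH X M 0) := fun b =>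
    Canon.HHlin k (tmulRightHom N (s b)) 0
  let F : (Coh.HH X M 0 × Coh.HH X M 0) →ₗ[k] Coh.HH X (CohB1.tensorMod M D) 0 :=
    (μ true).comp (LinearMap.snd k _ _) - (μ false).comp (LinearMap.fst k _ _)
  let ψ : Coh.HH X N 0 →ₗ[k] (Coh.HH X M 0 × Coh.HH X M 0) := LinearMap.prod (ν true) (ν false)
  have hker : LinearMap.ker F ≤ LinearMap.range ψ := by
    rintro ⟨a₁, a₂⟩ ha
    rw [LinearMap.mem_ker] at ha
    have ha' : μ true a₂ = μ false a₁ := by
      have : μ true a₂ - μ false a₁ = 0 := ha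
      exact sub_eq_zero.mp this
    let α : Bool → Γ(M, ⊤) := fun b => if b then hh0 M a₁ else hh0 M a₂
    have hkey : tmulSec M D (hh0 M a₂) (sval s₁ ⊤) = tmulSec M D (hh0 M a₁) (sval s₂ ⊤) := by
      have := congrArg (hh0 (CohB1.tensorMod M D)) ha'
      rw [hh0_map k (tmulRightHom M (s true)), hh0_map k (tmulRightHom M (s false)),
        tmulRightHom_app, tmulRightHom_app] at this
      exact this
    obtain ⟨t, ht⟩ := exists_section_of_relations (N := N) hD s
      (fun x => by
        rcases hcov x with h | h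
        · exact ⟨true, h⟩
        · exact ⟨false, h⟩) α
      (fun i j => by
        cases i <;> cases j
        · rfl
        · exact hkey.symm
        · exact hkey
        · rfl)
    refine ⟨(hh0 N).symm t, ?_⟩
    have h1 : ∀ b, hh0 M (ν b ((hh0 N).symm t)) = α b := by
      intro b
      rw [hh0_map k (tmulRightHom N (s b)), AddEquiv.apply_symm_apply, tmulRightHom_app]
      exact ht b
    refine Prod.ext ?_ ?_
    · exact (hh0 M).injective (h1 true)
    · exact (hh0 M).injective (h1 false)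
  have h1 := LinearMap.finrank_range_add_finrank_ker F
  rw [Module.finrank_prod] at h1
  have h2 : Module.finrank k (LinearMap.ker F) ≤ Module.finrank k (LinearMap.range ψ) :=
    Submodule.finrank_mono hker
  have h3 : Module.finrank k (LinearMap.range ψ) ≤ Module.finrank k (Coh.HH X N 0) :=
    LinearMap.finrank_range_le ψ
  have h4 : Module.finrank k (LinearMap.range F) ≤
      Module.finrank k (Coh.HH X (CohB1.tensorMod M D) 0) := Submodule.finrank_le _
  omega

/-- an invertible module with `h⁰ = 2` generated at every point by some global section is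
generated by two sections -/
theorem exists_pencil' (D : X.Modules) (hD : PicF.IsInvertible D)
    (hgg : ∀ x : X, ∃ σ : unitM X ⟶ D, x ∈ CohB1.genLocus D σ)
    (h0 : Module.finrank k (Coh.HH X D 0) = 2) :
    ∃ s₁ s₂ : unitM X ⟶ D, ∀ x : X, x ∈ CohB1.genLocus D s₁ ∨ x ∈ CohB1.genLocus D s₂ := by
  haveI := finite_HH_zero k X _ hD
  let b := Module.finBasisOfFinrankEq k (Coh.HH X D 0) h0
  let s : Fin 2 → (unitM X ⟶ D) := fun i => homOfSection D (hh0 D (b i))
  refine ⟨s 0, s 1, fun x => ?_⟩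
  by_contra hcon
  rw [not_or] at hcon
  obtain ⟨h1, h2⟩ := hcon
  obtain ⟨σ, hσ⟩ := hgg x
  obtain ⟨V, e, -, hxV, -, hT⟩ := exists_affine_isTriv hD (W := ⊤) x trivial
  have hex : ∀ i, ∃ a : Γ(X, V), sval (s i) V = a • e := fun i => hT.exists_eq_smul _
  choose a ha using hex
  have hgl : ∀ i, x ∉ X.basicOpen (a i) := by
    intro i hx
    have := hT.genLocus_inf (s i) (a i) (ha i)
    have hx' : x ∈ CohB1.genLocus D (s i) ⊓ V := by rw [this]; exact hx
    fin_cases i
    · exact h1 hx'.1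
    · exact h2 hx'.1
  set v := (hh0 D).symm (sval σ ⊤) with hv
  have hsum := b.sum_repr v
  rw [Fin.sum_univ_two] at hsum
  have hσtop : sval σ ⊤ =
      (show Γ(X, ⊤) from Coh.toGlobal (X ↘ Spec (CommRingCat.of k)) (b.repr v 0)) • hh0 D (b 0) +
      (show Γ(X, ⊤) from Coh.toGlobal (X ↘ Spec (CommRingCat.of k)) (b.repr v 1)) • hh0 D (b 1) := by
    have h3 : hh0 D v = sval σ ⊤ := by rw [hv, AddEquiv.apply_symm_apply]
    rw [← h3, ← hsum, map_add]
    have e0 : b.repr v 0 • b 0 =
        (Coh.toGlobal (X ↘ Spec (CommRingCat.of k)) (b.repr v 0)) • b 0 := rfl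
    have e1 : b.repr v 1 • b 1 =
        (Coh.toGlobal (X ↘ Spec (CommRingCat.of k)) (b.repr v 1)) • b 1 := rfl
    rw [hsum, e0, e1, hh0_smul, hh0_smul]
  set C₀ : Γ(X, ⊤) := Coh.toGlobal (X ↘ Spec (CommRingCat.of k)) (b.repr v 0) with hC₀
  set C₁ : Γ(X, ⊤) := Coh.toGlobal (X ↘ Spec (CommRingCat.of k)) (b.repr v 1) with hC₁
  have hσV : sval σ V = (rres X (le_top : V ≤ ⊤) C₀ * a 0 + rres X (le_top : V ≤ ⊤) C₁ * a 1) • e := by
    rw [← res_sval σ (le_top : V ≤ ⊤), hσtop, map_add, res_smul, res_smul,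
      ← sval_homOfSection D (hh0 D (b 0)) V, ← sval_homOfSection D (hh0 D (b 1)) V]
    change _ • sval (s 0) V + _ • sval (s 1) V = _
    rw [ha 0, ha 1, smul_smul, smul_smul, add_smul]
  have hgσ := hT.genLocus_inf σ _ hσV
  have hxσ : x ∈ X.basicOpen
      (rres X (le_top : V ≤ ⊤) C₀ * a 0 + rres X (le_top : V ≤ ⊤) C₁ * a 1) := by
    rw [← hgσ]; exact ⟨hσ, hxV⟩
  rcases X.basicOpen_add_le _ _ hxσ with h | h
  · rw [Scheme.basicOpen_mul] at h
    exact hgl 0 h.2
  · rw [Scheme.basicOpen_mul] at h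
    exact hgl 1 h.2

/-- a globally generated invertible module with `h⁰ = 2` is generated by two sections -/
theorem exists_pencil (D : X.Modules) (hD : PicF.IsInvertible D)
    (hgg : Curv2.IsGloballyGenerated D) (h0 : Module.finrank k (Coh.HH X D 0) = 2) :
    ∃ s₁ s₂ : unitM X ⟶ D, ∀ x : X, x ∈ CohB1.genLocus D s₁ ∨ x ∈ CohB1.genLocus D s₂ :=
  exists_pencil' k X D hD
    (fun x => exists_mem_genLocus_of_isGloballyGenerated hD hgg x) h0

/-- linearly independent global sections bound `h⁰` from below -/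
theorem le_finrank_of_linIndep (M : X.Modules) (hM : PicF.IsInvertible M) {n : ℕ}
    (s : Fin n → LinSer.Sect X M) (hs : LinSer.LinIndep k X M s) :
    n ≤ Module.finrank k (Coh.HH X M 0) := by
  haveI := finite_HH_zero k X _ hM
  let v : Fin n → Coh.HH X M 0 := fun i => (hh0 M).symm (s i)
  have hv : LinearIndependent k v := by
    rw [Fintype.linearIndependent_iff]
    intro c hc
    have h1 := congrArg (hh0 M) hc
    rw [map_zero, map_sum] at h1
    have h2 : ∀ i, hh0 M (c i • v i) =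
        (Coh.toGlobal (X ↘ Spec (CommRingCat.of k)) (c i)) • s i := by
      intro i
      have e0 : c i • v i = (Coh.toGlobal (X ↘ Spec (CommRingCat.of k)) (c i)) • v i := rfl
      rw [e0, hh0_smul, AddEquiv.apply_symm_apply]
      rfl
    simp only [h2] at h1
    have := hs c h1
    intro i
    exact congrFun this i
  have := hv.fintype_card_le_finrank
  simpa using this

/-- Riemann–Roch bookkeeping: `h⁰(M) + g = deg M + 1 + h¹(M)` -/
theorem rr (hdim : topologicalKrullDim X = 1) (M : X.Modules) :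
    (Module.finrank k (Coh.HH X M 0) : ℤ) + (Curv2.genus k X : ℤ) =
      Curv2.deg k X M 1 + 1 + (Module.finrank k (Coh.HH X M 1) : ℤ) := by
  unfold Curv2.deg Curv2.genus
  rw [euler_eq_sub k X hdim.le M, euler_eq_sub k X hdim.le (Coh.structureModule X),
    Groth.Agent.Lib.Helper21.TwistDown.finrank_HH_zero_unit k X]
  push_cast
  ring

/-- an invertible module of degree zero with a nonzero section is trivial -/
theorem isIso_of_deg_zero (hdim : topologicalKrullDim X = 1) (N : X.Modules)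
    (hN : PicF.IsInvertible N) (hd : Curv2.deg k X N 1 = 0)
    (h0 : Module.finrank k (Coh.HH X N 0) ≠ 0) : Nonempty (unitM X ≅ N) := by
  obtain ⟨σ, hσ⟩ := Groth.Agent.Lib.Helper21.TwistDown.exists_section_ne_zero k X N
    (Nat.pos_of_ne_zero h0)
  obtain ⟨hd', hiso⟩ := deg_eq_finrank_of_section k X hdim.le hN σ hσ
  rw [hd] at hd'
  haveI : IsIso σ := hiso.mp (by exact_mod_cast hd'.symm)
  exact ⟨asIso σ⟩

end Ineq

section IdealSeq

open Groth.Agent.Lib.Helper25.HypTwist

variable (k : Type u) [Field k] (X : Scheme.{u}) [X.Over (Spec (CommRingCat.of k))]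
  [IsProper (X ↘ (Spec (CommRingCat.of k)))]

/-- `h⁰(I ⊗ N) ≤ h⁰(N) ≤ h⁰(I ⊗ N) + h⁰(O/I ⊗ N)` for an ideal sheaf `I` and an invertible `N` -/
theorem h0_ideal_seq (D : X.IdealSheafData) (N : X.Modules) (hN : PicF.IsInvertible N) :
    Module.finrank k (Coh.HH X (CohB1.tensorMod (ClSub.idealMod D) N) 0) ≤
        Module.finrank k (Coh.HH X N 0) ∧
      Module.finrank k (Coh.HH X N 0) ≤
        Module.finrank k (Coh.HH X (CohB1.tensorMod (ClSub.idealMod D) N) 0) +
          Module.finrank k (Coh.HH X (CohB1.tensorMod (ClSub.quotMod D) N) 0) := by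
  haveI : IsLocallyNoetherian X :=
    LocallyOfFiniteType.isLocallyNoetherian (X ↘ Spec (CommRingCat.of k))
  have hS := shortExact_idealSeq D
  have hS' := shortExact_map_tensorRight (isFlat_of_isInvertible hN) _ hS
  have cO : Coh.IsCoh (unitM X) := Groth.Agent.Lib.Helper12.H12Dev.isCoh_unitM X
  have cQ : Coh.IsCoh (ClSub.quotMod D) :=
    Groth.Agent.Lib.Helper17.ExtTorsionGeom.isCoh_pushforward_unit D.subschemeι
  have cJ : Coh.IsCoh (ClSub.idealMod D) :=
    Groth.Agent.Lib.Helper12.H12Dev.isCoh_kernel _ cO cQ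
  have cN : Coh.IsCoh N := ⟨isQuasicoherent_of_isInvertible hN, isFiniteType_of_isInvertible hN⟩
  let g : CohB1.tensorMod (unitM X) N ⟶ CohB1.tensorMod (ClSub.quotMod D) N :=
    ((idealSeq D).map (tensorRight N)).g
  let f : CohB1.tensorMod (ClSub.idealMod D) N ⟶ CohB1.tensorMod (unitM X) N :=
    ((idealSeq D).map (tensorRight N)).f
  haveI hfmono : Mono f := hS'.mono_f
  have cJN := Groth.Agent.Lib.Helper12.H12Fin.isCoh_tensorMod' cJ cN
  have cON := Groth.Agent.Lib.Helper12.H12Fin.isCoh_tensorMod' cO cN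
  have cQN := Groth.Agent.Lib.Helper12.H12Fin.isCoh_tensorMod' cQ cN
  haveI : Module.Finite k (Coh.HH X (CohB1.tensorMod (unitM X) N) 0) :=
    Groth.Agent.S0002.result k X _ cON 0
  haveI : Module.Finite k (Coh.HH X (CohB1.tensorMod (ClSub.idealMod D) N) 0) :=
    Groth.Agent.S0002.result k X _ cJN 0
  haveI : Module.Finite k (Coh.HH X (CohB1.tensorMod (ClSub.quotMod D) N) 0) :=
    Groth.Agent.S0002.result k X _ cQN 0
  have hinj0 : Function.Injective (Canon.HHlin k f 0) := by
    have happ := (mono_iff_app_injective f).mp hfmono ⊤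
    intro x y hxy
    apply (hh0 _).injective
    apply happ
    rw [← hh0_map k f, ← hh0_map k f, hxy]
  have hON : Module.finrank k (Coh.HH X (CohB1.tensorMod (unitM X) N) 0) =
      Module.finrank k (Coh.HH X N 0) := (HHlinEquiv k (tensorUnitL N) 0).finrank_eq
  have hex : Function.Exact (Canon.HHlin k f 0) (Canon.HHlin k g 0) := exact₂ k _ hS' 0
  have hker : LinearMap.ker (Canon.HHlin k g 0) = LinearMap.range (Canon.HHlin k f 0) :=
    (LinearMap.exact_iff.mp hex)
  have hrn := LinearMap.finrank_range_add_finrank_ker (Canon.HHlin k g 0)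
  have hr1 : Module.finrank k (LinearMap.range (Canon.HHlin k g 0)) ≤
      Module.finrank k (Coh.HH X (CohB1.tensorMod (ClSub.quotMod D) N) 0) :=
    Submodule.finrank_le _
  have hk1 : Module.finrank k (LinearMap.ker (Canon.HHlin k g 0)) =
      Module.finrank k (Coh.HH X (CohB1.tensorMod (ClSub.idealMod D) N) 0) := by
    rw [hker]
    exact LinearMap.finrank_range_of_inj hinj0
  constructor
  · rw [← hON]
    exact LinearMap.finrank_le_finrank_of_injective hinj0
  · omega

end IdealSeq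

end Groth.Agent.Lib.Helper21.BPF
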