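import Groth.Agent.Lib.Helper21.BaseChg2
import Groth.Agent.Lib.Helper21.FibDim8

/-!
# Irreducible components under extension of the base field
-/

set_option autoImplicit false
set_option linter.style.haveILetI false
set_option linter.unusedSectionVars false
universe u

open AlgebraicGeometry CategoryTheory Limits TopologicalSpace

namespace Groth.Agent.Lib.Helper21.BaseChg

open Groth.Agent.Lib.Helper21.FibDim

/-- the local ring at a point without proper generisations has dimension zero -/
theorem ringKrullDim_stalk_eq_zero_of_maximal {X : Scheme.{u}} (ξ : X)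
    (hmax : ∀ x' : X, x' ⤳ ξ → x' = ξ) : ringKrullDim (X.presheaf.stalk ξ) = 0 := by
  rw [ringKrullDim_stalk_eq_coheight]
  have h : Order.coheight ξ = 0 := by
    rw [Order.coheight_eq_zero]
    intro y hy
    have h1 : y ⤳ ξ := hy
    have := hmax y h1
    subst this
    exact le_rfl
  rw [h]
  rfl

section OverField

/-- the dimension of an irreducible component is the local dimension at its generic point -/
theorem topologicalKrullDim_closure_eq_localDim (k : Type u) [Field k] (X : Scheme.{u})
    [X.Over (Spec (CommRingCat.of k))] [LocallyOfFiniteType (X ↘ Spec (CommRingCat.of k))] (ξ : X)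
    (hξ : closure {ξ} ∈ irreducibleComponents X) :
    topologicalKrullDim (closure ({ξ} : Set X)) = FlatMor.localDim X ξ := by
  obtain ⟨a, ha⟩ := exists_nat_trdeg k X ξ
  have hb : ringKrullDim (X.presheaf.stalk ξ) = ((0 : ℕ) : WithBot ℕ∞) := by
    rw [ringKrullDim_stalk_eq_zero_of_maximal ξ (eq_of_specializes_of_closure_mem ξ hξ)]
    rfl
  rw [topologicalKrullDim_closure_singleton k X ξ a ha,
    Groth.Agent.Lib.Helper21.ChartPt.localDim_eq_add k X ξ a 0 ha hb]
  rfl

end OverField

section Field

variable (k K : Type u) [Field k] [Field K] {X X' : Scheme.{u}} (q : X ⟶ Spec (.of k))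
  (ρ : Spec (.of K) ⟶ Spec (.of k)) (p : X' ⟶ X) (q' : X' ⟶ Spec (.of K))
  (hpb : IsPullback p q' q ρ) [LocallyOfFiniteType q]

include hpb

/-- the base change is locally of finite type over the bigger field -/
theorem locallyOfFiniteType_of_isPullback_field : LocallyOfFiniteType q' :=
  MorphismProperty.of_isPullback hpb (inferInstance : LocallyOfFiniteType q)

/-- **Components of a base change along a field extension**: the generic point of an
irreducible component of `X_K` maps to the generic point of an irreducible component of `X` of the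
same dimension. -/
theorem closure_map_mem_irreducibleComponents_and_dim_eq (ξ' : X')
    (hξ' : closure {ξ'} ∈ irreducibleComponents X') :
    closure {p ξ'} ∈ irreducibleComponents X ∧
      topologicalKrullDim (closure ({ξ'} : Set X')) =
        topologicalKrullDim (closure ({p ξ'} : Set X)) := by
  haveI := flat_of_isPullback_field k K q ρ p q' hpb
  haveI := locallyOfFiniteType_of_isPullback_field k K q ρ p q' hpb
  have hmax' : ∀ x' : X', x' ⤳ ξ' → x' = ξ' := eq_of_specializes_of_closure_mem ξ' hξ'
  have hmax : ∀ y : X, y ⤳ p ξ' → y = p ξ' := eq_of_specializes_map_of_flat p ξ' hmax'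
  have hcomp : closure {p ξ'} ∈ irreducibleComponents X :=
    closure_mem_irreducibleComponents_of_maximal (p ξ') hmax
  refine ⟨hcomp, ?_⟩
  letI : X.Over (Spec (CommRingCat.of k)) := ⟨q⟩
  letI : X'.Over (Spec (CommRingCat.of K)) := ⟨q'⟩
  haveI : LocallyOfFiniteType (X ↘ Spec (CommRingCat.of k)) := ‹LocallyOfFiniteType q›
  haveI : LocallyOfFiniteType (X' ↘ Spec (CommRingCat.of K)) := ‹LocallyOfFiniteType q'›
  rw [topologicalKrullDim_closure_eq_localDim K X' ξ' hξ',
    topologicalKrullDim_closure_eq_localDim k X (p ξ') hcomp]
  exact localDim_eq_of_isPullback_field k K q ρ p q' hpb ξ'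

/-- every irreducible component of `X` is dominated by an irreducible component of `X_K` of the
same dimension -/
theorem exists_closure_mem_irreducibleComponents_and_dim_eq (ξ : X)
    (hξ : closure {ξ} ∈ irreducibleComponents X) :
    ∃ ξ' : X', p ξ' = ξ ∧ closure {ξ'} ∈ irreducibleComponents X' ∧
      topologicalKrullDim (closure ({ξ'} : Set X')) =
        topologicalKrullDim (closure ({ξ} : Set X)) := by
  haveI := surjective_of_isPullback_field k K q ρ p q' hpb
  obtain ⟨x₀, hx₀⟩ := p.surjective ξ
  have hZ := irreducibleComponent_mem_irreducibleComponents x₀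
  obtain ⟨ξ', hξ'⟩ := exists_isGenericPoint_of_mem_irreducibleComponents _ hZ
  have hsp : ξ' ⤳ x₀ := hξ'.specializes mem_irreducibleComponent
  have hsp2 : p ξ' ⤳ ξ := by
    have := hsp.map p.continuous
    rwa [hx₀] at this
  have heq : p ξ' = ξ := eq_of_specializes_of_closure_mem ξ hξ _ hsp2
  have hcl : closure {ξ'} ∈ irreducibleComponents X' := by
    rw [hξ'.def]; exact hZ
  refine ⟨ξ', heq, hcl, ?_⟩
  rw [(closure_map_mem_irreducibleComponents_and_dim_eq k K q ρ p q' hpb ξ' hcl).2, heq]

end Field

end Groth.Agent.Lib.Helper21.BaseChg
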