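import Groth.Agent.Lib.Helper21.BaseChg4

/-!
# Dimension of a flat local extension of Noetherian local rings
-/

set_option autoImplicit false
set_option linter.style.haveILetI false
set_option linter.unusedSectionVars false
set_option linter.unnecessarySimpa false
universe u

open AlgebraicGeometry CategoryTheory Limits TopologicalSpace IsLocalRing

namespace Groth.Agent.Lib.Helper21.BaseChg

/-- `dim S = dim R + dim S/𝔪_R S` for a flat local homomorphism of Noetherian local rings -/
theorem ringKrullDim_eq_add_of_flat_local (R S : Type u) [CommRing R] [CommRing S] [IsLocalRing R]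
    [IsLocalRing S] [IsNoetherianRing R] [IsNoetherianRing S] (φ : R →+* S) [IsLocalHom φ] (hflat : φ.Flat) :
    ringKrullDim S = ringKrullDim R + ringKrullDim (S ⧸ (maximalIdeal R).map φ) := by
  letI := φ.toAlgebra
  haveI : Module.Flat R S := hflat
  haveI : Algebra.HasGoingDown R S := Algebra.HasGoingDown.of_flat
  have hcomap : (maximalIdeal S).comap φ = maximalIdeal R :=
    IsLocalRing.maximalIdeal_comap φ
  haveI : (maximalIdeal S).LiesOver (maximalIdeal R) := ⟨hcomap.symm⟩
  have key := Ideal.height_eq_height_add_of_liesOver_of_hasGoingDown (maximalIdeal R) (maximalIdeal S)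
  have hle : (maximalIdeal R).map φ ≤ maximalIdeal S := map_maximalIdeal_le φ
  have hne : (maximalIdeal R).map φ ≠ ⊤ := fun h => (maximalIdeal.isMaximal S).ne_top (top_le_iff.mp (h ▸ hle))
  haveI : Nontrivial (S ⧸ (maximalIdeal R).map φ) := Ideal.Quotient.nontrivial_iff.mpr hne
  haveI : IsLocalRing (S ⧸ (maximalIdeal R).map φ) :=
    IsLocalRing.of_surjective' (Ideal.Quotient.mk _) Ideal.Quotient.mk_surjective
  have hmax : (maximalIdeal S).map (Ideal.Quotient.mk ((maximalIdeal R).map φ)) =
      maximalIdeal (S ⧸ (maximalIdeal R).map φ) := by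
    have h1 := Ideal.map_eq_top_or_isMaximal_of_surjective (Ideal.Quotient.mk ((maximalIdeal R).map φ))
      Ideal.Quotient.mk_surjective (maximalIdeal.isMaximal S)
    rcases h1 with h1 | h1
    · exfalso
      rw [Ideal.eq_top_iff_one] at h1
      obtain ⟨s, hs, hs1⟩ := (Ideal.mem_map_iff_of_surjective _ Ideal.Quotient.mk_surjective).mp h1
      have h2 : s - 1 ∈ (maximalIdeal R).map φ := by
        rw [← Ideal.Quotient.eq_zero_iff_mem, map_sub, hs1, map_one, sub_self]
      have h3 : s - 1 ∈ maximalIdeal S := hle h2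
      have h4 : (1 : S) ∈ maximalIdeal S := by
        have := (maximalIdeal S).sub_mem hs h3
        simpa using this
      exact (maximalIdeal.isMaximal S).ne_top ((Ideal.eq_top_iff_one _).mpr h4)
    · exact IsLocalRing.eq_maximalIdeal h1
  have hmax' : (maximalIdeal S).map (Ideal.Quotient.mk ((maximalIdeal R).map (algebraMap R S))) =
      maximalIdeal (S ⧸ (maximalIdeal R).map φ) := hmax
  rw [hmax'] at key
  rw [← IsLocalRing.maximalIdeal_height_eq_ringKrullDim, ← IsLocalRing.maximalIdeal_height_eq_ringKrullDim,
    ← IsLocalRing.maximalIdeal_height_eq_ringKrullDim, key]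
  push_cast
  rfl

/-- the scheme version -/
theorem ringKrullDim_stalk_eq_add_of_flat {X Y : Scheme.{u}} (f : X ⟶ Y) [Flat f]
    [IsLocallyNoetherian X] [IsLocallyNoetherian Y] (x : X) :
    ringKrullDim (X.presheaf.stalk x) = ringKrullDim (Y.presheaf.stalk (f x)) +
      ringKrullDim (X.presheaf.stalk x ⧸
        Ideal.map (f.stalkMap x).hom (maximalIdeal (Y.presheaf.stalk (f x)))) :=
  ringKrullDim_eq_add_of_flat_local _ _ (f.stalkMap x).hom (Flat.stalkMap f x)

end Groth.Agent.Lib.Helper21.BaseChg
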