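import Groth.Agent.Lib.Helper21.BaseChg5
import Groth.Agent.Lib.Helper18.SerreReg2

/-!
# Points maximal in their fibre; irreducible components of preimages under field base change
-/

set_option autoImplicit false
set_option linter.style.haveILetI false
set_option linter.unusedSectionVars false
universe u

open AlgebraicGeometry CategoryTheory Limits TopologicalSpace IsLocalRing

namespace Groth.Agent.Lib.Helper21.BaseChg

open Groth.Agent.Lib.Helper21.FibDim

/-- a point that is maximal in its fibre has a zero-dimensional fibre ring -/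
theorem ringKrullDim_fibreRing_eq_zero_of_maximal {X Y : Scheme.{u}} (f : X ⟶ Y) (x : X)
    (hmax : ∀ x' : X, x' ⤳ x → f x' = f x → x' = x) :
    ringKrullDim (X.presheaf.stalk x ⧸
        Ideal.map (f.stalkMap x).hom (maximalIdeal (Y.presheaf.stalk (f x)))) = 0 := by
  set I := Ideal.map (f.stalkMap x).hom (maximalIdeal (Y.presheaf.stalk (f x))) with hI
  have hle : I ≤ maximalIdeal (X.presheaf.stalk x) := map_maximalIdeal_le (f.stalkMap x).hom
  have hne : I ≠ ⊤ := fun h =>
    (maximalIdeal.isMaximal (X.presheaf.stalk x)).ne_top (top_le_iff.mp (h ▸ hle))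
  haveI : Nontrivial (X.presheaf.stalk x ⧸ I) := Ideal.Quotient.nontrivial_iff.mpr hne
  -- every prime containing `I` is the maximal ideal
  have key : ∀ 𝔮 : Ideal (X.presheaf.stalk x), 𝔮.IsPrime → I ≤ 𝔮 →
      𝔮 = maximalIdeal (X.presheaf.stalk x) := by
    intro 𝔮 h𝔮 hI𝔮
    let P : Spec (X.presheaf.stalk x) := ⟨𝔮, h𝔮⟩
    have h1 : X.fromSpecStalk x P ⤳ x := by
      have : X.fromSpecStalk x P ∈ Set.range (X.fromSpecStalk x) := ⟨P, rfl⟩
      rw [Scheme.range_fromSpecStalk] at this
      exact this
    have h2 : f (X.fromSpecStalk x P) = f x := by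
      have h3 := congrArg (fun φ : Spec (X.presheaf.stalk x) ⟶ Y => φ P)
        (Scheme.SpecMap_stalkMap_fromSpecStalk f (x := x))
      simp only [Scheme.Hom.comp_apply] at h3
      rw [← h3]
      have h4 : Spec.map (f.stalkMap x) P = closedPoint (Y.presheaf.stalk (f x)) := by
        apply PrimeSpectrum.ext
        change 𝔮.comap (f.stalkMap x).hom = maximalIdeal _
        have h5 : maximalIdeal (Y.presheaf.stalk (f x)) ≤ 𝔮.comap (f.stalkMap x).hom :=
          Ideal.map_le_iff_le_comap.mp hI𝔮
        exact ((maximalIdeal.isMaximal _).eq_of_le (Ideal.comap_ne_top _ h𝔮.ne_top) h5).symm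
      rw [h4, Scheme.fromSpecStalk_closedPoint]
    have h6 := hmax _ h1 h2
    have h7 : X.fromSpecStalk x P = X.fromSpecStalk x (closedPoint (X.presheaf.stalk x)) := by
      rw [h6, Scheme.fromSpecStalk_closedPoint]
    have h8 := (X.fromSpecStalk x).isEmbedding.injective h7
    exact congrArg PrimeSpectrum.asIdeal h8
  haveI : Ring.KrullDimLE 0 (X.presheaf.stalk x ⧸ I) := by
    rw [Ring.krullDimLE_zero_iff]
    intro J hJ
    have h1 : (J.comap (Ideal.Quotient.mk I)) = maximalIdeal (X.presheaf.stalk x) := by
      refine key _ (Ideal.comap_isPrime _ _) ?_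
      intro a ha
      change Ideal.Quotient.mk I a ∈ J
      rw [Ideal.Quotient.eq_zero_iff_mem.mpr ha]
      exact zero_mem _
    have h2 : J = (maximalIdeal (X.presheaf.stalk x)).map (Ideal.Quotient.mk I) := by
      rw [← h1, Ideal.map_comap_of_surjective _ Ideal.Quotient.mk_surjective]
    rw [h2]
    have h3 := Ideal.map_eq_top_or_isMaximal_of_surjective (Ideal.Quotient.mk I)
      Ideal.Quotient.mk_surjective (maximalIdeal.isMaximal (X.presheaf.stalk x))
    rcases h3 with h3 | h3
    · exfalso
      rw [← h2] at h3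
      exact hJ.ne_top h3
    · exact h3
  exact ringKrullDimZero_iff_ringKrullDim_eq_zero.mp inferInstance

/-- for a flat morphism of locally Noetherian schemes, the local rings at a point maximal in its
fibre and at its image have the same dimension -/
theorem ringKrullDim_stalk_eq_of_flat_of_maximal {X Y : Scheme.{u}} (f : X ⟶ Y) [Flat f]
    [IsLocallyNoetherian X] [IsLocallyNoetherian Y] (x : X)
    (hmax : ∀ x' : X, x' ⤳ x → f x' = f x → x' = x) :
    ringKrullDim (X.presheaf.stalk x) = ringKrullDim (Y.presheaf.stalk (f x)) := by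
  rw [ringKrullDim_stalk_eq_add_of_flat f x, ringKrullDim_fibreRing_eq_zero_of_maximal f x hmax,
    add_zero]

/-- irreducible components of a closed subspace: generic point, dimension and maximality -/
theorem exists_generic_of_mem_irreducibleComponents_subtype {T : Type*} [TopologicalSpace T]
    [QuasiSober T] [T0Space T] (C : Set T) (hC : IsClosed C) (W : Set C)
    (hW : W ∈ irreducibleComponents C) :
    ∃ w : T, w ∈ C ∧ topologicalKrullDim W = topologicalKrullDim (closure ({w} : Set T)) ∧
      ∀ w' ∈ C, w' ⤳ w → w' = w := by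
  haveI : QuasiSober C := hC.isClosedEmbedding_subtypeVal.quasiSober
  obtain ⟨c, hc⟩ := exists_isGenericPoint_of_mem_irreducibleComponents W hW
  refine ⟨c.1, c.2, ?_, ?_⟩
  · have h1 : closure ({c.1} : Set T) = Subtype.val '' W := by
      rw [← hc.def, ← hC.isClosedEmbedding_subtypeVal.closure_image_eq, Set.image_singleton]
    rw [h1]
    exact IsHomeomorph.topologicalKrullDim_eq _
      (Topology.IsEmbedding.subtypeVal.homeomorphImage W).isHomeomorph
  · intro w' hw' hsp
    have h1 : (⟨w', hw'⟩ : C) ⤳ c := (subtype_specializes_iff _ _).mpr hsp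
    have h2 := eq_of_specializes_isGenericPoint W hW c ⟨w', hw'⟩ hc h1
    exact congrArg Subtype.val h2

section Field

variable (k K : Type u) [Field k] [Field K] {X X' : Scheme.{u}} (q : X ⟶ Spec (.of k))
  (ρ : Spec (.of K) ⟶ Spec (.of k)) (p : X' ⟶ X) (q' : X' ⟶ Spec (.of K))
  (hpb : IsPullback p q' q ρ) [LocallyOfFiniteType q]

include hpb

/-- **Base field extension preserves the dimension of the closure of a point maximal in its
fibre.** -/
theorem topologicalKrullDim_closure_eq_of_maximal_in_fibre (x' : X')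
    (hmax : ∀ x'' : X', x'' ⤳ x' → p x'' = p x' → x'' = x') :
    topologicalKrullDim (closure ({x'} : Set X')) =
      topologicalKrullDim (closure ({p x'} : Set X)) := by
  haveI := flat_of_isPullback_field k K q ρ p q' hpb
  haveI := locallyOfFiniteType_of_isPullback_field k K q ρ p q' hpb
  letI : X.Over (Spec (CommRingCat.of k)) := ⟨q⟩
  letI : X'.Over (Spec (CommRingCat.of K)) := ⟨q'⟩
  haveI : LocallyOfFiniteType (X ↘ Spec (CommRingCat.of k)) := ‹LocallyOfFiniteType q›
  haveI : LocallyOfFiniteType (X' ↘ Spec (CommRingCat.of K)) := ‹LocallyOfFiniteType q'›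
  haveI : IsLocallyNoetherian X := LocallyOfFiniteType.isLocallyNoetherian q
  haveI : IsLocallyNoetherian X' := LocallyOfFiniteType.isLocallyNoetherian q'
  obtain ⟨a, ha⟩ := exists_nat_trdeg k X (p x')
  obtain ⟨a', ha'⟩ := exists_nat_trdeg K X' x'
  obtain ⟨b, hb⟩ := Groth.Agent.Lib.Helper18.SerreReg.exists_ringKrullDim_eq_nat
    (X.presheaf.stalk (p x'))
  have hb' : ringKrullDim (X'.presheaf.stalk x') = b := by
    rw [ringKrullDim_stalk_eq_of_flat_of_maximal p x' hmax, hb]
  have hL := localDim_eq_of_isPullback_field k K q ρ p q' hpb x'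
  rw [Groth.Agent.Lib.Helper21.ChartPt.localDim_eq_add K X' x' a' b ha' hb',
    Groth.Agent.Lib.Helper21.ChartPt.localDim_eq_add k X (p x') a b ha hb] at hL
  have hL' : a' + b = a + b := by exact_mod_cast hL
  have haa : a' = a := by omega
  rw [topologicalKrullDim_closure_singleton K X' x' a' ha',
    topologicalKrullDim_closure_singleton k X (p x') a ha, haa]

/-- **Components of the preimage of an irreducible closed set under base field extension** have
the dimension of that set. -/
theorem topologicalKrullDim_eq_of_mem_irreducibleComponents_preimage (Z : Set X)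
    (hZc : IsClosed Z) (hZi : IsIrreducible Z) (W : Set ↥(p ⁻¹' Z))
    (hW : W ∈ irreducibleComponents ↥(p ⁻¹' Z)) :
    topologicalKrullDim W = topologicalKrullDim Z := by
  haveI := flat_of_isPullback_field k K q ρ p q' hpb
  obtain ⟨w, hwC, hdim, hmax⟩ := exists_generic_of_mem_irreducibleComponents_subtype (p ⁻¹' Z)
    (hZc.preimage p.continuous) W hW
  obtain ⟨z, hz⟩ := QuasiSober.sober hZi hZc
  have hpw : p w = z := by
    have h1 : z ⤳ p w := hz.specializes hwC
    obtain ⟨w', hw', hw'z⟩ := Flat.generalizingMap p h1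
    have h2 : w' ∈ p ⁻¹' Z := by
      change p w' ∈ Z
      rw [hw'z]
      exact hz.mem
    rw [← hmax w' h2 hw', hw'z]
  have hmax' : ∀ x'' : X', x'' ⤳ w → p x'' = p w → x'' = w := by
    intro x'' hsp hp
    refine hmax x'' ?_ hsp
    change p x'' ∈ Z
    rw [hp, hpw]
    exact hz.mem
  rw [hdim, topologicalKrullDim_closure_eq_of_maximal_in_fibre k K q ρ p q' hpb w hmax', hpw,
    hz.def]

end Field

end Groth.Agent.Lib.Helper21.BaseChg
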