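import Groth.Agent.Lib.Helper21.BaseChg6

/-!
# Preimages of irreducible closed sets under morphisms with equidimensional fibres
-/

set_option autoImplicit false
set_option linter.style.haveILetI false
set_option linter.unusedSectionVars false
universe u

open AlgebraicGeometry CategoryTheory Limits TopologicalSpace IsLocalRing

namespace Groth.Agent.Lib.Helper21.BaseChg

open Groth.Agent.Lib.Helper21.FibDim

/-- if all irreducible components of the fibre through a point `ξ` maximal in its fibre have
dimension `n`, then the local fibre dimension at `ξ` is `n` -/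
theorem fibreDimAt_eq_of_components' {X S : Scheme.{u}} (f : X ⟶ S) [LocallyOfFiniteType f]
    (ξ : X) (hmax : ∀ x' : X, x' ⤳ ξ → f x' = f ξ → x' = ξ) (n : ℕ)
    (hfib : ∀ Z ∈ irreducibleComponents (f.fiber (f ξ)), topologicalKrullDim Z = n) :
    FlatMor.fibreDimAt f ξ = n := by
  let z : f.fiber (f ξ) := f.asFiber ξ
  have hZ := irreducibleComponent_mem_irreducibleComponents z
  obtain ⟨z'', hz'', hdim, -⟩ := exists_isGenericPoint_fiber f (f ξ) (irreducibleComponent z) hZ
  have h1 : z'' ⤳ z := hz''.specializes mem_irreducibleComponent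
  have h2 : f.fiberι (f ξ) z'' ⤳ f.fiberι (f ξ) z := h1.map (f.fiberι (f ξ)).continuous
  rw [Scheme.Hom.fiberι_asFiber] at h2
  have h3 := hmax _ h2 (f.fiberHomeo (f ξ) z'').2
  rw [h3] at hdim
  rw [← hdim]
  exact hfib _ hZ

section OverField

variable (k : Type u) [Field k] (X Y : Scheme.{u}) [X.Over (Spec (CommRingCat.of k))]
  [Y.Over (Spec (CommRingCat.of k))] [LocallyOfFiniteType (X ↘ Spec (CommRingCat.of k))]
  [LocallyOfFiniteType (Y ↘ Spec (CommRingCat.of k))]

/-- for a flat `k`-morphism all of whose fibres have all their components of dimension `n`, the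
irreducible components of the preimage of an irreducible closed set `V` have dimension
`dim V + n` -/
theorem topologicalKrullDim_eq_add_of_mem_irreducibleComponents_preimage (f : X ⟶ Y)
    (hf : f ≫ (Y ↘ Spec (CommRingCat.of k)) = X ↘ Spec (CommRingCat.of k)) [Flat f]
    [LocallyOfFiniteType f] (n : ℕ) (hn : Cyc.HasRelDim f n) (V : Set Y) (hVc : IsClosed V)
    (hVi : IsIrreducible V) (W : Set ↥(f ⁻¹' V))
    (hW : W ∈ irreducibleComponents ↥(f ⁻¹' V)) :
    topologicalKrullDim W = topologicalKrullDim V + (n : WithBot ℕ∞) := by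
  obtain ⟨w, hwC, hdim, hmax⟩ := exists_generic_of_mem_irreducibleComponents_subtype (f ⁻¹' V)
    (hVc.preimage f.continuous) W hW
  obtain ⟨v, hv⟩ := QuasiSober.sober hVi hVc
  have hfw : f w = v := by
    have h1 : v ⤳ f w := hv.specializes hwC
    obtain ⟨w', hw', hw'v⟩ := Flat.generalizingMap f h1
    have h2 : w' ∈ f ⁻¹' V := by
      change f w' ∈ V
      rw [hw'v]
      exact hv.mem
    rw [← hmax w' h2 hw', hw'v]
  have hmax' : ∀ x'' : X, x'' ⤳ w → f x'' = f w → x'' = w := by
    intro x'' hsp hp
    refine hmax x'' ?_ hsp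
    change f x'' ∈ V
    rw [hp, hfw]
    exact hv.mem
  obtain ⟨b, hb⟩ := exists_nat_trdeg k Y (f w)
  obtain ⟨c, hc1, hc2⟩ := fibreDimAt_eq_trdeg_of_maximal f w hmax'
  have hcn : c = n := by
    have h1 := fibreDimAt_eq_of_components' f w hmax' n (hn (f w))
    rw [hc1] at h1
    exact_mod_cast h1
  subst hcn
  have ha := trdeg_add_of_comp k X Y f hf w b c hb hc2
  rw [hdim, topologicalKrullDim_closure_singleton k X w (b + c) ha, ← hv.def, ← hfw,
    topologicalKrullDim_closure_singleton k Y (f w) b hb]
  push_cast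
  rfl

end OverField

end Groth.Agent.Lib.Helper21.BaseChg
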