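import Groth.Agent.Lib.Helper21.TwistDown3
import Groth.Agent.Lib.Helper25.HypCoh1

/-!
# Removing a base point of a section of an invertible module on a curve
-/

set_option autoImplicit false
set_option linter.style.haveILetI false
set_option linter.unusedSectionVars false
universe u
open CategoryTheory CategoryTheory.Limits AlgebraicGeometry TopologicalSpace Opposite

namespace Groth.Agent.Lib.Helper21.BasePt

open Groth.Agent.Lib.Helper29.QCoh Groth.Agent.Lib.Lead.LinLES Groth.Agent.Lib.Lead.TwistExact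
  Groth.Agent.Lib.Helper21.CDeg Groth.Agent.Lib.Helper25.HypTwist
  Groth.Agent.Lib.Helper21.TwistDown

section Ann

variable {X : Scheme.{u}}

/-- sections of the ideal map to zero in the quotient -/
theorem toSubscheme_app_toUnit_eq_zero (D : X.IdealSheafData) (W : X.affineOpens)
    (a : Γ(X, W.1)) (ha : a ∈ D.ideal W) :
    (ClSub.toSubscheme D).app W.1 (toUnit a) = 0 := by
  obtain ⟨t, ht⟩ := exists_ifun_eq D W a ha
  have h1 : toUnit a = (ClSub.idealModι D).app W.1 t := by
    rw [← ht]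
    rfl
  rw [h1]
  have hz : ClSub.idealModι D ≫ ClSub.toSubscheme D = 0 := kernel.condition _
  have h2 := congrArg (fun φ : ClSub.idealMod D ⟶ ClSub.quotMod D => φ.app W.1 t) hz
  exact h2

/-- the germs of the sections of the ideal kill the stalk of the quotient -/
theorem germ_smul_stalk_quotMod (D : X.IdealSheafData) (q : X) {V : X.Opens}
    (hV : IsAffineOpen V) (hqV : q ∈ V) (b : Γ(X, V)) (hb : b ∈ D.ideal ⟨V, hV⟩)
    (z : (ClSub.quotMod D).presheaf.stalk q) :
    X.presheaf.germ V q hqV b • z = 0 := by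
  obtain ⟨z'', rfl⟩ := (epi_iff_stalkMap_surjective _).mp (epi_toSubscheme D) q z
  rw [← stalkMap_smul]
  obtain ⟨W₀, hqW₀, c, rfl⟩ := TopCat.Presheaf.exists_germ_eq (unitM X).presheaf z''
  obtain ⟨W, hW, hqW, hWsub⟩ :=
    exists_isAffineOpen_mem_and_subset (x := q) (U := W₀ ⊓ V) ⟨hqW₀, hqV⟩
  have hWW₀ : W ≤ W₀ := fun y hy => (hWsub hy).1
  have hWV : W ≤ V := fun y hy => (hWsub hy).2
  rw [← germ_res (unitM X) hWW₀ q hqW c]
  have hb' : X.presheaf.germ V q hqV b = X.presheaf.germ W q hqW (rres X hWV b) :=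
    (X.presheaf.germ_res_apply (homOfLE hWV) q hqW b).symm
  rw [hb', ← germ_smul, stalkMap_germ]
  obtain ⟨c₀, hc₀⟩ := toUnit_surjective (Groth.Agent.Lib.Helper29.QCoh.res (unitM X) hWW₀ c)
  have hmem : rres X hWV b * c₀ ∈ D.ideal ⟨W, hW⟩ :=
    Ideal.mul_mem_right _ _
      (D.ideal_le_comap_ideal (U := ⟨W, hW⟩) (V := ⟨V, hV⟩) hWV hb)
  have h3 : rres X hWV b • Groth.Agent.Lib.Helper29.QCoh.res (unitM X) hWW₀ c =
      toUnit (rres X hWV b * c₀) := by
    rw [← hc₀]
    rfl
  rw [h3, toSubscheme_app_toUnit_eq_zero D ⟨W, hW⟩ _ hmem, map_zero]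

end Ann

section BP

variable (k : Type u) [Field k] [IsAlgClosed k] (X : Scheme.{u}) [X.Over (Spec (CommRingCat.of k))]
  [IsIntegral X] [IsProper (X ↘ (Spec (CommRingCat.of k)))]

/-- **removing a base point**: if the section `σ` of `L` does not generate at the closed Cartier
point `q`, then `L(-q)` still has a nonzero section; its degree is `deg L - 1` -/
theorem exists_twist_base_point (hdim : topologicalKrullDim X = 1) (L : X.Modules)
    (hL : PicF.IsInvertible L) (σ : unitM X ⟶ L) (hσ : σ ≠ 0) (q : X)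
    (hq : IsClosed ({q} : Set X)) (hqσ : q ∉ CohB1.genLocus L σ)
    (hD : BlowUp.IsEffCartierIdeal (Scheme.IdealSheafData.vanishingIdeal ⟨{q}, hq⟩)) :
    ∃ L' : X.Modules, PicF.IsInvertible L' ∧
      0 < Module.finrank k (Coh.HH X L' 0) ∧
      Module.finrank k (Coh.HH X L' 0) ≤ Module.finrank k (Coh.HH X L 0) ∧
      Curv2.deg k X L' 1 = Curv2.deg k X L 1 - 1 := by
  haveI : IsLocallyNoetherian X :=
    LocallyOfFiniteType.isLocallyNoetherian (X ↘ Spec (CommRingCat.of k))
  obtain ⟨V, e, hV, hqV, -, he⟩ := exists_affine_isTriv hL (W := ⊤) q trivial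
  obtain ⟨b, hb⟩ := he.exists_eq_smul (sval σ V)
  have hqb : q ∉ X.basicOpen b :=
    fun h => hqσ ((mem_genLocus_iff_of_isTriv σ he b hb q hqV).mpr h)
  have hbD : b ∈ (Scheme.IdealSheafData.vanishingIdeal ⟨{q}, hq⟩).ideal ⟨V, hV⟩ :=
    (Groth.Agent.Lib.Helper21.RegPt.mem_vanishingIdeal_point_iff q hq hV hqV b).mpr hqb
  have hQ0 := Groth.Agent.Lib.Helper21.RegPt.finrank_HH_zero_quotMod_point k X q hq
  have hQst : ∀ x, x ∉ ({q} : Set X) → Subsingleton ((ClSub.quotMod
      (Scheme.IdealSheafData.vanishingIdeal ⟨{q}, hq⟩)).presheaf.stalk x) :=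
    fun x hx => Groth.Agent.Lib.Helper21.RegPt.subsingleton_stalk_quotMod_point X q hq x hx
  generalize Scheme.IdealSheafData.vanishingIdeal ⟨{q}, hq⟩ = D at hD hQ0 hQst hbD
  have hJ : PicF.IsInvertible (ClSub.idealMod D) := isInvertible_idealMod D hD
  have hS := shortExact_idealSeq D
  have hS' := shortExact_map_tensorRight (isFlat_of_isInvertible hL) _ hS
  have hL1 := (isInvertible_iff_isFinLocFreeOfRank_one L).mp hL
  have cO : Coh.IsCoh (unitM X) := Groth.Agent.Lib.Helper12.H12Dev.isCoh_unitM X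
  have cQ : Coh.IsCoh (ClSub.quotMod D) :=
    Groth.Agent.Lib.Helper17.ExtTorsionGeom.isCoh_pushforward_unit D.subschemeι
  have cJ : Coh.IsCoh (ClSub.idealMod D) :=
    Groth.Agent.Lib.Helper12.H12Dev.isCoh_kernel _ cO cQ
  have cL : Coh.IsCoh L := ⟨isQuasicoherent_of_isInvertible hL, isFiniteType_of_isInvertible hL⟩
  have hZ : ∀ T : Set X, T ⊆ ({q} : Set X) → IsClosed T := by
    intro T hT
    rcases Set.subset_singleton_iff_eq.mp hT with h | h
    · rw [h]; exact isClosed_empty
    · rw [h]; exact hq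
  haveI : (ClSub.quotMod D).IsQuasicoherent := cQ.1
  obtain ⟨Ψ⟩ := nonempty_linearEquiv_HH_zero_tensorMod k (ClSub.quotMod D) L hL {q} hZ hQst
  have hQL0 : Module.finrank k (Coh.HH X (CohB1.tensorMod (ClSub.quotMod D) L) 0) = 1 := by
    rw [← Ψ.finrank_eq]; exact hQ0
  have hsuppQL : CohB1.support (CohB1.tensorMod (ClSub.quotMod D) L) ⊆ ({q} : Set X) := by
    intro x hx
    by_contra hxq
    exact hx (Groth.Agent.Lib.Helper25.SuppTensor.subsingleton_stalk_tensorMod _ L x (hQst x hxq))
  haveI hQL1 : Subsingleton (Coh.HH X (CohB1.tensorMod (ClSub.quotMod D) L) 1) :=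
    subsingleton_HH_succ_of_support_hereditarily_closed _
      (fun T hT => hZ T (hT.trans hsuppQL)) 0
  let g : CohB1.tensorMod (unitM X) L ⟶ CohB1.tensorMod (ClSub.quotMod D) L :=
    ((idealSeq D).map (tensorRight L)).g
  let f : CohB1.tensorMod (ClSub.idealMod D) L ⟶ CohB1.tensorMod (unitM X) L :=
    ((idealSeq D).map (tensorRight L)).f
  let σ' : unitM X ⟶ CohB1.tensorMod (unitM X) L := σ ≫ (tensorUnitL L).inv
  -- the section vanishes in the fibre at `q`
  have hψ : σ' ≫ g = 0 := by
    apply hom_ext_of_sval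
    have h0 : sval (0 : unitM X ⟶ CohB1.tensorMod (ClSub.quotMod D) L) ⊤ = 0 := rfl
    rw [h0]
    refine eq_zero_of_germ_eq_zero _ _ (fun x hx => ?_)
    by_cases hxq : x = q
    · subst hxq
      rw [← germ_res _ (le_top : V ≤ ⊤) x hqV, res_sval, sval_comp, sval_comp, hb,
        Scheme.Modules.Hom.app_smul, Scheme.Modules.Hom.app_smul, germ_smul]
      obtain ⟨T, hT⟩ := Groth.Agent.Lib.Helper21.ZSupp.exists_stalk_equiv (ClSub.quotMod D) L 1
        hL1 x
      obtain ⟨v, hv⟩ := T.surjective ((CohB1.tensorMod (ClSub.quotMod D) L).presheaf.germ V x hqV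
        (g.app V ((tensorUnitL L).inv.app V e)))
      rw [← hv, ← hT]
      have hzero : X.presheaf.germ V x hqV b • v = 0 := by
        funext i
        exact germ_smul_stalk_quotMod D x hV hqV b hbD (v i)
      rw [hzero, map_zero]
    · haveI := Groth.Agent.Lib.Helper25.SuppTensor.subsingleton_stalk_tensorMod _ L x
        (hQst x hxq)
      exact Subsingleton.elim _ _
  -- the section lifts to `J ⊗ L`
  haveI hfmono : Mono f := hS'.mono_f
  haveI : Mono ((idealSeq D).map (tensorRight L)).f := hS'.mono_f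
  let τ : unitM X ⟶ CohB1.tensorMod (ClSub.idealMod D) L := hS'.exact.lift σ' hψ
  have hτf : τ ≫ f = σ' := hS'.exact.lift_f σ' hψ
  have hσ' : σ' ≠ 0 := by
    intro h0
    apply hσ
    have h1 : σ = σ' ≫ (tensorUnitL L).hom := by
      change σ = (σ ≫ (tensorUnitL L).inv) ≫ (tensorUnitL L).hom
      rw [Category.assoc, Iso.inv_hom_id, Category.comp_id]
    rw [h1, h0, zero_comp]
  have hτ : τ ≠ 0 := by
    intro h0
    apply hσ'
    rw [← hτf, h0, zero_comp]
  have cJL := Groth.Agent.Lib.Helper12.H12Fin.isCoh_tensorMod' cJ cL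
  have cOL := Groth.Agent.Lib.Helper12.H12Fin.isCoh_tensorMod' cO cL
  have cQL := Groth.Agent.Lib.Helper12.H12Fin.isCoh_tensorMod' cQ cL
  have hpos : 0 < Module.finrank k (Coh.HH X (CohB1.tensorMod (ClSub.idealMod D) L) 0) := by
    haveI : Module.Finite k (Coh.HH X (CohB1.tensorMod (ClSub.idealMod D) L) 0) :=
      Groth.Agent.S0002.result k X _ cJL 0
    haveI : Nontrivial (Coh.HH X (CohB1.tensorMod (ClSub.idealMod D) L) 0) := by
      refine ⟨⟨(hh0 _).symm (sval τ ⊤), 0, fun h => hτ ?_⟩⟩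
      apply hom_ext_of_sval
      have h2 := congrArg (hh0 (CohB1.tensorMod (ClSub.idealMod D) L)) h
      rw [AddEquiv.apply_symm_apply, map_zero] at h2
      rw [h2]
      rfl
    exact Module.finrank_pos
  have hinj0 : Function.Injective (Canon.HHlin k f 0) := by
    have happ := (mono_iff_app_injective f).mp hfmono ⊤
    intro x y hxy
    apply (hh0 _).injective
    apply happ
    rw [← hh0_map k f, ← hh0_map k f, hxy]
  have hle : Module.finrank k (Coh.HH X (CohB1.tensorMod (ClSub.idealMod D) L) 0) ≤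
      Module.finrank k (Coh.HH X L 0) := by
    haveI : Module.Finite k (Coh.HH X (CohB1.tensorMod (unitM X) L) 0) :=
      Groth.Agent.S0002.result k X _ cOL 0
    exact (LinearMap.finrank_le_finrank_of_injective hinj0).trans_eq
      (HHlinEquiv k (tensorUnitL L) 0).finrank_eq
  refine ⟨CohB1.tensorMod (ClSub.idealMod D) L, isInvertible_tensorMod hJ hL, hpos, hle, ?_⟩
  -- the degree
  have hadd := Groth.Agent.S1524.result k X _ hS' cJL cOL cQL
  change Curv2.euler k X (CohB1.tensorMod (unitM X) L) =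
    Curv2.euler k X (CohB1.tensorMod (ClSub.idealMod D) L) +
      Curv2.euler k X (CohB1.tensorMod (ClSub.quotMod D) L) at hadd
  have z3 : Module.finrank k (Coh.HH X (CohB1.tensorMod (ClSub.quotMod D) L) 1) = 0 := by
    haveI := hQL1; exact Module.finrank_zero_of_subsingleton
  rw [euler_of_iso k (tensorUnitL L),
    euler_eq_sub k X hdim.le (CohB1.tensorMod (ClSub.quotMod D) L), z3, hQL0] at hadd
  unfold Curv2.deg
  rw [hadd]
  push_cast
  ring

end BP

section Smooth

variable (k : Type u) [Field k] [IsAlgClosed k] (X : Scheme.{u}) [X.Over (Spec (CommRingCat.of k))]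
  [IsIntegral X] [IsProper (X ↘ (Spec (CommRingCat.of k)))]
  [Smooth (X ↘ (Spec (CommRingCat.of k)))]

include k in
/-- on a smooth curve every closed point is an effective Cartier divisor -/
theorem isEffCartier_of_smooth (hdim : topologicalKrullDim X = 1) (q : X)
    (hq : IsClosed ({q} : Set X)) :
    BlowUp.IsEffCartierIdeal (Scheme.IdealSheafData.vanishingIdeal ⟨{q}, hq⟩) := by
  haveI : IsLocallyNoetherian X :=
    LocallyOfFiniteType.isLocallyNoetherian (X ↘ Spec (CommRingCat.of k))
  have hs : q ∈ (X ↘ Spec (CommRingCat.of k)).smoothLocus := by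
    rw [(Scheme.Hom.smoothLocus_eq_top_iff (f := X ↘ Spec (CommRingCat.of k))).mpr inferInstance]
    trivial
  haveI := Groth.Agent.Lib.Helper21.RegPt.isRegularLocalRing_stalk_of_mem_smoothLocus
    (X ↘ Spec (CommRingCat.of k)) q hs
  have hpid := isPrincipalIdealRing_of_isRegularLocalRing_of_dim_le_one (X.presheaf.stalk q)
    ((ringKrullDim_stalk_le_topologicalKrullDim X q).trans hdim.le)
  exact Groth.Agent.Lib.Helper21.RegPt.isEffCartierIdeal_vanishingIdeal_point q hq hpid
    (Groth.Agent.Lib.Helper21.RegPt.not_isField_stalk_of_isClosed hdim q hq)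

/-- lowering the degree by one while keeping `h⁰ = 1` -/
theorem exists_deg_pred (hdim : topologicalKrullDim X = 1) (L : X.Modules)
    (hL : PicF.IsInvertible L) (h0 : Module.finrank k (Coh.HH X L 0) = 1) (d : ℕ)
    (hd : Curv2.deg k X L 1 = (d : ℤ) + 1) :
    ∃ L' : X.Modules, PicF.IsInvertible L' ∧ Module.finrank k (Coh.HH X L' 0) = 1 ∧
      Curv2.deg k X L' 1 = (d : ℤ) := by
  obtain ⟨σ, hσ⟩ := exists_section_ne_zero k X L (by omega)
  obtain ⟨h1, -⟩ := deg_eq_finrank_of_section k X hdim.le hL σ hσ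
  have hex : ∃ q, q ∉ CohB1.genLocus L σ := by
    by_contra hall
    push Not at hall
    have hsub : Subsingleton (Coh.HH X (cokernel σ) 0) := by
      refine ⟨fun a b => (hh0 (cokernel σ)).injective ?_⟩
      exact eq_of_le_genLocus σ (fun x _ => hall x) _ _
    have hz : Module.finrank k (Coh.HH X (cokernel σ) 0) = 0 := by
      haveI := hsub; exact Module.finrank_zero_of_subsingleton
    rw [hz, hd] at h1
    push_cast at h1
    omega
  obtain ⟨q, hq⟩ := hex
  have hne : q ≠ genericPoint X := by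
    rintro rfl
    exact hq (genericPoint_mem_genLocus hL σ hσ)
  have hcl : IsClosed ({q} : Set X) := isClosed_singleton_of_ne_genericPoint X hdim.le q hne
  obtain ⟨L', hL', hpos, hle, hdeg⟩ := exists_twist_base_point k X hdim L hL σ hσ q hcl hq
    (isEffCartier_of_smooth k X hdim q hcl)
  refine ⟨L', hL', by omega, ?_⟩
  rw [hdeg, hd]
  ring

/-- invertible modules of every degree `≤ g` with `h⁰ = 1` -/
theorem exists_deg_eq (hdim : topologicalKrullDim X = 1) (j : ℕ) :
    j ≤ Curv2.genus k X →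
    ∃ L : X.Modules, PicF.IsInvertible L ∧ Module.finrank k (Coh.HH X L 0) = 1 ∧
      Curv2.deg k X L 1 = ((Curv2.genus k X - j : ℕ) : ℤ) := by
  induction j with
  | zero =>
    intro _
    obtain ⟨L, hL, h1, h0⟩ := exists_h0_eq k X hdim 1 le_rfl
    refine ⟨L, hL, h0, ?_⟩
    have z1 : Module.finrank k (Coh.HH X L 1) = 0 := by
      haveI := h1; exact Module.finrank_zero_of_subsingleton
    have hO := finrank_HH_zero_unit k X
    unfold Curv2.deg
    rw [euler_eq_sub k X hdim.le L, euler_eq_sub k X hdim.le (Coh.structureModule X), z1, h0, hO]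
    unfold Curv2.genus
    rw [Nat.sub_zero]
    push_cast
    ring
  | succ j ih =>
    intro hj
    obtain ⟨L, hL, h0, hdeg⟩ := ih (by omega)
    have hd : Curv2.deg k X L 1 = ((Curv2.genus k X - (j + 1) : ℕ) : ℤ) + 1 := by
      rw [hdeg]
      have : Curv2.genus k X - j = (Curv2.genus k X - (j + 1)) + 1 := by omega
      rw [this]
      push_cast
      ring
    exact exists_deg_pred k X hdim L hL h0 _ hd

end Smooth

end Groth.Agent.Lib.Helper21.BasePt
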