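import Groth.Agent.Lib.Helper21.BPF

/-!
# Cohomology of binary biproducts and of retracts
-/

set_option autoImplicit false
set_option linter.style.haveILetI false
set_option linter.unusedSectionVars false
universe u
open CategoryTheory CategoryTheory.Limits AlgebraicGeometry TopologicalSpace Opposite

namespace Groth.Agent.Lib.Helper21.Biprod2

open Groth.Agent.Lib.Helper29.QCoh Groth.Agent.Lib.Lead.LinLES Groth.Agent.Lib.Lead.TwistExact
  Groth.Agent.Lib.Helper21.CDeg

variable (A : Type u) [CommRing A] {X : Scheme.{u}} [X.Over (Spec (CommRingCat.of A))]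

lemma HHlin_add {M N : X.Modules} (φ ψ : M ⟶ N) (q : ℕ) (x : Coh.HH X M q) :
    Canon.HHlin A (φ + ψ) q x = Canon.HHlin A φ q x + Canon.HHlin A ψ q x := by
  change Sheaf.H.map ((toSheafAb X).map (φ + ψ)) q x = _
  rw [CategoryTheory.Functor.map_add]
  exact Sheaf.H.map_add_apply _ _ x

include A in
/-- a retract of a module without cohomology has no cohomology -/
theorem subsingleton_HH_of_retract {M N : X.Modules} (i : M ⟶ N) (r : N ⟶ M) (h : i ≫ r = 𝟙 M)
    (q : ℕ) (hN : Subsingleton (Coh.HH X N q)) : Subsingleton (Coh.HH X M q) := by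
  refine ⟨fun x y => ?_⟩
  have hx : ∀ z : Coh.HH X M q, z = Canon.HHlin A r q (Canon.HHlin A i q z) := by
    intro z
    rw [← HHlin_comp, h, HHlin_id]
  rw [hx x, hx y, Subsingleton.elim (Canon.HHlin A i q x) (Canon.HHlin A i q y)]

include A in
/-- cohomology of a binary biproduct is carried by the summands -/
theorem nontrivial_HH_of_biprod (L₁ L₂ : X.Modules) (q : ℕ)
    (h : Nontrivial (Coh.HH X (L₁ ⊞ L₂) q)) :
    Nontrivial (Coh.HH X L₁ q) ∨ Nontrivial (Coh.HH X L₂ q) := by
  by_contra hcon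
  rw [not_or, not_nontrivial_iff_subsingleton, not_nontrivial_iff_subsingleton] at hcon
  obtain ⟨h1, h2⟩ := hcon
  have hz : ∀ x : Coh.HH X (L₁ ⊞ L₂) q, x = 0 := by
    intro x
    have e : Canon.HHlin A (biprod.fst ≫ biprod.inl + biprod.snd ≫ biprod.inr :
        L₁ ⊞ L₂ ⟶ L₁ ⊞ L₂) q x = x := by
      rw [biprod.total, HHlin_id]
    rw [HHlin_add, HHlin_comp, HHlin_comp,
      Subsingleton.elim (Canon.HHlin A (biprod.fst : L₁ ⊞ L₂ ⟶ L₁) q x) 0,
      Subsingleton.elim (Canon.HHlin A (biprod.snd : L₁ ⊞ L₂ ⟶ L₂) q x) 0, map_zero, map_zero,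
      add_zero] at e
    exact e.symm
  obtain ⟨a, b, hab⟩ := h
  exact hab ((hz a).trans (hz b).symm)

end Groth.Agent.Lib.Helper21.Biprod2
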