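import Groth.Agent.Lib.Helper21.ZSupp1
import Groth.Agent.Lib.Helper21.CDeg10
import Groth.Agent.Lib.Helper29.Res3
import Groth.Agent.Lib.Helper29.Dual3
import Groth.Agent.Lib.Helper29.RegDim1
import Groth.Agent.Lib.Helper2.DegAdd.Basic

/-!
# `χ(E ⊗ F) = rk(F) · deg(E) + n · χ(F)` on a proper integral curve
-/

set_option autoImplicit false
set_option linter.style.haveILetI false
set_option linter.unusedSectionVars false
universe u
open CategoryTheory CategoryTheory.Limits AlgebraicGeometry TopologicalSpace Opposite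

namespace Groth.Agent.Lib.Helper21.EulerLF

open Groth.Agent.Lib.Helper29.QCoh Groth.Agent.Lib.Lead.LinLES Groth.Agent.Lib.Lead.TwistExact
  Groth.Agent.Lib.Helper21.CDeg

variable (k : Type u) [Field k] (X : Scheme.{u}) [X.Over (Spec (CommRingCat.of k))]
  [IsIntegral X] [IsProper (X ↘ (Spec (CommRingCat.of k)))]

include k in
/-- twisting a "rank `n`" flat module by an invertible module with a nonzero section -/
theorem euler_tensorMod_of_section (hdim : topologicalKrullDim X ≤ 1) {N E' : X.Modules}
    (hN : PicF.IsInvertible N) (c : unitM X ⟶ N) (hc : c ≠ 0) (n : ℕ)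
    (hflat : FlatMod.IsFlat E') (hcoh : Coh.IsCoh E')
    (hχ : ∀ Q : X.Modules, Coh.IsCoh Q → (∀ T : Set X, T ⊆ CohB1.support Q → IsClosed T) →
      Curv2.euler k X (CohB1.tensorMod Q E') = n * Curv2.euler k X Q) :
    Curv2.euler k X (CohB1.tensorMod N E') =
      Curv2.euler k X E' + n * Curv2.deg k X N 1 := by
  haveI : IsLocallyNoetherian X :=
    LocallyOfFiniteType.isLocallyNoetherian (X ↘ Spec (CommRingCat.of k))
  haveI hmono : Mono c := mono_of_ne_zero (isInvertible_unit X) hN c hc
  have hOc : Coh.IsCoh (unitM X) := ⟨isQuasicoherent_of_isInvertible (isInvertible_unit X),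
    isFiniteType_of_isInvertible (isInvertible_unit X)⟩
  have hNc : Coh.IsCoh N := ⟨isQuasicoherent_of_isInvertible hN, isFiniteType_of_isInvertible hN⟩
  have hQc : Coh.IsCoh (cokernel c) := Groth.Agent.Lib.Helper12.H12Dev.isCoh_cokernel c hOc hNc
  have hS : (ShortComplex.mk c (cokernel.π c) (cokernel.condition c)).ShortExact :=
    ShortComplex.ShortExact.mk' (ShortComplex.exact_of_g_is_cokernel _ (cokernelIsCokernel c))
      hmono inferInstance
  have hadd0 := Groth.Agent.S1524.result k X _ hS hOc hNc hQc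
  change Curv2.euler k X N = Curv2.euler k X (unitM X) + Curv2.euler k X (cokernel c) at hadd0
  have hS' := shortExact_map_tensorRight hflat _ hS
  have hadd := Groth.Agent.S1524.result k X _ hS'
    (Groth.Agent.Lib.Helper12.H12Fin.isCoh_tensorMod' hOc hcoh)
    (Groth.Agent.Lib.Helper12.H12Fin.isCoh_tensorMod' hNc hcoh)
    (Groth.Agent.Lib.Helper12.H12Fin.isCoh_tensorMod' hQc hcoh)
  change Curv2.euler k X (CohB1.tensorMod N E') = Curv2.euler k X (CohB1.tensorMod (unitM X) E') +
    Curv2.euler k X (CohB1.tensorMod (cokernel c) E') at hadd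
  rw [euler_of_iso k (tensorUnitL E')] at hadd
  have hZ : ∀ T : Set X, T ⊆ CohB1.support (cokernel c) → IsClosed T :=
    fun T hT => isClosed_of_subset_compl_genLocus hdim hN c hc (hT.trans (support_cokernel_subset c))
  rw [hχ _ hQc hZ] at hadd
  rw [hadd]
  unfold Curv2.deg
  rw [hadd0]
  change _ = _ + (n : ℤ) * (Curv2.euler k X (unitM X) + Curv2.euler k X (cokernel c) -
    ((1 : ℕ) : ℤ) * Curv2.euler k X (unitM X))
  push_cast
  ring

include k in
/-- **`χ(M ⊗ E) = χ(E) + n · deg M`** for `M` invertible and `E` finite locally free of rank `n` -/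
theorem euler_tensorMod_invertible (hdim : topologicalKrullDim X ≤ 1) {M E : X.Modules}
    (hM : PicF.IsInvertible M) (n : ℕ) (hE : FlatMod.IsFinLocFreeOfRank n E) :
    Curv2.euler k X (CohB1.tensorMod M E) = Curv2.euler k X E + n * Curv2.deg k X M 1 := by
  haveI : IsLocallyNoetherian X :=
    LocallyOfFiniteType.isLocallyNoetherian (X ↘ Spec (CommRingCat.of k))
  obtain ⟨A, hA⟩ := Groth.Agent.Lib.Helper21.PC.exists_isAmple k X
    (X ↘ (Spec (CommRingCat.of k))) hdim
  have hAi := hA.1
  haveI := isQuasicoherent_of_isInvertible hM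
  haveI := isFiniteType_of_isInvertible hM
  haveI := isQuasicoherent_of_isInvertible (isInvertible_unit X)
  haveI := isFiniteType_of_isInvertible (isInvertible_unit X)
  obtain ⟨n₁, hn₁⟩ := exists_isGloballyGenerated_twist hA M
  obtain ⟨n₂, hn₂⟩ := exists_isGloballyGenerated_twist hA (unitM X)
  have hgg1 := hn₁ (max n₁ n₂) (le_max_left _ _)
  have hgg2 := hn₂ (max n₁ n₂) (le_max_right _ _)
  have hP : PicF.IsInvertible (CohB1.tensorPow A (max n₁ n₂)) := isInvertible_tensorPow hAi _
  generalize CohB1.tensorPow A (max n₁ n₂) = P at hgg1 hgg2 hP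
  have hMP : PicF.IsInvertible (CohB1.tensorMod M P) := isInvertible_tensorMod hM hP
  obtain ⟨b, hb⟩ := exists_section_ne_zero_of_isGloballyGenerated k X hMP hgg1
  obtain ⟨a', ha'⟩ := exists_section_ne_zero_of_isGloballyGenerated k X
    (isInvertible_tensorMod (isInvertible_unit X) hP) hgg2
  have ha : a' ≫ (tensorUnitL P).hom ≠ 0 := by
    intro h0
    apply ha'
    have : a' = (a' ≫ (tensorUnitL P).hom) ≫ (tensorUnitL P).inv := by
      rw [Category.assoc, Iso.hom_inv_id, Category.comp_id]
    rw [this, h0, zero_comp]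
  have hM1 := (isInvertible_iff_isFinLocFreeOfRank_one M).mp hM
  have cM : Coh.IsCoh M := ⟨isQuasicoherent_of_isInvertible hM, isFiniteType_of_isInvertible hM⟩
  have cE : Coh.IsCoh E := Groth.Agent.Lib.Helper2.DegAdd.isCoh_of_isFinLocFreeOfRank hE
  have hEflat : FlatMod.IsFlat E := Groth.Agent.Lib.Helper28.DCohRes.isFlat_of_isFinLocFree
    (isFinLocFree_of_isFinLocFreeOfRank hE)
  have hEχ : ∀ Q : X.Modules, Coh.IsCoh Q → (∀ T : Set X, T ⊆ CohB1.support Q → IsClosed T) →
      Curv2.euler k X (CohB1.tensorMod Q E) = n * Curv2.euler k X Q :=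
    fun Q hQ hZ => Groth.Agent.Lib.Helper21.ZSupp.euler_tensorMod' k X Q hQ hZ n E hE
  have hMEflat : FlatMod.IsFlat (CohB1.tensorMod M E) :=
    Groth.Agent.Lib.Helper28.DCohRes.isFlat_of_isFinLocFree
      (Groth.Agent.Lib.Helper29.QCoh.Res.isFinLocFree_tensor
        (isFinLocFree_of_isFinLocFreeOfRank hM1) (isFinLocFree_of_isFinLocFreeOfRank hE))
  have hMEcoh : Coh.IsCoh (CohB1.tensorMod M E) :=
    Groth.Agent.Lib.Helper12.H12Fin.isCoh_tensorMod' cM cE
  have hMEχ : ∀ Q : X.Modules, Coh.IsCoh Q → (∀ T : Set X, T ⊆ CohB1.support Q → IsClosed T) →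
      Curv2.euler k X (CohB1.tensorMod Q (CohB1.tensorMod M E)) = n * Curv2.euler k X Q := by
    intro Q hQ hZ
    have hZ' : ∀ T : Set X, T ⊆ CohB1.support (CohB1.tensorMod Q M) → IsClosed T :=
      fun T hT => hZ T (hT.trans
        (Groth.Agent.Lib.Helper25.SuppTensor.support_tensorMod_subset Q M))
    rw [← euler_of_iso k (tensorAssoc Q M E),
      Groth.Agent.Lib.Helper21.ZSupp.euler_tensorMod' k X (CohB1.tensorMod Q M)
        (Groth.Agent.Lib.Helper12.H12Fin.isCoh_tensorMod' hQ cM) hZ' n E hE,
      Groth.Agent.Lib.Helper21.ZSupp.euler_tensorMod' k X Q hQ hZ 1 M hM1]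
    push_cast
    ring
  have h1 := euler_tensorMod_of_section k X hdim hMP b hb n hEflat cE hEχ
  have h2 := euler_tensorMod_of_section k X hdim hP _ ha n hMEflat hMEcoh hMEχ
  have h3 := deg_tensorMod k X hdim hM hP
  have e : CohB1.tensorMod (CohB1.tensorMod M P) E ≅ CohB1.tensorMod P (CohB1.tensorMod M E) :=
    tensorCongr (tensorBraid M P) (Iso.refl E) ≪≫ tensorAssoc P M E
  rw [euler_of_iso k e, h2, h3] at h1
  linarith

section GRank

variable {X}

/-- the rank at the generic point -/
noncomputable def grank (M : X.Modules) : ℕ :=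
  Module.finrank (X.presheaf.stalk (genericPoint X)) (M.presheaf.stalk (genericPoint X))

theorem grank_of_iso {M N : X.Modules} (e : M ≅ N) : grank M = grank N := by
  unfold grank
  exact ((DerSch.stalkFunctor X (genericPoint X)).mapIso e).toLinearEquiv.finrank_eq

theorem grank_of_isFinLocFreeOfRank {n : ℕ} {M : X.Modules}
    (h : FlatMod.IsFinLocFreeOfRank n M) : grank M = n :=
  Groth.Agent.Lib.Helper2.DegAdd.finrank_stalk_of_isFinLocFreeOfRank h _

theorem grank_eq_zero {M : X.Modules}
    (h : Subsingleton (M.presheaf.stalk (genericPoint X))) : grank M = 0 := by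
  unfold grank
  exact Module.finrank_zero_of_subsingleton

/-- generic ranks are additive in short exact sequences of coherent modules -/
theorem grank_add [IsLocallyNoetherian X] (S : ShortComplex X.Modules)
    (hS : S.ShortExact) (h₁ : Coh.IsCoh S.X₁) (h₃ : Coh.IsCoh S.X₃) :
    grank S.X₂ = grank S.X₁ + grank S.X₃ := by
  have hS' : (S.map (DerSch.stalkFunctor X (genericPoint X))).ShortExact := hS.map_of_exact _
  have hex := (ShortComplex.ShortExact.moduleCat_exact_iff_function_exact _).1 hS'.exact
  have hinj : Function.Injective ((DerSch.stalkFunctor X (genericPoint X)).map S.f).hom :=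
    (ModuleCat.mono_iff_injective _).1 hS'.mono_f
  have hsurj : Function.Surjective ((DerSch.stalkFunctor X (genericPoint X)).map S.g).hom :=
    (ModuleCat.epi_iff_surjective _).1 hS'.epi_g
  have hfp₁ : S.X₁.IsFinitePresentation :=
    Groth.Agent.Lib.Helper29.QCoh.isFinitePresentation_of_isCoh _ h₁
  have hfp₃ : S.X₃.IsFinitePresentation :=
    Groth.Agent.Lib.Helper29.QCoh.isFinitePresentation_of_isCoh _ h₃
  have := Groth.Agent.Lib.Helper29.QCoh.finitePresentation_stalk S.X₁ (genericPoint X)
  have := Groth.Agent.Lib.Helper29.QCoh.finitePresentation_stalk S.X₃ (genericPoint X)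
  letI : Field (X.presheaf.stalk (genericPoint X)) :=
    (inferInstance : Field X.functionField)
  have hfin₁ : Module.Finite (X.presheaf.stalk (genericPoint X))
    (S.X₁.presheaf.stalk (genericPoint X)) := inferInstance
  have hfin₃ : Module.Finite (X.presheaf.stalk (genericPoint X))
    (S.X₃.presheaf.stalk (genericPoint X)) := inferInstance
  have hf₁ : Module.Free (X.presheaf.stalk (genericPoint X))
    (S.X₁.presheaf.stalk (genericPoint X)) := Module.Free.of_divisionRing _ _
  have hf₃ : Module.Free (X.presheaf.stalk (genericPoint X))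
    (S.X₃.presheaf.stalk (genericPoint X)) := Module.Free.of_divisionRing _ _
  exact Groth.Agent.Lib.Helper2.DegAdd.finrank_add_of_exact (R := X.presheaf.stalk (genericPoint X))
    (A := S.X₁.presheaf.stalk (genericPoint X)) (B := S.X₂.presheaf.stalk (genericPoint X))
    (C := S.X₃.presheaf.stalk (genericPoint X))
    ((DerSch.stalkFunctor X (genericPoint X)).map S.f).hom
    ((DerSch.stalkFunctor X (genericPoint X)).map S.g).hom hinj hsurj hex

/-- twisting by an invertible module does not change the generic rank -/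
theorem grank_tensorMod (F L : X.Modules) (hL : FlatMod.IsFinLocFreeOfRank 1 L) :
    grank (CohB1.tensorMod F L) = grank F := by
  obtain ⟨T, hT⟩ := Groth.Agent.Lib.Helper21.ZSupp.exists_stalk_equiv F L 1 hL (genericPoint X)
  let T' : (Fin 1 → F.presheaf.stalk (genericPoint X)) ≃ₗ[X.presheaf.stalk (genericPoint X)]
      (CohB1.tensorMod F L).presheaf.stalk (genericPoint X) :=
    { T with map_smul' := fun a v => hT a v }
  unfold grank
  rw [← T'.finrank_eq]
  exact (LinearEquiv.funUnique (Fin 1) (X.presheaf.stalk (genericPoint X))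
    (F.presheaf.stalk (genericPoint X))).finrank_eq

/-- a coherent module of generic rank zero vanishes at the generic point -/
theorem subsingleton_stalk_of_grank_eq_zero [IsLocallyNoetherian X] (F : X.Modules)
    (hF : Coh.IsCoh F) (h : grank F = 0) :
    Subsingleton (F.presheaf.stalk (genericPoint X)) := by
  have hfp : F.IsFinitePresentation :=
    Groth.Agent.Lib.Helper29.QCoh.isFinitePresentation_of_isCoh _ hF
  have := Groth.Agent.Lib.Helper29.QCoh.finitePresentation_stalk F (genericPoint X)
  letI : Field (X.presheaf.stalk (genericPoint X)) :=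
    (inferInstance : Field X.functionField)
  have hfin : Module.Finite (X.presheaf.stalk (genericPoint X))
    (F.presheaf.stalk (genericPoint X)) := inferInstance
  exact Module.finrank_zero_iff.mp h

/-- on an integral scheme of dimension `≤ 1`, a finite type module with zero generic stalk has
hereditarily closed support -/
theorem hered_of_generic_zero [IsLocallyNoetherian X]
    (hdim : topologicalKrullDim X ≤ 1) (T : X.Modules) [T.IsFiniteType]
    (hgen : Subsingleton (T.presheaf.stalk (genericPoint X))) :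
    ∀ S : Set X, S ⊆ CohB1.support T → IsClosed S := by
  apply Groth.Agent.Lib.Helper29.QCoh.support_hereditarily_closed T
  intro x hx
  refine isClosed_singleton_of_ne_genericPoint X hdim x ?_
  rintro rfl
  exact hx hgen

end GRank

section Defect

/-- the defect `χ(F ⊗ E) - rk(F) · deg(E) - n · χ(F)` -/
noncomputable def defect (E : X.Modules) (n : ℕ) (F : X.Modules) : ℤ :=
  Curv2.euler k X (CohB1.tensorMod F E) - (grank F : ℤ) * Curv2.deg k X E n -
    n * Curv2.euler k X F

theorem defect_of_iso (E : X.Modules) (n : ℕ) {F F' : X.Modules} (e : F ≅ F') :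
    defect k X E n F = defect k X E n F' := by
  unfold defect
  rw [euler_of_iso k (tensorCongr e (Iso.refl E)), grank_of_iso e, euler_of_iso k e]

theorem defect_add (E : X.Modules) (n : ℕ) (hE : FlatMod.IsFinLocFreeOfRank n E)
    (S : ShortComplex X.Modules) (hS : S.ShortExact)
    (h₁ : Coh.IsCoh S.X₁) (h₂ : Coh.IsCoh S.X₂) (h₃ : Coh.IsCoh S.X₃) :
    defect k X E n S.X₂ = defect k X E n S.X₁ + defect k X E n S.X₃ := by
  haveI : IsLocallyNoetherian X :=
    LocallyOfFiniteType.isLocallyNoetherian (X ↘ Spec (CommRingCat.of k))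
  have cE : Coh.IsCoh E := Groth.Agent.Lib.Helper2.DegAdd.isCoh_of_isFinLocFreeOfRank hE
  have hS' := shortExact_map_tensorRight (Groth.Agent.Lib.Helper28.DCohRes.isFlat_of_isFinLocFree
    (isFinLocFree_of_isFinLocFreeOfRank hE)) _ hS
  have hadd' := Groth.Agent.S1524.result k X _ hS'
    (Groth.Agent.Lib.Helper12.H12Fin.isCoh_tensorMod' h₁ cE)
    (Groth.Agent.Lib.Helper12.H12Fin.isCoh_tensorMod' h₂ cE)
    (Groth.Agent.Lib.Helper12.H12Fin.isCoh_tensorMod' h₃ cE)
  change Curv2.euler k X (CohB1.tensorMod S.X₂ E) = Curv2.euler k X (CohB1.tensorMod S.X₁ E) +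
    Curv2.euler k X (CohB1.tensorMod S.X₃ E) at hadd'
  have hadd := Groth.Agent.S1524.result k X S hS h₁ h₂ h₃
  have hr := grank_add S hS h₁ h₃
  unfold defect
  rw [hadd', hadd, hr]
  push_cast
  ring

theorem defect_eq_zero_of_generic_zero (hdim : topologicalKrullDim X ≤ 1) (E : X.Modules) (n : ℕ)
    (hE : FlatMod.IsFinLocFreeOfRank n E) (T : X.Modules) (hT : Coh.IsCoh T)
    (hgen : Subsingleton (T.presheaf.stalk (genericPoint X))) : defect k X E n T = 0 := by
  haveI : IsLocallyNoetherian X :=
    LocallyOfFiniteType.isLocallyNoetherian (X ↘ Spec (CommRingCat.of k))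
  haveI : T.IsFiniteType := hT.2
  have hZ := hered_of_generic_zero hdim T hgen
  unfold defect
  rw [Groth.Agent.Lib.Helper21.ZSupp.euler_tensorMod' k X T hT hZ n E hE, grank_eq_zero hgen]
  push_cast
  ring

theorem defect_invertible (hdim : topologicalKrullDim X ≤ 1) (E : X.Modules) (n : ℕ)
    (hE : FlatMod.IsFinLocFreeOfRank n E) (N : X.Modules) (hN : PicF.IsInvertible N) :
    defect k X E n N = 0 := by
  unfold defect
  rw [euler_tensorMod_invertible k X hdim hN n hE,
    grank_of_isFinLocFreeOfRank ((isInvertible_iff_isFinLocFreeOfRank_one N).mp hN)]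
  unfold Curv2.deg
  push_cast
  ring

end Defect

section Main

/-- **the defect vanishes on all coherent modules** (induction on the generic rank) -/
theorem defect_eq_zero (hdim : topologicalKrullDim X ≤ 1) (n : ℕ) (E : X.Modules)
    (hE : FlatMod.IsFinLocFreeOfRank n E) :
    ∀ (r : ℕ) (F : X.Modules), Coh.IsCoh F → grank F = r → defect k X E n F = 0 := by
  haveI : IsLocallyNoetherian X :=
    LocallyOfFiniteType.isLocallyNoetherian (X ↘ Spec (CommRingCat.of k))
  intro r
  induction r using Nat.strong_induction_on with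
  | _ r ih =>
  intro F hF hr
  by_cases h0 : r = 0
  · subst h0
    exact defect_eq_zero_of_generic_zero k X hdim E n hE F hF
      (subsingleton_stalk_of_grank_eq_zero F hF hr)
  -- ample data
  obtain ⟨A, hA⟩ := Groth.Agent.Lib.Helper21.PC.exists_isAmple k X
    (X ↘ (Spec (CommRingCat.of k))) hdim
  obtain ⟨m, s, hξ, haff⟩ := hA.2.2 (genericPoint X)
  have hM : PicF.IsInvertible (CohB1.tensorPow A (m + 1)) := isInvertible_tensorPow hA.1 _
  haveI : CompactSpace X := hA.2.1
  haveI : F.IsQuasicoherent := hF.1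
  haveI : F.IsFiniteType := hF.2
  obtain ⟨N₀, hN₀⟩ := exists_genAt_twist hM s haff F
  have hgen := hN₀ N₀ le_rfl _ hξ
  have hP : PicF.IsInvertible (CohB1.tensorPow (CohB1.tensorPow A (m + 1)) N₀) :=
    isInvertible_tensorPow hM _
  generalize CohB1.tensorPow (CohB1.tensorPow A (m + 1)) N₀ = P at hgen hP
  obtain ⟨P', hP', ⟨eP⟩⟩ := Groth.Agent.Lib.Helper29.QCoh.Dual.exists_inverse hP
  have hP1 := (isInvertible_iff_isFinLocFreeOfRank_one P).mp hP
  have hP'1 := (isInvertible_iff_isFinLocFreeOfRank_one P').mp hP'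
  have cO : Coh.IsCoh (unitM X) := Groth.Agent.Lib.Helper12.H12Dev.isCoh_unitM X
  have cP : Coh.IsCoh P := ⟨isQuasicoherent_of_isInvertible hP, isFiniteType_of_isInvertible hP⟩
  have cP' : Coh.IsCoh P' :=
    ⟨isQuasicoherent_of_isInvertible hP', isFiniteType_of_isInvertible hP'⟩
  have cG : Coh.IsCoh (CohB1.tensorMod F P) :=
    Groth.Agent.Lib.Helper12.H12Fin.isCoh_tensorMod' hF cP
  have hGr : grank (CohB1.tensorMod F P) = r := by rw [grank_tensorMod F P hP1, hr]
  -- a section with nonzero germ at the generic point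
  obtain ⟨σ, hσ⟩ : ∃ σ : Γ(CohB1.tensorMod F P, ⊤),
      (CohB1.tensorMod F P).presheaf.germ ⊤ (genericPoint X) trivial σ ≠ 0 := by
    by_contra hcon
    push Not at hcon
    have hbot : Submodule.span (X.presheaf.stalk (genericPoint X))
        (Set.range fun σ : Γ(CohB1.tensorMod F P, ⊤) =>
          (CohB1.tensorMod F P).presheaf.germ ⊤ (genericPoint X) trivial σ) = ⊥ := by
      rw [Submodule.span_eq_bot]
      rintro _ ⟨σ, rfl⟩
      exact hcon σ
    rw [GenAt, hbot] at hgen
    have hsub : Subsingleton ((CohB1.tensorMod F P).presheaf.stalk (genericPoint X)) := by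
      refine ⟨fun a b => ?_⟩
      have ha : a ∈ (⊥ : Submodule (X.presheaf.stalk (genericPoint X))
          ((CohB1.tensorMod F P).presheaf.stalk (genericPoint X))) := by rw [hgen]; trivial
      have hb : b ∈ (⊥ : Submodule (X.presheaf.stalk (genericPoint X))
          ((CohB1.tensorMod F P).presheaf.stalk (genericPoint X))) := by rw [hgen]; trivial
      rw [(Submodule.mem_bot _).mp ha, (Submodule.mem_bot _).mp hb]
    exact h0 (by rw [← hGr]; exact grank_eq_zero hsub)
  generalize hGdef : CohB1.tensorMod F P = G at cG hGr σ hσ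
  let t : unitM X ⟶ G := homOfSection G σ
  -- kernel, image, cokernel
  have cK : Coh.IsCoh (kernel t) := Groth.Agent.Lib.Helper12.H12Dev.isCoh_kernel t cO cG
  have cC : Coh.IsCoh (cokernel t) := Groth.Agent.Lib.Helper12.H12Dev.isCoh_cokernel t cO cG
  have cI : Coh.IsCoh (Abelian.image t) :=
    Groth.Agent.Lib.Helper12.H12Dev.isCoh_kernel (cokernel.π t) cG cC
  have hw1 : kernel.ι t ≫ Abelian.factorThruImage t = 0 := by
    rw [← cancel_mono (Abelian.image.ι t)]
    simp
  have hS1 : (ShortComplex.mk (kernel.ι t) (Abelian.factorThruImage t) hw1).ShortExact := by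
    have hex : (ShortComplex.mk (kernel.ι t) (Abelian.factorThruImage t) hw1).Exact :=
      ShortComplex.exact_of_f_is_kernel _
        (isKernelOfComp (Abelian.image.ι t) t (kernelIsKernel t) hw1 (Abelian.image.fac t))
    exact ShortComplex.ShortExact.mk hex
  have hS2 : (ShortComplex.mk (Abelian.image.ι t) (cokernel.π t)
      (kernel.condition (cokernel.π t))).ShortExact := by
    haveI : Mono (Abelian.image.ι t) := inferInstance
    exact ShortComplex.ShortExact.mk (ShortComplex.exact_kernel _)
  -- ranks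
  have hr1 := grank_add _ hS1 cK cI
  have hr2 := grank_add _ hS2 cI cC
  change grank (unitM X) = grank (kernel t) + grank (Abelian.image t) at hr1
  change grank G = grank (Abelian.image t) + grank (cokernel t) at hr2
  rw [grank_of_isFinLocFreeOfRank ((isInvertible_iff_isFinLocFreeOfRank_one (unitM X)).mp
    (isInvertible_unit X))] at hr1
  have hI : grank (Abelian.image t) ≠ 0 := by
    intro hI0
    haveI hsub := subsingleton_stalk_of_grank_eq_zero (Abelian.image t) cI hI0
    apply hσ
    have h1 : σ = t.app ⊤ (toUnit 1) := (homOfSection_app_one G σ).symm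
    have h2 : t = Abelian.factorThruImage t ≫ Abelian.image.ι t := (Abelian.image.fac t).symm
    rw [h1, ← stalkMap_germ, h2, stalkMap_comp_apply,
      Subsingleton.elim (stalkMap (Abelian.factorThruImage t) (genericPoint X) _) 0, map_zero]
  have hK0 : grank (kernel t) = 0 := by omega
  have hCr : grank (cokernel t) = r - 1 := by omega
  -- twist back by the inverse
  have hP'flat := isFlat_of_isInvertible hP'
  have hS1' := shortExact_map_tensorRight hP'flat _ hS1
  have hS2' := shortExact_map_tensorRight hP'flat _ hS2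
  have hd1 := defect_add k X E n hE _ hS1'
    (Groth.Agent.Lib.Helper12.H12Fin.isCoh_tensorMod' cK cP')
    (Groth.Agent.Lib.Helper12.H12Fin.isCoh_tensorMod' cO cP')
    (Groth.Agent.Lib.Helper12.H12Fin.isCoh_tensorMod' cI cP')
  have hd2 := defect_add k X E n hE _ hS2'
    (Groth.Agent.Lib.Helper12.H12Fin.isCoh_tensorMod' cI cP')
    (Groth.Agent.Lib.Helper12.H12Fin.isCoh_tensorMod' cG cP')
    (Groth.Agent.Lib.Helper12.H12Fin.isCoh_tensorMod' cC cP')
  change defect k X E n (CohB1.tensorMod (unitM X) P') =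
    defect k X E n (CohB1.tensorMod (kernel t) P') +
      defect k X E n (CohB1.tensorMod (Abelian.image t) P') at hd1
  change defect k X E n (CohB1.tensorMod G P') =
    defect k X E n (CohB1.tensorMod (Abelian.image t) P') +
      defect k X E n (CohB1.tensorMod (cokernel t) P') at hd2
  have hdO : defect k X E n (CohB1.tensorMod (unitM X) P') = 0 := by
    rw [defect_of_iso k X E n (tensorUnitL P')]
    exact defect_invertible k X hdim E n hE P' hP'
  have hdK : defect k X E n (CohB1.tensorMod (kernel t) P') = 0 :=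
    defect_eq_zero_of_generic_zero k X hdim E n hE _
      (Groth.Agent.Lib.Helper12.H12Fin.isCoh_tensorMod' cK cP')
      (Groth.Agent.Lib.Helper25.SuppTensor.subsingleton_stalk_tensorMod (kernel t) P' _
        (subsingleton_stalk_of_grank_eq_zero (kernel t) cK hK0))
  have hdC : defect k X E n (CohB1.tensorMod (cokernel t) P') = 0 :=
    ih (r - 1) (by omega) _ (Groth.Agent.Lib.Helper12.H12Fin.isCoh_tensorMod' cC cP')
      (by rw [grank_tensorMod _ P' hP'1, hCr])
  have eF : CohB1.tensorMod G P' ≅ F := by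
    rw [← hGdef]
    exact tensorAssoc F P P' ≪≫ tensorCongr (Iso.refl F) (tensorBraid P P' ≪≫ eP) ≪≫
      tensorUnitR F
  rw [← defect_of_iso k X E n eF, hd2, hdC]
  rw [hdO, hdK] at hd1
  linarith

/-- **`χ(E ⊗ F) = rk(F) · deg(E) + n · χ(F)`** on a proper integral curve -/
theorem euler_tensorMod_locFree (hdim : topologicalKrullDim X ≤ 1) (n : ℕ) (E : X.Modules)
    (hE : FlatMod.IsFinLocFreeOfRank n E) (F : X.Modules) (hF : Coh.IsCoh F) :
    Curv2.euler k X (CohB1.tensorMod E F) =
      (Module.finrank (X.presheaf.stalk (genericPoint X))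
        (F.presheaf.stalk (genericPoint X)) : ℤ) * Curv2.deg k X E n + n * Curv2.euler k X F := by
  have h := defect_eq_zero k X hdim n E hE _ F hF rfl
  unfold defect grank at h
  rw [euler_of_iso k (tensorBraid E F)]
  linarith

end Main

end Groth.Agent.Lib.Helper21.EulerLF
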