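import Groth.Agent.Lib.Helper21.BirIso2
import Groth.Agent.Lib.Helper21.EulerLF
import Groth.Agent.Lib.Helper29.ProjF5
import Groth.Agent.Lib.Lead.NatPush.Linear

/-!
# Degrees of locally free modules are invariant under birational pullback (curves)
-/

set_option autoImplicit false
set_option linter.style.haveILetI false
set_option linter.unusedSectionVars false
universe u
open CategoryTheory CategoryTheory.Limits AlgebraicGeometry TopologicalSpace Opposite

namespace Groth.Agent.Lib.Helper21.BirDeg

open Groth.Agent.Lib.Helper29.QCoh Groth.Agent.Lib.Lead.LinLES Groth.Agent.Lib.Lead.TwistExact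
  Groth.Agent.Lib.Helper21.CDeg Groth.Agent.Lib.Helper21.BirH1

section Inj

variable {X Y : Scheme.{u}} (f : Y ⟶ X)

/-- the stalk maps of `O_X → f_* O_Y` are injective over an open over which `f` is an
isomorphism -/
theorem stalkMap_unitHom_injective (U : X.Opens) [IsIso (f ∣_ U)] (x : X)
    (hx : x ∈ U) : Function.Injective (stalkMap (unitHom f) x) := by
  rw [injective_iff_map_eq_zero]
  intro t ht
  obtain ⟨W, hxW, τ, rfl⟩ := TopCat.Presheaf.exists_germ_eq (unitM X).presheaf t
  rw [stalkMap_germ] at ht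
  obtain ⟨W₂, hW₂W, hxW₂, hres⟩ := exists_res_eq_zero_of_germ_eq_zero _ x hxW _ ht
  -- an open of the scheme `U` around `x`, inside `W₂`
  let V' : U.toScheme.Opens := U.ι ⁻¹ᵁ W₂
  have hxV' : (⟨x, hx⟩ : U) ∈ V' := hxW₂
  have hbij : Function.Bijective ((f ∣_ U).app V').hom :=
    (ConcreteCategory.isIso_iff_bijective _).mp inferInstance
  have hinj' : Function.Injective (f.app (U.ι ''ᵁ V')).hom := by
    rw [morphismRestrict_app] at hbij
    intro a b hab
    apply hbij.1
    change (Y.presheaf.map (eqToHom (image_morphismRestrict_preimage f U V')).op).hom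
      ((f.app (U.ι ''ᵁ V')).hom a) = (Y.presheaf.map
        (eqToHom (image_morphismRestrict_preimage f U V')).op).hom ((f.app (U.ι ''ᵁ V')).hom b)
    rw [hab]
  have hVW₂ : U.ι ''ᵁ V' ≤ W₂ := by
    rintro _ ⟨y, hy, rfl⟩
    exact hy
  have hxV : x ∈ U.ι ''ᵁ V' := ⟨⟨x, hx⟩, hxV', rfl⟩
  obtain ⟨a, rfl⟩ := toUnit_surjective τ
  have h1 : res ((Coh.push f).obj (unitM Y)) (hVW₂.trans hW₂W) ((unitHom f).app W (toUnit a)) =
      0 := by
    rw [← res_res _ hW₂W hVW₂, hres, map_zero]
  rw [← app_res] at h1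
  have h2 : res (unitM X) (hVW₂.trans hW₂W) (toUnit a) =
      toUnit (rres X (hVW₂.trans hW₂W) a) := rfl
  rw [h2, unitHom_app] at h1
  have h3 : (f.app (U.ι ''ᵁ V')).hom (rres X (hVW₂.trans hW₂W) a) = 0 := h1
  have h4 : rres X (hVW₂.trans hW₂W) a = 0 := hinj' (by rw [h3, map_zero])
  rw [← germ_res (unitM X) (hVW₂.trans hW₂W) x hxV, h2, h4]
  exact map_zero _

end Inj

section Main

variable (k : Type u) [Field k] (X X' : Scheme.{u}) [X.Over (Spec (CommRingCat.of k))]
  [X'.Over (Spec (CommRingCat.of k))] [IsProper (X ↘ (Spec (CommRingCat.of k)))]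

/-- Euler characteristics are preserved by affine pushforward -/
theorem euler_push (f : X' ⟶ X) [IsAffineHom f]
    (hf : f ≫ (X ↘ Spec (CommRingCat.of k)) = X' ↘ Spec (CommRingCat.of k))
    (G : X'.Modules) [G.IsQuasicoherent] :
    Curv2.euler k X' G = Curv2.euler k X ((Coh.push f).obj G) := by
  unfold Curv2.euler
  refine finsum_congr (fun i => ?_)
  obtain ⟨e⟩ := Groth.Agent.Lib.Lead.NatPush.nonempty_HH_linearEquiv_HH_push f G k hf i
  rw [e.finrank_eq]

/-- **the degree of a locally free module is invariant under birational pullback** -/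
theorem deg_pullback [IsProper (X' ↘ (Spec (CommRingCat.of k)))]
    (hdim : topologicalKrullDim X ≤ 1) (f : X' ⟶ X)
    (hf : f ≫ (X ↘ Spec (CommRingCat.of k)) = X' ↘ Spec (CommRingCat.of k))
    (U : X.Opens) (hU : Dense (U : Set X)) (hU' : Dense ((f ⁻¹ᵁ U : X'.Opens) : Set X'))
    (hfU : IsIso (f ∣_ U)) (n : ℕ) (E : X.Modules) (hE : FlatMod.IsFinLocFreeOfRank n E) :
    Curv2.deg k X' ((Scheme.Modules.pullback f).obj E) n = Curv2.deg k X E n := by
  haveI := hfU
  haveI hLN : IsLocallyNoetherian X :=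
    LocallyOfFiniteType.isLocallyNoetherian (X ↘ Spec (CommRingCat.of k))
  haveI hCS : CompactSpace X :=
    QuasiCompact.compactSpace_of_compactSpace (X ↘ (Spec (CommRingCat.of k)))
  haveI hN : IsNoetherian X := {}
  haveI : IsProper f := by
    haveI : IsProper (f ≫ (X ↘ Spec (CommRingCat.of k))) := by rw [hf]; infer_instance
    exact IsProper.of_comp f (X ↘ Spec (CommRingCat.of k))
  haveI hfin : IsFinite f :=
    Groth.Agent.Lib.Helper21.BirFin.isFinite_of_birational k X X' hdim f hf U hU'
  haveI hci : IsClosedImmersion (f ∣_ U) := inferInstance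
  have cE : Coh.IsCoh E := Groth.Agent.Lib.Helper2.DegAdd.isCoh_of_isFinLocFreeOfRank hE
  haveI := cE.1
  have cO : Coh.IsCoh (unitM X) := Groth.Agent.Lib.Helper12.H12Dev.isCoh_unitM X
  have cO' : Coh.IsCoh (unitM X') := Groth.Agent.Lib.Helper12.H12Dev.isCoh_unitM X'
  haveI := cO'.1
  haveI := cO'.2
  have cA : Coh.IsCoh ((Coh.push f).obj (unitM X')) :=
    ⟨isQuasicoherent_pushforward_of_isAffineHom f _, isFiniteType_pushforward_of_isFinite f _⟩
  set u := unitHom f with hu
  have cK : Coh.IsCoh (kernel u) := Groth.Agent.Lib.Helper12.H12Dev.isCoh_kernel u cO cA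
  have cQ : Coh.IsCoh (cokernel u) := Groth.Agent.Lib.Helper12.H12Dev.isCoh_cokernel u cO cA
  have cI : Coh.IsCoh (Abelian.image u) :=
    Groth.Agent.Lib.Helper12.H12Dev.isCoh_kernel (cokernel.π u) cA cQ
  -- supports
  have hsuppQ : CohB1.support (cokernel u) ⊆ (U : Set X)ᶜ := by
    intro x hx hxU
    exact hx ((stalkMap_surjective_iff_cokernel _ x).mp
      (stalkMap_unitHom_surjective f U x hxU))
  have hsuppK : CohB1.support (kernel u) ⊆ (U : Set X)ᶜ := by
    intro x hx hxU
    apply hx
    have hex : (ShortComplex.mk (kernel.ι u) u (kernel.condition u)).Exact :=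
      ShortComplex.exact_kernel u
    have h1 := (exact_iff_stalk_function_exact _).mp hex x
    have hinjK := (mono_iff_stalkMap_injective (kernel.ι u)).mp inferInstance x
    have hz : ∀ a : (kernel u).presheaf.stalk x, stalkMap (kernel.ι u) x a = 0 := fun a =>
      stalkMap_unitHom_injective f U x hxU (by
        rw [map_zero]
        exact (h1 _).mpr ⟨a, rfl⟩)
    exact ⟨fun a b => hinjK (by rw [hz a, hz b])⟩
  have hherK : ∀ T : Set X, T ⊆ CohB1.support (kernel u) → IsClosed T := fun T hT =>
    isClosed_of_subset_compl_of_dense X hdim U hU (hT.trans hsuppK)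
  have hherQ : ∀ T : Set X, T ⊆ CohB1.support (cokernel u) → IsClosed T := fun T hT =>
    isClosed_of_subset_compl_of_dense X hdim U hU (hT.trans hsuppQ)
  -- the two short exact sequences
  have hw1 : kernel.ι u ≫ Abelian.factorThruImage u = 0 := by
    rw [← cancel_mono (Abelian.image.ι u)]
    simp
  have hS1 : (ShortComplex.mk (kernel.ι u) (Abelian.factorThruImage u) hw1).ShortExact := by
    have hex : (ShortComplex.mk (kernel.ι u) (Abelian.factorThruImage u) hw1).Exact :=
      ShortComplex.exact_of_f_is_kernel _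
        (isKernelOfComp (Abelian.image.ι u) u (kernelIsKernel u) hw1 (Abelian.image.fac u))
    exact ShortComplex.ShortExact.mk hex
  have hS2 : (ShortComplex.mk (Abelian.image.ι u) (cokernel.π u)
      (kernel.condition (cokernel.π u))).ShortExact := by
    haveI : Mono (Abelian.image.ι u) := inferInstance
    exact ShortComplex.ShortExact.mk (ShortComplex.exact_kernel _)
  have a1 := Groth.Agent.S1524.result k X _ hS1 cK cO cI
  have a2 := Groth.Agent.S1524.result k X _ hS2 cI cA cQ
  change Curv2.euler k X (unitM X) = Curv2.euler k X (kernel u) +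
    Curv2.euler k X (Abelian.image u) at a1
  change Curv2.euler k X ((Coh.push f).obj (unitM X')) = Curv2.euler k X (Abelian.image u) +
    Curv2.euler k X (cokernel u) at a2
  have hflat := Groth.Agent.Lib.Helper28.DCohRes.isFlat_of_isFinLocFree
    (isFinLocFree_of_isFinLocFreeOfRank hE)
  have hS1' := shortExact_map_tensorRight hflat _ hS1
  have hS2' := shortExact_map_tensorRight hflat _ hS2
  have b1 := Groth.Agent.S1524.result k X _ hS1'
    (Groth.Agent.Lib.Helper12.H12Fin.isCoh_tensorMod' cK cE)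
    (Groth.Agent.Lib.Helper12.H12Fin.isCoh_tensorMod' cO cE)
    (Groth.Agent.Lib.Helper12.H12Fin.isCoh_tensorMod' cI cE)
  have b2 := Groth.Agent.S1524.result k X _ hS2'
    (Groth.Agent.Lib.Helper12.H12Fin.isCoh_tensorMod' cI cE)
    (Groth.Agent.Lib.Helper12.H12Fin.isCoh_tensorMod' cA cE)
    (Groth.Agent.Lib.Helper12.H12Fin.isCoh_tensorMod' cQ cE)
  change Curv2.euler k X (CohB1.tensorMod (unitM X) E) =
    Curv2.euler k X (CohB1.tensorMod (kernel u) E) +
      Curv2.euler k X (CohB1.tensorMod (Abelian.image u) E) at b1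
  change Curv2.euler k X (CohB1.tensorMod ((Coh.push f).obj (unitM X')) E) =
    Curv2.euler k X (CohB1.tensorMod (Abelian.image u) E) +
      Curv2.euler k X (CohB1.tensorMod (cokernel u) E) at b2
  have c1 := Groth.Agent.Lib.Helper21.ZSupp.euler_tensorMod' k X (kernel u) cK hherK n E hE
  have c2 := Groth.Agent.Lib.Helper21.ZSupp.euler_tensorMod' k X (cokernel u) cQ hherQ n E hE
  have c3 : Curv2.euler k X (CohB1.tensorMod (unitM X) E) = Curv2.euler k X E :=
    euler_of_iso k (tensorUnitL E)
  -- pushforward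
  have p1 := euler_push k X X' f hf (unitM X')
  have p2 := euler_push k X X' f hf ((Scheme.Modules.pullback f).obj E)
  haveI := Groth.Agent.Lib.Helper29.QCoh.ProjF.isIso_projHom' f E
  have p3 : Curv2.euler k X ((Coh.push f).obj ((Scheme.Modules.pullback f).obj E)) =
      Curv2.euler k X (CohB1.tensorMod ((Coh.push f).obj (unitM X')) E) :=
    euler_of_iso k ((asIso (Groth.Agent.Lib.Helper29.QCoh.ProjF.projHom f E)).symm ≪≫
      tensorBraid _ _)
  unfold Curv2.deg
  change Curv2.euler k X' ((Scheme.Modules.pullback f).obj E) -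
    (n : ℤ) * Curv2.euler k X' (unitM X') = Curv2.euler k X E - (n : ℤ) * Curv2.euler k X (unitM X)
  rw [p2, p3, p1, b2, a2, ← c3, b1, c1, c2, a1]
  ring

end Main

end Groth.Agent.Lib.Helper21.BirDeg
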