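import Groth.Agent.Lib.Helper21.BirH1
import Groth.Agent.Lib.Helper21.FibDim5

/-!
# Proper maps between curves that are isomorphisms over a dense open are finite
-/

set_option autoImplicit false
set_option linter.style.haveILetI false
set_option linter.unusedSectionVars false
universe u
open CategoryTheory CategoryTheory.Limits AlgebraicGeometry TopologicalSpace Opposite

namespace Groth.Agent.Lib.Helper21.BirFin

open Groth.Agent.Lib.Helper21.CurveH0 Groth.Agent.Lib.Helper21.FibDim

section Trdeg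

variable (k : Type u) [Field k]

/-- residue transcendence degrees over `k` are invariant under `k`-morphisms inducing an
isomorphism of residue fields -/
theorem trdeg_eq_of_isIso_residueFieldMap (X Y : Scheme.{u}) [X.Over (Spec (CommRingCat.of k))]
    [Y.Over (Spec (CommRingCat.of k))] (g : X ⟶ Y)
    (hg : g ≫ (Y ↘ Spec (CommRingCat.of k)) = X ↘ Spec (CommRingCat.of k)) (x : X)
    [IsIso (g.residueFieldMap x)] :
    @Algebra.trdeg k (X.residueField x) _ _ (Curv2.resAlgebra k X x) =
      @Algebra.trdeg k (Y.residueField (g x)) _ _ (Curv2.resAlgebra k Y (g x)) := by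
  letI := Curv2.resAlgebra k X x
  letI := Curv2.resAlgebra k Y (g x)
  let e : Y.residueField (g x) ≃+* X.residueField x :=
    (asIso (g.residueFieldMap x)).commRingCatIsoToRingEquiv
  have he : ∀ c : k, e (algebraMap k (Y.residueField (g x)) c) =
      algebraMap k (X.residueField x) c := by
    intro c
    have h := resMap_comp k X Y g hg x
    exact (congrArg (fun φ : k →+* X.residueField x => φ c) h).symm
  let e' : Y.residueField (g x) ≃ₐ[k] X.residueField x := AlgEquiv.ofRingEquiv (f := e) he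
  exact e'.trdeg_eq.symm

end Trdeg

section Dim

variable (k : Type u) [Field k] (X X' : Scheme.{u}) [X.Over (Spec (CommRingCat.of k))]
  [X'.Over (Spec (CommRingCat.of k))]
  [LocallyOfFiniteType (X ↘ Spec (CommRingCat.of k))]
  [LocallyOfFiniteType (X' ↘ Spec (CommRingCat.of k))]

/-- residue transcendence degrees are at most the dimension -/
theorem trdeg_le_of_dim_le (d : ℕ) (hdim : topologicalKrullDim X ≤ d) (y : X) (s : ℕ)
    (hs : @Algebra.trdeg k (X.residueField y) _ _ (Curv2.resAlgebra k X y) = s) : s ≤ d := by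
  obtain ⟨p, -, hp⟩ := exists_chain k X y s hs
  have h1 : ((s : ℕ) : WithBot ℕ∞) ≤ Order.krullDim X := by
    refine Order.le_krullDim_iff.mpr ⟨LTSeries.mk s p ?_, rfl⟩
    intro i j hij
    obtain ⟨h1, h2⟩ := hp i j hij
    rw [lt_iff_le_not_ge]
    exact ⟨h1, fun h => h2 h⟩
  rw [krullDim_eq_topologicalKrullDim] at h1
  have h2 := h1.trans hdim
  exact_mod_cast h2

/-- the residue transcendence degree at a point over which `f` is an isomorphism -/
theorem trdeg_eq_of_isIso_restrict (f : X' ⟶ X)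
    (hf : f ≫ (X ↘ Spec (CommRingCat.of k)) = X' ↘ Spec (CommRingCat.of k))
    (U : X.Opens) [IsIso (f ∣_ U)] (x' : X') (hx' : x' ∈ f ⁻¹ᵁ U) :
    @Algebra.trdeg k (X'.residueField x') _ _ (Curv2.resAlgebra k X' x') =
      @Algebra.trdeg k (X.residueField (f x')) _ _ (Curv2.resAlgebra k X (f x')) := by
  letI i1 : (f ⁻¹ᵁ U).toScheme.Over (Spec (CommRingCat.of k)) :=
    ⟨(f ⁻¹ᵁ U).ι ≫ (X' ↘ Spec (CommRingCat.of k))⟩
  letI i2 : U.toScheme.Over (Spec (CommRingCat.of k)) :=
    ⟨U.ι ≫ (X ↘ Spec (CommRingCat.of k))⟩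
  let x'' : (f ⁻¹ᵁ U).toScheme := ⟨x', hx'⟩
  have h1 := trdeg_eq_of_isIso_residueFieldMap k (f ⁻¹ᵁ U).toScheme X' (f ⁻¹ᵁ U).ι rfl x''
  have h2 := trdeg_eq_of_isIso_residueFieldMap k (f ⁻¹ᵁ U).toScheme U.toScheme (f ∣_ U)
    (by
      change (f ∣_ U) ≫ U.ι ≫ (X ↘ Spec (CommRingCat.of k)) =
        (f ⁻¹ᵁ U).ι ≫ (X' ↘ Spec (CommRingCat.of k))
      rw [← Category.assoc, morphismRestrict_ι, Category.assoc, hf]) x''
  have h3 := trdeg_eq_of_isIso_residueFieldMap k U.toScheme X U.ι rfl ((f ∣_ U) x'')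
  have hpt : U.ι ((f ∣_ U) x'') = f x' := morphismRestrict_base_coe f U x''
  have h4 : @Algebra.trdeg k (X.residueField (U.ι ((f ∣_ U) x''))) _ _
      (Curv2.resAlgebra k X (U.ι ((f ∣_ U) x''))) =
      @Algebra.trdeg k (X.residueField (f x')) _ _ (Curv2.resAlgebra k X (f x')) := by
    rw [hpt]
  have hpt' : (f ⁻¹ᵁ U).ι x'' = x' := rfl
  rw [hpt'] at h1
  rw [← h1, h2, h3, h4]

end Dim

/-- in a Noetherian scheme every point has a generization in any given dense open -/
theorem exists_generization_mem_of_dense (X : Scheme.{u}) [IsNoetherian X] (U : X.Opens)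
    (hU : Dense (U : Set X)) (z : X) : ∃ η : X, η ∈ U ∧ η ⤳ z := by
  have hC := irreducibleComponent_mem_irreducibleComponents z
  obtain ⟨o, ho, hne, hoC⟩ :=
    NoetherianSpace.exists_isOpen_nonempty_subset_irreducibleComponent _ hC
  obtain ⟨p, hpo, hpU⟩ := hU.inter_open_nonempty o ho hne
  have hirr : IsIrreducible (irreducibleComponent z) := isIrreducible_irreducibleComponent
  have hcl : IsClosed (irreducibleComponent z) := isClosed_irreducibleComponent
  obtain ⟨η, hη⟩ := QuasiSober.sober hirr hcl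
  have hηp : η ⤳ p := hη.specializes (hoC hpo)
  have hηz : η ⤳ z := hη.specializes mem_irreducibleComponent
  exact ⟨η, hηp.mem_open U.isOpen hpU, hηz⟩

section Fin

variable (k : Type u) [Field k] (X X' : Scheme.{u}) [X.Over (Spec (CommRingCat.of k))]
  [X'.Over (Spec (CommRingCat.of k))] [IsProper (X ↘ (Spec (CommRingCat.of k)))]

/-- the source of a proper map to a curve which is an isomorphism over an open with dense
preimage has dimension `≤ 1` -/
theorem dim_le_one (hdim : topologicalKrullDim X ≤ 1) (f : X' ⟶ X) [IsProper f]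
    (hf : f ≫ (X ↘ Spec (CommRingCat.of k)) = X' ↘ Spec (CommRingCat.of k))
    (U : X.Opens) (hU' : Dense ((f ⁻¹ᵁ U : X'.Opens) : Set X')) [IsIso (f ∣_ U)] :
    topologicalKrullDim X' ≤ 1 := by
  haveI : IsProper (X' ↘ Spec (CommRingCat.of k)) := by rw [← hf]; infer_instance
  haveI : IsLocallyNoetherian X' :=
    LocallyOfFiniteType.isLocallyNoetherian (X' ↘ Spec (CommRingCat.of k))
  haveI : CompactSpace X' :=
    QuasiCompact.compactSpace_of_compactSpace (X' ↘ (Spec (CommRingCat.of k)))
  haveI : IsNoetherian X' := {}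
  rw [← krullDim_eq_topologicalKrullDim, Order.krullDim_le_one_iff]
  intro x'
  by_contra hcon
  push Not at hcon
  obtain ⟨hmin, hmax⟩ := hcon
  have hle : ∀ a b : X', a ≤ b ↔ b ⤳ a := fun a b => Iff.rfl
  obtain ⟨w', hw'⟩ : ∃ w', w' < x' := not_isMin_iff.mp hmin
  obtain ⟨y', hy'⟩ : ∃ y', x' < y' := not_isMax_iff.mp hmax
  obtain ⟨η', hηU, hηy⟩ := exists_generization_mem_of_dense X' (f ⁻¹ᵁ U) hU' y'
  obtain ⟨s, hs⟩ := exists_nat_trdeg k X' η'
  obtain ⟨s₁, hs₁⟩ := exists_nat_trdeg k X' x'
  obtain ⟨s₂, hs₂⟩ := exists_nat_trdeg k X' w'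
  have hyx : y' ⤳ x' := (hle _ _).mp hy'.le
  have hηx : η' ⤳ x' := hηy.trans hyx
  have hne1 : η' ≠ x' := by
    rintro rfl
    exact (lt_irrefl _) (lt_of_lt_of_le hy' ((hle _ _).mpr hηy))
  have h1 := trdeg_lt_of_specializes k X' η' x' hηx hne1 s s₁ hs hs₁
  have h2 := trdeg_lt_of_specializes k X' x' w' ((hle _ _).mp hw'.le) (ne_of_gt hw') s₁ s₂ hs₁ hs₂
  have h3 : s ≤ 1 := by
    have h := trdeg_eq_of_isIso_restrict k X X' f hf U η' hηU
    rw [hs] at h
    exact trdeg_le_of_dim_le k X 1 hdim (f η') s h.symm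
  omega

/-- **a proper map to a curve which is an isomorphism over an open with dense preimage is
finite** -/
theorem isFinite_of_birational (hdim : topologicalKrullDim X ≤ 1) (f : X' ⟶ X) [IsProper f]
    (hf : f ≫ (X ↘ Spec (CommRingCat.of k)) = X' ↘ Spec (CommRingCat.of k))
    (U : X.Opens) (hU' : Dense ((f ⁻¹ᵁ U : X'.Opens) : Set X')) [IsIso (f ∣_ U)] :
    IsFinite f := by
  have hdim' := dim_le_one k X X' hdim f hf U hU'
  haveI : IsProper (X' ↘ Spec (CommRingCat.of k)) := by rw [← hf]; infer_instance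
  haveI : IsLocallyNoetherian X' :=
    LocallyOfFiniteType.isLocallyNoetherian (X' ↘ Spec (CommRingCat.of k))
  haveI : CompactSpace X' :=
    QuasiCompact.compactSpace_of_compactSpace (X' ↘ (Spec (CommRingCat.of k)))
  haveI : IsNoetherian X' := {}
  have hZfin : (((f ⁻¹ᵁ U : X'.Opens) : Set X')ᶜ).Finite := by
    have hdisc : DiscreteTopology ↥(((f ⁻¹ᵁ U : X'.Opens) : Set X')ᶜ) := by
      rw [discreteTopology_iff_forall_isClosed]
      intro s
      have hcl : IsClosed ((↑) '' s : Set X') :=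
        Groth.Agent.Lib.Helper21.BirH1.isClosed_of_subset_compl_of_dense X' hdim' (f ⁻¹ᵁ U) hU'
          (by rintro _ ⟨a, -, rfl⟩; exact a.2)
      have hs : s = Subtype.val ⁻¹' ((↑) '' s : Set X') :=
        (Set.preimage_image_eq s Subtype.val_injective).symm
      rw [hs]
      exact hcl.preimage continuous_subtype_val
    exact (NoetherianSpace.isCompact _).finite ⟨hdisc⟩
  have hfib : ∀ x : X, (f ⁻¹' {x}).Finite := by
    intro x
    by_cases hx : x ∈ U
    · refine Set.Subsingleton.finite ?_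
      intro a ha b hb
      have ha' : f a = x := ha
      have hb' : f b = x := hb
      have haU : a ∈ f ⁻¹ᵁ U := by change f a ∈ U; rw [ha']; exact hx
      have hbU : b ∈ f ⁻¹ᵁ U := by change f b ∈ U; rw [hb']; exact hx
      have hinj : Function.Injective (f ∣_ U) := (f ∣_ U).isOpenEmbedding.injective
      have h : (⟨a, haU⟩ : (f ⁻¹ᵁ U).toScheme) = ⟨b, hbU⟩ := by
        apply hinj
        apply Subtype.ext
        rw [morphismRestrict_base_coe, morphismRestrict_base_coe]
        exact ha'.trans hb'.symm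
      exact congrArg Subtype.val h
    · refine hZfin.subset (fun a ha haU => hx ?_)
      have ha' : f a = x := ha
      rw [← ha']
      exact haU
  haveI : LocallyQuasiFinite f := LocallyQuasiFinite.of_finite_preimage_singleton f hfib
  exact IsFinite.of_isProper_of_locallyQuasiFinite f

end Fin

end Groth.Agent.Lib.Helper21.BirFin
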