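import Groth.Agent.Lib.Helper21.CDeg8
import Groth.Agent.Lib.Lead.NatPush.Linear

/-!
# `H^1` of the structure sheaf under finite maps that are closed immersions over a dense open

* points outside a dense open of a Noetherian scheme of dimension `≤ 1` are closed;
* a map of modules on a proper scheme of dimension `≤ 1` whose cokernel has no `H^1` is
  surjective on `H^1`;
* the canonical map `O_X → f_* O_Y`.
-/

set_option autoImplicit false
set_option linter.style.haveILetI false
set_option linter.unusedSectionVars false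
universe u
open CategoryTheory CategoryTheory.Limits AlgebraicGeometry TopologicalSpace Opposite

namespace Groth.Agent.Lib.Helper21.BirH1

open Groth.Agent.Lib.Helper29.QCoh Groth.Agent.Lib.Lead.LinLES Groth.Agent.Lib.Helper21.CurveH0

/-- points outside a dense open of a Noetherian scheme of dimension `≤ 1` are closed -/
theorem isClosed_singleton_of_notMem_of_dense (X : Scheme.{u}) [IsNoetherian X]
    (hdim : topologicalKrullDim X ≤ 1) (U : X.Opens) (hU : Dense (U : Set X)) (z : X)
    (hz : z ∉ U) : IsClosed ({z} : Set X) := by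
  rw [isClosed_singleton_iff_isMin]
  intro w hw
  by_contra hcon
  have hle : ∀ a b : X, a ≤ b ↔ b ⤳ a := fun a b => Iff.rfl
  have hwz : w < z := lt_of_le_not_ge hw hcon
  obtain ⟨η, hηU, hηz⟩ : ∃ η : X, η ∈ U ∧ η ⤳ z := by
    have hC := irreducibleComponent_mem_irreducibleComponents z
    obtain ⟨o, ho, hne, hoC⟩ :=
      NoetherianSpace.exists_isOpen_nonempty_subset_irreducibleComponent _ hC
    obtain ⟨p, hpo, hpU⟩ := hU.inter_open_nonempty o ho hne
    have hirr : IsIrreducible (irreducibleComponent z) := isIrreducible_irreducibleComponent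
    have hcl : IsClosed (irreducibleComponent z) := isClosed_irreducibleComponent
    obtain ⟨η, hη⟩ := QuasiSober.sober hirr hcl
    have hηp : η ⤳ p := hη.specializes (hoC hpo)
    have hηz : η ⤳ z := hη.specializes mem_irreducibleComponent
    exact ⟨η, hηp.mem_open U.isOpen hpU, hηz⟩
  have hzη : z < η := by
    refine lt_of_le_not_ge ((hle _ _).mpr hηz) ?_
    intro h
    have h1 : z ⤳ η := (hle _ _).mp h
    exact hz (h1.mem_open U.isOpen hηU)
  have h1 : Order.coheight η + 1 ≤ Order.coheight z := Order.coheight_add_one_le hzη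
  have h2 : Order.coheight z + 1 ≤ Order.coheight w := Order.coheight_add_one_le hwz
  have h3 : (2 : ℕ∞) ≤ Order.coheight w := by
    calc (2 : ℕ∞) = 0 + 1 + 1 := by norm_num
      _ ≤ Order.coheight η + 1 + 1 := by gcongr; exact bot_le
      _ ≤ Order.coheight z + 1 := by gcongr
      _ ≤ Order.coheight w := h2
  have h4 : ((Order.coheight w : ℕ∞) : WithBot ℕ∞) ≤ 1 := by
    refine le_trans (Order.coheight_le_krullDim w) ?_
    rw [krullDim_eq_topologicalKrullDim]
    exact hdim
  have h5 : Order.coheight w ≤ 1 := by exact_mod_cast h4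
  exact absurd (h3.trans h5) (by decide)

/-- every subset of the complement of a dense open of a Noetherian scheme of dimension `≤ 1`
is closed -/
theorem isClosed_of_subset_compl_of_dense (X : Scheme.{u}) [IsNoetherian X]
    (hdim : topologicalKrullDim X ≤ 1) (U : X.Opens) (hU : Dense (U : Set X)) {T : Set X}
    (hT : T ⊆ (U : Set X)ᶜ) : IsClosed T :=
  isClosed_of_subset_of_forall_isClosed_singleton U.isOpen.isClosed_compl
    (fun z hz => isClosed_singleton_of_notMem_of_dense X hdim U hU z hz) hT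

section Surj

variable (k : Type u) [Field k] (X : Scheme.{u}) [X.Over (Spec (CommRingCat.of k))]
  [IsProper (X ↘ (Spec (CommRingCat.of k)))]

/-- on a proper scheme of dimension `≤ 1` over a field, a map of modules whose cokernel has no
`H^1` is surjective on `H^1` -/
theorem surjective_HHlin_one (hdim : topologicalKrullDim X ≤ 1) {F G : X.Modules} (φ : F ⟶ G)
    (hQ : Subsingleton (Coh.HH X (cokernel φ) 1)) :
    Function.Surjective (Canon.HHlin k φ 1) := by
  let S₂ : ShortComplex X.Modules :=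
    ShortComplex.mk (Abelian.image.ι φ) (cokernel.π φ) (kernel.condition _)
  have hS₂ : S₂.ShortExact :=
    { exact := ShortComplex.exact_of_f_is_kernel _ (kernelIsKernel _)
      mono_f := inferInstanceAs (Mono (Abelian.image.ι φ))
      epi_g := inferInstanceAs (Epi (cokernel.π φ)) }
  have hz : kernel.ι φ ≫ Abelian.factorThruImage φ = 0 := by
    rw [← cancel_mono (Abelian.image.ι φ), Category.assoc, Abelian.image.fac, kernel.condition,
      zero_comp]
  let S₁ : ShortComplex X.Modules := ShortComplex.mk (kernel.ι φ) (Abelian.factorThruImage φ) hz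
  let S₀ : ShortComplex X.Modules := ShortComplex.mk (kernel.ι φ) φ (kernel.condition φ)
  have hS₀ : S₀.Exact := ShortComplex.exact_of_f_is_kernel _ (kernelIsKernel _)
  let τ : S₁ ⟶ S₀ :=
    { τ₁ := 𝟙 _
      τ₂ := 𝟙 _
      τ₃ := Abelian.image.ι φ
      comm₁₂ := by simp [S₁, S₀]
      comm₂₃ := by
        change 𝟙 _ ≫ φ = Abelian.factorThruImage φ ≫ Abelian.image.ι φ
        rw [Abelian.image.fac, Category.id_comp] }
  haveI : Epi τ.τ₁ := inferInstanceAs (Epi (𝟙 _))
  haveI : IsIso τ.τ₂ := inferInstanceAs (IsIso (𝟙 _))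
  haveI : Mono τ.τ₃ := inferInstanceAs (Mono (Abelian.image.ι φ))
  have hS₁ : S₁.ShortExact :=
    { exact := (ShortComplex.exact_iff_of_epi_of_isIso_of_mono τ).mpr hS₀
      mono_f := inferInstanceAs (Mono (kernel.ι φ))
      epi_g := inferInstanceAs (Epi (Abelian.factorThruImage φ)) }
  have hsurj₁ : Function.Surjective (Canon.HHlin k S₁.g 1) := by
    intro y
    haveI : Subsingleton (Coh.HH X S₁.X₁ (1 + 1)) :=
      Groth.Agent.Lib.Helper21.CDeg.subsingleton_HH_of_two_le k X hdim _ 2 le_rfl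
    have h0 : δlin k S₁ hS₁ 1 y = 0 := Subsingleton.elim _ _
    exact (exact₃ k S₁ hS₁ 1 y).1 h0
  have hsurj₂ : Function.Surjective (Canon.HHlin k S₂.f 1) := by
    intro y
    have h0 : Canon.HHlin k S₂.g 1 y = 0 := Subsingleton.elim _ _
    exact (exact₂ k S₂ hS₂ 1 y).1 h0
  intro y
  obtain ⟨y₁, hy₁⟩ := hsurj₂ y
  obtain ⟨y₀, hy₀⟩ := hsurj₁ y₁
  refine ⟨y₀, ?_⟩
  have hfac : φ = Abelian.factorThruImage φ ≫ Abelian.image.ι φ := (Abelian.image.fac φ).symm
  rw [hfac, HHlin_comp]
  change Canon.HHlin k S₂.f 1 (Canon.HHlin k S₁.g 1 y₀) = y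
  rw [hy₀, hy₁]

end Surj

section Push

variable {X Y : Scheme.{u}} (f : Y ⟶ X)

/-- the unit section of `f_* O_Y` -/
noncomputable def oneSec : Γ((Coh.push f).obj (unitM Y), ⊤) :=
  (toUnit (1 : Γ(Y, f ⁻¹ᵁ ⊤)) : Γ(unitM Y, f ⁻¹ᵁ ⊤))

/-- the canonical map `O_X → f_* O_Y` -/
noncomputable def unitHom : unitM X ⟶ (Coh.push f).obj (unitM Y) :=
  homOfSection _ (oneSec f)

theorem push_smul (M : Y.Modules) (V : X.Opens) (r : Γ(X, V)) (m : Γ(M, f ⁻¹ᵁ V)) :
    (r • (show Γ((Coh.push f).obj M, V) from m)) = ((f.app V).hom r • m : Γ(M, f ⁻¹ᵁ V)) := rfl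

/-- the canonical map on sections is `f^♯` -/
theorem unitHom_app (V : X.Opens) (r : Γ(X, V)) :
    (unitHom f).app V (toUnit r) =
      (toUnit ((f.app V).hom r) : Γ(unitM Y, f ⁻¹ᵁ V)) := by
  unfold unitHom
  rw [app_eq_smul_sval, sval_homOfSection]
  have h1 : Groth.Agent.Lib.Helper29.QCoh.res ((Coh.push f).obj (unitM Y)) (le_top : V ≤ ⊤)
      (oneSec f) = (toUnit (1 : Γ(Y, f ⁻¹ᵁ V)) : Γ(unitM Y, f ⁻¹ᵁ V)) :=
    res_toUnit_one (X := Y) (show f ⁻¹ᵁ V ≤ f ⁻¹ᵁ ⊤ from fun _ _ => trivial)
  rw [h1]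
  exact (toUnit_eq_smul_one (X := Y) ((f.app V).hom r)).symm

/-- over an affine open over which `f` is a closed immersion, the canonical map is surjective
on sections -/
theorem unitHom_app_surjective (V : X.Opens) (hV : Function.Surjective (f.app V).hom) :
    Function.Surjective ((unitHom f).app V) := by
  intro m
  obtain ⟨r, hr⟩ := hV (show Γ(Y, f ⁻¹ᵁ V) from m)
  refine ⟨toUnit r, ?_⟩
  rw [unitHom_app, hr]
  rfl

/-- the stalk maps of `O_X → f_* O_Y` are surjective over an open over which `f` is a closed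
immersion -/
theorem stalkMap_unitHom_surjective (U : X.Opens) [IsClosedImmersion (f ∣_ U)] (x : X)
    (hx : x ∈ U) : Function.Surjective (stalkMap (unitHom f) x) := by
  intro t
  obtain ⟨W, hxW, τ, rfl⟩ :=
    TopCat.Presheaf.exists_germ_eq ((Coh.push f).obj (unitM Y)).presheaf t
  -- an affine open of the scheme `U` around `x`, inside `W`
  obtain ⟨_, ⟨V', hV', rfl⟩, hxV', hV'W⟩ :=
    U.toScheme.isBasis_affineOpens.exists_subset_of_mem_open
      (show (⟨x, hx⟩ : U) ∈ ((U.ι ⁻¹ᵁ W : U.toScheme.Opens) : Set U) from hxW)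
      (U.ι ⁻¹ᵁ W).isOpen
  have hsurj : Function.Surjective ((f ∣_ U).app V').hom :=
    Scheme.Hom.app_surjective (f ∣_ U) V' hV'
  have hsurj' : Function.Surjective (f.app (U.ι ''ᵁ V')).hom := by
    rw [morphismRestrict_app] at hsurj
    intro b
    obtain ⟨a, ha⟩ := hsurj ((Y.presheaf.map
      (eqToHom (image_morphismRestrict_preimage f U V')).op).hom b)
    refine ⟨a, ?_⟩
    have hinj : Function.Injective (Y.presheaf.map
        (eqToHom (image_morphismRestrict_preimage f U V')).op).hom :=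
      ((ConcreteCategory.isIso_iff_bijective _).mp inferInstance).1
    exact hinj ha
  have hVW : U.ι ''ᵁ V' ≤ W := by
    rintro _ ⟨y, hy, rfl⟩
    exact hV'W hy
  have hxV : x ∈ U.ι ''ᵁ V' := ⟨⟨x, hx⟩, hxV', rfl⟩
  obtain ⟨a, ha⟩ := unitHom_app_surjective f (U.ι ''ᵁ V') hsurj'
    (Groth.Agent.Lib.Helper29.QCoh.res _ hVW τ)
  refine ⟨(unitM X).presheaf.germ (U.ι ''ᵁ V') x hxV a, ?_⟩
  rw [stalkMap_germ, ha, germ_res]

end Push

end Groth.Agent.Lib.Helper21.BirH1
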