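import Mathlib

/-!
# A finite birational morphism of integral schemes is an isomorphism over a nonempty open
-/

set_option autoImplicit false
set_option linter.style.haveILetI false
universe u
open AlgebraicGeometry CategoryTheory Limits TopologicalSpace

namespace Groth.Agent.Lib.Helper21.BirIso

variable {X Y : Scheme.{u}}

/-- A finite morphism of integral schemes inducing an isomorphism of function fields is an
isomorphism over a nonempty open subset. -/
theorem exists_isIso_morphismRestrict [IsIntegral X] [IsIntegral Y] (f : Y ⟶ X) [IsFinite f]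
    (hη : f (genericPoint Y) = genericPoint X)
    (hst : Function.Bijective (f.stalkMap (genericPoint Y)).hom) :
    ∃ V : X.Opens, (V : Set X).Nonempty ∧ IsIso (f ∣_ V) := by
  classical
  -- an affine open
  obtain ⟨U, hU, hηU, -⟩ := Opens.isBasis_iff_nbhd.mp X.isBasis_affineOpens
    (show genericPoint X ∈ (⊤ : X.Opens) from trivial)
  have hW : IsAffineOpen (f ⁻¹ᵁ U) := hU.preimage f
  have hηW : genericPoint Y ∈ f ⁻¹ᵁ U := by
    change f (genericPoint Y) ∈ U
    rw [hη]
    exact hηU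
  have hfηU : f (genericPoint Y) ∈ U := hηW
  let φ : Γ(X, U) →+* Γ(Y, f ⁻¹ᵁ U) := (f.app U).hom
  have hfin : φ.Finite := f.finite_app U hU
  have hgerm : ∀ (V : X.Opens) (hV : f (genericPoint Y) ∈ V) (a : Γ(X, V)),
      Y.presheaf.germ (f ⁻¹ᵁ V) (genericPoint Y) hV ((f.app V).hom a) =
        (f.stalkMap (genericPoint Y)).hom (X.presheaf.germ V (f (genericPoint Y)) hV a) := by
    intro V hV a
    have := Scheme.Hom.germ_stalkMap f V (genericPoint Y) hV
    exact (congrArg (fun g => g.hom a) this).symm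
  -- injectivity of `f.app V` for `V` containing the generic point
  have hinj : ∀ (V : X.Opens) (hV : f (genericPoint Y) ∈ V),
      Function.Injective (f.app V).hom := by
    intro V hV a a' haa'
    have h1 := hgerm V hV a
    rw [haa', hgerm V hV a'] at h1
    exact germ_injective_of_isIntegral X _ hV (hst.1 h1.symm)
  -- birationality
  have hbir : ∀ b : Γ(Y, f ⁻¹ᵁ U), ∃ s a : Γ(X, U), s ≠ 0 ∧ φ s * b = φ a := by
    intro b
    obtain ⟨x, hx⟩ := hst.2 (Y.presheaf.germ (f ⁻¹ᵁ U) (genericPoint Y) hηW b)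
    letI := TopCat.Presheaf.algebra_section_stalk X.presheaf ⟨f (genericPoint Y), hfηU⟩
    haveI := hU.isLocalization_stalk ⟨f (genericPoint Y), hfηU⟩
    obtain ⟨⟨a, s⟩, has⟩ := IsLocalization.surj
      (hU.primeIdealOf ⟨f (genericPoint Y), hfηU⟩).asIdeal.primeCompl x
    have hs0 : (s : Γ(X, U)) ≠ 0 := by
      intro h0
      exact s.2 (h0 ▸ zero_mem _)
    refine ⟨s, a, hs0, ?_⟩
    apply germ_injective_of_isIntegral Y (genericPoint Y) hηW
    have has' : x * X.presheaf.germ U (f (genericPoint Y)) hfηU (s : Γ(X, U)) =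
        X.presheaf.germ U (f (genericPoint Y)) hfηU a := has
    rw [map_mul]
    change Y.presheaf.germ (f ⁻¹ᵁ U) (genericPoint Y) hηW ((f.app U).hom (s : Γ(X, U))) * _ =
      Y.presheaf.germ (f ⁻¹ᵁ U) (genericPoint Y) hηW ((f.app U).hom a)
    rw [hgerm U hfηU, hgerm U hfηU, ← has', map_mul, hx, mul_comm]
  -- a common denominator
  letI := φ.toAlgebra
  haveI : Module.Finite Γ(X, U) Γ(Y, f ⁻¹ᵁ U) := hfin
  obtain ⟨G, hG⟩ := (Module.Finite.fg_top : (⊤ : Submodule Γ(X, U) Γ(Y, f ⁻¹ᵁ U)).FG)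
  choose sd ad hsd had using hbir
  let s : Γ(X, U) := ∏ b ∈ G, sd b
  have hdomA : IsDomain Γ(X, U) := by
    haveI : Nonempty U := ⟨⟨_, hηU⟩⟩
    infer_instance
  have hs0 : s ≠ 0 := Finset.prod_ne_zero_iff.mpr (fun b _ => hsd b)
  have hsb : ∀ b : Γ(Y, f ⁻¹ᵁ U), ∃ a : Γ(X, U), φ s * b = φ a := by
    intro b
    have hb : b ∈ Submodule.span Γ(X, U) (G : Set Γ(Y, f ⁻¹ᵁ U)) := by rw [hG]; trivial
    induction hb using Submodule.span_induction with
    | mem x hx =>
      refine ⟨(∏ b ∈ G.erase x, sd b) * ad x, ?_⟩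
      have h1 : s = sd x * ∏ b ∈ G.erase x, sd b := (Finset.mul_prod_erase G sd hx).symm
      rw [h1, map_mul, map_mul, ← had x]
      ring
    | zero => exact ⟨0, by rw [mul_zero, map_zero]⟩
    | add x y _ _ hx hy =>
      obtain ⟨a, ha⟩ := hx
      obtain ⟨a', ha'⟩ := hy
      exact ⟨a + a', by rw [mul_add, ha, ha', map_add]⟩
    | smul c x _ hx =>
      obtain ⟨a, ha⟩ := hx
      refine ⟨c * a, ?_⟩
      rw [Algebra.smul_def, map_mul, ← ha]
      change φ s * (φ c * x) = φ c * (φ s * x)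
      ring
  -- the open `V = D(s)`
  refine ⟨X.basicOpen s, ?_, ?_⟩
  · by_contra hne
    have hbot : X.basicOpen s = ⊥ := by
      rw [← Opens.not_nonempty_iff_eq_bot]
      exact hne
    haveI : Nonempty U := ⟨⟨_, hηU⟩⟩
    exact hs0 ((basicOpen_eq_bot_iff s).mp hbot)
  · have hVaff : IsAffineOpen (X.basicOpen s) := hU.basicOpen s
    haveI : IsAffineHom f := inferInstance
    refine (isIso_morphismRestrict_iff_isIso_app (f := f) hVaff).mpr ?_
    have hηV : f (genericPoint Y) ∈ X.basicOpen s := by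
      rw [hη]
      refine ((genericPoint_spec X).mem_open_set_iff (X.basicOpen s).isOpen).mpr ?_
      by_contra hne
      have hbot : X.basicOpen s = ⊥ := by
        rw [← Opens.not_nonempty_iff_eq_bot]
        rintro ⟨z, hz⟩
        exact hne ⟨z, trivial, hz⟩
      haveI : Nonempty U := ⟨⟨_, hηU⟩⟩
      exact hs0 ((basicOpen_eq_bot_iff s).mp hbot)
    refine (ConcreteCategory.isIso_iff_bijective _).mpr ⟨hinj _ hηV, ?_⟩
    -- surjectivity
    intro t
    have hle : X.basicOpen s ≤ U := X.basicOpen_le s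
    let iV : f ⁻¹ᵁ X.basicOpen s ⟶ f ⁻¹ᵁ U := homOfLE (fun _ hz => hle hz)
    have hloc := hW.isLocalization_of_eq_basicOpen (φ s) iV (Scheme.preimage_basicOpen f s)
    letI := (Y.presheaf.map iV.op).hom.toAlgebra
    obtain ⟨n, b, hnb⟩ := IsLocalization.Away.surj (φ s) t
    obtain ⟨a, ha⟩ := hsb b
    -- restriction maps
    let rX : Γ(X, U) →+* Γ(X, X.basicOpen s) := (X.presheaf.map (homOfLE hle).op).hom
    let rY : Γ(Y, f ⁻¹ᵁ U) →+* Γ(Y, f ⁻¹ᵁ X.basicOpen s) := (Y.presheaf.map iV.op).hom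
    have hnat : ∀ c : Γ(X, U), rY (φ c) = (f.app (X.basicOpen s)).hom (rX c) := by
      intro c
      have := f.naturality (homOfLE hle).op
      exact (congrArg (fun g => g.hom c) this).symm
    have hunit : IsUnit (rX s) := RingedSpace.isUnit_res_basicOpen _ s
    obtain ⟨u, hu⟩ := hunit
    have hnb' : t * rY (φ s) ^ n = rY b := hnb
    refine ⟨rX a * ((u⁻¹ : (Γ(X, X.basicOpen s))ˣ) : Γ(X, X.basicOpen s)) ^ (n + 1), ?_⟩
    have h1 : rY (φ s) = (f.app (X.basicOpen s)).hom (u : Γ(X, X.basicOpen s)) := by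
      rw [hnat, hu]
    have h2 : rY (φ a) = rY (φ s) * rY b := by rw [← map_mul, ha]
    have hFa : (f.app (X.basicOpen s)).hom (rX a) =
        t * ((f.app (X.basicOpen s)).hom (u : Γ(X, X.basicOpen s))) ^ (n + 1) := by
      rw [← hnat, h2, ← hnb', h1]
      ring
    have hFu : (f.app (X.basicOpen s)).hom (u : Γ(X, X.basicOpen s)) *
        (f.app (X.basicOpen s)).hom ((u⁻¹ : (Γ(X, X.basicOpen s))ˣ) : Γ(X, X.basicOpen s)) = 1 := by
      rw [← map_mul, Units.mul_inv, map_one]
    rw [map_mul, map_pow, hFa, mul_assoc, ← mul_pow, hFu, one_pow, mul_one]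

end Groth.Agent.Lib.Helper21.BirIso
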