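import Groth.Agent.Lib.Helper21.CDeg8
import Groth.Agent.Lib.Helper29.Dual3

/-!
# Twisting a module with finite support by an invertible module does not change `H^0`
-/

set_option autoImplicit false
set_option linter.style.haveILetI false
set_option linter.unusedSectionVars false
universe u
open CategoryTheory CategoryTheory.Limits AlgebraicGeometry TopologicalSpace Opposite

namespace Groth.Agent.Lib.Helper21.CDeg

open Groth.Agent.Lib.Helper29.QCoh Groth.Agent.Lib.Helper29.QCoh.Dual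

variable {X : Scheme.{u}}

section Glue

/-- sections of a module over an open where all its stalks vanish are all equal -/
theorem eq_of_forall_subsingleton_stalk (F : X.Modules) {W : X.Opens}
    (hW : ∀ y ∈ W, Subsingleton (F.presheaf.stalk y)) (a b : Γ(F, W)) : a = b := by
  rw [← sub_eq_zero]
  refine eq_zero_of_germ_eq_zero F (a - b) (fun x hx => ?_)
  haveI := hW x hx
  exact Subsingleton.elim _ _

/-- the restriction map to a family of opens indexed by the points -/
noncomputable def restrictPi (F : X.Modules) (V : X → X.Opens) :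
    Γ(F, ⊤) →+ ∀ x, Γ(F, V x) where
  toFun f x := Groth.Agent.Lib.Helper29.QCoh.res F le_top f
  map_zero' := by funext x; exact map_zero _
  map_add' a b := by funext x; exact map_add _ a b

theorem restrictPi_apply (F : X.Modules) (V : X → X.Opens) (f : Γ(F, ⊤)) (x : X) :
    restrictPi F V f x = Groth.Agent.Lib.Helper29.QCoh.res F le_top f := rfl

theorem restrictPi_bijective (F : X.Modules) (Z : Set X)
    (hF : ∀ x, x ∉ Z → Subsingleton (F.presheaf.stalk x))
    (V : X → X.Opens) (hxV : ∀ x, x ∈ V x) (huniq : ∀ x, ∀ y ∈ V x, y ∈ Z → y = x) :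
    Function.Bijective (restrictPi F V) := by
  have hcov : (⊤ : X.Opens) ≤ iSup V := fun x _ => Opens.mem_iSup.mpr ⟨x, hxV x⟩
  constructor
  · intro a b hab
    exact eq_of_res_cover_eq F V (fun _ => le_top) hcov a b (fun x => congrFun hab x)
  · intro fam
    have hcompat : ∀ x y,
        Groth.Agent.Lib.Helper29.QCoh.res F (inf_le_left : V x ⊓ V y ≤ V x) (fam x) =
        Groth.Agent.Lib.Helper29.QCoh.res F (inf_le_right : V x ⊓ V y ≤ V y) (fam y) := by
      intro x y
      by_cases hxy : x = y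
      · subst hxy
        rfl
      · refine eq_of_forall_subsingleton_stalk F (fun z hz => hF z (fun hzZ => hxy ?_)) _ _
        exact (huniq x z hz.1 hzZ).symm.trans (huniq y z hz.2 hzZ)
    obtain ⟨s, hs⟩ := exists_gluing F V ⊤ (fun _ => le_top) hcov fam hcompat
    exact ⟨s, funext hs⟩

/-- **comparison of global sections from local comparisons** for two modules concentrated on a
set `Z`, given a cover by opens `V x ∋ x` meeting `Z` at most in `x` -/
theorem exists_addEquiv_sections (F F' : X.Modules) (Z : Set X)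
    (hF : ∀ x, x ∉ Z → Subsingleton (F.presheaf.stalk x))
    (hF' : ∀ x, x ∉ Z → Subsingleton (F'.presheaf.stalk x))
    (V : X → X.Opens) (hxV : ∀ x, x ∈ V x) (huniq : ∀ x, ∀ y ∈ V x, y ∈ Z → y = x)
    (T : ∀ x, Γ(F, V x) ≃+ Γ(F', V x))
    (hT : ∀ x (r : Γ(X, ⊤)) (f : Γ(F, V x)),
      T x (rres X (le_top : V x ≤ ⊤) r • f) = rres X (le_top : V x ≤ ⊤) r • T x f) :
    ∃ Φ : Γ(F, ⊤) ≃+ Γ(F', ⊤), ∀ (r : Γ(X, ⊤)) (f : Γ(F, ⊤)), Φ (r • f) = r • Φ f := by
  let ρ := AddEquiv.ofBijective (restrictPi F V) (restrictPi_bijective F Z hF V hxV huniq)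
  let ρ' := AddEquiv.ofBijective (restrictPi F' V) (restrictPi_bijective F' Z hF' V hxV huniq)
  refine ⟨ρ.trans ((AddEquiv.piCongrRight T).trans ρ'.symm), fun r f => ?_⟩
  apply ρ'.injective
  rw [AddEquiv.trans_apply, AddEquiv.trans_apply, AddEquiv.apply_symm_apply]
  funext x
  have h1 : ρ' (r • ρ'.symm ((AddEquiv.piCongrRight T) (ρ f))) x =
      rres X (le_top : V x ≤ ⊤) r • T x (ρ f x) := by
    change Groth.Agent.Lib.Helper29.QCoh.res F' le_top (r • ρ'.symm ((AddEquiv.piCongrRight T) (ρ f))) = _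
    rw [res_smul']
    congr 1
    have := congrFun (ρ'.apply_symm_apply ((AddEquiv.piCongrRight T) (ρ f))) x
    exact this
  show (AddEquiv.piCongrRight T) (ρ (r • f)) x =
    ρ' (r • ρ'.symm ((AddEquiv.piCongrRight T) (ρ f))) x
  rw [h1]
  change T x (Groth.Agent.Lib.Helper29.QCoh.res F le_top (r • f)) = _
  rw [res_smul', hT]
  rfl

end Glue

section Twist

/-- the stalk of `Q ⊗ G` vanishes where the stalk of `Q` does, for `G` invertible -/
theorem subsingleton_stalk_tensorMod (Q G : X.Modules) [Q.IsQuasicoherent]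
    (hG : PicF.IsInvertible G) (x : X) (hx : Subsingleton (Q.presheaf.stalk x)) :
    Subsingleton ((CohB1.tensorMod Q G).presheaf.stalk x) := by
  haveI := isQuasicoherent_of_isInvertible hG
  refine ⟨fun a b => ?_⟩
  have h0 : ∀ t : (CohB1.tensorMod Q G).presheaf.stalk x, t = 0 := by
    intro t
    obtain ⟨W, hxW, τ, rfl⟩ := TopCat.Presheaf.exists_germ_eq (CohB1.tensorMod Q G).presheaf t
    obtain ⟨U, e, hU, hxU, hUW, hT⟩ := exists_affine_isTriv hG (W := W) x hxW
    obtain ⟨q, hq⟩ := (tmulSec_bijective_of_isTriv Q hU hT).2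
      (Groth.Agent.Lib.Helper29.QCoh.res _ hUW τ)
    have hq' : tmulSec Q G q e = Groth.Agent.Lib.Helper29.QCoh.res _ hUW τ := hq
    have hq0 : Q.presheaf.germ U x hxU q = 0 := Subsingleton.elim _ _
    obtain ⟨W', hW'U, hxW', hres⟩ := exists_res_eq_zero_of_germ_eq_zero Q x hxU q hq0
    have h1 : Groth.Agent.Lib.Helper29.QCoh.res _ (hW'U.trans hUW) τ = 0 := by
      rw [← res_res _ hUW hW'U, ← hq', res_tmulSec, hres, tmulSec_zero_left]
    rw [← germ_res _ (hW'U.trans hUW) x hxW', h1, map_zero]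
  rw [h0 a, h0 b]

variable (k : Type u) [Field k] [X.Over (Spec (CommRingCat.of k))]

/-- **twisting by an invertible module does not change `H^0`** of a quasi-coherent module
concentrated on a set all of whose subsets are closed -/
theorem nonempty_linearEquiv_HH_zero_tensorMod (Q G : X.Modules) [Q.IsQuasicoherent]
    (hG : PicF.IsInvertible G) (Z : Set X) (hZ : ∀ T : Set X, T ⊆ Z → IsClosed T)
    (hQ : ∀ x, x ∉ Z → Subsingleton (Q.presheaf.stalk x)) :
    Nonempty (Coh.HH X Q 0 ≃ₗ[k] Coh.HH X (CohB1.tensorMod Q G) 0) := by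
  haveI := isQuasicoherent_of_isInvertible hG
  have hQ' : ∀ x, x ∉ Z → Subsingleton ((CohB1.tensorMod Q G).presheaf.stalk x) :=
    fun x hx => subsingleton_stalk_tensorMod Q G hG x (hQ x hx)
  have hloc : ∀ x : X, ∃ (V : X.Opens) (e : Γ(G, V)), IsAffineOpen V ∧ x ∈ V ∧ IsTriv G V e ∧
      ∀ y ∈ V, y ∈ Z → y = x := by
    intro x
    have hTcl : IsClosed (Z \ {x}) := hZ _ Set.sdiff_subset
    let O : X.Opens := ⟨(Z \ {x})ᶜ, hTcl.isOpen_compl⟩
    have hxO : x ∈ O := fun h => h.2 rfl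
    obtain ⟨V, e, hV, hxV, hVO, he⟩ := exists_affine_isTriv hG (W := O) x hxO
    refine ⟨V, e, hV, hxV, he, fun y hy hyZ => ?_⟩
    by_contra hne
    exact hVO hy ⟨hyZ, hne⟩
  choose V e hV hxV he huniq using hloc
  let T : ∀ x, Γ(Q, V x) ≃+ Γ(CohB1.tensorMod Q G, V x) := fun x =>
    AddEquiv.ofBijective
      ({ toFun := fun q => tmulSec Q G q (e x)
         map_zero' := tmulSec_zero_left Q G _
         map_add' := fun a b => tmulSec_add_left Q G a b _ } :
        Γ(Q, V x) →+ Γ(CohB1.tensorMod Q G, V x))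
      (tmulSec_bijective_of_isTriv Q (hV x) (he x))
  have hT : ∀ x (r : Γ(X, ⊤)) (f : Γ(Q, V x)),
      T x (rres X (le_top : V x ≤ ⊤) r • f) = rres X (le_top : V x ≤ ⊤) r • T x f := by
    intro x r f
    exact tmulSec_smul_left Q G _ f (e x)
  obtain ⟨Φ, hΦ⟩ := exists_addEquiv_sections Q (CohB1.tensorMod Q G) Z hQ hQ' V hxV huniq T hT
  let Ψ : Coh.HH X Q 0 ≃+ Coh.HH X (CohB1.tensorMod Q G) 0 :=
    (hh0 Q).trans (Φ.trans (hh0 (CohB1.tensorMod Q G)).symm)
  refine ⟨{ Ψ with map_smul' := fun c v => ?_ }⟩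
  apply (hh0 (CohB1.tensorMod Q G)).injective
  change hh0 (CohB1.tensorMod Q G) (Ψ (c • v)) = hh0 (CohB1.tensorMod Q G) (c • Ψ v)
  have h2 : c • v = (Coh.toGlobal (X ↘ Spec (CommRingCat.of k)) c) • v := rfl
  have h3 : c • Ψ v = (Coh.toGlobal (X ↘ Spec (CommRingCat.of k)) c) • Ψ v := rfl
  rw [h2, h3, hh0_smul]
  change hh0 (CohB1.tensorMod Q G) ((hh0 (CohB1.tensorMod Q G)).symm (Φ (hh0 Q _))) =
    _ • hh0 (CohB1.tensorMod Q G) ((hh0 (CohB1.tensorMod Q G)).symm (Φ (hh0 Q v)))
  rw [AddEquiv.apply_symm_apply, AddEquiv.apply_symm_apply, hh0_smul, hΦ]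

end Twist

end Groth.Agent.Lib.Helper21.CDeg
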