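import Groth.Agent.Lib.Helper21.BirFin
import Groth.Agent.Lib.Helper21.CDeg9

/-!
# A finite birational map onto a reduced curve with the same `H^0`, `H^1` is an isomorphism
-/

set_option autoImplicit false
set_option linter.style.haveILetI false
set_option linter.unusedSectionVars false
universe u
open CategoryTheory CategoryTheory.Limits AlgebraicGeometry TopologicalSpace Opposite

namespace Groth.Agent.Lib.Helper21.BirIso2

open Groth.Agent.Lib.Helper29.QCoh Groth.Agent.Lib.Lead.LinLES Groth.Agent.Lib.Helper21.BirH1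
  Groth.Agent.Lib.Helper21.CDeg

section Mono

variable {X X' : Scheme.{u}} (f : X' ⟶ X)

/-- on a reduced scheme, `O_X → f_* O_{X'}` is a monomorphism as soon as the image of `f`
contains a dense open -/
theorem mono_unitHom [IsReduced X] (U : X.Opens) (hU : Dense (U : Set X))
    (hsurj : ∀ y ∈ U, ∃ y' : X', f y' = y) : Mono (unitHom f) := by
  rw [mono_iff_app_injective]
  intro W
  rw [injective_iff_map_eq_zero]
  intro a ha
  obtain ⟨r, rfl⟩ := toUnit_surjective a
  rw [unitHom_app] at ha
  have hr0 : (f.app W).hom r = 0 := ha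
  have hbot : X.basicOpen r = ⊥ := by
    by_contra hne
    have hne' : ((X.basicOpen r : X.Opens) : Set X).Nonempty := by
      rw [Set.nonempty_iff_ne_empty]
      intro h
      exact hne (Opens.ext h)
    obtain ⟨y, hyr, hyU⟩ := hU.inter_open_nonempty _ (X.basicOpen r).isOpen hne'
    obtain ⟨y', rfl⟩ := hsurj y hyU
    have h1 : y' ∈ f ⁻¹ᵁ X.basicOpen r := hyr
    rw [Scheme.preimage_basicOpen] at h1
    have h2 : X'.basicOpen ((f.app W).hom r) = ⊥ := by rw [hr0]; exact Scheme.basicOpen_zero _ _
    change y' ∈ X'.basicOpen ((f.app W).hom r) at h1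
    rw [h2] at h1
    exact h1
  have : r = 0 := (basicOpen_eq_bot_iff r).mp hbot
  rw [this]
  rfl

end Mono

section Stalk

variable {X : Scheme.{u}}

/-- a module concentrated on a set all of whose subsets are closed, without nonzero global
sections, has vanishing stalks -/
theorem subsingleton_stalk_of_subsingleton_sections (Q : X.Modules) (Z : Set X)
    (hZ : ∀ T : Set X, T ⊆ Z → IsClosed T)
    (hQ : ∀ x, x ∉ Z → Subsingleton (Q.presheaf.stalk x))
    (h0 : Subsingleton (Γ(Q, ⊤) : Type u)) (x : X) : Subsingleton (Q.presheaf.stalk x) := by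
  refine ⟨fun a b => ?_⟩
  have key : ∀ t : Q.presheaf.stalk x, t = 0 := by
    intro t
    obtain ⟨W, hxW, τ, rfl⟩ := TopCat.Presheaf.exists_germ_eq Q.presheaf t
    classical
    let O : X → X.Opens := fun y => ⟨(Z \ {y})ᶜ, (hZ _ Set.sdiff_subset).isOpen_compl⟩
    have hyO : ∀ y, y ∈ O y := fun y h => h.2 rfl
    let V : X → X.Opens := fun y => (if y = x then W else ⊤) ⊓ O y
    have hxV : ∀ y, y ∈ V y := by
      intro y
      refine ⟨?_, hyO y⟩
      by_cases h : y = x
      · simp only [h, if_true]; exact hxW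
      · simp only [h, if_false]; trivial
    have huniq : ∀ y, ∀ z ∈ V y, z ∈ Z → z = y := by
      intro y z hz hzZ
      by_contra hne
      exact hz.2 ⟨hzZ, hne⟩
    have hVW : V x ≤ W := by
      intro z hz
      have := hz.1
      simpa using this
    have hbij := restrictPi_bijective Q Z hQ V hxV huniq
    obtain ⟨σ, hσ⟩ := hbij.2
      (Function.update (fun y => (0 : Γ(Q, V y))) x (Groth.Agent.Lib.Helper29.QCoh.res Q hVW τ))
    have hσ0 : σ = 0 := Subsingleton.elim _ _
    have h1 := congrFun hσ x
    rw [Function.update_self, hσ0, map_zero] at h1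
    have h2 : Groth.Agent.Lib.Helper29.QCoh.res Q hVW τ = 0 := h1.symm
    rw [← germ_res Q hVW x (hxV x) τ, h2, map_zero]
  rw [key a, key b]

end Stalk

section Aff

variable {X X' : Scheme.{u}} (f : X' ⟶ X)

/-- an affine morphism inducing bijections on all rings of sections is an isomorphism -/
theorem isIso_of_app_bijective [IsAffineHom f]
    (happ : ∀ V : X.Opens, Function.Bijective (f.app V).hom) : IsIso f := by
  rw [← MorphismProperty.isomorphisms.iff,
    HasAffineProperty.eq_targetAffineLocally (MorphismProperty.isomorphisms Scheme)]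
  intro V
  refine ⟨V.2.preimage f, ?_⟩
  rw [morphismRestrict_appTop]
  have h1 : IsIso (f.app (V.1.ι ''ᵁ ⊤)) :=
    (ConcreteCategory.isIso_iff_bijective _).mpr (happ _)
  have h2 : IsIso (X'.presheaf.map (eqToHom (image_morphismRestrict_preimage f V.1 ⊤)).op) :=
    inferInstance
  exact @IsIso.comp_isIso _ _ _ _ _ _ _ h1 h2

end Aff

section Main

variable (k : Type u) [Field k] (X X' : Scheme.{u}) [X.Over (Spec (CommRingCat.of k))]
  [X'.Over (Spec (CommRingCat.of k))] [IsProper (X ↘ (Spec (CommRingCat.of k)))]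

/-- **a proper birational map onto a reduced curve which is surjective on `H^0(O)` and preserves
`h^1(O)` is an isomorphism** -/
theorem isIso_of_birational [IsReduced X] (hdim : topologicalKrullDim X ≤ 1) (f : X' ⟶ X)
    [IsProper f]
    (hf : f ≫ (X ↘ Spec (CommRingCat.of k)) = X' ↘ Spec (CommRingCat.of k))
    (U : X.Opens) (hU : Dense (U : Set X)) (hU' : Dense ((f ⁻¹ᵁ U : X'.Opens) : Set X'))
    [IsIso (f ∣_ U)] (h0 : Function.Surjective (f.app ⊤).hom)
    (h1 : Curv2.genus k X' = Curv2.genus k X) : IsIso f := by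
  haveI hfin : IsFinite f :=
    Groth.Agent.Lib.Helper21.BirFin.isFinite_of_birational k X X' hdim f hf U hU'
  haveI : IsLocallyNoetherian X :=
    LocallyOfFiniteType.isLocallyNoetherian (X ↘ Spec (CommRingCat.of k))
  haveI : CompactSpace X :=
    QuasiCompact.compactSpace_of_compactSpace (X ↘ (Spec (CommRingCat.of k)))
  haveI : IsNoetherian X := {}
  haveI hqc : (unitM X').IsQuasicoherent := isQuasicoherent_of_isInvertible (isInvertible_unit X')
  -- `f` is surjective over `U`
  have hsurjU : ∀ y ∈ U, ∃ y' : X', f y' = y := by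
    intro y hy
    obtain ⟨y'', hy''⟩ := (f ∣_ U).surjective ⟨y, hy⟩
    refine ⟨y''.1, ?_⟩
    rw [← morphismRestrict_base_coe f U y'', hy'']
  haveI hmono : Mono (unitHom f) := mono_unitHom f U hU hsurjU
  have hsupp : CohB1.support (cokernel (unitHom f)) ⊆ (U : Set X)ᶜ := by
    intro x hx hxU
    exact hx ((stalkMap_surjective_iff_cokernel _ x).mp
      (stalkMap_unitHom_surjective f U x hxU))
  have hZ : ∀ T : Set X, T ⊆ (U : Set X)ᶜ → IsClosed T :=
    fun T hT => isClosed_of_subset_compl_of_dense X hdim U hU hT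
  have hQ1 : Subsingleton (Coh.HH X (cokernel (unitHom f)) 1) :=
    subsingleton_HH_succ_of_support_hereditarily_closed _ (fun T hT => hZ T (hT.trans hsupp)) 0
  have hsurj1 := surjective_HHlin_one k X hdim (unitHom f) hQ1
  obtain ⟨e⟩ := Groth.Agent.Lib.Lead.NatPush.nonempty_HH_linearEquiv_HH_push f (unitM X') k hf 1
  have hOc : Coh.IsCoh (unitM X) :=
    ⟨isQuasicoherent_of_isInvertible (isInvertible_unit X),
     isFiniteType_of_isInvertible (isInvertible_unit X)⟩
  haveI : Module.Finite k (Coh.HH X (unitM X) 1) := Groth.Agent.S0002.result k X _ hOc 1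
  haveI : Module.Finite k (Coh.HH X ((Coh.push f).obj (unitM X')) 1) :=
    Module.Finite.of_surjective _ hsurj1
  have hfr : Module.finrank k (Coh.HH X (unitM X) 1) =
      Module.finrank k (Coh.HH X ((Coh.push f).obj (unitM X')) 1) := by
    rw [← e.finrank_eq]
    exact h1.symm
  have hinj1 : Function.Injective (Canon.HHlin k (unitHom f) 1) :=
    (LinearMap.injective_iff_surjective_of_finrank_eq_finrank hfr).mpr hsurj1
  have hS : (ShortComplex.mk (unitHom f) (cokernel.π (unitHom f))
      (cokernel.condition (unitHom f))).ShortExact :=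
    { exact := ShortComplex.exact_cokernel (unitHom f)
      mono_f := hmono
      epi_g := inferInstanceAs (Epi (cokernel.π (unitHom f))) }
  have hsurj0 : Function.Surjective (Canon.HHlin k (unitHom f) 0) :=
    (surjective_app_top_iff k (unitHom f)).mp (unitHom_app_surjective f ⊤ h0)
  have hQ0 : Subsingleton (Coh.HH X (cokernel (unitHom f)) 0) := by
    refine ⟨fun a b => ?_⟩
    have key : ∀ q : Coh.HH X (cokernel (unitHom f)) 0, q = 0 := by
      intro q
      have hδ : δlin k (ShortComplex.mk (unitHom f) (cokernel.π (unitHom f))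
          (cokernel.condition (unitHom f))) hS 0 q = 0 := by
        apply hinj1
        rw [map_zero]
        exact (exact₁ k (ShortComplex.mk (unitHom f) (cokernel.π (unitHom f))
          (cokernel.condition (unitHom f))) hS 0 _).2 ⟨q, rfl⟩
      obtain ⟨y, rfl⟩ := (exact₃ k (ShortComplex.mk (unitHom f) (cokernel.π (unitHom f))
          (cokernel.condition (unitHom f))) hS 0 q).1 hδ
      obtain ⟨z, rfl⟩ := hsurj0 y
      exact (exact₂ k (ShortComplex.mk (unitHom f) (cokernel.π (unitHom f))
          (cokernel.condition (unitHom f))) hS 0 _).2 ⟨z, rfl⟩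
    rw [key a, key b]
  have hΓ : Subsingleton (Γ(cokernel (unitHom f), ⊤) : Type u) :=
    (hh0 (cokernel (unitHom f))).symm.toEquiv.subsingleton
  have hstalk : ∀ x, Subsingleton ((cokernel (unitHom f)).presheaf.stalk x) :=
    subsingleton_stalk_of_subsingleton_sections (cokernel (unitHom f)) (U : Set X)ᶜ hZ
      (fun x hx => by
        by_contra h
        exact hx (hsupp h)) hΓ
  haveI : Epi (unitHom f) := (epi_iff_stalkMap_surjective (unitHom f)).mpr
    (fun x => (stalkMap_surjective_iff_cokernel (unitHom f) x).mpr (hstalk x))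
  haveI : IsIso (unitHom f) := isIso_of_mono_of_epi (unitHom f)
  refine isIso_of_app_bijective f (fun V => ?_)
  have hb := app_bijective_of_isIso (unitHom f) V
  constructor
  · intro r r' h
    have h2 : (unitHom f).app V (toUnit r) = (unitHom f).app V (toUnit r') := by
      rw [unitHom_app, unitHom_app, h]
    exact hb.1 h2
  · intro m
    obtain ⟨a, ha⟩ := hb.2 (toUnit m : Γ(unitM X', f ⁻¹ᵁ V))
    obtain ⟨r, rfl⟩ := toUnit_surjective a
    rw [unitHom_app] at ha
    exact ⟨r, ha⟩

end Main

end Groth.Agent.Lib.Helper21.BirIso2
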