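import Groth.Agent.Lib.Helper21.BirRad1
import Mathlib.AlgebraicGeometry.Morphisms.UniversallyInjective
import Mathlib.AlgebraicGeometry.Morphisms.IsIso

set_option autoImplicit false
set_option linter.style.haveILetI false
set_option linter.unusedSectionVars false
universe u
open AlgebraicGeometry CategoryTheory Limits TopologicalSpace

namespace Groth.Agent.Lib.Helper21.BirRad

section Main

variable {U V : Scheme.{u}} [IsIntegral U] [IsIntegral V] (h : U ⟶ V)

theorem bijective_stalkMap_genericPoint (hgen : h (genericPoint U) = genericPoint V)
    (hbir : Function.Bijective (h.residueFieldMap (genericPoint U)).hom) :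
    Function.Bijective (h.stalkMap (genericPoint U)).hom := by
  have sq := Scheme.residue_residueFieldMap h (genericPoint U)
  have h1 := residue_bijective_of_eq_genericPoint (h (genericPoint U)) hgen
  have h2 := residue_bijective_of_eq_genericPoint (genericPoint U) rfl
  have h3 : Function.Bijective
      ((U.residue (genericPoint U)).hom ∘ (h.stalkMap (genericPoint U)).hom) := by
    have : (U.residue (genericPoint U)).hom ∘ (h.stalkMap (genericPoint U)).hom =
        (h.residueFieldMap (genericPoint U)).hom ∘ (V.residue (h (genericPoint U))).hom := by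
      funext a
      have := congrArg (fun g => g.hom a) sq
      simpa using this.symm
    rw [this]
    exact hbir.comp h1
  exact (Function.Bijective.of_comp_iff' h2 _).mp h3

variable (hgen : h (genericPoint U) = genericPoint V)
  (hbir : Function.Bijective (h.residueFieldMap (genericPoint U)).hom)

/-- The embedding `𝒪_{V, h u} → K(U)`. -/
noncomputable def iotaV (u : U) : V.presheaf.stalk (h u) ⟶ U.presheaf.stalk (genericPoint U) :=
  V.presheaf.stalkSpecializes ((genericPoint_specializes u).map h.continuous) ≫
    h.stalkMap (genericPoint U)

theorem stalkMap_comp_algebraMap (u : U) :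
    h.stalkMap u ≫ U.presheaf.stalkSpecializes (genericPoint_specializes u) = iotaV h u :=
  (h.stalkSpecializes_stalkMap (genericPoint U) u (genericPoint_specializes u)).symm

include hgen hbir in
theorem iotaV_injective (u : U) : Function.Injective (iotaV h u).hom := by
  unfold iotaV
  rw [CommRingCat.hom_comp, RingHom.coe_comp]
  refine Function.Injective.comp ?_ ?_
  · exact (bijective_stalkMap_genericPoint h hgen hbir).1
  · exact stalkSpecializes_injective_of_eq_genericPoint _ _ hgen _

include hgen hbir in
theorem stalkMap_injective (u : U) : Function.Injective (h.stalkMap u).hom := by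
  have h1 := iotaV_injective h hgen hbir u
  rw [← stalkMap_comp_algebraMap, CommRingCat.hom_comp, RingHom.coe_comp] at h1
  exact Function.Injective.of_comp h1

include hgen hbir in
/-- The image of `𝒪_{V, h u}` in `K(U)` is integrally closed when `𝒪_{V, h u}` is. -/
theorem mem_range_iotaV_of_isIntegral (u : U) [IsIntegrallyClosed (V.presheaf.stalk (h u))]
    (x : U.functionField) (hx : (iotaV h u).hom.IsIntegralElem x) :
    ∃ a, (iotaV h u).hom a = x := by
  have hbij := bijective_stalkMap_genericPoint h hgen hbir
  obtain ⟨y, hy⟩ := hbij.2 x
  obtain ⟨p, hp, hpx⟩ := hx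
  have hy' : (V.presheaf.stalkSpecializes
      ((genericPoint_specializes u).map h.continuous)).hom.IsIntegralElem y := by
    refine ⟨p, hp, hbij.1 ?_⟩
    rw [map_zero, Polynomial.hom_eval₂, hy]
    exact hpx
  obtain ⟨a, ha⟩ := mem_range_stalkSpecializes_of_isIntegralElem _ _ hgen _ y hy'
  refine ⟨a, ?_⟩
  change (h.stalkMap (genericPoint U)).hom ((V.presheaf.stalkSpecializes _).hom a) = x
  rw [ha, hy]

end Main

end Groth.Agent.Lib.Helper21.BirRad
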