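import Groth.Agent.Lib.Helper21.BirRad2

set_option autoImplicit false
set_option linter.style.haveILetI false
set_option linter.unusedSectionVars false
universe u
open AlgebraicGeometry CategoryTheory Limits TopologicalSpace

namespace Groth.Agent.Lib.Helper21.BirRad

section Main

variable {U V : Scheme.{u}} [IsIntegral U] [IsIntegral V] (h : U ⟶ V)
  (hgen : h (genericPoint U) = genericPoint V)
  (hbir : Function.Bijective (h.residueFieldMap (genericPoint U)).hom)

include hgen hbir in
theorem isIntegrallyClosedIn_range_iotaV (u : U) [IsIntegrallyClosed (V.presheaf.stalk (h u))] :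
    IsIntegrallyClosedIn (LocalSubring.range (iotaV h u).hom).toSubring U.functionField := by
  rw [Subring.isIntegrallyClosedIn_iff]
  intro x hx
  obtain ⟨p, hp, hpx⟩ := hx
  have hsurj : Function.Surjective (iotaV h u).hom.rangeRestrict :=
    RingHom.rangeRestrict_surjective _
  obtain ⟨q, hq, -, hqm⟩ := Polynomial.lifts_and_degree_eq_and_monic
    ((Polynomial.mem_lifts p).mpr (Polynomial.map_surjective _ hsurj p)) hp
  have hint : (iotaV h u).hom.IsIntegralElem x := by
    refine ⟨q, hqm, ?_⟩
    have h1 : (iotaV h u).hom = (Subring.subtype _).comp (iotaV h u).hom.rangeRestrict := rfl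
    rw [h1, ← Polynomial.eval₂_map]
    exact (congrArg (Polynomial.eval₂ _ x) hq).trans hpx
  obtain ⟨a, ha⟩ := mem_range_iotaV_of_isIntegral h hgen hbir u x hint
  exact ⟨a, ha⟩

include hgen hbir in
theorem stalkMap_surjective [UniversallyClosed h] (hinj : Function.Injective h) (u : U)
    [IsIntegrallyClosed (V.presheaf.stalk (h u))] :
    Function.Surjective (h.stalkMap u).hom := by
  classical
  intro b
  by_contra hcon
  haveI := isIntegrallyClosedIn_range_iotaV h hgen hbir u
  have hcompat : ∀ a : V.presheaf.stalk (h u),
      algebraMap (U.presheaf.stalk u) U.functionField ((h.stalkMap u).hom a) =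
        (iotaV h u).hom a := by
    intro a
    have := congrArg (fun g => g.hom a) (stalkMap_comp_algebraMap h u)
    exact this
  have hβA : algebraMap (U.presheaf.stalk u) U.functionField b ∉
      (LocalSubring.range (iotaV h u).hom).toSubring := by
    rintro ⟨a, ha⟩
    apply hcon
    refine ⟨a, ?_⟩
    apply IsFractionRing.injective (U.presheaf.stalk u) U.functionField
    rw [hcompat, ha]
  obtain ⟨W, hAW, hβW⟩ := LocalSubring.exists_le_valuationSubring_of_isIntegrallyClosedIn hβA
  have hle : ∀ a : V.presheaf.stalk (h u), (iotaV h u).hom a ∈ W.toSubring :=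
    fun a => hAW.1 ⟨a, rfl⟩
  let θ : V.presheaf.stalk (h u) →+* W := (iotaV h u).hom.codRestrict W.toSubring hle
  haveI hθloc : IsLocalHom θ :=
    @RingHom.isLocalHom_comp _ _ _ _ _ _ _ _ hAW.2
      (.of_surjective _ (iotaV h u).hom.rangeRestrict_surjective)
  have hθ : CommRingCat.ofHom θ ≫ CommRingCat.ofHom (algebraMap W U.functionField) =
      iotaV h u := by
    ext a
    rfl
  have w : U.fromSpecStalk (genericPoint U) ≫ h =
      Spec.map (CommRingCat.ofHom (algebraMap W U.functionField)) ≫
        Spec.map (CommRingCat.ofHom θ) ≫ V.fromSpecStalk (h u) := by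
    rw [← Scheme.SpecMap_stalkMap_fromSpecStalk,
      ← Scheme.SpecMap_stalkSpecializes_fromSpecStalk
        ((genericPoint_specializes u).map h.continuous)]
    simp_rw [← Spec.map_comp_assoc]
    rw [hθ]
    rfl
  have H : ValuativeCriterion.Existence h := by
    have : (ValuativeCriterion.Existence ⊓ @QuasiCompact) h := by
      rw [← UniversallyClosed.eq_valuativeCriterion]
      infer_instance
    exact this.1
  obtain ⟨l, hl₁, hl₂⟩ := (H { R := W, K := U.functionField, commSq := ⟨w⟩, .. }).exists_lift
  dsimp only at hl₁ hl₂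
  have hcp : h (l (IsLocalRing.closedPoint W)) = h u := by
    rw [← Scheme.Hom.comp_apply, hl₂]
    simp only [Scheme.Hom.comp_base, TopCat.coe_comp, Function.comp_apply]
    have : Spec.map (CommRingCat.ofHom θ) (IsLocalRing.closedPoint W) =
        IsLocalRing.closedPoint (V.presheaf.stalk (h u)) :=
      IsLocalRing.comap_closedPoint (S := W) θ
    rw [this, V.fromSpecStalk_closedPoint]
  have hlu : l (IsLocalRing.closedPoint W) = u := hinj hcp
  exact hβW (mem_of_lift W l hl₁ u hlu b)

end Main

end Groth.Agent.Lib.Helper21.BirRad
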