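import Groth.Agent.Lib.Helper21.BirRad3
import Mathlib.AlgebraicGeometry.Morphisms.UniversallyClosed

set_option autoImplicit false
set_option linter.style.haveILetI false
set_option linter.unusedSectionVars false
universe u
open AlgebraicGeometry CategoryTheory Limits TopologicalSpace

namespace Groth.Agent.Lib.Helper21.BirRad

section Main

variable {U V : Scheme.{u}} [IsIntegral U] [IsIntegral V] (h : U ⟶ V)

/-- A universally closed, universally injective, birational morphism from an integral scheme to a
normal integral scheme is an isomorphism. -/
theorem isIso_of_universallyClosed_radicial_birational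
    (hN : ∀ v : V, IsIntegrallyClosed (V.presheaf.stalk v))
    [UniversallyClosed h] [UniversallyInjective h]
    (hgen : h (genericPoint U) = genericPoint V)
    (hbir : Function.Bijective (h.residueFieldMap (genericPoint U)).hom) :
    IsIso h := by
  have hinj : Function.Injective h := h.injective
  have hclosed : IsClosedMap h := h.isClosedMap
  have hsurj : Function.Surjective h := by
    have hr : IsClosed (Set.range h) := hclosed.isClosed_range
    intro v
    have : genericPoint V ∈ Set.range h := ⟨_, hgen⟩
    exact (genericPoint_specializes v).mem_closed hr this
  have hemb : Topology.IsOpenEmbedding h := by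
    have hce : Topology.IsClosedEmbedding h :=
      .of_continuous_injective_isClosedMap h.continuous hinj hclosed
    exact (hce.toIsEmbedding.toHomeomorphOfSurjective hsurj).isOpenEmbedding
  haveI : ∀ u, IsIso (h.stalkMap u) := fun u => by
    haveI := hN (h u)
    exact (ConcreteCategory.isIso_iff_bijective _).mpr
      ⟨stalkMap_injective h hgen hbir u, stalkMap_surjective h hgen hbir hinj u⟩
  haveI : IsOpenImmersion h := IsOpenImmersion.of_isIso_stalkMap h hemb
  exact (isIso_iff_isOpenImmersion_and_surjective h).mpr ⟨inferInstance, ⟨hsurj⟩⟩

end Main

end Groth.Agent.Lib.Helper21.BirRad
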