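import Groth.Agent.Lib.Helper21.BiratLocal
import Groth.Agent.Lib.Helper12.SpreadOutFP
import Groth.Agent.Lib.Helper14.LfpOfComp
import Mathlib.AlgebraicGeometry.Birational.Birational
import Mathlib.AlgebraicGeometry.FunctionField

/-!
# `S`-birationality of irreducible schemes l.f.p. over `S` in terms of local rings at generic points
-/

set_option autoImplicit false
set_option linter.style.haveILetI false
universe u
open AlgebraicGeometry CategoryTheory CategoryTheory.Limits

namespace Groth.Agent.Lib.Helper21.Birat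

theorem stalkCongr_hom_eq_eqToHom {T : TopCat.{u}} (F : T.Presheaf CommRingCat.{u}) {a b : T}
    (h : a = b) : (F.stalkCongr (.of_eq h)).hom = eqToHom (congrArg F.stalk h) := by
  subst h
  simp [TopCat.Presheaf.stalkCongr_hom]

theorem stalkSpecializes_eq_eqToHom {T : TopCat.{u}} (F : T.Presheaf CommRingCat.{u}) {a b : T}
    (h : a = b) (h' : a ⤳ b) : F.stalkSpecializes h' = eqToHom (congrArg F.stalk h.symm) := by
  subst h
  simp

/-- Two local maps out of stalks into the same local ring inducing the same morphism to `X`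
are simultaneously bijective. -/
theorem bijective_iff_of_SpecMap_fromSpecStalk_eq {X : Scheme.{u}} {R : CommRingCat.{u}}
    [IsLocalRing R] {x₁ x₂ : X}
    (α : X.presheaf.stalk x₁ ⟶ R) (β : X.presheaf.stalk x₂ ⟶ R) [IsLocalHom α.hom]
    [IsLocalHom β.hom]
    (h : Spec.map α ≫ X.fromSpecStalk x₁ = Spec.map β ≫ X.fromSpecStalk x₂) :
    Function.Bijective α ↔ Function.Bijective β := by
  have hx : x₁ = x₂ := by
    have := congr($h (IsLocalRing.closedPoint R))
    simpa only [Scheme.Hom.comp_apply, Spec_closedPoint, Scheme.fromSpecStalk_closedPoint]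
      using this
  subst hx
  have := (cancel_mono (X.fromSpecStalk x₁)).mp h
  rw [Spec.map_injective this]

variable {S X Y : Scheme.{u}}

set_option maxHeartbeats 1000000 in
/-- (⟸) of Stacks 0BAD-ish. -/
theorem birationalOver_of_stalk_iso [IrreducibleSpace ↥X] [IrreducibleSpace ↥Y]
    (sX : X ⟶ S) (sY : Y ⟶ S)
    [LocallyOfFinitePresentation sX] [LocallyOfFinitePresentation sY]
    (hs : sX.base (genericPoint ↥X) = sY.base (genericPoint ↥Y))
    (e : X.presheaf.stalk (genericPoint ↥X) ≅ Y.presheaf.stalk (genericPoint ↥Y))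
    (he : sX.stalkMap (genericPoint ↥X) ≫ e.hom =
      eqToHom (congrArg S.presheaf.stalk hs) ≫ sY.stalkMap (genericPoint ↥Y)) :
    Scheme.BirationalOver sX sY := by
  -- spread out `e.hom` to a morphism `g : W ⟶ X` on a neighbourhood `W` of `η`
  have hs' : sY (genericPoint ↥Y) = sX (genericPoint ↥X) := hs.symm
  obtain ⟨W, hηW, g, hg₁, hg₂⟩ :=
    Groth.Agent.Lib.Helper12.spread_out_of_locallyOfFinitePresentation sY sX hs' e.hom (by
      rw [he, stalkSpecializes_eq_eqToHom S.presheaf hs' _])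
  let w : W.toScheme := ⟨genericPoint ↥Y, hηW⟩
  -- the stalk map of `g` at `w` is bijective
  let α := g.stalkMap w ≫ inv (W.ι.stalkMap w)
  have hα : Spec.map α ≫ X.fromSpecStalk (g w) =
      Spec.map e.hom ≫ X.fromSpecStalk (genericPoint ↥X) := by
    rw [hg₁, Scheme.Opens.fromSpecStalkOfMem, Spec.map_comp, Category.assoc, Category.assoc,
      Scheme.SpecMap_stalkMap_fromSpecStalk]
    rfl
  have hαb : Function.Bijective α :=
    (bijective_iff_of_SpecMap_fromSpecStalk_eq α e.hom hα).mpr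
      ((ConcreteCategory.isIso_iff_bijective e.hom).mp inferInstance)
  have hgb : Function.Bijective (g.stalkMap w) := by
    have h1 : g.stalkMap w = α ≫ W.ι.stalkMap w := by
      simp only [α, Category.assoc, IsIso.inv_hom_id, Category.comp_id]
    haveI : IsIso α := (ConcreteCategory.isIso_iff_bijective α).mpr hαb
    have h2 : IsIso (g.stalkMap w) := by rw [h1]; infer_instance
    exact (ConcreteCategory.isIso_iff_bijective _).mp h2
  have hglfp : LocallyOfFinitePresentation g :=
    Groth.Agent.Lib.Helper14.AS.locallyOfFinitePresentation_of_comp g sX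
      (by rw [hg₂]; infer_instance) inferInstance
  obtain ⟨U', V', h, hwU', -, hIso⟩ :=
    exists_isIso_resLE_of_stalkMap_bijective' g w hgb ⊤ trivial (Or.inl hglfp)
  refine ⟨⟨V', ?_, W.ι ''ᵁ U', ?_, (asIso (g.resLE V' U' h)).symm ≪≫ W.ι.isoImage U'⟩, ?_⟩
  · exact V'.2.dense ⟨g w, h hwU'⟩
  · exact (W.ι ''ᵁ U').2.dense ⟨W.ι w, ⟨w, hwU', rfl⟩⟩
  · change ((asIso (g.resLE V' U' h)).symm ≪≫ W.ι.isoImage U').hom ≫ (W.ι ''ᵁ U').ι ≫ sY =
      V'.ι ≫ sX
    simp only [Iso.trans_hom, Iso.symm_hom, asIso_inv, Category.assoc, IsIso.inv_comp_eq]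
    rw [Scheme.Hom.isoImage_hom_ι_assoc, ← hg₂, Scheme.Hom.resLE_comp_ι_assoc]

theorem exists_stalk_iso_of_comp_eq {U : Scheme.{u}} (i : U ⟶ X) (j : U ⟶ Y) (sX : X ⟶ S)
    (sY : Y ⟶ S) (H : j ≫ sY = i ≫ sX) (u : U) [IsIso (i.stalkMap u)] [IsIso (j.stalkMap u)]
    (x : X) (y : Y) (hx : i u = x) (hy : j u = y) :
    ∃ (hs : sX.base x = sY.base y) (e : X.presheaf.stalk x ≅ Y.presheaf.stalk y),
      sX.stalkMap x ≫ e.hom = eqToHom (congrArg S.presheaf.stalk hs) ≫ sY.stalkMap y := by
  subst hx hy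
  have hs : sX (i u) = sY (j u) := by
    have := congr($H.symm u)
    simpa only [Scheme.Hom.comp_apply] using this
  refine ⟨hs, asIso (i.stalkMap u) ≪≫ (asIso (j.stalkMap u)).symm, ?_⟩
  simp only [Iso.trans_hom, asIso_hom, Iso.symm_hom, asIso_inv]
  rw [← Category.assoc, IsIso.comp_inv_eq, Category.assoc, ← Scheme.Hom.stalkMap_comp,
    ← Scheme.Hom.stalkMap_comp]
  rw [Scheme.Hom.stalkMap_congr_hom (i ≫ sX) (j ≫ sY) H.symm u,
    stalkCongr_hom_eq_eqToHom _ (show (i ≫ sX) u = (j ≫ sY) u from hs)]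
  rfl

theorem irreducibleSpace_opens [IrreducibleSpace ↥X] (U : X.Opens) (hU : (U : Set X).Nonempty) :
    IrreducibleSpace U.toScheme := by
  have h1 : IsIrreducible (U : Set X) :=
    ⟨hU, (IrreducibleSpace.isIrreducible_univ X).isPreirreducible.open_subset U.2
      (Set.subset_univ _)⟩
  exact (isIrreducible_iff_irreducibleSpace (s := (U : Set X))).mp h1

/-- (⟹) of Stacks 0BAD-ish. -/
theorem stalk_iso_of_birationalOver [IrreducibleSpace ↥X] [IrreducibleSpace ↥Y]
    (sX : X ⟶ S) (sY : Y ⟶ S) (h : Scheme.BirationalOver sX sY) :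
    ∃ (hs : sX.base (genericPoint ↥X) = sY.base (genericPoint ↥Y))
      (e : X.presheaf.stalk (genericPoint ↥X) ≅ Y.presheaf.stalk (genericPoint ↥Y)),
      sX.stalkMap (genericPoint ↥X) ≫ e.hom =
        eqToHom (congrArg S.presheaf.stalk hs) ≫ sY.stalkMap (genericPoint ↥Y) := by
  obtain ⟨p, hp⟩ := h
  haveI : IrreducibleSpace p.source.toScheme :=
    irreducibleSpace_opens p.source p.dense_source.nonempty
  have hx : p.source.ι (genericPoint p.source.toScheme) = genericPoint ↥X :=
    genericPoint_eq_of_isOpenImmersion p.source.ι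
  have hy : (p.iso.hom ≫ p.target.ι) (genericPoint p.source.toScheme) = genericPoint ↥Y :=
    genericPoint_eq_of_isOpenImmersion (p.iso.hom ≫ p.target.ι)
  exact exists_stalk_iso_of_comp_eq p.source.ι (p.iso.hom ≫ p.target.ι) sX sY
    (by rw [Category.assoc]; exact hp) (genericPoint p.source.toScheme) _ _ hx hy

end Groth.Agent.Lib.Helper21.Birat
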