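import Mathlib
import Groth.Prelude.Def_Brnch

/-!
# Branches of a local domain in terms of its integral closure in any fraction field
-/

set_option autoImplicit false
set_option linter.style.haveILetI false
universe u v

namespace Groth.Agent.Lib.Helper21.Br

open scoped ENNReal

theorem enat_summable {ι : Type*} (f : ι → ℕ∞) : Summable f :=
  ⟨_, hasSum_of_isLUB _ (isLUB_iSup (f := fun s : Finset ι => ∑ i ∈ s, f i))⟩

theorem toENNReal_tsum {ι : Type*} (f : ι → ℕ∞) :
    ((∑' i, f i : ℕ∞) : ℝ≥0∞) = ∑' i, (f i : ℝ≥0∞) := by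
  have h := (enat_summable f).hasSum
  have h2 : HasSum (fun i => ((f i : ℕ∞) : ℝ≥0∞)) ((∑' i, f i : ℕ∞) : ℝ≥0∞) :=
    h.map ENat.toENNRealRingHom.toAddMonoidHom ENat.continuous_toENNReal
  exact h2.tsum_eq.symm

theorem card_sigma_eq_tsum {ι : Type*} (α : ι → Type*) :
    ENat.card (Σ i, α i) = ∑' i, ENat.card (α i) := by
  apply ENat.toENNReal_strictMono.injective
  rw [toENNReal_tsum, ← ENNReal.tsum_one]
  have := ENNReal.tsum_sigma (β := α) (fun _ _ => (1 : ℝ≥0∞))
  rw [this]
  congr 1
  funext i
  exact ENNReal.tsum_one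

section General

variable {R S : Type*} [CommRing R] [CommRing S] (Φ : R ≃+* S)

/-- Maximal spectra of isomorphic rings. -/
noncomputable def maxSpecEquiv : MaximalSpectrum R ≃ MaximalSpectrum S where
  toFun m := ⟨m.asIdeal.comap Φ.symm, haveI := m.isMaximal; inferInstance⟩
  invFun n := ⟨n.asIdeal.comap Φ, haveI := n.isMaximal; inferInstance⟩
  left_inv m := by
    ext x
    change Φ.symm (Φ x) ∈ m.asIdeal ↔ _
    rw [RingEquiv.symm_apply_apply]
  right_inv n := by
    ext x
    change Φ (Φ.symm x) ∈ n.asIdeal ↔ _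
    rw [RingEquiv.apply_symm_apply]

theorem maxSpecEquiv_asIdeal (m : MaximalSpectrum R) :
    (maxSpecEquiv Φ m).asIdeal = m.asIdeal.map Φ := Ideal.comap_symm Φ

/-- The induced isomorphism of residue rings. -/
noncomputable def quotEquiv (m : MaximalSpectrum R) :
    R ⧸ m.asIdeal ≃+* S ⧸ (maxSpecEquiv Φ m).asIdeal :=
  Ideal.quotientEquiv m.asIdeal (maxSpecEquiv Φ m).asIdeal Φ (maxSpecEquiv_asIdeal Φ m)

theorem quotEquiv_mk (m : MaximalSpectrum R) (r : R) :
    quotEquiv Φ m (Ideal.Quotient.mk _ r) = Ideal.Quotient.mk _ (Φ r) := rfl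

end General

section RingLevel

variable (A : Type u) [CommRing A] [IsDomain A]

/-- A domain is its own reduction. -/
noncomputable def redEquiv : A ≃+* CAlg2.red A :=
  (RingEquiv.quotientBot A).symm.trans (Ideal.quotEquivOfEq (nilradical_eq_zero A).symm)

theorem redEquiv_apply (a : A) : redEquiv A a = Ideal.Quotient.mk (nilradical A) a := rfl

instance isDomain_red : IsDomain (CAlg2.red A) :=
  (redEquiv A).symm.injective.isDomain (redEquiv A).symm.toRingHom

variable (K : Type u) [Field K] [Algebra A K] [IsFractionRing A K]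

/-- The fraction fields correspond. -/
noncomputable def fracEquiv : K ≃+* FractionRing (CAlg2.red A) :=
  IsFractionRing.ringEquivOfRingEquiv (redEquiv A)

theorem fracEquiv_algebraMap (a : A) :
    fracEquiv A K (algebraMap A K a) =
      algebraMap (CAlg2.red A) (FractionRing (CAlg2.red A)) (redEquiv A a) :=
  IsFractionRing.ringEquivOfRingEquiv_algebraMap (redEquiv A) a

theorem isIntegral_fracEquiv {c : K} (hc : IsIntegral A c) :
    IsIntegral (CAlg2.red A) (fracEquiv A K c) := by
  refine IsIntegral.map_of_comp_eq (redEquiv A).toRingHom (fracEquiv A K).toRingHom ?_ hc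
  ext a
  exact (fracEquiv_algebraMap A K a).symm

theorem isIntegral_fracEquiv_symm {d : FractionRing (CAlg2.red A)} (hd : IsIntegral (CAlg2.red A) d) :
    IsIntegral A ((fracEquiv A K).symm d) := by
  refine IsIntegral.map_of_comp_eq (redEquiv A).symm.toRingHom (fracEquiv A K).symm.toRingHom ?_ hd
  ext a
  simp only [RingHom.comp_apply, RingEquiv.toRingHom_eq_coe, RingEquiv.coe_toRingHom]
  rw [← redEquiv_apply, RingEquiv.symm_apply_apply, ← fracEquiv_algebraMap A K,
    RingEquiv.symm_apply_apply]

/-- The integral closures correspond. -/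
noncomputable def normEquiv : integralClosure A K ≃+* CAlg2.normRed A where
  toFun c := ⟨fracEquiv A K c.1, isIntegral_fracEquiv A K c.2⟩
  invFun d := ⟨(fracEquiv A K).symm d.1, isIntegral_fracEquiv_symm A K d.2⟩
  left_inv c := Subtype.ext ((fracEquiv A K).symm_apply_apply c.1)
  right_inv d := Subtype.ext ((fracEquiv A K).apply_symm_apply d.1)
  map_mul' x y := Subtype.ext (map_mul (fracEquiv A K) x.1 y.1)
  map_add' x y := Subtype.ext (map_add (fracEquiv A K) x.1 y.1)

theorem normEquiv_algebraMap (a : A) :
    normEquiv A K (algebraMap A (integralClosure A K) a) =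
      algebraMap (CAlg2.red A) (CAlg2.normRed A) (Ideal.Quotient.mk (nilradical A) a) := by
  apply Subtype.ext
  exact fracEquiv_algebraMap A K a


variable [IsLocalRing A]

/-- Embeddings of the residue field of a maximal ideal of the integral closure of `A` in `K`. -/
def Emb' (m : MaximalSpectrum (integralClosure A K)) : Type u :=
  {σ : integralClosure A K ⧸ m.asIdeal →+* AlgebraicClosure (IsLocalRing.ResidueField A) //
    σ.comp ((Ideal.Quotient.mk m.asIdeal).comp (algebraMap A (integralClosure A K))) =
      Brnch.toClosure A}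

theorem quotEquiv_symm_toResidue (m : MaximalSpectrum (integralClosure A K)) (a : A) :
    (quotEquiv (normEquiv A K) m).symm
      (Brnch.toResidue A (maxSpecEquiv (normEquiv A K) m) a) =
      Ideal.Quotient.mk m.asIdeal (algebraMap A (integralClosure A K) a) := by
  rw [RingEquiv.symm_apply_eq, quotEquiv_mk, normEquiv_algebraMap]
  rfl

/-- The embeddings correspond. -/
noncomputable def embEquiv (m : MaximalSpectrum (integralClosure A K)) :
    Emb' A K m ≃ Brnch.Emb A (maxSpecEquiv (normEquiv A K) m) where
  toFun σ := ⟨σ.1.comp (quotEquiv (normEquiv A K) m).symm.toRingHom, by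
    ext a
    have h := RingHom.congr_fun σ.2 a
    simp only [RingHom.comp_apply, RingEquiv.toRingHom_eq_coe, RingEquiv.coe_toRingHom] at h ⊢
    rw [quotEquiv_symm_toResidue]
    exact h⟩
  invFun ρ := ⟨ρ.1.comp (quotEquiv (normEquiv A K) m).toRingHom, by
    ext a
    have h := RingHom.congr_fun ρ.2 a
    simp only [RingHom.comp_apply, RingEquiv.toRingHom_eq_coe, RingEquiv.coe_toRingHom] at h ⊢
    rw [← quotEquiv_symm_toResidue, RingEquiv.apply_symm_apply]
    exact h⟩
  left_inv σ := by
    apply Subtype.ext
    ext x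
    simp
  right_inv ρ := by
    apply Subtype.ext
    ext x
    simp

theorem minimalPrimes_finite_of_isDomain : (minimalPrimes A).Finite := by
  have : minimalPrimes A = {⊥} := IsDomain.minimalPrimes_eq_singleton_bot A
  rw [this]
  exact Set.finite_singleton _

theorem numBranches_eq :
    Brnch.numBranches A = ENat.card (MaximalSpectrum (integralClosure A K)) := by
  unfold Brnch.numBranches
  rw [if_pos (minimalPrimes_finite_of_isDomain A)]
  exact (ENat.card_congr (maxSpecEquiv (normEquiv A K))).symm

theorem numGeomBranches_eq :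
    Brnch.numGeomBranches A =
      ENat.card (Σ m : MaximalSpectrum (integralClosure A K), Emb' A K m) := by
  unfold Brnch.numGeomBranches
  rw [if_pos (minimalPrimes_finite_of_isDomain A)]
  exact (ENat.card_congr (Equiv.sigmaCongr (maxSpecEquiv (normEquiv A K))
    (fun m => embEquiv A K m))).symm

end RingLevel

end Groth.Agent.Lib.Helper21.Br
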