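import Mathlib
import Groth.Agent.Lib.Helper21.Br1

set_option autoImplicit false
set_option linter.style.haveILetI false
set_option linter.unusedSectionVars false
universe u

namespace Groth.Agent.Lib.Helper21.Br

section RingMain

variable (R A B K : Type u) [CommRing R] [CommRing A] [CommRing B] [Field K]
  [IsDomain A] [IsLocalRing A]
  [Algebra R A] [Algebra A K] [Algebra R K] [IsScalarTower R A K] [IsFractionRing A K]
  [Algebra R B] [Algebra B K] [IsScalarTower R B K] [IsIntegralClosure B R K]
  (p : Ideal R) [p.IsPrime] [IsLocalization.AtPrime A p]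

theorem exists_mul_eq (c : K) (hc : IsIntegral A c) :
    ∃ s ∈ p.primeCompl, ∃ b : B, algebraMap R K s * c = algebraMap B K b := by
  obtain ⟨⟨s, hs⟩, hsc⟩ :=
    IsIntegral.exists_multiple_integral_of_isLocalization (Rₘ := A) p.primeCompl c hc
  obtain ⟨b, hb⟩ := (IsIntegralClosure.isIntegral_iff (A := B)).mp hsc
  refine ⟨s, hs, b, ?_⟩
  rw [hb, Submonoid.smul_def, Algebra.smul_def]

include R in
theorem injB : Function.Injective (algebraMap B K) :=
  IsIntegralClosure.algebraMap_injective B R K

include R in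
theorem isIntegral_B (b : B) : IsIntegral A (algebraMap B K b) :=
  ((IsIntegralClosure.isIntegral_iff (A := B) (R := R)).mpr ⟨b, rfl⟩).tower_top

/-- The inclusion of `B` in the integral closure of `A`. -/
noncomputable def jB : B →+* integralClosure A K :=
  (algebraMap B K).codRestrict (integralClosure A K) (fun b => isIntegral_B R A B K b)

theorem jB_coe (b : B) : ((jB R A B K b : integralClosure A K) : K) = algebraMap B K b := rfl

theorem jB_algebraMap (r : R) :
    jB R A B K (algebraMap R B r) = algebraMap A (integralClosure A K) (algebraMap R A r) := by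
  apply Subtype.ext
  change algebraMap B K (algebraMap R B r) = algebraMap A K (algebraMap R A r)
  rw [← IsScalarTower.algebraMap_apply, ← IsScalarTower.algebraMap_apply]

/-- The ideal of the integral closure of `A` generated by `q`. -/
def psiIdeal (q : Ideal B) : Ideal (integralClosure A K) where
  carrier := {c | ∃ s ∈ p.primeCompl, ∃ b ∈ q, algebraMap R K s * (c : K) = algebraMap B K b}
  zero_mem' := ⟨1, Submonoid.one_mem _, 0, q.zero_mem, by simp⟩
  add_mem' := by
    rintro c₁ c₂ ⟨s₁, hs₁, b₁, hb₁, h₁⟩ ⟨s₂, hs₂, b₂, hb₂, h₂⟩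
    refine ⟨s₁ * s₂, Submonoid.mul_mem _ hs₁ hs₂,
      algebraMap R B s₂ * b₁ + algebraMap R B s₁ * b₂,
      q.add_mem (q.mul_mem_left _ hb₁) (q.mul_mem_left _ hb₂), ?_⟩
    rw [map_add, map_mul, map_mul, map_mul, ← h₁, ← h₂,
      ← IsScalarTower.algebraMap_apply, ← IsScalarTower.algebraMap_apply]
    push_cast
    ring
  smul_mem' := by
    rintro c' c ⟨s, hs, b, hb, h⟩
    obtain ⟨s', hs', b', h'⟩ := exists_mul_eq R A B K p (c' : K) c'.2
    refine ⟨s' * s, Submonoid.mul_mem _ hs' hs, b' * b, q.mul_mem_left _ hb, ?_⟩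
    rw [map_mul, map_mul, ← h, ← h']
    change _ * ((c' : K) * (c : K)) = _
    ring

theorem mem_psiIdeal (q : Ideal B) (c : integralClosure A K) :
    c ∈ psiIdeal R A B K p q ↔
      ∃ s ∈ p.primeCompl, ∃ b ∈ q, algebraMap R K s * (c : K) = algebraMap B K b := Iff.rfl

variable {R A B K p}

theorem notMem_of_primeCompl {q : Ideal B} (hq : q.comap (algebraMap R B) = p) {s : R}
    (hs : s ∈ p.primeCompl) : algebraMap R B s ∉ q := by
  intro h
  apply hs
  rw [← hq]
  exact h

theorem comap_jB_psiIdeal {q : Ideal B} [q.IsPrime] (hq : q.comap (algebraMap R B) = p) :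
    (psiIdeal R A B K p q).comap (jB R A B K) = q := by
  ext b
  rw [Ideal.mem_comap, mem_psiIdeal]
  constructor
  · rintro ⟨s, hs, b', hb', h⟩
    rw [jB_coe, IsScalarTower.algebraMap_apply R B K, ← map_mul] at h
    have h2 := injB R B K h
    have h3 : algebraMap R B s * b ∈ q := h2 ▸ hb'
    exact (Ideal.IsPrime.mem_or_mem inferInstance h3).resolve_left (notMem_of_primeCompl hq hs)
  · intro hb
    exact ⟨1, Submonoid.one_mem _, b, hb, by rw [map_one, one_mul, jB_coe]⟩

theorem psiIdeal_ne_top {q : Ideal B} [q.IsPrime] (hq : q.comap (algebraMap R B) = p) :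
    psiIdeal R A B K p q ≠ ⊤ := by
  intro h
  have h1 : (1 : integralClosure A K) ∈ psiIdeal R A B K p q := h ▸ Submodule.mem_top
  have h2 : jB R A B K 1 ∈ psiIdeal R A B K p q := by rw [map_one]; exact h1
  have h3 : (1 : B) ∈ (psiIdeal R A B K p q).comap (jB R A B K) := h2
  rw [comap_jB_psiIdeal hq] at h3
  exact (Ideal.IsPrime.ne_top inferInstance) ((Ideal.eq_top_iff_one q).mpr h3)

theorem psiIdeal_isPrime {q : Ideal B} [q.IsPrime] (hq : q.comap (algebraMap R B) = p) :
    (psiIdeal R A B K p q).IsPrime := by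
  refine ⟨psiIdeal_ne_top hq, ?_⟩
  intro c₁ c₂ h
  obtain ⟨s, hs, b, hb, hsb⟩ := h
  obtain ⟨s₁, hs₁, b₁, h₁⟩ := exists_mul_eq R A B K p (c₁ : K) c₁.2
  obtain ⟨s₂, hs₂, b₂, h₂⟩ := exists_mul_eq R A B K p (c₂ : K) c₂.2
  have hkey : algebraMap R B s * (b₁ * b₂) = algebraMap R B (s₁ * s₂) * b := by
    apply injB R B K
    rw [map_mul, map_mul, map_mul, ← h₁, ← h₂, ← hsb, ← IsScalarTower.algebraMap_apply,
      ← IsScalarTower.algebraMap_apply, map_mul]
    change _ = _ * _ * (_ * ((c₁ : K) * (c₂ : K)))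
    ring
  have h3 : algebraMap R B s * (b₁ * b₂) ∈ q := hkey ▸ q.mul_mem_left _ hb
  have h4 : b₁ * b₂ ∈ q :=
    (Ideal.IsPrime.mem_or_mem inferInstance h3).resolve_left (notMem_of_primeCompl hq hs)
  rcases Ideal.IsPrime.mem_or_mem inferInstance h4 with h5 | h5
  · exact Or.inl ⟨s₁, hs₁, b₁, h5, h₁⟩
  · exact Or.inr ⟨s₂, hs₂, b₂, h5, h₂⟩

theorem comap_psiIdeal {q : Ideal B} [q.IsPrime] (hq : q.comap (algebraMap R B) = p) :
    (psiIdeal R A B K p q).comap (algebraMap A (integralClosure A K)) =
      IsLocalRing.maximalIdeal A := by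
  haveI := psiIdeal_isPrime (A := A) (K := K) hq
  have hne : (psiIdeal R A B K p q).comap (algebraMap A (integralClosure A K)) ≠ ⊤ :=
    Ideal.IsPrime.ne_top (Ideal.comap_isPrime _ _)
  refine ((IsLocalRing.maximalIdeal.isMaximal A).eq_of_le hne ?_).symm
  intro a ha
  obtain ⟨r, s, rfl⟩ := IsLocalization.exists_mk'_eq p.primeCompl a
  have hr : r ∈ p := (IsLocalization.AtPrime.mk'_mem_maximal_iff A p r s).mp ha
  rw [Ideal.mem_comap, mem_psiIdeal]
  refine ⟨s, s.2, algebraMap R B r, ?_, ?_⟩
  · change r ∈ q.comap (algebraMap R B)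
    rw [hq]; exact hr
  · change algebraMap R K s * algebraMap A K (IsLocalization.mk' A r s) = _
    rw [IsScalarTower.algebraMap_apply R A K, ← map_mul, mul_comm, IsLocalization.mk'_spec,
      ← IsScalarTower.algebraMap_apply, ← IsScalarTower.algebraMap_apply]

theorem psiIdeal_isMaximal {q : Ideal B} [q.IsPrime] (hq : q.comap (algebraMap R B) = p) :
    (psiIdeal R A B K p q).IsMaximal := by
  haveI := psiIdeal_isPrime (A := A) (K := K) hq
  refine Ideal.isMaximal_of_isIntegral_of_isMaximal_comap (R := A) _ ?_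
  rw [comap_psiIdeal hq]
  exact IsLocalRing.maximalIdeal.isMaximal A

variable (R A B K p)

/-- The map from primes of `B` over `p` to maximal ideals of the integral closure of `A`. -/
noncomputable def psiMax (q : {q : PrimeSpectrum B // q.asIdeal.comap (algebraMap R B) = p}) :
    MaximalSpectrum (integralClosure A K) :=
  ⟨psiIdeal R A B K p q.1.asIdeal, haveI := q.1.2; psiIdeal_isMaximal q.2⟩

theorem psiMax_injective : Function.Injective (psiMax R A B K p) := by
  rintro ⟨q₁, h₁⟩ ⟨q₂, h₂⟩ h
  have h3 : psiIdeal R A B K p q₁.asIdeal = psiIdeal R A B K p q₂.asIdeal :=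
    congrArg MaximalSpectrum.asIdeal h
  apply Subtype.ext
  apply PrimeSpectrum.ext
  haveI := q₁.2
  haveI := q₂.2
  rw [← comap_jB_psiIdeal (A := A) (K := K) h₁, ← comap_jB_psiIdeal (A := A) (K := K) h₂, h3]

theorem psiMax_surjective : Function.Surjective (psiMax R A B K p) := by
  intro m
  haveI := m.isMaximal
  have hq : (m.asIdeal.comap (jB R A B K)).comap (algebraMap R B) = p := by
    rw [Ideal.comap_comap]
    have h1 : (jB R A B K).comp (algebraMap R B) =
        (algebraMap A (integralClosure A K)).comp (algebraMap R A) := by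
      ext r
      exact congrArg Subtype.val (jB_algebraMap R A B K r)
    rw [h1, ← Ideal.comap_comap]
    have h2 : m.asIdeal.comap (algebraMap A (integralClosure A K)) = IsLocalRing.maximalIdeal A :=
      IsLocalRing.eq_maximalIdeal (Ideal.isMaximal_comap_of_isIntegral_of_isMaximal _)
    rw [h2]
    exact IsLocalization.AtPrime.under_maximalIdeal A p
  refine ⟨⟨⟨m.asIdeal.comap (jB R A B K), Ideal.comap_isPrime _ _⟩, hq⟩, ?_⟩
  apply MaximalSpectrum.ext
  change psiIdeal R A B K p (m.asIdeal.comap (jB R A B K)) = m.asIdeal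
  haveI : (m.asIdeal.comap (jB R A B K)).IsPrime := Ideal.comap_isPrime _ _
  refine (psiIdeal_isMaximal (A := A) (K := K) hq).eq_of_le (Ideal.IsPrime.ne_top inferInstance) ?_
  rintro c ⟨s, hs, b, hb, h⟩
  have h1 : jB R A B K (algebraMap R B s) * c = jB R A B K b := by
    apply Subtype.ext
    change algebraMap B K (algebraMap R B s) * (c : K) = algebraMap B K b
    rw [← IsScalarTower.algebraMap_apply]
    exact h
  have h2 : jB R A B K (algebraMap R B s) * c ∈ m.asIdeal := h1 ▸ hb
  refine (Ideal.IsPrime.mem_or_mem inferInstance h2).resolve_left ?_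
  intro h3
  exact notMem_of_primeCompl hq hs h3

theorem psiMax_bijective : Function.Bijective (psiMax R A B K p) :=
  ⟨psiMax_injective R A B K p, psiMax_surjective R A B K p⟩

end RingMain

end Groth.Agent.Lib.Helper21.Br
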