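import Mathlib
import Groth.Agent.Lib.Helper21.Br2

set_option autoImplicit false
set_option linter.style.haveILetI false
set_option linter.unusedSectionVars false
universe u

namespace Groth.Agent.Lib.Helper21.Br

section Residue

variable (R A B K : Type u) [CommRing R] [CommRing A] [CommRing B] [Field K]
  [IsDomain A] [IsLocalRing A]
  [Algebra R A] [Algebra A K] [Algebra R K] [IsScalarTower R A K] [IsFractionRing A K]
  [Algebra R B] [Algebra B K] [IsScalarTower R B K] [IsIntegralClosure B R K]
  (p : Ideal R) [p.IsPrime] [IsLocalization.AtPrime A p]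

theorem residue_iso (q : {q : PrimeSpectrum B // q.asIdeal.comap (algebraMap R B) = p})
    (S : Type u) [CommRing S] [IsLocalRing S] [Algebra B S] [IsLocalization.AtPrime S q.1.asIdeal]
    (φ : A →+* S) (hφ : φ.comp (algebraMap R A) = (algebraMap B S).comp (algebraMap R B)) :
    ∃ θ : (integralClosure A K ⧸ (psiMax R A B K p q).asIdeal) ≃+* IsLocalRing.ResidueField S,
      ∀ a : A, θ (Ideal.Quotient.mk _ (algebraMap A (integralClosure A K) a)) =
        IsLocalRing.residue S (φ a) := by
  obtain ⟨⟨q, hqp⟩, hq⟩ := q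
  haveI : q.IsPrime := hqp
  change q.comap (algebraMap R B) = p at hq
  set m := psiMax R A B K p ⟨⟨q, hqp⟩, hq⟩ with hm
  haveI hmax : m.asIdeal.IsMaximal := m.isMaximal
  letI : Field (integralClosure A K ⧸ m.asIdeal) := Ideal.Quotient.field m.asIdeal
  set π : B →+* (integralClosure A K ⧸ m.asIdeal) :=
    (Ideal.Quotient.mk m.asIdeal).comp (jB R A B K) with hπ
  have hker : ∀ b : B, π b = 0 ↔ b ∈ q := by
    intro b
    rw [hπ, RingHom.comp_apply, Ideal.Quotient.eq_zero_iff_mem]
    change b ∈ (psiIdeal R A B K p q).comap (jB R A B K) ↔ _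
    rw [comap_jB_psiIdeal hq]
  have hunits : ∀ t : q.primeCompl, IsUnit (π t) := by
    intro t
    rw [isUnit_iff_ne_zero, Ne, hker]
    exact t.2
  set f : S →+* (integralClosure A K ⧸ m.asIdeal) := IsLocalization.lift hunits with hf
  have hfalg : ∀ b : B, f (algebraMap B S b) = π b := fun b => IsLocalization.lift_eq hunits b
  haveI : IsLocalHom f := by
    constructor
    intro a ha
    by_contra hna
    have hmem : a ∈ IsLocalRing.maximalIdeal S := (IsLocalRing.mem_maximalIdeal a).mpr hna
    obtain ⟨b, t, rfl⟩ := IsLocalization.exists_mk'_eq q.primeCompl a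
    have hb : b ∈ q := (IsLocalization.AtPrime.mk'_mem_maximal_iff S q b t).mp hmem
    have h1 : f (IsLocalization.mk' S b t) * π t = π b := by
      rw [← hfalg, ← hfalg, ← map_mul, IsLocalization.mk'_spec]
    rw [(hker b).mpr hb] at h1
    rcases mul_eq_zero.mp h1 with h2 | h2
    · rw [h2] at ha
      exact not_isUnit_zero ha
    · exact t.2 ((hker _).mp h2)
  set fbar : IsLocalRing.ResidueField S →+* (integralClosure A K ⧸ m.asIdeal) :=
    IsLocalRing.ResidueField.lift f with hfbar
  have hfbar_res : ∀ s : S, fbar (IsLocalRing.residue S s) = f s :=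
    fun s => IsLocalRing.ResidueField.lift_residue_apply f s
  have hsurj : Function.Surjective fbar := by
    intro y
    obtain ⟨c, rfl⟩ := Ideal.Quotient.mk_surjective y
    obtain ⟨s, hs, b, hsb⟩ := exists_mul_eq R A B K p (c : K) c.2
    have hs' : algebraMap R B s ∈ q.primeCompl := notMem_of_primeCompl hq hs
    refine ⟨IsLocalRing.residue S (IsLocalization.mk' S b ⟨algebraMap R B s, hs'⟩), ?_⟩
    rw [hfbar_res]
    have h1 : f (IsLocalization.mk' S b ⟨algebraMap R B s, hs'⟩) * π (algebraMap R B s) = π b := by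
      rw [← hfalg, ← hfalg, ← map_mul]
      congr 1
      exact IsLocalization.mk'_spec S b ⟨algebraMap R B s, hs'⟩
    have h2 : Ideal.Quotient.mk m.asIdeal c * π (algebraMap R B s) = π b := by
      rw [hπ, RingHom.comp_apply, RingHom.comp_apply, ← map_mul]
      congr 1
      apply Subtype.ext
      change (c : K) * algebraMap B K (algebraMap R B s) = algebraMap B K b
      rw [← IsScalarTower.algebraMap_apply, mul_comm]
      exact hsb
    have h3 : π (algebraMap R B s) ≠ 0 := by
      rw [Ne, hker]; exact hs'
    exact mul_right_cancel₀ h3 (h1.trans h2.symm)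
  set θ' : IsLocalRing.ResidueField S ≃+* (integralClosure A K ⧸ m.asIdeal) :=
    RingEquiv.ofBijective fbar ⟨fbar.injective, hsurj⟩ with hθ'
  refine ⟨θ'.symm, fun a => ?_⟩
  rw [RingEquiv.symm_apply_eq]
  have hθ'app : ∀ y, θ' y = fbar y := fun y => rfl
  rw [hθ'app, hfbar_res]
  have hext : (Ideal.Quotient.mk m.asIdeal).comp (algebraMap A (integralClosure A K)) =
      f.comp φ := by
    apply IsLocalization.ringHom_ext p.primeCompl
    rw [RingHom.comp_assoc, RingHom.comp_assoc, hφ]
    ext r
    simp only [RingHom.comp_apply]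
    rw [hfalg, hπ, RingHom.comp_apply, jB_algebraMap]
  exact RingHom.congr_fun hext a

end Residue

section EmbCard

variable (A : Type u) [CommRing A] [IsDomain A] (K : Type u) [Field K] [Algebra A K]
  [IsFractionRing A K] [IsLocalRing A]

theorem emb_card (m : MaximalSpectrum (integralClosure A K)) (E : Type u) [Field E]
    [Algebra (IsLocalRing.ResidueField A) E]
    (θ : (integralClosure A K ⧸ m.asIdeal) ≃+* E)
    (hθ : ∀ a : A, θ (Ideal.Quotient.mk _ (algebraMap A (integralClosure A K) a)) =
      algebraMap (IsLocalRing.ResidueField A) E (IsLocalRing.residue A a)) :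
    ENat.card (Field.Emb (IsLocalRing.ResidueField A) E) = ENat.card (Emb' A K m) := by
  haveI : Algebra.IsAlgebraic (IsLocalRing.ResidueField A) E := by
    refine ⟨fun e => ?_⟩
    obtain ⟨y, rfl⟩ := θ.surjective e
    obtain ⟨c, rfl⟩ := Ideal.Quotient.mk_surjective y
    have hc : IsIntegral A c := Algebra.IsIntegral.isIntegral c
    refine IsIntegral.isAlgebraic ?_
    refine IsIntegral.map_of_comp_eq (IsLocalRing.residue A)
      (θ.toRingHom.comp (Ideal.Quotient.mk m.asIdeal)) ?_ hc
    ext a
    exact (hθ a).symm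
  let e1 := Field.embEquivOfIsAlgClosed (IsLocalRing.ResidueField A) E
    (AlgebraicClosure (IsLocalRing.ResidueField A))
  refine ENat.card_congr (e1.trans ?_)
  refine
    { toFun := fun ψ => ⟨ψ.toRingHom.comp θ.toRingHom, ?_⟩
      invFun := fun σ => { toRingHom := σ.1.comp θ.symm.toRingHom, commutes' := ?_ }
      left_inv := ?_
      right_inv := ?_ }
  · ext a
    simp only [RingHom.comp_apply, RingEquiv.toRingHom_eq_coe, RingEquiv.coe_toRingHom]
    rw [hθ a]
    exact ψ.commutes _
  · intro k
    obtain ⟨a, rfl⟩ := IsLocalRing.residue_surjective k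
    have h := RingHom.congr_fun σ.2 a
    simp only [RingHom.comp_apply] at h
    change σ.1 (θ.symm _) = _
    rw [← hθ a, RingEquiv.symm_apply_apply]
    exact h
  · intro ψ
    ext x
    simp
  · intro σ
    apply Subtype.ext
    ext x
    simp

end EmbCard

end Groth.Agent.Lib.Helper21.Br
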