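import Groth.Agent.Lib.Helper21.NormDimOne
import Groth.Agent.Lib.Helper6.NormIsoC
set_option autoImplicit false
set_option linter.style.haveILetI false
set_option linter.unusedSectionVars false
universe u
open AlgebraicGeometry CategoryTheory Limits TopologicalSpace

namespace Groth.Agent.Lib.Helper21.NormDimOne

open Groth.Agent.Lib.Helper6.GU Groth.Agent.Lib.Helper21.NormGen

theorem finite_residueField_of_surjective_stalkMap {X Y : Scheme.{u}} (f : X ⟶ Y) (x : X)
    (hs : Function.Surjective (f.stalkMap x).hom) :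
    letI := (f.residueFieldMap x).hom.toAlgebra
    Module.Finite (Y.residueField (f x)) (X.residueField x) := by
  letI := (f.residueFieldMap x).hom.toAlgebra
  have hsurj : Function.Surjective (algebraMap (Y.residueField (f x)) (X.residueField x)) := by
    intro y
    obtain ⟨s, rfl⟩ := IsLocalRing.residue_surjective y
    obtain ⟨r, rfl⟩ := hs s
    refine ⟨(Y.residue (f x)).hom r, ?_⟩
    have := Scheme.residue_residueFieldMap f x
    exact congrArg (fun φ => φ.hom r) this
  exact Module.Finite.of_surjective (Algebra.linearMap _ _) hsurj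

theorem finite_residue_of_quotient {A B κ κ' : Type u} [CommRing A] [CommRing B] [Field κ]
    [Field κ'] [Algebra A B] [Algebra κ κ'] (α : A →+* κ) (π : B →+* κ')
    (hcomp : π.comp (algebraMap A B) = (algebraMap κ κ').comp α)
    (Q : Ideal B) (hQ : ∀ b ∈ Q, π b = 0) (hπ : Function.Surjective π)
    [Module.Finite (A ⧸ Q.comap (algebraMap A B)) (B ⧸ Q)] : Module.Finite κ κ' := by
  letI : Algebra A κ := α.toAlgebra
  letI : Algebra A κ' := ((algebraMap κ κ').comp α).toAlgebra
  haveI : IsScalarTower A κ κ' := IsScalarTower.of_algebraMap_eq (fun _ => rfl)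
  letI : Algebra B κ' := π.toAlgebra
  haveI : IsScalarTower A B κ' :=
    IsScalarTower.of_algebraMap_eq (fun a => (RingHom.congr_fun hcomp a).symm)
  haveI : Module.Finite A (B ⧸ Q) :=
    Module.Finite.trans (A ⧸ Q.comap (algebraMap A B)) (B ⧸ Q)
  let ψ : (B ⧸ Q) →ₐ[A] κ' := Ideal.Quotient.liftₐ Q (IsScalarTower.toAlgHom A B κ') hQ
  have hψ : Function.Surjective ψ := by
    intro y
    obtain ⟨b, rfl⟩ := hπ y
    exact ⟨Ideal.Quotient.mk Q b, rfl⟩
  haveI : Module.Finite A κ' := Module.Finite.of_surjective ψ.toLinearMap hψ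
  exact Module.Finite.of_restrictScalars_finite A κ κ'

variable (X : Scheme.{u}) [IsIntegral X]
  [QuasiCompact (genHom X X.functionField (𝟙 _))] [QuasiSeparated (genHom X X.functionField (𝟙 _))]

local notation "g" => genHom X X.functionField (𝟙 _)

theorem exists_affine_mem (x : X) : ∃ U : X.Opens, IsAffineOpen U ∧ x ∈ U ∧ genericPoint X ∈ U := by
  obtain ⟨_, ⟨U, hU : IsAffineOpen U, rfl⟩, hxU, -⟩ :=
    X.isBasis_affineOpens.exists_subset_of_mem_open (Set.mem_univ x) isOpen_univ
  exact ⟨U, hU, hxU, ((genericPoint_spec X).mem_open_set_iff U.isOpen).mpr ⟨x, trivial, hxU⟩⟩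

variable [IsLocallyNoetherian X] (hdim : topologicalKrullDim X = 1)

include hdim in
theorem finite_residueField (x' : (g).normalization) :
    letI := ((g).fromNormalization.residueFieldMap x').hom.toAlgebra
    Module.Finite (X.residueField ((g).fromNormalization.base x'))
      ((g).normalization.residueField x') := by
  by_cases hgen : x' = genericPoint (g).normalization
  · subst hgen
    have hiso := Groth.Agent.Lib.Helper6.NormIso.isIso_stalkMap_fromNormalization X (g) rfl
    apply finite_residueField_of_surjective_stalkMap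
    exact ((ConcreteCategory.isIso_iff_bijective _).mp hiso).2
  · set ν := (g).fromNormalization with hν
    obtain ⟨U, hU, hxU, hη⟩ := exists_affine_mem X (ν x')
    have hW : IsAffineOpen (ν ⁻¹ᵁ U) := hU.preimage _
    have hx'W : x' ∈ ν ⁻¹ᵁ U := hxU
    letI algAB := (ν.app U).hom.toAlgebra
    obtain ⟨hD, -, hres⟩ := ka_sections X hdim U hU hη
    haveI : Nonempty (ν ⁻¹ᵁ U : (g).normalization.Opens) := ⟨⟨x', hx'W⟩⟩
    haveI : IsDomain Γ((g).normalization, ν ⁻¹ᵁ U) :=
      IsIntegral.component_integral (X := (g).normalization) _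
    set Q := (hW.primeIdealOf ⟨x', hx'W⟩).asIdeal with hQdef
    have hQ0 : Q ≠ ⊥ := by
      intro h0
      apply hgen
      have h1 : hW.primeIdealOf ⟨x', hx'W⟩ = genericPoint (Spec Γ((g).normalization, ν ⁻¹ᵁ U)) := by
        rw [genericPoint_eq_bot_of_affine]
        exact PrimeSpectrum.ext h0
      rw [← hW.primeIdealOf_genericPoint] at h1
      have h2 := congrArg hW.fromSpec.base h1
      rw [hW.fromSpec_primeIdealOf, hW.fromSpec_primeIdealOf] at h2
      exact h2
    haveI hQmax : Q.IsMaximal :=
      Ring.DimensionLEOne.maximalOfPrime hQ0 (hW.primeIdealOf ⟨x', hx'W⟩).2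
    haveI := hres Q hQmax
    letI := TopCat.Presheaf.algebra_section_stalk (g).normalization.presheaf ⟨x', hx'W⟩
    haveI hloc := hW.isLocalization_stalk ⟨x', hx'W⟩
    letI := (ν.residueFieldMap x').hom.toAlgebra
    refine finite_residue_of_quotient
      (((X.residue (ν x')).hom).comp (X.presheaf.germ U (ν x') hxU).hom)
      ((((g).normalization.residue x').hom).comp
        ((g).normalization.presheaf.germ (ν ⁻¹ᵁ U) x' hx'W).hom) ?_ Q ?_ ?_
    · ext a
      simp only [RingHom.comp_apply]
      have h1 : ((g).normalization.presheaf.germ (ν ⁻¹ᵁ U) x' hx'W).hom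
          (algebraMap Γ(X, U) Γ((g).normalization, ν ⁻¹ᵁ U) a) =
          (ν.stalkMap x').hom ((X.presheaf.germ U (ν x') hxU).hom a) :=
        (Scheme.Hom.germ_stalkMap_apply ν U x' hxU a).symm
      rw [h1]
      have h2 := Scheme.residue_residueFieldMap ν x'
      exact (congrArg (fun φ => φ.hom ((X.presheaf.germ U (ν x') hxU).hom a)) h2).symm
    · intro b hb
      simp only [RingHom.comp_apply]
      have hb' : algebraMap Γ((g).normalization, ν ⁻¹ᵁ U)
          ((g).normalization.presheaf.stalk x') b ∈
          IsLocalRing.maximalIdeal ((g).normalization.presheaf.stalk x') :=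
        (IsLocalization.AtPrime.to_map_mem_maximal_iff _ Q b).mpr hb
      exact (IsLocalRing.residue_eq_zero_iff _).mpr hb'
    · intro y
      obtain ⟨s, rfl⟩ := IsLocalRing.residue_surjective y
      have hcm : (IsLocalRing.maximalIdeal ((g).normalization.presheaf.stalk x')).under
          Γ((g).normalization, ν ⁻¹ᵁ U) = Q :=
        IsLocalization.AtPrime.under_maximalIdeal _ Q
      have hsurj := IsLocalization.surjective_quotientMap_of_maximal_of_localization
        (M := Q.primeCompl) (S := (g).normalization.presheaf.stalk x')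
        (I := IsLocalRing.maximalIdeal ((g).normalization.presheaf.stalk x'))
        (J := Q) (H := hcm.ge) (hcm ▸ hQmax)
      obtain ⟨q, hq⟩ := hsurj (Ideal.Quotient.mk _ s)
      obtain ⟨b, rfl⟩ := Ideal.Quotient.mk_surjective q
      exact ⟨b, hq⟩


include hdim in
theorem isLocallyNoetherian_normalization : IsLocallyNoetherian (g).normalization := by
  let ι := {U : X.affineOpens // genericPoint X ∈ U.1}
  let S : ι → (g).normalization.affineOpens := fun U =>
    ⟨(g).fromNormalization ⁻¹ᵁ U.1.1, U.1.2.preimage _⟩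
  refine isLocallyNoetherian_of_affine_cover (S := S) ?_ ?_
  · rw [eq_top_iff]
    intro x' _
    obtain ⟨U, hU, hxU, hη⟩ := exists_affine_mem X ((g).fromNormalization x')
    exact Opens.mem_iSup.mpr ⟨⟨⟨U, hU⟩, hη⟩, hxU⟩
  · intro U
    haveI := (ka_sections X hdim U.1.1 U.1.2 U.2).1
    infer_instance

include hdim in
theorem ringKrullDim_stalk_le (x' : (g).normalization) :
    ringKrullDim ((g).normalization.presheaf.stalk x') ≤ 1 := by
  obtain ⟨U, hU, hxU, hη⟩ := exists_affine_mem X ((g).fromNormalization x')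
  have hW : IsAffineOpen ((g).fromNormalization ⁻¹ᵁ U) := hU.preimage _
  have hx'W : x' ∈ (g).fromNormalization ⁻¹ᵁ U := hxU
  haveI hD := (ka_sections X hdim U hU hη).1
  letI := TopCat.Presheaf.algebra_section_stalk (g).normalization.presheaf ⟨x', hx'W⟩
  haveI := hW.isLocalization_stalk ⟨x', hx'W⟩
  rw [IsLocalization.AtPrime.ringKrullDim_eq_height (hW.primeIdealOf ⟨x', hx'W⟩).asIdeal]
  have h1 : ringKrullDim Γ((g).normalization, (g).fromNormalization ⁻¹ᵁ U) ≤ 1 := by
    haveI : Ring.KrullDimLE 1 Γ((g).normalization, (g).fromNormalization ⁻¹ᵁ U) := inferInstance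
    exact Ring.krullDimLE_iff.mp this
  exact (ringKrullDim_le_iff_height_le 1).mp h1 (hW.primeIdealOf ⟨x', hx'W⟩).2

include hdim in
theorem isDedekindDomain_sections (V : (g).normalization.Opens) (hV : IsAffineOpen V)
    (hne : (V : Set (g).normalization).Nonempty) :
    IsDedekindDomain Γ((g).normalization, V) := by
  haveI : Nonempty V := hne.to_subtype
  haveI : IsDomain Γ((g).normalization, V) :=
    IsIntegral.component_integral (X := (g).normalization) V
  haveI := isLocallyNoetherian_normalization X hdim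
  haveI : IsNoetherianRing Γ((g).normalization, V) :=
    IsLocallyNoetherian.component_noetherian ⟨V, hV⟩
  have hnorm := Groth.Agent.Lib.Helper21.VarNorm.isNormalScheme_normalization_genHom X
    X.functionField (𝟙 _)
  haveI : IsIntegrallyClosed Γ((g).normalization, V) :=
    Groth.Agent.Lib.Helper24.ENorm.isIntegrallyClosed_of_isAffineOpen (fun x => (hnorm x).2) hV
  have hdimV : ringKrullDim Γ((g).normalization, V) ≤ 1 := by
    rw [ringKrullDim_le_iff_height_le]
    intro p hp
    have hmem : hV.fromSpec ⟨p, hp⟩ ∈ V := by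
      have : hV.fromSpec ⟨p, hp⟩ ∈ Set.range hV.fromSpec := Set.mem_range_self _
      rw [hV.range_fromSpec] at this
      exact this
    letI := TopCat.Presheaf.algebra_section_stalk (g).normalization.presheaf
      ⟨hV.fromSpec ⟨p, hp⟩, hmem⟩
    haveI : IsLocalization.AtPrime
        ((g).normalization.presheaf.stalk (hV.fromSpec ⟨p, hp⟩)) p :=
      hV.isLocalization_stalk' ⟨p, hp⟩ hmem
    rw [← IsLocalization.AtPrime.ringKrullDim_eq_height p
      ((g).normalization.presheaf.stalk (hV.fromSpec ⟨p, hp⟩))]
    exact ringKrullDim_stalk_le X hdim _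
  haveI : Ring.KrullDimLE 1 Γ((g).normalization, V) := Ring.krullDimLE_iff.mpr hdimV
  haveI : Ring.DimensionLEOne Γ((g).normalization, V) :=
    ⟨fun hp0 hp => (Ring.krullDimLE_one_iff_of_noZeroDivisors.mp inferInstance) _ hp0 hp⟩
  exact { }


include hdim in
theorem finite_fibre (x : X) :
    Finite {x' : (g).normalization // (g).fromNormalization.base x' = x} := by
  obtain ⟨U, hU, hxU, hη⟩ := exists_affine_mem X x
  have hW : IsAffineOpen ((g).fromNormalization ⁻¹ᵁ U) := hU.preimage _
  letI := ((g).fromNormalization.app U).hom.toAlgebra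
  have hfin := (ka_sections X hdim U hU hη).2.1 (hU.primeIdealOf ⟨x, hxU⟩)
  haveI := hfin.to_subtype
  have hmem : ∀ x' : {x' : (g).normalization // (g).fromNormalization.base x' = x},
      x'.1 ∈ (g).fromNormalization ⁻¹ᵁ U := fun x' => by
    change (g).fromNormalization.base x'.1 ∈ U
    rw [x'.2]; exact hxU
  let f : {x' : (g).normalization // (g).fromNormalization.base x' = x} →
      (PrimeSpectrum.comap (algebraMap Γ(X, U)
        Γ((g).normalization, (g).fromNormalization ⁻¹ᵁ U)) ⁻¹' {hU.primeIdealOf ⟨x, hxU⟩}) :=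
    fun x' => ⟨hW.primeIdealOf ⟨x'.1, hmem x'⟩, by
      have h1 := IsAffineOpen.comap_primeIdealOf_appLE (f := (g).fromNormalization) U hU
        ((g).fromNormalization ⁻¹ᵁ U) hW le_rfl (hmem x')
      simp only [Set.mem_preimage, Set.mem_singleton_iff]
      have h2 : algebraMap Γ(X, U) Γ((g).normalization, (g).fromNormalization ⁻¹ᵁ U) =
          ((g).fromNormalization.appLE U ((g).fromNormalization ⁻¹ᵁ U) le_rfl).hom := by
        rw [← Scheme.Hom.app_eq_appLE]; rfl
      rw [h2]
      refine h1.trans ?_
      congr 1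
      exact Subtype.ext x'.2⟩
  refine Finite.of_injective f ?_
  intro a b hab
  have h1 : hW.primeIdealOf ⟨a.1, hmem a⟩ = hW.primeIdealOf ⟨b.1, hmem b⟩ :=
    congrArg Subtype.val hab
  have h2 := congrArg hW.fromSpec.base h1
  rw [hW.fromSpec_primeIdealOf, hW.fromSpec_primeIdealOf] at h2
  exact Subtype.ext h2


end Groth.Agent.Lib.Helper21.NormDimOne
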