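import Groth.Agent.Lib.Helper21.Br3
import Groth.Agent.Lib.Helper21.NormDimOne2

set_option autoImplicit false
set_option linter.style.haveILetI false
set_option linter.unusedSectionVars false
universe u
open AlgebraicGeometry CategoryTheory Limits TopologicalSpace

namespace Groth.Agent.Lib.Helper21.Br

open Groth.Agent.Lib.Helper6.GU Groth.Agent.Lib.Helper21.NormGen Groth.Agent.Lib.Helper21.NormDimOne

variable (X : Scheme.{u}) [IsIntegral X]
  [QuasiCompact (genHom X X.functionField (𝟙 _))] [QuasiSeparated (genHom X X.functionField (𝟙 _))]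

local notation "g" => genHom X X.functionField (𝟙 _)

/-- The fibre of the normalization over `x` as primes of the sections over an affine chart. -/
noncomputable def fibreEquiv (x : X) (U : X.Opens) (hU : IsAffineOpen U) (hxU : x ∈ U) :
    {x' : (g).normalization // (g).fromNormalization x' = x} ≃
      {q : PrimeSpectrum Γ((g).normalization, (g).fromNormalization ⁻¹ᵁ U) //
        q.asIdeal.comap ((g).fromNormalization.app U).hom = (hU.primeIdealOf ⟨x, hxU⟩).asIdeal} where
  toFun x' := ⟨(hU.preimage (g).fromNormalization).primeIdealOf ⟨x'.1, by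
      change (g).fromNormalization x'.1 ∈ U
      rw [x'.2]; exact hxU⟩, by
    obtain ⟨x', rfl⟩ := x'
    have h := IsAffineOpen.comap_primeIdealOf_appLE U hU ((g).fromNormalization ⁻¹ᵁ U)
      (hU.preimage (g).fromNormalization) le_rfl (x := x') hxU
    rw [Scheme.Hom.app_eq_appLE]
    exact congrArg PrimeSpectrum.asIdeal h⟩
  invFun q := ⟨(hU.preimage (g).fromNormalization).fromSpec q.1, by
    obtain ⟨q, hq⟩ := q
    have h := IsAffineOpen.SpecMap_appLE_fromSpec (g).fromNormalization hU
      (hU.preimage (g).fromNormalization) le_rfl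
    have h2 := congrArg (fun f => f.base q) h
    simp only [Scheme.Hom.comp_base, TopCat.comp_app] at h2
    change _ = (g).fromNormalization _ at h2
    rw [← h2]
    have h3 : (Spec.map ((g).fromNormalization.appLE U ((g).fromNormalization ⁻¹ᵁ U) le_rfl)) q =
        hU.primeIdealOf ⟨x, hxU⟩ := by
      apply PrimeSpectrum.ext
      rw [Scheme.Hom.app_eq_appLE] at hq
      exact hq
    rw [h3]
    exact hU.fromSpec_primeIdealOf ⟨x, hxU⟩⟩
  left_inv x' := by
    apply Subtype.ext
    exact (hU.preimage (g).fromNormalization).fromSpec_primeIdealOf _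
  right_inv q := by
    apply Subtype.ext
    apply (hU.preimage (g).fromNormalization).fromSpec.isOpenEmbedding.injective
    exact (hU.preimage (g).fromNormalization).fromSpec_primeIdealOf _

end Groth.Agent.Lib.Helper21.Br
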