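import Groth.Agent.Lib.Helper21.Br4

set_option autoImplicit false
set_option linter.style.haveILetI false
set_option linter.unusedSectionVars false
universe u
open AlgebraicGeometry CategoryTheory Limits TopologicalSpace

namespace Groth.Agent.Lib.Helper21.Br

open Groth.Agent.Lib.Helper6.GU Groth.Agent.Lib.Helper21.NormGen Groth.Agent.Lib.Helper21.NormDimOne

variable (X : Scheme.{u}) [IsIntegral X]
  [QuasiCompact (genHom X X.functionField (𝟙 _))] [QuasiSeparated (genHom X X.functionField (𝟙 _))]

local notation "g" => genHom X X.functionField (𝟙 _)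

theorem main (x : X) :
    Brnch.numBranchesAt X x =
        ENat.card {x' : (g).normalization // (g).fromNormalization x' = x} ∧
      Brnch.numGeomBranchesAt X x =
        ∑' x' : {x' : (g).normalization // (g).fromNormalization x' = x},
          (letI := ((g).fromNormalization.residueFieldMap x'.1).hom.toAlgebra
           ENat.card (Field.Emb (X.residueField ((g).fromNormalization x'.1))
             ((g).normalization.residueField x'.1))) := by
  obtain ⟨U, hU, hxU, hη⟩ := exists_affine_mem X x
  set ν := (g).fromNormalization with hν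
  have hW : IsAffineOpen (ν ⁻¹ᵁ U) := hU.preimage ν
  haveI : Nonempty U := ⟨⟨x, hxU⟩⟩
  letI algRB : Algebra Γ(X, U) Γ((g).normalization, ν ⁻¹ᵁ U) := (ν.app U).hom.toAlgebra
  letI algBK : Algebra Γ((g).normalization, ν ⁻¹ᵁ U) X.functionField :=
    (secToL X X.functionField (𝟙 _) U hη).toAlgebra
  obtain ⟨hST, hIC⟩ := isIntegralClosure_sections X U hU hη
  letI algRA := TopCat.Presheaf.algebra_section_stalk X.presheaf ⟨x, hxU⟩
  haveI hloc := hU.isLocalization_stalk ⟨x, hxU⟩
  haveI hST2 := functionField_isScalarTower X U ⟨x, hxU⟩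
  let Ψ := Equiv.ofBijective _ (psiMax_bijective Γ(X, U) (X.presheaf.stalk x)
    Γ((g).normalization, ν ⁻¹ᵁ U) X.functionField (hU.primeIdealOf ⟨x, hxU⟩).asIdeal)
  let E := fibreEquiv X x U hU hxU
  constructor
  · change Brnch.numBranches (X.presheaf.stalk x) = _
    rw [numBranches_eq (X.presheaf.stalk x) X.functionField]
    exact (ENat.card_congr (E.trans Ψ)).symm
  · change Brnch.numGeomBranches (X.presheaf.stalk x) = _
    rw [numGeomBranches_eq (X.presheaf.stalk x) X.functionField, card_sigma_eq_tsum,
      ← (E.trans Ψ).tsum_eq]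
    refine tsum_congr ?_
    rintro ⟨x', hx'⟩
    subst hx'
    have hx'W : x' ∈ ν ⁻¹ᵁ U := hxU
    letI algBS := TopCat.Presheaf.algebra_section_stalk (g).normalization.presheaf ⟨x', hx'W⟩
    haveI hlocS := hW.isLocalization_stalk ⟨x', hx'W⟩
    haveI hlocS' : IsLocalization.AtPrime ((g).normalization.presheaf.stalk x')
        (E ⟨x', rfl⟩).1.asIdeal := hlocS
    have hφ : ((ν.stalkMap x').hom).comp (algebraMap Γ(X, U) (X.presheaf.stalk (ν x'))) =
        (algebraMap Γ((g).normalization, ν ⁻¹ᵁ U) ((g).normalization.presheaf.stalk x')).comp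
          (algebraMap Γ(X, U) Γ((g).normalization, ν ⁻¹ᵁ U)) := by
      ext a
      exact Scheme.Hom.germ_stalkMap_apply ν U x' hxU a
    obtain ⟨θ, hθ⟩ := residue_iso Γ(X, U) (X.presheaf.stalk (ν x')) Γ((g).normalization, ν ⁻¹ᵁ U)
      X.functionField (hU.primeIdealOf ⟨ν x', hxU⟩).asIdeal (E ⟨x', rfl⟩)
      ((g).normalization.presheaf.stalk x') (ν.stalkMap x').hom hφ
    letI algres : Algebra (IsLocalRing.ResidueField (X.presheaf.stalk (ν x')))
        ((g).normalization.residueField x') := (ν.residueFieldMap x').hom.toAlgebra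
    refine (@emb_card (X.presheaf.stalk (ν x')) _ _ X.functionField _ _ _ _ (Ψ (E ⟨x', rfl⟩))
      ((g).normalization.residueField x') _ algres θ ?_).symm
    intro a
    refine (hθ a).trans ?_
    have h2 := Scheme.residue_residueFieldMap ν x'
    exact (congrArg (fun φ => φ.hom a) h2).symm

end Groth.Agent.Lib.Helper21.Br
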