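import Mathlib
import Groth.Agent.Lib.Helper21.Br1

/-!
# Branches of a reduced local ring in terms of its integral closure in a total ring of fractions
-/

set_option autoImplicit false
set_option linter.style.haveILetI false
set_option linter.unusedSectionVars false
universe u v

namespace Groth.Agent.Lib.Helper21.BrR

open Groth.Agent.Lib.Helper21.Br

section RingLevel

variable (A : Type u) [CommRing A] [IsReduced A]

/-- A reduced ring is its own reduction. -/
noncomputable def redEquiv : A ≃+* CAlg2.red A :=
  (RingEquiv.quotientBot A).symm.trans (Ideal.quotEquivOfEq (nilradical_eq_zero A).symm)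

theorem redEquiv_apply (a : A) : redEquiv A a = Ideal.Quotient.mk (nilradical A) a := rfl

variable (K : Type u) [CommRing K] [Algebra A K] [IsFractionRing A K]

/-- The total rings of fractions correspond. -/
noncomputable def fracEquiv : K ≃+* FractionRing (CAlg2.red A) :=
  IsFractionRing.ringEquivOfRingEquiv (redEquiv A)

theorem fracEquiv_algebraMap (a : A) :
    fracEquiv A K (algebraMap A K a) =
      algebraMap (CAlg2.red A) (FractionRing (CAlg2.red A)) (redEquiv A a) :=
  IsFractionRing.ringEquivOfRingEquiv_algebraMap (redEquiv A) a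

theorem isIntegral_fracEquiv {c : K} (hc : IsIntegral A c) :
    IsIntegral (CAlg2.red A) (fracEquiv A K c) := by
  refine IsIntegral.map_of_comp_eq (redEquiv A).toRingHom (fracEquiv A K).toRingHom ?_ hc
  ext a
  exact (fracEquiv_algebraMap A K a).symm

theorem isIntegral_fracEquiv_symm {d : FractionRing (CAlg2.red A)} (hd : IsIntegral (CAlg2.red A) d) :
    IsIntegral A ((fracEquiv A K).symm d) := by
  refine IsIntegral.map_of_comp_eq (redEquiv A).symm.toRingHom (fracEquiv A K).symm.toRingHom ?_ hd
  ext a
  simp only [RingHom.comp_apply, RingEquiv.toRingHom_eq_coe, RingEquiv.coe_toRingHom]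
  rw [← redEquiv_apply, RingEquiv.symm_apply_apply, ← fracEquiv_algebraMap A K,
    RingEquiv.symm_apply_apply]

/-- The integral closures correspond. -/
noncomputable def normEquiv : integralClosure A K ≃+* CAlg2.normRed A where
  toFun c := ⟨fracEquiv A K c.1, isIntegral_fracEquiv A K c.2⟩
  invFun d := ⟨(fracEquiv A K).symm d.1, isIntegral_fracEquiv_symm A K d.2⟩
  left_inv c := Subtype.ext ((fracEquiv A K).symm_apply_apply c.1)
  right_inv d := Subtype.ext ((fracEquiv A K).apply_symm_apply d.1)
  map_mul' x y := Subtype.ext (map_mul (fracEquiv A K) x.1 y.1)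
  map_add' x y := Subtype.ext (map_add (fracEquiv A K) x.1 y.1)

theorem normEquiv_algebraMap (a : A) :
    normEquiv A K (algebraMap A (integralClosure A K) a) =
      algebraMap (CAlg2.red A) (CAlg2.normRed A) (Ideal.Quotient.mk (nilradical A) a) := by
  apply Subtype.ext
  exact fracEquiv_algebraMap A K a

variable [IsLocalRing A]

/-- Embeddings of the residue field of a maximal ideal of the integral closure of `A` in `K`. -/
def Emb' (m : MaximalSpectrum (integralClosure A K)) : Type u :=
  {σ : integralClosure A K ⧸ m.asIdeal →+* AlgebraicClosure (IsLocalRing.ResidueField A) //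
    σ.comp ((Ideal.Quotient.mk m.asIdeal).comp (algebraMap A (integralClosure A K))) =
      Brnch.toClosure A}

theorem quotEquiv_symm_toResidue (m : MaximalSpectrum (integralClosure A K)) (a : A) :
    (quotEquiv (normEquiv A K) m).symm
      (Brnch.toResidue A (maxSpecEquiv (normEquiv A K) m) a) =
      Ideal.Quotient.mk m.asIdeal (algebraMap A (integralClosure A K) a) := by
  rw [RingEquiv.symm_apply_eq, quotEquiv_mk, normEquiv_algebraMap]
  rfl

/-- The embeddings correspond. -/
noncomputable def embEquiv (m : MaximalSpectrum (integralClosure A K)) :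
    Emb' A K m ≃ Brnch.Emb A (maxSpecEquiv (normEquiv A K) m) where
  toFun σ := ⟨σ.1.comp (quotEquiv (normEquiv A K) m).symm.toRingHom, by
    ext a
    have h := RingHom.congr_fun σ.2 a
    simp only [RingHom.comp_apply, RingEquiv.toRingHom_eq_coe, RingEquiv.coe_toRingHom] at h ⊢
    rw [quotEquiv_symm_toResidue]
    exact h⟩
  invFun ρ := ⟨ρ.1.comp (quotEquiv (normEquiv A K) m).toRingHom, by
    ext a
    have h := RingHom.congr_fun ρ.2 a
    simp only [RingHom.comp_apply, RingEquiv.toRingHom_eq_coe, RingEquiv.coe_toRingHom] at h ⊢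
    rw [← quotEquiv_symm_toResidue, RingEquiv.apply_symm_apply]
    exact h⟩
  left_inv σ := by
    apply Subtype.ext
    ext x
    simp
  right_inv ρ := by
    apply Subtype.ext
    ext x
    simp

theorem numBranches_eq (hfin : (minimalPrimes A).Finite) :
    Brnch.numBranches A = ENat.card (MaximalSpectrum (integralClosure A K)) := by
  unfold Brnch.numBranches
  rw [if_pos hfin]
  exact (ENat.card_congr (maxSpecEquiv (normEquiv A K))).symm

theorem numGeomBranches_eq (hfin : (minimalPrimes A).Finite) :
    Brnch.numGeomBranches A =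
      ENat.card (Σ m : MaximalSpectrum (integralClosure A K), Emb' A K m) := by
  unfold Brnch.numGeomBranches
  rw [if_pos hfin]
  exact (ENat.card_congr (Equiv.sigmaCongr (maxSpecEquiv (normEquiv A K))
    (fun m => embEquiv A K m))).symm

theorem emb_card (m : MaximalSpectrum (integralClosure A K)) (E : Type u) [Field E]
    [Algebra (IsLocalRing.ResidueField A) E]
    (θ : (integralClosure A K ⧸ m.asIdeal) ≃+* E)
    (hθ : ∀ a : A, θ (Ideal.Quotient.mk _ (algebraMap A (integralClosure A K) a)) =
      algebraMap (IsLocalRing.ResidueField A) E (IsLocalRing.residue A a)) :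
    ENat.card (Field.Emb (IsLocalRing.ResidueField A) E) = ENat.card (Emb' A K m) := by
  haveI : Algebra.IsAlgebraic (IsLocalRing.ResidueField A) E := by
    refine ⟨fun e => ?_⟩
    obtain ⟨y, rfl⟩ := θ.surjective e
    obtain ⟨c, rfl⟩ := Ideal.Quotient.mk_surjective y
    have hc : IsIntegral A c := Algebra.IsIntegral.isIntegral c
    refine IsIntegral.isAlgebraic ?_
    refine IsIntegral.map_of_comp_eq (IsLocalRing.residue A)
      (θ.toRingHom.comp (Ideal.Quotient.mk m.asIdeal)) ?_ hc
    ext a
    exact (hθ a).symm
  let e1 := Field.embEquivOfIsAlgClosed (IsLocalRing.ResidueField A) E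
    (AlgebraicClosure (IsLocalRing.ResidueField A))
  refine ENat.card_congr (e1.trans ?_)
  refine
    { toFun := fun ψ => ⟨ψ.toRingHom.comp θ.toRingHom, ?_⟩
      invFun := fun σ => { toRingHom := σ.1.comp θ.symm.toRingHom, commutes' := ?_ }
      left_inv := ?_
      right_inv := ?_ }
  · ext a
    simp only [RingHom.comp_apply, RingEquiv.toRingHom_eq_coe, RingEquiv.coe_toRingHom]
    rw [hθ a]
    exact ψ.commutes _
  · intro k
    obtain ⟨a, rfl⟩ := IsLocalRing.residue_surjective k
    have h := RingHom.congr_fun σ.2 a
    simp only [RingHom.comp_apply] at h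
    change σ.1 (θ.symm _) = _
    rw [← hθ a, RingEquiv.symm_apply_apply]
    exact h
  · intro ψ
    ext x
    simp
  · intro σ
    apply Subtype.ext
    ext x
    simp

end RingLevel

end Groth.Agent.Lib.Helper21.BrR
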