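import Groth.Agent.Lib.Helper6.NormalTotalFrac
import Groth.Agent.Lib.Helper12.OneDim
import Groth.Prelude.Def_Found
import Groth.Prelude.Def_Curv2
set_option autoImplicit false
set_option linter.style.haveILetI false
set_option linter.unusedSectionVars false
universe u

namespace Groth.Agent.Lib.Helper21.NagataOne

open Groth.Agent.Lib.Helper6.NormalTotalFrac

section Finite

variable (A : Type u) [CommRing A] [IsReduced A] [IsNoetherianRing A]

/-- the component map of the total ring of fractions -/
noncomputable def compMap (p : Ideal A) [p.IsPrime] (hp : p ∈ minimalPrimes A) :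
    FractionRing A →ₐ[A] FractionRing (A ⧸ p) :=
  IsLocalization.liftAlgHom (M := nonZeroDivisors A) (f := Algebra.ofId A (FractionRing (A ⧸ p)))
    (by
      intro y
      have hy : (y : A) ∉ p := fun h =>
        (Ideal.disjoint_nonZeroDivisors_of_mem_minimalPrimes hp).le_bot ⟨h, y.2⟩
      have h1 : Ideal.Quotient.mk p (y : A) ≠ 0 := by
        rwa [Ne, Ideal.Quotient.eq_zero_iff_mem]
      have h2 : algebraMap (A ⧸ p) (FractionRing (A ⧸ p)) (Ideal.Quotient.mk p (y : A)) ≠ 0 := by
        rwa [Ne, map_eq_zero_iff _ (IsFractionRing.injective _ _)]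
      exact IsUnit.mk0 _ h2)

theorem eq_zero_of_compMap_eq_zero (x : FractionRing A)
    (h : ∀ (p : Ideal A) (hp : p ∈ minimalPrimes A), haveI := hp.1.1; compMap A p hp x = 0) :
    x = 0 := by
  obtain ⟨a, s, rfl⟩ := IsLocalization.exists_mk'_eq (nonZeroDivisors A) x
  have ha : a = 0 := by
    refine eq_zero_of_forall_mem_minimalPrimes fun p hp => ?_
    haveI := hp.1.1
    have h1 := h p hp
    have h2 : compMap A p hp (algebraMap A (FractionRing A) a) = 0 := by
      have : algebraMap A (FractionRing A) a =
          IsLocalization.mk' (FractionRing A) a s * algebraMap A (FractionRing A) s := by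
        rw [IsLocalization.mk'_spec]
      rw [this, map_mul, h1, zero_mul]
    rw [AlgHom.commutes] at h2
    have h3 : algebraMap (A ⧸ p) (FractionRing (A ⧸ p)) (Ideal.Quotient.mk p a) = 0 := h2
    rw [map_eq_zero_iff _ (IsFractionRing.injective _ _), Ideal.Quotient.eq_zero_iff_mem] at h3
    exact h3
  rw [ha, IsLocalization.mk'_zero]

/-- For a reduced Nagata ring the integral closure in the total ring of fractions is finite. -/
theorem finite_integralClosure (hN : CAlg.IsNagata A) :
    Module.Finite A (integralClosure A (FractionRing A)) := by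
  classical
  haveI : Finite (minimalPrimes A) := (minimalPrimes.finite_of_isNoetherianRing A).to_subtype
  haveI hprime : ∀ p : minimalPrimes A, p.1.IsPrime := fun p => p.2.1.1
  let S : ∀ p : minimalPrimes A, Subalgebra A (FractionRing (A ⧸ p.1)) := fun p =>
    (integralClosure (A ⧸ p.1) (FractionRing (A ⧸ p.1))).restrictScalars A
  haveI hfinC : ∀ p : minimalPrimes A, Module.Finite A (S p) := fun p => by
    haveI : Module.Finite (A ⧸ p.1) (integralClosure (A ⧸ p.1) (FractionRing (A ⧸ p.1))) := by
      have := hN.2 p.1 (FractionRing (A ⧸ p.1)) inferInstance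
      exact this
    haveI : IsScalarTower A (A ⧸ p.1) (integralClosure (A ⧸ p.1) (FractionRing (A ⧸ p.1))) :=
      ⟨fun a b c => Subtype.ext (smul_assoc a b (c : FractionRing (A ⧸ p.1)))⟩
    have h : Module.Finite A (integralClosure (A ⧸ p.1) (FractionRing (A ⧸ p.1))) :=
      Module.Finite.trans (A ⧸ p.1) (integralClosure (A ⧸ p.1) (FractionRing (A ⧸ p.1)))
    let e : integralClosure (A ⧸ p.1) (FractionRing (A ⧸ p.1)) ≃ₗ[A] S p :=
      { toFun := fun x => ⟨x.1, x.2⟩
        invFun := fun x => ⟨x.1, x.2⟩
        map_add' := fun _ _ => rfl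
        map_smul' := fun _ _ => rfl
        left_inv := fun _ => rfl
        right_inv := fun _ => rfl }
    exact Module.Finite.equiv e
  let ψ : ∀ p : minimalPrimes A, integralClosure A (FractionRing A) →ₐ[A] S p := fun p =>
    AlgHom.codRestrict ((compMap A p.1 p.2).comp (integralClosure A (FractionRing A)).val) (S p)
      (fun x => by
        have h1 : IsIntegral A (compMap A p.1 p.2 x.1) := x.2.map (compMap A p.1 p.2)
        exact h1.tower_top)
  let Ψ : integralClosure A (FractionRing A) →ₗ[A] (∀ p : minimalPrimes A, S p) :=
    LinearMap.pi fun p => (ψ p).toLinearMap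
  have hΨ : Function.Injective Ψ := by
    rw [← LinearMap.ker_eq_bot, LinearMap.ker_eq_bot']
    intro x hx
    apply Subtype.ext
    apply eq_zero_of_compMap_eq_zero
    intro p hp
    have := congrFun hx ⟨p, hp⟩
    exact congrArg Subtype.val this
  haveI : IsNoetherian A (∀ p : minimalPrimes A, S p) :=
    isNoetherian_of_isNoetherianRing_of_finite _ _
  exact Module.Finite.of_injective Ψ hΨ

end Finite

section Length

variable (A : Type u) [CommRing A] [IsNoetherianRing A]

theorem exists_smul_mem_range [Module.Finite A (integralClosure A (FractionRing A))] :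
    ∃ s ∈ nonZeroDivisors A, ∀ x : integralClosure A (FractionRing A),
      ∃ a : A, algebraMap A (integralClosure A (FractionRing A)) a = s • x := by
  classical
  obtain ⟨T, hT⟩ := (Module.Finite.fg_top :
    (⊤ : Submodule A (integralClosure A (FractionRing A))).FG)
  obtain ⟨s, hs⟩ := IsLocalization.exist_integer_multiples_of_finset (nonZeroDivisors A)
    (T.image (Subtype.val : integralClosure A (FractionRing A) → FractionRing A))
  refine ⟨s.1, s.2, fun x => ?_⟩
  have hx : x ∈ Submodule.span A (T : Set (integralClosure A (FractionRing A))) := by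
    rw [hT]; trivial
  induction hx using Submodule.span_induction with
  | mem y hy =>
    obtain ⟨a, ha⟩ := hs y.1 (Finset.mem_image_of_mem _ hy)
    refine ⟨a, Subtype.ext ?_⟩
    exact ha
  | zero => exact ⟨0, by simp⟩
  | add y z _ _ hy hz =>
    obtain ⟨a, ha⟩ := hy
    obtain ⟨b, hb⟩ := hz
    exact ⟨a + b, by rw [map_add, ha, hb, smul_add]⟩
  | smul c y _ hy =>
    obtain ⟨a, ha⟩ := hy
    exact ⟨c * a, by rw [map_mul, ha, smul_comm, Algebra.smul_def c]⟩

theorem deltaInv_lt_top [Module.Finite A (integralClosure A (FractionRing A))]
    (hdim : ringKrullDim A = 1) : Curv2.deltaInv A < ⊤ := by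
  obtain ⟨s, hs, h⟩ := exists_smul_mem_range A
  unfold Curv2.deltaInv
  rw [lt_top_iff_ne_top, Module.length_ne_top_iff]
  apply Groth.Agent.Lib.Helper12.OneDim.isFiniteLength_of_smul_eq_zero hdim hs
  intro x
  obtain ⟨y, rfl⟩ := Submodule.mkQ_surjective _ x
  rw [← map_smul, Submodule.mkQ_apply, Submodule.Quotient.mk_eq_zero]
  obtain ⟨a, ha⟩ := h y
  exact ⟨a, ha⟩

end Length

section Normal

variable (A : Type u) [CommRing A]

theorem algebraMap_integralClosure_injective :
    Function.Injective (algebraMap A (integralClosure A (FractionRing A))) := by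
  have h := IsLocalization.injective (FractionRing A) (le_refl (nonZeroDivisors A))
  intro a b hab
  apply h
  exact congrArg Subtype.val hab

theorem mem_nonZeroDivisors_of_isUnit_val (b : integralClosure A (FractionRing A))
    (hb : IsUnit (b : FractionRing A)) : b ∈ nonZeroDivisors (integralClosure A (FractionRing A)) := by
  rw [mem_nonZeroDivisors_iff_right]
  intro c hc
  apply Subtype.ext
  have h1 : (c : FractionRing A) * (b : FractionRing A) = 0 := congrArg Subtype.val hc
  exact (hb.mul_left_eq_zero).mp h1

theorem isUnit_val_of_mem_nonZeroDivisors (b : integralClosure A (FractionRing A))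
    (hb : b ∈ nonZeroDivisors (integralClosure A (FractionRing A))) :
    IsUnit (b : FractionRing A) := by
  obtain ⟨a, s, has⟩ := IsLocalization.exists_mk'_eq (nonZeroDivisors A) (b : FractionRing A)
  have ha : a ∈ nonZeroDivisors A := by
    rw [mem_nonZeroDivisors_iff_right]
    intro c hc
    have h1 : algebraMap A (integralClosure A (FractionRing A)) c * b = 0 := by
      apply Subtype.ext
      change algebraMap A (FractionRing A) c * (b : FractionRing A) = 0
      rw [← has, ← IsLocalization.mk'_one (M := nonZeroDivisors A) (FractionRing A) c,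
        ← IsLocalization.mk'_mul, hc, IsLocalization.mk'_zero]
    have h2 := (mem_nonZeroDivisors_iff_right.mp hb) _ h1
    exact algebraMap_integralClosure_injective A (h2.trans (map_zero _).symm)
  have h3 : (b : FractionRing A) * algebraMap A (FractionRing A) s =
      algebraMap A (FractionRing A) a := by
    rw [← has, IsLocalization.mk'_spec]
  have h4 : IsUnit (algebraMap A (FractionRing A) a) :=
    IsLocalization.map_units (FractionRing A) (⟨a, ha⟩ : nonZeroDivisors A)
  rw [← h3] at h4
  exact isUnit_of_mul_isUnit_left h4

instance isFractionRing_integralClosure :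
    IsFractionRing (integralClosure A (FractionRing A)) (FractionRing A) where
  map_units b := isUnit_val_of_mem_nonZeroDivisors A b.1 b.2
  surj q := by
    obtain ⟨a, s, rfl⟩ := IsLocalization.exists_mk'_eq (nonZeroDivisors A) q
    have hs : algebraMap A (integralClosure A (FractionRing A)) s ∈
        nonZeroDivisors (integralClosure A (FractionRing A)) :=
      mem_nonZeroDivisors_of_isUnit_val A _ (IsLocalization.map_units (FractionRing A) s)
    refine ⟨(algebraMap A (integralClosure A (FractionRing A)) a, ⟨_, hs⟩), ?_⟩
    change IsLocalization.mk' (FractionRing A) a s * algebraMap A (FractionRing A) s =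
      algebraMap A (FractionRing A) a
    rw [IsLocalization.mk'_spec]
  exists_of_eq {x y} h := ⟨1, by rw [Subtype.ext h]⟩

theorem normal_localization [IsReduced A] [IsNoetherianRing A]
    [Module.Finite A (integralClosure A (FractionRing A))]
    (P : Ideal (integralClosure A (FractionRing A))) [P.IsPrime] :
    IsDomain (Localization.AtPrime P) ∧ IsIntegrallyClosed (Localization.AtPrime P) := by
  haveI : IsNoetherianRing (integralClosure A (FractionRing A)) :=
    IsNoetherianRing.of_finite A _
  haveI : IsReduced (integralClosure A (FractionRing A)) :=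
    isReduced_of_injective (algebraMap (integralClosure A (FractionRing A)) (FractionRing A))
      Subtype.val_injective
  refine normal_of_integrallyClosed_in_totalFrac (FractionRing A)
    (minimalPrimes.finite_of_isNoetherianRing _) ?_ P
  intro x hx
  have hx' : IsIntegral A x := isIntegral_trans x hx
  exact ⟨⟨x, hx'⟩, rfl⟩

end Normal

end Groth.Agent.Lib.Helper21.NagataOne
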