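import Groth.Agent.Lib.Helper21.BrR1
import Groth.Agent.Lib.Helper21.NagataOne

set_option autoImplicit false
set_option linter.style.haveILetI false
set_option linter.unusedSectionVars false
universe u v

namespace Groth.Agent.Lib.Helper21.BrR

open Groth.Agent.Lib.Helper21.Br

section Ineq

variable (A : Type u) [CommRing A] [IsLocalRing A] (C : Type u) [CommRing C] [Algebra A C]
  [Module.Finite A C]

theorem comap_maximal (m : MaximalSpectrum C) :
    m.asIdeal.comap (algebraMap A C) = IsLocalRing.maximalIdeal A := by
  haveI := m.isMaximal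
  exact IsLocalRing.eq_maximalIdeal (Ideal.isMaximal_comap_of_isIntegral_of_isMaximal _)

include A in
theorem finite_maximalSpectrum : Finite (MaximalSpectrum C) := by
  have hfin := Algebra.QuasiFinite.finite_primesOver (R := A) (S := C) (IsLocalRing.maximalIdeal A)
  haveI := hfin.to_subtype
  refine Finite.of_injective
    (fun m : MaximalSpectrum C => (⟨m.asIdeal, m.isMaximal.isPrime, ⟨(comap_maximal A C m).symm⟩⟩ :
      (IsLocalRing.maximalIdeal A).primesOver C)) ?_
  intro m m' h
  apply MaximalSpectrum.ext
  exact congrArg Subtype.val h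

theorem pairwise_coprime :
    Pairwise (Function.onFun IsCoprime (fun m : MaximalSpectrum C => m.asIdeal)) := by
  intro m m' hne
  rw [Function.onFun, Ideal.isCoprime_iff_sup_eq]
  exact Ideal.IsMaximal.coprime_of_ne m.isMaximal m'.isMaximal
    (fun h => hne (MaximalSpectrum.ext h))

/-- The canonical map to the product of the residue fields. -/
noncomputable def toPi : C →ₗ[A] (∀ m : MaximalSpectrum C, C ⧸ m.asIdeal) :=
  LinearMap.pi (fun m => (m.asIdeal.mkQ).restrictScalars A)

theorem toPi_apply (c : C) (m : MaximalSpectrum C) :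
    toPi A C c m = Ideal.Quotient.mk m.asIdeal c := rfl

theorem toPi_surjective : Function.Surjective (toPi A C) := by
  haveI := finite_maximalSpectrum A C
  intro x
  obtain ⟨r, hr⟩ := Ideal.pi_quotient_surjective (pairwise_coprime C) x
  exact ⟨r, funext hr⟩

theorem length_pi_le :
    Module.length A (∀ m : MaximalSpectrum C, C ⧸ m.asIdeal) ≤
      Module.length A (C ⧸ LinearMap.range (Algebra.linearMap A C)) + 1 := by
  set P := ∀ m : MaximalSpectrum C, C ⧸ m.asIdeal
  set N := LinearMap.range (Algebra.linearMap A C) with hN
  set ψ : A →ₗ[A] P := (toPi A C).comp (Algebra.linearMap A C) with hψ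
  set N' := LinearMap.range ψ with hN'
  have h1 : Module.length A P = Module.length A N' + Module.length A (P ⧸ N') :=
    Module.length_eq_add_of_exact N'.subtype N'.mkQ (Submodule.subtype_injective _)
      (Submodule.mkQ_surjective _) (LinearMap.exact_subtype_mkQ N')
  have h2 : Module.length A (P ⧸ N') ≤ Module.length A (C ⧸ N) := by
    have hle : N ≤ N'.comap (toPi A C) := by
      rintro _ ⟨a, rfl⟩
      exact ⟨a, rfl⟩
    refine Module.length_le_of_surjective (Submodule.mapQ N N' (toPi A C) hle) ?_
    intro y
    obtain ⟨p, rfl⟩ := Submodule.mkQ_surjective _ y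
    obtain ⟨c, rfl⟩ := toPi_surjective A C p
    exact ⟨Submodule.mkQ N c, rfl⟩
  have h3 : Module.length A N' ≤ 1 := by
    have hker : IsLocalRing.maximalIdeal A ≤ LinearMap.ker ψ := by
      intro a ha
      rw [LinearMap.mem_ker]
      funext m
      change Ideal.Quotient.mk m.asIdeal (algebraMap A C a) = 0
      rw [Ideal.Quotient.eq_zero_iff_mem]
      have : a ∈ m.asIdeal.comap (algebraMap A C) := by rw [comap_maximal]; exact ha
      exact this
    let f : (A ⧸ IsLocalRing.maximalIdeal A) →ₗ[A] N' :=
      Submodule.liftQ _ ψ.rangeRestrict (by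
        intro a ha
        rw [LinearMap.mem_ker]
        apply Subtype.ext
        exact hker ha)
    have hf : Function.Surjective f := by
      rintro ⟨_, a, rfl⟩
      exact ⟨Submodule.Quotient.mk a, rfl⟩
    have h4 := Module.length_le_of_surjective f hf
    haveI : IsSimpleModule A (A ⧸ IsLocalRing.maximalIdeal A) :=
      isSimpleModule_iff_isCoatom.mpr (Ideal.isMaximal_def.mp inferInstance)
    have h5 : Module.length A (A ⧸ IsLocalRing.maximalIdeal A) = 1 := Module.length_eq_one _ _
    rw [h5] at h4
    exact h4
  rw [h1, add_comm]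
  exact add_le_add h2 h3

end Ineq

end Groth.Agent.Lib.Helper21.BrR
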