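import Groth.Agent.Lib.Helper21.BrR2

set_option autoImplicit false
set_option linter.style.haveILetI false
set_option linter.unusedSectionVars false
universe u v

namespace Groth.Agent.Lib.Helper21.BrR

open Groth.Agent.Lib.Helper21.Br

section EmbLe

variable (A : Type u) [CommRing A] [IsReduced A] [IsLocalRing A]
  (K : Type u) [CommRing K] [Algebra A K] [IsFractionRing A K]
  [Module.Finite A (integralClosure A K)]

theorem card_emb_le (m : MaximalSpectrum (integralClosure A K)) :
    ENat.card (Emb' A K m) ≤ Module.length A (integralClosure A K ⧸ m.asIdeal) := by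
  haveI := m.isMaximal
  letI : Field (integralClosure A K ⧸ m.asIdeal) := Ideal.Quotient.field m.asIdeal
  set f : A →+* (integralClosure A K ⧸ m.asIdeal) :=
    (Ideal.Quotient.mk m.asIdeal).comp (algebraMap A (integralClosure A K)) with hf
  haveI : IsLocalHom f := by
    constructor
    intro a ha
    by_contra hna
    have h1 : a ∈ IsLocalRing.maximalIdeal A := (IsLocalRing.mem_maximalIdeal a).mpr hna
    rw [← comap_maximal A (integralClosure A K) m] at h1
    have h2 : f a = 0 := Ideal.Quotient.eq_zero_iff_mem.mpr h1
    rw [h2] at ha
    exact not_isUnit_zero ha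
  letI algκ : Algebra (IsLocalRing.ResidueField A) (integralClosure A K ⧸ m.asIdeal) :=
    (IsLocalRing.ResidueField.lift f).toAlgebra
  haveI : IsScalarTower A (IsLocalRing.ResidueField A) (integralClosure A K ⧸ m.asIdeal) :=
    IsScalarTower.of_algebraMap_eq (fun a =>
      (IsLocalRing.ResidueField.lift_residue_apply f a).symm)
  haveI : Module.Finite (IsLocalRing.ResidueField A) (integralClosure A K ⧸ m.asIdeal) :=
    Module.Finite.of_restrictScalars_finite A _ _
  have h1 := emb_card A K m (integralClosure A K ⧸ m.asIdeal) (RingEquiv.refl _)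
    (fun a => (IsLocalRing.ResidueField.lift_residue_apply f a).symm)
  rw [← h1]
  have h2 : Module.length A (integralClosure A K ⧸ m.asIdeal) =
      Module.length (IsLocalRing.ResidueField A) (integralClosure A K ⧸ m.asIdeal) :=
    Module.length_eq_of_surjective IsLocalRing.residue_surjective
  rw [h2, Module.length_eq_finrank]
  have h3 : ENat.card (Field.Emb (IsLocalRing.ResidueField A) (integralClosure A K ⧸ m.asIdeal)) =
      (Field.finSepDegree (IsLocalRing.ResidueField A) (integralClosure A K ⧸ m.asIdeal) : ℕ∞) := by
    rw [Field.finSepDegree, ENat.card_eq_coe_natCard]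
  rw [h3]
  exact_mod_cast Field.finSepDegree_le_finrank _ _

end EmbLe

end Groth.Agent.Lib.Helper21.BrR
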