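import Groth.Agent.Lib.Helper21.BrR3

set_option autoImplicit false
set_option linter.style.haveILetI false
set_option linter.unusedSectionVars false
universe u v

namespace Groth.Agent.Lib.Helper21.BrR

open Groth.Agent.Lib.Helper21.Br

section SurjOfEq

variable (A : Type u) [CommRing A] [IsReduced A] [IsLocalRing A]
  (K : Type u) [CommRing K] [Algebra A K] [IsFractionRing A K]
  [Module.Finite A (integralClosure A K)]

theorem surjective_of_card_emb_eq [IsSepClosed (IsLocalRing.ResidueField A)]
    (m : MaximalSpectrum (integralClosure A K))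
    (h : ENat.card (Emb' A K m) = Module.length A (integralClosure A K ⧸ m.asIdeal)) :
    Function.Surjective
      ((Ideal.Quotient.mk m.asIdeal).comp (algebraMap A (integralClosure A K))) := by
  haveI := m.isMaximal
  letI : Field (integralClosure A K ⧸ m.asIdeal) := Ideal.Quotient.field m.asIdeal
  set f : A →+* (integralClosure A K ⧸ m.asIdeal) :=
    (Ideal.Quotient.mk m.asIdeal).comp (algebraMap A (integralClosure A K)) with hf
  haveI : IsLocalHom f := by
    constructor
    intro a ha
    by_contra hna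
    have h1 : a ∈ IsLocalRing.maximalIdeal A := (IsLocalRing.mem_maximalIdeal a).mpr hna
    rw [← comap_maximal A (integralClosure A K) m] at h1
    have h2 : f a = 0 := Ideal.Quotient.eq_zero_iff_mem.mpr h1
    rw [h2] at ha
    exact not_isUnit_zero ha
  letI algκ : Algebra (IsLocalRing.ResidueField A) (integralClosure A K ⧸ m.asIdeal) :=
    (IsLocalRing.ResidueField.lift f).toAlgebra
  haveI : IsScalarTower A (IsLocalRing.ResidueField A) (integralClosure A K ⧸ m.asIdeal) :=
    IsScalarTower.of_algebraMap_eq (fun a =>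
      (IsLocalRing.ResidueField.lift_residue_apply f a).symm)
  haveI : Module.Finite (IsLocalRing.ResidueField A) (integralClosure A K ⧸ m.asIdeal) :=
    Module.Finite.of_restrictScalars_finite A _ _
  have h1 := emb_card A K m (integralClosure A K ⧸ m.asIdeal) (RingEquiv.refl _)
    (fun a => (IsLocalRing.ResidueField.lift_residue_apply f a).symm)
  rw [← h1] at h
  have h2 : Module.length A (integralClosure A K ⧸ m.asIdeal) =
      Module.length (IsLocalRing.ResidueField A) (integralClosure A K ⧸ m.asIdeal) :=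
    Module.length_eq_of_surjective IsLocalRing.residue_surjective
  rw [h2, Module.length_eq_finrank] at h
  have h3 : ENat.card (Field.Emb (IsLocalRing.ResidueField A) (integralClosure A K ⧸ m.asIdeal)) =
      (Field.finSepDegree (IsLocalRing.ResidueField A) (integralClosure A K ⧸ m.asIdeal) : ℕ∞) := by
    rw [Field.finSepDegree, ENat.card_eq_coe_natCard]
  rw [h3] at h
  have h4 : Field.finSepDegree (IsLocalRing.ResidueField A) (integralClosure A K ⧸ m.asIdeal) =
      Module.finrank (IsLocalRing.ResidueField A) (integralClosure A K ⧸ m.asIdeal) := by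
    exact_mod_cast h
  haveI : Algebra.IsSeparable (IsLocalRing.ResidueField A) (integralClosure A K ⧸ m.asIdeal) :=
    (Field.finSepDegree_eq_finrank_iff _ _).mp h4
  intro y
  obtain ⟨k, rfl⟩ := IsSepClosed.algebraMap_surjective (IsLocalRing.ResidueField A)
    (integralClosure A K ⧸ m.asIdeal) y
  obtain ⟨a, rfl⟩ := IsLocalRing.residue_surjective k
  exact ⟨a, (IsLocalRing.ResidueField.lift_residue_apply f a).symm⟩

end SurjOfEq

section Arith

theorem enat_sum_eq_of_le {ι : Type*} (s : Finset ι) (a b : ι → ℕ∞) (hab : ∀ i ∈ s, a i ≤ b i)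
    (hfin : ∑ i ∈ s, b i < ⊤) (hsum : ∑ i ∈ s, a i = ∑ i ∈ s, b i) : ∀ i ∈ s, a i = b i := by
  have hb : ∀ i ∈ s, b i ≠ ⊤ := by
    intro i hi h
    have : b i ≤ ∑ j ∈ s, b j := Finset.single_le_sum (fun _ _ => zero_le) hi
    rw [h, top_le_iff] at this
    exact (ne_of_lt hfin) this
  have ha : ∀ i ∈ s, a i ≠ ⊤ := fun i hi h => hb i hi (top_le_iff.mp (h ▸ hab i hi))
  have hsum' : ∑ i ∈ s, (a i).toNat = ∑ i ∈ s, (b i).toNat := by
    have e1 : ((∑ i ∈ s, (a i).toNat : ℕ) : ℕ∞) = ∑ i ∈ s, a i := by
      rw [Nat.cast_sum]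
      exact Finset.sum_congr rfl (fun i hi => ENat.natCast_toNat (ha i hi))
    have e2 : ((∑ i ∈ s, (b i).toNat : ℕ) : ℕ∞) = ∑ i ∈ s, b i := by
      rw [Nat.cast_sum]
      exact Finset.sum_congr rfl (fun i hi => ENat.natCast_toNat (hb i hi))
    have : ((∑ i ∈ s, (a i).toNat : ℕ) : ℕ∞) = ((∑ i ∈ s, (b i).toNat : ℕ) : ℕ∞) := by
      rw [e1, e2, hsum]
    exact_mod_cast this
  have hle' : ∀ i ∈ s, (a i).toNat ≤ (b i).toNat :=
    fun i hi => ENat.toNat_le_toNat (hab i hi) (hb i hi)
  have := (Finset.sum_eq_sum_iff_of_le hle').mp hsum'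
  intro i hi
  rw [← ENat.natCast_toNat (ha i hi), ← ENat.natCast_toNat (hb i hi), this i hi]

theorem enat_eq_of_add {x y d : ℕ∞} (hx : x ≤ 1) (hy : y ≤ d) (hd : d < ⊤)
    (h : d + 1 ≤ x + y) : y = d := by
  lift d to ℕ using ne_of_lt hd
  have hy' : y ≠ ⊤ := fun h' => by rw [h'] at hy; exact absurd (top_le_iff.mp hy) (ENat.natCast_ne_top d)
  have hx' : x ≠ ⊤ := fun h' => by rw [h'] at hx; exact absurd (top_le_iff.mp hx) ENat.one_ne_top
  lift y to ℕ using hy'
  lift x to ℕ using hx'
  norm_cast at *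
  omega

end Arith

end Groth.Agent.Lib.Helper21.BrR
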