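import Groth.Agent.Lib.Helper21.BrR4

set_option autoImplicit false
set_option linter.style.haveILetI false
set_option linter.unusedSectionVars false
universe u v

namespace Groth.Agent.Lib.Helper21.BrR

open Groth.Agent.Lib.Helper21.Br

theorem enat_eq_zero_of_self_add {x d : ℕ∞} (hd : d < ⊤) (h : d = x + d) : x = 0 := by
  lift d to ℕ using ne_of_lt hd
  by_contra hne
  have hpos : 1 ≤ x := Order.one_le_iff_ne_zero.mpr hne
  have h1 : (d : ℕ∞) + 1 ≤ d := by
    calc (d : ℕ∞) + 1 = 1 + d := add_comm _ _
      _ ≤ x + d := add_le_add hpos le_rfl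
      _ = d := h.symm
  have : d + 1 ≤ d := by exact_mod_cast h1
  omega

section Gen

variable (A : Type u) [CommRing A] [IsLocalRing A] (C : Type u) [CommRing C] [Algebra A C]
  [Module.Finite A C]

theorem length_range_le_one :
    Module.length A (LinearMap.range ((toPi A C).comp (Algebra.linearMap A C))) ≤ 1 := by
  set ψ : A →ₗ[A] (∀ m : MaximalSpectrum C, C ⧸ m.asIdeal) :=
    (toPi A C).comp (Algebra.linearMap A C) with hψ
  set N' := LinearMap.range ψ with hN'
  have hker : IsLocalRing.maximalIdeal A ≤ LinearMap.ker ψ := by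
    intro a ha
    rw [LinearMap.mem_ker]
    funext m
    change Ideal.Quotient.mk m.asIdeal (algebraMap A C a) = 0
    rw [Ideal.Quotient.eq_zero_iff_mem]
    have : a ∈ m.asIdeal.comap (algebraMap A C) := by rw [comap_maximal]; exact ha
    exact this
  let f : (A ⧸ IsLocalRing.maximalIdeal A) →ₗ[A] N' :=
    Submodule.liftQ _ ψ.rangeRestrict (by
      intro a ha
      rw [LinearMap.mem_ker]
      apply Subtype.ext
      exact hker ha)
  have hf : Function.Surjective f := by
    rintro ⟨_, a, rfl⟩
    exact ⟨Submodule.Quotient.mk a, rfl⟩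
  have h4 := Module.length_le_of_surjective f hf
  haveI : IsSimpleModule A (A ⧸ IsLocalRing.maximalIdeal A) :=
    isSimpleModule_iff_isCoatom.mpr (Ideal.isMaximal_def.mp inferInstance)
  have h5 : Module.length A (A ⧸ IsLocalRing.maximalIdeal A) = 1 := Module.length_eq_one _ _
  rw [h5] at h4
  exact h4

end Gen

section EqCase

variable (A : Type u) [CommRing A] [IsReduced A] [IsLocalRing A]
  (K : Type u) [CommRing K] [Algebra A K] [IsFractionRing A K]
  [Module.Finite A (integralClosure A K)]

local notation "C" => integralClosure A K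

theorem eq_consequences [Fintype (MaximalSpectrum (integralClosure A K))]
    (hD : Module.length A (integralClosure A K ⧸
      LinearMap.range (Algebra.linearMap A (integralClosure A K))) < ⊤)
    (heq : Module.length A (integralClosure A K ⧸
      LinearMap.range (Algebra.linearMap A (integralClosure A K))) + 1 =
      ∑ m : MaximalSpectrum (integralClosure A K), ENat.card (Emb' A K m)) :
    (∀ m : MaximalSpectrum (integralClosure A K),
      ENat.card (Emb' A K m) = Module.length A (integralClosure A K ⧸ m.asIdeal)) ∧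
    (∀ a' : integralClosure A K,
      (∃ a : A, ∀ m : MaximalSpectrum (integralClosure A K),
        a' - algebraMap A (integralClosure A K) a ∈ m.asIdeal) →
      a' ∈ (algebraMap A (integralClosure A K)).range) := by
  set P := ∀ m : MaximalSpectrum C, C ⧸ m.asIdeal
  set N := LinearMap.range (Algebra.linearMap A C) with hN
  set ψ : A →ₗ[A] P := (toPi A C).comp (Algebra.linearMap A C) with hψ
  set N' := LinearMap.range ψ with hN'
  set D := Module.length A (C ⧸ N) with hDdef
  have h1 : Module.length A P = Module.length A N' + Module.length A (P ⧸ N') :=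
    Module.length_eq_add_of_exact N'.subtype N'.mkQ (Submodule.subtype_injective _)
      (Submodule.mkQ_surjective _) (LinearMap.exact_subtype_mkQ N')
  have hle : N ≤ N'.comap (toPi A C) := by
    rintro _ ⟨a, rfl⟩
    exact ⟨a, rfl⟩
  set q : (C ⧸ N) →ₗ[A] (P ⧸ N') := Submodule.mapQ N N' (toPi A C) hle with hq
  have hqsurj : Function.Surjective q := by
    intro y
    obtain ⟨p, rfl⟩ := Submodule.mkQ_surjective _ y
    obtain ⟨c, rfl⟩ := toPi_surjective A C p
    exact ⟨Submodule.mkQ N c, rfl⟩
  have h2 : Module.length A (P ⧸ N') ≤ D := Module.length_le_of_surjective q hqsurj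
  have h3 : Module.length A N' ≤ 1 := length_range_le_one A (integralClosure A K)
  have hEL : ∑ m : MaximalSpectrum C, ENat.card (Emb' A K m) ≤
      ∑ m : MaximalSpectrum C, Module.length A (C ⧸ m.asIdeal) :=
    Finset.sum_le_sum (fun m _ => card_emb_le A K m)
  have hLP : ∑ m : MaximalSpectrum C, Module.length A (C ⧸ m.asIdeal) = Module.length A P :=
    (Module.length_pi_of_fintype A _).symm
  have hchain : D + 1 ≤ Module.length A N' + Module.length A (P ⧸ N') := by
    rw [heq, ← h1, ← hLP]
    exact hEL
  have hPN : Module.length A (P ⧸ N') = D := enat_eq_of_add h3 h2 hD hchain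
  have hLle : Module.length A P ≤ D + 1 := by
    rw [h1, add_comm]
    exact add_le_add h2 h3
  have hELeq : ∑ m : MaximalSpectrum C, ENat.card (Emb' A K m) =
      ∑ m : MaximalSpectrum C, Module.length A (C ⧸ m.asIdeal) := by
    apply le_antisymm hEL
    rw [hLP, ← heq]
    exact hLle
  have hLfin : ∑ m : MaximalSpectrum C, Module.length A (C ⧸ m.asIdeal) < ⊤ := by
    rw [← hELeq, ← heq]
    exact ENat.add_lt_top.mpr ⟨hD, ENat.one_lt_top⟩
  refine ⟨fun m => enat_sum_eq_of_le Finset.univ _ _ (fun m _ => card_emb_le A K m) hLfin hELeq m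
    (Finset.mem_univ m), ?_⟩
  have hkerq : LinearMap.ker q = ⊥ := by
    have h6 : D = Module.length A (LinearMap.ker q) + Module.length A (P ⧸ N') :=
      Module.length_eq_add_of_exact (LinearMap.ker q).subtype q (Submodule.subtype_injective _)
        hqsurj (LinearMap.exact_subtype_ker_map q)
    rw [hPN] at h6
    have h7 : Module.length A (LinearMap.ker q) = 0 := enat_eq_zero_of_self_add hD h6
    rw [Module.length_eq_zero_iff] at h7
    exact (Submodule.subsingleton_iff_eq_bot).mp h7
  rintro a' ⟨a, ha⟩
  have hmem : Submodule.mkQ N a' ∈ LinearMap.ker q := by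
    rw [LinearMap.mem_ker]
    change Submodule.mkQ N' (toPi A C a') = 0
    rw [Submodule.mkQ_apply, Submodule.Quotient.mk_eq_zero]
    refine ⟨a, ?_⟩
    funext m
    change Ideal.Quotient.mk m.asIdeal (algebraMap A C a) = Ideal.Quotient.mk m.asIdeal a'
    rw [eq_comm, ← sub_eq_zero, ← map_sub, Ideal.Quotient.eq_zero_iff_mem]
    exact ha m
  rw [hkerq, Submodule.mem_bot, Submodule.mkQ_apply, Submodule.Quotient.mk_eq_zero] at hmem
  obtain ⟨a₀, ha₀⟩ := hmem
  exact ⟨a₀, ha₀⟩

end EqCase

end Groth.Agent.Lib.Helper21.BrR
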