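import Groth.Agent.Lib.Helper21.VarNorm
import Groth.Agent.Lib.Helper21.BiratPoint

/-!
# Normalization of an integral scheme in a finite extension of its function field
-/

set_option autoImplicit false
set_option linter.style.haveILetI false
universe u
open AlgebraicGeometry CategoryTheory Limits TopologicalSpace

namespace Groth.Agent.Lib.Helper21.VarNorm

open Groth.Agent.Lib.Helper6.GU

/-- A ring which is integrally closed in a field is an integrally closed domain. -/
theorem isIntegrallyClosed_of_isIntegrallyClosedIn {C L : Type*} [CommRing C] [IsDomain C]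
    [Field L] [Algebra C L] [IsIntegrallyClosedIn C L]
    (hinj : Function.Injective (algebraMap C L)) : IsIntegrallyClosed C := by
  rw [isIntegrallyClosed_iff (FractionRing C)]
  intro x hx
  let Λ : FractionRing C →+* L := IsFractionRing.lift hinj
  have hΛ : ∀ c, Λ (algebraMap C (FractionRing C) c) = algebraMap C L c :=
    IsFractionRing.lift_algebraMap hinj
  have h1 : IsIntegral C (Λ x) := by
    obtain ⟨f, hfm, hf⟩ := hx
    refine ⟨f, hfm, ?_⟩
    have h2 : Polynomial.eval₂ (Λ.comp (algebraMap C (FractionRing C))) (Λ x) f = 0 := by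
      rw [← Polynomial.hom_eval₂, hf, map_zero]
    have h3 : Λ.comp (algebraMap C (FractionRing C)) = algebraMap C L := RingHom.ext hΛ
    rwa [h3] at h2
  obtain ⟨c, hc⟩ := IsIntegrallyClosedIn.isIntegral_iff.mp h1
  exact ⟨c, Λ.injective (by rw [hΛ, hc])⟩

theorem height_le_height_comap_of_isIntegral {A B : Type*} [CommRing A] [CommRing B]
    [Algebra A B] [Algebra.IsIntegral A B] (Q : Ideal B) [hQ : Q.IsPrime] :
    Q.height ≤ (Q.comap (algebraMap A B)).height := by
  have hsm : StrictMono (PrimeSpectrum.comap (algebraMap A B)) := by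
    intro I J hIJ
    have := I.2
    exact Ideal.IsIntegral.comap_lt_comap (R := A) (I := I.asIdeal) (J := J.asIdeal) hIJ
  have h := Order.height_le_height_apply_of_strictMono _ hsm (⟨Q, hQ⟩ : PrimeSpectrum B)
  rw [← PrimeSpectrum.height_eq_orderHeight, ← PrimeSpectrum.height_eq_orderHeight] at h
  exact h

section Generic

variable (X : Scheme.{u}) [IsIntegral X] (L : Type u) [Field L]
  (φ : X.functionField ⟶ CommRingCat.of L)

/-- Sections of `Spec L` over the preimage of an open containing the generic point form a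
field. -/
theorem isField_sections (U : X.Opens) (hη : genericPoint X ∈ U) :
    IsField Γ(Spec (CommRingCat.of L), genHom X L φ ⁻¹ᵁ U) :=
  (RingEquiv.ofBijective (resL L (genHom X L φ ⁻¹ᵁ U)).hom
    (resL_bijective L _ (genHom_preimage_eq_top X L φ U hη))).symm.toMulEquiv.isField
      (Field.toIsField L)

theorem genHom_app_injective (U : X.Opens) (hη : genericPoint X ∈ U) :
    Function.Injective ((genHom X L φ).app U).hom := by
  rw [genHom_app X L φ U hη]
  have h1 : Function.Injective (X.presheaf.germ U (genericPoint X) hη).hom :=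
    germ_injective_of_isIntegral X _ hη
  have h2 : Function.Injective φ.hom := RingHom.injective _
  have h3 : Function.Injective (resL L (genHom X L φ ⁻¹ᵁ U)).hom :=
    (resL_bijective L _ (genHom_preimage_eq_top X L φ U hη)).1
  intro a b hab
  exact h1 (h2 (h3 hab))

/-- Finiteness of the integral closures computing the normalization in a finite extension of
the function field. -/
theorem finite_genHom
    (hJ : ∀ (U : X.Opens), IsAffineOpen U → ∀ (hne : Nonempty ↥U),
      @CAlg.IsN2 ↑Γ(X, U) _ (@IsIntegral.component_integral X _ U hne))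
    (hφ : φ.hom.Finite) (U : X.affineOpens) :
    letI := ((genHom X L φ).app U.1).hom.toAlgebra
    (algebraMap Γ(X, U.1) (integralClosure Γ(X, U.1)
      Γ(Spec (CommRingCat.of L), genHom X L φ ⁻¹ᵁ U.1))).Finite := by
  letI := ((genHom X L φ).app U.1).hom.toAlgebra
  rw [RingHom.finite_algebraMap]
  by_cases hη : genericPoint X ∈ U.1
  · haveI hne : Nonempty U.1 := ⟨⟨_, hη⟩⟩
    haveI := functionField_isFractionRing_of_isAffineOpen X U.1 U.2
    haveI : IsDomain Γ(X, U.1) := IsIntegral.component_integral (X := X) U.1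
    letI algKL : Algebra X.functionField L := φ.hom.toAlgebra
    letI algAL : Algebra Γ(X, U.1) L :=
      (φ.hom.comp (algebraMap Γ(X, U.1) X.functionField)).toAlgebra
    haveI : IsScalarTower Γ(X, U.1) X.functionField L :=
      IsScalarTower.of_algebraMap_eq (fun _ => rfl)
    haveI : FiniteDimensional X.functionField L := hφ
    haveI : Module.Finite Γ(X, U.1) (integralClosure Γ(X, U.1) L) :=
      Groth.Agent.Lib.Helper11.Japanese.IsN2.finite (hJ U.1 U.2 hne) X.functionField L
    let ψ : L →+* Γ(Spec (CommRingCat.of L), genHom X L φ ⁻¹ᵁ U.1) :=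
      (resL L (genHom X L φ ⁻¹ᵁ U.1)).hom
    have hψ : ψ.comp (algebraMap Γ(X, U.1) L) =
        algebraMap Γ(X, U.1) Γ(Spec (CommRingCat.of L), genHom X L φ ⁻¹ᵁ U.1) := by
      have e1 : algebraMap Γ(X, U.1) Γ(Spec (CommRingCat.of L), genHom X L φ ⁻¹ᵁ U.1) =
          ((genHom X L φ).app U.1).hom := rfl
      rw [e1, genHom_app X L φ U.1 hη]
      rfl
    exact finite_integralClosure_of_bijective ψ hψ
      (resL_bijective _ _ (genHom_preimage_eq_top X _ _ U.1 hη))
  · have hbot := genHom_preimage_eq_bot X L φ U.1 hη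
    haveI : Subsingleton Γ(Spec (CommRingCat.of L), genHom X L φ ⁻¹ᵁ U.1) := by
      rw [hbot]; infer_instance
    haveI : Subsingleton (integralClosure Γ(X, U.1)
        Γ(Spec (CommRingCat.of L), genHom X L φ ⁻¹ᵁ U.1)) :=
      ⟨fun a b => Subtype.ext (Subsingleton.elim _ _)⟩
    infer_instance

variable [QuasiCompact (genHom X L φ)] [QuasiSeparated (genHom X L φ)]

/-- The normalization of an integral scheme in an extension of its function field is normal. -/
theorem isNormalScheme_normalization_genHom :
    Pi1.IsNormalScheme (genHom X L φ).normalization := by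
  intro y
  refine ⟨inferInstance, ?_⟩
  set h := genHom X L φ with hdef
  obtain ⟨_, ⟨U, hU : IsAffineOpen U, rfl⟩, hyU, -⟩ :=
    X.isBasis_affineOpens.exists_subset_of_mem_open (Set.mem_univ (h.fromNormalization y))
      isOpen_univ
  have hη : genericPoint X ∈ U :=
    ((genericPoint_spec X).mem_open_set_iff U.isOpen).mpr ⟨_, trivial, hyU⟩
  letI := (h.app U).hom.toAlgebra
  haveI : Nonempty U := ⟨⟨_, hη⟩⟩
  letI : Field Γ(Spec (CommRingCat.of L), h ⁻¹ᵁ U) := (isField_sections X L φ U hη).toField
  have hinj : Function.Injective (algebraMap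
      (integralClosure Γ(X, U) Γ(Spec (CommRingCat.of L), h ⁻¹ᵁ U))
      Γ(Spec (CommRingCat.of L), h ⁻¹ᵁ U)) := Subtype.val_injective
  have hic : IsIntegrallyClosed (integralClosure Γ(X, U) Γ(Spec (CommRingCat.of L), h ⁻¹ᵁ U)) :=
    isIntegrallyClosed_of_isIntegrallyClosedIn hinj
  have hV : IsAffineOpen (h.fromNormalization ⁻¹ᵁ U) := hU.preimage _
  have hicV : IsIntegrallyClosed Γ(h.normalization, h.fromNormalization ⁻¹ᵁ U) :=
    IsIntegrallyClosed.of_equiv (h.normalizationObjIso hU).commRingCatIsoToRingEquiv.symm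
  exact Groth.Agent.Lib.Helper6.NormIso.isIntegrallyClosed_stalk_of_affine hV hicV y hyU

/-- Closed points of the normalization of a curve have one-dimensional local rings. -/
theorem ringKrullDim_stalk_normalization_genHom
    (hX : ∀ x : X, IsClosed ({x} : Set X) → ringKrullDim (X.presheaf.stalk x) = 1)
    (x' : (genHom X L φ).normalization) (hx' : IsClosed ({x'} : Set (genHom X L φ).normalization)) :
    ringKrullDim ((genHom X L φ).normalization.presheaf.stalk x') = 1 := by
  set h := genHom X L φ with hdef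
  set ν := h.fromNormalization with hν
  -- the image point is closed
  have hcl : IsClosed ({ν x'} : Set X) := by
    have := ν.isClosedMap _ hx'
    rwa [Set.image_singleton] at this
  have hdimx := hX _ hcl
  obtain ⟨_, ⟨U, hU : IsAffineOpen U, rfl⟩, hxU, -⟩ :=
    X.isBasis_affineOpens.exists_subset_of_mem_open (Set.mem_univ (ν x')) isOpen_univ
  have hη : genericPoint X ∈ U :=
    ((genericPoint_spec X).mem_open_set_iff U.isOpen).mpr ⟨_, trivial, hxU⟩
  have hW : IsAffineOpen (ν ⁻¹ᵁ U) := hU.preimage ν
  have hx'W : x' ∈ ν ⁻¹ᵁ U := hxU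
  haveI : Nonempty U := ⟨⟨_, hη⟩⟩
  haveI : Nonempty (ν ⁻¹ᵁ U : h.normalization.Opens) := ⟨⟨x', hx'W⟩⟩
  haveI : IsDomain Γ(X, U) := IsIntegral.component_integral (X := X) U
  haveI : IsDomain Γ(h.normalization, ν ⁻¹ᵁ U) :=
    IsIntegral.component_integral (X := h.normalization) (ν ⁻¹ᵁ U)
  letI := (ν.appLE U (ν ⁻¹ᵁ U) le_rfl).hom.toAlgebra
  haveI : Algebra.IsIntegral Γ(X, U) Γ(h.normalization, ν ⁻¹ᵁ U) := by
    have := ν.isIntegral_app U hU
    rw [Scheme.Hom.app_eq_appLE] at this
    exact ⟨this⟩
  -- injectivity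
  have hdomh : IsDominant (h.toNormalization ≫ ν) := by
    rw [hν, Scheme.Hom.toNormalization_fromNormalization]
    infer_instance
  haveI hdomν : IsDominant ν := IsDominant.of_comp h.toNormalization ν
  haveI : IsSchemeTheoreticallyDominant ν := IsSchemeTheoreticallyDominant.of_isDominant ν
  have hinj : Function.Injective (algebraMap Γ(X, U) Γ(h.normalization, ν ⁻¹ᵁ U)) := by
    have := ν.app_injective U
    rw [Scheme.Hom.app_eq_appLE] at this
    exact this
  -- primes
  set p' := hW.primeIdealOf ⟨x', hx'W⟩ with hp'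
  set p := hU.primeIdealOf ⟨ν x', hxU⟩ with hp
  have hcomap : p'.asIdeal.comap (algebraMap Γ(X, U) Γ(h.normalization, ν ⁻¹ᵁ U)) = p.asIdeal :=
    congrArg PrimeSpectrum.asIdeal
      (IsAffineOpen.comap_primeIdealOf_appLE (f := ν) U hU (ν ⁻¹ᵁ U) hW le_rfl hx'W)
  have h1 : ringKrullDim (h.normalization.presheaf.stalk x') = p'.asIdeal.height := by
    letI := TopCat.Presheaf.algebra_section_stalk h.normalization.presheaf ⟨x', hx'W⟩
    haveI := hW.isLocalization_stalk ⟨x', hx'W⟩
    exact IsLocalization.AtPrime.ringKrullDim_eq_height p'.asIdeal _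
  have h2 : ringKrullDim (X.presheaf.stalk (ν x')) = p.asIdeal.height := by
    letI := TopCat.Presheaf.algebra_section_stalk X.presheaf ⟨ν x', hxU⟩
    haveI := hU.isLocalization_stalk ⟨ν x', hxU⟩
    exact IsLocalization.AtPrime.ringKrullDim_eq_height p.asIdeal _
  have hp1 : p.asIdeal.height = 1 := by
    have : ((p.asIdeal.height : ℕ∞) : WithBot ℕ∞) = 1 := by rw [← h2, hdimx]
    exact_mod_cast this
  have hle : p'.asIdeal.height ≤ 1 := by
    have := height_le_height_comap_of_isIntegral (A := Γ(X, U)) p'.asIdeal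
    rwa [hcomap, hp1] at this
  have hge : 1 ≤ p'.asIdeal.height := by
    have hne : p'.asIdeal ≠ ⊥ := by
      intro hbot
      have : p.asIdeal = ⊥ := by
        rw [← hcomap, hbot, ← RingHom.ker_eq_comap_bot]
        exact (RingHom.injective_iff_ker_eq_bot _).mp hinj
      rw [this, Ideal.height_bot] at hp1
      exact zero_ne_one hp1
    have hlt : (⊥ : Ideal Γ(h.normalization, ν ⁻¹ᵁ U)) < p'.asIdeal := bot_lt_iff_ne_bot.mpr hne
    haveI : (⊥ : Ideal Γ(h.normalization, ν ⁻¹ᵁ U)).FiniteHeight :=
      (Ideal.finiteHeight_iff _).mpr (Or.inr (by rw [Ideal.height_bot]; exact ENat.zero_ne_top))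
    have := Ideal.height_strict_mono_of_isPrime hlt
    rw [Ideal.height_bot] at this
    exact Order.one_le_iff_pos.mpr this
  rw [h1]
  exact_mod_cast le_antisymm hle hge

end Generic

end Groth.Agent.Lib.Helper21.VarNorm
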