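import Groth.Agent.Lib.Helper21.BrR5
import Groth.Agent.Lib.Helper21.VarNorm2

set_option autoImplicit false
set_option linter.style.haveILetI false
set_option linter.unusedSectionVars false
universe u v

namespace Groth.Agent.Lib.Helper21.BrR

open Groth.Agent.Lib.Helper21.Br Groth.Agent.Lib.Helper6.NormalTotalFrac
open Groth.Agent.Lib.Helper21.NagataOne

section NZD

variable (A : Type u) [CommRing A] [IsLocalRing A] [IsReduced A] [IsNoetherianRing A]

theorem exists_nonZeroDivisor_mem_maximalIdeal (hdim : ringKrullDim A = 1) :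
    ∃ t ∈ IsLocalRing.maximalIdeal A, t ∈ nonZeroDivisors A := by
  classical
  by_contra hcon
  push Not at hcon
  have hfin := minimalPrimes.finite_of_isNoetherianRing A
  have hsub : ((IsLocalRing.maximalIdeal A : Ideal A) : Set A) ⊆
      ⋃ p ∈ (hfin.toFinset : Set (Ideal A)), (p : Set A) := by
    intro t ht
    by_contra hnot
    apply hcon t ht
    apply mem_nonZeroDivisors_of_forall_notMem
    intro q hq hmem
    apply hnot
    simp only [Set.mem_iUnion]
    exact ⟨q, by simpa using hq, hmem⟩
  have hprime : ∀ i ∈ hfin.toFinset, i ≠ (⊥ : Ideal A) → i ≠ (⊥ : Ideal A) → i.IsPrime := by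
    intro i hi _ _
    exact (hfin.mem_toFinset.mp hi).1.1
  obtain ⟨p, hp, hle⟩ := (Ideal.subset_union_prime (f := fun p : Ideal A => p) ⊥ ⊥ hprime).mp hsub
  have hpmin : p ∈ minimalPrimes A := hfin.mem_toFinset.mp hp
  have hpeq : p = IsLocalRing.maximalIdeal A :=
    le_antisymm (IsLocalRing.le_maximalIdeal hpmin.1.1.ne_top) hle
  have h0 : Ring.KrullDimLE 0 A := by
    rw [Ring.krullDimLE_zero_iff]
    intro I hI
    have hIle : I ≤ p := hpeq ▸ IsLocalRing.le_maximalIdeal hI.ne_top
    have : p ≤ I := hpmin.2 ⟨hI, bot_le⟩ hIle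
    have hIeq : I = IsLocalRing.maximalIdeal A := hpeq ▸ le_antisymm hIle this
    rw [hIeq]
    exact IsLocalRing.maximalIdeal.isMaximal A
  have := Ring.krullDimLE_iff.mp h0
  rw [hdim] at this
  exact absurd this (by decide)

local notation "C" => integralClosure A (FractionRing A)

theorem dvr_localization (hdim : ringKrullDim A = 1) [Module.Finite A C]
    (m' : MaximalSpectrum C) :
    ∃ _ : IsDomain (Localization.AtPrime m'.asIdeal),
      IsDiscreteValuationRing (Localization.AtPrime m'.asIdeal) := by
  haveI := m'.isMaximal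
  obtain ⟨hdom, hic⟩ := normal_localization A m'.asIdeal
  refine ⟨hdom, ?_⟩
  haveI : IsNoetherianRing C := IsNoetherianRing.of_finite A _
  haveI : IsNoetherianRing (Localization.AtPrime m'.asIdeal) :=
    IsLocalization.isNoetherianRing m'.asIdeal.primeCompl _ inferInstance
  have hht : ringKrullDim (Localization.AtPrime m'.asIdeal) ≤ 1 := by
    rw [IsLocalization.AtPrime.ringKrullDim_eq_height m'.asIdeal (Localization.AtPrime m'.asIdeal)]
    have h1 := Groth.Agent.Lib.Helper21.VarNorm.height_le_height_comap_of_isIntegral (A := A)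
      m'.asIdeal
    rw [comap_maximal] at h1
    have h2 : ((IsLocalRing.maximalIdeal A).height : WithBot ℕ∞) ≤ ringKrullDim A :=
      Ideal.height_le_ringKrullDim_of_ne_top Ideal.IsPrime.ne_top'
    rw [hdim] at h2
    exact le_trans (WithBot.coe_le_coe.mpr h1) h2
  haveI : Ring.KrullDimLE 1 (Localization.AtPrime m'.asIdeal) := Ring.krullDimLE_iff.mpr hht
  have h3 : IsIntegrallyClosed (Localization.AtPrime m'.asIdeal) ∧
      ∀ P : Ideal (Localization.AtPrime m'.asIdeal), P ≠ ⊥ → P.IsPrime →
        P = IsLocalRing.maximalIdeal (Localization.AtPrime m'.asIdeal) := by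
    refine ⟨hic, fun P hP0 hP => ?_⟩
    have := (Ring.krullDimLE_one_iff_of_noZeroDivisors.mp inferInstance) P hP0 hP
    exact IsLocalRing.eq_maximalIdeal this
  have hpid : IsPrincipalIdealRing (Localization.AtPrime m'.asIdeal) :=
    ((tfae_of_isNoetherianRing_of_isLocalRing_of_isDomain (Localization.AtPrime m'.asIdeal)).out
      0 3).mpr h3
  obtain ⟨t, htm, htnz⟩ := exists_nonZeroDivisor_mem_maximalIdeal A hdim
  have htm' : algebraMap A C t ∈ m'.asIdeal := by
    have : t ∈ m'.asIdeal.comap (algebraMap A C) := by rw [comap_maximal]; exact htm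
    exact this
  have hmem : algebraMap C (Localization.AtPrime m'.asIdeal) (algebraMap A C t) ∈
      IsLocalRing.maximalIdeal (Localization.AtPrime m'.asIdeal) :=
    (IsLocalization.AtPrime.to_map_mem_maximal_iff _ m'.asIdeal _).mpr htm'
  have hne : algebraMap C (Localization.AtPrime m'.asIdeal) (algebraMap A C t) ≠ 0 := by
    intro h0
    obtain ⟨s, hs⟩ := (IsLocalization.map_eq_zero_iff m'.asIdeal.primeCompl _ _).mp h0
    have hunit : IsUnit (algebraMap A (FractionRing A) t) :=
      IsLocalization.map_units (FractionRing A) ⟨t, htnz⟩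
    have h1 : ((s : C) : FractionRing A) * algebraMap A (FractionRing A) t = 0 := by
      have := congrArg Subtype.val hs
      exact this
    have h2 : ((s : C) : FractionRing A) = 0 := (hunit.mul_left_eq_zero).mp h1
    have h3 : (s : C) = 0 := Subtype.ext h2
    exact s.2 (h3 ▸ m'.asIdeal.zero_mem)
  exact { not_a_field' := fun h => hne ((Submodule.mem_bot _).mp (h ▸ hmem)) }

end NZD

end Groth.Agent.Lib.Helper21.BrR
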