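import Groth.Agent.Lib.Helper21.CDeg10

/-!
# Sections of twists generating along the zeros of a section; stabilisation of `H^1`
-/

set_option autoImplicit false
set_option linter.style.haveILetI false
set_option linter.unusedSectionVars false
universe u
open CategoryTheory CategoryTheory.Limits AlgebraicGeometry TopologicalSpace Opposite

namespace Groth.Agent.Lib.Helper21.CDeg

open Groth.Agent.Lib.Helper29.QCoh Groth.Agent.Lib.Lead.LinLES

section Local

variable {X : Scheme.{u}}

/-- `1 + r b` is invertible at a point where `b` is not -/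
theorem mem_basicOpen_one_add_mul {V : X.Opens} {x : X} (hxV : x ∈ V) (r b : Γ(X, V))
    (hb : x ∉ X.basicOpen b) : x ∈ X.basicOpen (1 + r * b) := by
  rw [Scheme.mem_basicOpen _ _ _ hxV] at hb ⊢
  rw [map_add, map_one, map_mul]
  have h1 : IsUnit ((1 + X.presheaf.germ V x hxV r * X.presheaf.germ V x hxV b) +
      (-(X.presheaf.germ V x hxV r * X.presheaf.germ V x hxV b))) := by
    rw [add_neg_cancel_right]
    exact isUnit_one
  rcases IsLocalRing.isUnit_or_isUnit_of_isUnit_add h1 with h | h
  · exact h
  · exfalso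
    apply hb
    rw [IsUnit.neg_iff] at h
    exact isUnit_of_mul_isUnit_right h

/-- **complementary section of a twist**: if the global sections of the cokernel of
multiplication by `s` on `M` lift, there is a section of `M ⊗ N` generating at all points where
`s` does not generate `N` -/
theorem exists_complementary_section_twist [IsIntegral X] [IsLocallyNoetherian X]
    (hdim : topologicalKrullDim X ≤ 1) {M N : X.Modules} (hM : PicF.IsInvertible M)
    (hN : PicF.IsInvertible N) (s : unitM X ⟶ N) (hs : s ≠ 0)
    (hsurj : Function.Surjective ((cokernel.π (tmulRightHom M s)).app ⊤)) :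
    ∃ t : Γ(CohB1.tensorMod M N, ⊤), ∀ x : X, x ∉ CohB1.genLocus N s →
      x ∈ CohB1.genLocus (CohB1.tensorMod M N) (homOfSection _ t) := by
  haveI := isQuasicoherent_of_isInvertible hM
  haveI := isQuasicoherent_of_isInvertible hN
  have hσ0 : tmulRightHom M s ≠ 0 := tmulRightHom_ne_zero hM hN s hs
  haveI hmono : Mono (tmulRightHom M s) :=
    mono_of_ne_zero hM (isInvertible_tensorMod hM hN) _ hσ0
  have hCstalk : ∀ x, x ∈ CohB1.genLocus N s →
      Subsingleton ((cokernel (tmulRightHom M s)).presheaf.stalk x) := fun x hx =>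
    (stalkMap_surjective_iff_cokernel _ x).mp (stalkMap_tmulRightHom_surjective M s hx)
  have hloc : ∀ x : X, ∃ (V : X.Opens) (m : Γ(M, V)) (e : Γ(N, V)), x ∈ V ∧ IsTriv M V m ∧
      IsTriv N V e ∧ ∀ y ∈ V, y ∉ CohB1.genLocus N s → y = x := by
    intro x
    have hTcl : IsClosed (((CohB1.genLocus N s : X.Opens) : Set X)ᶜ \ {x}) :=
      isClosed_of_subset_compl_genLocus hdim hN s hs Set.sdiff_subset
    let O : X.Opens := ⟨(((CohB1.genLocus N s : X.Opens) : Set X)ᶜ \ {x})ᶜ, hTcl.isOpen_compl⟩
    have hxO : x ∈ O := fun h => h.2 rfl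
    obtain ⟨V, m, e, -, hxV, hVO, hm, he⟩ := exists_affine_isTriv₂ hM hN (W := O) x hxO
    refine ⟨V, m, e, hxV, hm, he, fun y hy hyg => ?_⟩
    by_contra hne
    exact hVO hy ⟨hyg, hne⟩
  choose V m e hxV hm he huniq using hloc
  obtain ⟨q, hq⟩ := exists_gluing (cokernel (tmulRightHom M s)) V ⊤ (fun _ => le_top)
    (fun x _ => Opens.mem_iSup.mpr ⟨x, hxV x⟩)
    (fun x => (cokernel.π (tmulRightHom M s)).app (V x) (tmulSec M N (m x) (e x)))
    (by
      intro x y
      by_cases hxy : x = y
      · subst hxy
        rfl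
      · refine eq_of_forall_subsingleton_stalk _ (fun z hz => hCstalk z ?_) _ _
        by_contra hzg
        exact hxy ((huniq x z hz.1 hzg).symm.trans (huniq y z hz.2 hzg)))
  obtain ⟨t, ht⟩ := hsurj q
  refine ⟨t, fun x hx => ?_⟩
  -- local computation at `x`
  have hex : (ShortComplex.mk (tmulRightHom M s) (cokernel.π (tmulRightHom M s))
      (cokernel.condition _)).Exact :=
    ShortComplex.exact_of_g_is_cokernel _ (cokernelIsCokernel _)
  haveI : Mono (ShortComplex.mk (tmulRightHom M s) (cokernel.π (tmulRightHom M s))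
      (cokernel.condition _)).f := hmono
  have hexV := app_exact_of_exact_of_mono _ hex (V x)
  have hcongr : (cokernel.π (tmulRightHom M s)).app (V x)
      (Groth.Agent.Lib.Helper29.QCoh.res _ le_top t) =
      (cokernel.π (tmulRightHom M s)).app (V x) (tmulSec M N (m x) (e x)) := by
    rw [app_res, ht]
    exact hq x
  have h0 : (cokernel.π (tmulRightHom M s)).app (V x)
      (Groth.Agent.Lib.Helper29.QCoh.res _ le_top t - tmulSec M N (m x) (e x)) = 0 := by
    rw [map_sub, hcongr, sub_self]
  obtain ⟨m', hm'⟩ := (hexV _).1 h0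
  change (tmulRightHom M s).app (V x) m' = _ at hm'
  obtain ⟨r, hr⟩ := (hm x).exists_eq_smul m'
  obtain ⟨b, hb⟩ := (he x).exists_eq_smul (sval s (V x))
  have hT := (hm x).tensor (he x)
  obtain ⟨c, hc⟩ := hT.exists_eq_smul (Groth.Agent.Lib.Helper29.QCoh.res _ le_top t)
  rw [tmulRightHom_app, hr, hb, tmulSec_smul_left, tmulSec_smul_right, smul_smul] at hm'
  have hcb : c = 1 + r * b := by
    apply hT.smul_left_cancel
    rw [add_smul, one_smul, hm', hc]
    abel
  have hxb : x ∉ X.basicOpen b := fun h =>
    hx ((mem_genLocus_iff_of_isTriv s (he x) b hb x (hxV x)).mpr h)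
  have hxc : x ∈ X.basicOpen c := by
    rw [hcb]
    exact mem_basicOpen_one_add_mul (hxV x) r b hxb
  have hc' : sval (homOfSection _ t) (V x) = c • tmulSec M N (m x) (e x) := by
    rw [sval_homOfSection]
    exact hc
  exact (mem_genLocus_iff_of_isTriv (homOfSection _ t) hT c hc' x (hxV x)).mpr hxc

end Local

section Stab

variable (k : Type u) [Field k] (X : Scheme.{u}) [X.Over (Spec (CommRingCat.of k))]
  [IsIntegral X] [IsProper (X ↘ (Spec (CommRingCat.of k)))]

include k in
/-- multiplication by a nonzero section is surjective on `H^1` -/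
theorem surjective_HHlin_tmulRightHom (hdim : topologicalKrullDim X ≤ 1) {M N : X.Modules}
    (hM : PicF.IsInvertible M) (hN : PicF.IsInvertible N) (s : unitM X ⟶ N) (hs : s ≠ 0) :
    Function.Surjective (Canon.HHlin k (tmulRightHom M s) 1) := by
  haveI : IsLocallyNoetherian X :=
    LocallyOfFiniteType.isLocallyNoetherian (X ↘ Spec (CommRingCat.of k))
  haveI := isQuasicoherent_of_isInvertible hM
  haveI := isQuasicoherent_of_isInvertible hN
  have hσ0 : tmulRightHom M s ≠ 0 := tmulRightHom_ne_zero hM hN s hs
  haveI hmono : Mono (tmulRightHom M s) :=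
    mono_of_ne_zero hM (isInvertible_tensorMod hM hN) _ hσ0
  have hS : (ShortComplex.mk (tmulRightHom M s) (cokernel.π (tmulRightHom M s))
      (cokernel.condition _)).ShortExact :=
    ShortComplex.ShortExact.mk' (ShortComplex.exact_of_g_is_cokernel _ (cokernelIsCokernel _))
      hmono inferInstance
  have hsupp : CohB1.support (cokernel (tmulRightHom M s)) ⊆
      ((CohB1.genLocus N s : X.Opens) : Set X)ᶜ := by
    intro x hx hmem
    exact hx ((stalkMap_surjective_iff_cokernel _ x).mp
      (stalkMap_tmulRightHom_surjective M s hmem))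
  haveI : Subsingleton (Coh.HH X (cokernel (tmulRightHom M s)) 1) :=
    subsingleton_HH_succ_of_support_hereditarily_closed _
      (fun T hT => isClosed_of_subset_compl_genLocus hdim hN s hs (hT.trans hsupp)) 0
  intro y
  exact (exact₂ k (ShortComplex.mk (tmulRightHom M s) (cokernel.π (tmulRightHom M s))
    (cokernel.condition _)) hS 1 y).1 (Subsingleton.elim _ _)

include k in
/-- **stabilisation**: for some power `N^j`, the global sections of the cokernel of
multiplication by `s : N^j → N^(j+1)` lift -/
theorem exists_surjective_app_top_cokernel (hdim : topologicalKrullDim X ≤ 1) {N : X.Modules}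
    (hN : PicF.IsInvertible N) (s : unitM X ⟶ N) (hs : s ≠ 0) :
    ∃ j : ℕ, Function.Surjective
      ((cokernel.π (tmulRightHom (CohB1.tensorPow N j) s)).app ⊤) := by
  haveI : IsLocallyNoetherian X :=
    LocallyOfFiniteType.isLocallyNoetherian (X ↘ Spec (CommRingCat.of k))
  have hMj : ∀ j, PicF.IsInvertible (CohB1.tensorPow N j) := fun j => isInvertible_tensorPow hN j
  have hfin : ∀ j, Module.Finite k (Coh.HH X (CohB1.tensorPow N j) 1) := fun j =>
    Groth.Agent.S0002.result k X _ ⟨isQuasicoherent_of_isInvertible (hMj j),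
      isFiniteType_of_isInvertible (hMj j)⟩ 1
  let a : ℕ → ℕ := fun j => Module.finrank k (Coh.HH X (CohB1.tensorPow N j) 1)
  have hsur : ∀ j, Function.Surjective (Canon.HHlin k (tmulRightHom (CohB1.tensorPow N j) s) 1) :=
    fun j => surjective_HHlin_tmulRightHom k X hdim (hMj j) hN s hs
  have hle : ∀ j, a (j + 1) ≤ a j := by
    intro j
    haveI := hfin j
    haveI := hfin (j + 1)
    exact LinearMap.finrank_le_finrank_of_surjective (hsur j)
  obtain ⟨j, hj⟩ : ∃ j, a (j + 1) = a j := by
    by_contra hcon
    push Not at hcon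
    have hlt : ∀ j, a (j + 1) < a j := fun j => lt_of_le_of_ne (hle j) (hcon j)
    have hbound : ∀ j, a j + j ≤ a 0 := by
      intro j
      induction j with
      | zero => simp
      | succ j ih => have := hlt j; omega
    have := hbound (a 0 + 1)
    omega
  refine ⟨j, ?_⟩
  haveI := hfin j
  haveI := hfin (j + 1)
  have hinj : Function.Injective (Canon.HHlin k (tmulRightHom (CohB1.tensorPow N j) s) 1) :=
    (LinearMap.injective_iff_surjective_of_finrank_eq_finrank hj.symm).mpr (hsur j)
  haveI := isQuasicoherent_of_isInvertible (hMj j)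
  haveI := isQuasicoherent_of_isInvertible hN
  have hσ0 : tmulRightHom (CohB1.tensorPow N j) s ≠ 0 := tmulRightHom_ne_zero (hMj j) hN s hs
  haveI hmono : Mono (tmulRightHom (CohB1.tensorPow N j) s) :=
    mono_of_ne_zero (hMj j) (isInvertible_tensorMod (hMj j) hN) _ hσ0
  have hS : (ShortComplex.mk (tmulRightHom (CohB1.tensorPow N j) s)
      (cokernel.π (tmulRightHom (CohB1.tensorPow N j) s)) (cokernel.condition _)).ShortExact :=
    ShortComplex.ShortExact.mk' (ShortComplex.exact_of_g_is_cokernel _ (cokernelIsCokernel _))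
      hmono inferInstance
  exact surjective_app_top_of_injective_HHlin k
    (ShortComplex.mk (tmulRightHom (CohB1.tensorPow N j) s)
      (cokernel.π (tmulRightHom (CohB1.tensorPow N j) s)) (cokernel.condition _)) hS hinj

end Stab

end Groth.Agent.Lib.Helper21.CDeg
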