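import Groth.Agent.Lib.Helper21.CDeg11
import Groth.Agent.Lib.Helper29.RelAmple

/-!
# Ampleness and positivity of the degree on proper integral curves
-/

set_option autoImplicit false
set_option linter.style.haveILetI false
set_option linter.unusedSectionVars false
universe u
open CategoryTheory CategoryTheory.Limits AlgebraicGeometry TopologicalSpace Opposite

namespace Groth.Agent.Lib.Helper21.CDeg

open Groth.Agent.Lib.Helper29.QCoh Groth.Agent.Lib.Lead.LinLES

variable (k : Type u) [Field k] (X : Scheme.{u}) [X.Over (Spec (CommRingCat.of k))]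
  [IsIntegral X] [IsProper (X ↘ (Spec (CommRingCat.of k)))]

include k in
/-- a proper integral scheme of dimension one over a field is not affine -/
theorem not_isAffine_of_dim_eq_one (hdim : topologicalKrullDim X = 1) : ¬ IsAffine X := by
  intro haff
  have hfield : IsField (Γ(X, ⊤) : Type u) :=
    isField_of_universallyClosed k (X ↘ (Spec (CommRingCat.of k)))
  have h1 : topologicalKrullDim ↥X = topologicalKrullDim (PrimeSpectrum (Γ(X, ⊤) : Type u)) :=
    IsHomeomorph.topologicalKrullDim_eq _ (Scheme.homeoOfIso X.isoSpec).isHomeomorph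
  rw [h1, PrimeSpectrum.topologicalKrullDim_eq_ringKrullDim] at hdim
  letI := hfield.toField
  rw [ringKrullDim_eq_zero_of_field] at hdim
  exact zero_ne_one hdim

include k in
/-- **an ample invertible module on a proper integral curve has positive degree** -/
theorem deg_pos_of_isAmple (hdim : topologicalKrullDim X = 1) {L : X.Modules}
    (hA : CohB1.IsAmple L) : 0 < Curv2.deg k X L 1 := by
  have hL := hA.1
  obtain ⟨n, σ, hx, haff⟩ := hA.2.2 (genericPoint X)
  have hσ : σ ≠ 0 := ne_zero_of_mem_genLocus k X σ hx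
  obtain ⟨h1, h2⟩ := deg_eq_finrank_of_section k X hdim.le (isInvertible_tensorPow hL (n + 1)) σ hσ
  rw [deg_tensorPow k X hdim.le hL (n + 1)] at h1
  by_contra hcon
  push Not at hcon
  have h3 : (Module.finrank k (Coh.HH X (cokernel σ) 0) : ℤ) ≤ 0 := by
    rw [← h1]
    have : (0 : ℤ) ≤ ((n + 1 : ℕ) : ℤ) := Int.natCast_nonneg _
    nlinarith
  have h4 : Module.finrank k (Coh.HH X (cokernel σ) 0) = 0 := by
    have := Int.natCast_nonneg (Module.finrank k (Coh.HH X (cokernel σ) 0))
    exact_mod_cast le_antisymm h3 this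
  haveI : IsIso σ := h2.mp h4
  have htop : CohB1.genLocus (CohB1.tensorPow L (n + 1)) σ = ⊤ :=
    eq_top_iff.mpr fun y _ => mem_genLocus_of_isIso X σ y
  rw [htop] at haff
  apply not_isAffine_of_dim_eq_one k X hdim
  haveI : IsAffine (⊤ : X.Opens).toScheme := haff
  exact IsAffine.of_isIso (Scheme.topIso X).inv

include k in
/-- an invertible module of positive degree with a nonzero section is ample -/
theorem isAmple_of_deg_pos_of_section (hdim : topologicalKrullDim X ≤ 1) {N : X.Modules}
    (hN : PicF.IsInvertible N) (hdegNpos : 0 < Curv2.deg k X N 1) (s : unitM X ⟶ N)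
    (hs : s ≠ 0) : CohB1.IsAmple N := by
  haveI : IsLocallyNoetherian X :=
    LocallyOfFiniteType.isLocallyNoetherian (X ↘ Spec (CommRingCat.of k))
  -- stabilisation and the complementary section
  obtain ⟨j, hj⟩ := exists_surjective_app_top_cokernel k X hdim hN s hs
  obtain ⟨t, ht⟩ := exists_complementary_section_twist hdim (isInvertible_tensorPow hN j) hN s hs hj
  have hNj : PicF.IsInvertible (CohB1.tensorPow N (j + 1)) := isInvertible_tensorPow hN (j + 1)
  have hdegNj : 0 < Curv2.deg k X (CohB1.tensorPow N (j + 1)) 1 := by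
    rw [deg_tensorPow k X hdim hN (j + 1)]
    have : (0 : ℤ) < ((j + 1 : ℕ) : ℤ) := by exact_mod_cast Nat.succ_pos j
    positivity
  have hgs : CohB1.genLocus (CohB1.tensorPow N (j + 1)) (SecTwist.powHom s (j + 1)) =
      CohB1.genLocus N s := genLocus_powHom hN s j
  -- neither section generates everywhere
  have hne : ∀ τ : unitM X ⟶ CohB1.tensorPow N (j + 1),
      CohB1.genLocus (CohB1.tensorPow N (j + 1)) τ ≠ ⊤ := by
    intro τ h
    haveI hτiso : IsIso τ := isIso_of_genLocus_eq_top τ h
    have hτ0 : τ ≠ 0 :=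
      ne_zero_of_mem_genLocus k X τ (x := genericPoint X) (by rw [h]; trivial)
    obtain ⟨hdeg', hiso'⟩ := deg_eq_finrank_of_section k X hdim hNj τ hτ0
    have h1 := hiso'.mpr hτiso
    rw [h1] at hdeg'
    rw [hdeg'] at hdegNj
    exact lt_irrefl _ (by exact_mod_cast hdegNj)
  have hamp : CohB1.IsAmple (CohB1.tensorPow N (j + 1)) :=
    isAmple_of_sections k X hdim hNj (SecTwist.powHom s (j + 1)) (homOfSection _ t)
      (hne _) (hne _) (fun x hx => ht x (by rwa [hgs] at hx))
  exact (isAmple_iff_tensorPow hN (j + 1) (Nat.succ_pos j)).mpr hamp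

include k in
/-- **an invertible module of positive degree on a proper integral curve is ample** -/
theorem isAmple_of_deg_pos (hdim : topologicalKrullDim X ≤ 1) {L : X.Modules}
    (hL : PicF.IsInvertible L) (hpos : 0 < Curv2.deg k X L 1) : CohB1.IsAmple L := by
  -- a power with a nonzero section
  set χ : ℤ := (Module.finrank k (Coh.HH X (unitM X) 0) : ℤ) -
    (Module.finrank k (Coh.HH X (unitM X) 1) : ℤ) with hχ
  obtain ⟨n, hn1, hn⟩ : ∃ n : ℕ, 0 < n ∧ 0 < (n : ℤ) * Curv2.deg k X L 1 + χ := by
    refine ⟨χ.natAbs + 1, Nat.succ_pos _, ?_⟩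
    have hd1 : 1 ≤ Curv2.deg k X L 1 := hpos
    have habs : -|χ| ≤ χ := neg_abs_le χ
    have hnn : 0 ≤ |χ| := abs_nonneg χ
    push_cast
    nlinarith
  have hN : PicF.IsInvertible (CohB1.tensorPow L n) := isInvertible_tensorPow hL n
  have hdegN : Curv2.deg k X (CohB1.tensorPow L n) 1 = n * Curv2.deg k X L 1 :=
    deg_tensorPow k X hdim hL n
  have hrr := finrank_HH_zero_eq k X hdim (CohB1.tensorPow L n)
  have hh0pos : 0 < Module.finrank k (Coh.HH X (CohB1.tensorPow L n) 0) := by
    have : (0 : ℤ) < (Module.finrank k (Coh.HH X (CohB1.tensorPow L n) 0) : ℤ) := by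
      rw [hrr, hdegN]
      have := Int.natCast_nonneg (Module.finrank k (Coh.HH X (CohB1.tensorPow L n) 1))
      linarith
    exact_mod_cast this
  have hnt : Nontrivial (Coh.HH X (CohB1.tensorPow L n) 0) :=
    Module.nontrivial_of_finrank_pos (R := k) hh0pos
  obtain ⟨s, hs⟩ := exists_section_ne_zero (CohB1.tensorPow L n) hnt
  have hdegNpos : 0 < Curv2.deg k X (CohB1.tensorPow L n) 1 := by
    rw [hdegN]
    have : (0 : ℤ) < (n : ℤ) := by exact_mod_cast hn1
    positivity
  exact (isAmple_iff_tensorPow hL n hn1).mpr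
    (isAmple_of_deg_pos_of_section k X hdim hN hdegNpos s hs)

end Groth.Agent.Lib.Helper21.CDeg
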