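import Groth.Agent.Lib.Helper21.CDeg1
import Groth.Agent.Lib.Helper29.ZeroDim
import Groth.Agent.Lib.Helper29.Twist6
import Groth.Agent.Lib.Helper29.SerreA
import Groth.Agent.Lib.Helper29.QCohPullbackSupp
import Groth.Agent.Lib.Helper12.Dev2
import Groth.Agent.S1524
import Groth.Agent.S0002

/-!
# Degrees of invertible modules on proper integral curves: nonzero maps
-/

set_option autoImplicit false
set_option linter.style.haveILetI false
set_option linter.unusedSectionVars false
universe u
open CategoryTheory CategoryTheory.Limits AlgebraicGeometry TopologicalSpace Opposite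

namespace Groth.Agent.Lib.Helper21.CDeg

open Groth.Agent.Lib.Helper29.QCoh Groth.Agent.Lib.Helper21.CurveH0

/-- on an integral scheme of dimension `≤ 1` every point other than the generic point is closed -/
theorem isClosed_singleton_of_ne_genericPoint (X : Scheme.{u}) [IsIntegral X]
    (hdim : topologicalKrullDim X ≤ 1) (x : X) (hx : x ≠ genericPoint X) :
    IsClosed ({x} : Set X) := by
  rw [isClosed_singleton_iff_isMin]
  intro z hz
  by_contra hcon
  have hle : ∀ a b : X, a ≤ b ↔ b ⤳ a := fun a b => Iff.rfl
  have hzx : z < x := lt_of_le_not_ge hz hcon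
  have hxξ : x < genericPoint X := by
    refine lt_of_le_not_ge ((hle _ _).mpr ((genericPoint_spec X).specializes (Set.mem_univ x))) ?_
    intro h
    have h1 : x ⤳ genericPoint X := (hle _ _).mp h
    have h2 : genericPoint X ⤳ x := (genericPoint_spec X).specializes (Set.mem_univ x)
    exact hx (h1.antisymm h2).eq
  have h1 : Order.coheight (genericPoint X) + 1 ≤ Order.coheight x := Order.coheight_add_one_le hxξ
  have h2 : Order.coheight x + 1 ≤ Order.coheight z := Order.coheight_add_one_le hzx
  have h3 : (2 : ℕ∞) ≤ Order.coheight z := by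
    calc (2 : ℕ∞) = 0 + 1 + 1 := by norm_num
      _ ≤ Order.coheight (genericPoint X) + 1 + 1 := by gcongr; exact bot_le
      _ ≤ Order.coheight x + 1 := by gcongr
      _ ≤ Order.coheight z := h2
  have h4 : ((Order.coheight z : ℕ∞) : WithBot ℕ∞) ≤ 1 := by
    refine le_trans (Order.coheight_le_krullDim z) ?_
    rw [krullDim_eq_topologicalKrullDim]
    exact hdim
  have h5 : Order.coheight z ≤ 1 := by exact_mod_cast h4
  exact absurd (h3.trans h5) (by decide)

variable (k : Type u) [Field k] (X : Scheme.{u}) [X.Over (Spec (CommRingCat.of k))]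
  [IsIntegral X] [IsProper (X ↘ (Spec (CommRingCat.of k)))]

include k in
/-- **degree of a nonzero map of invertible modules** on a proper integral curve: the difference
of the degrees is the dimension of the global sections of the cokernel, which vanishes exactly
when the map is an isomorphism -/
theorem deg_eq_add_finrank (hdim : topologicalKrullDim X ≤ 1) {N L : X.Modules}
    (hN : PicF.IsInvertible N) (hL : PicF.IsInvertible L) (φ : N ⟶ L) (hφ : φ ≠ 0) :
    Curv2.deg k X L 1 = Curv2.deg k X N 1 + (Module.finrank k (Coh.HH X (cokernel φ) 0) : ℤ) ∧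
      (Module.finrank k (Coh.HH X (cokernel φ) 0) = 0 ↔ IsIso φ) := by
  haveI : IsLocallyNoetherian X :=
    LocallyOfFiniteType.isLocallyNoetherian (X ↘ Spec (CommRingCat.of k))
  haveI hmono : Mono φ := mono_of_ne_zero hN hL φ hφ
  have hNc : Coh.IsCoh N := ⟨isQuasicoherent_of_isInvertible hN, isFiniteType_of_isInvertible hN⟩
  have hLc : Coh.IsCoh L := ⟨isQuasicoherent_of_isInvertible hL, isFiniteType_of_isInvertible hL⟩
  have hQc : Coh.IsCoh (cokernel φ) := Groth.Agent.Lib.Helper12.H12Dev.isCoh_cokernel φ hNc hLc
  haveI : (cokernel φ).IsFiniteType := hQc.2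
  -- support of the cokernel
  have hsupp : ∀ x ∈ CohB1.support (cokernel φ), IsClosed ({x} : Set X) := by
    intro x hx
    refine isClosed_singleton_of_ne_genericPoint X hdim x ?_
    rintro rfl
    exact genericPoint_notMem_support_cokernel hN hL φ hφ hx
  have hher := support_hereditarily_closed (cokernel φ) hsupp
  have hvan : ∀ n : ℕ, Subsingleton (Coh.HH X (cokernel φ) (n + 1)) :=
    fun n => subsingleton_HH_succ_of_support_hereditarily_closed (cokernel φ) hher n
  -- Euler characteristic
  have heQ : Curv2.euler k X (cokernel φ) = (Module.finrank k (Coh.HH X (cokernel φ) 0) : ℤ) := by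
    unfold Curv2.euler
    rw [finsum_eq_single _ 0]
    · simp
    · intro i hi
      obtain ⟨n, rfl⟩ := Nat.exists_eq_succ_of_ne_zero hi
      haveI := hvan n
      rw [Module.finrank_zero_of_subsingleton]
      simp
  have hS : (ShortComplex.mk φ (cokernel.π φ) (cokernel.condition φ)).ShortExact :=
    ShortComplex.ShortExact.mk' (ShortComplex.exact_of_g_is_cokernel _ (cokernelIsCokernel φ))
      hmono inferInstance
  have hadd := Groth.Agent.S1524.result k X _ hS hNc hLc hQc
  dsimp only at hadd
  refine ⟨?_, ?_⟩
  · unfold Curv2.deg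
    rw [hadd, heQ]
    ring
  · haveI hfin : Module.Finite k (Coh.HH X (cokernel φ) 0) :=
      Groth.Agent.S0002.result k X (cokernel φ) hQc 0
    rw [Module.finrank_zero_iff]
    constructor
    · intro hsub
      have hsec : ∀ σ : Γ(cokernel φ, ⊤), σ = 0 := by
        intro σ
        have := (hh0 (cokernel φ)).symm.injective.subsingleton
        exact Subsingleton.elim _ _
      haveI : Epi φ := by
        rw [epi_iff_cokernel_stalk_subsingleton]
        intro y
        refine ⟨fun a b => ?_⟩
        have h0 : ∀ t : (cokernel φ).presheaf.stalk y, t = 0 := by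
          intro t
          obtain ⟨V, hyV, m, rfl⟩ := (cokernel φ).presheaf.exists_germ_eq t
          obtain ⟨σ, hσ⟩ := exists_extension_of_support_hereditarily_closed (cokernel φ) hher
            (le_top : V ≤ ⊤) m
          rw [← hσ, hsec σ, map_zero, map_zero]
        rw [h0 a, h0 b]
      exact isIso_of_mono_of_epi φ
    · intro hiso
      have hz : IsZero (cokernel φ) := isZero_cokernel_of_epi φ
      have hst := (isZero_iff_stalk_subsingleton (cokernel φ)).mp hz
      have hsec : ∀ σ : Γ(cokernel φ, ⊤), σ = 0 := by
        intro σ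
        refine eq_zero_of_germ_eq_zero (cokernel φ) σ (fun x hx => ?_)
        haveI := hst x
        exact Subsingleton.elim _ _
      refine ⟨fun a b => (hh0 (cokernel φ)).injective ?_⟩
      rw [hsec (hh0 (cokernel φ) a), hsec (hh0 (cokernel φ) b)]

end Groth.Agent.Lib.Helper21.CDeg
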