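import Groth.Agent.Lib.Helper21.CDeg2

/-!
# Degrees of invertible modules on proper integral curves: sections
-/

set_option autoImplicit false
set_option linter.style.haveILetI false
set_option linter.unusedSectionVars false
universe u
open CategoryTheory CategoryTheory.Limits AlgebraicGeometry TopologicalSpace Opposite

namespace Groth.Agent.Lib.Helper21.CDeg

open Groth.Agent.Lib.Helper29.QCoh

variable (k : Type u) [Field k] (X : Scheme.{u}) [X.Over (Spec (CommRingCat.of k))]

theorem deg_structureModule : Curv2.deg k X (Coh.structureModule X) 1 = 0 := by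
  unfold Curv2.deg
  push_cast
  ring

variable [IsIntegral X] [IsProper (X ↘ (Spec (CommRingCat.of k)))]

include k in
/-- degree of an invertible module with a nonzero section -/
theorem deg_eq_finrank_of_section (hdim : topologicalKrullDim X ≤ 1) {L : X.Modules}
    (hL : PicF.IsInvertible L) (s : Coh.structureModule X ⟶ L) (hs : s ≠ 0) :
    Curv2.deg k X L 1 = (Module.finrank k (Coh.HH X (cokernel s) 0) : ℤ) ∧
      (Module.finrank k (Coh.HH X (cokernel s) 0) = 0 ↔ IsIso s) := by
  obtain ⟨h1, h2⟩ := deg_eq_add_finrank k X hdim (isInvertible_unit X) hL s hs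
  rw [deg_structureModule, zero_add] at h1
  exact ⟨h1, h2⟩

/-- where a section is an isomorphism everything lies in its generating locus -/
theorem mem_genLocus_of_isIso {L : X.Modules} (s : Coh.structureModule X ⟶ L) [IsIso s] (x : X) :
    x ∈ CohB1.genLocus L s := by
  unfold CohB1.genLocus
  rw [Opens.mem_sSup]
  exact ⟨⊤, (inferInstance : IsIso ((Scheme.Modules.restrictFunctor (⊤ : X.Opens).ι).map s)),
    trivial⟩

end Groth.Agent.Lib.Helper21.CDeg
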