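import Groth.Agent.Lib.Helper21.CDeg3
import Groth.Agent.Lib.Lead.LinLES.Biprod
import Groth.Agent.Lib.Helper29.Ample

/-!
# Sections of invertible modules: left multiplication, `H^0` and `H^1` of short exact sequences
-/

set_option autoImplicit false
set_option linter.style.haveILetI false
set_option linter.unusedSectionVars false
universe u
open CategoryTheory CategoryTheory.Limits AlgebraicGeometry TopologicalSpace Opposite
open scoped TensorProduct

namespace Groth.Agent.Lib.Helper21.CDeg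

open Groth.Agent.Lib.Helper29.QCoh Groth.Agent.Lib.Lead.LinLES

variable {X : Scheme.{u}}

section TmulLeft

/-- Multiplication on the left by a global section of `M'`, as a morphism `G ⟶ M' ⊗ G`. -/
noncomputable def tmulLeftHom {M' : X.Modules} (σ : unitM X ⟶ M') (G : X.Modules) :
    G ⟶ CohB1.tensorMod M' G :=
  homOfApp
    (fun W =>
      { toFun := fun g => tmulSec M' G (sval σ W) g
        map_zero' := tmulSec_zero_right M' G _
        map_add' := fun a b => tmulSec_add_right M' G _ a b })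
    (fun W r g => tmulSec_smul_right M' G r _ g)
    (fun {W W'} h g => by
      change tmulSec M' G (sval σ W') (Groth.Agent.Lib.Helper29.QCoh.res G h g) = Groth.Agent.Lib.Helper29.QCoh.res _ h (tmulSec M' G (sval σ W) g)
      rw [res_tmulSec, res_sval])

theorem tmulLeftHom_app {M' : X.Modules} (σ : unitM X ⟶ M') (G : X.Modules) (W : X.Opens)
    (g : Γ(G, W)) : (tmulLeftHom σ G).app W g = tmulSec M' G (sval σ W) g := rfl

theorem tmulLeftHom_app_bijective {M' : X.Modules} (G : X.Modules) [G.IsQuasicoherent]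
    [M'.IsQuasicoherent] (σ : unitM X ⟶ M') {W : X.Opens} (hW : IsAffineOpen W)
    (hle : W ≤ CohB1.genLocus M' σ) : Function.Bijective ((tmulLeftHom σ G).app W) := by
  have hT := isTriv_sval_of_le_genLocus σ hle
  have hb := hT.bijective
  let f : Γ(X, W) ≃ₗ[Γ(X, W)] Γ(M', W) :=
    LinearEquiv.ofBijective (LinearMap.toSpanSingleton Γ(X, W) Γ(M', W) (sval σ W)) hb
  let g : Γ(G, W) ≃ₗ[Γ(X, W)] Γ(CohB1.tensorMod M' G, W) :=
    (TensorProduct.lid Γ(X, W) Γ(G, W)).symm ≪≫ₗ
      TensorProduct.congr f (LinearEquiv.refl _ _) ≪≫ₗ tensorSectionsEquiv M' G hW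
  have : ((tmulLeftHom σ G).app W : Γ(G, W) → Γ(CohB1.tensorMod M' G, W)) = g := by
    funext a
    simp [g, f, tmulLeftHom_app]
  rw [this]
  exact g.bijective

theorem stalkMap_tmulLeftHom_surjective {M' : X.Modules} (G : X.Modules) [G.IsQuasicoherent]
    [M'.IsQuasicoherent] (σ : unitM X ⟶ M') {x : X} (hx : x ∈ CohB1.genLocus M' σ) :
    Function.Surjective (stalkMap (tmulLeftHom σ G) x) := by
  intro τ
  obtain ⟨V, hVle, hxV, τ₀, rfl⟩ := (CohB1.tensorMod M' G).presheaf.exists_le_germ_eq τ hx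
  obtain ⟨W, hW, hxW, hWV⟩ := exists_isAffineOpen_mem_and_subset (x := x) (U := V) hxV
  obtain ⟨g, hg⟩ := (tmulLeftHom_app_bijective G σ hW (hWV.trans hVle)).2
    (Groth.Agent.Lib.Helper29.QCoh.res _ hWV τ₀)
  refine ⟨G.presheaf.germ W x hxW g, ?_⟩
  rw [stalkMap_germ, hg, germ_res]

/-- the two ways of multiplying two sections agree -/
theorem comp_tmulRightHom {M L : X.Modules} (α : unitM X ⟶ M) (s : unitM X ⟶ L) :
    α ≫ tmulRightHom M s = s ≫ tmulLeftHom α L := by
  apply hom_ext_of_sval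
  rw [sval_comp, sval_comp, tmulRightHom_app, tmulLeftHom_app]

end TmulLeft

section HH

variable (A : Type u) [CommRing A] [X.Over (Spec (CommRingCat.of A))]

theorem hh0_map {M N : X.Modules} (φ : M ⟶ N) (x : Coh.HH X M 0) :
    hh0 N (Canon.HHlin A φ 0 x) = φ.app ⊤ (hh0 M x) :=
  (Sheaf.H.equiv₀_naturality (hT := (isTerminalTop : IsTerminal (⊤ : Opens X)))
    ((SheafOfModules.toSheaf X.ringCatSheaf).map φ) x).symm

theorem surjective_app_top_iff {M N : X.Modules} (φ : M ⟶ N) :
    Function.Surjective (φ.app ⊤) ↔ Function.Surjective (Canon.HHlin A φ 0) := by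
  constructor
  · intro h y
    obtain ⟨m, hm⟩ := h (hh0 N y)
    refine ⟨(hh0 M).symm m, (hh0 N).injective ?_⟩
    rw [hh0_map, AddEquiv.apply_symm_apply, hm]
  · intro h n
    obtain ⟨x, hx⟩ := h ((hh0 N).symm n)
    refine ⟨hh0 M x, ?_⟩
    rw [← hh0_map A, hx, AddEquiv.apply_symm_apply]

/-- If `Γ(g)` is surjective, `H^1(f)` is injective. -/
theorem injective_HHlin_f_one (S : ShortComplex X.Modules) (hS : S.ShortExact)
    (hsurj : Function.Surjective (S.g.app ⊤)) :
    Function.Injective (Canon.HHlin A S.f 1) := by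
  have hsurj' := (surjective_app_top_iff A S.g).mp hsurj
  rw [injective_iff_map_eq_zero]
  intro x₁ h0
  obtain ⟨x₃, rfl⟩ := (exact₁ A S hS 0 x₁).1 h0
  obtain ⟨x₂, rfl⟩ := hsurj' x₃
  exact (exact₃ A S hS 0 _).2 ⟨x₂, rfl⟩

/-- If `H^1(f)` is injective, `Γ(g)` is surjective. -/
theorem surjective_app_top_of_injective_HHlin (S : ShortComplex X.Modules) (hS : S.ShortExact)
    (hinj : Function.Injective (Canon.HHlin A S.f 1)) :
    Function.Surjective (S.g.app ⊤) := by
  rw [surjective_app_top_iff A]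
  intro x₃
  have hδ : δlin A S hS 0 x₃ = 0 := by
    apply hinj
    rw [map_zero]
    exact (exact₁ A S hS 0 _).2 ⟨x₃, rfl⟩
  exact (exact₃ A S hS 0 x₃).1 hδ

end HH

end Groth.Agent.Lib.Helper21.CDeg
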