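import Groth.Agent.Lib.Helper21.CDeg4

/-!
# A second section generating an invertible module along the zeros of a first one
-/

set_option autoImplicit false
set_option linter.style.haveILetI false
set_option linter.unusedSectionVars false
universe u
open CategoryTheory CategoryTheory.Limits AlgebraicGeometry TopologicalSpace Opposite

namespace Groth.Agent.Lib.Helper21.CDeg

open Groth.Agent.Lib.Helper29.QCoh

variable {X : Scheme.{u}}

/-- the value of a section on an open, as the image of `1` -/
theorem app_toUnit_one {L : X.Modules} (s : unitM X ⟶ L) (V : X.Opens) :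
    s.app V (toUnit 1) = sval s V := by
  rw [app_eq_smul_sval, one_smul]

/-- the generic point lies in the generating locus of a nonzero section -/
theorem genericPoint_mem_genLocus [IsIntegral X] {L : X.Modules} (hL : PicF.IsInvertible L)
    (s : unitM X ⟶ L) (hs : s ≠ 0) : genericPoint X ∈ CohB1.genLocus L s := by
  obtain ⟨V, e, -, hξV, -, he⟩ := exists_affine_isTriv hL (W := ⊤) (genericPoint X) trivial
  have hVne : (V : Set X).Nonempty := ⟨_, hξV⟩
  obtain ⟨b, hb⟩ := he.exists_eq_smul (sval s V)
  have hb0 : b ≠ 0 := by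
    rintro rfl
    rw [zero_smul] at hb
    exact hs (hom_eq_zero_of_app_eq_zero hL s (isTriv_unit V) hVne
      ((app_toUnit_one s V).trans hb))
  have hne : ((X.basicOpen b : X.Opens) : Set X).Nonempty := by
    rw [Set.nonempty_iff_ne_empty]
    intro h
    apply hb0
    have h2 : X.basicOpen b = ⊥ := by
      ext x
      simp only [Opens.coe_bot, Set.mem_empty_iff_false, iff_false]
      intro hx
      have : x ∈ ((X.basicOpen b : X.Opens) : Set X) := hx
      rw [h] at this
      exact this
    exact (AlgebraicGeometry.basicOpen_eq_bot_iff b).mp h2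
  have hξb : genericPoint X ∈ X.basicOpen b :=
    ((genericPoint_spec X).mem_open_set_iff (X.basicOpen b).isOpen).mpr
      (by simpa [Set.univ_inter] using hne)
  exact (mem_genLocus_iff_of_isTriv s he b hb _ hξV).mpr hξb

/-- on an integral locally Noetherian scheme of dimension `≤ 1`, every set of points where a
nonzero section of an invertible module does not generate is closed -/
theorem isClosed_of_subset_compl_genLocus [IsIntegral X] [IsLocallyNoetherian X]
    (hdim : topologicalKrullDim X ≤ 1) {L : X.Modules} (hL : PicF.IsInvertible L)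
    (s : unitM X ⟶ L) (hs : s ≠ 0) {T : Set X}
    (hT : T ⊆ ((CohB1.genLocus L s : X.Opens) : Set X)ᶜ) : IsClosed T := by
  refine isClosed_of_subset_of_forall_isClosed_singleton
    (CohB1.genLocus L s).isOpen.isClosed_compl (fun z hz => ?_) hT
  refine isClosed_singleton_of_ne_genericPoint X hdim z ?_
  rintro rfl
  exact hz (genericPoint_mem_genLocus hL s hs)

/-- where a section generates, it is surjective on stalks -/
theorem stalkMap_surjective_of_mem_genLocus {L : X.Modules} (s : unitM X ⟶ L) {x : X}
    (hx : x ∈ CohB1.genLocus L s) : Function.Surjective (stalkMap s x) := by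
  intro t
  obtain ⟨U, hxU, m, rfl⟩ := TopCat.Presheaf.exists_germ_eq L.presheaf t
  obtain ⟨U', hxU', hU'⟩ := (mem_genLocus_iff s x).mp hx
  obtain ⟨r, hr⟩ := (hU' (U ⊓ U') inf_le_right).2
    (Groth.Agent.Lib.Helper29.QCoh.res L (inf_le_left : U ⊓ U' ≤ U) m)
  refine ⟨(unitM X).presheaf.germ (U ⊓ U') x ⟨hxU, hxU'⟩ r, ?_⟩
  rw [stalkMap_germ, hr, germ_res]

/-- the cokernel of a section vanishes where the section generates -/
theorem subsingleton_stalk_cokernel_of_mem_genLocus {L : X.Modules} (s : unitM X ⟶ L) {x : X}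
    (hx : x ∈ CohB1.genLocus L s) : Subsingleton ((cokernel s).presheaf.stalk x) :=
  (stalkMap_surjective_iff_cokernel s x).mp (stalkMap_surjective_of_mem_genLocus s hx)

theorem support_cokernel_subset {L : X.Modules} (s : unitM X ⟶ L) :
    CohB1.support (cokernel s) ⊆ ((CohB1.genLocus L s : X.Opens) : Set X)ᶜ := by
  intro x hx hmem
  exact hx (subsingleton_stalk_cokernel_of_mem_genLocus s hmem)

/-- two sections of the cokernel of `s` over an open inside the generating locus agree -/
theorem eq_of_le_genLocus {L : X.Modules} (s : unitM X ⟶ L) {W : X.Opens}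
    (hW : W ≤ CohB1.genLocus L s) (a b : Γ(cokernel s, W)) : a = b := by
  rw [← sub_eq_zero]
  refine eq_zero_of_germ_eq_zero (cokernel s) (a - b) (fun x hx => ?_)
  haveI := subsingleton_stalk_cokernel_of_mem_genLocus s (hW hx)
  exact Subsingleton.elim _ _

/-- if a section `t` is congruent modulo `s` to a local generator near a point where `s` does
not generate, then `t` generates there -/
theorem mem_genLocus_of_congr [IsIntegral X] {L : X.Modules} (hL : PicF.IsInvertible L)
    (s : unitM X ⟶ L) (hs : s ≠ 0) (t : Γ(L, ⊤)) {x : X} (hx : x ∉ CohB1.genLocus L s)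
    {V : X.Opens} (hxV : x ∈ V) {e : Γ(L, V)} (he : IsTriv L V e)
    (hcongr : (cokernel.π s).app V (Groth.Agent.Lib.Helper29.QCoh.res L le_top t) =
      (cokernel.π s).app V e) :
    x ∈ CohB1.genLocus L (homOfSection L t) := by
  haveI hmono : Mono s := mono_of_ne_zero (isInvertible_unit X) hL s hs
  have hex : (ShortComplex.mk s (cokernel.π s) (cokernel.condition s)).Exact :=
    ShortComplex.exact_of_g_is_cokernel _ (cokernelIsCokernel s)
  haveI : Mono (ShortComplex.mk s (cokernel.π s) (cokernel.condition s)).f := hmono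
  have hexV := app_exact_of_exact_of_mono _ hex V
  have h0 : (cokernel.π s).app V (Groth.Agent.Lib.Helper29.QCoh.res L le_top t - e) = 0 := by
    rw [map_sub, hcongr, sub_self]
  obtain ⟨r', hr'⟩ := (hexV _).1 h0
  obtain ⟨r, rfl⟩ := toUnit_surjective r'
  change s.app V (toUnit r) = _ at hr'
  rw [app_eq_smul_sval] at hr'
  obtain ⟨b, hb⟩ := he.exists_eq_smul (sval s V)
  obtain ⟨c, hc⟩ := he.exists_eq_smul (Groth.Agent.Lib.Helper29.QCoh.res L le_top t)
  have hcb : c = 1 + r * b := by
    apply he.smul_left_cancel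
    rw [add_smul, one_smul, mul_smul, ← hb, hr', hc]
    abel
  have hxb : x ∉ X.basicOpen b := fun h =>
    hx ((mem_genLocus_iff_of_isTriv s he b hb x hxV).mpr h)
  have hxc : x ∈ X.basicOpen c := by
    rw [Scheme.mem_basicOpen _ _ _ hxV] at hxb ⊢
    rw [hcb, map_add, map_one, map_mul]
    have h1 : IsUnit ((1 + X.presheaf.germ V x hxV r * X.presheaf.germ V x hxV b) +
        (-(X.presheaf.germ V x hxV r * X.presheaf.germ V x hxV b))) := by
      rw [add_neg_cancel_right]
      exact isUnit_one
    rcases IsLocalRing.isUnit_or_isUnit_of_isUnit_add h1 with h | h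
    · exact h
    · exfalso
      apply hxb
      rw [IsUnit.neg_iff] at h
      exact isUnit_of_mul_isUnit_right h
  have hc' : sval (homOfSection L t) V = c • e := by
    rw [sval_homOfSection]
    exact hc
  exact (mem_genLocus_iff_of_isTriv (homOfSection L t) he c hc' x hxV).mpr hxc

/-- **existence of a complementary section**: if every global section of the cokernel of a
nonzero section `s` of an invertible module on an integral curve lifts, there is a section `t`
generating at all points where `s` does not -/
theorem exists_complementary_section [IsIntegral X] [IsLocallyNoetherian X]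
    (hdim : topologicalKrullDim X ≤ 1) {L : X.Modules} (hL : PicF.IsInvertible L)
    (s : unitM X ⟶ L) (hs : s ≠ 0)
    (hsurj : Function.Surjective ((cokernel.π s).app ⊤)) :
    ∃ t : Γ(L, ⊤), ∀ x : X, x ∉ CohB1.genLocus L s → x ∈ CohB1.genLocus L (homOfSection L t) := by
  have hloc : ∀ x : X, ∃ (V : X.Opens) (e : Γ(L, V)), x ∈ V ∧ IsTriv L V e ∧
      ∀ y ∈ V, y ∉ CohB1.genLocus L s → y = x := by
    intro x
    obtain ⟨V₀, e₀, hxV₀, he₀⟩ := exists_isTriv hL x
    have hTcl : IsClosed (((CohB1.genLocus L s : X.Opens) : Set X)ᶜ \ {x}) :=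
      isClosed_of_subset_compl_genLocus hdim hL s hs Set.sdiff_subset
    let O : X.Opens := ⟨(((CohB1.genLocus L s : X.Opens) : Set X)ᶜ \ {x})ᶜ, hTcl.isOpen_compl⟩
    have hxO : x ∈ O := fun h => h.2 rfl
    refine ⟨V₀ ⊓ O, Groth.Agent.Lib.Helper29.QCoh.res L inf_le_left e₀, ⟨hxV₀, hxO⟩,
      he₀.restrict _, ?_⟩
    intro y hy hyg
    by_contra hne
    exact hy.2 ⟨hyg, hne⟩
  choose V e hxV he huniq using hloc
  let Q := cokernel s
  have hcompat : ∀ x y : X,
      Groth.Agent.Lib.Helper29.QCoh.res Q (inf_le_left : V x ⊓ V y ≤ V x)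
        ((cokernel.π s).app (V x) (e x)) =
      Groth.Agent.Lib.Helper29.QCoh.res Q (inf_le_right : V x ⊓ V y ≤ V y)
        ((cokernel.π s).app (V y) (e y)) := by
    intro x y
    by_cases hxy : x = y
    · subst hxy
      rfl
    · refine eq_of_le_genLocus s ?_ _ _
      intro z hz
      by_contra hzg
      exact hxy ((huniq x z hz.1 hzg).symm.trans (huniq y z hz.2 hzg))
  obtain ⟨q, hq⟩ := exists_gluing Q V ⊤ (fun _ => le_top)
    (fun x _ => Opens.mem_iSup.mpr ⟨x, hxV x⟩)
    (fun x => (cokernel.π s).app (V x) (e x)) hcompat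
  obtain ⟨t, ht⟩ := hsurj q
  refine ⟨t, fun x hx => ?_⟩
  refine mem_genLocus_of_congr hL s hs t hx (hxV x) (he x) ?_
  rw [app_res, ht]
  exact hq x

end Groth.Agent.Lib.Helper21.CDeg
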