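import Groth.Agent.Lib.Helper21.CDeg5

/-!
# Injectivity of multiplication by a section on `H^1`
-/

set_option autoImplicit false
set_option linter.style.haveILetI false
set_option linter.unusedSectionVars false
universe u
open CategoryTheory CategoryTheory.Limits AlgebraicGeometry TopologicalSpace Opposite

namespace Groth.Agent.Lib.Helper21.CDeg

open Groth.Agent.Lib.Helper29.QCoh Groth.Agent.Lib.Lead.LinLES

variable (k : Type u) [Field k] {X : Scheme.{u}} [X.Over (Spec (CommRingCat.of k))]

include k in
/-- an epimorphism from a module with hereditarily closed support is surjective on global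
sections -/
theorem surjective_app_top_of_epi {Q C : X.Modules} (γ : Q ⟶ C) [Epi γ]
    (hQ : ∀ T : Set X, T ⊆ CohB1.support Q → IsClosed T) :
    Function.Surjective (γ.app ⊤) := by
  have hS : (ShortComplex.mk (kernel.ι γ) γ (kernel.condition γ)).ShortExact :=
    ShortComplex.ShortExact.mk' (ShortComplex.exact_of_f_is_kernel _ (kernelIsKernel γ))
      inferInstance inferInstance
  have hsupp : CohB1.support (kernel γ) ⊆ CohB1.support Q := by
    intro x hx hsub
    apply hx
    have hinj := (mono_iff_stalkMap_injective (kernel.ι γ)).mp inferInstance x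
    exact hinj.subsingleton
  haveI : Subsingleton (Coh.HH X (kernel γ) 1) :=
    subsingleton_HH_succ_of_support_hereditarily_closed (kernel γ)
      (fun T hT => hQ T (hT.trans hsupp)) 0
  exact surjective_app_top_of_injective_HHlin k
    (ShortComplex.mk (kernel.ι γ) γ (kernel.condition γ)) hS (Function.injective_of_subsingleton _)

/-- **multiplication by `s` is injective on `H^1`** of an invertible module `M`, provided the
global sections of the cokernel of `s` lift and `M` has a section generating it wherever `s`
does not generate `L` -/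
theorem injective_HHlin_tmulRightHom [IsIntegral X] [IsLocallyNoetherian X]
    (hdim : topologicalKrullDim X ≤ 1) {L M : X.Modules} (hL : PicF.IsInvertible L)
    (hM : PicF.IsInvertible M) (s : unitM X ⟶ L) (hs : s ≠ 0)
    (hsurj : Function.Surjective ((cokernel.π s).app ⊤))
    (α : unitM X ⟶ M) (hα : ∀ x : X, x ∉ CohB1.genLocus L s → x ∈ CohB1.genLocus M α) :
    Function.Injective (Canon.HHlin k (tmulRightHom M s) 1) := by
  haveI := isQuasicoherent_of_isInvertible hL
  haveI := isQuasicoherent_of_isInvertible hM
  set σ := tmulRightHom M s with hσ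
  have hσ0 : σ ≠ 0 := tmulRightHom_ne_zero hM hL s hs
  haveI hmono : Mono σ := mono_of_ne_zero hM (isInvertible_tensorMod hM hL) σ hσ0
  have hS : (ShortComplex.mk σ (cokernel.π σ) (cokernel.condition σ)).ShortExact :=
    ShortComplex.ShortExact.mk' (ShortComplex.exact_of_g_is_cokernel _ (cokernelIsCokernel σ))
      hmono inferInstance
  refine injective_HHlin_f_one k (ShortComplex.mk σ (cokernel.π σ) (cokernel.condition σ)) hS ?_
  change Function.Surjective ((cokernel.π σ).app ⊤)
  -- the comparison map
  set β := tmulLeftHom α L with hβ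
  have hsq : α ≫ σ = s ≫ β := comp_tmulRightHom α s
  set ψ := β ≫ cokernel.π σ with hψ
  have hsψ : s ≫ ψ = 0 := by
    rw [hψ, ← Category.assoc, ← hsq, Category.assoc, cokernel.condition, comp_zero]
  set γ := cokernel.desc s ψ hsψ with hγ
  have hπγ : cokernel.π s ≫ γ = ψ := cokernel.π_desc s ψ hsψ
  haveI hψepi : Epi ψ := by
    rw [epi_iff_stalkMap_surjective]
    intro x
    by_cases hx : x ∈ CohB1.genLocus L s
    · haveI : Subsingleton ((cokernel σ).presheaf.stalk x) :=
        (stalkMap_surjective_iff_cokernel σ x).mp (stalkMap_tmulRightHom_surjective M s hx)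
      intro c
      exact ⟨0, Subsingleton.elim _ _⟩
    · have h1 := stalkMap_tmulLeftHom_surjective L α (hα x hx)
      have h2 := (epi_iff_stalkMap_surjective (cokernel.π σ)).mp inferInstance x
      intro c
      obtain ⟨b, rfl⟩ := h2 c
      obtain ⟨a, rfl⟩ := h1 b
      exact ⟨a, stalkMap_comp_apply _ _ x a⟩
  haveI : Epi (cokernel.π s ≫ γ) := by rw [hπγ]; exact hψepi
  haveI hγepi : Epi γ := epi_of_epi (cokernel.π s) γ
  have hQ : ∀ T : Set X, T ⊆ CohB1.support (cokernel s) → IsClosed T := fun T hT =>
    isClosed_of_subset_compl_genLocus hdim hL s hs (hT.trans (support_cokernel_subset s))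
  have hγsurj := surjective_app_top_of_epi k γ hQ
  intro c
  obtain ⟨q, rfl⟩ := hγsurj c
  obtain ⟨ℓ, rfl⟩ := hsurj q
  refine ⟨β.app ⊤ ℓ, ?_⟩
  change (β ≫ cokernel.π σ).app ⊤ ℓ = (cokernel.π s ≫ γ).app ⊤ ℓ
  rw [hπγ]

end Groth.Agent.Lib.Helper21.CDeg
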