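import Groth.Agent.Lib.Helper21.PC2

/-!
# Projective completion of curves III: opens missing a point of every curve component are affine
-/

set_option autoImplicit false
set_option linter.style.haveILetI false
set_option linter.unusedSectionVars false
universe u
open CategoryTheory CategoryTheory.Limits AlgebraicGeometry TopologicalSpace

namespace Groth.Agent.Lib.Helper21.PC

variable (k : Type u) [Field k] (X : Scheme.{u}) (sX : X ⟶ Spec (CommRingCat.of k))
  [IsSeparated sX] [LocallyOfFiniteType sX] [QuasiCompact sX]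

include k sX in
open Scheme.IdealSheafData in
/-- an open subscheme of a separated scheme of finite type and dimension `≤ 1` over a field which
misses a point of the closure of each of its non-closed points is affine -/
theorem isAffineOpen_of_forall_exists_notMem (hdim : topologicalKrullDim X ≤ 1) (U : X.Opens)
    (H : ∀ x ∈ U, ¬ IsClosed ({x} : Set X) → ∃ p ∈ closure ({x} : Set X), p ∉ U) :
    IsAffineOpen U := by
  haveI : IsLocallyNoetherian X := LocallyOfFiniteType.isLocallyNoetherian sX
  haveI : QuasiCompact (U.ι ≫ sX) := inferInstance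
  have hdimU : topologicalKrullDim ↥(U : Scheme.{u}) ≤ 1 :=
    U.ι.isEmbedding.isInducing.topologicalKrullDim_le.trans hdim
  refine isAffine_of_forall_not_isProper k (U : Scheme.{u}) (U.ι ≫ sX) hdimU ?_
  intro Z hirr hns hprop
  set i := (vanishingIdeal Z).subschemeι with hi
  haveI : IsProper ((i ≫ U.ι) ≫ sX) := by rw [Category.assoc]; exact hprop
  haveI : IsProper (i ≫ U.ι) := IsProper.of_comp (i ≫ U.ι) sX
  have hcl : IsClosed (Set.range (i ≫ U.ι).base) := (i ≫ U.ι).isClosedMap.isClosed_range
  have hrange : Set.range (i ≫ U.ι).base = U.ι.base '' (Z : Set ↥(U : Scheme.{u})) := by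
    rw [Scheme.Hom.comp_base, TopCat.coe_comp, Set.range_comp]
    congr 1
    exact Groth.Agent.Lib.Helper12.H12Dev.range_subschemeι_vanishingIdeal Z
  obtain ⟨ζ, hζ⟩ := QuasiSober.sober hirr Z.isClosed
  have hζZ : ζ ∈ (Z : Set ↥(U : Scheme.{u})) := hζ.mem
  have hx : ¬ IsClosed ({U.ι ζ} : Set X) := by
    intro hc
    apply hns
    have h1 : IsClosed ({ζ} : Set ↥(U : Scheme.{u})) := by
      have := hc.preimage U.ι.continuous
      rwa [← Set.image_singleton, Set.preimage_image_eq _ U.ι.isEmbedding.injective] at this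
    have h2 : (Z : Set ↥(U : Scheme.{u})) = {ζ} := by
      rw [← hζ.def, h1.closure_eq]
    rw [h2]
    exact Set.subsingleton_singleton
  obtain ⟨p, hp, hpU⟩ := H (U.ι ζ) ζ.2 hx
  apply hpU
  have hsub : closure ({U.ι ζ} : Set X) ⊆ Set.range (i ≫ U.ι).base := by
    apply hcl.closure_subset_iff.mpr
    rw [Set.singleton_subset_iff, hrange]
    exact ⟨ζ, hζZ, rfl⟩
  have := hsub hp
  rw [hrange] at this
  obtain ⟨z, -, rfl⟩ := this
  exact z.2

end Groth.Agent.Lib.Helper21.PC
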