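import Groth.Agent.Lib.Helper21.CDeg6
import Groth.Agent.Lib.Helper21.PC3
import Groth.Agent.Lib.Helper12.Fin14
import Groth.Agent.Lib.Helper2.CohEuler.Basic

/-!
# Sections of invertible modules on proper curves: `h^0 ≤ deg + 1`, equality only in genus zero
-/

set_option autoImplicit false
set_option linter.style.haveILetI false
set_option linter.unusedSectionVars false
universe u
open CategoryTheory CategoryTheory.Limits AlgebraicGeometry TopologicalSpace Opposite

namespace Groth.Agent.Lib.Helper21.CDeg

open Groth.Agent.Lib.Helper29.QCoh Groth.Agent.Lib.Lead.LinLES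

variable (k : Type u) [Field k] (X : Scheme.{u}) [X.Over (Spec (CommRingCat.of k))]
  [IsIntegral X]

include k in
/-- a proper open subset of an integral curve of finite type over a field is affine -/
theorem isAffineOpen_of_ne_top [IsSeparated (X ↘ (Spec (CommRingCat.of k)))]
    [LocallyOfFiniteType (X ↘ (Spec (CommRingCat.of k)))]
    [QuasiCompact (X ↘ (Spec (CommRingCat.of k)))] (hdim : topologicalKrullDim X ≤ 1)
    (U : X.Opens) (hU : U ≠ ⊤) : IsAffineOpen U := by
  refine Groth.Agent.Lib.Helper21.PC.isAffineOpen_of_forall_exists_notMem k X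
    (X ↘ (Spec (CommRingCat.of k))) hdim U ?_
  intro x _ hx
  have hxη : x = genericPoint X := by
    by_contra hne
    exact hx (isClosed_singleton_of_ne_genericPoint X hdim x hne)
  obtain ⟨p, hp⟩ : ∃ p : X, p ∉ U := by
    by_contra hcon
    refine hU (eq_top_iff.mpr fun y _ => ?_)
    by_contra hy
    exact hcon ⟨y, hy⟩
  refine ⟨p, ?_, hp⟩
  rw [hxη, (genericPoint_spec X).def]
  trivial

variable [IsProper (X ↘ (Spec (CommRingCat.of k)))]

include k in
/-- two sections without common zeros, each with a zero, make an invertible module on a proper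
integral curve ample -/
theorem isAmple_of_sections (hdim : topologicalKrullDim X ≤ 1) {L : X.Modules}
    (hL : PicF.IsInvertible L) (s τ : unitM X ⟶ L)
    (hs : CohB1.genLocus L s ≠ ⊤) (hτ : CohB1.genLocus L τ ≠ ⊤)
    (hcov : ∀ x : X, x ∉ CohB1.genLocus L s → x ∈ CohB1.genLocus L τ) :
    CohB1.IsAmple L := by
  haveI : CompactSpace X :=
    QuasiCompact.compactSpace_of_compactSpace (X ↘ (Spec (CommRingCat.of k)))
  refine ⟨hL, inferInstance, fun x => ?_⟩
  by_cases hx : x ∈ CohB1.genLocus L s
  · refine ⟨0, SecTwist.powHom s (0 + 1), ?_⟩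
    rw [genLocus_powHom hL s 0]
    exact ⟨hx, isAffineOpen_of_ne_top k X hdim _ hs⟩
  · refine ⟨0, SecTwist.powHom τ (0 + 1), ?_⟩
    rw [genLocus_powHom hL τ 0]
    exact ⟨hcov x hx, isAffineOpen_of_ne_top k X hdim _ hτ⟩

/-- a section generating everywhere is an isomorphism -/
theorem isIso_of_genLocus_eq_top {X : Scheme.{u}} {L : X.Modules} (s : unitM X ⟶ L)
    (h : CohB1.genLocus L s = ⊤) : IsIso s := by
  have h1 := isIso_restrict_of_le_genLocus s (U := ⊤) (le_of_eq h.symm)
  rw [isIso_restrict_iff] at h1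
  exact (isIso_iff_app_bijective s).mpr (fun W => h1 W le_top)

include k in
/-- `h^0(L) ≤ h^0(O) + h^0(coker s)` -/
theorem finrank_HH_zero_le {L : X.Modules}
    (hL : PicF.IsInvertible L) (s : unitM X ⟶ L) (hs : s ≠ 0) :
    Module.finrank k (Coh.HH X L 0) ≤ Module.finrank k (Coh.HH X (unitM X) 0) +
      Module.finrank k (Coh.HH X (cokernel s) 0) ∧
    (Module.finrank k (Coh.HH X L 0) = Module.finrank k (Coh.HH X (unitM X) 0) +
      Module.finrank k (Coh.HH X (cokernel s) 0) → Function.Surjective ((cokernel.π s).app ⊤)) := by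
  haveI : IsLocallyNoetherian X :=
    LocallyOfFiniteType.isLocallyNoetherian (X ↘ Spec (CommRingCat.of k))
  haveI hmono : Mono s := mono_of_ne_zero (isInvertible_unit X) hL s hs
  have hOc : Coh.IsCoh (unitM X) := ⟨isQuasicoherent_of_isInvertible (isInvertible_unit X),
    isFiniteType_of_isInvertible (isInvertible_unit X)⟩
  have hLc : Coh.IsCoh L := ⟨isQuasicoherent_of_isInvertible hL, isFiniteType_of_isInvertible hL⟩
  have hQc : Coh.IsCoh (cokernel s) := Groth.Agent.Lib.Helper12.H12Dev.isCoh_cokernel s hOc hLc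
  have hS : (ShortComplex.mk s (cokernel.π s) (cokernel.condition s)).ShortExact :=
    ShortComplex.ShortExact.mk' (ShortComplex.exact_of_g_is_cokernel _ (cokernelIsCokernel s))
      hmono inferInstance
  haveI : Module.Finite k (Coh.HH X (unitM X) 0) := Groth.Agent.S0002.result k X _ hOc 0
  haveI : Module.Finite k (Coh.HH X L 0) := Groth.Agent.S0002.result k X _ hLc 0
  haveI : Module.Finite k (Coh.HH X (cokernel s) 0) := Groth.Agent.S0002.result k X _ hQc 0
  have hex : Function.Exact (Canon.HHlin k s 0) (Canon.HHlin k (cokernel.π s) 0) :=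
    exact₂ k (ShortComplex.mk s (cokernel.π s) (cokernel.condition s)) hS 0
  have h1 := LinearMap.finrank_range_add_finrank_ker (Canon.HHlin k (cokernel.π s) 0)
  have h2 : LinearMap.ker (Canon.HHlin k (cokernel.π s) 0) = LinearMap.range (Canon.HHlin k s 0) :=
    LinearMap.exact_iff.mp hex
  have h3 : Module.finrank k (LinearMap.range (Canon.HHlin k s 0)) ≤
      Module.finrank k (Coh.HH X (unitM X) 0) := LinearMap.finrank_range_le _
  have h4 : Module.finrank k (LinearMap.range (Canon.HHlin k (cokernel.π s) 0)) ≤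
      Module.finrank k (Coh.HH X (cokernel s) 0) := Submodule.finrank_le _
  rw [h2] at h1
  refine ⟨by omega, fun heq => ?_⟩
  have h5 : Module.finrank k (LinearMap.range (Canon.HHlin k (cokernel.π s) 0)) =
      Module.finrank k (Coh.HH X (cokernel s) 0) := by omega
  have h6 : LinearMap.range (Canon.HHlin k (cokernel.π s) 0) = ⊤ :=
    Submodule.eq_top_of_finrank_eq h5
  exact (surjective_app_top_iff k (cokernel.π s)).mpr (LinearMap.range_eq_top.mp h6)

include k in
/-- **equality `h^0(L) = h^0(O) + deg L` with `deg L > 0` forces `H^1(X, O_X) = 0`** -/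
theorem subsingleton_HH_one_of_surjective (hdim : topologicalKrullDim X ≤ 1) {L : X.Modules}
    (hL : PicF.IsInvertible L) (s : unitM X ⟶ L) (hs : s ≠ 0)
    (hsurj : Function.Surjective ((cokernel.π s).app ⊤))
    (hpos : 0 < Module.finrank k (Coh.HH X (cokernel s) 0)) :
    Subsingleton (Coh.HH X (unitM X) 1) := by
  haveI : IsLocallyNoetherian X :=
    LocallyOfFiniteType.isLocallyNoetherian (X ↘ Spec (CommRingCat.of k))
  obtain ⟨hdeg, hiso⟩ := deg_eq_finrank_of_section k X hdim hL s hs
  obtain ⟨t, ht⟩ := exists_complementary_section hdim hL s hs hsurj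
  set τ := homOfSection L t with hτdef
  -- neither section generates everywhere
  have hs' : CohB1.genLocus L s ≠ ⊤ := by
    intro h
    have := hiso.mpr (isIso_of_genLocus_eq_top s h)
    omega
  have hτ' : CohB1.genLocus L τ ≠ ⊤ := by
    intro h
    haveI hτiso : IsIso τ := isIso_of_genLocus_eq_top τ h
    have hτ0 : τ ≠ 0 := by
      intro h0
      apply hs
      have h2 : (s ≫ inv τ) ≫ τ = s := by
        rw [Category.assoc, IsIso.inv_hom_id, Category.comp_id]
      have h3 : (s ≫ inv τ) ≫ τ = (s ≫ inv τ) ≫ 0 := congrArg (fun f => (s ≫ inv τ) ≫ f) h0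
      rw [← h2, h3, comp_zero]
    obtain ⟨hdeg', hiso'⟩ := deg_eq_finrank_of_section k X hdim hL τ hτ0
    have h1 := hiso'.mpr hτiso
    rw [hdeg, h1] at hdeg'
    have : (Module.finrank k (Coh.HH X (cokernel s) 0) : ℤ) = 0 := by exact_mod_cast hdeg'
    omega
  have hA : CohB1.IsAmple L := isAmple_of_sections k X hdim hL s τ hs' hτ' ht
  have hOc : Coh.IsCoh (unitM X) := ⟨isQuasicoherent_of_isInvertible (isInvertible_unit X),
    isFiniteType_of_isInvertible (isInvertible_unit X)⟩
  obtain ⟨n₀, hn₀⟩ := Groth.Agent.Lib.Helper12.H12Fin.serre_vanishing_of_isAmple k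
    (X ↘ (Spec (CommRingCat.of k))) L hA (unitM X) hOc
  have hvan : Subsingleton (Coh.HH X (CohB1.tensorPow L n₀) 1) :=
    Groth.Agent.Lib.Lead.Pn.subsingleton_HH_of_iso (tensorUnitL (CohB1.tensorPow L n₀)) 1
      (hn₀ n₀ le_rfl 0)
  -- the chain of injections
  have hchain : ∀ n : ℕ, Subsingleton (Coh.HH X (CohB1.tensorPow L n) 1) →
      Subsingleton (Coh.HH X (unitM X) 1) := by
    intro n
    induction n with
    | zero => exact fun h => h
    | succ n ih =>
      intro h
      apply ih
      have hα : ∀ x : X, x ∉ CohB1.genLocus L s →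
          x ∈ CohB1.genLocus (CohB1.tensorPow L n) (SecTwist.powHom τ n) := by
        intro x hx
        cases n with
        | zero =>
          change x ∈ CohB1.genLocus (unitM X) (𝟙 _)
          rw [genLocus_id]
          trivial
        | succ m =>
          rw [genLocus_powHom hL τ m]
          exact ht x hx
      have hinj := injective_HHlin_tmulRightHom k hdim hL (isInvertible_tensorPow hL n) s hs hsurj
        (SecTwist.powHom τ n) hα
      haveI : Subsingleton (Coh.HH X (CohB1.tensorMod (CohB1.tensorPow L n) L) 1) := h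
      exact hinj.subsingleton
  exact hchain n₀ hvan

end Groth.Agent.Lib.Helper21.CDeg
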