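import Groth.Agent.Lib.Helper21.CDeg7
import Groth.Agent.S0458

/-!
# Euler characteristic on curves: `χ = h^0 - h^1`, sections from positivity
-/

set_option autoImplicit false
set_option linter.style.haveILetI false
set_option linter.unusedSectionVars false
universe u
open CategoryTheory CategoryTheory.Limits AlgebraicGeometry TopologicalSpace Opposite

namespace Groth.Agent.Lib.Helper21.CDeg

open Groth.Agent.Lib.Helper29.QCoh Groth.Agent.Lib.Lead.LinLES

variable (k : Type u) [Field k] (X : Scheme.{u}) [X.Over (Spec (CommRingCat.of k))]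
  [IsProper (X ↘ (Spec (CommRingCat.of k)))]

include k in
/-- Grothendieck vanishing on a proper scheme of dimension `≤ 1` over a field -/
theorem subsingleton_HH_of_two_le (hdim : topologicalKrullDim X ≤ 1) (F : X.Modules) (p : ℕ)
    (hp : 2 ≤ p) : Subsingleton (Coh.HH X F p) := by
  haveI : IsLocallyNoetherian X :=
    LocallyOfFiniteType.isLocallyNoetherian (X ↘ Spec (CommRingCat.of k))
  haveI : CompactSpace X :=
    QuasiCompact.compactSpace_of_compactSpace (X ↘ (Spec (CommRingCat.of k)))
  haveI : IsNoetherian X := {}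
  exact Groth.Agent.S0458.result (X := X.carrier) 1 hdim (Coh.toAb F) p (by omega)

include k in
/-- `χ(F) = h^0(F) - h^1(F)` on a proper scheme of dimension `≤ 1` over a field -/
theorem euler_eq_sub (hdim : topologicalKrullDim X ≤ 1) (F : X.Modules) :
    Curv2.euler k X F = (Module.finrank k (Coh.HH X F 0) : ℤ) -
      (Module.finrank k (Coh.HH X F 1) : ℤ) := by
  unfold Curv2.euler
  rw [finsum_eq_sum_of_support_subset (s := {0, 1})]
  · rw [Finset.sum_pair (by decide)]
    simp
    ring
  · intro i hi
    simp only [Function.mem_support, ne_eq] at hi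
    by_contra hcon
    apply hi
    have h2 : 2 ≤ i := by
      simp only [Finset.coe_insert, Finset.coe_singleton, Set.mem_insert_iff,
        Set.mem_singleton_iff, not_or] at hcon
      omega
    haveI := subsingleton_HH_of_two_le k X hdim F i h2
    rw [Module.finrank_zero_of_subsingleton]
    simp

/-- a nonzero section from a nonzero cohomology class in degree `0` -/
theorem exists_section_ne_zero {X : Scheme.{u}} (L : X.Modules) (hs : Nontrivial (Coh.HH X L 0)) :
    ∃ s : unitM X ⟶ L, s ≠ 0 := by
  obtain ⟨v, hv⟩ := exists_ne (0 : Coh.HH X L 0)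
  have hσ : hh0 L v ≠ 0 := fun h => hv ((hh0 L).injective (h.trans (map_zero _).symm))
  refine ⟨homOfSection L (hh0 L v), fun h0 => hσ ?_⟩
  have h1 := homOfSection_app_one L (hh0 L v)
  rw [h0] at h1
  exact h1.symm

include k in
/-- on a proper integral curve, `h^0(L) = deg L + χ(O) + h^1(L)` -/
theorem finrank_HH_zero_eq (hdim : topologicalKrullDim X ≤ 1) (L : X.Modules) :
    (Module.finrank k (Coh.HH X L 0) : ℤ) = Curv2.deg k X L 1 +
      ((Module.finrank k (Coh.HH X (unitM X) 0) : ℤ) -
        (Module.finrank k (Coh.HH X (unitM X) 1) : ℤ)) +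
      (Module.finrank k (Coh.HH X L 1) : ℤ) := by
  unfold Curv2.deg
  rw [euler_eq_sub k X hdim L, euler_eq_sub k X hdim (Coh.structureModule X)]
  push_cast
  ring

end Groth.Agent.Lib.Helper21.CDeg
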