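import Groth.Agent.Lib.Helper21.ChartPt2

/-!
# Points with residue field of transcendence degree one on a scheme locally of finite type
over a field
-/

set_option autoImplicit false
set_option linter.style.haveILetI false
set_option linter.unusedSectionVars false
universe u
open AlgebraicGeometry CategoryTheory Limits TopologicalSpace

namespace Groth.Agent.Lib.Helper21.ChartPt

open Groth.Agent.Lib.Helper21.NagDvr Groth.Agent.Lib.Helper20.DimTrdeg

section K

variable (k : Type u) [Field k] (X : Scheme.{u}) [X.Over (Spec (CommRingCat.of k))]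
  [LocallyOfFiniteType (X ↘ Spec (CommRingCat.of k))]

/-- If `κ(y)` has transcendence degree one over `k` and `y` specialises to a closed point `x`,
then `y ≠ x` and there is nothing strictly between `y` and `x`. -/
theorem eq_or_eq_of_trdeg_eq_one {x y : X}
    (hy : @Algebra.trdeg k (X.residueField y) _ _ (Curv2.resAlgebra k X y) = 1)
    (hx : IsClosed ({x} : Set X)) (hyx : y ⤳ x) :
    y ≠ x ∧ ∀ z : X, y ⤳ z → z ⤳ x → z = y ∨ z = x := by
  obtain ⟨_, ⟨U, hU, rfl⟩, hxU, -⟩ :=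
    X.isBasis_affineOpens.exists_subset_of_mem_open (Set.mem_univ x) isOpen_univ
  have hU : IsAffineOpen U := hU
  have hxU : x ∈ U := hxU
  have hyU : y ∈ U := hyx.mem_open U.isOpen hxU
  obtain ⟨s, hs1, hs2⟩ := exists_nat_trdeg_eq_and_dim_quotient k X hU y hyU
  rw [hy] at hs1
  have hs : s = 1 := by exact_mod_cast hs1.symm
  subst hs
  have hmax := hU.primeIdealOf_isMaximal_of_isClosed ⟨x, hxU⟩ hx
  constructor
  · intro hyx'
    subst hyx'
    have hf : IsField (Γ(X, U) ⧸ (hU.primeIdealOf ⟨y, hyU⟩).asIdeal) :=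
      (Ideal.Quotient.maximal_ideal_iff_isField_quotient _).mp hmax
    rw [ringKrullDim_eq_zero_of_isField hf] at hs2
    exact (by exact_mod_cast hs2 : False)
  · intro z hyz hzx
    have hzU : z ∈ U := hzx.mem_open U.isOpen hxU
    have h1 := (specializes_iff_primeIdealOf_le hU ⟨y, hyU⟩ ⟨z, hzU⟩).mp hyz
    have h2 := (specializes_iff_primeIdealOf_le hU ⟨z, hzU⟩ ⟨x, hxU⟩).mp hzx
    have hdim : Ring.KrullDimLE 1 (Γ(X, U) ⧸ (hU.primeIdealOf ⟨y, hyU⟩).asIdeal) :=
      Ring.krullDimLE_iff.mpr (by rw [hs2])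
    have hsurj : Function.Surjective (Ideal.Quotient.mk (hU.primeIdealOf ⟨y, hyU⟩).asIdeal) :=
      Ideal.Quotient.mk_surjective
    have hker : RingHom.ker (Ideal.Quotient.mk (hU.primeIdealOf ⟨y, hyU⟩).asIdeal) ≤
        (hU.primeIdealOf ⟨z, hzU⟩).asIdeal := by
      rw [Ideal.mk_ker]; exact h1
    have hIprime : ((hU.primeIdealOf ⟨z, hzU⟩).asIdeal.map
        (Ideal.Quotient.mk (hU.primeIdealOf ⟨y, hyU⟩).asIdeal)).IsPrime :=
      Ideal.map_isPrime_of_surjective hsurj hker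
    have hcm : ((hU.primeIdealOf ⟨z, hzU⟩).asIdeal.map
        (Ideal.Quotient.mk (hU.primeIdealOf ⟨y, hyU⟩).asIdeal)).comap
        (Ideal.Quotient.mk (hU.primeIdealOf ⟨y, hyU⟩).asIdeal) =
        (hU.primeIdealOf ⟨z, hzU⟩).asIdeal := by
      rw [Ideal.comap_map_of_surjective' _ hsurj]
      exact sup_eq_left.mpr hker
    by_cases hI : (hU.primeIdealOf ⟨z, hzU⟩).asIdeal.map
        (Ideal.Quotient.mk (hU.primeIdealOf ⟨y, hyU⟩).asIdeal) = ⊥
    · left
      have hle : (hU.primeIdealOf ⟨z, hzU⟩).asIdeal ≤ (hU.primeIdealOf ⟨y, hyU⟩).asIdeal := by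
        have := (Ideal.map_eq_bot_iff_le_ker _).mp hI
        rwa [Ideal.mk_ker] at this
      have heq : hU.primeIdealOf ⟨z, hzU⟩ = hU.primeIdealOf ⟨y, hyU⟩ :=
        PrimeSpectrum.ext (le_antisymm hle h1)
      exact congrArg Subtype.val (primeIdealOf_injective hU heq)
    · right
      have hImax := Ideal.IsPrime.isMaximal_of_ne_bot hIprime hI
      have hzmax : (hU.primeIdealOf ⟨z, hzU⟩).asIdeal.IsMaximal := by
        rw [← hcm]
        exact Ideal.comap_isMaximal_of_surjective _ hsurj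
      have heq : hU.primeIdealOf ⟨z, hzU⟩ = hU.primeIdealOf ⟨x, hxU⟩ :=
        PrimeSpectrum.ext (hzmax.eq_of_le hmax.ne_top h2)
      exact congrArg Subtype.val (primeIdealOf_injective hU heq)

/-- If `y ≠ x` specialises to a closed point `x` with nothing strictly between, then `κ(y)` has
transcendence degree one over `k`. -/
theorem trdeg_eq_one_of_forall_eq_or_eq {x y : X}
    (hx : IsClosed ({x} : Set X)) (hyx : y ⤳ x) (hne : y ≠ x)
    (hbtw : ∀ z : X, y ⤳ z → z ⤳ x → z = y ∨ z = x) :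
    @Algebra.trdeg k (X.residueField y) _ _ (Curv2.resAlgebra k X y) = 1 := by
  obtain ⟨_, ⟨U, hU, rfl⟩, hxU, -⟩ :=
    X.isBasis_affineOpens.exists_subset_of_mem_open (Set.mem_univ x) isOpen_univ
  have hU : IsAffineOpen U := hU
  have hxU : x ∈ U := hxU
  have hyU : y ∈ U := hyx.mem_open U.isOpen hxU
  obtain ⟨s, hs1, hs2⟩ := exists_nat_trdeg_eq_and_dim_quotient k X hU y hyU
  rw [hs1]
  have hmax := hU.primeIdealOf_isMaximal_of_isClosed ⟨x, hxU⟩ hx
  have hle := (specializes_iff_primeIdealOf_le hU ⟨y, hyU⟩ ⟨x, hxU⟩).mp hyx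
  have hsurj : Function.Surjective (Ideal.Quotient.mk (hU.primeIdealOf ⟨y, hyU⟩).asIdeal) :=
    Ideal.Quotient.mk_surjective
  have hker : RingHom.ker (Ideal.Quotient.mk (hU.primeIdealOf ⟨y, hyU⟩).asIdeal) ≤
      (hU.primeIdealOf ⟨x, hxU⟩).asIdeal := by
    rw [Ideal.mk_ker]; exact hle
  have hcm : ((hU.primeIdealOf ⟨x, hxU⟩).asIdeal.map
      (Ideal.Quotient.mk (hU.primeIdealOf ⟨y, hyU⟩).asIdeal)).comap
      (Ideal.Quotient.mk (hU.primeIdealOf ⟨y, hyU⟩).asIdeal) =
      (hU.primeIdealOf ⟨x, hxU⟩).asIdeal := by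
    rw [Ideal.comap_map_of_surjective' _ hsurj]
    exact sup_eq_left.mpr hker
  have hmprime : ((hU.primeIdealOf ⟨x, hxU⟩).asIdeal.map
      (Ideal.Quotient.mk (hU.primeIdealOf ⟨y, hyU⟩).asIdeal)).IsPrime :=
    Ideal.map_isPrime_of_surjective hsurj hker
  have hmmax : ((hU.primeIdealOf ⟨x, hxU⟩).asIdeal.map
      (Ideal.Quotient.mk (hU.primeIdealOf ⟨y, hyU⟩).asIdeal)).IsMaximal :=
    (Ideal.map_eq_top_or_isMaximal_of_surjective _ hsurj hmax).resolve_left hmprime.ne_top
  letI : Algebra k (Γ(X, U) ⧸ (hU.primeIdealOf ⟨y, hyU⟩).asIdeal) := (kQ k X hU y hyU).toAlgebra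
  haveI : Algebra.FiniteType k (Γ(X, U) ⧸ (hU.primeIdealOf ⟨y, hyU⟩).asIdeal) :=
    kQ_finiteType k X hU y hyU
  have hh := Groth.Agent.Lib.Helper7.DimFT.height_eq_ringKrullDim_of_isMaximal k
    (Γ(X, U) ⧸ (hU.primeIdealOf ⟨y, hyU⟩).asIdeal)
    ((hU.primeIdealOf ⟨x, hxU⟩).asIdeal.map
      (Ideal.Quotient.mk (hU.primeIdealOf ⟨y, hyU⟩).asIdeal))
  have hheight : ((hU.primeIdealOf ⟨x, hxU⟩).asIdeal.map
      (Ideal.Quotient.mk (hU.primeIdealOf ⟨y, hyU⟩).asIdeal)).height = 1 := by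
    apply le_antisymm
    · have : ((hU.primeIdealOf ⟨x, hxU⟩).asIdeal.map
          (Ideal.Quotient.mk (hU.primeIdealOf ⟨y, hyU⟩).asIdeal)).height ≤ ((1 : ℕ) : ℕ∞) := by
        rw [Ideal.height_le_iff]
        intro p hp hpm
        have hpc : (p.comap (Ideal.Quotient.mk (hU.primeIdealOf ⟨y, hyU⟩).asIdeal)).IsPrime :=
          Ideal.comap_isPrime _ _
        obtain ⟨⟨z, hzU⟩, hz⟩ := exists_primeIdealOf_eq hU
          ⟨p.comap (Ideal.Quotient.mk (hU.primeIdealOf ⟨y, hyU⟩).asIdeal), hpc⟩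
        have hz' : (hU.primeIdealOf ⟨z, hzU⟩).asIdeal =
            p.comap (Ideal.Quotient.mk (hU.primeIdealOf ⟨y, hyU⟩).asIdeal) :=
          congrArg PrimeSpectrum.asIdeal hz
        have hyz : y ⤳ z := by
          rw [specializes_iff_primeIdealOf_le hU ⟨y, hyU⟩ ⟨z, hzU⟩, hz']
          intro a ha
          rw [Ideal.mem_comap, Ideal.Quotient.eq_zero_iff_mem.mpr ha]
          exact p.zero_mem
        have hzx : z ⤳ x := by
          rw [specializes_iff_primeIdealOf_le hU ⟨z, hzU⟩ ⟨x, hxU⟩, hz', ← hcm]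
          exact Ideal.comap_mono hpm.le
        have hmc : (p.comap (Ideal.Quotient.mk (hU.primeIdealOf ⟨y, hyU⟩).asIdeal)).map
            (Ideal.Quotient.mk (hU.primeIdealOf ⟨y, hyU⟩).asIdeal) = p :=
          Ideal.map_comap_of_surjective _ hsurj p
        rcases hbtw z hyz hzx with h | h
        · subst h
          have : p = ⊥ := by
            rw [← hmc, ← hz', Ideal.map_eq_bot_iff_le_ker, Ideal.mk_ker]
          rw [this, Ideal.height_bot]
          exact_mod_cast one_pos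
        · subst h
          exfalso
          have : p = (hU.primeIdealOf ⟨z, hxU⟩).asIdeal.map
              (Ideal.Quotient.mk (hU.primeIdealOf ⟨y, hyU⟩).asIdeal) := by
            rw [← hmc, ← hz']
          exact hpm.ne this
      exact_mod_cast this
    · rw [Order.one_le_iff_pos, pos_iff_ne_zero, Ne, Ideal.height_eq_zero_iff_eq_bot,
        Ideal.map_eq_bot_iff_le_ker, Ideal.mk_ker]
      intro hle'
      have heq : hU.primeIdealOf ⟨y, hyU⟩ = hU.primeIdealOf ⟨x, hxU⟩ :=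
        PrimeSpectrum.ext (le_antisymm hle hle')
      exact hne (congrArg Subtype.val (primeIdealOf_injective hU heq))
  rw [hheight, hs2] at hh
  have : (s : ℕ∞) = 1 := by
    have h1 : ((1 : ℕ∞) : WithBot ℕ∞) = ((s : ℕ∞) : WithBot ℕ∞) := by
      rw [hh]; rfl
    exact (WithBot.coe_inj.mp h1).symm
  have hs : s = 1 := by exact_mod_cast this
  rw [hs]; rfl

end K

end Groth.Agent.Lib.Helper21.ChartPt
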