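import Groth.Agent.Lib.Helper21.ChartPt3
import Groth.Agent.Lib.Helper16.Catenary

/-!
# The dimension formula `dim A/p₀ = ht (p/p₀) + dim A/p` for finitely generated algebras over a
field, and immediate specialisations in a chart
-/

set_option autoImplicit false
set_option linter.style.haveILetI false
set_option linter.unusedSectionVars false
universe u
open AlgebraicGeometry CategoryTheory Limits TopologicalSpace

namespace Groth.Agent.Lib.Helper21.ChartPt

open Groth.Agent.Lib.Helper21.NagDvr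

section Ring

variable (k : Type u) [Field k] (A : Type u) [CommRing A] [Algebra k A] [Algebra.FiniteType k A]

include k

theorem finiteType_quotient (I : Ideal A) : Algebra.FiniteType k (A ⧸ I) :=
  Algebra.FiniteType.of_surjective (Ideal.Quotient.mkₐ k I) (Ideal.Quotient.mkₐ_surjective k I)

/-- For a maximal ideal `m ⊇ p₀` of a finitely generated algebra over a field:
`ht (m/p₀) = dim A/p₀`. -/
theorem height_map_mk_eq_ringKrullDim_of_isMaximal (p₀ m : Ideal A) [p₀.IsPrime]
    [hm : m.IsMaximal] (h : p₀ ≤ m) :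
    ((m.map (Ideal.Quotient.mk p₀)).height : WithBot ℕ∞) = ringKrullDim (A ⧸ p₀) := by
  haveI := finiteType_quotient k A p₀
  have hsurj : Function.Surjective (Ideal.Quotient.mk p₀) := Ideal.Quotient.mk_surjective
  have hker : RingHom.ker (Ideal.Quotient.mk p₀) ≤ m := by rw [Ideal.mk_ker]; exact h
  have hmprime : (m.map (Ideal.Quotient.mk p₀)).IsPrime :=
    Ideal.map_isPrime_of_surjective hsurj hker
  haveI hmmax : (m.map (Ideal.Quotient.mk p₀)).IsMaximal :=
    (Ideal.map_eq_top_or_isMaximal_of_surjective _ hsurj hm).resolve_left hmprime.ne_top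
  exact Groth.Agent.Lib.Helper7.DimFT.height_eq_ringKrullDim_of_isMaximal k (A ⧸ p₀) _

/-- **Dimension formula**: for primes `p₀ ≤ p` of a finitely generated algebra over a field,
`dim A/p₀ = ht (p/p₀) + dim A/p`. -/
theorem ringKrullDim_quotient_eq_height_add (p₀ p : Ideal A) [p₀.IsPrime] [hp : p.IsPrime]
    (h : p₀ ≤ p) :
    ringKrullDim (A ⧸ p₀) =
      ((p.map (Ideal.Quotient.mk p₀)).height : WithBot ℕ∞) + ringKrullDim (A ⧸ p) := by
  obtain ⟨m, hm, hpm⟩ := Ideal.exists_le_maximal p hp.ne_top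
  obtain ⟨n, π, hπ⟩ := Algebra.FiniteType.iff_quotient_mvPolynomial''.mp
    (inferInstance : Algebra.FiniteType k A)
  haveI : IsRegularRing (MvPolynomial (Fin n) k) := inferInstance
  have h1 := Groth.Agent.Lib.Helper16.Cat.height_map_eq_add_of_surjective
    (MvPolynomial (Fin n) k) A π.toRingHom hπ p₀ p m h hpm
  rw [← height_map_mk_eq_ringKrullDim_of_isMaximal k A p₀ m (h.trans hpm),
    ← height_map_mk_eq_ringKrullDim_of_isMaximal k A p m hpm, h1]
  push_cast
  rfl

end Ring

section Imm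

variable {X : Scheme.{u}} {U : X.Opens} (hU : IsAffineOpen U)

/-- For an immediate specialisation `y ⤳ x` in an affine chart, the prime of `x` has height one
over the prime of `y`. -/
theorem height_map_mk_eq_one {x y : X} (hxU : x ∈ U) (hyU : y ∈ U) (hyx : y ⤳ x) (hne : y ≠ x)
    (hbtw : ∀ z : X, y ⤳ z → z ⤳ x → z = y ∨ z = x) :
    ((hU.primeIdealOf ⟨x, hxU⟩).asIdeal.map
      (Ideal.Quotient.mk (hU.primeIdealOf ⟨y, hyU⟩).asIdeal)).height = 1 := by
  have hle := (specializes_iff_primeIdealOf_le hU ⟨y, hyU⟩ ⟨x, hxU⟩).mp hyx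
  have hsurj : Function.Surjective (Ideal.Quotient.mk (hU.primeIdealOf ⟨y, hyU⟩).asIdeal) :=
    Ideal.Quotient.mk_surjective
  have hker : RingHom.ker (Ideal.Quotient.mk (hU.primeIdealOf ⟨y, hyU⟩).asIdeal) ≤
      (hU.primeIdealOf ⟨x, hxU⟩).asIdeal := by
    rw [Ideal.mk_ker]; exact hle
  have hcm : ((hU.primeIdealOf ⟨x, hxU⟩).asIdeal.map
      (Ideal.Quotient.mk (hU.primeIdealOf ⟨y, hyU⟩).asIdeal)).comap
      (Ideal.Quotient.mk (hU.primeIdealOf ⟨y, hyU⟩).asIdeal) =
      (hU.primeIdealOf ⟨x, hxU⟩).asIdeal := by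
    rw [Ideal.comap_map_of_surjective' _ hsurj]
    exact sup_eq_left.mpr hker
  have hmprime : ((hU.primeIdealOf ⟨x, hxU⟩).asIdeal.map
      (Ideal.Quotient.mk (hU.primeIdealOf ⟨y, hyU⟩).asIdeal)).IsPrime :=
    Ideal.map_isPrime_of_surjective hsurj hker
  apply le_antisymm
  · have : ((hU.primeIdealOf ⟨x, hxU⟩).asIdeal.map
        (Ideal.Quotient.mk (hU.primeIdealOf ⟨y, hyU⟩).asIdeal)).height ≤ ((1 : ℕ) : ℕ∞) := by
      rw [Ideal.height_le_iff]
      intro p hp hpm
      have hpc : (p.comap (Ideal.Quotient.mk (hU.primeIdealOf ⟨y, hyU⟩).asIdeal)).IsPrime :=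
        Ideal.comap_isPrime _ _
      obtain ⟨⟨z, hzU⟩, hz⟩ := exists_primeIdealOf_eq hU
        ⟨p.comap (Ideal.Quotient.mk (hU.primeIdealOf ⟨y, hyU⟩).asIdeal), hpc⟩
      have hz' : (hU.primeIdealOf ⟨z, hzU⟩).asIdeal =
          p.comap (Ideal.Quotient.mk (hU.primeIdealOf ⟨y, hyU⟩).asIdeal) :=
        congrArg PrimeSpectrum.asIdeal hz
      have hyz : y ⤳ z := by
        rw [specializes_iff_primeIdealOf_le hU ⟨y, hyU⟩ ⟨z, hzU⟩, hz']
        intro a ha
        rw [Ideal.mem_comap, Ideal.Quotient.eq_zero_iff_mem.mpr ha]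
        exact p.zero_mem
      have hzx : z ⤳ x := by
        rw [specializes_iff_primeIdealOf_le hU ⟨z, hzU⟩ ⟨x, hxU⟩, hz', ← hcm]
        exact Ideal.comap_mono hpm.le
      have hmc : (p.comap (Ideal.Quotient.mk (hU.primeIdealOf ⟨y, hyU⟩).asIdeal)).map
          (Ideal.Quotient.mk (hU.primeIdealOf ⟨y, hyU⟩).asIdeal) = p :=
        Ideal.map_comap_of_surjective _ hsurj p
      rcases hbtw z hyz hzx with h | h
      · subst h
        have : p = ⊥ := by
          rw [← hmc, ← hz', Ideal.map_eq_bot_iff_le_ker, Ideal.mk_ker]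
        rw [this, Ideal.height_bot]
        exact_mod_cast one_pos
      · subst h
        exfalso
        have : p = (hU.primeIdealOf ⟨z, hxU⟩).asIdeal.map
            (Ideal.Quotient.mk (hU.primeIdealOf ⟨y, hyU⟩).asIdeal) := by
          rw [← hmc, ← hz']
        exact hpm.ne this
    exact_mod_cast this
  · rw [Order.one_le_iff_pos, pos_iff_ne_zero, Ne, Ideal.height_eq_zero_iff_eq_bot,
      Ideal.map_eq_bot_iff_le_ker, Ideal.mk_ker]
    intro hle'
    have heq : hU.primeIdealOf ⟨y, hyU⟩ = hU.primeIdealOf ⟨x, hxU⟩ :=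
      PrimeSpectrum.ext (le_antisymm hle hle')
    exact hne (congrArg Subtype.val (primeIdealOf_injective hU heq))

end Imm

end Groth.Agent.Lib.Helper21.ChartPt
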