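import Mathlib

set_option autoImplicit false
universe u
open CategoryTheory CategoryTheory.Limits AlgebraicGeometry TopologicalSpace Opposite

namespace Groth.Agent.Lib.Helper21.Chev

theorem app_map_apply {X' Z : Scheme.{u}} (π : X' ⟶ Z) {U V : Z.Opens} (hVU : V ≤ U)
    (c : Γ(Z, U)) :
    π.app V (Z.presheaf.map (homOfLE hVU).op c) =
      X'.presheaf.map (homOfLE (π.preimage_mono hVU)).op (π.app U c) := by
  have := π.naturality (homOfLE hVU).op
  exact congr($this c)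

/-- Local-to-global: if all `π.app W` are injective and a section `a'` of `X'` over `π⁻¹U` is
locally (on `Z`) in the range of `π.app`, then it is in the range of `π.app U`. -/
theorem exists_app_eq_of_locally {X' Z : Scheme.{u}} (π : X' ⟶ Z)
    (hinj : ∀ W : Z.Opens, Function.Injective (π.app W)) (U : Z.Opens) (a' : Γ(X', π ⁻¹ᵁ U))
    (h : ∀ x ∈ U, ∃ (V : Z.Opens) (hVU : V ≤ U), x ∈ V ∧ ∃ c : Γ(Z, V),
      π.app V c = X'.presheaf.map (homOfLE (π.preimage_mono hVU)).op a') :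
    ∃ c : Γ(Z, U), π.app U c = a' := by
  classical
  choose V hVU hxV c hc using fun x : U => h x.1 x.2
  have hcover : U ≤ iSup V := by
    intro x hx
    exact Opens.mem_iSup.mpr ⟨⟨x, hx⟩, hxV ⟨x, hx⟩⟩
  have hcompat : TopCat.Presheaf.IsCompatible Z.sheaf.1 V c := by
    intro x y
    apply hinj
    change π.app _ (Z.presheaf.map (homOfLE (inf_le_left : V x ⊓ V y ≤ V x)).op (c x)) =
      π.app _ (Z.presheaf.map (homOfLE (inf_le_right : V x ⊓ V y ≤ V y)).op (c y))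
    rw [app_map_apply, app_map_apply, hc, hc]
    simp only [← CommRingCat.comp_apply, ← Functor.map_comp]
    rfl
  obtain ⟨c0, hc0, -⟩ := Z.sheaf.existsUnique_gluing' V U (fun x => homOfLE (hVU x)) hcover c hcompat
  refine ⟨c0, ?_⟩
  refine X'.sheaf.eq_of_locally_eq' (fun x : U => π ⁻¹ᵁ V x) (π ⁻¹ᵁ U)
    (fun x => homOfLE (π.preimage_mono (hVU x))) ?_ _ _ ?_
  · intro y hy
    exact Opens.mem_iSup.mpr ⟨⟨π y, hy⟩, hxV ⟨π y, hy⟩⟩
  · intro x
    have := hc0 x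
    change X'.presheaf.map _ (π.app U c0) = X'.presheaf.map _ a'
    rw [← hc x, ← this]
    exact (app_map_apply π (hVU x) c0).symm

noncomputable section

/-- The ideal sheaf generated by a global section. -/
abbrev VI (Z : Scheme.{u}) (j : Γ(Z, ⊤)) : Z.IdealSheafData :=
  Scheme.IdealSheafData.ofIdealTop (Ideal.span {j})

theorem VI_ideal (Z : Scheme.{u}) (j : Γ(Z, ⊤)) (U : Z.affineOpens) :
    (VI Z j).ideal U = Ideal.span {Z.presheaf.map (homOfLE (le_top : U.1 ≤ ⊤)).op j} := by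
  rw [Scheme.IdealSheafData.ofIdealTop_ideal, Ideal.map_span, Set.image_singleton]

theorem subschemeι_app_res_eq_zero (Z : Scheme.{u}) (j : Γ(Z, ⊤)) (U : Z.affineOpens) :
    (VI Z j).subschemeι.app U.1 (Z.presheaf.map (homOfLE (le_top : U.1 ≤ ⊤)).op j) = 0 := by
  have h := (VI Z j).ker_subschemeι_app U
  have : Z.presheaf.map (homOfLE (le_top : U.1 ≤ ⊤)).op j ∈ (VI Z j).ideal U := by
    rw [VI_ideal]; exact Ideal.mem_span_singleton_self _
  rw [← h] at this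
  exact this

variable {X' Z : Scheme.{u}} (π : X' ⟶ Z) (j : Γ(Z, ⊤))

theorem ker_le [IsAffineHom π] :
    (VI Z j).subschemeι.ker ≤ ((VI X' (π.appTop j)).subschemeι ≫ π).ker := by
  rw [Scheme.IdealSheafData.ker_subschemeι]
  refine Scheme.IdealSheafData.le_ofIdeals_iff.mpr fun U => ?_
  rw [VI_ideal, Ideal.span_le, Set.singleton_subset_iff]
  change _ ∈ RingHom.ker _
  rw [RingHom.mem_ker]
  change ((VI X' (π.appTop j)).subschemeι ≫ π).app U.1 _ = 0
  rw [Scheme.Hom.comp_app]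
  change (VI X' (π.appTop j)).subschemeι.app (π ⁻¹ᵁ U.1) (π.app U.1 _) = 0
  rw [app_map_apply]
  exact subschemeι_app_res_eq_zero X' (π.appTop j) ⟨π ⁻¹ᵁ U.1, U.2.preimage π⟩

/-- The induced morphism `V(π^* j) ⟶ V(j)`. -/
def lam [IsAffineHom π] : (VI X' (π.appTop j)).subscheme ⟶ (VI Z j).subscheme :=
  IsClosedImmersion.lift (VI Z j).subschemeι ((VI X' (π.appTop j)).subschemeι ≫ π) (ker_le π j)

theorem lam_fac [IsAffineHom π] :
    lam π j ≫ (VI Z j).subschemeι = (VI X' (π.appTop j)).subschemeι ≫ π :=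
  IsClosedImmersion.lift_fac _ _ _


theorem appLE_congr_hom {A B : Scheme.{u}} {f g : A ⟶ B} (h : f = g) (U : B.Opens) (W : A.Opens)
    (e : W ≤ f ⁻¹ᵁ U) (e' : W ≤ g ⁻¹ᵁ U) : f.appLE U W e = g.appLE U W e' := by
  subst h; rfl

/-- Local decomposition: if `a'` restricted to `V(j')` comes from a section `z` of `V(j)`,
then locally on `Z`, `a'` is of the form `π^* c₀ + j' a''`. -/
theorem exists_local_decomp [IsAffineHom π] (a' : Γ(X', ⊤)) (z : Γ((VI Z j).subscheme, ⊤))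
    (hz : (VI X' (π.appTop j)).subschemeι.appTop a' = (lam π j).appTop z)
    (V : Z.Opens) (hV : IsAffineOpen V) :
    ∃ (c₀ : Γ(Z, V)) (a'' : Γ(X', π ⁻¹ᵁ V)),
      X'.presheaf.map (homOfLE (le_top : π ⁻¹ᵁ V ≤ ⊤)).op a' =
        π.app V c₀ + X'.presheaf.map (homOfLE (le_top : π ⁻¹ᵁ V ≤ ⊤)).op (π.appTop j) * a'' := by
  set ι := (VI Z j).subschemeι with hι
  set ι' := (VI X' (π.appTop j)).subschemeι with hι'
  obtain ⟨c₀, hc₀⟩ := (VI Z j).subschemeι_app_surjective ⟨V, hV⟩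
    ((VI Z j).subscheme.presheaf.map (homOfLE (le_top : ι ⁻¹ᵁ V ≤ ⊤)).op z)
  have hW : IsAffineOpen (π ⁻¹ᵁ V) := hV.preimage π
  set d := X'.presheaf.map (homOfLE (le_top : π ⁻¹ᵁ V ≤ ⊤)).op a' - π.app V c₀ with hd
  have hd0 : ι'.app (π ⁻¹ᵁ V) d = 0 := by
    rw [hd, map_sub, sub_eq_zero]
    set W : (VI X' (π.appTop j)).subscheme.Opens := ι' ⁻¹ᵁ (π ⁻¹ᵁ V) with hWdef
    have e1 : ι'.app (π ⁻¹ᵁ V) (X'.presheaf.map (homOfLE (le_top : π ⁻¹ᵁ V ≤ ⊤)).op a') =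
        ι'.appLE ⊤ W le_top a' := by
      rw [Scheme.Hom.app_eq_appLE, ← CommRingCat.comp_apply, Scheme.Hom.map_appLE]
    have e2 : ι'.app (π ⁻¹ᵁ V) (π.app V c₀) = (ι' ≫ π).appLE V W le_rfl c₀ := by
      rw [Scheme.Hom.app_eq_appLE, Scheme.Hom.app_eq_appLE, ← CommRingCat.comp_apply,
        Scheme.Hom.appLE_comp_appLE]
    have hW' : W ≤ (lam π j) ⁻¹ᵁ (ι ⁻¹ᵁ V) := by
      rw [← Scheme.Hom.comp_preimage, lam_fac]; exact le_rfl
    have hW'' : W ≤ (lam π j ≫ ι) ⁻¹ᵁ V := hW'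
    have e3 : (ι' ≫ π).appLE V W le_rfl = (lam π j ≫ ι).appLE V W hW'' :=
      appLE_congr_hom (lam_fac π j).symm V W le_rfl hW''
    have e4 : (lam π j ≫ ι).appLE V W hW'' c₀ =
        (lam π j).appLE (ι ⁻¹ᵁ V) W hW' (ι.app V c₀) := by
      rw [Scheme.Hom.app_eq_appLE, ← CommRingCat.comp_apply, Scheme.Hom.appLE_comp_appLE]
    have e5 : (lam π j).appLE (ι ⁻¹ᵁ V) W hW' (ι.app V c₀) = (lam π j).appLE ⊤ W le_top z := by
      rw [hc₀, ← CommRingCat.comp_apply, Scheme.Hom.map_appLE]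
    have e6 : ι'.appLE ⊤ W le_top a' = (lam π j).appLE ⊤ W le_top z := by
      have h1 : ι'.appLE ⊤ W le_top a' =
          (VI X' (π.appTop j)).subscheme.presheaf.map (homOfLE (le_top : W ≤ ⊤)).op
            (ι'.appTop a') := rfl
      have h2 : (lam π j).appLE ⊤ W le_top z =
          (VI X' (π.appTop j)).subscheme.presheaf.map (homOfLE (le_top : W ≤ ⊤)).op
            ((lam π j).appTop z) := rfl
      rw [h1, h2, hz]
    rw [e1, e2, e3, e4, e5, e6]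
  have hmem : d ∈ (VI X' (π.appTop j)).ideal ⟨π ⁻¹ᵁ V, hW⟩ := by
    rw [← (VI X' (π.appTop j)).ker_subschemeι_app ⟨π ⁻¹ᵁ V, hW⟩]
    exact hd0
  rw [VI_ideal, Ideal.mem_span_singleton'] at hmem
  obtain ⟨a'', ha''⟩ := hmem
  refine ⟨c₀, a'', ?_⟩
  rw [mul_comm, ha'', hd]
  ring

/-- Descent lemma: a global section of `X'` whose restriction to `V(j')` comes from `V(j)` is
pulled back from `Z`. -/
theorem exists_appTop_eq [IsAffineHom π] (hinj : ∀ W : Z.Opens, Function.Injective (π.app W))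
    (hcond : ∀ x : Z, ∃ V : Z.Opens, IsAffineOpen V ∧ x ∈ V ∧ ∀ a : Γ(X', π ⁻¹ᵁ V),
      ∃ c : Γ(Z, V), π.app V c =
        X'.presheaf.map (homOfLE (le_top : π ⁻¹ᵁ V ≤ ⊤)).op (π.appTop j) * a)
    (a' : Γ(X', ⊤)) (z : Γ((VI Z j).subscheme, ⊤))
    (hz : (VI X' (π.appTop j)).subschemeι.appTop a' = (lam π j).appTop z) :
    ∃ a : Γ(Z, ⊤), π.appTop a = a' := by
  refine exists_app_eq_of_locally π hinj ⊤ a' fun x _ => ?_
  obtain ⟨V, hV, hxV, hc⟩ := hcond x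
  obtain ⟨c₀, a'', h⟩ := exists_local_decomp π j a' z hz V hV
  obtain ⟨c, hc⟩ := hc a''
  refine ⟨V, le_top, hxV, c₀ + c, ?_⟩
  rw [map_add, hc]
  exact h.symm

end

end Groth.Agent.Lib.Helper21.Chev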