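import Mathlib
import Groth.Agent.Lib.Helper21.Chev1

set_option autoImplicit false
universe u
open CategoryTheory CategoryTheory.Limits AlgebraicGeometry TopologicalSpace Opposite

namespace Groth.Agent.Lib.Helper21.Chev

theorem toSpecΓ_surjective (X : Scheme.{u}) [IsAffine X] : Function.Surjective X.toSpecΓ := by
  have : X.toSpecΓ = X.isoSpec.hom := rfl
  rw [this]
  exact X.isoSpec.hom.homeomorph.surjective

theorem mem_radical_of_zeroLocus_subset {X : Scheme.{u}} [IsAffine X] (I : Ideal Γ(X, ⊤))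
    (f : Γ(X, ⊤))
    (h : X.zeroLocus (U := ⊤) (I : Set Γ(X, ⊤)) ⊆ X.zeroLocus (U := ⊤) {f}) : f ∈ I.radical := by
  have hsub : PrimeSpectrum.zeroLocus (I : Set Γ(X, ⊤)) ⊆ PrimeSpectrum.zeroLocus {f} := by
    intro p hp
    obtain ⟨x, rfl⟩ := toSpecΓ_surjective X p
    have hx : x ∈ X.zeroLocus (U := ⊤) (I : Set Γ(X, ⊤)) := by
      rw [← Scheme.toSpecΓ_preimage_zeroLocus]; exact hp
    have h2 := h hx
    rw [← Scheme.toSpecΓ_preimage_zeroLocus] at h2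
    exact h2
  rw [← PrimeSpectrum.zeroLocus_span {f}, PrimeSpectrum.zeroLocus_subset_zeroLocus_iff] at hsub
  exact hsub (Ideal.subset_span rfl)

theorem mem_basicOpen_iff_notMem_asIdeal (X : Scheme.{u}) (f : Γ(X, ⊤)) (x : X) :
    x ∈ X.basicOpen f ↔ f ∉ (X.toSpecΓ x).asIdeal := by
  rw [← Scheme.toSpecΓ_preimage_basicOpen]
  rfl

noncomputable section

variable {X' Z : Scheme.{u}} (π : X' ⟶ Z) (j : Γ(Z, ⊤))

theorem subschemeι_appTop_eq_zero (Z : Scheme.{u}) [IsAffine Z] (j : Γ(Z, ⊤)) :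
    (VI Z j).subschemeι.appTop j = 0 := by
  have h := subschemeι_app_res_eq_zero Z j ⟨⊤, isAffineOpen_top Z⟩
  have h2 : Z.presheaf.map (homOfLE (le_top : (⊤ : Z.Opens) ≤ ⊤)).op j = j := by
    have : (homOfLE (le_top : (⊤ : Z.Opens) ≤ ⊤)) = 𝟙 _ := rfl
    rw [this, op_id, Z.presheaf.map_id]; rfl
  rw [h2] at h
  exact h

theorem mem_range_subschemeι_iff (Z : Scheme.{u}) (j : Γ(Z, ⊤)) (x : Z) :
    x ∈ Set.range (VI Z j).subschemeι ↔ x ∉ Z.basicOpen j := by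
  rw [Scheme.IdealSheafData.range_subschemeι, Scheme.IdealSheafData.coe_support_ofIdealTop,
    Scheme.zeroLocus_span, Scheme.mem_zeroLocus_iff]
  simp

theorem mem_basicOpen_appTop_iff (x' : X') (a : Γ(Z, ⊤)) :
    x' ∈ X'.basicOpen (π.appTop a) ↔ π x' ∈ Z.basicOpen a := by
  have h : x' ∈ π ⁻¹ᵁ Z.basicOpen a ↔ x' ∈ X'.basicOpen (π.app ⊤ a) := by
    rw [Scheme.preimage_basicOpen]
  exact h.symm

theorem lam_apply [IsAffineHom π] (y : (VI X' (π.appTop j)).subscheme) :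
    (VI Z j).subschemeι (lam π j y) = π ((VI X' (π.appTop j)).subschemeι y) := by
  have := congr($(lam_fac π j) y)
  simpa using this

theorem basicOpen_le_of_mem [Surjective π] (V : Z.Opens) (𝔱 : Ideal Γ(X', ⊤))
    (h𝔱 : (π ⁻¹' ((V : Set Z)ᶜ)) = X'.zeroLocus (U := ⊤) (𝔱 : Set Γ(X', ⊤))) (a : Γ(Z, ⊤))
    (ha : π.appTop a ∈ 𝔱) : Z.basicOpen a ≤ V := by
  intro z0 hz0
  by_contra hV
  obtain ⟨x0, rfl⟩ := π.surjective z0
  have h1 : x0 ∈ X'.zeroLocus (U := ⊤) (𝔱 : Set Γ(X', ⊤)) := by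
    rw [← h𝔱]; exact hV
  rw [Scheme.mem_zeroLocus_iff] at h1
  exact h1 _ ha ((mem_basicOpen_appTop_iff π x0 a).mpr hz0)

/-- The standing hypotheses of the pinching lemma. -/
structure PinchData : Prop where
  hinj : ∀ W : Z.Opens, Function.Injective (π.app W)
  hcond : ∀ x : Z, ∃ V : Z.Opens, IsAffineOpen V ∧ x ∈ V ∧ ∀ a : Γ(X', π ⁻¹ᵁ V),
      ∃ c : Γ(Z, V), π.app V c =
        X'.presheaf.map (homOfLE (le_top : π ⁻¹ᵁ V ≤ ⊤)).op (π.appTop j) * a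

variable {π j}

theorem exists_basicOpen_le_of_mem_range [IsAffine X'] [IsAffineHom π] [Surjective π]
    (hP : PinchData π j) [IsAffine (VI Z j).subscheme]
    (V : Z.Opens) (ζ : (VI Z j).subscheme) (hζ : (VI Z j).subschemeι ζ ∈ V) :
    ∃ a : Γ(Z, ⊤), (VI Z j).subschemeι ζ ∈ Z.basicOpen a ∧ Z.basicOpen a ≤ V := by
  obtain ⟨_, ⟨_, ⟨z, rfl⟩, rfl⟩, hζz, hzV⟩ := (isBasis_basicOpen (VI Z j).subscheme).exists_subset_of_mem_open
    (show ζ ∈ (((VI Z j).subschemeι ⁻¹ᵁ V : (VI Z j).subscheme.Opens) : Set _) from hζ)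
    ((VI Z j).subschemeι ⁻¹ᵁ V).isOpen
  obtain ⟨e₀, he₀⟩ := (VI X' (π.appTop j)).subschemeι_app_surjective ⟨⊤, isAffineOpen_top X'⟩
    ((lam π j).appTop z)
  replace he₀ : (VI X' (π.appTop j)).subschemeι.appTop e₀ = (lam π j).appTop z := he₀
  obtain ⟨𝔱, h𝔱⟩ := (Scheme.eq_zeroLocus_of_isClosed_of_isAffine X' (π ⁻¹' ((V : Set Z)ᶜ))).mp
    (V.isOpen.isClosed_compl.preimage π.continuous)
  have hrad : e₀ ∈ (𝔱 ⊔ Ideal.span {π.appTop j}).radical := by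
    apply mem_radical_of_zeroLocus_subset
    intro x' hx'
    rw [Scheme.mem_zeroLocus_iff] at hx' ⊢
    intro f hf
    rw [Set.mem_singleton_iff] at hf
    subst hf
    intro hxe
    have hT : x' ∈ X'.zeroLocus (U := ⊤) (𝔱 : Set Γ(X', ⊤)) := by
      rw [Scheme.mem_zeroLocus_iff]
      intro f hf
      exact hx' f (Ideal.mem_sup_left hf)
    rw [← h𝔱] at hT
    have hj : x' ∉ X'.basicOpen (π.appTop j) :=
      hx' _ (Ideal.mem_sup_right (Ideal.mem_span_singleton_self _))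
    obtain ⟨y, rfl⟩ := (mem_range_subschemeι_iff X' (π.appTop j) x').mpr hj
    have hy : y ∈ (VI X' (π.appTop j)).subscheme.basicOpen
        ((VI X' (π.appTop j)).subschemeι.appTop f) :=
      (mem_basicOpen_appTop_iff _ y f).mpr hxe
    rw [he₀] at hy
    have hy2 := (mem_basicOpen_appTop_iff (lam π j) y z).mp hy
    have hy3 : (VI Z j).subschemeι (lam π j y) ∈ V := hzV hy2
    rw [lam_apply] at hy3
    exact hT hy3
  obtain ⟨n, hn⟩ := hrad
  have hn' : e₀ ^ (n + 1) ∈ 𝔱 ⊔ Ideal.span {π.appTop j} := by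
    rw [pow_succ]; exact Ideal.mul_mem_right _ _ hn
  obtain ⟨i', hi', r, hr, hsum⟩ := Submodule.mem_sup.mp hn'
  obtain ⟨r', rfl⟩ := Ideal.mem_span_singleton'.mp hr
  have hie : (VI X' (π.appTop j)).subschemeι.appTop i' = (lam π j).appTop (z ^ (n + 1)) := by
    have h1 : i' = e₀ ^ (n + 1) - r' * π.appTop j := by rw [← hsum]; ring
    rw [h1, map_sub, map_mul, map_pow, subschemeι_appTop_eq_zero, mul_zero, sub_zero, he₀,
      map_pow]
  obtain ⟨a, ha⟩ := exists_appTop_eq π j hP.hinj hP.hcond i' (z ^ (n + 1)) hie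
  refine ⟨a, ?_, basicOpen_le_of_mem π V 𝔱 h𝔱 a (ha ▸ hi')⟩
  obtain ⟨x', hx'⟩ := π.surjective ((VI Z j).subschemeι ζ)
  rw [← hx', ← mem_basicOpen_appTop_iff, ha]
  have hj : x' ∉ X'.basicOpen (π.appTop j) := by
    rw [mem_basicOpen_appTop_iff, hx', ← mem_range_subschemeι_iff]
    exact ⟨ζ, rfl⟩
  obtain ⟨y, rfl⟩ := (mem_range_subschemeι_iff X' (π.appTop j) x').mpr hj
  rw [← mem_basicOpen_appTop_iff, hie, mem_basicOpen_appTop_iff]
  have hlam : lam π j y = ζ := by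
    apply (VI Z j).subschemeι.isEmbedding.injective
    rw [lam_apply, hx']
  rw [hlam, Scheme.basicOpen_pow _ _ (Nat.succ_pos n)]
  exact hζz

theorem exists_basicOpen_le_of_mem_basicOpen [IsAffine X'] [IsAffineHom π] [Surjective π]
    (hP : PinchData π j) (hfib : ∀ x : Z, (π ⁻¹' {x}).Finite)
    (V : Z.Opens) (x : Z) (hxV : x ∈ V) (hxj : x ∈ Z.basicOpen j) :
    ∃ a : Γ(Z, ⊤), x ∈ Z.basicOpen a ∧ Z.basicOpen a ≤ V := by
  classical
  obtain ⟨𝔱, h𝔱⟩ := (Scheme.eq_zeroLocus_of_isClosed_of_isAffine X' (π ⁻¹' ((V : Set Z)ᶜ))).mp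
    (V.isOpen.isClosed_compl.preimage π.continuous)
  obtain ⟨x'0, hx'0⟩ := π.surjective x
  set F : Finset X' := (hfib x).toFinset with hF
  set p : X' → Ideal Γ(X', ⊤) := fun x' => (X'.toSpecΓ x').asIdeal with hp
  have hnot : ¬ ((𝔱 : Set Γ(X', ⊤)) ⊆ ⋃ x' ∈ (F : Set X'), (p x' : Set Γ(X', ⊤))) := by
    rw [Ideal.subset_union_prime (R := Γ(X', ⊤)) (s := F) (f := p) x'0 x'0
      (fun i _ _ _ => (X'.toSpecΓ i).isPrime)]
    rintro ⟨x', hx'F, hle⟩
    have hx'x : π x' = x := by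
      have := (Set.Finite.mem_toFinset (hfib x)).mp hx'F
      exact this
    have hz : x' ∈ X'.zeroLocus (U := ⊤) (𝔱 : Set Γ(X', ⊤)) := by
      rw [Scheme.mem_zeroLocus_iff]
      intro f hf
      rw [mem_basicOpen_iff_notMem_asIdeal, not_not]
      exact hle hf
    rw [← h𝔱] at hz
    exact hz (hx'x ▸ hxV)
  obtain ⟨u, hu𝔱, hu⟩ := Set.not_subset.mp hnot
  have hie : (VI X' (π.appTop j)).subschemeι.appTop (π.appTop j * u) = (lam π j).appTop 0 := by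
    rw [map_mul, subschemeι_appTop_eq_zero, zero_mul, map_zero]
  obtain ⟨a, ha⟩ := exists_appTop_eq π j hP.hinj hP.hcond _ 0 hie
  refine ⟨a, ?_, basicOpen_le_of_mem π V 𝔱 h𝔱 a (ha ▸ Ideal.mul_mem_left _ _ hu𝔱)⟩
  rw [← hx'0, ← mem_basicOpen_appTop_iff, ha, Scheme.basicOpen_mul]
  refine ⟨(mem_basicOpen_appTop_iff π x'0 j).mpr (hx'0.symm ▸ hxj),
    (mem_basicOpen_iff_notMem_asIdeal X' u x'0).mpr fun hmem => ?_⟩
  · apply hu
    simp only [Set.mem_iUnion]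
    refine ⟨x'0, ?_, hmem⟩
    rw [hF]
    simpa using hx'0

/-- Claim 2 of the pinching lemma: basic opens of global sections inside any open
neighbourhood. -/
theorem exists_basicOpen_le [IsAffine X'] [IsAffineHom π] [Surjective π]
    (hP : PinchData π j) (hfib : ∀ x : Z, (π ⁻¹' {x}).Finite) [IsAffine (VI Z j).subscheme]
    (V : Z.Opens) (x : Z) (hxV : x ∈ V) :
    ∃ a : Γ(Z, ⊤), x ∈ Z.basicOpen a ∧ Z.basicOpen a ≤ V := by
  by_cases hxj : x ∈ Z.basicOpen j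
  · exact exists_basicOpen_le_of_mem_basicOpen hP hfib V x hxV hxj
  · obtain ⟨ζ, rfl⟩ := (mem_range_subschemeι_iff Z j x).mpr hxj
    exact exists_basicOpen_le_of_mem_range hP V ζ hxV

end

end Groth.Agent.Lib.Helper21.Chev
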