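import Mathlib
import Groth.Agent.Lib.Helper21.Chev2

set_option autoImplicit false
universe u
open CategoryTheory CategoryTheory.Limits AlgebraicGeometry TopologicalSpace Opposite

namespace Groth.Agent.Lib.Helper21.Chev

theorem span_eq_top_of_pinching {R R' Rb Rb' : Type*} [CommRing R] [CommRing R'] [CommRing Rb]
    [CommRing Rb'] (φ : R →+* R') (ψ : R →+* Rb) (ψ' : R' →+* Rb') (lam : Rb →+* Rb')
    (hcomm : ∀ r, ψ' (φ r) = lam (ψ r)) (hφ : Function.Injective φ)
    (hψ' : Function.Surjective ψ') (j : R) (hker : RingHom.ker ψ' = Ideal.span {φ j})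
    (hD : ∀ a' z, ψ' a' = lam z → ∃ a, φ a = a')
    {ι : Type*} [Fintype ι] (a : ι → R)
    (h1 : Ideal.span (Set.range (fun i => φ (a i))) = ⊤)
    (h2 : Ideal.span (Set.range (fun i => ψ (a i))) = ⊤) :
    Ideal.span (Set.range a) = ⊤ := by
  classical
  rw [Ideal.eq_top_iff_one, Ideal.mem_span_range_iff_exists_fun]
  obtain ⟨r', hr'⟩ := Ideal.mem_span_range_iff_exists_fun.mp
    ((Ideal.eq_top_iff_one _).mp h1)
  obtain ⟨z, hz⟩ := Ideal.mem_span_range_iff_exists_fun.mp
    ((Ideal.eq_top_iff_one _).mp h2)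
  choose t ht using fun i => hψ' (lam (z i))
  have hmem : ∑ i, t i * φ (a i) - 1 ∈ RingHom.ker ψ' := by
    rw [RingHom.mem_ker, map_sub, map_sum, map_one]
    simp only [map_mul, ht, hcomm]
    simp only [← map_mul, ← map_sum, hz, map_one, sub_self]
  rw [hker, Ideal.mem_span_singleton'] at hmem
  obtain ⟨h, hh⟩ := hmem
  have hs : ∀ i, ∃ c, φ c = t i - h * φ j * r' i := by
    intro i
    apply hD _ (z i)
    have hj : ψ' (φ j) = 0 := by
      have : φ j ∈ RingHom.ker ψ' := by rw [hker]; exact Ideal.mem_span_singleton_self _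
      exact this
    rw [map_sub, map_mul, map_mul, hj, mul_zero, zero_mul, sub_zero, ht]
  choose c hc using hs
  refine ⟨c, hφ ?_⟩
  rw [map_sum, map_one]
  simp only [map_mul, hc]
  have : ∑ x, (t x - h * φ j * r' x) * φ (a x) =
      ∑ i, t i * φ (a i) - h * φ j * ∑ i, r' i * φ (a i) := by
    rw [Finset.mul_sum, ← Finset.sum_sub_distrib]
    refine Finset.sum_congr rfl fun i _ => ?_
    ring
  rw [this, hr', mul_one]
  have hh' : ∑ i, t i * φ (a i) = h * φ j + 1 := by rw [hh]; ring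
  rw [hh']
  ring

theorem span_range_appTop_eq_top {Y Z : Scheme.{u}} (f : Y ⟶ Z) [IsAffine Y] {ι : Type*}
    (a : ι → Γ(Z, ⊤)) (h : ∀ y : Y, ∃ i, f y ∈ Z.basicOpen (a i)) :
    Ideal.span (Set.range (fun i => f.appTop.hom (a i))) = ⊤ := by
  rw [← (isAffineOpen_top Y).self_le_iSup_basicOpen_iff]
  intro y _
  obtain ⟨i, hi⟩ := h y
  rw [Opens.mem_iSup]
  exact ⟨⟨_, i, rfl⟩, (mem_basicOpen_appTop_iff f y (a i)).mpr hi⟩

theorem ker_subschemeι_appTop (Z : Scheme.{u}) [IsAffine Z] (j : Γ(Z, ⊤)) :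
    RingHom.ker (VI Z j).subschemeι.appTop.hom = Ideal.span {j} := by
  have h := (VI Z j).ker_subschemeι_app ⟨⊤, isAffineOpen_top Z⟩
  rw [VI_ideal] at h
  have h2 : Z.presheaf.map (homOfLE (le_top : (⊤ : Z.Opens) ≤ ⊤)).op j = j := by
    have : (homOfLE (le_top : (⊤ : Z.Opens) ≤ ⊤)) = 𝟙 _ := rfl
    rw [this, op_id, Z.presheaf.map_id]; rfl
  rw [h2] at h
  exact h

/-- **Pinching lemma.** Let `π : X' ⟶ Z` be an affine surjective morphism with finite fibres from
an affine scheme such that `𝒪_Z → π_* 𝒪_X'` is injective, and let `j` be a global section of `Z`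
with `V(j)` affine and `j · π_* 𝒪_X' ⊆ 𝒪_Z` (locally). Then `Z` is affine. -/
theorem isAffine_of_pinching {X' Z : Scheme.{u}} (π : X' ⟶ Z) (j : Γ(Z, ⊤)) [IsAffine X']
    [IsAffineHom π] [Surjective π] (hP : PinchData π j) (hfib : ∀ x : Z, (π ⁻¹' {x}).Finite)
    [IsAffine (VI Z j).subscheme] : IsAffine Z := by
  classical
  have hcpt : CompactSpace Z :=
    ⟨by rw [← π.surjective.range_eq]; exact isCompact_range π.continuous⟩
  have h : ∀ x : Z, ∃ a : Γ(Z, ⊤), x ∈ Z.basicOpen a ∧ IsAffineOpen (Z.basicOpen a) := by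
    intro x
    obtain ⟨_, ⟨V, hV, rfl⟩, hxV, -⟩ :=
      Z.isBasis_affineOpens.exists_subset_of_mem_open (Set.mem_univ x) isOpen_univ
    obtain ⟨a, hxa, haV⟩ := exists_basicOpen_le hP hfib V x hxV
    refine ⟨a, hxa, ?_⟩
    have := hV.basicOpen (Z.presheaf.map (homOfLE (le_top : V ≤ ⊤)).op a)
    rwa [Scheme.basicOpen_res, inf_eq_right.mpr haV] at this
  choose a hxa haff using h
  obtain ⟨t, ht⟩ := isCompact_univ.elim_finite_subcover (fun x => (Z.basicOpen (a x) : Set Z))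
    (fun x => (Z.basicOpen (a x)).isOpen) (fun x _ => Set.mem_iUnion.mpr ⟨x, hxa x⟩)
  have hcov : ∀ z : Z, ∃ i : t, z ∈ Z.basicOpen (a i) := by
    intro z
    have := ht (Set.mem_univ z)
    simp only [Set.mem_iUnion] at this
    obtain ⟨i, hi, hz⟩ := this
    exact ⟨⟨i, hi⟩, hz⟩
  refine isAffine_of_isAffineOpen_basicOpen (X := Z) (Set.range (fun i : t => a i)) ?_ ?_
  · refine span_eq_top_of_pinching π.appTop.hom (VI Z j).subschemeι.appTop.hom
      (VI X' (π.appTop j)).subschemeι.appTop.hom (lam π j).appTop.hom ?_ (hP.hinj ⊤)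
      ((VI X' (π.appTop j)).subschemeι_app_surjective ⟨⊤, isAffineOpen_top X'⟩) j
      (ker_subschemeι_appTop X' (π.appTop j))
      (fun a' z hz => exists_appTop_eq π j hP.hinj hP.hcond a' z hz) (fun i : t => a i)
      (span_range_appTop_eq_top π _ fun y => hcov (π y))
      (span_range_appTop_eq_top (VI Z j).subschemeι _ fun y => hcov _)
    intro r
    have := congr($(lam_fac π j).appTop r)
    simpa using this.symm
  · rintro _ ⟨i, rfl⟩
    exact haff i

end Groth.Agent.Lib.Helper21.Chev
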