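import Mathlib
import Groth.Agent.Lib.Helper21.Chev3

set_option autoImplicit false
universe u
open CategoryTheory CategoryTheory.Limits AlgebraicGeometry TopologicalSpace Opposite

namespace Groth.Agent.Lib.Helper21.Chev

noncomputable section

variable {F : Type u} [CommRing F]

/-- Evaluation of sections at a `Spec F`-point. -/
def ev {T : Scheme.{u}} (t : Spec (.of F) ⟶ T) (U : T.Opens) (hU : ⊤ ≤ t ⁻¹ᵁ U) : Γ(T, U) →+* F :=
  ((Scheme.ΓSpecIso (.of F)).hom.hom).comp (t.appLE U ⊤ hU).hom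

theorem ev_apply {T : Scheme.{u}} (t : Spec (.of F) ⟶ T) (U : T.Opens) (hU : ⊤ ≤ t ⁻¹ᵁ U)
    (s : Γ(T, U)) : ev t U hU s = (Scheme.ΓSpecIso (.of F)).hom (t.appLE U ⊤ hU s) := rfl

theorem ev_map {T : Scheme.{u}} (t : Spec (.of F) ⟶ T) {U U' : T.Opens} (hle : U' ≤ U)
    (hU' : ⊤ ≤ t ⁻¹ᵁ U') (s : Γ(T, U)) :
    ev t U' hU' (T.presheaf.map (homOfLE hle).op s) =
      ev t U (hU'.trans (t.preimage_mono hle)) s := by
  rw [ev_apply, ev_apply]
  congr 1
  have := Scheme.Hom.map_appLE t hU' (homOfLE hle).op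
  exact congr($this s)

theorem ev_comp {T T' : Scheme.{u}} (t : Spec (.of F) ⟶ T) (p : T ⟶ T') (U' : T'.Opens)
    (h : ⊤ ≤ (t ≫ p) ⁻¹ᵁ U') (h' : ⊤ ≤ t ⁻¹ᵁ (p ⁻¹ᵁ U')) (s : Γ(T', U')) :
    ev (t ≫ p) U' h s = ev t (p ⁻¹ᵁ U') h' (p.app U' s) := by
  rw [ev_apply, ev_apply]
  congr 1

theorem ev_SpecMap {F' : Type u} [CommRing F'] {T : Scheme.{u}} (ψ : F →+* F')
    (t : Spec (.of F) ⟶ T) (U : T.Opens) (hU : ⊤ ≤ t ⁻¹ᵁ U)
    (h : ⊤ ≤ (Spec.map (CommRingCat.ofHom ψ) ≫ t) ⁻¹ᵁ U) (s : Γ(T, U)) :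
    ev (Spec.map (CommRingCat.ofHom ψ) ≫ t) U h s = ψ (ev t U hU s) := by
  have h1 : (Spec.map (CommRingCat.ofHom ψ) ≫ t).appLE U ⊤ h =
      t.appLE U ⊤ hU ≫ (Spec.map (CommRingCat.ofHom ψ)).appLE ⊤ ⊤ le_top := by
    rw [Scheme.Hom.appLE_comp_appLE]
  have h2 : (Spec.map (CommRingCat.ofHom ψ)).appLE ⊤ ⊤ le_top =
      (Spec.map (CommRingCat.ofHom ψ)).appTop :=
    (Scheme.Hom.app_eq_appLE (f := Spec.map (CommRingCat.ofHom ψ)) (U := ⊤)).symm
  have h3 := Scheme.ΓSpecIso_naturality (CommRingCat.ofHom ψ)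
  rw [ev_apply, ev_apply, h1, h2, CommRingCat.comp_apply, ← CommRingCat.comp_apply, h3]
  rfl

theorem map_injective_of_le {X : Scheme.{u}} {U V : X.Opens} (h1 : U ≤ V) (h2 : V ≤ U) :
    Function.Injective (X.presheaf.map (homOfLE h1).op) := by
  have : X.presheaf.map (homOfLE h1).op ≫ X.presheaf.map (homOfLE h2).op = 𝟙 _ := by
    rw [← Functor.map_comp, ← X.presheaf.map_id]
    rfl
  have e : ∀ x, X.presheaf.map (homOfLE h2).op (X.presheaf.map (homOfLE h1).op x) = x := by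
    intro x
    rw [← CommRingCat.comp_apply, this]; rfl
  intro a b hab
  rw [← e a, ← e b, hab]

theorem ev_injective {T : Scheme.{u}} (t : Spec (.of F) ⟶ T) [IsSchemeTheoreticallyDominant t]
    [QuasiCompact t] (U : T.Opens) (hU : ⊤ ≤ t ⁻¹ᵁ U) : Function.Injective (ev t U hU) := by
  intro a b hab
  rw [ev_apply, ev_apply] at hab
  have h1 := (ConcreteCategory.bijective_of_isIso (Scheme.ΓSpecIso (.of F)).hom).1 hab
  have h2 : t.appLE U ⊤ hU = t.app U ≫ (Spec (.of F)).presheaf.map (homOfLE hU).op := rfl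
  rw [h2, CommRingCat.comp_apply, CommRingCat.comp_apply] at h1
  exact t.app_injective U (map_injective_of_le hU le_top h1)

theorem map_surjective_of_le {X : Scheme.{u}} {U V : X.Opens} (h1 : U ≤ V) (h2 : V ≤ U) :
    Function.Surjective (X.presheaf.map (homOfLE h1).op) := by
  have : X.presheaf.map (homOfLE h2).op ≫ X.presheaf.map (homOfLE h1).op = 𝟙 _ := by
    rw [← Functor.map_comp, ← X.presheaf.map_id]
    rfl
  intro x
  refine ⟨X.presheaf.map (homOfLE h2).op x, ?_⟩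
  rw [← CommRingCat.comp_apply, this]; rfl

section Normalization

variable {Z : Scheme.{u}} (f : Spec (.of F) ⟶ Z) [QuasiCompact f] [QuasiSeparated f]

theorem top_le_toNormalization_preimage (V : Z.Opens) (hV' : ⊤ ≤ f ⁻¹ᵁ V) :
    ⊤ ≤ f.toNormalization ⁻¹ᵁ (f.fromNormalization ⁻¹ᵁ V) := by
  rw [← Scheme.Hom.comp_preimage, Scheme.Hom.toNormalization_fromNormalization]; exact hV'

instance : IsSchemeTheoreticallyDominant f.toNormalization := ⟨f.ker_toNormalization⟩

theorem mem_range_ev_toNormalization_iff (V : Z.Opens) (hV : IsAffineOpen V)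
    (hV' : ⊤ ≤ f ⁻¹ᵁ V) (x : F) :
    x ∈ Set.range (ev f.toNormalization (f.fromNormalization ⁻¹ᵁ V)
      (top_le_toNormalization_preimage f V hV')) ↔ (ev f V hV').IsIntegralElem x := by
  let := (f.app V).hom.toAlgebra
  have key := f.normalizationObjIso_hom_val hV
  set iso := f.normalizationObjIso hV with hiso
  set r : Γ(Spec (.of F), f ⁻¹ᵁ V) →+* F := ((Scheme.ΓSpecIso (.of F)).hom.hom).comp
    ((Spec (.of F)).presheaf.map (homOfLE hV').op).hom with hr
  have hr_inj : Function.Injective r :=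
    (ConcreteCategory.bijective_of_isIso (Scheme.ΓSpecIso (.of F)).hom).1.comp
      (map_injective_of_le hV' le_top)
  have hr_surj : Function.Surjective r :=
    (ConcreteCategory.bijective_of_isIso (Scheme.ΓSpecIso (.of F)).hom).2.comp
      (map_surjective_of_le hV' le_top)
  have h1 : ∀ s, ev f.toNormalization (f.fromNormalization ⁻¹ᵁ V)
      (top_le_toNormalization_preimage f V hV') s = r ((iso.hom s).1) := by
    intro s
    have e1 := congr($key s)
    rw [ev_apply]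
    have e2 := Scheme.Hom.appLE_map f.toNormalization
      (show f ⁻¹ᵁ V ≤ f.toNormalization ⁻¹ᵁ (f.fromNormalization ⁻¹ᵁ V) by
        simp [← Scheme.Hom.comp_preimage]) (homOfLE hV').op
    have e3 := congr($e2 s)
    rw [← e3, CommRingCat.comp_apply, ← e1]
    rfl
  have h2 : ev f V hV' = r.comp (f.app V).hom := rfl
  constructor
  · rintro ⟨s, rfl⟩
    obtain ⟨p, hp, hp0⟩ := (iso.hom s).2
    refine ⟨p, hp, ?_⟩
    rw [h1, h2, ← Polynomial.hom_eval₂]
    have : Polynomial.eval₂ (f.app V).hom ((iso.hom s).1) p = 0 := hp0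
    rw [this, map_zero]
  · rintro ⟨p, hp, hp0⟩
    obtain ⟨y, rfl⟩ := hr_surj x
    have hy : y ∈ integralClosure Γ(Z, V) Γ(Spec (.of F), f ⁻¹ᵁ V) := by
      refine ⟨p, hp, hr_inj ?_⟩
      rw [map_zero]
      have := Polynomial.hom_eval₂ p (f.app V).hom r y
      rw [h2] at hp0
      rw [← hp0]
      exact this
    refine ⟨iso.inv ⟨y, hy⟩, ?_⟩
    rw [h1]
    have : iso.hom (iso.inv ⟨y, hy⟩) = ⟨y, hy⟩ := by
      rw [← CommRingCat.comp_apply, Iso.inv_hom_id]; rfl
    rw [this]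

/-- Gluing: an element of `F` which is integral over `Γ(Z, V)` for enough affine opens `V` is
a global section of the normalization. -/
theorem exists_global_section_normalization (x : F)
    (hcov : ∀ z : Z, ∃ V : Z.Opens, IsAffineOpen V ∧ z ∈ V ∧ ∃ hV' : ⊤ ≤ f ⁻¹ᵁ V,
      (ev f V hV').IsIntegralElem x) :
    ∃ s : Γ(f.normalization, ⊤), ev f.toNormalization ⊤ le_top s = x := by
  have hloc : ∀ n ∈ (⊤ : f.normalization.Opens), ∃ (W : f.normalization.Opens) (hW : W ≤ ⊤), n ∈ W ∧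
      ∃ c : Γ(f.normalization, W), f.toNormalization.app W c =
        (Spec (.of F)).presheaf.map (homOfLE (f.toNormalization.preimage_mono hW)).op
          ((Scheme.ΓSpecIso (.of F)).inv x) := by
    intro n _
    obtain ⟨V, hV, hnV, hV', hint⟩ := hcov (f.fromNormalization n)
    obtain ⟨s, hs⟩ := (mem_range_ev_toNormalization_iff f V hV hV' x).mpr hint
    refine ⟨f.fromNormalization ⁻¹ᵁ V, le_top, hnV, s, ?_⟩
    have hτ := top_le_toNormalization_preimage f V hV'
    apply map_injective_of_le hτ le_top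
    apply (ConcreteCategory.bijective_of_isIso (Scheme.ΓSpecIso (.of F)).hom).1
    have e1 : (Scheme.ΓSpecIso (.of F)).hom ((Spec (.of F)).presheaf.map (homOfLE hτ).op
        (f.toNormalization.app (f.fromNormalization ⁻¹ᵁ V) s)) = x := hs
    rw [e1]
    have e3 : ∀ y : Γ(Spec (.of F), f.toNormalization ⁻¹ᵁ ⊤),
        (Spec (.of F)).presheaf.map (homOfLE hτ).op
          ((Spec (.of F)).presheaf.map (homOfLE (f.toNormalization.preimage_mono
            (le_top : f.fromNormalization ⁻¹ᵁ V ≤ ⊤))).op y) = y := by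
      intro y
      rw [← CommRingCat.comp_apply, ← Functor.map_comp]
      have e2 : (Spec (.of F)).presheaf.map ((homOfLE (f.toNormalization.preimage_mono
          (le_top : f.fromNormalization ⁻¹ᵁ V ≤ ⊤))).op ≫ (homOfLE hτ).op) = 𝟙 _ := by
        rw [← (Spec (.of F)).presheaf.map_id]; rfl
      rw [e2]; rfl
    rw [e3, ← CommRingCat.comp_apply, Iso.inv_hom_id]; rfl
  obtain ⟨c, hc⟩ := exists_app_eq_of_locally f.toNormalization
    (fun W => f.toNormalization.app_injective W) ⊤ ((Scheme.ΓSpecIso (.of F)).inv x) hloc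
  refine ⟨c, ?_⟩
  rw [ev_apply]
  have h0 := (Scheme.Hom.app_eq_appLE (f := f.toNormalization) (U := ⊤)).symm
  have : f.toNormalization.appLE ⊤ ⊤ le_top c = f.toNormalization.app ⊤ c := congr($h0 c)
  rw [this, hc, ← CommRingCat.comp_apply, Iso.inv_hom_id]; rfl

end Normalization

end

end Groth.Agent.Lib.Helper21.Chev
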