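import Mathlib
import Groth.Agent.Lib.Helper21.Chev4

set_option autoImplicit false
universe u
open CategoryTheory CategoryTheory.Limits AlgebraicGeometry TopologicalSpace Opposite Polynomial

namespace Groth.Agent.Lib.Helper21.Chev

/-- Ring lemma: if `μ` is a monic polynomial over `A` which divides every polynomial killing
`b ∈ E` (`E` integral over `A`) and the constant coefficient of `μ` lies in a prime `p`, then
there is a prime of `E` over `p` containing `b`. -/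
theorem exists_prime_comap_eq_of_coeff_zero_mem {A E : Type*} [CommRing A] [CommRing E]
    (ψ : A →+* E) (hψ : ψ.IsIntegral) (b : E) (μ : A[X])
    (hmin : ∀ f : A[X], f.eval₂ ψ b = 0 → μ ∣ f)
    (p : Ideal A) [p.IsPrime] (h0 : μ.coeff 0 ∈ p) :
    ∃ P : Ideal E, P.IsPrime ∧ P.comap ψ = p ∧ b ∈ P := by
  set Φ : A[X] →+* E := eval₂RingHom ψ b with hΦ
  set θ : A[X] →+* A ⧸ p := (Ideal.Quotient.mk p).comp (evalRingHom 0) with hθ
  have hθμ : θ μ = 0 := by
    rw [hθ, RingHom.comp_apply, coe_evalRingHom, ← coeff_zero_eq_eval_zero,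
      Ideal.Quotient.eq_zero_iff_mem]
    exact h0
  have hQ : (RingHom.ker θ).IsPrime := RingHom.ker_isPrime θ
  have hker : RingHom.ker Φ ≤ RingHom.ker θ := by
    intro f hf
    obtain ⟨g, rfl⟩ := hmin f hf
    rw [RingHom.mem_ker, map_mul, hθμ, zero_mul]
  have hΦint : Φ.IsIntegral := by
    have : Φ.comp C = ψ := by ext a; simp [hΦ]
    exact RingHom.IsIntegral.tower_top C Φ (this ▸ hψ)
  let := Φ.toAlgebra
  have : Algebra.IsIntegral A[X] E := ⟨hΦint⟩
  obtain ⟨P, -, hP, hPQ⟩ := Ideal.exists_ideal_over_prime_of_isIntegral (RingHom.ker θ)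
    (⊥ : Ideal E) (by
      intro f hf
      exact hker (by simpa [RingHom.algebraMap_toAlgebra] using hf))
  have hPQ' : P.comap Φ = RingHom.ker θ := hPQ
  refine ⟨P, hP, ?_, ?_⟩
  · ext a
    have h1 : a ∈ P.comap ψ ↔ C a ∈ P.comap Φ := by
      simp only [Ideal.mem_comap]
      have : Φ (C a) = ψ a := by simp [hΦ]
      rw [this]
    rw [h1, hPQ', RingHom.mem_ker, hθ, RingHom.comp_apply, coe_evalRingHom, eval_C,
      Ideal.Quotient.eq_zero_iff_mem]
  · have hX : (X : A[X]) ∈ P.comap Φ := by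
      rw [hPQ', RingHom.mem_ker, hθ, RingHom.comp_apply, coe_evalRingHom, eval_X, map_zero]
    have : Φ X = b := by simp [hΦ]
    rw [Ideal.mem_comap, this] at hX
    exact hX

noncomputable section

theorem ev_congr {F : Type u} [CommRing F] {T : Scheme.{u}} {t t' : Spec (.of F) ⟶ T} (h : t = t')
    (U : T.Opens) (hU : ⊤ ≤ t ⁻¹ᵁ U) (hU' : ⊤ ≤ t' ⁻¹ᵁ U) (s : Γ(T, U)) :
    ev t U hU s = ev t' U hU' s := by
  subst h; rfl

section Norm

variable {K L : Type u} [Field K] [Field L] (φ : K →+* L) {Z : Scheme.{u}}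
  (ηZ : Spec (.of K) ⟶ Z) [QuasiCompact ηZ] [QuasiSeparated ηZ]

/-- The composite `Spec L ⟶ Spec K ⟶ Z`. -/
abbrev qL : Spec (.of L) ⟶ Z := Spec.map (CommRingCat.ofHom φ) ≫ ηZ

/-- The canonical morphism between normalizations `N_L ⟶ N_K`. -/
def rho : (qL φ ηZ).normalization ⟶ ηZ.normalization :=
  (qL φ ηZ).normalizationDesc (Spec.map (CommRingCat.ofHom φ) ≫ ηZ.toNormalization)
    ηZ.fromNormalization (by simp [qL])

theorem toNormalization_rho : (qL φ ηZ).toNormalization ≫ rho φ ηZ =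
    Spec.map (CommRingCat.ofHom φ) ≫ ηZ.toNormalization :=
  Scheme.Hom.toNormalization_normalizationDesc ..

theorem rho_fromNormalization : rho φ ηZ ≫ ηZ.fromNormalization =
    (qL φ ηZ).fromNormalization :=
  Scheme.Hom.normalizationDesc_comp ..

instance : IsIntegralHom (rho φ ηZ) := by
  unfold rho; infer_instance

theorem top_le_rho_preimage (U : ηZ.normalization.Opens) (hU : ⊤ ≤ ηZ.toNormalization ⁻¹ᵁ U) :
    ⊤ ≤ (qL φ ηZ).toNormalization ⁻¹ᵁ (rho φ ηZ ⁻¹ᵁ U) := by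
  rw [← Scheme.Hom.comp_preimage, toNormalization_rho, Scheme.Hom.comp_preimage]
  intro x _
  exact hU (Set.mem_univ _)

/-- Compatibility of evaluations. -/
theorem ev_rho_app (U : ηZ.normalization.Opens) (hU : ⊤ ≤ ηZ.toNormalization ⁻¹ᵁ U)
    (s : Γ(ηZ.normalization, U)) :
    ev (qL φ ηZ).toNormalization (rho φ ηZ ⁻¹ᵁ U) (top_le_rho_preimage φ ηZ U hU)
      ((rho φ ηZ).app U s) = φ (ev ηZ.toNormalization U hU s) := by
  have h1 : ⊤ ≤ ((qL φ ηZ).toNormalization ≫ rho φ ηZ) ⁻¹ᵁ U := top_le_rho_preimage φ ηZ U hU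
  have h2 : ⊤ ≤ (Spec.map (CommRingCat.ofHom φ) ≫ ηZ.toNormalization) ⁻¹ᵁ U := by
    rw [← toNormalization_rho]; exact h1
  rw [← ev_comp _ _ U h1, ev_congr (toNormalization_rho φ ηZ) U h1 h2, ev_SpecMap φ _ U hU]

theorem top_le_qL_preimage (V : Z.Opens) (hV : ⊤ ≤ ηZ ⁻¹ᵁ V) : ⊤ ≤ (qL φ ηZ) ⁻¹ᵁ V := by
  rw [Scheme.Hom.comp_preimage]
  intro x _
  exact hV (Set.mem_univ _)

theorem ev_qL (V : Z.Opens) (hV : ⊤ ≤ ηZ ⁻¹ᵁ V) (a : Γ(Z, V)) :
    ev (qL φ ηZ) V (top_le_qL_preimage φ ηZ V hV) a = φ (ev ηZ V hV a) :=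
  ev_SpecMap φ ηZ V hV _ a

theorem isIntegralElem_ev_global (w : Γ((qL φ ηZ).normalization, ⊤)) (V : Z.Opens)
    (hV : IsAffineOpen V) (hV' : ⊤ ≤ ηZ ⁻¹ᵁ V) :
    (ev (qL φ ηZ) V (top_le_qL_preimage φ ηZ V hV')).IsIntegralElem
      (ev (qL φ ηZ).toNormalization ⊤ le_top w) := by
  rw [← mem_range_ev_toNormalization_iff (qL φ ηZ) V hV (top_le_qL_preimage φ ηZ V hV')]
  exact ⟨(qL φ ηZ).normalization.presheaf.map (homOfLE le_top).op w, ev_map _ _ _ _⟩

/-- The minimal polynomial of a global section of `N_L` over `K` lifts to a monic polynomial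
with coefficients global sections of `N_K`, which is still "minimal" over every open. -/
theorem exists_minimal_monic (hgen : ∀ V : Z.Opens, (V : Set Z).Nonempty → ⊤ ≤ ηZ ⁻¹ᵁ V)
    (w : Γ((qL φ ηZ).normalization, ⊤)) :
    ∃ μ : Γ(ηZ.normalization, ⊤)[X], μ.Monic ∧ μ.eval₂ (rho φ ηZ).appTop.hom w = 0 ∧
      ∀ (U : ηZ.normalization.Opens) (hU : ⊤ ≤ ηZ.toNormalization ⁻¹ᵁ U)
        (f : Γ(ηZ.normalization, U)[X]),
        f.eval₂ ((rho φ ηZ).app U).hom
          ((qL φ ηZ).normalization.presheaf.map (homOfLE (le_top : rho φ ηZ ⁻¹ᵁ U ≤ ⊤)).op w) = 0 →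
        μ.map (ηZ.normalization.presheaf.map (homOfLE (le_top : U ≤ ⊤)).op).hom ∣ f := by
  let := φ.toAlgebra
  set l : L := ev (qL φ ηZ).toNormalization ⊤ le_top w with hl
  set evK := ev ηZ.toNormalization ⊤ le_top with hevK
  -- integrality over affine opens
  have hint : ∀ (V : Z.Opens) (hV : IsAffineOpen V) (hV' : ⊤ ≤ ηZ ⁻¹ᵁ V),
      ∃ p : Γ(Z, V)[X], p.Monic ∧ (p.map (ev ηZ V hV')).eval₂ φ l = 0 := by
    intro V hV hV'
    obtain ⟨p, hp, hp0⟩ := isIntegralElem_ev_global φ ηZ w V hV hV'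
    refine ⟨p, hp, ?_⟩
    rw [Polynomial.eval₂_map]
    have : φ.comp (ev ηZ V hV') = ev (qL φ ηZ) V (top_le_qL_preimage φ ηZ V hV') := by
      ext a; exact (ev_qL φ ηZ V hV' a).symm
    rw [this]; exact hp0
  -- `l` is integral over `K`
  obtain ⟨z0⟩ : Nonempty Z := ⟨ηZ (Classical.arbitrary _)⟩
  have hlK : IsIntegral K l := by
    obtain ⟨_, ⟨V, hV, rfl⟩, hzV, -⟩ :=
      Z.isBasis_affineOpens.exists_subset_of_mem_open (Set.mem_univ z0) isOpen_univ
    obtain ⟨p, hp, hp0⟩ := hint V hV (hgen V ⟨z0, hzV⟩)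
    exact ⟨p.map (ev ηZ V (hgen V ⟨z0, hzV⟩)), hp.map _, hp0⟩
  -- coefficients of the minimal polynomial are global sections
  have hlift : minpoly K l ∈ Polynomial.lifts evK := by
    rw [Polynomial.lifts_iff_coeff_lifts]
    intro i
    obtain ⟨s, hs⟩ := exists_global_section_normalization ηZ ((minpoly K l).coeff i) (by
      intro z
      obtain ⟨_, ⟨V, hV, rfl⟩, hzV, -⟩ :=
        Z.isBasis_affineOpens.exists_subset_of_mem_open (Set.mem_univ z) isOpen_univ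
      refine ⟨V, hV, hzV, hgen V ⟨z, hzV⟩, ?_⟩
      obtain ⟨p, hp, hp0⟩ := hint V hV (hgen V ⟨z, hzV⟩)
      let := (ev ηZ V (hgen V ⟨z, hzV⟩)).toAlgebra
      have hdvd : minpoly K l ∣ p.map (algebraMap Γ(Z, V) K) :=
        minpoly.dvd K l hp0
      exact Polynomial.isIntegral_coeff_of_dvd p (minpoly K l) hp (minpoly.monic hlK) hdvd i)
    exact ⟨s, hs⟩
  obtain ⟨μ, hμmap, -, hμ⟩ := Polynomial.lifts_and_degree_eq_and_monic hlift (minpoly.monic hlK)
  refine ⟨μ, hμ, ?_, ?_⟩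
  · apply ev_injective (qL φ ηZ).toNormalization ⊤ le_top
    rw [map_zero, Polynomial.hom_eval₂]
    have hcomp : (ev (qL φ ηZ).toNormalization ⊤ le_top).comp (rho φ ηZ).appTop.hom =
        φ.comp evK := by
      ext s
      exact ev_rho_app φ ηZ ⊤ le_top s
    rw [hcomp, ← Polynomial.eval₂_map, hμmap]
    exact minpoly.aeval K l
  · intro U hU f hf
    have hinjU := ev_injective ηZ.toNormalization U hU
    rw [← Polynomial.map_dvd_map (ev ηZ.toNormalization U hU) hinjU (hμ.map _),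
      Polynomial.map_map]
    have h1 : (ev ηZ.toNormalization U hU).comp
        (ηZ.normalization.presheaf.map (homOfLE (le_top : U ≤ ⊤)).op).hom = evK := by
      ext s
      exact ev_map ηZ.toNormalization (le_top : U ≤ ⊤) hU s
    rw [h1, hμmap]
    apply minpoly.dvd K l
    have h2 := congr(ev (qL φ ηZ).toNormalization (rho φ ηZ ⁻¹ᵁ U)
      (top_le_rho_preimage φ ηZ U hU) $hf)
    rw [map_zero, Polynomial.hom_eval₂] at h2
    have hcomp : (ev (qL φ ηZ).toNormalization (rho φ ηZ ⁻¹ᵁ U)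
        (top_le_rho_preimage φ ηZ U hU)).comp ((rho φ ηZ).app U).hom =
        φ.comp (ev ηZ.toNormalization U hU) := by
      ext s
      exact ev_rho_app φ ηZ U hU s
    rw [hcomp, ev_map, ← Polynomial.eval₂_map] at h2
    exact h2

theorem fromSpec_mem_basicOpen_iff {X : Scheme.{u}} {U : X.Opens} (hU : IsAffineOpen U)
    (f : Γ(X, U)) (P : Spec Γ(X, U)) : hU.fromSpec P ∈ X.basicOpen f ↔ f ∉ P.asIdeal := by
  have h : P ∈ hU.fromSpec ⁻¹ᵁ X.basicOpen f ↔ P ∈ PrimeSpectrum.basicOpen f := by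
    rw [hU.fromSpec_preimage_basicOpen]
    exact Iff.rfl
  exact h

theorem rho_preimage_basicOpen_le (μ : Γ(ηZ.normalization, ⊤)[X])
    (w : Γ((qL φ ηZ).normalization, ⊤)) (h : μ.eval₂ (rho φ ηZ).appTop.hom w = 0) :
    rho φ ηZ ⁻¹ᵁ (ηZ.normalization.basicOpen (μ.coeff 0)) ≤
      (qL φ ηZ).normalization.basicOpen w := by
  rw [Scheme.preimage_basicOpen]
  have h1 : (rho φ ηZ).appTop (μ.coeff 0) = w * (- (μ.divX).eval₂ (rho φ ηZ).appTop.hom w) := by
    have h2 := Polynomial.divX_mul_X_add μ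
    have h3 := congr(Polynomial.eval₂ (rho φ ηZ).appTop.hom w $h2)
    rw [h, Polynomial.eval₂_add, Polynomial.eval₂_mul, Polynomial.eval₂_X,
      Polynomial.eval₂_C] at h3
    have h4 : (rho φ ηZ).appTop.hom (μ.coeff 0) =
        - (Polynomial.eval₂ (rho φ ηZ).appTop.hom w μ.divX * w) := by
      rw [eq_neg_iff_add_eq_zero, add_comm]; exact h3
    change (rho φ ηZ).appTop.hom (μ.coeff 0) = _
    rw [h4]; ring
  change (qL φ ηZ).normalization.basicOpen ((rho φ ηZ).appTop (μ.coeff 0)) ≤ _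
  rw [h1, Scheme.basicOpen_mul]
  exact inf_le_left

theorem exists_point_of_notMem_basicOpen (μ : Γ(ηZ.normalization, ⊤)[X])
    (w : Γ((qL φ ηZ).normalization, ⊤))
    (U : ηZ.normalization.Opens) (hUaff : IsAffineOpen U)
    (hmin : ∀ (f : Γ(ηZ.normalization, U)[X]),
        f.eval₂ ((rho φ ηZ).app U).hom
          ((qL φ ηZ).normalization.presheaf.map (homOfLE (le_top : rho φ ηZ ⁻¹ᵁ U ≤ ⊤)).op w) = 0 →
        μ.map (ηZ.normalization.presheaf.map (homOfLE (le_top : U ≤ ⊤)).op).hom ∣ f)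
    (n : ηZ.normalization) (hnU : n ∈ U) (hn : n ∉ ηZ.normalization.basicOpen (μ.coeff 0)) :
    ∃ m : (qL φ ηZ).normalization, rho φ ηZ m = n ∧ m ∉ (qL φ ηZ).normalization.basicOpen w := by
  have hW : IsAffineOpen (rho φ ηZ ⁻¹ᵁ U) := hUaff.preimage (rho φ ηZ)
  have hψ : ((rho φ ηZ).app U).hom.IsIntegral := IsIntegralHom.isIntegral_app (rho φ ηZ) U hUaff
  set p' := hUaff.primeIdealOf ⟨n, hnU⟩ with hp'
  have h0 : (μ.map (ηZ.normalization.presheaf.map (homOfLE (le_top : U ≤ ⊤)).op).hom).coeff 0 ∈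
      p'.asIdeal := by
    rw [Polynomial.coeff_map]
    by_contra hc
    have h1 := (fromSpec_mem_basicOpen_iff hUaff _ p').mpr hc
    rw [hp', hUaff.fromSpec_primeIdealOf] at h1
    have h2 : ηZ.normalization.basicOpen
        (ηZ.normalization.presheaf.map (homOfLE (le_top : U ≤ ⊤)).op (μ.coeff 0)) ≤
        ηZ.normalization.basicOpen (μ.coeff 0) := by
      rw [Scheme.basicOpen_res]; exact inf_le_right
    exact hn (h2 h1)
  obtain ⟨P, hP, hPc, hbP⟩ := exists_prime_comap_eq_of_coeff_zero_mem _ hψ _ _ hmin p'.asIdeal h0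
  refine ⟨hW.fromSpec ⟨P, hP⟩, ?_, ?_⟩
  · have h1 := IsAffineOpen.SpecMap_appLE_fromSpec (rho φ ηZ) hUaff hW le_rfl
    have h2 := congr($h1 ⟨P, hP⟩)
    rw [Scheme.Hom.comp_apply, Scheme.Hom.comp_apply] at h2
    rw [← h2]
    have hPc' : P.comap ((rho φ ηZ).appLE U (rho φ ηZ ⁻¹ᵁ U) le_rfl).hom = p'.asIdeal := by
      rw [Scheme.Hom.appLE_eq_app]; exact hPc
    have h3 : Spec.map ((rho φ ηZ).appLE U (rho φ ηZ ⁻¹ᵁ U) le_rfl) ⟨P, hP⟩ = p' := by
      apply PrimeSpectrum.ext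
      rw [← hPc']
      rfl
    rw [h3, hp', hUaff.fromSpec_primeIdealOf]
  · intro hm
    have hmW : hW.fromSpec ⟨P, hP⟩ ∈ rho φ ηZ ⁻¹ᵁ U := by
      have := hW.range_fromSpec
      rw [← SetLike.mem_coe, ← this]
      exact ⟨_, rfl⟩
    have h1 : hW.fromSpec ⟨P, hP⟩ ∈ (qL φ ηZ).normalization.basicOpen
        ((qL φ ηZ).normalization.presheaf.map
          (homOfLE (le_top : rho φ ηZ ⁻¹ᵁ U ≤ ⊤)).op w) := by
      rw [Scheme.basicOpen_res]
      exact ⟨hmW, hm⟩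
    exact (fromSpec_mem_basicOpen_iff hW _ ⟨P, hP⟩).mp h1 hbP

end Norm

end

end Groth.Agent.Lib.Helper21.Chev
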