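import Mathlib
import Groth.Agent.Lib.Helper21.Chev5

set_option autoImplicit false
universe u
open CategoryTheory CategoryTheory.Limits AlgebraicGeometry TopologicalSpace Opposite Polynomial

namespace Groth.Agent.Lib.Helper21.Chev

/-- Prime avoidance on an affine scheme: a global section vanishing on the preimage of the
complement of `V` and nowhere vanishing on a finite fibre inside the preimage of `V`. -/
theorem exists_section_avoiding {Y Z : Scheme.{u}} (g : Y ⟶ Z) [IsAffine Y] (z : Z)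
    (hfib : (g ⁻¹' {z}).Finite) (V : Z.Opens) (hzV : z ∈ V) :
    ∃ b : Γ(Y, ⊤), (∀ y, g y ∉ V → y ∉ Y.basicOpen b) ∧ (∀ y, g y = z → y ∈ Y.basicOpen b) := by
  classical
  obtain ⟨𝔱, h𝔱⟩ := (Scheme.eq_zeroLocus_of_isClosed_of_isAffine Y (g ⁻¹' ((V : Set Z)ᶜ))).mp
    (V.isOpen.isClosed_compl.preimage g.continuous)
  have hvan : ∀ b ∈ 𝔱, ∀ y, g y ∉ V → y ∉ Y.basicOpen b := by
    intro b hb y hy
    have h1 : y ∈ Y.zeroLocus (U := ⊤) (𝔱 : Set Γ(Y, ⊤)) := by rw [← h𝔱]; exact hy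
    rw [Scheme.mem_zeroLocus_iff] at h1
    exact h1 b hb
  rcases isEmpty_or_nonempty Y with hY | ⟨⟨y0⟩⟩
  · exact ⟨0, fun y => (hY.false y).elim, fun y => (hY.false y).elim⟩
  set F : Finset Y := hfib.toFinset with hF
  set p : Y → Ideal Γ(Y, ⊤) := fun y => (Y.toSpecΓ y).asIdeal with hp
  have hnot : ¬ ((𝔱 : Set Γ(Y, ⊤)) ⊆ ⋃ y ∈ (F : Set Y), (p y : Set Γ(Y, ⊤))) := by
    rw [Ideal.subset_union_prime (R := Γ(Y, ⊤)) (s := F) (f := p) y0 y0
      (fun i _ _ _ => (Y.toSpecΓ i).isPrime)]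
    rintro ⟨y, hyF, hle⟩
    have hyz : g y = z := (Set.Finite.mem_toFinset hfib).mp hyF
    have hz : y ∈ Y.zeroLocus (U := ⊤) (𝔱 : Set Γ(Y, ⊤)) := by
      rw [Scheme.mem_zeroLocus_iff]
      intro f hf
      rw [mem_basicOpen_iff_notMem_asIdeal, not_not]
      exact hle hf
    rw [← h𝔱] at hz
    exact hz (hyz ▸ hzV)
  obtain ⟨u, hu𝔱, hu⟩ := Set.not_subset.mp hnot
  refine ⟨u, hvan u hu𝔱, fun y hy => (mem_basicOpen_iff_notMem_asIdeal Y u y).mpr fun hmem => ?_⟩
  apply hu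
  simp only [Set.mem_iUnion]
  refine ⟨y, ?_, hmem⟩
  rw [hF]
  simpa using hy

noncomputable section

variable {K L : Type u} [Field K] [Field L] (φ : K →+* L) {Y Z : Scheme.{u}} (g : Y ⟶ Z)
  (ηZ : Spec (.of K) ⟶ Z) [QuasiCompact ηZ] [QuasiSeparated ηZ]
  (ηY : Spec (.of L) ⟶ Y)

instance : Surjective (Spec.map (CommRingCat.ofHom φ)) := by
  constructor
  intro x
  obtain ⟨y⟩ : Nonempty (Spec (.of L)) := inferInstanceAs (Nonempty (PrimeSpectrum L))
  refine ⟨y, ?_⟩
  have : Subsingleton (Spec (.of K)) := inferInstanceAs (Subsingleton (PrimeSpectrum K))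
  exact Subsingleton.elim _ _

instance : IsDominant (rho φ ηZ) := by
  have : IsDominant ((qL φ ηZ).toNormalization ≫ rho φ ηZ) := by
    rw [toNormalization_rho]; infer_instance
  exact IsDominant.of_comp (qL φ ηZ).toNormalization (rho φ ηZ)

/-- The morphism `N_L ⟶ Y`. -/
def sigma [IsIntegralHom g] (comm : qL φ ηZ = ηY ≫ g) : (qL φ ηZ).normalization ⟶ Y :=
  (qL φ ηZ).normalizationDesc ηY g comm

instance [IsIntegralHom g] (comm : qL φ ηZ = ηY ≫ g) : IsIntegralHom (sigma φ g ηZ ηY comm) := by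
  unfold sigma; infer_instance

theorem sigma_comp [IsIntegralHom g] (comm : qL φ ηZ = ηY ≫ g) :
    sigma φ g ηZ ηY comm ≫ g = (qL φ ηZ).fromNormalization :=
  Scheme.Hom.normalizationDesc_comp ..

/-- **The normalization of `Z` in `K` is affine** if `Z` receives a finite surjective morphism
from an affine scheme (and `Spec K ⟶ Z` hits a point contained in every nonempty open). -/
theorem isAffine_normalization [IsFinite g] [Surjective g] [IsAffine Y]
    (comm : qL φ ηZ = ηY ≫ g)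
    (hgen : ∀ V : Z.Opens, (V : Set Z).Nonempty → ⊤ ≤ ηZ ⁻¹ᵁ V) :
    IsAffine ηZ.normalization := by
  classical
  set σ := sigma φ g ηZ ηY comm with hσ
  have hσg : σ ≫ g = (qL φ ηZ).fromNormalization := sigma_comp φ g ηZ ηY comm
  have : IsAffine (qL φ ηZ).normalization := isAffine_of_isAffineHom σ
  set ρ := rho φ ηZ with hρ
  have hρπ : ρ ≫ ηZ.fromNormalization = (qL φ ηZ).fromNormalization := rho_fromNormalization φ ηZ
  have hpt : ∀ m, g (σ m) = ηZ.fromNormalization (ρ m) := by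
    intro m
    have h1 := congr($hσg m)
    have h2 := congr($hρπ m)
    rw [Scheme.Hom.comp_apply] at h1 h2
    rw [h1, h2]
  -- choices
  have hV : ∀ z : Z, ∃ V : Z.Opens, IsAffineOpen V ∧ z ∈ V := by
    intro z
    obtain ⟨_, ⟨V, hV, rfl⟩, hzV, -⟩ :=
      Z.isBasis_affineOpens.exists_subset_of_mem_open (Set.mem_univ z) isOpen_univ
    exact ⟨V, hV, hzV⟩
  choose V hVaff hzV using hV
  have hb := fun z => exists_section_avoiding g z (g.finite_preimage_singleton z) (V z) (hzV z)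
  choose b hb1 hb2 using hb
  have hμ := fun z => exists_minimal_monic φ ηZ hgen (σ.appTop (b z))
  choose μ hμmonic hμ0 hμmin using hμ
  set gh : Z → Γ(ηZ.normalization, ⊤) := fun z => (μ z).coeff 0 with hgh
  have hmemw : ∀ z m, m ∈ (qL φ ηZ).normalization.basicOpen (σ.appTop (b z)) ↔
      σ m ∈ Y.basicOpen (b z) := fun z m => mem_basicOpen_appTop_iff σ m (b z)
  -- (i)
  have hi : ∀ z, ηZ.normalization.basicOpen (gh z) ≤ ηZ.fromNormalization ⁻¹ᵁ (V z) := by
    intro z n hn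
    obtain ⟨m, rfl⟩ := ρ.surjective n
    have h1 : m ∈ (qL φ ηZ).normalization.basicOpen (σ.appTop (b z)) :=
      rho_preimage_basicOpen_le φ ηZ (μ z) _ (hμ0 z) hn
    rw [hmemw] at h1
    by_contra hc
    exact hb1 z (σ m) (by rw [hpt]; exact hc) h1
  -- (ii)
  have hii : ∀ n : ηZ.normalization, n ∈ ηZ.normalization.basicOpen (gh (ηZ.fromNormalization n)) := by
    intro n
    by_contra hc
    set z := ηZ.fromNormalization n with hz
    have hU : ⊤ ≤ ηZ.toNormalization ⁻¹ᵁ (ηZ.fromNormalization ⁻¹ᵁ (V z)) :=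
      top_le_toNormalization_preimage ηZ (V z) (hgen (V z) ⟨z, hzV z⟩)
    obtain ⟨m, hm1, hm2⟩ := exists_point_of_notMem_basicOpen φ ηZ (μ z) (σ.appTop (b z))
      (ηZ.fromNormalization ⁻¹ᵁ (V z)) ((hVaff z).preimage _) (hμmin z _ hU) n (hzV z) hc
    rw [hmemw] at hm2
    exact hm2 (hb2 z (σ m) (by rw [hpt, hm1]))
  refine isAffine_of_isAffineOpen_basicOpen (X := ηZ.normalization) (Set.range gh) ?_ ?_
  · have hinj : Function.Injective ρ.appTop.hom := by
      have : IsSchemeTheoreticallyDominant ρ := .of_isDominant ρ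
      exact ρ.app_injective ⊤
    have hint : ρ.appTop.hom.IsIntegral := fun w => by
      obtain ⟨μ', hμ', hμ'0, -⟩ := exists_minimal_monic φ ηZ hgen w
      exact ⟨μ', hμ', hμ'0⟩
    rw [← Ideal.map_eq_top_iff ρ.appTop.hom hinj hint, Ideal.map_span, ← Set.range_comp]
    exact span_range_appTop_eq_top ρ gh fun m => ⟨_, hii (ρ m)⟩
  · rintro _ ⟨z, rfl⟩
    have h1 := ((hVaff z).preimage ηZ.fromNormalization).basicOpen
      (ηZ.normalization.presheaf.map (homOfLE (le_top : ηZ.fromNormalization ⁻¹ᵁ (V z) ≤ ⊤)).op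
        (gh z))
    rwa [Scheme.basicOpen_res, inf_eq_right.mpr (hi z)] at h1

end

end Groth.Agent.Lib.Helper21.Chev
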