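import Mathlib
import Groth.Agent.Lib.Helper21.Chev6

set_option autoImplicit false
universe u
open CategoryTheory CategoryTheory.Limits AlgebraicGeometry TopologicalSpace Opposite Polynomial

namespace Groth.Agent.Lib.Helper21.Chev

noncomputable section

theorem ev_fromSpecStalk (Z : Scheme.{u}) (x : Z) (V : Z.Opens) (hx : x ∈ V)
    (hV' : ⊤ ≤ (Z.fromSpecStalk x) ⁻¹ᵁ V) (a : Γ(Z, V)) :
    ev (F := Z.presheaf.stalk x) (Z.fromSpecStalk x) V hV' a = Z.presheaf.germ V x hx a := by
  change (Scheme.ΓSpecIso (Z.presheaf.stalk x)).hom ((Z.fromSpecStalk x).appLE V ⊤ hV' a) = _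
  have h1 : (Z.fromSpecStalk x).appLE V ⊤ hV' =
      (Z.fromSpecStalk x).app V ≫ (Spec (Z.presheaf.stalk x)).presheaf.map (homOfLE hV').op := rfl
  rw [h1, Scheme.fromSpecStalk_app hx]
  simp only [Category.assoc, CommRingCat.comp_apply]
  have h2 : ∀ y : Γ(Spec (Z.presheaf.stalk x), ⊤),
      (Spec (Z.presheaf.stalk x)).presheaf.map (homOfLE hV').op
        ((Spec (Z.presheaf.stalk x)).presheaf.map (homOfLE (le_top :
          (Z.fromSpecStalk x) ⁻¹ᵁ V ≤ ⊤)).op y) = y := by
    intro y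
    rw [← CommRingCat.comp_apply, ← Functor.map_comp]
    have e2 : (Spec (Z.presheaf.stalk x)).presheaf.map ((homOfLE (le_top :
        (Z.fromSpecStalk x) ⁻¹ᵁ V ≤ ⊤)).op ≫ (homOfLE hV').op) = 𝟙 _ := by
      rw [← (Spec (Z.presheaf.stalk x)).presheaf.map_id]; rfl
    rw [e2]; rfl
  rw [h2, ← CommRingCat.comp_apply, Iso.inv_hom_id]; rfl

variable (Z : Scheme.{u}) [IsIntegral Z]

/-- The generic point as a morphism from `Spec` of the function field (as a type with its
field structure). -/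
def etaZ : Spec (@CommRingCat.of Z.functionField (Field.toCommRing)) ⟶ Z :=
  Z.fromSpecStalk (genericPoint Z)

theorem etaZ_gen (V : Z.Opens) (hV : (V : Set Z).Nonempty) : ⊤ ≤ etaZ Z ⁻¹ᵁ V := by
  intro p _
  have h1 : etaZ Z p ∈ Set.range (Z.fromSpecStalk (genericPoint Z)) := ⟨p, rfl⟩
  rw [Scheme.range_fromSpecStalk] at h1
  have h2 : genericPoint Z ∈ V := ((genericPoint_spec Z).mem_open_set_iff V.isOpen).mpr (by
    simpa [Set.univ_inter] using hV)
  exact h1.mem_open V.isOpen h2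

theorem ev_etaZ (V : Z.Opens) (hη : genericPoint Z ∈ V) (hV' : ⊤ ≤ etaZ Z ⁻¹ᵁ V) (a : Γ(Z, V)) :
    ev (etaZ Z) V hV' a = Z.presheaf.germ V (genericPoint Z) hη a :=
  ev_fromSpecStalk Z (genericPoint Z) V hη hV' a

variable {Z} {Y : Scheme.{u}} (g : Y ⟶ Z) (y : Y) (hy : g y = genericPoint Z)

/-- A point of `Y` over the generic point of `Z`, as a morphism from `Spec` of its residue field. -/
def etaY : Spec (@CommRingCat.of (Y.residueField y) (Field.toCommRing)) ⟶ Y :=
  Y.fromSpecResidueField y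

/-- The induced field extension `K(Z) ⟶ κ(y)`. -/
def phiKL : Z.functionField →+* Y.residueField y :=
  ((Z.presheaf.stalkSpecializes (specializes_of_eq hy)) ≫ g.stalkMap y ≫ Y.residue y).hom

include hy in
theorem qL_eq : qL (phiKL g y hy) (etaZ Z) = etaY y ≫ g := by
  change Spec.map ((Z.presheaf.stalkSpecializes (specializes_of_eq hy)) ≫ g.stalkMap y ≫
    Y.residue y) ≫ Z.fromSpecStalk (genericPoint Z) = Y.fromSpecResidueField y ≫ g
  rw [Spec.map_comp, Spec.map_comp, Category.assoc, Category.assoc,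
    Scheme.SpecMap_stalkSpecializes_fromSpecStalk, Scheme.SpecMap_stalkMap_fromSpecStalk]
  rfl

end

end Groth.Agent.Lib.Helper21.Chev
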