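import Mathlib
import Groth.Agent.S7382

set_option autoImplicit false
universe u
open CategoryTheory CategoryTheory.Limits AlgebraicGeometry TopologicalSpace Opposite

namespace Groth.Agent.Lib.Helper21.Chev

/-- An integral morphism from an affine scheme to a qcqs scheme factors through a finite,
finitely presented morphism from an affine scheme. -/
theorem exists_finite_affine_factorization {X S : Scheme.{u}} (f : X ⟶ S) [IsIntegralHom f]
    [IsAffine X] [CompactSpace S] [QuasiSeparatedSpace S] :
    ∃ (T : Scheme.{u}) (p : X ⟶ T) (q : T ⟶ S), p ≫ q = f ∧ IsFinite q ∧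
      LocallyOfFinitePresentation q ∧ IsAffine T := by
  obtain ⟨I, _, _, _, D, c, hc, hD, ⟨e⟩⟩ := Groth.Agent.S7382.result f
  let F := Over.forget S
  have hc' : IsLimit (F.mapCone c) := isLimitOfPreserves F hc
  obtain ⟨q, hqdef⟩ : ∃ q : ∀ i : Iᵒᵖ, (D.obj i).left ⟶ S, ∀ i, q i = (D.obj i).hom :=
    ⟨fun i => (D.obj i).hom, fun i => rfl⟩
  have hq : ∀ i, IsFinite (q i) := fun i => by rw [hqdef]; exact (hD i).1
  have h1 : ∀ {i j : Iᵒᵖ} (f : i ⟶ j), IsAffineHom ((D ⋙ F).map f) := by
    intro i j f
    change IsAffineHom (D.map f).left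
    apply MorphismProperty.of_postcomp (W := @IsAffineHom) (W' := @IsSeparated) _ (q j)
    · infer_instance
    · have : (D.map f).left ≫ q j = q i := by
        rw [hqdef, hqdef]; exact Over.w (D.map f)
      rw [this]; infer_instance
  have h2 : ∀ i : Iᵒᵖ, CompactSpace ((D ⋙ F).obj i) := by
    intro i
    have := hq i
    change CompactSpace (D.obj i).left
    exact QuasiCompact.compactSpace_of_compactSpace (q i)
  have h3 : ∀ i : Iᵒᵖ, QuasiSeparatedSpace ((D ⋙ F).obj i) := by
    intro i
    have := hq i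
    change QuasiSeparatedSpace (D.obj i).left
    exact quasiSeparatedSpace_of_quasiSeparated (q i)
  have h4 : IsAffine (F.mapCone c).pt := by
    have : IsAffine (F.obj (Over.mk f)) := by change IsAffine X; infer_instance
    exact IsAffine.of_isIso (F.mapIso e).hom
  obtain ⟨i, hi⟩ := Scheme.exists_isAffine_of_isLimit (D ⋙ F) (F.mapCone c) hc'
  refine ⟨(D.obj i).left, e.inv.left ≫ (c.π.app i).left, (D.obj i).hom, ?_, (hD i).1, (hD i).2, hi⟩
  rw [Category.assoc, Over.w (c.π.app i)]
  exact Over.w e.inv

end Groth.Agent.Lib.Helper21.Chev
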