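import Mathlib
import Groth.Agent.Lib.Helper21.Chev7
import Groth.Agent.Lib.Helper21.Chev8

set_option autoImplicit false
universe u
open CategoryTheory CategoryTheory.Limits AlgebraicGeometry TopologicalSpace Opposite

namespace Groth.Agent.Lib.Helper21.Chev

noncomputable section

variable {K : Type u} [Field K] {X' Z : Scheme.{u}} (π' : X' ⟶ Z) (τ' : Spec (.of K) ⟶ X')

theorem top_le_preimage_of_isDominant [IsDominant τ'] (W : X'.Opens)
    (hW : (W : Set X').Nonempty) : ⊤ ≤ τ' ⁻¹ᵁ W := by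
  intro p _
  obtain ⟨y, hy⟩ := τ'.denseRange.exists_mem_open W.isOpen hW
  have : Subsingleton (Spec (.of K)) := inferInstanceAs (Subsingleton (PrimeSpectrum K))
  rw [Subsingleton.elim p y]
  exact hy

/-- Conductor over an affine open. -/
theorem exists_conductor [IsFinite π'] (V : Z.Opens) (hV : IsAffineOpen V)
    (hV' : ⊤ ≤ (τ' ≫ π') ⁻¹ᵁ V) (hV'' : ⊤ ≤ τ' ⁻¹ᵁ (π' ⁻¹ᵁ V))
    (hinj' : Function.Injective (ev τ' (π' ⁻¹ᵁ V) hV''))
    (hfrac : ∀ x : K, ∃ c a : Γ(Z, V), ev (τ' ≫ π') V hV' c ≠ 0 ∧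
      ev (τ' ≫ π') V hV' c * x = ev (τ' ≫ π') V hV' a) :
    ∃ c : Γ(Z, V), ev (τ' ≫ π') V hV' c ≠ 0 ∧
      ∀ a' : Γ(X', π' ⁻¹ᵁ V), ∃ a : Γ(Z, V), π'.app V a = π'.app V c * a' := by
  classical
  have hcomp : ∀ a : Γ(Z, V), ev τ' (π' ⁻¹ᵁ V) hV'' (π'.app V a) = ev (τ' ≫ π') V hV' a :=
    fun a => (ev_comp τ' π' V hV' hV'' a).symm
  have hfin : (π'.app V).hom.Finite := IsFinite.finite_app π' V hV
  let := (π'.app V).hom.toAlgebra
  obtain ⟨S, hS⟩ := hfin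
  choose c a hc hca using fun s : Γ(X', π' ⁻¹ᵁ V) => hfrac (ev τ' (π' ⁻¹ᵁ V) hV'' s)
  refine ⟨∏ s ∈ S, c s, ?_, ?_⟩
  · rw [map_prod]
    exact Finset.prod_ne_zero_iff.mpr fun s _ => hc s
  · intro a'
    have hmem : a' ∈ Submodule.span Γ(Z, V) (S : Set Γ(X', π' ⁻¹ᵁ V)) := by rw [hS]; trivial
    induction hmem using Submodule.span_induction with
    | mem s hs =>
      refine ⟨(∏ t ∈ S.erase s, c t) * a s, hinj' ?_⟩
      have h1 : ev τ' (π' ⁻¹ᵁ V) hV'' (π'.app V ((∏ t ∈ S.erase s, c t) * a s)) =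
          ev (τ' ≫ π') V hV' (∏ t ∈ S.erase s, c t) * ev (τ' ≫ π') V hV' (a s) := by
        rw [hcomp, map_mul]
      have h2 : ev τ' (π' ⁻¹ᵁ V) hV'' (π'.app V (∏ s ∈ S, c s) * s) =
          ev (τ' ≫ π') V hV' (∏ s ∈ S, c s) * ev τ' (π' ⁻¹ᵁ V) hV'' s := by
        rw [map_mul, hcomp]
      rw [h1, h2, ← Finset.mul_prod_erase S c hs, map_mul, ← hca s]
      ring
    | zero => exact ⟨0, by simp⟩
    | add x y _ _ hx hy =>
      obtain ⟨ax, hax⟩ := hx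
      obtain ⟨ay, hay⟩ := hy
      exact ⟨ax + ay, by rw [map_add, hax, hay]; ring⟩
    | smul r x _ hx =>
      obtain ⟨ax, hax⟩ := hx
      refine ⟨r * ax, ?_⟩
      rw [map_mul, hax, Algebra.smul_def]
      change _ = _ * ((π'.app V).hom r * x)
      ring

theorem exists_global_multiple [IsAffine X'] [IsDominant τ'] [IsSchemeTheoreticallyDominant τ']
    (U : X'.Opens) (hU : (U : Set X').Nonempty) (c' : Γ(X', U))
    (hc' : ev τ' U (top_le_preimage_of_isDominant τ' U hU) c' ≠ 0) :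
    ∃ (α : Γ(X', ⊤)) (β : Γ(X', U)), ev τ' ⊤ le_top α ≠ 0 ∧
      X'.presheaf.map (homOfLE (le_top : U ≤ ⊤)).op α = c' * β := by
  obtain ⟨x', hx'⟩ := hU
  obtain ⟨_, ⟨_, ⟨h, rfl⟩, rfl⟩, hx'h, hhU⟩ := (isBasis_basicOpen X').exists_subset_of_mem_open
    hx' U.isOpen
  have hDne : ((X'.basicOpen h : X'.Opens) : Set X').Nonempty := ⟨x', hx'h⟩
  have hD := top_le_preimage_of_isDominant τ' (X'.basicOpen h) hDne
  have hU' := top_le_preimage_of_isDominant τ' U ⟨x', hx'⟩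
  have hle : X'.basicOpen h ≤ U := hhU
  obtain ⟨n, y, hy⟩ := exists_eq_pow_mul_of_isAffineOpen X' ⊤ (isAffineOpen_top X') h
    (X'.presheaf.map (homOfLE hle).op c')
  replace hy : X'.presheaf.map (homOfLE (le_top : X'.basicOpen h ≤ ⊤)).op y =
      (X'.presheaf.map (homOfLE (le_top : X'.basicOpen h ≤ ⊤)).op h) ^ n *
        X'.presheaf.map (homOfLE hle).op c' := hy
  have hh0 : ev τ' ⊤ le_top h ≠ 0 := by
    intro h0
    have : h = 0 := ev_injective τ' ⊤ le_top (by rw [h0, map_zero])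
    rw [this, Scheme.basicOpen_zero] at hx'h
    exact hx'h
  have hEy : ev τ' ⊤ le_top y = (ev τ' ⊤ le_top h) ^ n * ev τ' U hU' c' := by
    have := congr(ev τ' (X'.basicOpen h) hD $hy)
    rw [map_mul, map_pow, ev_map, ev_map, ev_map] at this
    exact this
  refine ⟨y * h, (X'.presheaf.map (homOfLE (le_top : U ≤ ⊤)).op h) ^ (n + 1), ?_, ?_⟩
  · rw [map_mul, hEy]
    exact mul_ne_zero (mul_ne_zero (pow_ne_zero _ hh0) hc') hh0
  · apply ev_injective τ' U hU'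
    rw [ev_map, map_mul, map_mul, map_pow, ev_map, hEy]
    ring

/-- **Finite birational case.** If `X'` is a reduced affine scheme, finite, surjective and
"birational" over the reduced scheme `Z`, and all `V(j)`, `j ≠ 0`, are affine, then `Z` is affine. -/
theorem isAffine_of_finite_birational [IsAffine X'] [IsReduced X'] [IsReduced Z] [IsFinite π']
    [Surjective π'] [IsDominant τ']
    (hgen : ∀ V : Z.Opens, (V : Set Z).Nonempty → ⊤ ≤ (τ' ≫ π') ⁻¹ᵁ V)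
    (hfrac : ∀ (V : Z.Opens) (_ : IsAffineOpen V) (hV' : ⊤ ≤ (τ' ≫ π') ⁻¹ᵁ V) (x : K),
      ∃ c a : Γ(Z, V), ev (τ' ≫ π') V hV' c ≠ 0 ∧
        ev (τ' ≫ π') V hV' c * x = ev (τ' ≫ π') V hV' a)
    (IH : ∀ j : Γ(Z, ⊤), j ≠ 0 → IsAffine (VI Z j).subscheme) : IsAffine Z := by
  classical
  have : IsSchemeTheoreticallyDominant τ' := .of_isDominant τ'
  have : IsSchemeTheoreticallyDominant π' := .of_isDominant π'
  have hinj : ∀ W : Z.Opens, Function.Injective (π'.app W) := fun W => π'.app_injective W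
  have hcpt : CompactSpace Z :=
    ⟨by rw [← π'.surjective.range_eq]; exact isCompact_range π'.continuous⟩
  -- local data
  have hloc : ∀ z : Z, ∃ (V : Z.Opens) (_ : IsAffineOpen V) (_ : z ∈ V) (α : Γ(X', ⊤)),
      ev τ' ⊤ le_top α ≠ 0 ∧ ∀ (R : Γ(X', ⊤)) (a' : Γ(X', π' ⁻¹ᵁ V)), ∃ a : Γ(Z, V),
        π'.app V a = X'.presheaf.map (homOfLE (le_top : π' ⁻¹ᵁ V ≤ ⊤)).op (α * R) * a' := by
    intro z
    obtain ⟨_, ⟨V, hV, rfl⟩, hzV, -⟩ :=
      Z.isBasis_affineOpens.exists_subset_of_mem_open (Set.mem_univ z) isOpen_univ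
    have hV' := hgen V ⟨z, hzV⟩
    have hV'' : ⊤ ≤ τ' ⁻¹ᵁ (π' ⁻¹ᵁ V) := hV'
    obtain ⟨c, hc0, hc⟩ := exists_conductor π' τ' V hV hV' hV'' (ev_injective τ' _ hV'')
      (hfrac V hV hV')
    obtain ⟨x', hx'⟩ := π'.surjective z
    have hUne : ((π' ⁻¹ᵁ V : X'.Opens) : Set X').Nonempty := ⟨x', by
      change π' x' ∈ V; rw [hx']; exact hzV⟩
    have hc0' : ev τ' (π' ⁻¹ᵁ V) (top_le_preimage_of_isDominant τ' _ hUne) (π'.app V c) ≠ 0 := by
      rw [← ev_comp τ' π' V hV']; exact hc0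
    obtain ⟨α, β, hα, hαβ⟩ := exists_global_multiple τ' (π' ⁻¹ᵁ V) hUne (π'.app V c) hc0'
    refine ⟨V, hV, hzV, α, hα, fun R a' => ?_⟩
    obtain ⟨a, ha⟩ := hc (β * X'.presheaf.map (homOfLE (le_top : π' ⁻¹ᵁ V ≤ ⊤)).op R * a')
    refine ⟨a, ?_⟩
    rw [ha, map_mul, hαβ]
    ring
  choose V hVaff hzV α hα hcond using hloc
  obtain ⟨t, ht⟩ := isCompact_univ.elim_finite_subcover (fun z => (V z : Set Z))
    (fun z => (V z).isOpen) (fun z _ => Set.mem_iUnion.mpr ⟨z, hzV z⟩)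
  have hcov : ∀ x : Z, ∃ z ∈ t, x ∈ V z := by
    intro x
    have := ht (Set.mem_univ x)
    simp only [Set.mem_iUnion] at this
    obtain ⟨z, hz, hx⟩ := this
    exact ⟨z, hz, hx⟩
  set j' : Γ(X', ⊤) := ∏ z ∈ t, α z with hj'
  have hj'0 : ev τ' ⊤ le_top j' ≠ 0 := by
    rw [hj', map_prod]
    exact Finset.prod_ne_zero_iff.mpr fun z _ => hα z
  have hstar : ∀ z ∈ t, ∀ a' : Γ(X', π' ⁻¹ᵁ V z), ∃ a : Γ(Z, V z),
      π'.app (V z) a = X'.presheaf.map (homOfLE (le_top : π' ⁻¹ᵁ V z ≤ ⊤)).op j' * a' := by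
    intro z hz a'
    rw [hj', ← Finset.mul_prod_erase t α hz]
    exact hcond z _ a'
  obtain ⟨j, hj⟩ := exists_app_eq_of_locally π' hinj ⊤ j' (by
    intro x _
    obtain ⟨z, hz, hxz⟩ := hcov x
    obtain ⟨a, ha⟩ := hstar z hz 1
    exact ⟨V z, le_top, hxz, a, by rw [ha, mul_one]; rfl⟩)
  have hj0 : j ≠ 0 := by
    rintro rfl
    rw [map_zero] at hj
    rw [← hj] at hj'0
    exact hj'0 (map_zero _)
  have hP : PinchData π' j := by
    refine ⟨hinj, fun x => ?_⟩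
    obtain ⟨z, hz, hxz⟩ := hcov x
    refine ⟨V z, hVaff z, hxz, fun a' => ?_⟩
    obtain ⟨a, ha⟩ := hstar z hz a'
    refine ⟨a, ?_⟩
    rw [ha]
    congr 2
    exact hj.symm
  have := IH j hj0
  exact isAffine_of_pinching π' j hP (fun x => π'.finite_preimage_singleton x)

end

end Groth.Agent.Lib.Helper21.Chev
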