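import Mathlib
import Groth.Agent.Lib.Helper21.Chev9

set_option autoImplicit false
universe u
open CategoryTheory CategoryTheory.Limits AlgebraicGeometry TopologicalSpace Opposite

namespace Groth.Agent.Lib.Helper21.Chev

noncomputable section

variable (Z : Scheme.{u}) [IsIntegral Z]

theorem genericPoint_mem_range_etaZ : genericPoint Z ∈ Set.range (etaZ Z) := by
  change genericPoint Z ∈ Set.range (Z.fromSpecStalk (genericPoint Z))
  exact ⟨_, Scheme.fromSpecStalk_closedPoint⟩

instance : IsDominant (etaZ Z) := by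
  refine ⟨?_⟩
  rw [DenseRange, dense_iff_closure_eq, ← Set.univ_subset_iff,
    ← (genericPoint_spec Z).def]
  exact closure_mono (Set.singleton_subset_iff.mpr (genericPoint_mem_range_etaZ Z))

theorem etaZ_frac (V : Z.Opens) (hV : IsAffineOpen V) (hV' : ⊤ ≤ etaZ Z ⁻¹ᵁ V)
    (x : Z.functionField) :
    ∃ c a : Γ(Z, V), ev (etaZ Z) V hV' c ≠ 0 ∧ ev (etaZ Z) V hV' c * x = ev (etaZ Z) V hV' a := by
  obtain ⟨p, hp⟩ := genericPoint_mem_range_etaZ Z
  have hη : genericPoint Z ∈ V := by
    rw [← hp]; exact hV' (Set.mem_univ p)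
  have : Nonempty V := ⟨⟨_, hη⟩⟩
  have := functionField_isFractionRing_of_isAffineOpen Z V hV
  obtain ⟨a, b, hb, hab⟩ := IsFractionRing.div_surjective (A := Γ(Z, V)) x
  have halg : ∀ c : Γ(Z, V), algebraMap Γ(Z, V) Z.functionField c = ev (etaZ Z) V hV' c := by
    intro c
    rw [ev_etaZ Z V hη hV' c]
    rfl
  have hb0 : algebraMap Γ(Z, V) Z.functionField b ≠ 0 :=
    IsFractionRing.to_map_ne_zero_of_mem_nonZeroDivisors hb
  refine ⟨b, a, ?_, ?_⟩
  · rw [← halg]; exact hb0
  · rw [← halg, ← halg, ← hab, mul_div_cancel₀ _ hb0]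

variable {Z}

/-- **Integral case of Chevalley's theorem** (inductive step): if the integral quasi-separated
scheme `Z` receives a finite surjective morphism from an affine scheme and all `V(j)`, `j ≠ 0`,
are affine, then `Z` is affine. -/
theorem isAffine_of_isIntegral_of_finite_surjective {Y : Scheme.{u}} [QuasiSeparatedSpace Z]
    (g : Y ⟶ Z) [IsFinite g] [Surjective g] [IsAffine Y]
    (IH : ∀ j : Γ(Z, ⊤), j ≠ 0 → IsAffine (VI Z j).subscheme) : IsAffine Z := by
  have hcpt : CompactSpace Z :=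
    ⟨by rw [← g.surjective.range_eq]; exact isCompact_range g.continuous⟩
  obtain ⟨y, hy⟩ := g.surjective (genericPoint Z)
  have hN : IsAffine (etaZ Z).normalization :=
    isAffine_normalization (phiKL g y hy) g (etaZ Z) (etaY y) (qL_eq g y hy) (etaZ_gen Z)
  obtain ⟨T, p, q, hpq, hqfin, hqfp, hT⟩ :=
    exists_finite_affine_factorization (etaZ Z).fromNormalization
  set π' : p.image ⟶ Z := p.imageι ≫ q with hπ'
  set τ' : Spec (.of Z.functionField) ⟶ p.image := (etaZ Z).toNormalization ≫ p.toImage with hτ'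
  have hτπ : τ' ≫ π' = etaZ Z := by
    rw [hτ', hπ', Category.assoc, p.toImage_imageι_assoc, hpq,
      Scheme.Hom.toNormalization_fromNormalization]
  have hX'aff : IsAffine p.image := isAffine_of_isAffineHom p.imageι
  have hX'red : IsReduced p.image := by
    have hinj := p.toImage_app_injective ⟨⊤, isAffineOpen_top T⟩
    have : _root_.IsReduced Γ(p.image, ⊤) := isReduced_of_injective _ hinj
    exact isReduced_of_isAffine_isReduced _
  have hdomτ : IsDominant τ' := by rw [hτ']; infer_instance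
  have hdomπ : IsDominant π' := by
    have : IsDominant (τ' ≫ π') := by rw [hτπ]; infer_instance
    exact IsDominant.of_comp τ' π'
  have hfinπ : IsFinite π' := by rw [hπ']; infer_instance
  have hsurjπ : Surjective π' := inferInstance
  refine isAffine_of_finite_birational π' τ' ?_ ?_ IH
  · rw [hτπ]; exact etaZ_gen Z
  · intro V hV hV' x
    have hV'' : ⊤ ≤ etaZ Z ⁻¹ᵁ V := by rw [← hτπ]; exact hV'
    obtain ⟨c, a, h1, h2⟩ := etaZ_frac Z V hV hV'' x
    refine ⟨c, a, ?_, ?_⟩
    · rw [ev_congr hτπ V hV' hV'']; exact h1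
    · rw [ev_congr hτπ V hV' hV'', ev_congr hτπ V hV' hV'']; exact h2

end

end Groth.Agent.Lib.Helper21.Chev
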