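import Mathlib
import Groth.Agent.Lib.Helper21.Chev10
import Groth.Agent.Lib.Helper16.ReducedSub
import Groth.Agent.Lib.Helper20.HJ6
import Groth.Agent.Lib.Helper1.AffThick

set_option autoImplicit false
universe u
open CategoryTheory CategoryTheory.Limits AlgebraicGeometry TopologicalSpace Opposite

namespace Groth.Agent.Lib.Helper21.Chev

open Scheme IdealSheafData

theorem range_subschemeι_vanishingIdeal {X : Scheme.{u}} (T : Closeds X) :
    Set.range (vanishingIdeal T).subschemeι = (T : Set X) := by
  rw [range_subschemeι, coe_support_vanishingIdeal]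

theorem irreducibleSpace_subscheme_vanishingIdeal {X : Scheme.{u}} (T : Closeds X)
    (hT : IsIrreducible (T : Set X)) : IrreducibleSpace (vanishingIdeal T).subscheme := by
  have hemb : Topology.IsEmbedding (vanishingIdeal T).subschemeι :=
    (vanishingIdeal T).subschemeι.isEmbedding
  have h1 : IrreducibleSpace (Set.range (vanishingIdeal T).subschemeι) := by
    rw [range_subschemeι_vanishingIdeal]; exact Subtype.irreducibleSpace hT
  exact (hemb.toHomeomorph.irreducibleSpace_iff).mpr h1

/-- A closed immersion with closed range `T` is dominated by the reduced induced structure. -/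
theorem exists_lift_vanishingIdeal {X W : Scheme.{u}} (i : W ⟶ X) [IsClosedImmersion i]
    (T : Closeds X) (hT : Set.range i = (T : Set X)) :
    ∃ t : (vanishingIdeal T).subscheme ⟶ W, t ≫ i = (vanishingIdeal T).subschemeι ∧
      IsClosedImmersion t ∧ Function.Surjective t := by
  have hker : i.ker ≤ (vanishingIdeal T).subschemeι.ker := by
    rw [ker_subschemeι, ← le_support_iff_le_vanishingIdeal]
    intro x hx
    rw [← SetLike.mem_coe, Scheme.Hom.support_ker, hT, T.isClosed.closure_eq]
    exact hx
  refine ⟨IsClosedImmersion.lift i _ hker, IsClosedImmersion.lift_fac i _ hker, ?_, ?_⟩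
  · have : IsClosedImmersion (IsClosedImmersion.lift i _ hker ≫ i) := by
      rw [IsClosedImmersion.lift_fac]; infer_instance
    exact IsClosedImmersion.of_comp_isClosedImmersion _ i
  · intro w
    have hw : i w ∈ Set.range (vanishingIdeal T).subschemeι := by
      rw [range_subschemeι_vanishingIdeal, ← hT]; exact ⟨w, rfl⟩
    obtain ⟨z, hz⟩ := hw
    refine ⟨z, i.isClosedEmbedding.injective ?_⟩
    rw [← hz, ← Scheme.Hom.comp_apply, IsClosedImmersion.lift_fac]

/-- All closed subschemes of `X` supported in `T` are affine. -/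
def AffBelow (X : Scheme.{u}) (T : Closeds X) : Prop :=
  ∀ (W : Scheme.{u}) (i : W ⟶ X), IsClosedImmersion i → Set.range i ⊆ (T : Set X) → IsAffine W

/-- The reduced induced subscheme on an irreducible closed subset of a Noetherian scheme,
dominated by a finite surjective morphism from an affine scheme, is affine provided all closed
subschemes supported on strictly smaller closed subsets are affine. -/
theorem isAffine_vanishingIdeal_of_irreducible {Y X : Scheme.{u}} (f : Y ⟶ X) [IsFinite f]
    [Surjective f] [IsAffine Y] [IsNoetherian X] (T : Closeds X)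
    (hT : IsIrreducible (T : Set X))
    (IH : ∀ T' : Closeds X, T' < T → AffBelow X T') :
    IsAffine (vanishingIdeal T).subscheme := by
  have hlnX : IsLocallyNoetherian X := inferInstance
  have hln : IsLocallyNoetherian (vanishingIdeal T).subscheme :=
    LocallyOfFiniteType.isLocallyNoetherian (vanishingIdeal T).subschemeι
  have hqs : QuasiSeparatedSpace (vanishingIdeal T).subscheme := inferInstance
  have hYT : IsAffine (pullback f (vanishingIdeal T).subschemeι) :=
    isAffine_of_isAffineHom (pullback.fst f (vanishingIdeal T).subschemeι)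
  have hred : IsReduced (vanishingIdeal T).subscheme :=
    Groth.Agent.Lib.Helper16.isReduced_subscheme_vanishingIdeal T
  have hirr : IrreducibleSpace (vanishingIdeal T).subscheme :=
    irreducibleSpace_subscheme_vanishingIdeal T hT
  have hint : IsIntegral (vanishingIdeal T).subscheme :=
    isIntegral_of_irreducibleSpace_of_isReduced _
  clear hlnX hln
  set Z := (vanishingIdeal T).subscheme with hZ
  set ι := (vanishingIdeal T).subschemeι with hι
  refine isAffine_of_isIntegral_of_finite_surjective (pullback.snd f ι) fun j hj => ?_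
  set κ := (VI Z j).subschemeι with hκ
  have hcl : IsClosed (Set.range (κ ≫ ι)) := (κ ≫ ι).isClosedEmbedding.isClosed_range
  refine IH ⟨Set.range (κ ≫ ι), hcl⟩ ?_ _ (κ ≫ ι) inferInstance subset_rfl
  have hle : Set.range (κ ≫ ι) ⊆ (T : Set X) := by
    rintro _ ⟨w, rfl⟩
    rw [← range_subschemeι_vanishingIdeal T]
    exact ⟨κ w, rfl⟩
  refine lt_of_le_of_ne hle fun heq => hj ?_
  have hκsurj : ∀ z : Z, z ∈ Set.range κ := by
    intro z
    have hz : ι z ∈ Set.range (κ ≫ ι) := by
      have := congr(($heq : Set X))
      change Set.range (κ ≫ ι) = (T : Set X) at this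
      rw [this, ← range_subschemeι_vanishingIdeal T]
      exact ⟨z, rfl⟩
    obtain ⟨w, hw⟩ := hz
    exact ⟨w, ι.isEmbedding.injective hw⟩
  have hbot : Z.basicOpen j = ⊥ := by
    ext z
    simp only [Opens.coe_bot, Set.mem_empty_iff_false, iff_false, SetLike.mem_coe]
    exact (mem_range_subschemeι_iff Z j z).mp (hκsurj z)
  exact (AlgebraicGeometry.basicOpen_eq_bot_iff j).mp hbot

/-- The inclusion of reduced induced subschemes for `T' ≤ T`. -/
theorem exists_inclusion_vanishingIdeal {X : Scheme.{u}} {T' T : Closeds X} (h : T' ≤ T) :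
    ∃ inc : (vanishingIdeal T').subscheme ⟶ (vanishingIdeal T).subscheme,
      inc ≫ (vanishingIdeal T).subschemeι = (vanishingIdeal T').subschemeι ∧
        IsClosedImmersion inc := by
  have hker : (vanishingIdeal T).subschemeι.ker ≤ (vanishingIdeal T').subschemeι.ker := by
    rw [ker_subschemeι, ker_subschemeι]; exact vanishingIdeal_antimono h
  refine ⟨IsClosedImmersion.lift _ _ hker, IsClosedImmersion.lift_fac _ _ hker, ?_⟩
  have : IsClosedImmersion (IsClosedImmersion.lift (vanishingIdeal T).subschemeι
      (vanishingIdeal T').subschemeι hker ≫ (vanishingIdeal T).subschemeι) := by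
    rw [IsClosedImmersion.lift_fac]; infer_instance
  exact IsClosedImmersion.of_comp_isClosedImmersion _ (vanishingIdeal T).subschemeι

theorem affBelow_of_lt {Y X : Scheme.{u}} (f : Y ⟶ X) [IsFinite f]
    [Surjective f] [IsAffine Y] [IsNoetherian X] (T : Closeds X)
    (IH : ∀ T' : Closeds X, T' < T → AffBelow X T') : AffBelow X T := by
  intro W i hi hrange
  by_cases hT : Set.range i = (T : Set X)
  swap
  · have hcl := i.isClosedEmbedding.isClosed_range
    refine IH ⟨Set.range i, hcl⟩ (lt_of_le_of_ne hrange fun h => hT ?_) W i hi subset_rfl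
    exact congr(($h : Set X))
  obtain ⟨t, ht, htcl, htsurj⟩ := exists_lift_vanishingIdeal i T hT
  suffices IsAffine (vanishingIdeal T).subscheme from
    Groth.Agent.Lib.Helper1.AffThick.isAffine_of_thickening t htsurj
  by_cases hne : (T : Set X).Nonempty
  swap
  · have : IsEmpty (vanishingIdeal T).subscheme := ⟨fun z => hne ⟨(vanishingIdeal T).subschemeι z, by
      rw [← range_subschemeι_vanishingIdeal]; exact ⟨z, rfl⟩⟩⟩
    exact isAffine_of_isEmpty
  by_cases hpre : IsPreirreducible (T : Set X)
  · exact isAffine_vanishingIdeal_of_irreducible f T ⟨hne, hpre⟩ IH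
  · rw [isPreirreducible_iff_isClosed_union_isClosed] at hpre
    push Not at hpre
    obtain ⟨z₁, z₂, hz₁, hz₂, hsub, hn1, hn2⟩ := hpre
    set T₁ : Closeds X := T ⊓ ⟨z₁, hz₁⟩ with hT₁
    set T₂ : Closeds X := T ⊓ ⟨z₂, hz₂⟩ with hT₂
    have hlt₁ : T₁ < T := lt_of_le_of_ne inf_le_left fun h => hn1 (by
      intro x hx
      have : x ∈ T₁ := by rw [h]; exact hx
      exact this.2)
    have hlt₂ : T₂ < T := lt_of_le_of_ne inf_le_left fun h => hn2 (by
      intro x hx
      have : x ∈ T₂ := by rw [h]; exact hx
      exact this.2)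
    obtain ⟨inc₁, hinc₁, hcl₁⟩ := exists_inclusion_vanishingIdeal hlt₁.le
    obtain ⟨inc₂, hinc₂, hcl₂⟩ := exists_inclusion_vanishingIdeal hlt₂.le
    have haff₁ : IsAffine (vanishingIdeal T₁).subscheme :=
      IH T₁ hlt₁ _ (vanishingIdeal T₁).subschemeι inferInstance
        (by rw [range_subschemeι_vanishingIdeal])
    have haff₂ : IsAffine (vanishingIdeal T₂).subscheme :=
      IH T₂ hlt₂ _ (vanishingIdeal T₂).subschemeι inferInstance
        (by rw [range_subschemeι_vanishingIdeal])
    let Zk : Bool → Scheme.{u} := fun b =>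
      if b then (vanishingIdeal T₁).subscheme else (vanishingIdeal T₂).subscheme
    let inc : ∀ b, Zk b ⟶ (vanishingIdeal T).subscheme := fun b => match b with
      | true => inc₁
      | false => inc₂
    have hcl : ∀ b, IsClosedImmersion (inc b) := fun b => by cases b <;> assumption
    have haff : ∀ b, IsAffine (Zk b) := fun b => by cases b <;> assumption
    refine Groth.Agent.Lib.Helper20.HJ.isAffine_of_finite_closed_cover _ Zk inc fun z => ?_
    have hz : (vanishingIdeal T).subschemeι z ∈ (T : Set X) := by
      rw [← range_subschemeι_vanishingIdeal]; exact ⟨z, rfl⟩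
    rcases hsub hz with h | h
    · refine ⟨true, ?_⟩
      have : (vanishingIdeal T).subschemeι z ∈ Set.range (vanishingIdeal T₁).subschemeι := by
        rw [range_subschemeι_vanishingIdeal]; exact ⟨hz, h⟩
      obtain ⟨w, hw⟩ := this
      refine ⟨w, (vanishingIdeal T).subschemeι.isEmbedding.injective ?_⟩
      rw [← hw, ← hinc₁]; rfl
    · refine ⟨false, ?_⟩
      have : (vanishingIdeal T).subschemeι z ∈ Set.range (vanishingIdeal T₂).subschemeι := by
        rw [range_subschemeι_vanishingIdeal]; exact ⟨hz, h⟩
      obtain ⟨w, hw⟩ := this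
      refine ⟨w, (vanishingIdeal T).subschemeι.isEmbedding.injective ?_⟩
      rw [← hw, ← hinc₂]; rfl

/-- **Chevalley's theorem, Noetherian case.** -/
theorem isAffine_of_finite_surjective_of_isNoetherian {Y X : Scheme.{u}} (f : Y ⟶ X) [IsFinite f]
    [Surjective f] [IsAffine Y] [IsNoetherian X] : IsAffine X := by
  have key : ∀ T : Closeds X, AffBelow X T := by
    intro T
    induction T using WellFoundedLT.induction with
    | ind T IH => exact affBelow_of_lt f T IH
  exact key ⊤ X (𝟙 X) inferInstance (Set.subset_univ _)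

end Groth.Agent.Lib.Helper21.Chev
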