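import Groth.Agent.Lib.Helper13.IntegralDescent
import Groth.Agent.Lib.Helper13.AffineDescent
import Groth.Agent.Lib.Helper21.Chev11
import Groth.Agent.Lib.Helper21.Chev8
import Groth.Agent.Lib.Helper6.UHDescent
import Groth.Agent.S0590
import Groth.Agent.S0591

/-!
# Chevalley's affineness theorem without Noetherian hypotheses (Stacks 05YU)

Reduction to the Noetherian case (`Chev11`) via Noetherian approximation (`S0590`), descent of
finitely presented morphisms (`S0591`) and helper13's limit descent tower.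
-/

set_option autoImplicit false
set_option linter.unusedSectionVars false

universe u

namespace Groth.Agent.Lib.Helper21.Chev

open AlgebraicGeometry CategoryTheory CategoryTheory.Limits Groth.Agent.Lib.Helper5
  Groth.Agent.Lib.Helper13 Groth.Agent.Lib.Helper13.LimitDescent

section tower

variable {I : Type u} [SmallCategory I] (D : I ⥤ Scheme.{u}) (i₀ : I) {X₀ Y₀ : Scheme.{u}}
  (f₀ : X₀ ⟶ Y₀) (g₀ : Y₀ ⟶ D.obj i₀)

/-- A descent conclusion in the "existential" form gives a stage of the standard tower. -/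
lemma exists_stage_of_conclusion (P : MorphismProperty Scheme.{u}) [P.IsStableUnderBaseChange]
    (h : ∃ (i : I) (φ : i ⟶ i₀) (Xi Yi : Scheme.{u}) (fi : Xi ⟶ Yi) (gi : Yi ⟶ D.obj i)
      (pY : Yi ⟶ Y₀) (pX : Xi ⟶ X₀),
      IsPullback pY gi g₀ (D.map φ) ∧ IsPullback pX fi f₀ pY ∧ P fi) :
    ∃ j : Over i₀, P (fj D i₀ f₀ g₀ j) := by
  obtain ⟨i, φ, Xi, Yi, fi, gi, pY, pX, h1, h2, h3⟩ := h
  let j : Over i₀ := Over.mk φ
  refine ⟨j, ?_⟩
  let e : Yj D i₀ g₀ j ⟶ Yi :=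
    h1.lift (pYj D i₀ g₀ j) (gj D i₀ g₀ j) (isPullback_Yj D i₀ g₀ j).w
  have he1 : e ≫ pY = pYj D i₀ g₀ j := h1.lift_fst _ _ _
  have hw : pXj D i₀ f₀ g₀ j ≫ f₀ = (fj D i₀ f₀ g₀ j ≫ e) ≫ pY := by
    rw [Category.assoc, he1]
    exact (isPullback_Xj D i₀ f₀ g₀ j).w
  let a : Xj D i₀ f₀ g₀ j ⟶ Xi := h2.lift (pXj D i₀ f₀ g₀ j) (fj D i₀ f₀ g₀ j ≫ e) hw
  have ha1 : a ≫ pX = pXj D i₀ f₀ g₀ j := h2.lift_fst _ _ _
  have ha2 : a ≫ fi = fj D i₀ f₀ g₀ j ≫ e := h2.lift_snd _ _ _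
  have hpb : IsPullback a (fj D i₀ f₀ g₀ j) fi e := by
    refine IsPullback.of_right ?_ ha2 h2
    rw [ha1, he1]
    exact isPullback_Xj D i₀ f₀ g₀ j
  exact P.of_isPullback hpb h3

end tower

section stage

variable {I : Type u} [SmallCategory I] [IsCofiltered I] (D : I ⥤ Scheme.{u}) (c : Cone D)
  (hc : IsLimit c) [∀ {i j} (f : i ⟶ j), IsAffineHom (D.map f)]
  (i₀ : I) [CompactSpace (D.obj i₀)] [QuasiSeparatedSpace (D.obj i₀)]

include hc in
/-- A finite surjective finitely presented morphism from an affine scheme to the limit descends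
to a finite surjective morphism from an affine scheme at some stage. -/
theorem exists_good_stage {X₀ : Scheme.{u}} (f₀ : X₀ ⟶ D.obj i₀)
    [LocallyOfFinitePresentation f₀] [QuasiCompact f₀] [QuasiSeparated f₀]
    {X : Scheme.{u}} (f : X ⟶ c.pt) (qX : X ⟶ X₀) (hX : IsPullback qX f f₀ (c.π.app i₀))
    [IsFinite f] [Surjective f] [IsAffine X] :
    ∃ j : Over i₀, IsFinite (fj D i₀ f₀ (𝟙 (D.obj i₀)) j) ∧
      Surjective (fj D i₀ f₀ (𝟙 (D.obj i₀)) j) ∧ IsAffine (Xj D i₀ f₀ (𝟙 (D.obj i₀)) j) := by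
  have hY : IsPullback (c.π.app i₀) (𝟙 c.pt) (𝟙 (D.obj i₀)) (c.π.app i₀) :=
    IsPullback.id_vert (c.π.app i₀)
  have : LocallyOfFinitePresentation (f₀ ≫ 𝟙 (D.obj i₀)) := inferInstance
  have : QuasiCompact (f₀ ≫ 𝟙 (D.obj i₀)) := inferInstance
  have : QuasiSeparated (f₀ ≫ 𝟙 (D.obj i₀)) := inferInstance
  -- finiteness
  obtain ⟨j₁, h₁⟩ := exists_stage_of_conclusion D i₀ f₀ (𝟙 (D.obj i₀)) @IsFinite
    (exists_isFinite_descend hc hY hX)
  -- surjectivity
  obtain ⟨j₂, h₂⟩ := exists_surjective_stage D c hc i₀ f₀ (𝟙 (D.obj i₀)) hY hX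
  -- affineness of the total space
  let DX := bcDiagram D i₀ (f₀ ≫ 𝟙 (D.obj i₀))
  let cX := bcCone D c i₀ (f₀ ≫ 𝟙 (D.obj i₀))
  let hcX : IsLimit cX := isLimitBcCone D c hc i₀ (f₀ ≫ 𝟙 (D.obj i₀))
  have : ∀ j, CompactSpace (DX.obj j) := fun j => compactSpace_Xj D i₀ f₀ (𝟙 (D.obj i₀)) j
  have : ∀ j, QuasiSeparatedSpace (DX.obj j) := fun j =>
    quasiSeparatedSpace_Xj D i₀ f₀ (𝟙 (D.obj i₀)) j
  have : IsAffine cX.pt := IsAffine.of_isIso (isoX hY hX).inv
  obtain ⟨j₃, h₃⟩ := Scheme.exists_isAffine_of_isLimit DX cX hcX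
  -- a common stage
  let j₁₂ := IsCofiltered.min j₁ j₂
  let j := IsCofiltered.min j₁₂ j₃
  let e₁ : j ⟶ j₁ := IsCofiltered.minToLeft j₁₂ j₃ ≫ IsCofiltered.minToLeft j₁ j₂
  let e₂ : j ⟶ j₂ := IsCofiltered.minToLeft j₁₂ j₃ ≫ IsCofiltered.minToRight j₁ j₂
  let e₃ : j ⟶ j₃ := IsCofiltered.minToRight j₁₂ j₃
  refine ⟨j, ?_, ?_, ?_⟩
  · exact MorphismProperty.of_isPullback (isPullback_map_fj D i₀ f₀ (𝟙 (D.obj i₀)) e₁) h₁
  · exact MorphismProperty.of_isPullback (P := @Surjective)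
      (isPullback_map_fj D i₀ f₀ (𝟙 (D.obj i₀)) e₂) h₂
  · have : IsAffine (DX.obj j₃) := h₃
    have : IsAffineHom (DX.map e₃) :=
      MorphismProperty.of_isPullback
        (isPullback_bcDiagram_map D i₀ (f₀ ≫ 𝟙 (D.obj i₀)) e₃).flip inferInstance
    have h := isAffine_of_isAffineHom (DX.map e₃)
    exact h

end stage

section main

/-- Chevalley's theorem for a finite, finitely presented, surjective morphism from an affine scheme
to a quasi-compact quasi-separated scheme. -/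
theorem isAffine_of_finite_fp_surjective {T S : Scheme.{u}} (q : T ⟶ S) [IsFinite q]
    [LocallyOfFinitePresentation q] [Surjective q] [IsAffine T] [CompactSpace S]
    [QuasiSeparatedSpace S] : IsAffine S := by
  obtain ⟨I, _, _, _, D, c, hc, hD, hst, ⟨e⟩⟩ := Groth.Agent.S0590.result S
  have : IsFiltered I := isFiltered_of_directed_le_nonempty I
  have : IsCofiltered Iᵒᵖ := inferInstance
  have hD' : ∀ {i j : Iᵒᵖ} (f : i ⟶ j), IsAffineHom (D.map f) := fun f => hD _ _ f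
  have hD'' : ∀ (i j : Iᵒᵖ) (f : i ⟶ j), IsAffineHom (D.map f) := hD
  have hcomp : ∀ i, CompactSpace (D.obj i) := fun i => (hst i).1
  have : IsNoetherianRing (ULift.{u} ℤ) := isNoetherianRing_of_ringEquiv ℤ ULift.ringEquiv.symm
  have hnoeth : ∀ i, IsLocallyNoetherian (D.obj i) := fun i => by
    have := (hst i).2
    exact LocallyOfFiniteType.isLocallyNoetherian
      (Limits.IsTerminal.from specULiftZIsTerminal (D.obj i))
  have hqs : ∀ i, QuasiSeparatedSpace (D.obj i) := fun i => inferInstance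
  -- transport `q` to the limit
  let q' : T ⟶ c.pt := q ≫ e.inv
  have : IsFinite q' := inferInstance
  have : LocallyOfFinitePresentation q' := inferInstance
  have : Surjective q' := inferInstance
  obtain ⟨i, Xi, fi, g, hLFP, hQC, hQS, hpb⟩ := Groth.Agent.S0591.result D c hc T q'
  obtain ⟨j, hfin, hsurj, haff⟩ := exists_good_stage D c hc i fi q' g hpb
  -- the stage `Y_j` is Noetherian
  have hY : IsPullback (c.π.app i) (𝟙 c.pt) (𝟙 (D.obj i)) (c.π.app i) :=
    IsPullback.id_vert (c.π.app i)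
  have hiso : IsIso (gj D i (𝟙 (D.obj i)) j) := inferInstance
  have : IsLocallyNoetherian (Yj D i (𝟙 (D.obj i)) j) :=
    isLocallyNoetherian_of_isOpenImmersion (gj D i (𝟙 (D.obj i)) j)
  have : CompactSpace (Yj D i (𝟙 (D.obj i)) j) := compactSpace_Yj D i (𝟙 (D.obj i)) j
  have : IsNoetherian (Yj D i (𝟙 (D.obj i)) j) := {}
  have hYj : IsAffine (Yj D i (𝟙 (D.obj i)) j) :=
    isAffine_of_finite_surjective_of_isNoetherian (fj D i fi (𝟙 (D.obj i)) j)
  -- `c.pt ⟶ Y_j` is affine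
  have := isAffineHom_π_app D c hc j.left
  have : IsAffineHom (πY hY j) :=
    MorphismProperty.of_isPullback (isPullback_πY hY j).flip inferInstance
  have : IsAffine c.pt := isAffine_of_isAffineHom (πY hY j)
  exact IsAffine.of_isIso e.inv

end main

end Groth.Agent.Lib.Helper21.Chev
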