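import Mathlib.Topology.Sober
import Mathlib.Topology.KrullDimension
import Mathlib.Order.KrullDimension
import Mathlib.Topology.Separation.Basic
import Mathlib.Topology.Irreducible

/-! Points of coheight one in a sober space, in terms of irreducible closed subsets. -/

set_option autoImplicit false

namespace Groth.Agent.Lib.Helper21

open Set Order

section Ord

variable {α : Type*} [Preorder α]

theorem coheight_eq_one_iff (x : α) :
    coheight x = 1 ↔ ¬ IsMax x ∧ ∀ y, x < y → IsMax y := by
  constructor
  · intro h
    refine ⟨fun hmax => ?_, fun y hy => ?_⟩
    · rw [← coheight_eq_zero, h] at hmax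
      exact one_ne_zero hmax
    · have := coheight_add_one_le hy
      rw [h] at this
      rw [← coheight_eq_zero]
      have h0 : coheight y + 1 ≤ 0 + 1 := by simpa using this
      exact le_antisymm ((ENat.add_le_add_iff_right ENat.one_ne_top).mp h0) bot_le
  · rintro ⟨hnm, hall⟩
    rw [coheight_eq_iSup_gt_coheight]
    apply le_antisymm
    · refine iSup₂_le fun y hy => ?_
      rw [(coheight_eq_zero).mpr (hall y hy), zero_add]
    · obtain ⟨y, hlt⟩ := not_isMax_iff.mp hnm
      refine le_trans ?_ (le_iSup₂ (f := fun y (_ : y > x) => coheight y + 1) y hlt)
      simp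

end Ord

section Top

attribute [local instance] specializationPreorder

variable {X : Type*} [TopologicalSpace X]

theorem isMax_of_closure_singleton_mem_irreducibleComponents {y : X}
    (h : closure {y} ∈ irreducibleComponents X) : IsMax y := by
  intro b hb
  -- `hb : b ⤳ y`
  change b ⤳ y at hb
  change y ⤳ b
  rw [specializes_iff_closure_subset]
  exact h.2 isIrreducible_singleton.closure (specializes_iff_closure_subset.mp hb)

theorem closure_singleton_mem_irreducibleComponents_of_isMax [QuasiSober X] {y : X}
    (h : IsMax y) : closure {y} ∈ irreducibleComponents X := by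
  refine ⟨isIrreducible_singleton.closure, fun t ht hyt => ?_⟩
  have hgen := ht.isGenericPoint_genericPoint_closure
  set ζ := ht.genericPoint
  have h1 : ζ ⤳ y := by
    rw [specializes_iff_mem_closure, hgen.def]
    exact subset_closure (hyt (subset_closure rfl))
  have h2 : y ⤳ ζ := h (b := ζ) h1
  calc t ⊆ closure t := subset_closure
    _ = closure {ζ} := hgen.def.symm
    _ ⊆ closure {y} := specializes_iff_closure_subset.mp h2

theorem closure_singleton_mem_irreducibleComponents_iff [QuasiSober X] (y : X) :
    closure {y} ∈ irreducibleComponents X ↔ IsMax y :=
  ⟨isMax_of_closure_singleton_mem_irreducibleComponents,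
    closure_singleton_mem_irreducibleComponents_of_isMax⟩

/-- In a quasi-compact sober `T₀` space, all closed points have coheight one iff the irreducible
closed subsets other than the irreducible components are exactly the closed points. -/
theorem forall_closed_coheight_eq_one_iff [QuasiSober X] [T0Space X] [CompactSpace X] :
    (∀ x : X, IsClosed ({x} : Set X) → coheight x = 1) ↔
      ((∀ F : Set X, IsClosed F → IsIrreducible F → F ∉ irreducibleComponents X →
          ∃ x : X, IsClosed ({x} : Set X) ∧ F = {x}) ∧
        ∀ x : X, IsClosed ({x} : Set X) → ({x} : Set X) ∉ irreducibleComponents X) := by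
  constructor
  · intro h
    constructor
    · intro F hFc hFi hFn
      have hgen := hFi.isGenericPoint_genericPoint hFc
      set η := hFi.genericPoint
      obtain ⟨x, hxF, hxc⟩ := hFc.exists_closed_singleton hFi.nonempty
      have hηx : η ⤳ x := by
        rw [specializes_iff_mem_closure, hgen.def]; exact hxF
      have hnm : ¬ IsMax η := fun hm => hFn (by
        rw [← hgen.def]; exact closure_singleton_mem_irreducibleComponents_of_isMax hm)
      have hx1 := (coheight_eq_one_iff x).mp (h x hxc)
      have hxη : x ⤳ η := by
        by_contra hcon
        exact hnm (hx1.2 η (lt_of_le_not_ge hηx hcon))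
      have : η = x := (hηx.antisymm hxη).eq
      refine ⟨x, hxc, ?_⟩
      rw [← hgen.def, this, hxc.closure_eq]
    · intro x hxc hcomp
      have hmax : IsMax x := isMax_of_closure_singleton_mem_irreducibleComponents
        (by rwa [hxc.closure_eq])
      have := h x hxc
      rw [(coheight_eq_zero).mpr hmax] at this
      exact zero_ne_one this
  · rintro ⟨ha, hb⟩ x hxc
    rw [coheight_eq_one_iff]
    constructor
    · intro hmax
      apply hb x hxc
      have := closure_singleton_mem_irreducibleComponents_of_isMax hmax
      rwa [hxc.closure_eq] at this
    · intro y hxy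
      by_contra hnm
      have hFn : closure {y} ∉ irreducibleComponents X := fun hc =>
        hnm (isMax_of_closure_singleton_mem_irreducibleComponents hc)
      obtain ⟨z, hzc, hz⟩ := ha (closure {y}) isClosed_closure isIrreducible_singleton.closure hFn
      have hyz : y = z := by
        have : y ∈ ({z} : Set X) := hz ▸ subset_closure rfl
        exact this
      have hxz : x ∈ ({z} : Set X) := by
        rw [← hz]
        exact specializes_iff_mem_closure.mp hxy.le
      have hxy' : x = y := by rw [hyz]; exact hxz
      exact lt_irrefl _ (hxy' ▸ hxy)

end Top

end Groth.Agent.Lib.Helper21
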