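import Mathlib

/-!
# Coherent modules (finitely generated, every f.g. submodule finitely presented)
-/

universe u

namespace Groth.Agent.Lib.Helper21.Coh

variable {R : Type u} [CommRing R]

/-- Coherent module. -/
def IsCoh (R : Type u) [CommRing R] (M : Type*) [AddCommGroup M] [Module R M] : Prop :=
  Module.Finite R M ∧ ∀ N : Submodule R M, N.FG → Module.FinitePresentation R N

/-- Extensions of coherent modules are coherent (S6367). -/
theorem isCoh_of_exact {M₁ M₂ M₃ : Type*}
    [AddCommGroup M₁] [Module R M₁] [AddCommGroup M₂] [Module R M₂] [AddCommGroup M₃] [Module R M₃]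
    (f : M₁ →ₗ[R] M₂) (g : M₂ →ₗ[R] M₃) (hf : Function.Injective f)
    (hfg : LinearMap.range f = LinearMap.ker g)
    (h₁ : IsCoh R M₁) (h₃ : IsCoh R M₃) (hfin : Module.Finite R M₂) : IsCoh R M₂ := by
  refine ⟨hfin, fun N hN => ?_⟩
  have : Module.Finite R N := Module.Finite.iff_fg.2 hN
  -- image of `N` in `M₃`
  have hN₃ : (N.map g).FG := hN.map g
  have : Module.FinitePresentation R (N.map g) := h₃.2 _ hN₃
  let l : N →ₗ[R] (N.map g) := (g.domRestrict N).codRestrict (N.map g) fun c => ⟨c.1, c.2, rfl⟩
  have hl : Function.Surjective l := by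
    rintro ⟨_, c, hc, rfl⟩
    exact ⟨⟨c, hc⟩, rfl⟩
  have hker : (LinearMap.ker l).FG := Module.FinitePresentation.fg_ker l hl
  -- the kernel is isomorphic to the preimage of `N` in `M₁`
  let N₁ : Submodule R M₁ := N.comap f
  let φ : N₁ →ₗ[R] LinearMap.ker l :=
    { toFun := fun x => ⟨⟨f x.1, x.2⟩, by
        rw [LinearMap.mem_ker]
        apply Subtype.ext
        change g (f x.1) = 0
        have : f x.1 ∈ LinearMap.ker g := hfg ▸ LinearMap.mem_range_self f x.1
        exact this⟩
      map_add' := fun a b => by
        apply Subtype.ext; apply Subtype.ext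
        simp
      map_smul' := fun r a => by
        apply Subtype.ext; apply Subtype.ext
        simp }
  have hφinj : Function.Injective φ := by
    intro a b hab
    apply Subtype.ext
    apply hf
    exact congrArg (fun z => (z.1.1 : M₂)) hab
  have hφsurj : Function.Surjective φ := by
    rintro ⟨⟨y, hyN⟩, hy⟩
    have hy' : g y = 0 := by
      rw [LinearMap.mem_ker] at hy
      exact congrArg Subtype.val hy
    have : y ∈ LinearMap.range f := hfg ▸ hy'
    obtain ⟨x, rfl⟩ := this
    exact ⟨⟨x, hyN⟩, rfl⟩
  let e : N₁ ≃ₗ[R] LinearMap.ker l := LinearEquiv.ofBijective φ ⟨hφinj, hφsurj⟩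
  have hN₁ : N₁.FG := by
    have : Module.Finite R (LinearMap.ker l) := Module.Finite.iff_fg.2 hker
    have : Module.Finite R N₁ := Module.Finite.equiv e.symm
    exact Module.Finite.iff_fg.1 this
  have : Module.FinitePresentation R N₁ := h₁.2 _ hN₁
  have : Module.FinitePresentation R (LinearMap.ker l) := Module.FinitePresentation.of_equiv e
  exact Module.finitePresentation_of_ker l hl

/-- Coherence is invariant under linear equivalences. -/
theorem isCoh_of_equiv {M M' : Type*} [AddCommGroup M] [Module R M] [AddCommGroup M']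
    [Module R M'] (e : M ≃ₗ[R] M') (h : IsCoh R M) : IsCoh R M' := by
  have := h.1
  refine ⟨Module.Finite.equiv e, fun N hN => ?_⟩
  have h1 : (N.map e.symm.toLinearMap).FG := hN.map _
  have := h.2 _ h1
  exact Module.FinitePresentation.of_equiv (e.symm.submoduleMap N).symm

/-- The quotient of a coherent module by a finitely generated submodule is coherent. -/
theorem isCoh_quotient {M : Type*} [AddCommGroup M] [Module R M] (h : IsCoh R M)
    (K : Submodule R M) (hK : K.FG) : IsCoh R (M ⧸ K) := by
  have := h.1
  refine ⟨inferInstance, fun N hN => ?_⟩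
  let N' : Submodule R M := N.comap K.mkQ
  have hmap : N'.map K.mkQ = N := Submodule.map_comap_eq_of_surjective K.mkQ_surjective N
  have hKN' : K ≤ N' := by
    intro x hx
    change K.mkQ x ∈ N
    have h0 : K.mkQ x = 0 := (Submodule.Quotient.mk_eq_zero K).2 hx
    rw [h0]
    exact N.zero_mem
  have hN' : N'.FG := by
    apply Submodule.fg_of_fg_map_of_fg_inf_ker K.mkQ
    · rw [hmap]; exact hN
    · rw [Submodule.ker_mkQ, inf_eq_right.2 hKN']; exact hK
  have := h.2 _ hN'
  let l : N' →ₗ[R] N := (K.mkQ.domRestrict N').codRestrict N fun c => c.2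
  have hl : Function.Surjective l := by
    rintro ⟨y, hy⟩
    obtain ⟨x, rfl⟩ := K.mkQ_surjective y
    exact ⟨⟨x, hy⟩, rfl⟩
  refine Module.finitePresentation_of_surjective l hl ?_
  apply Submodule.fg_of_fg_map_injective N'.subtype Subtype.val_injective
  have : (LinearMap.ker l).map N'.subtype = K := by
    ext x
    constructor
    · rintro ⟨c, hc, rfl⟩
      rw [SetLike.mem_coe, LinearMap.mem_ker] at hc
      have : K.mkQ c.1 = 0 := congrArg Subtype.val hc
      exact (Submodule.Quotient.mk_eq_zero K).1 this
    · intro hx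
      refine ⟨⟨x, hKN' hx⟩, ?_, rfl⟩
      rw [SetLike.mem_coe, LinearMap.mem_ker]
      apply Subtype.ext
      exact (Submodule.Quotient.mk_eq_zero K).2 hx
  rw [this]
  exact hK

/-- Over a coherent ring, finite free modules are coherent. -/
theorem isCoh_fin_fun (hR : ∀ I : Ideal R, I.FG → Module.FinitePresentation R I) (n : ℕ) :
    IsCoh R (Fin n → R) := by
  induction n with
  | zero =>
    refine ⟨inferInstance, fun N _ => ?_⟩
    infer_instance
  | succ n ih =>
    let f : R →ₗ[R] (Fin (n + 1) → R) := LinearMap.single R (fun _ => R) 0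
    let g : (Fin (n + 1) → R) →ₗ[R] (Fin n → R) := LinearMap.funLeft R R Fin.succ
    have hf : Function.Injective f := by
      intro a b hab
      have := congrFun hab 0
      simpa [f] using this
    have hfg : LinearMap.range f = LinearMap.ker g := by
      ext c
      constructor
      · rintro ⟨a, rfl⟩
        rw [LinearMap.mem_ker]
        ext i
        simp [f, g, LinearMap.funLeft_apply, Fin.succ_ne_zero]
      · intro hc
        rw [LinearMap.mem_ker] at hc
        refine ⟨c 0, ?_⟩
        ext i
        refine Fin.cases ?_ (fun j => ?_) i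
        · simp [f]
        · have := congrFun hc j
          simp only [g, LinearMap.funLeft_apply, Pi.zero_apply] at this
          simp [f, this, Fin.succ_ne_zero]
    exact isCoh_of_exact f g hf hfg ⟨inferInstance, fun I hI => hR I hI⟩ ih inferInstance

/-- S6366. -/
theorem isCoh_iff_finitePresentation (hR : ∀ I : Ideal R, I.FG → Module.FinitePresentation R I)
    (M : Type*) [AddCommGroup M] [Module R M] :
    IsCoh R M ↔ Module.FinitePresentation R M := by
  constructor
  · intro h
    have := h.1
    have := h.2 ⊤ Module.Finite.fg_top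
    exact Module.FinitePresentation.of_equiv (Submodule.topEquiv : (⊤ : Submodule R M) ≃ₗ[R] M)
  · intro h
    obtain ⟨n, K, e, hK⟩ := Module.FinitePresentation.exists_fin R M
    exact isCoh_of_equiv e.symm (isCoh_quotient (isCoh_fin_fun hR n) K hK)

end Groth.Agent.Lib.Helper21.Coh
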