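import Groth.Agent.Lib.Helper21.VE2
import Groth.Agent.Lib.Helper21.Comp1

/-!
# Lifts along valuation rings: descent along extensions, and from generizations

* `exists_lift_descend`: a lift for a valuation ring `V₂` of an extension `L` of `κ(x)` with
  `V₂ ∩ κ(x) = V` gives a lift for `V`.
* `exists_lift_of_generization`: for `f` separated and `η ⤳ x`: if all valuation subrings of
  `κ(η)` have lifts, so have all valuation subrings of `κ(x)` (via composite valuation rings).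
-/

set_option autoImplicit false
universe u
open AlgebraicGeometry CategoryTheory Limits TopologicalSpace

namespace Groth.Agent.Lib.Helper21.DVRExt

variable {X S : Scheme.{u}}

/-- Descent of lifts along an extension of valuation rings. -/
theorem exists_lift_descend (f : X ⟶ S) (x : X) (V : ValuationSubring (X.residueField x))
    (y : Spec (CommRingCat.of V) ⟶ S)
    (hy : Spec.map (CommRingCat.ofHom V.subtype) ≫ y = X.fromSpecResidueField x ≫ f)
    {L : Type u} [Field L] (θ : X.residueField x →+* L) (V₂ : ValuationSubring L)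
    (hV₂ : V₂.comap θ = V) (ι₂ : V →+* V₂)
    (l₂ : Spec (CommRingCat.of V₂) ⟶ X)
    (hgen : Spec.map (CommRingCat.ofHom V₂.subtype) ≫ l₂ =
      Spec.map (CommRingCat.ofHom θ) ≫ X.fromSpecResidueField x)
    (hl₂ : l₂ ≫ f = Spec.map (CommRingCat.ofHom ι₂) ≫ y) :
    ∃ l : Spec (CommRingCat.of V) ⟶ X, l ≫ f = y ∧
      Spec.map (CommRingCat.ofHom V.subtype) ≫ l = X.fromSpecResidueField x := by
  let ptL : Spec (CommRingCat.of L) := (⟨⊥, Ideal.isPrime_bot⟩ : PrimeSpectrum L)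
  -- a chart on `S`
  obtain ⟨W₀, hW₀, hsW₀⟩ : ∃ W₀ : S.Opens, IsAffineOpen W₀ ∧
      y (IsLocalRing.closedPoint V) ∈ W₀ := by
    obtain ⟨W, h1, h2, -⟩ := Opens.isBasis_iff_nbhd.mp S.isBasis_affineOpens
      (show y (IsLocalRing.closedPoint V) ∈ (⊤ : S.Opens) from trivial)
    exact ⟨W, h1, h2⟩
  obtain ⟨φ, hφ⟩ := exists_factor_fromSpec y hW₀ hsW₀
  let ρ : Γ(S, W₀) ⟶ X.residueField x := φ ≫ CommRingCat.ofHom V.subtype
  have hρ : Spec.map ρ ≫ hW₀.fromSpec = X.fromSpecResidueField x ≫ f := by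
    rw [Spec.map_comp, Category.assoc, hφ]
    exact hy
  -- the closed point of `l₂`
  have hfz : f (l₂ (IsLocalRing.closedPoint V₂)) ∈ W₀ := by
    rw [← Scheme.Hom.comp_apply, hl₂, ← hφ, ← Category.assoc, ← Spec.map_comp]
    exact mem_of_specMap_fromSpec hW₀ _ _
  obtain ⟨U₂, hU₂, hzU₂, hU₂le⟩ : ∃ U₂ : X.Opens, IsAffineOpen U₂ ∧
      l₂ (IsLocalRing.closedPoint V₂) ∈ U₂ ∧ U₂ ≤ f ⁻¹ᵁ W₀ := by
    obtain ⟨U, h1, h2, h3⟩ := Opens.isBasis_iff_nbhd.mp X.isBasis_affineOpens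
      (show l₂ (IsLocalRing.closedPoint V₂) ∈ f ⁻¹ᵁ W₀ from hfz)
    exact ⟨U, h1, h2, h3⟩
  obtain ⟨lam₂, hlam₂⟩ := exists_factor_fromSpec l₂ hU₂ hzU₂
  have hxU₂ : x ∈ U₂ := by
    have h1 := mem_of_specMap_fromSpec hU₂ (lam₂ ≫ CommRingCat.ofHom V₂.subtype) ptL
    rw [Spec.map_comp, Category.assoc, hlam₂, hgen, Scheme.Hom.comp_apply,
      Scheme.fromSpecResidueField_apply] at h1
    exact h1
  have hlam₂' : lam₂ ≫ CommRingCat.ofHom V₂.subtype =
      X.evaluation U₂ x hxU₂ ≫ CommRingCat.ofHom θ := by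
    apply specMap_fromSpec_cancel hU₂
    rw [Spec.map_comp, Category.assoc, hlam₂, hgen, Spec.map_comp, Category.assoc,
      ← fromSpecResidueField_eq_evaluation hU₂ x hxU₂]
    rfl
  have hmemV : ∀ b, (X.evaluation U₂ x hxU₂).hom b ∈ V.toSubring := by
    intro b
    change (X.evaluation U₂ x hxU₂).hom b ∈ V
    rw [← hV₂, ValuationSubring.mem_comap]
    have h1 := congrArg (fun g => g.hom b) hlam₂'
    change ((lam₂.hom b : V₂) : L) = θ ((X.evaluation U₂ x hxU₂).hom b) at h1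
    rw [← h1]
    exact (lam₂.hom b).2
  let lam : Γ(X, U₂) ⟶ CommRingCat.of V :=
    CommRingCat.ofHom ((X.evaluation U₂ x hxU₂).hom.codRestrict V.toSubring hmemV)
  have hlam : lam ≫ CommRingCat.ofHom V.subtype = X.evaluation U₂ x hxU₂ := by
    ext b; rfl
  have hcompat : f.appLE W₀ U₂ hU₂le ≫ X.evaluation U₂ x hxU₂ = ρ := by
    apply specMap_fromSpec_cancel hW₀
    rw [Spec.map_comp, Category.assoc, IsAffineOpen.SpecMap_appLE_fromSpec f hW₀ hU₂ hU₂le,
      ← Category.assoc, ← fromSpecResidueField_eq_evaluation hU₂ x hxU₂, hρ]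
  refine ⟨Spec.map lam ≫ hU₂.fromSpec, ?_, ?_⟩
  · rw [← hφ, Category.assoc, ← IsAffineOpen.SpecMap_appLE_fromSpec f hW₀ hU₂ hU₂le,
      ← Category.assoc, ← Spec.map_comp]
    congr 2
    ext r
    have h1 := congrArg (fun g => g.hom r) hcompat
    exact h1
  · rw [← Category.assoc, ← Spec.map_comp, hlam, ← fromSpecResidueField_eq_evaluation]

/-- **Lifts at a point from lifts at a generization** (for a separated morphism), via composite
valuation rings. -/
theorem exists_lift_of_generization (f : X ⟶ S) [IsSeparated f] (x η : X) (h : η ⤳ x)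
    (Hη : ∀ (W : ValuationSubring (X.residueField η)) (y : Spec (CommRingCat.of W) ⟶ S),
      Spec.map (CommRingCat.ofHom W.subtype) ≫ y = X.fromSpecResidueField η ≫ f →
      ∃ l : Spec (CommRingCat.of W) ⟶ X, l ≫ f = y ∧
        Spec.map (CommRingCat.ofHom W.subtype) ≫ l = X.fromSpecResidueField η)
    (V : ValuationSubring (X.residueField x)) (y : Spec (CommRingCat.of V) ⟶ S)
    (hy : Spec.map (CommRingCat.ofHom V.subtype) ≫ y = X.fromSpecResidueField x ≫ f) :
    ∃ l : Spec (CommRingCat.of V) ⟶ X, l ≫ f = y ∧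
      Spec.map (CommRingCat.ofHom V.subtype) ≫ l = X.fromSpecResidueField x := by
  let pt : Spec (X.residueField x) := (⟨⊥, Ideal.isPrime_bot⟩ : PrimeSpectrum (X.residueField x))
  -- the valuation ring `V₁` of `κ(η)` dominating the local ring at `x`
  let σ : X.presheaf.stalk x →+* X.residueField η :=
    (X.presheaf.stalkSpecializes h ≫ X.residue η).hom
  obtain ⟨V₁, hV₁, hloc₁⟩ := IsLocalRing.exists_factor_valuationRing σ
  let σ₁ : X.presheaf.stalk x →+* V₁ := σ.codRestrict V₁.toSubring hV₁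
  have hloc₁' : IsLocalHom σ₁ := hloc₁
  let θ : X.residueField x →+* IsLocalRing.ResidueField V₁ := IsLocalRing.ResidueField.map σ₁
  have hθ : ∀ a : X.presheaf.stalk x, θ ((X.residue x).hom a) = IsLocalRing.residue V₁ (σ₁ a) :=
    fun a => IsLocalRing.ResidueField.map_residue σ₁ a
  -- the valuation ring `V₂` of the residue field of `V₁` dominating `V`
  obtain ⟨V₂, hV₂, hloc₂⟩ := IsLocalRing.exists_factor_valuationRing (θ.comp V.subtype)
  have hcomap : V₂.comap θ = V := Comp.comap_eq_of_isLocalHom θ V V₂ hV₂ hloc₂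
  let ι₂ : V →+* V₂ := (θ.comp V.subtype).codRestrict V₂.toSubring hV₂
  let W : ValuationSubring (X.residueField η) := Comp.composite V₁ V₂
  -- a chart on `S`
  obtain ⟨W₀, hW₀, hsW₀⟩ : ∃ W₀ : S.Opens, IsAffineOpen W₀ ∧
      y (IsLocalRing.closedPoint V) ∈ W₀ := by
    obtain ⟨W', h1, h2, -⟩ := Opens.isBasis_iff_nbhd.mp S.isBasis_affineOpens
      (show y (IsLocalRing.closedPoint V) ∈ (⊤ : S.Opens) from trivial)
    exact ⟨W', h1, h2⟩
  obtain ⟨φ, hφ⟩ := exists_factor_fromSpec y hW₀ hsW₀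
  let ρ : Γ(S, W₀) ⟶ X.residueField x := φ ≫ CommRingCat.ofHom V.subtype
  have hρ : Spec.map ρ ≫ hW₀.fromSpec = X.fromSpecResidueField x ≫ f := by
    rw [Spec.map_comp, Category.assoc, hφ]
    exact hy
  have hfx : f x ∈ W₀ := by
    have h1 := mem_of_specMap_fromSpec hW₀ ρ pt
    rwa [hρ, Scheme.Hom.comp_apply, Scheme.fromSpecResidueField_apply] at h1
  obtain ⟨U₁, hU₁, hxU₁, hU₁le⟩ : ∃ U₁ : X.Opens, IsAffineOpen U₁ ∧ x ∈ U₁ ∧
      U₁ ≤ f ⁻¹ᵁ W₀ := by
    obtain ⟨U, h1, h2, h3⟩ := Opens.isBasis_iff_nbhd.mp X.isBasis_affineOpens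
      (show x ∈ f ⁻¹ᵁ W₀ from hfx)
    exact ⟨U, h1, h2, h3⟩
  have hηU₁ : η ∈ U₁ := h.mem_open U₁.isOpen hxU₁
  have hcompat : f.appLE W₀ U₁ hU₁le ≫ X.evaluation U₁ x hxU₁ = ρ := by
    apply specMap_fromSpec_cancel hW₀
    rw [Spec.map_comp, Category.assoc, IsAffineOpen.SpecMap_appLE_fromSpec f hW₀ hU₁ hU₁le,
      ← Category.assoc, ← fromSpecResidueField_eq_evaluation hU₁ x hxU₁, hρ]
  -- the map `R → V₁`
  let γ : Γ(S, W₀) ⟶ X.presheaf.stalk x := f.appLE W₀ U₁ hU₁le ≫ X.presheaf.germ U₁ x hxU₁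
  let ψ₁ : Γ(S, W₀) →+* V₁ := σ₁.comp γ.hom
  have hψ₁res : ∀ r, IsLocalRing.residue V₁ (ψ₁ r) = θ ((φ.hom r : V) : X.residueField x) := by
    intro r
    change IsLocalRing.residue V₁ (σ₁ (γ.hom r)) = _
    rw [← hθ]
    congr 1
    have h1 := congrArg (fun g => g.hom r) hcompat
    exact h1
  have hψ₁W : ∀ r, ((ψ₁ r : V₁) : X.residueField η) ∈ W.toSubring := by
    intro r
    refine (Comp.mem_composite_iff V₁ V₂ _).mpr ⟨(ψ₁ r).2, ?_⟩
    change IsLocalRing.residue V₁ (ψ₁ r) ∈ V₂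
    rw [hψ₁res r]
    exact hV₂ (φ.hom r)
  let ψW : Γ(S, W₀) →+* W := (V₁.subtype.comp ψ₁).codRestrict W.toSubring hψ₁W
  let yW : Spec (CommRingCat.of W) ⟶ S := Spec.map (CommRingCat.ofHom ψW) ≫ hW₀.fromSpec
  have hyW : Spec.map (CommRingCat.ofHom W.subtype) ≫ yW = X.fromSpecResidueField η ≫ f := by
    rw [fromSpecResidueField_eq_evaluation hU₁ η hηU₁, Category.assoc,
      ← IsAffineOpen.SpecMap_appLE_fromSpec f hW₀ hU₁ hU₁le, ← Category.assoc, ← Spec.map_comp]
    conv_rhs => rw [← Category.assoc, ← Spec.map_comp]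
    congr 2
    ext r
    change σ (γ.hom r) = (X.evaluation U₁ η hηU₁).hom ((f.appLE W₀ U₁ hU₁le).hom r)
    change (X.residue η).hom ((X.presheaf.stalkSpecializes h).hom
      ((X.presheaf.germ U₁ x hxU₁).hom ((f.appLE W₀ U₁ hU₁le).hom r))) = _
    have h1 := congrArg (fun g => g.hom ((f.appLE W₀ U₁ hU₁le).hom r))
      (TopCat.Presheaf.germ_stalkSpecializes X.presheaf hxU₁ h)
    change (X.presheaf.stalkSpecializes h).hom ((X.presheaf.germ U₁ x hxU₁).hom
      ((f.appLE W₀ U₁ hU₁le).hom r)) = (X.presheaf.germ U₁ η hηU₁).hom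
      ((f.appLE W₀ U₁ hU₁le).hom r) at h1
    rw [h1]
    rfl
  obtain ⟨lW, hlW1, hlW2⟩ := Hη W yW hyW
  -- the restriction of `lW` to `V₁` is the canonical map
  let l₁ : Spec (CommRingCat.of V₁) ⟶ X :=
    Spec.map (CommRingCat.ofHom (Comp.toFst V₁ V₂)) ≫ lW
  let g₁ : Spec (CommRingCat.of V₁) ⟶ X :=
    Spec.map (CommRingCat.ofHom σ₁) ≫ X.fromSpecStalk x
  have hl₁g₁ : l₁ = g₁ := by
    have : IsDominant (Spec.map (CommRingCat.ofHom V₁.subtype)) :=
      isDominant_specMap_of_injective _ Subtype.val_injective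
    refine ext_of_isDominant_of_isSeparated f ?_ (Spec.map (CommRingCat.ofHom V₁.subtype)) ?_
    · -- over `S`
      have e1 : l₁ ≫ f = Spec.map (CommRingCat.ofHom ψ₁) ≫ hW₀.fromSpec := by
        change (Spec.map (CommRingCat.ofHom (Comp.toFst V₁ V₂)) ≫ lW) ≫ f = _
        rw [Category.assoc, hlW1]
        change Spec.map (CommRingCat.ofHom (Comp.toFst V₁ V₂)) ≫
          Spec.map (CommRingCat.ofHom ψW) ≫ hW₀.fromSpec = _
        rw [← Category.assoc, ← Spec.map_comp]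
        rfl
      have e2 : g₁ ≫ f = Spec.map (CommRingCat.ofHom ψ₁) ≫ hW₀.fromSpec := by
        change (Spec.map (CommRingCat.ofHom σ₁) ≫ X.fromSpecStalk x) ≫ f = _
        rw [← hU₁.fromSpecStalk_eq_fromSpecStalk hxU₁, IsAffineOpen.fromSpecStalk,
          Category.assoc, Category.assoc,
          ← IsAffineOpen.SpecMap_appLE_fromSpec f hW₀ hU₁ hU₁le, ← Category.assoc,
          ← Category.assoc, ← Spec.map_comp, ← Spec.map_comp]
        rfl
      rw [e1, e2]
    · -- at the generic point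
      have e1 : Spec.map (CommRingCat.ofHom V₁.subtype) ≫ l₁ = X.fromSpecResidueField η := by
        change Spec.map (CommRingCat.ofHom V₁.subtype) ≫
          Spec.map (CommRingCat.ofHom (Comp.toFst V₁ V₂)) ≫ lW = _
        rw [← Category.assoc, ← Spec.map_comp]
        exact hlW2
      have e2 : Spec.map (CommRingCat.ofHom V₁.subtype) ≫ g₁ = X.fromSpecResidueField η := by
        change Spec.map (CommRingCat.ofHom V₁.subtype) ≫
          Spec.map (CommRingCat.ofHom σ₁) ≫ X.fromSpecStalk x = _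
        rw [← Category.assoc, ← Spec.map_comp]
        change Spec.map (X.presheaf.stalkSpecializes h ≫ X.residue η) ≫ X.fromSpecStalk x = _
        rw [Spec.map_comp, Category.assoc, Scheme.SpecMap_stalkSpecializes_fromSpecStalk]
        rfl
      rw [e1, e2]
  -- the restriction to `V₂`
  let l₂ : Spec (CommRingCat.of V₂) ⟶ X :=
    Spec.map (CommRingCat.ofHom (Comp.toSnd V₁ V₂)) ≫ lW
  have hgen₂ : Spec.map (CommRingCat.ofHom V₂.subtype) ≫ l₂ =
      Spec.map (CommRingCat.ofHom θ) ≫ X.fromSpecResidueField x := by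
    have e1 : Spec.map (CommRingCat.ofHom V₂.subtype) ≫ l₂ =
        Spec.map (CommRingCat.ofHom (IsLocalRing.residue V₁)) ≫ l₁ := by
      change Spec.map (CommRingCat.ofHom V₂.subtype) ≫
        Spec.map (CommRingCat.ofHom (Comp.toSnd V₁ V₂)) ≫ lW =
        Spec.map (CommRingCat.ofHom (IsLocalRing.residue V₁)) ≫
        Spec.map (CommRingCat.ofHom (Comp.toFst V₁ V₂)) ≫ lW
      rw [← Category.assoc, ← Spec.map_comp, ← Category.assoc, ← Spec.map_comp]
      rfl
    rw [e1, hl₁g₁]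
    change Spec.map (CommRingCat.ofHom (IsLocalRing.residue V₁)) ≫
      Spec.map (CommRingCat.ofHom σ₁) ≫ X.fromSpecStalk x =
      Spec.map (CommRingCat.ofHom θ) ≫ Spec.map (X.residue x) ≫ X.fromSpecStalk x
    rw [← Category.assoc, ← Spec.map_comp, ← Category.assoc, ← Spec.map_comp]
    congr 2
  have hl₂ : l₂ ≫ f = Spec.map (CommRingCat.ofHom ι₂) ≫ y := by
    change (Spec.map (CommRingCat.ofHom (Comp.toSnd V₁ V₂)) ≫ lW) ≫ f = _
    rw [Category.assoc, hlW1, ← hφ]
    change Spec.map (CommRingCat.ofHom (Comp.toSnd V₁ V₂)) ≫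
      Spec.map (CommRingCat.ofHom ψW) ≫ hW₀.fromSpec = _
    rw [← Category.assoc, ← Spec.map_comp, ← Category.assoc, ← Spec.map_comp]
    congr 2
    ext r
    exact hψ₁res r
  exact exists_lift_descend f x V y hy θ V₂ hcomap ι₂ l₂ hgen₂ hl₂

end Groth.Agent.Lib.Helper21.DVRExt
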