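import Groth.Agent.Lib.Helper21.DVRExt7

/-!
# The valuative criterion of separatedness with discrete valuation rings of the residue fields of
the generic points (EGA II 7.2.3 / Stacks 0CM1-type statements)
-/

set_option autoImplicit false
universe u
open AlgebraicGeometry CategoryTheory Limits TopologicalSpace

namespace Groth.Agent.Lib.Helper21.DVRExt

variable {X S : Scheme.{u}}

/-- Uniqueness of lifts along discrete valuation subrings of the residue fields of the generic
points implies separatedness. -/
theorem isSeparated_of_valuationSubring_uniqueness [IsLocallyNoetherian S] (f : X ⟶ S)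
    [LocallyOfFiniteType f]
    (H : ∀ (η : X), closure {η} ∈ irreducibleComponents (X : Type u) →
      ∀ (A : ValuationSubring (X.residueField η)), IsDiscreteValuationRing A →
        ∀ l₁ l₂ : Spec (CommRingCat.of A) ⟶ X, l₁ ≫ f = l₂ ≫ f →
          Spec.map (CommRingCat.ofHom A.subtype) ≫ l₁ = X.fromSpecResidueField η →
          Spec.map (CommRingCat.ofHom A.subtype) ≫ l₂ = X.fromSpecResidueField η → l₁ = l₂) :
    IsSeparated f := by
  have hXN : IsLocallyNoetherian X := LocallyOfFiniteType.isLocallyNoetherian f
  have hPN : IsLocallyNoetherian (pullback f f) :=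
    LocallyOfFiniteType.isLocallyNoetherian (pullback.fst f f)
  have hΔ : LocallyOfFiniteType (pullback.diagonal f) := by
    have h1 : LocallyOfFiniteType (pullback.diagonal f ≫ pullback.fst f f) := by
      rw [pullback.diagonal_fst]; infer_instance
    exact locallyOfFiniteType_of_comp (pullback.diagonal f) (pullback.fst f f)
  apply isSeparated_of_specializations
  intro η hη w hw
  by_cases hne : w = pullback.diagonal f η
  · exact ⟨η, hne.symm⟩
  obtain ⟨A, h, hA, hcl, hgen⟩ :=
    exists_dvr_valuationSubring_of_specializes (pullback.diagonal f) η w hw hne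
  have h12 : h ≫ pullback.fst f f = h ≫ pullback.snd f f := by
    refine H η hη A hA _ _ ?_ ?_ ?_
    · rw [Category.assoc, Category.assoc, pullback.condition]
    · rw [← Category.assoc, hgen, Category.assoc, pullback.diagonal_fst, Category.comp_id]
    · rw [← Category.assoc, hgen, Category.assoc, pullback.diagonal_snd, Category.comp_id]
  have hh : h = (h ≫ pullback.fst f f) ≫ pullback.diagonal f := by
    apply pullback.hom_ext
    · rw [Category.assoc, pullback.diagonal_fst, Category.comp_id]
    · rw [Category.assoc, pullback.diagonal_snd, Category.comp_id, h12]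
  refine ⟨(h ≫ pullback.fst f f) (IsLocalRing.closedPoint A), ?_⟩
  rw [← Scheme.Hom.comp_apply, ← hh, hcl]

end Groth.Agent.Lib.Helper21.DVRExt
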