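import Groth.Agent.Lib.Helper21.Comp2
import Groth.Agent.Lib.Helper21.DVRExt8
import Groth.Agent.Lib.Helper21.BiratTop

/-!
# Universal closedness from lifts of discrete valuation rings at generic points

For `f : X ⟶ S` separated of finite type over a locally Noetherian base: if all discrete valuation
subrings of the residue fields of the generic points of the irreducible components of `X` have
lifts, then `f` is universally closed.
-/

set_option autoImplicit false
universe u
open AlgebraicGeometry CategoryTheory Limits TopologicalSpace

namespace Groth.Agent.Lib.Helper21.DVRExt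

variable {X S : Scheme.{u}}

theorem universallyClosed_of_generic_dvr_existence [IsLocallyNoetherian S] (f : X ⟶ S)
    [IsSeparated f] [LocallyOfFiniteType f] [QuasiCompact f]
    (H : ∀ (η : X), closure {η} ∈ irreducibleComponents (X : Type u) →
      ∀ (A : ValuationSubring (X.residueField η)), IsDiscreteValuationRing A →
        ∀ y : Spec (CommRingCat.of A) ⟶ S,
          Spec.map (CommRingCat.ofHom A.subtype) ≫ y = X.fromSpecResidueField η ≫ f →
          ∃ l : Spec (CommRingCat.of A) ⟶ X, l ≫ f = y ∧
            Spec.map (CommRingCat.ofHom A.subtype) ≫ l = X.fromSpecResidueField η) :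
    UniversallyClosed f := by
  apply UniversallyClosed.of_valuativeCriterion
  apply valuativeCriterion_existence_of_valuationSubring
  intro x V y hy
  obtain ⟨η, hη, hspec⟩ := Birat.exists_gen_specializes x
  exact exists_lift_of_generization f x η hspec
    (fun W y hy => exists_lift_of_dvr_at f η (H η hη) W y hy) V y hy

/-- A proper morphism has lifts for all valuation subrings of residue fields. -/
theorem exists_lift_valuationSubring_of_universallyClosed (f : X ⟶ S) [UniversallyClosed f]
    (x : X) (A : ValuationSubring (X.residueField x)) (y : Spec (CommRingCat.of A) ⟶ S)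
    (hy : Spec.map (CommRingCat.ofHom A.subtype) ≫ y = X.fromSpecResidueField x ≫ f) :
    ∃ l : Spec (CommRingCat.of A) ⟶ X, l ≫ f = y ∧
      Spec.map (CommRingCat.ofHom A.subtype) ≫ l = X.fromSpecResidueField x := by
  have hE : ValuativeCriterion.Existence f := by
    have h1 : (ValuativeCriterion.Existence ⊓ @QuasiCompact) f := by
      rw [← UniversallyClosed.eq_valuativeCriterion]; infer_instance
    exact h1.1
  let sq : ValuativeCommSq f :=
    { R := A
      K := X.residueField x
      i₁ := X.fromSpecResidueField x
      i₂ := y
      commSq := ⟨hy.symm⟩ }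
  obtain ⟨⟨l, hl1, hl2⟩⟩ := (hE sq).exists_lift
  exact ⟨l, hl2, hl1⟩

end Groth.Agent.Lib.Helper21.DVRExt
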