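import Groth.Agent.Lib.Helper21.DVRExt8
import Groth.Agent.Lib.Helper21.BiratPoint
import Mathlib.AlgebraicGeometry.Morphisms.Flat
import Mathlib.RingTheory.Flat.TorsionFree
import Mathlib.RingTheory.DedekindDomain.Dvr

/-!
# Generic points lift along dominant quasi-compact morphisms (Stacks 01RL), and the DVR criterion
of separatedness through a dense finite-type morphism
-/

set_option autoImplicit false
universe u
open AlgebraicGeometry CategoryTheory Limits TopologicalSpace

namespace Groth.Agent.Lib.Helper21.DVRExt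

variable {X U : Scheme.{u}}

/-- The prime of the generic point of an irreducible component is a minimal prime. -/
theorem primeIdealOf_mem_minimalPrimes {V : X.Opens} (hV : IsAffineOpen V) {η : X} (hηV : η ∈ V)
    (hη : closure {η} ∈ irreducibleComponents (X : Type u)) :
    (hV.primeIdealOf ⟨η, hηV⟩).asIdeal ∈ minimalPrimes Γ(X, V) := by
  refine ⟨⟨(hV.primeIdealOf ⟨η, hηV⟩).isPrime, bot_le⟩, ?_⟩
  rintro q ⟨hq, -⟩ hle
  let t : X := hV.fromSpec ⟨q, hq⟩
  have htV : t ∈ V := by
    have : t ∈ Set.range hV.fromSpec := ⟨_, rfl⟩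
    rwa [hV.range_fromSpec] at this
  have hsp : t ⤳ η := by
    have h1 : (⟨q, hq⟩ : PrimeSpectrum Γ(X, V)) ⤳ hV.primeIdealOf ⟨η, hηV⟩ :=
      (PrimeSpectrum.le_iff_specializes _ _).mp hle
    have h2 := h1.map hV.fromSpec.continuous
    rwa [hV.fromSpec_primeIdealOf] at h2
  have heq : t = η := Birat.eq_of_specializes_gen hη hsp
  have h3 : hV.primeIdealOf ⟨t, htV⟩ = ⟨q, hq⟩ := by
    apply hV.fromSpec.isOpenEmbedding.injective
    rw [hV.fromSpec_primeIdealOf]
  have h4 : hV.primeIdealOf ⟨t, htV⟩ = hV.primeIdealOf ⟨η, hηV⟩ := by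
    congr 1
    exact Subtype.ext heq
  rw [← h4, h3]

/-- **Stacks 01RL.** The generic points of the irreducible components lie in the image of a
dominant quasi-compact morphism. -/
theorem mem_range_of_denseRange_of_quasiCompact (h : U ⟶ X) [QuasiCompact h]
    (hd : DenseRange h) (η : X) (hη : closure {η} ∈ irreducibleComponents (X : Type u)) :
    η ∈ Set.range h := by
  obtain ⟨V, hV, hηV⟩ : ∃ V : X.Opens, IsAffineOpen V ∧ η ∈ V := by
    obtain ⟨V, h1, h2, -⟩ := Opens.isBasis_iff_nbhd.mp X.isBasis_affineOpens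
      (show η ∈ (⊤ : X.Opens) from trivial)
    exact ⟨V, h1, h2⟩
  have hcomp : IsCompact ((h ⁻¹ᵁ V : U.Opens) : Set U) :=
    QuasiCompact.isCompact_preimage (f := h) _ V.isOpen hV.isCompact
  obtain ⟨R, g, hg⟩ := isCompact_iff_exists.mp hcomp
  have hle : (⊤ : (Spec R).Opens) ≤ (g ≫ h) ⁻¹ᵁ V := by
    intro r _
    change h (g r) ∈ V
    have : g r ∈ ((h ⁻¹ᵁ V : U.Opens) : Set U) := hg ▸ ⟨r, rfl⟩
    exact this
  let φ₀ : Γ(X, V) ⟶ Γ(Spec R, ⊤) := (g ≫ h).appLE V ⊤ hle
  have hφ₀ : Spec.map φ₀ ≫ hV.fromSpec = (isAffineOpen_top (Spec R)).fromSpec ≫ (g ≫ h) :=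
    IsAffineOpen.SpecMap_appLE_fromSpec (g ≫ h) hV (isAffineOpen_top (Spec R)) hle
  have hdense : DenseRange (PrimeSpectrum.comap φ₀.hom) := by
    rw [DenseRange, dense_iff_inter_open]
    intro W hW hWne
    have hjW : IsOpen (hV.fromSpec '' W) := hV.fromSpec.isOpenEmbedding.isOpenMap W hW
    obtain ⟨x, ⟨w, hwW, rfl⟩, ⟨u₁, hu₁⟩⟩ := hd.inter_open_nonempty _ hjW (hWne.image _)
    have hwV : hV.fromSpec w ∈ V := by
      have : hV.fromSpec w ∈ Set.range hV.fromSpec := ⟨_, rfl⟩
      rwa [hV.range_fromSpec] at this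
    have hu₁V : u₁ ∈ ((h ⁻¹ᵁ V : U.Opens) : Set U) := by
      change h u₁ ∈ V
      rw [hu₁]; exact hwV
    rw [← hg] at hu₁V
    obtain ⟨r, rfl⟩ := hu₁V
    have hsurj : Function.Surjective (isAffineOpen_top (Spec R)).fromSpec := by
      intro z
      have : z ∈ Set.range (isAffineOpen_top (Spec R)).fromSpec := by
        rw [(isAffineOpen_top (Spec R)).range_fromSpec]; trivial
      exact this
    obtain ⟨r', rfl⟩ := hsurj r
    have h5 : hV.fromSpec (Spec.map φ₀ r') = hV.fromSpec w := by
      rw [← Scheme.Hom.comp_apply, hφ₀, ← hu₁]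
      rfl
    have h6 := hV.fromSpec.isOpenEmbedding.injective h5
    exact ⟨w, hwW, ⟨r', h6⟩⟩
  have hmin := primeIdealOf_mem_minimalPrimes hV hηV hη
  obtain ⟨r', hr'⟩ := (PrimeSpectrum.denseRange_comap_iff_minimalPrimes φ₀.hom).mp hdense _ hmin
  refine ⟨g ((isAffineOpen_top (Spec R)).fromSpec r'), ?_⟩
  have h7 : (Spec.map φ₀ ≫ hV.fromSpec) r' = η := by
    rw [Scheme.Hom.comp_apply]
    have : Spec.map φ₀ r' = hV.primeIdealOf ⟨η, hηV⟩ := hr'
    rw [this, hV.fromSpec_primeIdealOf]
  rw [hφ₀] at h7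
  exact h7



/-- An injective local homomorphism from a discrete valuation ring to a local domain induces an
epimorphism of spectra (it is faithfully flat). -/
theorem epi_specMap_of_dvr {O O' : Type u} [CommRing O] [IsDomain O] [IsDiscreteValuationRing O]
    [CommRing O'] [IsDomain O'] [IsLocalRing O'] (ι : O →+* O') (hinj : Function.Injective ι)
    [hloc : IsLocalHom ι] : Epi (Spec.map (CommRingCat.ofHom ι)) := by
  let _ := ι.toAlgebra
  have h1 : Module.IsTorsionFree O O' := Module.isTorsionFree_iff_algebraMap_injective.mpr hinj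
  have h2 : Module.Flat O O' := inferInstance
  have h3 : IsLocalHom (algebraMap O O') := hloc
  have hff : Module.FaithfullyFlat O O' := Module.FaithfullyFlat.of_flat_of_isLocalHom
  obtain ⟨h4, h5⟩ := (flat_and_surjective_SpecMap_iff (CommRingCat.ofHom ι)).mpr hff
  exact Flat.epi_of_flat_of_surjective _

/-- **The DVR criterion of separatedness through a dense finite-type morphism.** -/
theorem isSeparated_of_dvr_uniqueness_through_dense {X S U : Scheme.{u}} [IsLocallyNoetherian S]
    (f : X ⟶ S) [LocallyOfFiniteType f] (h : U ⟶ X) [LocallyOfFiniteType h] [QuasiCompact h]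
    (hd : DenseRange h)
    (H : ∀ (A : Type u) [CommRing A] [IsDomain A] [IsDiscreteValuationRing A]
      (u : Spec (CommRingCat.of (FractionRing A)) ⟶ U) (y : Spec (CommRingCat.of A) ⟶ S),
      u ≫ h ≫ f = Spec.map (CommRingCat.ofHom (algebraMap A (FractionRing A))) ≫ y →
        ∀ l₁ l₂ : Spec (CommRingCat.of A) ⟶ X, l₁ ≫ f = y →
          Spec.map (CommRingCat.ofHom (algebraMap A (FractionRing A))) ≫ l₁ = u ≫ h →
          l₂ ≫ f = y →
          Spec.map (CommRingCat.ofHom (algebraMap A (FractionRing A))) ≫ l₂ = u ≫ h → l₁ = l₂) :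
    IsSeparated f := by
  apply isSeparated_of_valuationSubring_uniqueness f
  intro η hη
  obtain ⟨u₀, rfl⟩ := mem_range_of_denseRange_of_quasiCompact h hd η hη
  intro O hO l₁ l₂ h12 h1 h2
  let K := X.residueField (h u₀)
  let L := U.residueField u₀
  let ρ : K →+* L := (h.residueFieldMap u₀).hom
  let algKL : Algebra K L := ρ.toAlgebra
  let algOL : Algebra O L := (ρ.comp O.subtype).toAlgebra
  have tow : IsScalarTower O K L := IsScalarTower.of_algebraMap_eq (fun _ => rfl)
  have hfg : (⊤ : IntermediateField K L).FG := by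
    rw [IntermediateField.fg_top_iff]
    exact (LocallyOfFiniteType.stalkMap h u₀).residueFieldMap
  have hmax0 : IsLocalRing.maximalIdeal O ≠ ⊥ := IsDiscreteValuationRing.not_a_field O
  obtain ⟨O', hO', hOO', hval⟩ :=
    KA.exists_dvr_fg_extension O K L hfg (IsLocalRing.maximalIdeal O) hmax0
  let ι : O →+* O' := (algebraMap O L).codRestrict O'.toSubring hOO'
  have hιinj : Function.Injective ι := by
    intro a b hab
    have : algebraMap O L a = algebraMap O L b := congrArg Subtype.val hab
    exact Subtype.ext (ρ.injective this)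
  have hιloc : IsLocalHom ι := by
    constructor
    intro a ha
    by_contra hna
    have h3 : a ∈ IsLocalRing.maximalIdeal O := (IsLocalRing.mem_maximalIdeal a).mpr hna
    have h4 := (hval a).mpr h3
    have h5 := (O'.valuation_lt_one_iff (ι a)).mpr h4
    exact ((IsLocalRing.mem_maximalIdeal _).mp h5) ha
  have hepi : Epi (Spec.map (CommRingCat.ofHom ι)) := epi_specMap_of_dvr ι hιinj
  let e : FractionRing O' ≃ₐ[O'] L := FractionRing.algEquiv O' L
  let u : Spec (CommRingCat.of (FractionRing O')) ⟶ U :=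
    Spec.map (CommRingCat.ofHom (e.symm : L →+* FractionRing O')) ≫ U.fromSpecResidueField u₀
  have hkey : Spec.map (CommRingCat.ofHom (algebraMap O' (FractionRing O'))) ≫
      Spec.map (CommRingCat.ofHom ι) =
      Spec.map (CommRingCat.ofHom (e.symm : L →+* FractionRing O')) ≫
        Spec.map (h.residueFieldMap u₀) ≫ Spec.map (CommRingCat.ofHom O.subtype) := by
    rw [← Spec.map_comp, ← Spec.map_comp, ← Spec.map_comp]
    congr 1
    ext a
    change algebraMap O' (FractionRing O') (ι a) = e.symm (ρ (a : K))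
    have : ρ (a : K) = algebraMap O' L (ι a) := rfl
    rw [this, AlgEquiv.commutes]
  have hgen : ∀ l : Spec (CommRingCat.of O) ⟶ X,
      Spec.map (CommRingCat.ofHom O.subtype) ≫ l = X.fromSpecResidueField (h u₀) →
      Spec.map (CommRingCat.ofHom (algebraMap O' (FractionRing O'))) ≫
        (Spec.map (CommRingCat.ofHom ι) ≫ l) = u ≫ h := by
    intro l hl
    calc Spec.map (CommRingCat.ofHom (algebraMap O' (FractionRing O'))) ≫
          (Spec.map (CommRingCat.ofHom ι) ≫ l)
        = (Spec.map (CommRingCat.ofHom (algebraMap O' (FractionRing O'))) ≫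
          Spec.map (CommRingCat.ofHom ι)) ≫ l := (Category.assoc _ _ _).symm
      _ = (Spec.map (CommRingCat.ofHom (e.symm : L →+* FractionRing O')) ≫
          Spec.map (h.residueFieldMap u₀) ≫ Spec.map (CommRingCat.ofHom O.subtype)) ≫ l := by
          rw [hkey]
      _ = Spec.map (CommRingCat.ofHom (e.symm : L →+* FractionRing O')) ≫
          Spec.map (h.residueFieldMap u₀) ≫ (Spec.map (CommRingCat.ofHom O.subtype) ≫ l) := by
          simp only [Category.assoc]
      _ = u ≫ h := by
          have h5 := Scheme.Hom.SpecMap_residueFieldMap_fromSpecResidueField h u₀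
          have h6 : Spec.map (h.residueFieldMap u₀) ≫ (Spec.map (CommRingCat.ofHom O.subtype) ≫ l)
              = U.fromSpecResidueField u₀ ≫ h := by
            exact (congrArg (fun z : Spec (X.residueField (h u₀)) ⟶ X =>
              Spec.map (h.residueFieldMap u₀) ≫ z) hl).trans h5
          rw [h6, Category.assoc]
  have hfin : Spec.map (CommRingCat.ofHom ι) ≫ l₁ = Spec.map (CommRingCat.ofHom ι) ≫ l₂ := by
    refine H O' u (Spec.map (CommRingCat.ofHom ι) ≫ l₁ ≫ f) ?_ _ _ ?_ (hgen l₁ h1) ?_ (hgen l₂ h2)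
    · rw [← Category.assoc, ← hgen l₁ h1, Category.assoc, Category.assoc]
    · rw [Category.assoc]
    · rw [Category.assoc, h12]
  exact (cancel_epi _).mp hfin

end Groth.Agent.Lib.Helper21.DVRExt
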