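import Groth.Agent.Lib.Helper21.Comp3
import Groth.Agent.Lib.Helper21.DVRExt9

/-!
# Universal closedness from lifts of discrete valuation rings through a dense morphism
-/

set_option autoImplicit false
universe u
open AlgebraicGeometry CategoryTheory Limits TopologicalSpace

namespace Groth.Agent.Lib.Helper21.DVRExt

/-- Existence of lifts for discrete valuation rings whose generic point factors through a
finite type morphism `h : U ⟶ X` with dense image gives lifts for the discrete valuation
subrings of the residue fields at points of the image of `h`. -/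
theorem exists_lift_of_dvr_existence_through {X S U : Scheme.{u}}
    (f : X ⟶ S) (h : U ⟶ X) [LocallyOfFiniteType h]
    (H : ∀ (A : Type u) [CommRing A] [IsDomain A] [IsDiscreteValuationRing A]
      (u : Spec (CommRingCat.of (FractionRing A)) ⟶ U) (y : Spec (CommRingCat.of A) ⟶ S),
      u ≫ h ≫ f = Spec.map (CommRingCat.ofHom (algebraMap A (FractionRing A))) ≫ y →
        ∃ l : Spec (CommRingCat.of A) ⟶ X, l ≫ f = y ∧
          Spec.map (CommRingCat.ofHom (algebraMap A (FractionRing A))) ≫ l = u ≫ h)
    (u₀ : U) (O : ValuationSubring (X.residueField (h u₀))) (hO : IsDiscreteValuationRing O)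
    (y : Spec (CommRingCat.of O) ⟶ S)
    (hy : Spec.map (CommRingCat.ofHom O.subtype) ≫ y = X.fromSpecResidueField (h u₀) ≫ f) :
    ∃ l : Spec (CommRingCat.of O) ⟶ X, l ≫ f = y ∧
      Spec.map (CommRingCat.ofHom O.subtype) ≫ l = X.fromSpecResidueField (h u₀) := by
  let K := X.residueField (h u₀)
  let L := U.residueField u₀
  let ρ : K →+* L := (h.residueFieldMap u₀).hom
  let algKL : Algebra K L := ρ.toAlgebra
  let algOL : Algebra O L := (ρ.comp O.subtype).toAlgebra
  have tow : IsScalarTower O K L := IsScalarTower.of_algebraMap_eq (fun _ => rfl)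
  have hfg : (⊤ : IntermediateField K L).FG := by
    rw [IntermediateField.fg_top_iff]
    exact (LocallyOfFiniteType.stalkMap h u₀).residueFieldMap
  have hmax0 : IsLocalRing.maximalIdeal O ≠ ⊥ := IsDiscreteValuationRing.not_a_field O
  obtain ⟨O', hO', hOO', hval⟩ :=
    KA.exists_dvr_fg_extension O K L hfg (IsLocalRing.maximalIdeal O) hmax0
  let ι : O →+* O' := (algebraMap O L).codRestrict O'.toSubring hOO'
  have hιloc : IsLocalHom ι := by
    constructor
    intro a ha
    by_contra hna
    have h3 : a ∈ IsLocalRing.maximalIdeal O := (IsLocalRing.mem_maximalIdeal a).mpr hna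
    have h4 := (hval a).mpr h3
    have h5 := (O'.valuation_lt_one_iff (ι a)).mpr h4
    exact ((IsLocalRing.mem_maximalIdeal _).mp h5) ha
  have hcomap : O'.comap ρ = O := Comp.comap_eq_of_isLocalHom ρ O O' hOO' hιloc
  let e : FractionRing O' ≃ₐ[O'] L := FractionRing.algEquiv O' L
  let es : CommRingCat.of L ⟶ CommRingCat.of (FractionRing O') :=
    CommRingCat.ofHom (e.symm : L →+* FractionRing O')
  let ee : CommRingCat.of (FractionRing O') ⟶ CommRingCat.of L :=
    CommRingCat.ofHom (e : FractionRing O' →+* L)
  let u : Spec (CommRingCat.of (FractionRing O')) ⟶ U :=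
    Spec.map es ≫ U.fromSpecResidueField u₀
  have hkey : Spec.map (CommRingCat.ofHom (algebraMap O' (FractionRing O'))) ≫
      Spec.map (CommRingCat.ofHom ι) =
      Spec.map es ≫
        Spec.map (h.residueFieldMap u₀) ≫ Spec.map (CommRingCat.ofHom O.subtype) := by
    rw [← Spec.map_comp, ← Spec.map_comp, ← Spec.map_comp]
    congr 1
    ext a
    change algebraMap O' (FractionRing O') (ι a) = e.symm (ρ (a : K))
    have : ρ (a : K) = algebraMap O' L (ι a) := rfl
    rw [this, AlgEquiv.commutes]
  have huh : u ≫ h = Spec.map es ≫ Spec.map (h.residueFieldMap u₀) ≫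
      X.fromSpecResidueField (h u₀) := by
    have h5 := Scheme.Hom.SpecMap_residueFieldMap_fromSpecResidueField h u₀
    change (Spec.map es ≫ U.fromSpecResidueField u₀) ≫ h = _
    rw [Category.assoc, ← h5]
  obtain ⟨l', hl'1, hl'2⟩ := H O' u (Spec.map (CommRingCat.ofHom ι) ≫ y) (by
    calc u ≫ h ≫ f = (u ≫ h) ≫ f := (Category.assoc _ _ _).symm
      _ = (Spec.map es ≫ Spec.map (h.residueFieldMap u₀) ≫
            X.fromSpecResidueField (h u₀)) ≫ f := by rw [huh]
      _ = Spec.map es ≫ Spec.map (h.residueFieldMap u₀) ≫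
            (X.fromSpecResidueField (h u₀) ≫ f) := by simp only [Category.assoc]
      _ = Spec.map es ≫ Spec.map (h.residueFieldMap u₀) ≫
            (Spec.map (CommRingCat.ofHom O.subtype) ≫ y) :=
          (congrArg (fun z => Spec.map es ≫ Spec.map (h.residueFieldMap u₀) ≫ z) hy).symm
      _ = (Spec.map es ≫ Spec.map (h.residueFieldMap u₀) ≫
            Spec.map (CommRingCat.ofHom O.subtype)) ≫ y := by simp only [Category.assoc]
      _ = (Spec.map (CommRingCat.ofHom (algebraMap O' (FractionRing O'))) ≫
            Spec.map (CommRingCat.ofHom ι)) ≫ y := by rw [hkey]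
      _ = _ := Category.assoc _ _ _)
  have hee : es ≫ ee = 𝟙 _ := by
    ext a
    exact e.apply_symm_apply a
  have hsub : CommRingCat.ofHom (algebraMap O' (FractionRing O')) ≫ ee =
      CommRingCat.ofHom O'.subtype := by
    ext a
    exact e.commutes a
  refine exists_lift_descend f (h u₀) O y hy ρ O' hcomap ι l' ?_ hl'1
  have h1 := congrArg (fun z => Spec.map ee ≫ z) hl'2
  simp only [huh] at h1
  rw [← Category.assoc, ← Spec.map_comp, hsub, ← Category.assoc, ← Spec.map_comp, hee,
    Spec.map_id, Category.id_comp] at h1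
  exact h1

theorem universallyClosed_of_dvr_existence_through_dense {X S U : Scheme.{u}}
    [IsLocallyNoetherian S] (f : X ⟶ S) [IsSeparated f] [LocallyOfFiniteType f] [QuasiCompact f]
    (h : U ⟶ X) [LocallyOfFiniteType h] [QuasiCompact h] (hd : DenseRange h)
    (H : ∀ (A : Type u) [CommRing A] [IsDomain A] [IsDiscreteValuationRing A]
      (u : Spec (CommRingCat.of (FractionRing A)) ⟶ U) (y : Spec (CommRingCat.of A) ⟶ S),
      u ≫ h ≫ f = Spec.map (CommRingCat.ofHom (algebraMap A (FractionRing A))) ≫ y →
        ∃ l : Spec (CommRingCat.of A) ⟶ X, l ≫ f = y ∧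
          Spec.map (CommRingCat.ofHom (algebraMap A (FractionRing A))) ≫ l = u ≫ h) :
    UniversallyClosed f := by
  apply universallyClosed_of_generic_dvr_existence f
  intro η hη
  obtain ⟨u₀, rfl⟩ := mem_range_of_denseRange_of_quasiCompact h hd η hη
  intro O hO y hy
  exact exists_lift_of_dvr_existence_through f h H u₀ O hO y hy

end Groth.Agent.Lib.Helper21.DVRExt
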