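import Groth.Agent.Lib.Helper21.Comp3
import Mathlib.AlgebraicGeometry.FunctionField

/-!
# The valuative criterion at the generic point of an integral scheme, in terms of local rings
dominated by valuation rings of the function field
-/

set_option autoImplicit false
universe u
open AlgebraicGeometry CategoryTheory Limits TopologicalSpace

namespace Groth.Agent.Lib.Helper21.DVRExt

/-- The valuation of the preimage valuation ring is `< 1` on elements mapping to non-units. -/
theorem valuation_comap_lt_one {K L : Type u} [Field K] [Field L] (θ : K →+* L)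
    (W : ValuationSubring L) (t : K) (ht : θ t ∈ W)
    (hnu : (⟨θ t, ht⟩ : W) ∈ IsLocalRing.maximalIdeal W) : (W.comap θ).valuation t < 1 := by
  by_contra hlt
  push Not at hlt
  have ht0 : t ≠ 0 := by
    rintro rfl
    rw [map_zero] at hlt
    exact absurd hlt (by simp)
  have h1 : (W.comap θ).valuation t⁻¹ ≤ 1 := by
    rw [map_inv₀]
    exact inv_le_one_of_one_le₀ hlt
  have h2 : t⁻¹ ∈ W.comap θ := ((W.comap θ).valuation_le_one_iff _).mp h1
  rw [ValuationSubring.mem_comap, map_inv₀] at h2
  have hu : IsUnit (⟨θ t, ht⟩ : W) := by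
    refine ⟨⟨⟨θ t, ht⟩, ⟨(θ t)⁻¹, h2⟩, ?_, ?_⟩, rfl⟩
    · apply Subtype.ext
      change θ t * (θ t)⁻¹ = 1
      exact mul_inv_cancel₀ (by simpa using ht0)
    · apply Subtype.ext
      change (θ t)⁻¹ * θ t = 1
      exact inv_mul_cancel₀ (by simpa using ht0)
  exact ((IsLocalRing.mem_maximalIdeal _).mp hnu) hu

variable {X Y : Scheme.{u}}

/-- Compatibility of the local homomorphism at the closed point with the residue field at the
generic point. -/
theorem residue_stalkMap_eq_of_lift (f : X ⟶ Y) (ξ : X)
    (W : ValuationSubring (X.residueField ξ)) (y : Spec (CommRingCat.of W) ⟶ Y)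
    (hy : Spec.map (CommRingCat.ofHom W.subtype) ≫ y = X.fromSpecResidueField ξ ≫ f)
    (hsp : f ξ ⤳ y (IsLocalRing.closedPoint W)) :
    Y.presheaf.stalkSpecializes hsp ≫ f.stalkMap ξ ≫ X.residue ξ =
      Scheme.stalkClosedPointTo y ≫ CommRingCat.ofHom W.subtype := by
  apply Spec.map_injective
  rw [← cancel_mono (Y.fromSpecStalk (y (IsLocalRing.closedPoint W)))]
  rw [Spec.map_comp, Spec.map_comp, Category.assoc, Category.assoc,
    Scheme.SpecMap_stalkSpecializes_fromSpecStalk, Scheme.SpecMap_stalkMap_fromSpecStalk,
    Spec.map_comp, Category.assoc, Scheme.Spec_stalkClosedPointTo_fromSpecStalk, hy]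
  rfl

/-- A lift from a point whose local ring is contained in the valuation ring. -/
theorem exists_lift_of_stalk_le [IsIntegral X] [Y.IsSeparated] (f : X ⟶ Y)
    (W : ValuationSubring (X.residueField (genericPoint X))) (y : Spec (CommRingCat.of W) ⟶ Y)
    (hy : Spec.map (CommRingCat.ofHom W.subtype) ≫ y =
      X.fromSpecResidueField (genericPoint X) ≫ f)
    (x : X) (hx : ∀ a : X.presheaf.stalk x,
      (X.residue (genericPoint X)).hom (algebraMap (X.presheaf.stalk x) X.functionField a) ∈ W) :
    ∃ l : Spec (CommRingCat.of W) ⟶ X, l ≫ f = y ∧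
      Spec.map (CommRingCat.ofHom W.subtype) ≫ l = X.fromSpecResidueField (genericPoint X) := by
  have hsp : genericPoint X ⤳ x := (genericPoint_spec X).specializes trivial
  let σ : X.presheaf.stalk x →+* X.residueField (genericPoint X) :=
    (X.presheaf.stalkSpecializes hsp ≫ X.residue (genericPoint X)).hom
  let lam : X.presheaf.stalk x →+* W := σ.codRestrict W.toSubring hx
  let l : Spec (CommRingCat.of W) ⟶ X := Spec.map (CommRingCat.ofHom lam) ≫ X.fromSpecStalk x
  have hgen : Spec.map (CommRingCat.ofHom W.subtype) ≫ l =
      X.fromSpecResidueField (genericPoint X) := by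
    change Spec.map (CommRingCat.ofHom W.subtype) ≫ Spec.map (CommRingCat.ofHom lam) ≫
      X.fromSpecStalk x = _
    rw [← Category.assoc, ← Spec.map_comp]
    change Spec.map (X.presheaf.stalkSpecializes hsp ≫ X.residue (genericPoint X)) ≫
      X.fromSpecStalk x = _
    rw [Spec.map_comp, Category.assoc, Scheme.SpecMap_stalkSpecializes_fromSpecStalk]
    rfl
  refine ⟨l, ?_, hgen⟩
  have : IsDominant (Spec.map (CommRingCat.ofHom W.subtype)) :=
    isDominant_specMap_of_injective _ Subtype.val_injective
  refine ext_of_isDominant_of_isSeparated (terminal.from Y) (terminal.hom_ext _ _)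
    (Spec.map (CommRingCat.ofHom W.subtype)) ?_
  rw [← Category.assoc, hgen, hy]

/-- The existence part of the valuative criterion at the generic point from the domination
condition on valuation rings of the function field. -/
theorem exists_lift_at_genericPoint [IsIntegral X] [Y.IsSeparated] (f : X ⟶ Y)
    (h : ∀ (R : ValuationSubring X.functionField), R ≠ ⊤ →
      ∀ (y : Y) (hy : f (genericPoint X) ⤳ y),
        ((∀ a : Y.presheaf.stalk y,
          (Y.presheaf.stalkSpecializes hy ≫ f.stalkMap (genericPoint X)).hom a ∈ R) ∧
          ∀ a ∈ IsLocalRing.maximalIdeal (Y.presheaf.stalk y),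
            R.valuation ((Y.presheaf.stalkSpecializes hy ≫
              f.stalkMap (genericPoint X)).hom a) < 1) →
        ∃ x : X, (∀ a : X.presheaf.stalk x,
          algebraMap (X.presheaf.stalk x) X.functionField a ∈ R) ∧
          ∀ a ∈ IsLocalRing.maximalIdeal (X.presheaf.stalk x),
            R.valuation (algebraMap (X.presheaf.stalk x) X.functionField a) < 1)
    (W : ValuationSubring (X.residueField (genericPoint X))) (y : Spec (CommRingCat.of W) ⟶ Y)
    (hy : Spec.map (CommRingCat.ofHom W.subtype) ≫ y =
      X.fromSpecResidueField (genericPoint X) ≫ f) :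
    ∃ l : Spec (CommRingCat.of W) ⟶ X, l ≫ f = y ∧
      Spec.map (CommRingCat.ofHom W.subtype) ≫ l = X.fromSpecResidueField (genericPoint X) := by
  let res : X.functionField →+* X.residueField (genericPoint X) :=
    (X.residue (genericPoint X)).hom
  let R : ValuationSubring X.functionField := W.comap res
  by_cases hR : R = ⊤
  · -- `W` is the whole field
    have hW : ∀ b : X.residueField (genericPoint X), b ∈ W := by
      intro b
      obtain ⟨a, rfl⟩ := X.residue_surjective (genericPoint X) b
      have h1 : a ∈ R := by rw [hR]; trivial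
      exact h1
    have hiso : IsIso (CommRingCat.ofHom W.subtype) := by
      rw [ConcreteCategory.isIso_iff_bijective]
      exact ⟨Subtype.val_injective, fun b => ⟨⟨b, hW b⟩, rfl⟩⟩
    refine ⟨inv (Spec.map (CommRingCat.ofHom W.subtype)) ≫
      X.fromSpecResidueField (genericPoint X), ?_, ?_⟩
    · rw [Category.assoc, ← hy, IsIso.inv_hom_id_assoc]
    · rw [IsIso.hom_inv_id_assoc]
  · -- `R` is a proper valuation subring of the function field
    let pt : Spec (X.residueField (genericPoint X)) :=
      (⟨⊥, Ideal.isPrime_bot⟩ : PrimeSpectrum (X.residueField (genericPoint X)))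
    have hsp : f (genericPoint X) ⤳ y (IsLocalRing.closedPoint W) := by
      have h1 : y (Spec.map (CommRingCat.ofHom W.subtype) pt) = f (genericPoint X) := by
        rw [← Scheme.Hom.comp_apply, hy, Scheme.Hom.comp_apply,
          Scheme.fromSpecResidueField_apply]
      rw [← h1]
      exact (IsLocalRing.specializes_closedPoint
        (Spec.map (CommRingCat.ofHom W.subtype) pt)).map y.continuous
    have hcompat := residue_stalkMap_eq_of_lift f (genericPoint X) W y hy hsp
    have hcompat' : ∀ a : Y.presheaf.stalk (y (IsLocalRing.closedPoint W)),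
        res ((Y.presheaf.stalkSpecializes hsp ≫ f.stalkMap (genericPoint X)).hom a) =
          (((Scheme.stalkClosedPointTo y).hom a : W) : X.residueField (genericPoint X)) :=
      fun a => congrArg (fun g => g.hom a) hcompat
    have hdom : (∀ a : Y.presheaf.stalk (y (IsLocalRing.closedPoint W)),
          (Y.presheaf.stalkSpecializes hsp ≫ f.stalkMap (genericPoint X)).hom a ∈ R) ∧
          ∀ a ∈ IsLocalRing.maximalIdeal (Y.presheaf.stalk (y (IsLocalRing.closedPoint W))),
            R.valuation ((Y.presheaf.stalkSpecializes hsp ≫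
              f.stalkMap (genericPoint X)).hom a) < 1 := by
      refine ⟨?_, ?_⟩
      · intro a
        change res _ ∈ W
        rw [hcompat' a]
        exact ((Scheme.stalkClosedPointTo y).hom a).2
      · intro a ha
        have hmem : res ((Y.presheaf.stalkSpecializes hsp ≫
            f.stalkMap (genericPoint X)).hom a) ∈ W := by
          rw [hcompat' a]
          exact ((Scheme.stalkClosedPointTo y).hom a).2
        refine valuation_comap_lt_one res W _ hmem ?_
        have h2 : (⟨_, hmem⟩ : W) = (Scheme.stalkClosedPointTo y).hom a :=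
          Subtype.ext (hcompat' a)
        rw [h2]
        exact ((IsLocalRing.mem_maximalIdeal _).mpr
          (fun hu => ((IsLocalRing.mem_maximalIdeal _).mp ha)
            (isUnit_of_map_unit (Scheme.stalkClosedPointTo y).hom a hu)))
    obtain ⟨x, hx1, -⟩ := h R hR (y (IsLocalRing.closedPoint W)) hsp hdom
    exact exists_lift_of_stalk_le f W y hy x (fun a => hx1 a)

end Groth.Agent.Lib.Helper21.DVRExt
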