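import Groth.Agent.Lib.Helper21.Comp5
import Mathlib.RingTheory.DiscreteValuationRing.Basic

/-!
# The valuative criterion at the generic point via domination: discrete valuation rings
-/

set_option autoImplicit false
universe u
open AlgebraicGeometry CategoryTheory Limits TopologicalSpace

namespace Groth.Agent.Lib.Helper21.DVRExt

/-- The preimage of a valuation subring under a bijective field homomorphism is isomorphic to
it. -/
noncomputable def comapEquiv {K L : Type u} [Field K] [Field L] (θ : K →+* L)
    (hθ : Function.Surjective θ) (W : ValuationSubring L) : (W.comap θ) ≃+* W :=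
  RingEquiv.ofBijective
    ((θ.comp (W.comap θ).subtype).codRestrict W.toSubring (fun a => a.2))
    ⟨fun a b hab => Subtype.ext (θ.injective (congrArg Subtype.val hab)),
     fun b => by
      obtain ⟨a, ha⟩ := hθ b
      exact ⟨⟨a, by rw [ValuationSubring.mem_comap, ha]; exact b.2⟩, Subtype.ext ha⟩⟩

variable {X Y : Scheme.{u}}

/-- General form: the domination hypothesis is only needed for the preimage of `W` in the
function field. -/
theorem exists_lift_at_genericPoint_of [IsIntegral X] [Y.IsSeparated] (f : X ⟶ Y)
    (W : ValuationSubring (X.residueField (genericPoint X)))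
    (h : ∀ (y : Y) (hy : f (genericPoint X) ⤳ y),
        ((∀ a : Y.presheaf.stalk y,
          (Y.presheaf.stalkSpecializes hy ≫ f.stalkMap (genericPoint X)).hom a ∈
            W.comap (X.residue (genericPoint X)).hom) ∧
          ∀ a ∈ IsLocalRing.maximalIdeal (Y.presheaf.stalk y),
            (W.comap (X.residue (genericPoint X)).hom).valuation
              ((Y.presheaf.stalkSpecializes hy ≫ f.stalkMap (genericPoint X)).hom a) < 1) →
        ∃ x : X, (∀ a : X.presheaf.stalk x,
          algebraMap (X.presheaf.stalk x) X.functionField a ∈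
            W.comap (X.residue (genericPoint X)).hom))
    (y : Spec (CommRingCat.of W) ⟶ Y)
    (hy : Spec.map (CommRingCat.ofHom W.subtype) ≫ y =
      X.fromSpecResidueField (genericPoint X) ≫ f) :
    ∃ l : Spec (CommRingCat.of W) ⟶ X, l ≫ f = y ∧
      Spec.map (CommRingCat.ofHom W.subtype) ≫ l = X.fromSpecResidueField (genericPoint X) := by
  let res : X.functionField →+* X.residueField (genericPoint X) :=
    (X.residue (genericPoint X)).hom
  let R : ValuationSubring X.functionField := W.comap res
  let pt : Spec (X.residueField (genericPoint X)) :=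
    (⟨⊥, Ideal.isPrime_bot⟩ : PrimeSpectrum (X.residueField (genericPoint X)))
  have hsp : f (genericPoint X) ⤳ y (IsLocalRing.closedPoint W) := by
    have h1 : y (Spec.map (CommRingCat.ofHom W.subtype) pt) = f (genericPoint X) := by
      rw [← Scheme.Hom.comp_apply, hy, Scheme.Hom.comp_apply,
        Scheme.fromSpecResidueField_apply]
    rw [← h1]
    exact (IsLocalRing.specializes_closedPoint
      (Spec.map (CommRingCat.ofHom W.subtype) pt)).map y.continuous
  have hcompat := residue_stalkMap_eq_of_lift f (genericPoint X) W y hy hsp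
  have hcompat' : ∀ a : Y.presheaf.stalk (y (IsLocalRing.closedPoint W)),
      res ((Y.presheaf.stalkSpecializes hsp ≫ f.stalkMap (genericPoint X)).hom a) =
        (((Scheme.stalkClosedPointTo y).hom a : W) : X.residueField (genericPoint X)) :=
    fun a => congrArg (fun g => g.hom a) hcompat
  have hdom : (∀ a : Y.presheaf.stalk (y (IsLocalRing.closedPoint W)),
        (Y.presheaf.stalkSpecializes hsp ≫ f.stalkMap (genericPoint X)).hom a ∈ R) ∧
        ∀ a ∈ IsLocalRing.maximalIdeal (Y.presheaf.stalk (y (IsLocalRing.closedPoint W))),
          R.valuation ((Y.presheaf.stalkSpecializes hsp ≫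
            f.stalkMap (genericPoint X)).hom a) < 1 := by
    refine ⟨?_, ?_⟩
    · intro a
      change res _ ∈ W
      rw [hcompat' a]
      exact ((Scheme.stalkClosedPointTo y).hom a).2
    · intro a ha
      have hmem : res ((Y.presheaf.stalkSpecializes hsp ≫
          f.stalkMap (genericPoint X)).hom a) ∈ W := by
        rw [hcompat' a]
        exact ((Scheme.stalkClosedPointTo y).hom a).2
      refine valuation_comap_lt_one res W _ hmem ?_
      have h2 : (⟨_, hmem⟩ : W) = (Scheme.stalkClosedPointTo y).hom a :=
        Subtype.ext (hcompat' a)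
      rw [h2]
      exact ((IsLocalRing.mem_maximalIdeal _).mpr
        (fun hu => ((IsLocalRing.mem_maximalIdeal _).mp ha)
          (isUnit_of_map_unit (Scheme.stalkClosedPointTo y).hom a hu)))
  obtain ⟨x, hx1⟩ := h (y (IsLocalRing.closedPoint W)) hsp hdom
  exact exists_lift_of_stalk_le f W y hy x (fun a => hx1 a)

/-- The discrete valuation ring version. -/
theorem exists_lift_at_genericPoint_dvr [IsIntegral X] [Y.IsSeparated] (f : X ⟶ Y)
    (h : ∀ (R : ValuationSubring X.functionField), IsDiscreteValuationRing R →
      ∀ (y : Y) (hy : f (genericPoint X) ⤳ y),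
        ((∀ a : Y.presheaf.stalk y,
          (Y.presheaf.stalkSpecializes hy ≫ f.stalkMap (genericPoint X)).hom a ∈ R) ∧
          ∀ a ∈ IsLocalRing.maximalIdeal (Y.presheaf.stalk y),
            R.valuation ((Y.presheaf.stalkSpecializes hy ≫
              f.stalkMap (genericPoint X)).hom a) < 1) →
        ∃ x : X, (∀ a : X.presheaf.stalk x,
          algebraMap (X.presheaf.stalk x) X.functionField a ∈ R) ∧
          ∀ a ∈ IsLocalRing.maximalIdeal (X.presheaf.stalk x),
            R.valuation (algebraMap (X.presheaf.stalk x) X.functionField a) < 1)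
    (W : ValuationSubring (X.residueField (genericPoint X))) (hW : IsDiscreteValuationRing W)
    (y : Spec (CommRingCat.of W) ⟶ Y)
    (hy : Spec.map (CommRingCat.ofHom W.subtype) ≫ y =
      X.fromSpecResidueField (genericPoint X) ≫ f) :
    ∃ l : Spec (CommRingCat.of W) ⟶ X, l ≫ f = y ∧
      Spec.map (CommRingCat.ofHom W.subtype) ≫ l = X.fromSpecResidueField (genericPoint X) := by
  have hR : IsDiscreteValuationRing (W.comap (X.residue (genericPoint X)).hom) :=
    IsDiscreteValuationRing.RingEquivClass.isDiscreteValuationRing
      (comapEquiv (X.residue (genericPoint X)).hom (X.residue_surjective _) W).symm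
  refine exists_lift_at_genericPoint_of f W ?_ y hy
  intro y₀ hy₀ hdom
  obtain ⟨x, hx, -⟩ := h _ hR y₀ hy₀ hdom
  exact ⟨x, hx⟩

end Groth.Agent.Lib.Helper21.DVRExt
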