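import Mathlib
import Groth.Agent.Lib.Helper21.FibDim7

/-!
# Base change of the irreducible component meeting an irreducible generic fibre
-/

set_option autoImplicit false
set_option linter.style.haveILetI false
set_option linter.unusedSectionVars false
universe u

open AlgebraicGeometry CategoryTheory Limits TopologicalSpace

namespace Groth.Agent.Lib.Helper21.CompBC

open Groth.Agent.Lib.Helper21.FibDim

/-- a dominant morphism of irreducible schemes maps the generic point to the generic point -/
theorem map_genericPoint_of_isDominant {Y Y₀ : Scheme.{u}} [IrreducibleSpace Y]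
    [IrreducibleSpace Y₀] (g : Y ⟶ Y₀) [IsDominant g] :
    g (genericPoint Y) = genericPoint Y₀ := by
  have h1 : IsGenericPoint (g (genericPoint Y)) (Set.univ : Set Y₀) := by
    have h2 := (genericPoint_spec Y).image g.continuous
    rw [Set.image_univ, g.denseRange.closure_range] at h2
    exact h2
  exact h1.eq (genericPoint_spec Y₀)

theorem isIso_pullback_map {X₀ Y₀ Y : Scheme.{u}} [IsIntegral Y₀] [IsIntegral Y]
    (g : Y ⟶ Y₀) [IsDominant g] (f₀ : X₀ ⟶ Y₀)
    (hirr : IsIrreducible (f₀.base ⁻¹' {genericPoint Y₀}))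
    (C : TopologicalSpace.Closeds X₀) (hC : (C : Set X₀) ∈ irreducibleComponents (X₀ : Type u))
    (hCη : ((C : Set X₀) ∩ f₀.base ⁻¹' {genericPoint Y₀}).Nonempty) [IsIntegral (pullback f₀ g)]
    (e₁ : ((Scheme.IdealSheafData.vanishingIdeal C).subschemeι ≫ f₀) ≫ 𝟙 Y₀ =
      (Scheme.IdealSheafData.vanishingIdeal C).subschemeι ≫ f₀) (e₂ : g ≫ 𝟙 Y₀ = 𝟙 Y ≫ g) :
    IsIso (pullback.map ((Scheme.IdealSheafData.vanishingIdeal C).subschemeι ≫ f₀) g f₀ g
      (Scheme.IdealSheafData.vanishingIdeal C).subschemeι (𝟙 Y) (𝟙 Y₀) e₁ e₂) := by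
  set ι := (Scheme.IdealSheafData.vanishingIdeal C).subschemeι with hι
  set j := pullback.map (ι ≫ f₀) g f₀ g ι (𝟙 Y) (𝟙 Y₀) e₁ e₂ with hj
  have hr : Set.range ι.base = (C : Set X₀) := by
    rw [Scheme.IdealSheafData.range_subschemeι, Scheme.IdealSheafData.coe_support_vanishingIdeal]
  haveI hcl : IsClosedImmersion j :=
    MorphismProperty.pullbackMap (P := @IsClosedImmersion) (f := ι ≫ f₀) (g := g) (f' := f₀)
      (g' := g) (i₁ := ι) (i₂ := 𝟙 Y) inferInstance inferInstance rfl (Category.id_comp g).symm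
  -- the generic fibre lies in `C`
  have hFC : f₀.base ⁻¹' {genericPoint Y₀} ⊆ (C : Set X₀) := by
    obtain ⟨ξ', hξ'⟩ := QuasiSober.sober hC.1 C.2
    have hclξ : closure ({ξ'} : Set X₀) = (C : Set X₀) := hξ'.def
    obtain ⟨p, hpC, hpF⟩ := hCη
    have h1 : ξ' ⤳ p := by
      rw [specializes_iff_mem_closure, hclξ]
      exact hpC
    have h2 : f₀ ξ' ⤳ genericPoint Y₀ := by
      have := h1.map f₀.continuous
      rwa [show f₀ p = genericPoint Y₀ from hpF] at this
    have h3 : f₀ ξ' = genericPoint Y₀ := (h2.antisymm (genericPoint_specializes _)).eq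
    obtain ⟨γ, hγ⟩ := QuasiSober.sober hirr.closure isClosed_closure
    have hclγ : closure ({γ} : Set X₀) = closure (f₀.base ⁻¹' {genericPoint Y₀}) := hγ.def
    have h4 : γ ⤳ ξ' := by
      rw [specializes_iff_mem_closure, hclγ]
      exact subset_closure h3
    have h5 : γ = ξ' := eq_of_specializes_of_closure_mem ξ' (by rw [hclξ]; exact hC) γ h4
    rw [← hclξ, ← h5, hclγ]
    exact subset_closure
  -- a point over the generic point of `Y`
  obtain ⟨p, -, hpF⟩ := hCη
  have hgη : g (genericPoint Y) = genericPoint Y₀ := map_genericPoint_of_isDominant g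
  obtain ⟨z, -, hz2⟩ := Scheme.Pullback.exists_preimage_pullback (f := f₀) (g := g) p
    (genericPoint Y) (by rw [hgη]; exact hpF)
  set ξ := genericPoint ↥(pullback f₀ g) with hξ
  have h6 : pullback.snd f₀ g ξ ⤳ genericPoint Y := by
    have := (genericPoint_specializes z).map (pullback.snd f₀ g).continuous
    rwa [hz2] at this
  have h7 : pullback.snd f₀ g ξ = genericPoint Y := (h6.antisymm (genericPoint_specializes _)).eq
  have h8 : f₀ (pullback.fst f₀ g ξ) = genericPoint Y₀ := by
    have := congrArg (fun φ : pullback f₀ g ⟶ Y₀ => φ ξ) (pullback.condition (f := f₀) (g := g))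
    simp only [Scheme.Hom.comp_apply] at this
    rw [this, h7, hgη]
  have h9 : ξ ∈ Set.range j.base := by
    rw [hj, Scheme.Pullback.range_map]
    refine ⟨?_, ?_⟩
    · change pullback.fst f₀ g ξ ∈ Set.range ι.base
      rw [hr]
      exact hFC h8
    · change pullback.snd f₀ g ξ ∈ Set.range (𝟙 Y : Y ⟶ Y).base
      simp
  haveI : Surjective j := by
    constructor
    rw [← Set.range_eq_univ]
    have hclosed : IsClosed (Set.range j.base) := j.isClosedEmbedding.isClosed_range
    have h10 : closure ({ξ} : Set ↥(pullback f₀ g)) ⊆ Set.range j.base :=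
      closure_minimal (Set.singleton_subset_iff.mpr h9) hclosed
    rw [(genericPoint_spec ↥(pullback f₀ g)).def] at h10
    exact Set.eq_univ_of_univ_subset h10
  exact isIso_of_isClosedImmersion_of_surjective j

end Groth.Agent.Lib.Helper21.CompBC
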