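import Groth.Agent.Lib.Helper21.OpenAt21

/-!
# Equidimensionality at a point of the irreducible components through the point
(condition (T) of families of cycles)
-/

set_option autoImplicit false
set_option linter.style.haveILetI false
set_option linter.unusedSectionVars false
universe u

open AlgebraicGeometry CategoryTheory Limits TopologicalSpace IsLocalRing

namespace Groth.Agent.Lib.Helper21.CondT

open Groth.Agent.Lib.Helper21.FibDim Groth.Agent.Lib.Helper21.EquiSub
  Groth.Agent.Lib.Helper21.FourCond Groth.Agent.Lib.Helper21.OpenAt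

variable {W X Y : Scheme.{u}}

/-- a criterion for equidimensionality at a point, over an arbitrary base: an open
neighbourhood `O` with a generic point `ξ` such that `closure {g ξ}` is an irreducible component
of the base, on which the local fibre dimension is constant -/
theorem isEquidimAt_of_forall_fibreDimAt (g : W ⟶ Y)
    [LocallyOfFiniteType g] (w : W) (O : W.Opens) (hwO : w ∈ O) (ξ : W) (hξO : ξ ∈ O)
    (hgen : ∀ u ∈ O, ξ ⤳ u) (hgξ : closure ({g ξ} : Set Y) ∈ irreducibleComponents (Y : Type u))
    (e : ℕ) (hO : ∀ u ∈ O, FlatMor.fibreDimAt g u = e) : EGA43.IsEquidimAt g w := by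
  refine ⟨e, O, hwO, ?_, fun u Z hZ => topologicalKrullDim_component_fiber_eq g O e hO u Z hZ⟩
  intro Z hZ
  refine ⟨closure ({g ξ} : Set Y), hgξ, ?_, ?_⟩
  · rw [← specializes_iff_mem_closure]
    exact (hgen w hwO).map g.continuous
  · let ξO : O.toScheme := ⟨ξ, hξO⟩
    have hclO : closure ({ξO} : Set O.toScheme) = Set.univ := by
      rw [← Set.univ_subset_iff]
      intro u _
      rw [← specializes_iff_mem_closure, ← O.ι.isEmbedding.isInducing.specializes_iff]
      exact hgen u.1 u.2
    have hξZ : ξO ∈ Z := by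
      have h7 : IsIrreducible (closure ({ξO} : Set O.toScheme)) := isIrreducible_singleton.closure
      have h8 : Z ≤ closure ({ξO} : Set O.toScheme) := by
        rw [hclO]
        exact Set.subset_univ _
      exact hZ.2 h7 h8 (subset_closure rfl)
    apply Set.Subset.antisymm
    · apply closure_minimal _ isClosed_closure
      rintro _ ⟨u, -, rfl⟩
      rw [← specializes_iff_mem_closure]
      exact (hgen u.1 u.2).map g.continuous
    · apply closure_minimal _ isClosed_closure
      rw [Set.singleton_subset_iff]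
      apply subset_closure
      exact ⟨ξO, hξZ, rfl⟩

/-- if `ξ` is a maximal point of `X` lying in the open `U`, the closure of `ξ` in `U` is an
irreducible component of `U` -/
theorem closure_mem_irreducibleComponents_opens (U : X.Opens) (ξ : X) (hξU : ξ ∈ U)
    (hmax : ∀ ξ' : X, ξ' ⤳ ξ → ξ' = ξ) :
    closure ({(⟨ξ, hξU⟩ : U.toScheme)} : Set U.toScheme) ∈
      irreducibleComponents (U.toScheme : Type u) := by
  refine ⟨isIrreducible_singleton.closure, ?_⟩
  intro Z' hZ' hle
  have hZ'cl : IsIrreducible (closure Z') := hZ'.closure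
  obtain ⟨ζ, hζ⟩ := QuasiSober.sober hZ'cl isClosed_closure
  have h1 : ζ ⤳ (⟨ξ, hξU⟩ : U.toScheme) := by
    rw [specializes_iff_mem_closure, hζ.def]
    exact subset_closure (hle (subset_closure rfl))
  have h2 : ζ.1 ⤳ ξ := h1.map continuous_subtype_val
  have h3 : ζ.1 = ξ := hmax _ h2
  subst h3
  intro z hz
  have h6 : z ∈ closure ({ζ} : Set U.toScheme) := by
    rw [hζ.def]
    exact subset_closure hz
  exact h6

/-- extraction of the data of `IsEquidimAt` when the source has a generic point -/
theorem exists_of_isEquidimAt_of_generic (g : W ⟶ Y) [LocallyOfFiniteType g] (w : W)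
    (h : EGA43.IsEquidimAt g w) (ξ : W) (hgen : ∀ u : W, ξ ⤳ u) :
    ∃ (e : ℕ) (O : W.Opens), w ∈ O ∧
      closure ({g ξ} : Set Y) ∈ irreducibleComponents (Y : Type u) ∧
      ∀ u ∈ O, FlatMor.fibreDimAt g u = e := by
  obtain ⟨e, U, hwU, hcomp, hfib⟩ := h
  have hξU : ξ ∈ U := (hgen w).mem_open U.2 hwU
  refine ⟨e, U, hwU, ?_,
    Groth.Agent.Lib.Helper21.EquidimAt.fibreDimAt_eq_of_forall_components g U e hfib⟩
  have hmax : ∀ ξ' : W, ξ' ⤳ ξ → ξ' = ξ := fun ξ' h' => ((hgen ξ').antisymm h').eq.symm
  obtain ⟨W₀, hW₀, -, hcl⟩ := hcomp _ (closure_mem_irreducibleComponents_opens U ξ hξU hmax)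
  have hcl' : closure ({g ξ} : Set Y) = W₀ := by
    rw [← hcl]
    apply Set.Subset.antisymm
    · apply closure_minimal _ isClosed_closure
      rw [Set.singleton_subset_iff]
      apply subset_closure
      exact ⟨⟨ξ, hξU⟩, subset_closure rfl, rfl⟩
    · apply closure_minimal _ isClosed_closure
      rintro _ ⟨u, -, rfl⟩
      rw [← specializes_iff_mem_closure]
      exact (hgen u.1).map g.continuous
  rw [hcl']
  exact hW₀

end Groth.Agent.Lib.Helper21.CondT
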