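import Groth.Agent.Lib.Helper21.FlatGen2
import Groth.Agent.Lib.Helper18.SchDim1

/-!
# Scheme-level: residue transcendence degrees go up under generisation over a Bezout base
-/

set_option autoImplicit false
set_option linter.style.haveILetI false
set_option linter.unusedSectionVars false
universe u

open AlgebraicGeometry CategoryTheory TopologicalSpace

namespace Groth.Agent.Lib.Helper21.FlatGen

open Groth.Agent.Lib.Helper18.SchDim Groth.Agent.Lib.Helper21.ChartPt

variable {X S : Scheme.{u}}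

/-- chart form: if, in affine charts `U ∋ x`, `V ∋ f x`, the domain `Γ(X,U)/Q'` (`Q'` the prime of
a generisation `x'` of `x`) is flat over `Γ(S,V)/(Q' ∩ Γ(S,V))`, then
`trdeg κ(x)/κ(f x) ≤ trdeg κ(x')/κ(f x')`. -/
theorem trdeg_le_of_specializes_of_flat_chart (f : X ⟶ S) {U : X.Opens} {V : S.Opens}
    (hU : IsAffineOpen U) (hV : IsAffineOpen V) (e : U ≤ f ⁻¹ᵁ V) (x x' : X) (hx : x ∈ U)
    (hsp : x' ⤳ x)
    (hflat : letI := (f.appLE V U e).hom.toAlgebra
      Module.Flat (Γ(S, V) ⧸ (hU.primeIdealOf ⟨x', hsp.mem_open U.2 hx⟩).asIdeal.under Γ(S, V))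
        (Γ(X, U) ⧸ (hU.primeIdealOf ⟨x', hsp.mem_open U.2 hx⟩).asIdeal)) :
    @Algebra.trdeg (S.residueField (f x)) (X.residueField x) _ _
        (f.residueFieldMap x).hom.toAlgebra ≤
      @Algebra.trdeg (S.residueField (f x')) (X.residueField x') _ _
        (f.residueFieldMap x').hom.toAlgebra := by
  have hx' : x' ∈ U := hsp.mem_open U.2 hx
  letI := (f.appLE V U e).hom.toAlgebra
  rw [trdeg_residueField f hU hV e x hx, trdeg_residueField f hU hV e x' hx']
  haveI : (hU.primeIdealOf ⟨x', hx'⟩).asIdeal.IsPrime := (hU.primeIdealOf ⟨x', hx'⟩).2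
  haveI : (hU.primeIdealOf ⟨x, hx⟩).asIdeal.IsPrime := (hU.primeIdealOf ⟨x, hx⟩).2
  have hle : (hU.primeIdealOf ⟨x', hx'⟩).asIdeal ≤ (hU.primeIdealOf ⟨x, hx⟩).asIdeal :=
    (specializes_iff_primeIdealOf_le hU ⟨x', hx'⟩ ⟨x, hx⟩).1 hsp
  haveI := hflat
  exact trdeg_quotient_le_of_flat Γ(S, V) Γ(X, U) _ _ hle

/-- Bezout chart on the base: flatness is automatic -/
theorem trdeg_le_of_specializes_of_isBezout_chart (f : X ⟶ S) {U : X.Opens} {V : S.Opens}
    (hU : IsAffineOpen U) (hV : IsAffineOpen V) (e : U ≤ f ⁻¹ᵁ V) [IsBezout Γ(S, V)] (x x' : X)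
    (hx : x ∈ U) (hsp : x' ⤳ x) :
    @Algebra.trdeg (S.residueField (f x)) (X.residueField x) _ _
        (f.residueFieldMap x).hom.toAlgebra ≤
      @Algebra.trdeg (S.residueField (f x')) (X.residueField x') _ _
        (f.residueFieldMap x').hom.toAlgebra := by
  have hx' : x' ∈ U := hsp.mem_open U.2 hx
  letI := (f.appLE V U e).hom.toAlgebra
  rw [trdeg_residueField f hU hV e x hx, trdeg_residueField f hU hV e x' hx']
  haveI : (hU.primeIdealOf ⟨x', hx'⟩).asIdeal.IsPrime := (hU.primeIdealOf ⟨x', hx'⟩).2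
  haveI : (hU.primeIdealOf ⟨x, hx⟩).asIdeal.IsPrime := (hU.primeIdealOf ⟨x, hx⟩).2
  have hle : (hU.primeIdealOf ⟨x', hx'⟩).asIdeal ≤ (hU.primeIdealOf ⟨x, hx⟩).asIdeal :=
    (specializes_iff_primeIdealOf_le hU ⟨x', hx'⟩ ⟨x, hx⟩).1 hsp
  haveI : IsBezout (Γ(S, V) ⧸ (hU.primeIdealOf ⟨x', hx'⟩).asIdeal.under Γ(S, V)) :=
    Function.Surjective.isBezout (Ideal.Quotient.mk _) Ideal.Quotient.mk_surjective
  exact trdeg_quotient_le_of_isBezout Γ(S, V) Γ(X, U) _ _ hle

/-- **over a Bezout domain (e.g. a valuation ring), residue transcendence degrees can only go up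
under generisation** -/
theorem trdeg_le_of_specializes_of_isBezout (A : Type u) [CommRing A] [IsBezout A]
    (f : X ⟶ Spec (CommRingCat.of A)) {x x' : X} (hsp : x' ⤳ x) :
    @Algebra.trdeg ((Spec (CommRingCat.of A)).residueField (f x)) (X.residueField x) _ _
        (f.residueFieldMap x).hom.toAlgebra ≤
      @Algebra.trdeg ((Spec (CommRingCat.of A)).residueField (f x')) (X.residueField x') _ _
        (f.residueFieldMap x').hom.toAlgebra := by
  obtain ⟨U, hU, hxU, -⟩ := Opens.isBasis_iff_nbhd.mp X.isBasis_affineOpens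
    (show x ∈ (⊤ : X.Opens) from trivial)
  have hU : IsAffineOpen U := hU
  have hV : IsAffineOpen (⊤ : (Spec (CommRingCat.of A)).Opens) := isAffineOpen_top _
  have e : U ≤ f ⁻¹ᵁ ⊤ := fun _ _ => trivial
  haveI : IsBezout Γ(Spec (CommRingCat.of A), ⊤) :=
    Function.Surjective.isBezout (Scheme.ΓSpecIso (CommRingCat.of A)).inv.hom
      (ConcreteCategory.bijective_of_isIso (Scheme.ΓSpecIso (CommRingCat.of A)).inv).2
  exact trdeg_le_of_specializes_of_isBezout_chart f hU hV e x x' hxU hsp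

end Groth.Agent.Lib.Helper21.FlatGen
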