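import Groth.Agent.Lib.Helper21.CondT2
import Groth.Agent.Lib.Helper21.FlatGen3
import Groth.Agent.Lib.Helper10.ValSpec

/-!
# Universally open morphisms satisfy condition (T) (no Noetherian hypotheses)

The key input: for a universally open morphism locally of finite type, a maximal point of a
fibre of residue transcendence degree `N` has a generisation over any generisation of its
image at which the local fibre dimension is `N` (base change to a valuation ring).
-/

set_option autoImplicit false
set_option linter.style.haveILetI false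
set_option linter.unusedSectionVars false
universe u

open AlgebraicGeometry CategoryTheory Limits TopologicalSpace IsLocalRing

namespace Groth.Agent.Lib.Helper21.CondT

open Groth.Agent.Lib.Helper21.FibDim Groth.Agent.Lib.Helper21.EquiSub
  Groth.Agent.Lib.Helper21.FourCond Groth.Agent.Lib.Helper21.OpenAt

variable {W X Y : Scheme.{u}}

/-- **generisations of maximal fibre points along universally open morphisms keep the local fibre
dimension** -/
theorem exists_generization_fibreDimAt_of_universallyOpen (f : X ⟶ Y) [LocallyOfFiniteType f]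
    [UniversallyOpen f] (ζ : X) (hζmax : ∀ τ : X, τ ⤳ ζ → f τ = f ζ → τ = ζ) (N : ℕ)
    (hN : @Algebra.trdeg (Y.residueField (f ζ)) (X.residueField ζ) _ _
      (f.residueFieldMap ζ).hom.toAlgebra = N) (η : Y) (hη : η ⤳ f ζ) :
    ∃ ξ : X, ξ ⤳ ζ ∧ f ξ = η ∧ FlatMor.fibreDimAt f ξ = N := by
  obtain ⟨A, hAd, hAv, a, hagen, hacl⟩ :=
    Groth.Agent.Lib.Helper10.ValSpec.exists_valuationRing_of_specializes hη
  haveI : IsDomain A := hAd
  haveI : ValuationRing A := hAv
  have hsq : IsPullback (pullback.fst f a) (pullback.snd f a) f a := IsPullback.of_hasPullback f a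
  haveI : LocallyOfFiniteType (pullback.snd f a) :=
    MorphismProperty.pullback_snd (P := @LocallyOfFiniteType) _ _ inferInstance
  haveI : UniversallyOpen (pullback.snd f a) :=
    MorphismProperty.pullback_snd (P := @UniversallyOpen) _ _ inferInstance
  have hFζ : FlatMor.fibreDimAt f ζ = N := fibreDimAt_eq_trdeg_of_maximal f ζ hζmax N hN
  -- a point over `ζ` and the closed point
  obtain ⟨p₀, hp₀1, hp₀2⟩ := Scheme.Pullback.exists_preimage_pullback (f := f) (g := a) ζ
    (closedPoint A) hacl.symm
  have hF₀ : FlatMor.fibreDimAt (pullback.snd f a) p₀ = N := by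
    rw [Groth.Agent.Lib.Helper21.BaseChg.fibreDimAt_eq_of_isPullback hsq p₀, hp₀1, hFζ]
  obtain ⟨p₁, N', hp₁p₀, hsp₁, hp₁max, hp₁N, hF₀'⟩ :=
    exists_maximal_generization_fibreDimAt (pullback.snd f a) p₀
  have hNN : N' = N := by
    rw [hF₀] at hF₀'
    exact_mod_cast hF₀'.symm
  rw [hNN] at hp₁N
  have hp₁ζ : pullback.fst f a p₁ = ζ := by
    apply hζmax
    · rw [← hp₀1]
      exact hp₁p₀.map (pullback.fst f a).continuous
    · have h1 : f (pullback.fst f a p₁) = a (pullback.snd f a p₁) := by
        have := congrArg (fun φ : pullback f a ⟶ Y => φ p₁) pullback.condition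
        simpa only [Scheme.Hom.comp_apply] using this
      rw [h1, hsp₁, hp₀2, hacl]
  -- lift the generic point
  have hgen : Groth.Agent.Lib.Helper10.ValSpec.genericPt A ⤳ pullback.snd f a p₁ :=
    Groth.Agent.Lib.Helper10.ValSpec.genericPt_specializes A _
  obtain ⟨p₂, hp₂p₁, hsp₂⟩ :=
    Groth.Agent.Lib.Helper17.ProConsLib.exists_generization_lift (pullback.snd f a) p₁
      (fun U hU => (pullback.snd f a).isOpenMap.image_mem_nhds hU) _ hgen
  obtain ⟨M, hM⟩ := exists_nat_trdeg_residueFieldMap (pullback.snd f a) p₂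
  have hle := Groth.Agent.Lib.Helper21.FlatGen.trdeg_le_of_specializes_of_isBezout (A : Type u)
    (pullback.snd f a) hp₂p₁
  rw [hp₁N, hM] at hle
  have hNM : N ≤ M := by exact_mod_cast hle
  have hF₂ : (M : WithBot ℕ∞) ≤ FlatMor.fibreDimAt f (pullback.fst f a p₂) := by
    rw [← Groth.Agent.Lib.Helper21.BaseChg.fibreDimAt_eq_of_isPullback hsq p₂]
    exact le_fibreDimAt_of_specializes (pullback.snd f a) (specializes_refl p₂) M hM
  have hξζ : pullback.fst f a p₂ ⤳ ζ := by
    rw [← hp₁ζ]
    exact hp₂p₁.map (pullback.fst f a).continuous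
  refine ⟨pullback.fst f a p₂, hξζ, ?_, ?_⟩
  · have h1 : f (pullback.fst f a p₂) = a (pullback.snd f a p₂) := by
      have := congrArg (fun φ : pullback f a ⟶ Y => φ p₂) pullback.condition
      simpa only [Scheme.Hom.comp_apply] using this
    rw [h1, hsp₂, hagen]
  · apply le_antisymm
    · rw [← hFζ]
      exact fibreDimAt_le_of_specializes f hξζ
    · refine le_trans ?_ hF₂
      exact_mod_cast hNM

/-- the closure of a maximal point is an irreducible component -/
theorem closure_mem_irreducibleComponents_of_maximal {T : Type*} [TopologicalSpace T]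
    [QuasiSober T] (ξ : T) (hmax : ∀ τ : T, τ ⤳ ξ → τ = ξ) :
    closure ({ξ} : Set T) ∈ irreducibleComponents T := by
  refine ⟨isIrreducible_singleton.closure, ?_⟩
  intro Z' hZ' hle
  obtain ⟨ζ, hζ⟩ := QuasiSober.sober hZ'.closure isClosed_closure
  have h1 : ζ ⤳ ξ := by
    rw [specializes_iff_mem_closure, hζ.def]
    exact subset_closure (hle (subset_closure rfl))
  rw [← hmax ζ h1, hζ.def]
  exact subset_closure

/-- equidimensionality over the base, at `x`, of the closure of a maximal point `ζ'` of `X`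
lying over a maximal point of the base, when the local fibre dimension at `x` does not exceed
the generic fibre dimension of the closure -/
theorem isEquidimAt_closure_of_maximal (f : X ⟶ Y) [LocallyOfFiniteType f] (x ζ' : X)
    (hcomp : closure ({f ζ'} : Set Y) ∈ irreducibleComponents (Y : Type u)) (N : ℕ)
    (hN : @Algebra.trdeg (Y.residueField (f ζ')) (X.residueField ζ') _ _
      (f.residueFieldMap ζ').hom.toAlgebra = N) (hFx : FlatMor.fibreDimAt f x ≤ N)
    (ι : W ⟶ X) [IsClosedImmersion ι] (hr : Set.range ι.base = closure ({ζ'} : Set X))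
    (w : W) (hw : ι.base w = x) :
    EGA43.IsEquidimAt (ι ≫ f) w := by
  have hemb : Topology.IsEmbedding ι.base := ι.isEmbedding
  obtain ⟨ξ'', hξ''⟩ : ζ' ∈ Set.range ι.base := by rw [hr]; exact subset_closure rfl
  have hgen : ∀ u : W, ξ'' ⤳ u := by
    intro u
    rw [← hemb.isInducing.specializes_iff, specializes_iff_mem_closure]
    have : ι.base ξ'' = ζ' := hξ''
    rw [this, ← hr]
    exact ⟨u, rfl⟩
  have hN' : @Algebra.trdeg (Y.residueField ((ι ≫ f) ξ'')) (W.residueField ξ'') _ _
      ((ι ≫ f).residueFieldMap ξ'').hom.toAlgebra = N :=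
    Groth.Agent.Lib.Helper21.IrrFib.trdeg_comp_of_surjectiveOnStalks ι f ξ'' N
      (trdeg_eq_of_eq f hξ''.symm N hN)
  let O : W.Opens :=
    ⟨{u | FlatMor.fibreDimAt (ι ≫ f) u ≤ (N : ℕ)}, isOpen_setOf_fibreDimAt_le (ι ≫ f) N⟩
  have hwO : w ∈ O := by
    show FlatMor.fibreDimAt (ι ≫ f) w ≤ (N : ℕ)
    have h1 := Groth.Agent.Lib.Helper21.OpenAt.fibreDimAt_comp_le ι f w
    have h2 : ι w = x := hw
    rw [h2] at h1
    exact h1.trans hFx
  have hξO : ξ'' ∈ O := (hgen w).mem_open O.2 hwO
  have hc : closure ({(ι ≫ f) ξ''} : Set Y) ∈ irreducibleComponents (Y : Type u) := by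
    have : (ι ≫ f) ξ'' = f ζ' := by
      have : ι.base ξ'' = ζ' := hξ''
      rw [← this]
      rfl
    rw [this]
    exact hcomp
  refine isEquidimAt_of_forall_fibreDimAt (ι ≫ f) w O hwO ξ'' hξO (fun u _ => hgen u) hc N ?_
  intro u hu
  exact le_antisymm hu (le_fibreDimAt_of_specializes (ι ≫ f) (hgen u) N hN')

/-- **universally open ⟹ condition (T)** -/
theorem conditionT_of_universallyOpen (f : X ⟶ Y) [LocallyOfFiniteType f]
    [UniversallyOpen f] (x : X) :
    ∃ W : TopologicalSpace.Closeds X, (W : Set X) ∈ irreducibleComponents (X : Type u) ∧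
      ∃ w : ↥((Scheme.IdealSheafData.vanishingIdeal W).subscheme),
        (Scheme.IdealSheafData.vanishingIdeal W).subschemeι.base w = x ∧
        EGA43.IsEquidimAt ((Scheme.IdealSheafData.vanishingIdeal W).subschemeι ≫ f) w := by
  obtain ⟨ζ, N, hζx, hfζ, hζmax, hζN, hFN⟩ := exists_maximal_generization_fibreDimAt f x
  -- a maximal point of `Y` above `f ζ`
  obtain ⟨η, hη⟩ := QuasiSober.sober
    (irreducibleComponent_mem_irreducibleComponents (f ζ)).1 isClosed_irreducibleComponent
  have hηζ : η ⤳ f ζ := by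
    rw [specializes_iff_mem_closure, hη.def]
    exact mem_irreducibleComponent
  have hηcomp : closure ({η} : Set Y) ∈ irreducibleComponents (Y : Type u) := by
    rw [hη.def]
    exact irreducibleComponent_mem_irreducibleComponents (f ζ)
  have hηmax : ∀ t : Y, t ⤳ η → t = η := by
    intro t ht
    have h1 : closure ({η} : Set Y) ≤ closure ({t} : Set Y) :=
      specializes_iff_closure_subset.mp ht
    have h2 := hηcomp.2 isIrreducible_singleton.closure h1
    have h3 : η ⤳ t := by
      rw [specializes_iff_mem_closure]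
      exact h2 (subset_closure rfl)
    exact (h3.antisymm ht).eq.symm
  obtain ⟨ξ, hξζ, hfξ, hFξ⟩ :=
    exists_generization_fibreDimAt_of_universallyOpen f ζ hζmax N hζN η hηζ
  obtain ⟨ζ', N', hζ'ξ, hfζ', hζ'max, hζ'N, hFξ'⟩ := exists_maximal_generization_fibreDimAt f ξ
  have hNN : N' = N := by
    rw [hFξ] at hFξ'
    exact_mod_cast hFξ'.symm
  subst hNN
  have hfζ'η : f ζ' = η := hfζ'.trans hfξ
  have hζ'maxX : ∀ τ : X, τ ⤳ ζ' → τ = ζ' := by
    intro τ hτ
    apply hζ'max τ hτ
    have h1 : f τ ⤳ η := by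
      rw [← hfζ'η]
      exact hτ.map f.continuous
    rw [hηmax _ h1, hfζ'η]
  let Wc : TopologicalSpace.Closeds X := ⟨closure {ζ'}, isClosed_closure⟩
  have hW : (Wc : Set X) ∈ irreducibleComponents (X : Type u) :=
    closure_mem_irreducibleComponents_of_maximal ζ' hζ'maxX
  have hr := range_subschemeι_vanishingIdeal Wc
  have hxW : x ∈ (Wc : Set X) := by
    show x ∈ closure ({ζ'} : Set X)
    rw [← specializes_iff_mem_closure]
    exact (hζ'ξ.trans hξζ).trans hζx
  obtain ⟨w, hw⟩ : x ∈ Set.range (Scheme.IdealSheafData.vanishingIdeal Wc).subschemeι.base := by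
    rw [hr]; exact hxW
  refine ⟨Wc, hW, w, hw, ?_⟩
  refine isEquidimAt_closure_of_maximal f x ζ' ?_ N' hζ'N (le_of_eq hFN)
    (Scheme.IdealSheafData.vanishingIdeal Wc).subschemeι hr w hw
  rw [hfζ'η]
  exact hηcomp

end Groth.Agent.Lib.Helper21.CondT
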