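import Groth.Agent.Lib.Helper21.CondT3

/-!
# Points of a fibre near a point: a point all of whose generisations avoid a fibre has an open
neighbourhood avoiding the fibre.  Pointwise (IsUnivOpenAt) form of the generisation lemma.
-/

set_option autoImplicit false
set_option linter.style.haveILetI false
set_option linter.unusedSectionVars false
universe u

open AlgebraicGeometry CategoryTheory Limits TopologicalSpace IsLocalRing

namespace Groth.Agent.Lib.Helper21.CondT

open Groth.Agent.Lib.Helper21.FibDim Groth.Agent.Lib.Helper21.EquiSub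
  Groth.Agent.Lib.Helper21.FourCond Groth.Agent.Lib.Helper21.OpenAt

/-- ring form: if no prime of `B` contained in `q` lies over `p`, some `b ∉ q` lies in all primes
over `p` -/
theorem exists_notMem_forall_comap_eq {A B : Type*} [CommRing A] [CommRing B] (φ : A →+* B)
    (p : Ideal A) [hp : p.IsPrime] (q : Ideal B) [hq : q.IsPrime]
    (h : ∀ q' : Ideal B, q'.IsPrime → q' ≤ q → q'.comap φ ≠ p) :
    ∃ b : B, b ∉ q ∧ ∀ q'' : Ideal B, q''.IsPrime → q''.comap φ = p → b ∈ q'' := by
  classical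
  by_contra hcon
  push Not at hcon
  let S : Submonoid B := (p.primeCompl.map φ) ⊔ q.primeCompl
  have hdisj : Disjoint ((p.map φ : Ideal B) : Set B) (S : Set B) := by
    rw [Set.disjoint_right]
    intro s hs hsI
    obtain ⟨s₁, hs₁, s₂, hs₂, rfl⟩ := Submonoid.mem_sup.mp hs
    obtain ⟨a, ha, rfl⟩ := hs₁
    obtain ⟨q'', hq''p, hq''c, hq''b⟩ := hcon s₂ hs₂
    have h1 : p.map φ ≤ q'' := by
      rw [Ideal.map_le_iff_le_comap, hq''c]
    have h2 : φ a * s₂ ∈ q'' := h1 hsI
    rcases hq''p.mem_or_mem h2 with h3 | h3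
    · have h4 : a ∈ q''.comap φ := h3
      rw [hq''c] at h4
      exact ha h4
    · exact hq''b h3
  obtain ⟨q', hq'p, hq'le, hq'disj⟩ := Ideal.exists_le_prime_disjoint (p.map φ) S hdisj
  have hq'q : q' ≤ q := by
    intro b hb
    by_contra hbq
    exact Set.disjoint_left.mp hq'disj hb
      (Submonoid.mem_sup_right (show b ∈ q.primeCompl from hbq))
  have hcomap : q'.comap φ = p := by
    apply le_antisymm
    · intro a ha
      by_contra hap
      exact Set.disjoint_left.mp hq'disj (show φ a ∈ q' from ha)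
        (Submonoid.mem_sup_left ⟨a, hap, rfl⟩)
    · rw [← Ideal.map_le_iff_le_comap]
      exact hq'le
  exact h q' hq'p hq'q hcomap

variable {W X Y : Scheme.{u}}

/-- **a point all of whose generisations avoid the fibre over `η` has an open neighbourhood
avoiding that fibre** -/
theorem exists_open_forall_ne_of_forall_generization_ne (g : W ⟶ Y) (w : W) (η : Y)
    (h : ∀ ξ : W, ξ ⤳ w → g ξ ≠ η) : ∃ O : W.Opens, w ∈ O ∧ ∀ u ∈ O, g u ≠ η := by
  by_cases hη : η ⤳ g w
  · obtain ⟨V, hV, hgwV, -⟩ := Opens.isBasis_iff_nbhd.mp Y.isBasis_affineOpens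
      (show g w ∈ (⊤ : Y.Opens) from trivial)
    have hV : IsAffineOpen V := hV
    obtain ⟨U, hU, hwU, hUV⟩ := Opens.isBasis_iff_nbhd.mp W.isBasis_affineOpens
      (show w ∈ g ⁻¹ᵁ V from hgwV)
    have hU : IsAffineOpen U := hU
    have hηV : η ∈ V := hη.mem_open V.2 hgwV
    haveI : (hV.primeIdealOf ⟨η, hηV⟩).asIdeal.IsPrime := (hV.primeIdealOf ⟨η, hηV⟩).2
    haveI : (hU.primeIdealOf ⟨w, hwU⟩).asIdeal.IsPrime := (hU.primeIdealOf ⟨w, hwU⟩).2
    have hcomap : ∀ (u : W) (hu : u ∈ U),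
        (hU.primeIdealOf ⟨u, hu⟩).asIdeal.comap (g.appLE V U hUV).hom =
          (hV.primeIdealOf ⟨g u, hUV hu⟩).asIdeal := by
      intro u hu
      have := IsAffineOpen.comap_primeIdealOf_appLE (f := g) V hV U hU hUV hu
      exact congrArg PrimeSpectrum.asIdeal this
    obtain ⟨b, hbq, hb⟩ := exists_notMem_forall_comap_eq (g.appLE V U hUV).hom
      (hV.primeIdealOf ⟨η, hηV⟩).asIdeal (hU.primeIdealOf ⟨w, hwU⟩).asIdeal (by
        intro q' hq'p hq'le hq'c
        let Q : Spec Γ(W, U) := ⟨q', hq'p⟩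
        have hξU : hU.fromSpec Q ∈ U := by
          have : hU.fromSpec Q ∈ Set.range hU.fromSpec := ⟨Q, rfl⟩
          rw [hU.range_fromSpec] at this
          exact this
        have hQ : hU.primeIdealOf ⟨hU.fromSpec Q, hξU⟩ = Q := by
          apply hU.fromSpec.isOpenEmbedding.injective
          exact hU.fromSpec_primeIdealOf ⟨hU.fromSpec Q, hξU⟩
        have hsp : hU.fromSpec Q ⤳ w := by
          have := (Groth.Agent.Lib.Helper21.ChartPt.specializes_iff_primeIdealOf_le hU
            ⟨hU.fromSpec Q, hξU⟩ ⟨w, hwU⟩).2 (by rw [hQ]; exact hq'le)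
          exact this
        apply h _ hsp
        have h1 := hcomap (hU.fromSpec Q) hξU
        rw [hQ] at h1
        have h2 : (hV.primeIdealOf ⟨g (hU.fromSpec Q), hUV hξU⟩) = hV.primeIdealOf ⟨η, hηV⟩ := by
          apply PrimeSpectrum.ext
          rw [← h1]
          exact hq'c
        have h3 := congrArg hV.fromSpec h2
        rw [hV.fromSpec_primeIdealOf, hV.fromSpec_primeIdealOf] at h3
        exact h3)
    have hmem : ∀ (u : W) (hu : u ∈ U),
        u ∈ W.basicOpen b ↔ b ∉ (hU.primeIdealOf ⟨u, hu⟩).asIdeal := by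
      intro u hu
      have h1 : hU.fromSpec (hU.primeIdealOf ⟨u, hu⟩) = u := hU.fromSpec_primeIdealOf ⟨u, hu⟩
      have h2 : hU.primeIdealOf ⟨u, hu⟩ ∈ hU.fromSpec ⁻¹ᵁ W.basicOpen b ↔ u ∈ W.basicOpen b := by
        show hU.fromSpec (hU.primeIdealOf ⟨u, hu⟩) ∈ W.basicOpen b ↔ _
        rw [h1]
      rw [← h2, hU.fromSpec_preimage_basicOpen]
      exact PrimeSpectrum.mem_basicOpen _ _
    refine ⟨W.basicOpen b, (hmem w hwU).2 hbq, ?_⟩
    intro u hu hgu
    have huU : u ∈ U := W.basicOpen_le b hu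
    apply (hmem u huU).1 hu
    apply hb _ (hU.primeIdealOf ⟨u, huU⟩).2
    rw [hcomap u huU]
    congr 1
    exact congrArg hV.primeIdealOf (Subtype.ext hgu)
  · refine ⟨g ⁻¹ᵁ ⟨(closure ({η} : Set Y))ᶜ, isClosed_closure.isOpen_compl⟩, ?_, ?_⟩
    · intro hmem
      exact hη (specializes_iff_mem_closure.mpr hmem)
    · intro u hu hgu
      apply hu
      show g u ∈ closure ({η} : Set Y)
      rw [hgu]
      exact subset_closure rfl

/-- **pointwise form**: generisations of maximal fibre points at which the morphism is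
universally open keep the local fibre dimension -/
theorem exists_generization_fibreDimAt_of_isUnivOpenAt (f : X ⟶ Y) [LocallyOfFiniteType f]
    (ζ : X) (hop : EGA43.IsUnivOpenAt f ζ) (hζmax : ∀ τ : X, τ ⤳ ζ → f τ = f ζ → τ = ζ) (N : ℕ)
    (hN : @Algebra.trdeg (Y.residueField (f ζ)) (X.residueField ζ) _ _
      (f.residueFieldMap ζ).hom.toAlgebra = N) (η : Y) (hη : η ⤳ f ζ) :
    ∃ ξ : X, ξ ⤳ ζ ∧ f ξ = η ∧ FlatMor.fibreDimAt f ξ = N := by
  obtain ⟨A, hAd, hAv, a, hagen, hacl⟩ :=
    Groth.Agent.Lib.Helper10.ValSpec.exists_valuationRing_of_specializes hη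
  haveI : IsDomain A := hAd
  haveI : ValuationRing A := hAv
  have hsq : IsPullback (pullback.fst f a) (pullback.snd f a) f a := IsPullback.of_hasPullback f a
  haveI : LocallyOfFiniteType (pullback.snd f a) :=
    MorphismProperty.pullback_snd (P := @LocallyOfFiniteType) _ _ inferInstance
  have hFζ : FlatMor.fibreDimAt f ζ = N := fibreDimAt_eq_trdeg_of_maximal f ζ hζmax N hN
  obtain ⟨p₀, hp₀1, hp₀2⟩ := Scheme.Pullback.exists_preimage_pullback (f := f) (g := a) ζ
    (closedPoint A) hacl.symm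
  have hF₀ : FlatMor.fibreDimAt (pullback.snd f a) p₀ = N := by
    rw [Groth.Agent.Lib.Helper21.BaseChg.fibreDimAt_eq_of_isPullback hsq p₀, hp₀1, hFζ]
  obtain ⟨p₁, N', hp₁p₀, hsp₁, hp₁max, hp₁N, hF₀'⟩ :=
    exists_maximal_generization_fibreDimAt (pullback.snd f a) p₀
  have hNN : N' = N := by
    rw [hF₀] at hF₀'
    exact_mod_cast hF₀'.symm
  rw [hNN] at hp₁N
  have hp₁ζ : pullback.fst f a p₁ = ζ := by
    apply hζmax
    · rw [← hp₀1]
      exact hp₁p₀.map (pullback.fst f a).continuous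
    · have h1 : f (pullback.fst f a p₁) = a (pullback.snd f a p₁) := by
        have := congrArg (fun φ : pullback f a ⟶ Y => φ p₁) pullback.condition
        simpa only [Scheme.Hom.comp_apply] using this
      rw [h1, hsp₁, hp₀2, hacl]
  have hgen : Groth.Agent.Lib.Helper10.ValSpec.genericPt A ⤳ pullback.snd f a p₁ :=
    Groth.Agent.Lib.Helper10.ValSpec.genericPt_specializes A _
  obtain ⟨p₂, hp₂p₁, hsp₂⟩ :=
    Groth.Agent.Lib.Helper17.ProConsLib.exists_generization_lift (pullback.snd f a) p₁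
      (hop (Spec A) a p₁ hp₁ζ) _ hgen
  obtain ⟨M, hM⟩ := exists_nat_trdeg_residueFieldMap (pullback.snd f a) p₂
  have hle := Groth.Agent.Lib.Helper21.FlatGen.trdeg_le_of_specializes_of_isBezout (A : Type u)
    (pullback.snd f a) hp₂p₁
  rw [hp₁N, hM] at hle
  have hNM : N ≤ M := by exact_mod_cast hle
  have hF₂ : (M : WithBot ℕ∞) ≤ FlatMor.fibreDimAt f (pullback.fst f a p₂) := by
    rw [← Groth.Agent.Lib.Helper21.BaseChg.fibreDimAt_eq_of_isPullback hsq p₂]
    exact le_fibreDimAt_of_specializes (pullback.snd f a) (specializes_refl p₂) M hM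
  have hξζ : pullback.fst f a p₂ ⤳ ζ := by
    rw [← hp₁ζ]
    exact hp₂p₁.map (pullback.fst f a).continuous
  refine ⟨pullback.fst f a p₂, hξζ, ?_, ?_⟩
  · have h1 : f (pullback.fst f a p₂) = a (pullback.snd f a p₂) := by
      have := congrArg (fun φ : pullback f a ⟶ Y => φ p₂) pullback.condition
      simpa only [Scheme.Hom.comp_apply] using this
    rw [h1, hsp₂, hagen]
  · apply le_antisymm
    · rw [← hFζ]
      exact fibreDimAt_le_of_specializes f hξζ
    · refine le_trans ?_ hF₂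
      exact_mod_cast hNM

end Groth.Agent.Lib.Helper21.CondT
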