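import Groth.Agent.Lib.Helper21.OpenAt16
import Groth.Agent.Lib.Helper22.FibreDim2
import Groth.Prelude.Def_EGA4Misc

/-!
# The dimension of the fibres is generically constant; dimension as a constructible property
-/

set_option autoImplicit false
set_option linter.style.haveILetI false
set_option linter.unusedSectionVars false
universe u

open AlgebraicGeometry CategoryTheory Limits TopologicalSpace IsLocalRing

namespace Groth.Agent.Lib.Helper21.ConsDim

open Groth.Agent.Lib.Helper21.FibDim Groth.Agent.Lib.Helper21.EquiSub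
  Groth.Agent.Lib.Helper21.OpenAt Groth.Agent.Lib.Helper17.ProConsLib

variable {X S : Scheme.{u}}

/-- closed subsets of locally Noetherian schemes are ind-constructible -/
theorem isIndConstructible_of_isClosed [IsLocallyNoetherian X] {Z : Set X} (hZ : IsClosed Z) :
    ProCons.IsIndConstructible Z := by
  apply isIndConstructible_of_nhds_in_closure
  intro x hx
  have : (Subtype.val ⁻¹' Z : Set ↥(closure ({x} : Set X))) = Set.univ := by
    ext ⟨w, hw⟩
    simp only [Set.mem_preimage, Set.mem_univ, iff_true]
    exact (specializes_iff_mem_closure.mpr hw).mem_closed hZ hx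
  rw [this]
  exact Filter.univ_mem

/-- an ind-constructible set containing the generic point is a neighbourhood of it -/
theorem genericPoint_mem_interior [IrreducibleSpace S] {E : Set S}
    (hE : ProCons.IsIndConstructible E) (h : genericPoint S ∈ E) :
    genericPoint S ∈ interior E := by
  rw [mem_interior_iff_of_isIndConstructible hE]
  intro x' hx'
  rw [(hx'.antisymm (genericPoint_specializes x')).eq]
  exact h

/-- the dimension of the fibres is constant on a non-empty open of an integral Noetherian base -/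
theorem exists_open_fibre_dim_eq_generic [IsIntegral S] [IsNoetherian S] (f : X ⟶ S)
    [LocallyOfFiniteType f] [QuasiCompact f] :
    ∃ V : S.Opens, (V : Set S).Nonempty ∧ ∀ s ∈ V,
      topologicalKrullDim ↥(f.fiber s) = topologicalKrullDim ↥(f.fiber (genericPoint S)) := by
  haveI : IsLocallyNoetherian X := LocallyOfFiniteType.isLocallyNoetherian f
  by_cases hne : ∃ x₀ : X, f x₀ = genericPoint S
  · obtain ⟨x₀, hx₀⟩ := hne
    obtain ⟨x₁, hfx₁, hFx₁⟩ := exists_fibreDimAt_eq_topologicalKrullDim_fiber f x₀
    obtain ⟨ζ, N, -, hfζ, -, hζN, hFN⟩ := exists_maximal_generization_fibreDimAt f x₁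
    have hfζ' : f ζ = genericPoint S := hfζ.trans (hfx₁.trans hx₀)
    have hdimη : topologicalKrullDim ↥(f.fiber (genericPoint S)) = N := by
      rw [← hx₀, ← hFx₁, hFN]
    -- lower bound
    have hE₁ : ProCons.IsIndConstructible (f.base '' closure ({ζ} : Set X)) :=
      isIndConstructible_image f (isIndConstructible_of_isClosed isClosed_closure)
    have hη₁ : genericPoint S ∈ interior (f.base '' closure ({ζ} : Set X)) :=
      genericPoint_mem_interior hE₁ ⟨ζ, subset_closure rfl, hfζ'⟩
    -- upper bound
    have hcl := Groth.Agent.Lib.Helper18.FibSemi.isClosed_setOf_le_fibreDimAt f (N + 1)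
    have hE₂ : ProCons.IsIndConstructible
        (f.base '' {x : X | ((N + 1 : ℕ) : WithBot ℕ∞) ≤ FlatMor.fibreDimAt f x})ᶜ := by
      rw [isIndConstructible_iff_compl, compl_compl]
      exact isProConstructible_image f (isProConstructible_of_isClosed hcl)
    have hη₂ : genericPoint S ∈
        interior (f.base '' {x : X | ((N + 1 : ℕ) : WithBot ℕ∞) ≤ FlatMor.fibreDimAt f x})ᶜ := by
      apply genericPoint_mem_interior hE₂
      rintro ⟨z, hz, hfz⟩
      have hz' : ((N + 1 : ℕ) : WithBot ℕ∞) ≤ FlatMor.fibreDimAt f z := hz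
      have h1 := OpenAt.fibreDimAt_le_topologicalKrullDim_fiber f z
      rw [hfz, hdimη] at h1
      have h2 := hz'.trans h1
      have h3 : N + 1 ≤ N := by exact_mod_cast h2
      omega
    refine ⟨⟨interior (f.base '' closure ({ζ} : Set X)) ∩
      interior (f.base '' {x : X | ((N + 1 : ℕ) : WithBot ℕ∞) ≤ FlatMor.fibreDimAt f x})ᶜ,
      isOpen_interior.inter isOpen_interior⟩, ⟨genericPoint S, hη₁, hη₂⟩, ?_⟩
    rintro s ⟨hs1, hs2⟩
    rw [hdimη]
    apply le_antisymm
    · rw [Groth.Agent.Lib.Helper18.TopDim.topologicalKrullDim_eq_iSup_localDim]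
      refine iSup_le fun t => ?_
      have hx : f (f.fiberι s t) = s := (f.fiberHomeo s t).2
      rw [Groth.Agent.Lib.Helper6.EtaleSq.localDim_fiber_eq_fibreDimAt f (f.fiberι s t) s hx t rfl]
      have hnot : f.fiberι s t ∉ {x : X | ((N + 1 : ℕ) : WithBot ℕ∞) ≤ FlatMor.fibreDimAt f x} :=
        fun hmem => interior_subset hs2 ⟨_, hmem, hx⟩
      have hlt : ¬ ((N + 1 : ℕ) : WithBot ℕ∞) ≤ FlatMor.fibreDimAt f (f.fiberι s t) := hnot
      obtain ⟨k, hk, -, -⟩ := exists_fibreDimAt_eq_trdeg f (f.fiberι s t)
      rw [hk] at hlt ⊢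
      have : ¬ (N + 1 ≤ k) := fun h => hlt (by exact_mod_cast h)
      have hkN : k ≤ N := by omega
      exact_mod_cast hkN
    · obtain ⟨w, hw, rfl⟩ := interior_subset hs1
      have h1 := le_fibreDimAt_of_specializes f (specializes_iff_mem_closure.mpr hw) N hζN
      exact h1.trans (OpenAt.fibreDimAt_le_topologicalKrullDim_fiber f w)
  · push Not at hne
    have hE : ProCons.IsIndConstructible (Set.range f.base)ᶜ := by
      rw [isIndConstructible_iff_compl, compl_compl, ← Set.image_univ]
      exact isProConstructible_image f (isProConstructible_of_isClosed isClosed_univ)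
    have hη : genericPoint S ∈ interior (Set.range f.base)ᶜ :=
      genericPoint_mem_interior hE (by rintro ⟨x, hx⟩; exact hne x hx)
    refine ⟨⟨interior (Set.range f.base)ᶜ, isOpen_interior⟩, ⟨genericPoint S, hη⟩, ?_⟩
    intro s hs
    haveI : IsEmpty ↥(f.fiber (genericPoint S)) :=
      ⟨fun t => hne (f.fiberι _ t) (f.fiberHomeo _ t).2⟩
    haveI : IsEmpty ↥(f.fiber s) :=
      ⟨fun t => interior_subset hs ⟨f.fiberι s t, (f.fiberHomeo s t).2⟩⟩
    rw [topologicalKrullDim_eq_bot_of_isEmpty, topologicalKrullDim_eq_bot_of_isEmpty]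

end Groth.Agent.Lib.Helper21.ConsDim
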