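import Groth.Agent.Lib.Helper21.ConsDim

/-!
# Dimension as a constructible property of algebraic schemes
-/

set_option autoImplicit false
set_option linter.style.haveILetI false
set_option linter.unusedSectionVars false
universe u

open AlgebraicGeometry CategoryTheory Limits TopologicalSpace

namespace Groth.Agent.Lib.Helper21.ConsDim

/-- invariance of the dimension under extension of the base field, for one-point integral bases -/
theorem topologicalKrullDim_eq_of_isPullback_onePoint {Y Y' T T' : Scheme.{u}} (g : Y ⟶ T)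
    (g' : Y' ⟶ T') (e : Y' ⟶ Y) (h : T' ⟶ T) [IsIntegral T] [Subsingleton T] [IsIntegral T']
    [Subsingleton T'] [LocallyOfFiniteType g] (hpb : IsPullback e g' g h) :
    topologicalKrullDim ↥Y' = topologicalKrullDim ↥Y := by
  letI : Field Γ(T, ⊤) := (isField_of_isIntegral_of_subsingleton T).toField
  letI : Field Γ(T', ⊤) := (isField_of_isIntegral_of_subsingleton T').toField
  have hsq : IsPullback e (g' ≫ T'.isoSpec.hom) (g ≫ T.isoSpec.hom)
      (T'.isoSpec.inv ≫ h ≫ T.isoSpec.hom) :=
    IsPullback.of_iso hpb (Iso.refl Y') (Iso.refl Y) T'.isoSpec T.isoSpec (by simp) (by simp)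
      (by simp) (by simp)
  exact Groth.Agent.Lib.Helper22.topologicalKrullDim_eq_of_isPullback_field Γ(T, ⊤) Γ(T', ⊤)
    (g ≫ T.isoSpec.hom) (T'.isoSpec.inv ≫ h ≫ T.isoSpec.hom) e (g' ≫ T'.isoSpec.hom) hsq

/-- the dimension belonging to a given set of values is a constructible property -/
theorem isCons_dim_mem (Φ : Set (WithBot ℕ∞)) :
    ConsProp.IsCons (fun Y T g => topologicalKrullDim ↥Y ∈ Φ) := by
  refine ⟨?_, ?_⟩
  · intro Y Y' T T' g g' e h _ _ _ _ _ _ hpb
    change topologicalKrullDim ↥Y ∈ Φ ↔ topologicalKrullDim ↥Y' ∈ Φ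
    rw [topologicalKrullDim_eq_of_isPullback_onePoint g g' e h hpb]
  · intro X S f _ _ _ _
    obtain ⟨V, hVne, hV⟩ := exists_open_fibre_dim_eq_generic f
    by_cases hΦ : topologicalKrullDim ↥(f.fiber (genericPoint S)) ∈ Φ
    · left
      refine hVne.mono (interior_maximal ?_ V.2)
      intro s hs
      change topologicalKrullDim ↥(f.fiber s) ∈ Φ
      rw [hV s hs]
      exact hΦ
    · right
      refine hVne.mono (interior_maximal ?_ V.2)
      intro s hs hmem
      apply hΦ
      have hmem' : topologicalKrullDim ↥(f.fiber s) ∈ Φ := hmem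
      rw [hV s hs] at hmem'
      exact hmem'

end Groth.Agent.Lib.Helper21.ConsDim
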