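import Mathlib
import Groth.Agent.Lib.Helper12.ConsP7
import Groth.Agent.S0084
import Groth.Agent.S3445

/-!
# Finiteness over the base field is a constructible property of algebraic schemes
-/

set_option autoImplicit false
set_option linter.style.haveILetI false
set_option linter.unusedVariables false
universe u

namespace Groth.Agent.Lib.Helper21.ConsFin

open AlgebraicGeometry CategoryTheory Limits TopologicalSpace Topology MorphismProperty
open Groth.Agent.Lib.Helper12.H12ConsP

theorem lift_iff (Q : MorphismProperty Scheme.{u}) [Q.RespectsIso] {X S : Scheme.{u}} (u : X ⟶ S)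
    (s : S) (a : X ⟶ S) (ha : a = u)
    (w : (pullback.fst a (S.fromSpecResidueField s) ≫ u) ≫ 𝟙 S =
      pullback.snd a (S.fromSpecResidueField s) ≫ S.fromSpecResidueField s) :
    Q (pullback.lift (pullback.fst a (S.fromSpecResidueField s) ≫ u)
      (pullback.snd a (S.fromSpecResidueField s)) w :
      pullback a (S.fromSpecResidueField s) ⟶ pullback (𝟙 S) (S.fromSpecResidueField s)) ↔
    Q (u.fiberToSpecResidueField s) := by
  subst ha
  have h1 : pullback.lift (pullback.fst a (S.fromSpecResidueField s) ≫ a)
      (pullback.snd a (S.fromSpecResidueField s)) w ≫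
        pullback.snd (𝟙 S) (S.fromSpecResidueField s) = a.fiberToSpecResidueField s :=
    pullback.lift_snd _ _ _
  rw [← h1]
  exact (MorphismProperty.cancel_right_of_respectsIso (P := Q) _ _).symm

theorem isFinite_fiber_iff {X S : Scheme.{u}} (u : X ⟶ S) [QuasiCompact u] (s : S) :
    IsFinite (u.fiberToSpecResidueField s) ↔ LocallyQuasiFinite (u.fiberToSpecResidueField s) := by
  constructor
  · intro h
    infer_instance
  · intro h
    exact IsFinite.of_locallyQuasiFinite _

theorem isCons_isFinite :
    ConsProp.IsCons.{u} (fun Y T g => AlgebraicGeometry.IsFinite g) := by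
  haveI := Groth.Agent.S0084.result.{u}
  refine ⟨isFieldStable_of_descends @IsFinite, ?_⟩
  intro X S u _ _ _ _
  haveI : IsLocallyNoetherian X := LocallyOfFiniteType.isLocallyNoetherian u
  haveI : LocallyOfFinitePresentation (u ≫ 𝟙 S) := by rw [Category.comp_id]; infer_instance
  haveI : QuasiCompact (u ≫ 𝟙 S) := by rw [Category.comp_id]; infer_instance
  haveI : QuasiSeparated (u ≫ 𝟙 S) := by rw [Category.comp_id]; infer_instance
  have h := Groth.Agent.S3445.result u (𝟙 S)
  have heq : ConsProp.locus (fun Y T g => AlgebraicGeometry.IsFinite g) u =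
      {s : S | LocallyQuasiFinite
        (pullback.lift (pullback.fst (u ≫ 𝟙 S) (S.fromSpecResidueField s) ≫ u)
          (pullback.snd (u ≫ 𝟙 S) (S.fromSpecResidueField s))
          ((Category.assoc _ _ _).trans pullback.condition) :
        pullback (u ≫ 𝟙 S) (S.fromSpecResidueField s) ⟶
          pullback (𝟙 S) (S.fromSpecResidueField s))} := by
    ext s
    change IsFinite (u.fiberToSpecResidueField s) ↔ _
    rw [isFinite_fiber_iff]
    exact (lift_iff @LocallyQuasiFinite u s (u ≫ 𝟙 S) (Category.comp_id u) _).symm
  rw [heq]
  exact dichotomy_of_isConstructible h.isConstructible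

end Groth.Agent.Lib.Helper21.ConsFin
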