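import Mathlib.AlgebraicGeometry.FunctionField
import Mathlib.RingTheory.Valuation.ValuationRing
import Mathlib.AlgebraicGeometry.Stalk

/-!
# Completion of normal curves, part 1: a local homomorphism from a valuation ring which is an
isomorphism on fraction fields is bijective; stalk maps of birational morphisms to a scheme
with valuation-ring stalks.
-/

set_option autoImplicit false
set_option linter.style.haveILetI false
universe u
open AlgebraicGeometry CategoryTheory Limits TopologicalSpace

namespace Groth.Agent.Lib.Helper21.CurveCompl

/-- A local homomorphism `f : A → B` out of a valuation ring `A`, inducing a surjection on the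
fields containing them, is bijective. -/
theorem bijective_of_valuationRing {A B K L : Type*} [CommRing A] [IsDomain A] [ValuationRing A]
    [CommRing B] [Field K] [Field L] [Algebra A K] [IsFractionRing A K] [Algebra B L]
    (hinjB : Function.Injective (algebraMap B L)) (f : A →+* B) [IsLocalHom f]
    (φ : K →+* L) (hφ : Function.Surjective φ)
    (comm : ∀ a, algebraMap B L (f a) = φ (algebraMap A K a)) : Function.Bijective f := by
  constructor
  · rw [injective_iff_map_eq_zero]
    intro a ha
    have h1 : φ (algebraMap A K a) = 0 := by rw [← comm, ha, map_zero]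
    have h2 : algebraMap A K a = 0 := (map_eq_zero φ).mp h1
    exact (IsFractionRing.injective A K) (by rw [h2, map_zero])
  · intro b
    obtain ⟨κ, hκ⟩ := hφ (algebraMap B L b)
    have key : ∀ a : A, algebraMap A K a = κ → ∃ a', f a' = b := by
      intro a ha
      refine ⟨a, hinjB ?_⟩
      rw [comm, ha, hκ]
    rcases ValuationRing.isInteger_or_isInteger A κ with ⟨a, ha⟩ | ⟨a, ha⟩
    · exact key a ha
    · by_cases hκ0 : κ = 0
      · refine ⟨0, hinjB ?_⟩
        rw [map_zero, map_zero, ← hκ, hκ0, map_zero]
      · have h1 : algebraMap B L (b * f a) = 1 := by
          rw [map_mul, comm, ha, ← hκ, ← map_mul, mul_inv_cancel₀ hκ0, map_one]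
        have h2 : b * f a = 1 := hinjB (by rw [h1, map_one])
        have h3 : IsUnit (f a) := IsUnit.of_mul_eq_one b (by rw [mul_comm]; exact h2)
        have h4 : IsUnit a := isUnit_of_map_unit f a h3
        obtain ⟨v, rfl⟩ := h4
        refine key ((v⁻¹ : Aˣ) : A) ?_
        have h5 : algebraMap A K (v : A) * algebraMap A K ((v⁻¹ : Aˣ) : A) = 1 := by
          rw [← map_mul, Units.mul_inv, map_one]
        rw [ha] at h5
        have := eq_inv_of_mul_eq_one_right h5
        rw [this, inv_inv]

end Groth.Agent.Lib.Helper21.CurveCompl

namespace Groth.Agent.Lib.Helper21.CurveCompl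

/-- A morphism of integral schemes which preserves generic points, is surjective on function
fields, and whose target has valuation rings as local rings, induces bijections on all stalks. -/
theorem stalkMap_bijective {X C : Scheme.{u}} [IsIntegral X] [IsIntegral C] (f : X ⟶ C)
    (hf : f (genericPoint X) = genericPoint C)
    (hsurj : Function.Surjective (C.presheaf.stalkSpecializes (specializes_of_eq hf) ≫
      f.stalkMap (genericPoint X)).hom)
    (hval : ∀ c : C, ValuationRing (C.presheaf.stalk c)) (x : X) :
    Function.Bijective (f.stalkMap x).hom := by
  haveI := hval (f x)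
  refine bijective_of_valuationRing (K := C.functionField) (L := X.functionField)
    (IsFractionRing.injective (X.presheaf.stalk x) X.functionField) (f.stalkMap x).hom
    (C.presheaf.stalkSpecializes (specializes_of_eq hf) ≫ f.stalkMap (genericPoint X)).hom
    hsurj ?_
  intro a
  have hx : genericPoint X ⤳ x := (genericPoint_spec X).specializes trivial
  have h1 := Scheme.Hom.stalkSpecializes_stalkMap_apply f (genericPoint X) x hx a
  change (X.presheaf.stalkSpecializes hx) ((f.stalkMap x) a) = _
  rw [← h1]
  change _ = (f.stalkMap (genericPoint X)) ((C.presheaf.stalkSpecializes (specializes_of_eq hf))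
    ((C.presheaf.stalkSpecializes ((genericPoint_spec C).specializes trivial)) a))
  congr 1
  rw [← ConcreteCategory.comp_apply, TopCat.Presheaf.stalkSpecializes_comp]

end Groth.Agent.Lib.Helper21.CurveCompl
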