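import Groth.Agent.Lib.Helper21.CurveStalk

/-!
# Rational maps from a scheme all of whose local rings are valuation rings to a proper scheme extend
-/

set_option autoImplicit false
universe u
open AlgebraicGeometry CategoryTheory Limits TopologicalSpace

namespace Groth.Agent.Lib.Helper21.RatExt

variable {X Y S : Scheme.{u}}

/-- If every local ring of `X` is a valuation ring (e.g. `X` a normal curve), every rational
`S`-map from `X` to a proper `S`-scheme is everywhere defined. -/
theorem exists_extension_of_forall_valuationRing [IsLocallyNoetherian X] [IsReduced X]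
    (hval : ∀ y : X, ∃ _ : IsDomain (X.presheaf.stalk y), ValuationRing (X.presheaf.stalk y))
    (sX : X ⟶ S) (sY : Y ⟶ S) [IsProper sY] (U : X.Opens) (hU : Dense (U : Set X))
    (g : (U : Scheme.{u}) ⟶ Y) (hg : g ≫ sY = U.ι ≫ sX) :
    ∃ g' : X ⟶ Y, U.ι ≫ g' = g ∧ g' ≫ sY = sX := by
  have hsec : pullback.lift g U.ι hg ≫ pullback.snd sY sX = U.ι := pullback.lift_snd _ _ _
  have hcl : IsClosedMap (pullback.snd sY sX) := Scheme.Hom.isClosedMap _
  obtain ⟨U', hUU', s', hs', hs'U, hall⟩ :=
    exists_extension_of_forall_local (pullback.snd sY sX) U hU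
      (pullback.lift g U.ι hg) hsec (fun _ => True) (fun y _ => by
        obtain ⟨hd, hv⟩ := hval y
        exact exists_local_extension (pullback.snd sY sX) hcl U hU
          (pullback.lift g U.ι hg) hsec y)
  have htop : U' = ⊤ := eq_top_iff.mpr (fun y _ => hall y trivial)
  have h1 : U.ι ≫ X.topIso.inv = X.homOfLE (le_top : U ≤ ⊤) := by
    rw [← cancel_mono X.topIso.hom, Category.assoc, Iso.inv_hom_id, Category.comp_id]
    exact (Scheme.homOfLE_ι X le_top).symm
  have hid : X.topIso.inv ≫ X.homOfLE (le_of_eq htop.symm) ≫ U'.ι = 𝟙 X := by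
    rw [Scheme.homOfLE_ι]
    exact X.topIso.inv_hom_id
  refine ⟨X.topIso.inv ≫ X.homOfLE (le_of_eq htop.symm) ≫ s' ≫ pullback.fst _ _, ?_, ?_⟩
  · rw [← Category.assoc, h1, ← Category.assoc, Scheme.homOfLE_homOfLE, ← Category.assoc, hs'U,
      pullback.lift_fst]
  · rw [Category.assoc, Category.assoc, Category.assoc, pullback.condition, ← Category.assoc s',
      hs', ← Category.assoc (X.homOfLE _), ← Category.assoc, hid, Category.id_comp]

/-- On a quasi-compact locally Noetherian scheme with normal local rings, of dimension one at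
closed points, every local ring is a valuation ring. -/
theorem forall_valuationRing_of_normal_of_dim_one [IsLocallyNoetherian X] [CompactSpace X]
    (hcurve : ∀ x : X, IsClosed ({x} : Set X) → ringKrullDim (X.presheaf.stalk x) = 1)
    (hnorm : ∀ x : X, IsDomain (X.presheaf.stalk x) ∧ IsIntegrallyClosed (X.presheaf.stalk x))
    (y : X) : ∃ _ : IsDomain (X.presheaf.stalk y), ValuationRing (X.presheaf.stalk y) := by
  obtain ⟨c, hc, hcc⟩ := IsClosed.exists_closed_singleton (isClosed_closure (s := {y}))
    ⟨y, subset_closure rfl⟩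
  have hyc : y ⤳ c := specializes_iff_mem_closure.mpr hc
  have hdim : ringKrullDim (X.presheaf.stalk y) ≤ 1 :=
    (ringKrullDim_stalk_le_of_specializes hyc).trans (hcurve c hcc).le
  have hd := (hnorm y).1
  exact ⟨hd, valuationRing_of_isIntegrallyClosed_of_dim_le_one _ (hnorm y).2 hdim⟩

/-- A scheme whose local rings are domains is reduced. -/
theorem isReduced_of_forall_isDomain_stalk (h : ∀ x : X, IsDomain (X.presheaf.stalk x)) :
    IsReduced X := by
  have : ∀ x : X, _root_.IsReduced (X.presheaf.stalk x) := fun x => by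
    have := h x
    infer_instance
  exact isReduced_of_isReduced_stalk X

end Groth.Agent.Lib.Helper21.RatExt
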