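import Groth.Agent.Lib.Helper21.VarNorm2

/-!
# The normalization of an integral scheme in an extension of its function field:
generic point and field of rational functions
-/

set_option autoImplicit false
set_option linter.style.haveILetI false
set_option linter.unusedSectionVars false
universe u
open AlgebraicGeometry CategoryTheory Limits TopologicalSpace

namespace Groth.Agent.Lib.Helper21.NormGen

open Groth.Agent.Lib.Helper6.GU

variable (X : Scheme.{u}) [IsIntegral X] (L : Type u) [Field L]
  (φ : X.functionField ⟶ CommRingCat.of L)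
  [QuasiCompact (genHom X L φ)] [QuasiSeparated (genHom X L φ)]

/-- The canonical morphism `Spec L ⟶ X'` hits the generic point. -/
theorem toNormalization_apply (z : Spec (CommRingCat.of L)) :
    (genHom X L φ).toNormalization z = genericPoint (genHom X L φ).normalization := by
  set h := genHom X L φ
  have hd : DenseRange h.toNormalization := h.toNormalization.denseRange
  haveI : Subsingleton (Spec (CommRingCat.of L)) :=
    inferInstanceAs (Subsingleton (PrimeSpectrum L))
  have hr : Set.range h.toNormalization = {h.toNormalization z} := by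
    ext y
    constructor
    · rintro ⟨w, rfl⟩
      rw [Subsingleton.elim w z]
      rfl
    · rintro rfl
      exact ⟨z, rfl⟩
  have hg : IsGenericPoint (h.toNormalization z) (Set.univ : Set h.normalization) := by
    rw [IsGenericPoint, ← hr]
    exact hd.closure_range
  exact hg.eq (genericPoint_spec h.normalization)

theorem fromNormalization_genericPoint :
    (genHom X L φ).fromNormalization (genericPoint (genHom X L φ).normalization) =
      genericPoint X := by
  set h := genHom X L φ
  obtain ⟨pt⟩ : Nonempty (Spec (CommRingCat.of L)) :=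
    inferInstanceAs (Nonempty (PrimeSpectrum L))
  rw [← toNormalization_apply X L φ pt, ← Scheme.Hom.comp_apply,
    Scheme.Hom.toNormalization_fromNormalization]
  exact genHom_apply X L φ pt

theorem fromNormalization_preimage_genericPoint :
    (genHom X L φ).fromNormalization.base ⁻¹' {genericPoint X} =
      {genericPoint (genHom X L φ).normalization} := by
  ext z
  simp only [Set.mem_preimage, Set.mem_singleton_iff]
  constructor
  · intro hz
    exact Groth.Agent.Lib.Helper6.NormIso.eq_genericPoint_of_isIntegralHom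
      (genHom X L φ).fromNormalization z hz
  · rintro rfl
    exact fromNormalization_genericPoint X L φ

theorem preimage_le (U : X.Opens) :
    genHom X L φ ⁻¹ᵁ U ≤
      (genHom X L φ).toNormalization ⁻¹ᵁ ((genHom X L φ).fromNormalization ⁻¹ᵁ U) := by
  rw [← Scheme.Hom.comp_preimage, Scheme.Hom.toNormalization_fromNormalization]

theorem germ_sCPT_resL (U : X.Opens)
    (hW : (genHom X L φ).toNormalization (IsLocalRing.closedPoint L) ∈
      (genHom X L φ).fromNormalization ⁻¹ᵁ U) :
    (genHom X L φ).normalization.presheaf.germ ((genHom X L φ).fromNormalization ⁻¹ᵁ U) _ hW ≫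
      Scheme.stalkClosedPointTo (genHom X L φ).toNormalization ≫ resL L (genHom X L φ ⁻¹ᵁ U) =
    (genHom X L φ).toNormalization.appLE ((genHom X L φ).fromNormalization ⁻¹ᵁ U)
      (genHom X L φ ⁻¹ᵁ U) (preimage_le X L φ U) := by
  rw [Scheme.germ_stalkClosedPointTo_assoc, resL, Scheme.Hom.appLE]
  simp only [Iso.trans_hom, Functor.mapIso_hom, Iso.op_hom, eqToIso.hom, Category.assoc,
    Iso.hom_inv_id_assoc]
  rw [← Functor.map_comp]
  rfl

theorem appLE_congr_hom' {Y Z : Scheme.{u}} {f g : Y ⟶ Z} (e : f = g) (U : Z.Opens) (V : Y.Opens)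
    (hle : V ≤ f ⁻¹ᵁ U) : f.appLE U V hle = g.appLE U V (e ▸ hle) := by
  subst e; rfl

theorem app_comp_appLE (U : X.Opens) :
    (genHom X L φ).fromNormalization.app U ≫
      (genHom X L φ).toNormalization.appLE ((genHom X L φ).fromNormalization ⁻¹ᵁ U)
      (genHom X L φ ⁻¹ᵁ U) (preimage_le X L φ U) = (genHom X L φ).app U := by
  rw [Scheme.Hom.app_eq_appLE, Scheme.Hom.appLE_comp_appLE,
    appLE_congr_hom' (Scheme.Hom.toNormalization_fromNormalization _), Scheme.Hom.app_eq_appLE]

theorem mem_preimage_of_genericPoint_mem (U : X.Opens) (hη : genericPoint X ∈ U) :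
    (genHom X L φ).toNormalization (IsLocalRing.closedPoint L) ∈
      (genHom X L φ).fromNormalization ⁻¹ᵁ U := by
  change (genHom X L φ).fromNormalization ((genHom X L φ).toNormalization _) ∈ U
  rw [← Scheme.Hom.comp_apply, Scheme.Hom.toNormalization_fromNormalization, genHom_apply]
  exact hη

/-- Sections of the normalization over `ν⁻¹ U`, evaluated in `L`. -/
noncomputable def secToL (U : X.Opens) (hη : genericPoint X ∈ U) :
    Γ((genHom X L φ).normalization, (genHom X L φ).fromNormalization ⁻¹ᵁ U) →+* L :=
  ((genHom X L φ).normalization.presheaf.germ ((genHom X L φ).fromNormalization ⁻¹ᵁ U) _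
    (mem_preimage_of_genericPoint_mem X L φ U hη) ≫
      Scheme.stalkClosedPointTo (genHom X L φ).toNormalization).hom

theorem resL_secToL (U : X.Opens) (hη : genericPoint X ∈ U)
    (b : Γ((genHom X L φ).normalization, (genHom X L φ).fromNormalization ⁻¹ᵁ U)) :
    (resL L (genHom X L φ ⁻¹ᵁ U)).hom (secToL X L φ U hη b) =
      ((genHom X L φ).toNormalization.appLE ((genHom X L φ).fromNormalization ⁻¹ᵁ U)
      (genHom X L φ ⁻¹ᵁ U) (preimage_le X L φ U)).hom b := by
  have := germ_sCPT_resL X L φ U (mem_preimage_of_genericPoint_mem X L φ U hη)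
  exact congrArg (fun f => f.hom b) this

theorem resL_injective' (U : X.Opens) (hη : genericPoint X ∈ U) :
    Function.Injective (resL L (genHom X L φ ⁻¹ᵁ U)).hom :=
  (resL_bijective L _ (genHom_preimage_eq_top X L φ U hη)).1

theorem secToL_app (U : X.Opens) (hη : genericPoint X ∈ U) (a : Γ(X, U)) :
    secToL X L φ U hη (((genHom X L φ).fromNormalization.app U).hom a) =
      φ.hom ((X.presheaf.germ U (genericPoint X) hη).hom a) := by
  apply resL_injective' X L φ U hη
  rw [resL_secToL]
  have h1 := app_comp_appLE X L φ U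
  rw [genHom_app X L φ U hη] at h1
  exact congrArg (fun f => f.hom a) h1

theorem isIntegralElem_of_comp {A B C : Type*} [CommRing A] [CommRing B] [CommRing C]
    (f : A →+* B) (e : B →+* C) (he : Function.Injective e) (y : B)
    (h : (e.comp f).IsIntegralElem (e y)) : f.IsIntegralElem y := by
  obtain ⟨p, hp, h0⟩ := h
  refine ⟨p, hp, he ?_⟩
  rw [Polynomial.hom_eval₂, h0, map_zero]

theorem isIntegralElem_comp {A B C : Type*} [CommRing A] [CommRing B] [CommRing C]
    (f : A →+* B) (e : B →+* C) (y : B)
    (h : f.IsIntegralElem y) : (e.comp f).IsIntegralElem (e y) := by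
  obtain ⟨p, hp, h0⟩ := h
  refine ⟨p, hp, ?_⟩
  rw [← Polynomial.hom_eval₂, h0, map_zero]

theorem isIntegralElem_secToL (U : X.Opens) (hU : IsAffineOpen U) (hη : genericPoint X ∈ U)
    (b : Γ((genHom X L φ).normalization, (genHom X L φ).fromNormalization ⁻¹ᵁ U)) :
    (φ.hom.comp (X.presheaf.germ U (genericPoint X) hη).hom).IsIntegralElem
      (secToL X L φ U hη b) := by
  apply isIntegralElem_of_comp _ (resL L (genHom X L φ ⁻¹ᵁ U)).hom (resL_injective' X L φ U hη)
  rw [resL_secToL]
  letI := ((genHom X L φ).app U).hom.toAlgebra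
  have h1 := (genHom X L φ).normalizationObjIso_hom_val hU
  have h2 : ((genHom X L φ).toNormalization.appLE ((genHom X L φ).fromNormalization ⁻¹ᵁ U)
      (genHom X L φ ⁻¹ᵁ U) (preimage_le X L φ U)).hom b =
      (((genHom X L φ).normalizationObjIso hU).hom.hom b : _) := by
    exact (congrArg (fun f => f.hom b) h1).symm
  rw [h2]
  have h3 := (((genHom X L φ).normalizationObjIso hU).hom.hom b).2
  have h4 : (resL L (genHom X L φ ⁻¹ᵁ U)).hom.comp
      (φ.hom.comp (X.presheaf.germ U (genericPoint X) hη).hom) = ((genHom X L φ).app U).hom := by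
    rw [genHom_app X L φ U hη]
    rfl
  rw [h4]
  exact h3

theorem exists_secToL_eq (U : X.Opens) (hU : IsAffineOpen U) (hη : genericPoint X ∈ U) (y : L)
    (hy : (φ.hom.comp (X.presheaf.germ U (genericPoint X) hη).hom).IsIntegralElem y) :
    ∃ b, secToL X L φ U hη b = y := by
  letI := ((genHom X L φ).app U).hom.toAlgebra
  have h4 : (resL L (genHom X L φ ⁻¹ᵁ U)).hom.comp
      (φ.hom.comp (X.presheaf.germ U (genericPoint X) hη).hom) = ((genHom X L φ).app U).hom := by
    rw [genHom_app X L φ U hη]
    rfl
  have h5 : ((genHom X L φ).app U).hom.IsIntegralElem ((resL L (genHom X L φ ⁻¹ᵁ U)).hom y) := by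
    rw [← h4]
    exact isIntegralElem_comp _ _ _ hy
  have h6 : (resL L (genHom X L φ ⁻¹ᵁ U)).hom y ∈
      integralClosure Γ(X, U) Γ(Spec (CommRingCat.of L), genHom X L φ ⁻¹ᵁ U) := h5
  have h1 := (genHom X L φ).normalizationObjIso_hom_val hU
  refine ⟨((genHom X L φ).normalizationObjIso hU).inv.hom ⟨_, h6⟩, ?_⟩
  apply resL_injective' X L φ U hη
  rw [resL_secToL]
  have := congrArg (fun f => f.hom (((genHom X L φ).normalizationObjIso hU).inv.hom ⟨_, h6⟩)) h1
  refine this.symm.trans ?_
  have hz : ((genHom X L φ).normalizationObjIso hU).hom.hom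
      (((genHom X L φ).normalizationObjIso hU).inv.hom ⟨_, h6⟩) = ⟨_, h6⟩ := by
    rw [← CommRingCat.comp_apply, Iso.inv_hom_id]
    rfl
  change (integralClosure _ _).val.toRingHom (((genHom X L φ).normalizationObjIso hU).hom.hom
      (((genHom X L φ).normalizationObjIso hU).inv.hom ⟨_, h6⟩)) = _
  rw [hz]
  rfl


theorem isField_stalk_toNormalization :
    IsField ((genHom X L φ).normalization.presheaf.stalk
      ((genHom X L φ).toNormalization (IsLocalRing.closedPoint L))) :=
  Groth.Agent.Lib.Helper6.NormIso.isField_stalk_genericPoint _ _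
    (toNormalization_apply X L φ _)

theorem injective_stalkClosedPointTo :
    Function.Injective (Scheme.stalkClosedPointTo (genHom X L φ).toNormalization).hom :=
  Groth.Agent.Lib.Helper6.NormIso.injective_of_isField (isField_stalk_toNormalization X L φ) _

theorem exists_affine_genericPoint_mem : ∃ U : X.Opens, IsAffineOpen U ∧ genericPoint X ∈ U := by
  obtain ⟨_, ⟨U, hU : IsAffineOpen U, rfl⟩, hηU, -⟩ :=
    X.isBasis_affineOpens.exists_subset_of_mem_open (Set.mem_univ (genericPoint X)) isOpen_univ
  exact ⟨U, hU, hηU⟩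

theorem isIntegralElem_of_isIntegralElem_comp {A B C : Type*} [CommRing A] [CommRing B]
    [CommRing C] (f : A →+* B) (g : B →+* C) (y : C) (h : (g.comp f).IsIntegralElem y) :
    g.IsIntegralElem y := by
  obtain ⟨p, hp, h0⟩ := h
  refine ⟨p.map f, hp.map f, ?_⟩
  rw [Polynomial.eval₂_map]
  exact h0

theorem range_stalkClosedPointTo_le (s : (genHom X L φ).normalization.presheaf.stalk
      ((genHom X L φ).toNormalization (IsLocalRing.closedPoint L))) :
    φ.hom.IsIntegralElem ((Scheme.stalkClosedPointTo (genHom X L φ).toNormalization).hom s) := by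
  obtain ⟨U, hU, hη⟩ := exists_affine_genericPoint_mem X
  set h := genHom X L φ with hh
  set ν := h.fromNormalization
  have hW : IsAffineOpen (ν ⁻¹ᵁ U) := hU.preimage ν
  have hmem := mem_preimage_of_genericPoint_mem X L φ U hη
  letI := TopCat.Presheaf.algebra_section_stalk h.normalization.presheaf
    ⟨h.toNormalization (IsLocalRing.closedPoint L), hmem⟩
  haveI := hW.isLocalization_stalk ⟨h.toNormalization (IsLocalRing.closedPoint L), hmem⟩
  obtain ⟨b, c, rfl⟩ := IsLocalization.exists_mk'_eq
    (hW.primeIdealOf ⟨h.toNormalization (IsLocalRing.closedPoint L), hmem⟩).asIdeal.primeCompl s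
  set σ := (Scheme.stalkClosedPointTo h.toNormalization).hom
  have hspec := IsLocalization.mk'_spec (h.normalization.presheaf.stalk
      (h.toNormalization (IsLocalRing.closedPoint L))) b c
  have hunit : IsUnit (algebraMap Γ(h.normalization, ν ⁻¹ᵁ U) (h.normalization.presheaf.stalk
      (h.toNormalization (IsLocalRing.closedPoint L))) c) :=
    IsLocalization.map_units _ c
  have h1 : σ (IsLocalization.mk' _ b c) * secToL X L φ U hη c = secToL X L φ U hη b := by
    have := congrArg σ hspec
    rw [map_mul] at this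
    exact this
  have hc0 : secToL X L φ U hη (c : Γ(h.normalization, ν ⁻¹ᵁ U)) ≠ 0 :=
    (hunit.map σ).ne_zero
  have hb := isIntegralElem_of_isIntegralElem_comp _ _ _ (isIntegralElem_secToL X L φ U hU hη b)
  have hc := isIntegralElem_of_isIntegralElem_comp _ _ _ (isIntegralElem_secToL X L φ U hU hη c)
  letI := φ.hom.toAlgebra
  have hb' : IsIntegral X.functionField (secToL X L φ U hη b) := hb
  have hc' : IsIntegral X.functionField (secToL X L φ U hη (c : Γ(h.normalization, ν ⁻¹ᵁ U))) := hc
  have h2 : σ (IsLocalization.mk' _ b c) = secToL X L φ U hη b *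
      (secToL X L φ U hη (c : Γ(h.normalization, ν ⁻¹ᵁ U)))⁻¹ := by
    rw [← h1, mul_assoc, mul_inv_cancel₀ hc0, mul_one]
  rw [h2]
  exact hb'.mul hc'.inv

theorem le_range_stalkClosedPointTo (y : L) (hy : φ.hom.IsIntegralElem y) :
    ∃ s, (Scheme.stalkClosedPointTo (genHom X L φ).toNormalization).hom s = y := by
  obtain ⟨U, hU, hη⟩ := exists_affine_genericPoint_mem X
  set h := genHom X L φ with hh
  set ν := h.fromNormalization
  set σ := (Scheme.stalkClosedPointTo h.toNormalization).hom
  haveI : Nonempty U := ⟨⟨_, hη⟩⟩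
  haveI := functionField_isFractionRing_of_isAffineOpen X U hU
  haveI : IsDomain Γ(X, U) := IsIntegral.component_integral (X := X) U
  letI : Algebra X.functionField L := φ.hom.toAlgebra
  letI : Algebra Γ(X, U) L := (φ.hom.comp (X.presheaf.germ U (genericPoint X) hη).hom).toAlgebra
  haveI : IsScalarTower Γ(X, U) X.functionField L := IsScalarTower.of_algebraMap_eq (fun _ => rfl)
  have hy' : IsIntegral X.functionField y := hy
  have halg : IsAlgebraic Γ(X, U) y :=
    (IsFractionRing.isAlgebraic_iff Γ(X, U) X.functionField L).mpr hy'.isAlgebraic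
  obtain ⟨d, hd0, hd⟩ := halg.exists_integral_multiple
  have hd' : (φ.hom.comp (X.presheaf.germ U (genericPoint X) hη).hom).IsIntegralElem
      (φ.hom ((X.presheaf.germ U (genericPoint X) hη).hom d) * y) := by
    have : d • y = φ.hom ((X.presheaf.germ U (genericPoint X) hη).hom d) * y := Algebra.smul_def d y
    rw [← this]
    exact hd
  obtain ⟨b1, hb1⟩ := exists_secToL_eq X L φ U hU hη _ hd'
  have happ := secToL_app X L φ U hη d
  have hne : φ.hom ((X.presheaf.germ U (genericPoint X) hη).hom d) ≠ 0 := by
    intro h0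
    have h1 : (X.presheaf.germ U (genericPoint X) hη).hom d = 0 :=
      (map_eq_zero_iff φ.hom (RingHom.injective _)).mp h0
    exact hd0 ((map_eq_zero_iff _ (germ_injective_of_isIntegral X _ hη)).mp h1)
  have hmem := mem_preimage_of_genericPoint_mem X L φ U hη
  set g := (h.normalization.presheaf.germ (ν ⁻¹ᵁ U) _ hmem).hom ((ν.app U).hom d) with hg
  have hσg : σ g = φ.hom ((X.presheaf.germ U (genericPoint X) hη).hom d) := happ
  have hg0 : g ≠ 0 := by
    intro h0
    rw [h0, map_zero] at hσg
    exact hne hσg.symm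
  obtain ⟨c, hc⟩ := (isField_stalk_toNormalization X L φ).mul_inv_cancel hg0
  refine ⟨(h.normalization.presheaf.germ (ν ⁻¹ᵁ U) _ hmem).hom b1 * c, ?_⟩
  have h3 : σ ((h.normalization.presheaf.germ (ν ⁻¹ᵁ U) _ hmem).hom b1) =
      φ.hom ((X.presheaf.germ U (genericPoint X) hη).hom d) * y := hb1
  have h4 : σ g * σ c = 1 := by rw [← map_mul, hc, map_one]
  rw [map_mul, h3, ← hσg]
  calc σ g * y * σ c = (σ g * σ c) * y := by ring
    _ = y := by rw [h4, one_mul]

theorem range_stalkClosedPointTo :
    Set.range (Scheme.stalkClosedPointTo (genHom X L φ).toNormalization).hom =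
      {y : L | φ.hom.IsIntegralElem y} := by
  ext y
  constructor
  · rintro ⟨s, rfl⟩
    exact range_stalkClosedPointTo_le X L φ s
  · intro hy
    exact le_range_stalkClosedPointTo X L φ y hy


end Groth.Agent.Lib.Helper21.NormGen
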