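import Groth.Agent.Lib.Helper21.P1

/-!
# The projective line over a field: closed points, function field
-/

set_option autoImplicit false
set_option linter.style.haveILetI false
set_option linter.unusedSimpArgs false
universe u
open AlgebraicGeometry CategoryTheory Limits TopologicalSpace

namespace Groth.Agent.Lib.Helper21.P1

theorem finite_of_trdeg_one {k F K : Type u} [Field k] [Field F] [Field K] [Algebra k F]
    [Algebra F K] [Algebra k K] [IsScalarTower k F K]
    (hfg : (⊤ : IntermediateField k K).FG) (htr : Algebra.trdeg k K = 1) (u : F)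
    (hu : Transcendental k (algebraMap F K u)) : Module.Finite F K := by
  haveI : Algebra.EssFiniteType k K := IntermediateField.fg_top_iff.mp hfg
  haveI : Algebra.EssFiniteType F K := Algebra.EssFiniteType.of_comp k F K
  have hu' : Transcendental k u := fun h => hu h.algebraMap
  haveI : Algebra.Transcendental k F := ⟨⟨u, hu'⟩⟩
  have h1 := trdeg_add_eq k F (A := K)
  have h2 : 0 < Algebra.trdeg k F := trdeg_pos k F
  have h3 : Algebra.trdeg F K = 0 := by
    by_contra h0
    have h4 : 1 ≤ Algebra.trdeg F K := Cardinal.one_le_iff_ne_zero.mpr h0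
    have h5 : 1 ≤ Algebra.trdeg k F := Cardinal.one_le_iff_pos.mpr h2
    have h6 : (1 : Cardinal) + 1 ≤ 1 := by
      calc (1 : Cardinal) + 1 ≤ Algebra.trdeg k F + Algebra.trdeg F K := add_le_add h5 h4
        _ = 1 := by rw [h1, htr]
    have h7 : (1 : Cardinal) < 1 + 1 := by
      rw [one_add_one_eq_two]; exact Cardinal.one_lt_two
    exact absurd h6 (not_le.mpr h7)
  haveI : Algebra.IsAlgebraic F K := trdeg_eq_zero_iff.mp h3
  exact Algebra.finite_of_essFiniteType_of_isAlgebraic

open HomogeneousLocalization MvPolynomial Groth.Agent.Lib.Helper29.QCoh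

variable (k : Type u) [Field k]

/-- Sections over a standard chart of `ℙ¹` form a polynomial ring. -/
noncomputable def sectionPoly (i : Fin 2) :
    Γ(CohB1.ProjSpace 1 k, stdOpen k i) ≃+* Polynomial k :=
  (sectionEquiv k i).symm.trans (chartEquiv k i)

theorem sectionPoly_sectionEquiv (i : Fin 2) (a : Away (CohB1.polyGrading 1 k) (X i)) :
    sectionPoly k i (sectionEquiv k i a) = chartEquiv k i a := by
  simp [sectionPoly]

instance stdOpen_nonempty (i : Fin 2) : Nonempty (stdOpen k i) := by
  have hU := isAffineOpen_stdOpen k i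
  haveI : Nontrivial Γ(CohB1.ProjSpace 1 k, stdOpen k i) :=
    (sectionPoly k i).symm.injective.nontrivial
  obtain ⟨q⟩ : Nonempty (PrimeSpectrum Γ(CohB1.ProjSpace 1 k, stdOpen k i)) := inferInstance
  have : hU.fromSpec q ∈ (stdOpen k i : Set (CohB1.ProjSpace 1 k)) := by
    rw [← hU.range_fromSpec]
    exact Set.mem_range_self q
  exact ⟨⟨_, this⟩⟩

theorem genericPoint_mem_stdOpen (i : Fin 2) :
    genericPoint (CohB1.ProjSpace 1 k) ∈ stdOpen k i := by
  obtain ⟨⟨x, hx⟩⟩ := stdOpen_nonempty k i
  exact ((genericPoint_spec (CohB1.ProjSpace 1 k)).mem_open_set_iff (stdOpen k i).isOpen).mpr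
    ⟨x, trivial, hx⟩

theorem ringKrullDim_stalk_of_isClosed (x : CohB1.ProjSpace 1 k)
    (hx : IsClosed ({x} : Set (CohB1.ProjSpace 1 k))) :
    ringKrullDim ((CohB1.ProjSpace 1 k).presheaf.stalk x) = 1 := by
  obtain ⟨i, hxi⟩ := exists_mem_stdOpen k x
  have hU := isAffineOpen_stdOpen k i
  set e := sectionPoly k i
  haveI : Nonempty (stdOpen k i) := ⟨⟨x, hxi⟩⟩
  haveI : IsDomain Γ(CohB1.ProjSpace 1 k, stdOpen k i) :=
    IsIntegral.component_integral (X := CohB1.ProjSpace 1 k) (stdOpen k i)
  haveI : IsPrincipalIdealRing Γ(CohB1.ProjSpace 1 k, stdOpen k i) :=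
    IsPrincipalIdealRing.of_surjective e.symm.toRingHom e.symm.surjective
  have hnf : ¬ IsField Γ(CohB1.ProjSpace 1 k, stdOpen k i) := by
    intro hf
    exact Polynomial.not_isField k (e.symm.toMulEquiv.isField hf)
  set p := hU.primeIdealOf ⟨x, hxi⟩ with hp
  have hfp : hU.fromSpec p = x := hU.fromSpec_primeIdealOf ⟨x, hxi⟩
  have hmax : p.asIdeal.IsMaximal := by
    rw [← PrimeSpectrum.isClosed_singleton_iff_isMaximal]
    have hpre : ({p} : Set (PrimeSpectrum Γ(CohB1.ProjSpace 1 k, stdOpen k i))) =
        hU.fromSpec.base ⁻¹' {x} := by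
      ext q
      simp only [Set.mem_singleton_iff, Set.mem_preimage]
      constructor
      · rintro rfl
        exact hfp
      · intro hq
        exact hU.fromSpec.isOpenEmbedding.injective (hq.trans hfp.symm)
    rw [hpre]
    exact hx.preimage hU.fromSpec.continuous
  have hne : p.asIdeal ≠ ⊥ := Ring.ne_bot_of_isMaximal_of_not_isField hmax hnf
  letI := TopCat.Presheaf.algebra_section_stalk (CohB1.ProjSpace 1 k).presheaf ⟨x, hxi⟩
  haveI := hU.isLocalization_stalk ⟨x, hxi⟩
  haveI : IsDiscreteValuationRing ((CohB1.ProjSpace 1 k).presheaf.stalk x) :=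
    IsLocalization.AtPrime.isDiscreteValuationRing_of_dedekind_domain
      Γ(CohB1.ProjSpace 1 k, stdOpen k i) hne _
  exact IsDiscreteValuationRing.ringKrullDim_eq_one _


variable {K : Type u} [Field K] [Algebra k K] (t : K)

/-- `Γ(ℙ¹, U₀) → K`, `T ↦ t`. -/
noncomputable def secToField : Γ(CohB1.ProjSpace 1 k, stdOpen k 0) →+* K :=
  (Polynomial.aeval t).toRingHom.comp (sectionPoly k 0).toRingHom

theorem secToField_injective (ht : Transcendental k t) :
    Function.Injective (secToField k t) :=
  (transcendental_iff_injective.mp ht).comp (sectionPoly k 0).injective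

/-- The embedding of the function field of `ℙ¹` into `K` determined by a transcendental `t`. -/
noncomputable def funFieldHom (ht : Transcendental k t) :
    (CohB1.ProjSpace 1 k).functionField →+* K :=
  haveI := functionField_isFractionRing_of_isAffineOpen (CohB1.ProjSpace 1 k) (stdOpen k 0)
    (isAffineOpen_stdOpen k 0)
  IsFractionRing.lift (secToField_injective k t ht)

theorem funFieldHom_germ (ht : Transcendental k t) (s : Γ(CohB1.ProjSpace 1 k, stdOpen k 0)) :
    funFieldHom k t ht (((CohB1.ProjSpace 1 k).presheaf.germ (stdOpen k 0)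
      (genericPoint (CohB1.ProjSpace 1 k)) (genericPoint_mem_stdOpen k 0)).hom s) =
      secToField k t s := by
  haveI := functionField_isFractionRing_of_isAffineOpen (CohB1.ProjSpace 1 k) (stdOpen k 0)
    (isAffineOpen_stdOpen k 0)
  exact IsFractionRing.lift_algebraMap (secToField_injective k t ht) s

theorem secToField_cFrac (c : k) :
    secToField k t (sectionEquiv k 0 (cFrac 1 k 0 c)) = algebraMap k K c := by
  unfold secToField
  simp only [RingHom.comp_apply, RingEquiv.toRingHom_eq_coe, RingHom.coe_coe]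
  rw [sectionPoly_sectionEquiv, chartEquiv_cFrac]
  simp

theorem secToField_xFrac :
    secToField k t (sectionEquiv k 0 (xFrac 1 k 0 1)) = t := by
  unfold secToField
  simp only [RingHom.comp_apply, RingEquiv.toRingHom_eq_coe, RingHom.coe_coe]
  rw [sectionPoly_sectionEquiv]
  have : chartEquiv k 0 (xFrac 1 k 0 1) = Polynomial.X := by
    have := chartTo_xFrac k 0 1
    rw [show (1 : Fin 2) = 0 + 1 from rfl, ev_X_other] at this
    exact this
  rw [this]
  simp

attribute [local instance] Curv2.stalkAlgebra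

theorem funFieldHom_algebraMap (ht : Transcendental k t) (c : k) :
    funFieldHom k t ht (algebraMap k ((CohB1.ProjSpace 1 k).presheaf.stalk
      (genericPoint (CohB1.ProjSpace 1 k))) c) = algebraMap k K c := by
  have h1 : algebraMap k ((CohB1.ProjSpace 1 k).presheaf.stalk
      (genericPoint (CohB1.ProjSpace 1 k))) c =
      ((CohB1.ProjSpace 1 k).presheaf.germ (stdOpen k 0)
      (genericPoint (CohB1.ProjSpace 1 k)) (genericPoint_mem_stdOpen k 0)).hom
        (sectionEquiv k 0 (cFrac 1 k 0 c)) := by
    have h2 : sectionEquiv k 0 (cFrac 1 k 0 c) =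
        ((CohB1.ProjSpace 1 k).presheaf.map (homOfLE (le_top : stdOpen k 0 ≤ ⊤)).op).hom
          (Coh.toGlobal ((CohB1.ProjSpace 1 k) ↘ Spec (CommRingCat.of k)) c) :=
      awayToSection_cFrac 1 k 0 c
    rw [h2]
    exact (TopCat.Presheaf.germ_res_apply (CohB1.ProjSpace 1 k).presheaf
      (homOfLE (le_top : stdOpen k 0 ≤ ⊤)) (genericPoint (CohB1.ProjSpace 1 k))
      (genericPoint_mem_stdOpen k 0) _).symm
  rw [h1, funFieldHom_germ, secToField_cFrac]

theorem funFieldHom_X (ht : Transcendental k t) :
    funFieldHom k t ht (((CohB1.ProjSpace 1 k).presheaf.germ (stdOpen k 0)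
      (genericPoint (CohB1.ProjSpace 1 k)) (genericPoint_mem_stdOpen k 0)).hom
        (sectionEquiv k 0 (xFrac 1 k 0 1))) = t := by
  rw [funFieldHom_germ, secToField_xFrac]

end Groth.Agent.Lib.Helper21.P1
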