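import Groth.Agent.Lib.Helper21.NagFin5

set_option autoImplicit false
set_option linter.style.haveILetI false
set_option linter.unusedSectionVars false
universe u
open AlgebraicGeometry CategoryTheory Limits TopologicalSpace

namespace Groth.Agent.Lib.Helper21.NagFin

section Eval

/-- Evaluation of sections over an affine open at a point is essentially of finite type. -/
theorem essFiniteType_evaluation {S : Scheme.{u}} (U : S.Opens) (hU : IsAffineOpen U) (y : S)
    (hy : y ∈ U) : (S.evaluation U y hy).hom.EssFiniteType := by
  rw [← Scheme.germ_residue, CommRingCat.hom_comp]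
  refine RingHom.EssFiniteType.comp ?_ ?_
  · letI := S.presheaf.algebra_section_stalk ⟨y, hy⟩
    haveI := hU.isLocalization_stalk ⟨y, hy⟩
    have : Algebra.EssFiniteType Γ(S, U) (S.presheaf.stalk y) :=
      Algebra.EssFiniteType.of_isLocalization _ (hU.primeIdealOf ⟨y, hy⟩).asIdeal.primeCompl
    exact this
  · exact RingHom.FiniteType.essFiniteType
      (RingHom.FiniteType.of_surjective _ (S.residue_surjective y))

end Eval

section Gen

variable {X : Scheme.{u}}

/-- The generic points of irreducible components lying in a quasi-compact open form a finite set,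
when the irreducible components are locally finite. -/
theorem finite_genericPoints_of_locallyFinite
    (hfin : LocallyFinite (fun Z : ↥(irreducibleComponents ↥X) => (Z : Set ↥X)))
    (W : X.Opens) (hW : IsCompact (W : Set X)) :
    Finite {x : X // x ∈ W ∧ closure {x} ∈ irreducibleComponents ↥X} := by
  have h1 := hfin.finite_nonempty_inter_compact hW
  haveI : Finite {Z : ↥(irreducibleComponents ↥X) | ((Z : Set ↥X) ∩ (W : Set X)).Nonempty} :=
    h1.to_subtype
  let φ : {x : X // x ∈ W ∧ closure {x} ∈ irreducibleComponents ↥X} →
      {Z : ↥(irreducibleComponents ↥X) | ((Z : Set ↥X) ∩ (W : Set X)).Nonempty} :=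
    fun x => ⟨⟨closure {x.1}, x.2.2⟩, ⟨x.1, subset_closure rfl, x.2.1⟩⟩
  refine Finite.of_injective φ ?_
  intro x y hxy
  have h2 : closure {x.1} = closure {y.1} := congrArg (fun Z => (Z.1.1 : Set X)) hxy
  exact Subtype.ext ((inseparable_iff_closure_eq.mpr h2).eq)

/-- Every point is a specialization of the generic point of an irreducible component. -/
theorem exists_generic_specializes (y : X) :
    ∃ z : X, closure {z} ∈ irreducibleComponents ↥X ∧ z ⤳ y := by
  have hZ : irreducibleComponent y ∈ irreducibleComponents ↥X := irreducibleComponent_mem_irreducibleComponents y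
  obtain ⟨z, hz⟩ := QuasiSober.sober (isIrreducible_irreducibleComponent (x := y))
    isClosed_irreducibleComponent
  refine ⟨z, ?_, ?_⟩
  · rw [hz.def]
    exact hZ
  · rw [specializes_iff_mem_closure, hz.def]
    exact mem_irreducibleComponent

/-- On a reduced scheme, a section vanishing at all generic points of irreducible components is
zero. -/
theorem eq_zero_of_evaluation_generic [IsReduced X] (W : X.Opens) (b : Γ(X, W))
    (h : ∀ (x : X) (hx : x ∈ W), closure {x} ∈ irreducibleComponents ↥X →
      X.evaluation W x hx b = 0) : b = 0 := by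
  rw [← AlgebraicGeometry.basicOpen_eq_bot_iff]
  by_contra hne
  have hne' : (X.basicOpen b : Set X).Nonempty := by
    rw [Set.nonempty_iff_ne_empty]
    intro h0
    exact hne (Opens.ext h0)
  obtain ⟨y, hy⟩ := hne'
  obtain ⟨z, hz, hzy⟩ := exists_generic_specializes y
  have hzb : z ∈ X.basicOpen b := hzy.mem_open (X.basicOpen b).isOpen hy
  have hzW : z ∈ W := X.basicOpen_le b hzb
  have := h z hzW hz
  rw [Scheme.evaluation_eq_zero_iff_notMem_basicOpen] at this
  exact this hzb

end Gen

end Groth.Agent.Lib.Helper21.NagFin
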