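import Groth.Agent.Lib.Helper21.CurveExt
import Groth.Prelude.Def_Coh
import Mathlib.AlgebraicGeometry.FunctionField

/-!
# Morphisms from a "valuative" integral scheme to a proper scheme are determined by, and exist
for, any map on generic stalks (EGA II 7.4.9-style)
-/

set_option autoImplicit false
universe u
open AlgebraicGeometry CategoryTheory Limits TopologicalSpace

namespace Groth.Agent.Lib.Helper21.RatExt

variable {X Y S : Scheme.{u}}

/-- The structure map of the local scheme at `x` of a scheme over `Spec A`. -/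
theorem fromSpecStalk_comp_eq {A : Type u} [CommRing A] (p : X ⟶ Spec (CommRingCat.of A))
    (x : X) : X.fromSpecStalk x ≫ p = Spec.map (CommRingCat.ofHom
      ((X.presheaf.germ ⊤ x trivial).hom.comp (Coh.toGlobal p))) := by
  have h1 : p = X.toSpecΓ ≫ Spec.map ((Scheme.ΓSpecIso (CommRingCat.of A)).inv ≫ p.appTop) := by
    rw [Spec.map_comp, ← Category.assoc, ← Scheme.toSpecΓ_naturality, Category.assoc,
      toSpecΓ_SpecMap_ΓSpecIso_inv, Category.comp_id]
  conv_lhs => rw [h1]
  rw [← Category.assoc, Scheme.fromSpecStalk_toSpecΓ, ← Spec.map_comp]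
  rfl

theorem isDominant_fromSpecStalk_genericPoint [IsIntegral X] :
    IsDominant (X.fromSpecStalk (genericPoint X)) := by
  constructor
  have h1 : Dense ({genericPoint X} : Set X) := by
    rw [dense_iff_closure_eq]
    exact (genericPoint_spec X).def
  refine h1.mono ?_
  rintro _ rfl
  exact ⟨_, Scheme.fromSpecStalk_closedPoint⟩

/-- **Morphisms from generic data**: `X` integral locally Noetherian with all local rings
valuation rings, `Y` integral and proper over `S`. Any `S`-compatible map of function fields
`K(Y) ⟶ K(X)` is induced by a unique `S`-morphism `X ⟶ Y` preserving generic points. -/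
theorem existsUnique_morphism_of_generic [IsIntegral X] [IsLocallyNoetherian X] [IsIntegral Y]
    (hval : ∀ y : X, ∃ _ : IsDomain (X.presheaf.stalk y), ValuationRing (X.presheaf.stalk y))
    (sX : X ⟶ S) (sY : Y ⟶ S) [IsProper sY]
    (φ : Y.presheaf.stalk (genericPoint Y) ⟶ X.presheaf.stalk (genericPoint X))
    (hφ : Spec.map φ ≫ Y.fromSpecStalk (genericPoint Y) ≫ sY =
      X.fromSpecStalk (genericPoint X) ≫ sX) :
    ∃! u : X ⟶ Y, u ≫ sY = sX ∧ ∃ hu : u (genericPoint X) = genericPoint Y,
      Y.presheaf.stalkSpecializes (specializes_of_eq hu) ≫ u.stalkMap (genericPoint X) = φ := by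
  have hdom := isDominant_fromSpecStalk_genericPoint (X := X)
  -- generic behaviour of a morphism satisfying the conditions
  have hgen_of : ∀ u : X ⟶ Y, (∃ hu : u (genericPoint X) = genericPoint Y,
      Y.presheaf.stalkSpecializes (specializes_of_eq hu) ≫ u.stalkMap (genericPoint X) = φ) →
      X.fromSpecStalk (genericPoint X) ≫ u = Spec.map φ ≫ Y.fromSpecStalk (genericPoint Y) := by
    rintro u ⟨hu, hst⟩
    rw [← hst, Spec.map_comp, Category.assoc, Scheme.SpecMap_stalkSpecializes_fromSpecStalk,
      Scheme.SpecMap_stalkMap_fromSpecStalk]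
  have ht : (Spec.map φ ≫ Y.fromSpecStalk (genericPoint Y)) ≫ sY =
      X.fromSpecStalk (genericPoint X) ≫ sX := by
    rw [Category.assoc]
    exact hφ
  obtain ⟨U, hηU, f, hf, hfs⟩ := spread_out_of_isGermInjective' sX sY
    (Spec.map φ ≫ Y.fromSpecStalk (genericPoint Y)) ht
  have hUd : Dense (U : Set X) := U.isOpen.dense ⟨genericPoint X, hηU⟩
  obtain ⟨u, huU, hus⟩ := exists_extension_of_forall_valuationRing hval sX sY U hUd f hfs
  have hgen : X.fromSpecStalk (genericPoint X) ≫ u =
      Spec.map φ ≫ Y.fromSpecStalk (genericPoint Y) := by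
    rw [hf, ← huU, ← Category.assoc, Scheme.Opens.fromSpecStalkOfMem_ι]
  have hu : u (genericPoint X) = genericPoint Y := by
    have h1 : u (genericPoint X) = (X.fromSpecStalk (genericPoint X) ≫ u)
        (IsLocalRing.closedPoint _) := by
      rw [Scheme.Hom.comp_apply, Scheme.fromSpecStalk_closedPoint]
    rw [h1, hgen, Scheme.Hom.comp_apply]
    have h2 : Spec.map φ (IsLocalRing.closedPoint (X.presheaf.stalk (genericPoint X))) =
        IsLocalRing.closedPoint (Y.presheaf.stalk (genericPoint Y)) := by
      have : Subsingleton (PrimeSpectrum (Y.functionField)) := inferInstance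
      exact Subsingleton.elim (α := PrimeSpectrum (Y.functionField)) _ _
    rw [h2, Scheme.fromSpecStalk_closedPoint]
  have hst : Y.presheaf.stalkSpecializes (specializes_of_eq hu) ≫
      u.stalkMap (genericPoint X) = φ := by
    apply Spec.map_injective
    rw [← cancel_mono (Y.fromSpecStalk (genericPoint Y)), Spec.map_comp, Category.assoc,
      Scheme.SpecMap_stalkSpecializes_fromSpecStalk, Scheme.SpecMap_stalkMap_fromSpecStalk, hgen]
  refine ⟨u, ⟨hus, hu, hst⟩, ?_⟩
  rintro u' ⟨hu's, hu'⟩
  refine ext_of_isDominant_of_isSeparated sY (hu's.trans hus.symm)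
    (X.fromSpecStalk (genericPoint X)) ?_
  rw [hgen_of u' hu', hgen]

end Groth.Agent.Lib.Helper21.RatExt
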