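import Groth.Agent.Lib.Helper21.CurveCompl1
import Groth.Agent.Lib.Helper21.ChartPt2
import Groth.Agent.Lib.Helper21.CurveExt
import Groth.Agent.S2345
import Groth.Agent.S4445
import Groth.Agent.S4442
import Groth.Agent.S7658
import Groth.Agent.S7659

/-!
# Completion of normal curves, part 2: the integral case
-/

set_option autoImplicit false
set_option linter.style.haveILetI false
universe u
open AlgebraicGeometry CategoryTheory Limits TopologicalSpace

namespace Groth.Agent.Lib.Helper21.CurveCompl

open Groth.Agent.Lib.Helper21.ChartPt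

section

variable (k : Type u) [Field k] (X : Scheme.{u}) [X.Over (Spec (CommRingCat.of k))]
  [LocallyOfFiniteType (X ↘ Spec (CommRingCat.of k))]

/-- Residue fields of a scheme locally of finite type over `k` are essentially of finite type
over `k`. -/
theorem essFiniteType_residueField (y : X) :
    @Algebra.EssFiniteType k (X.residueField y) _ _ (Curv2.resAlgebra k X y) := by
  obtain ⟨_, ⟨U, hU : IsAffineOpen U, rfl⟩, hy, -⟩ :=
    X.isBasis_affineOpens.exists_subset_of_mem_open (a := y) (by trivial) isOpen_univ
  letI := Curv2.resAlgebra k X y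
  letI : Algebra k (Γ(X, U) ⧸ (hU.primeIdealOf ⟨y, hy⟩).asIdeal) := (kQ k X hU y hy).toAlgebra
  letI : Algebra (Γ(X, U) ⧸ (hU.primeIdealOf ⟨y, hy⟩).asIdeal) (X.residueField y) :=
    (evQ hU y hy).toAlgebra
  haveI := isFractionRing_evQ hU y hy
  haveI : IsScalarTower k (Γ(X, U) ⧸ (hU.primeIdealOf ⟨y, hy⟩).asIdeal) (X.residueField y) :=
    IsScalarTower.of_algebraMap_eq fun c =>
      (congrArg (fun φ : k →+* X.residueField y => φ c) (evQ_comp_kQ k X hU y hy)).symm
  haveI : Algebra.FiniteType k (Γ(X, U) ⧸ (hU.primeIdealOf ⟨y, hy⟩).asIdeal) :=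
    kQ_finiteType k X hU y hy
  haveI : Algebra.EssFiniteType (Γ(X, U) ⧸ (hU.primeIdealOf ⟨y, hy⟩).asIdeal)
      (X.residueField y) :=
    Algebra.EssFiniteType.of_isLocalization _
      (nonZeroDivisors (Γ(X, U) ⧸ (hU.primeIdealOf ⟨y, hy⟩).asIdeal))
  exact Algebra.EssFiniteType.comp k (Γ(X, U) ⧸ (hU.primeIdealOf ⟨y, hy⟩).asIdeal)
    (X.residueField y)

/-- The function field of an integral `k`-scheme is, as a `k`-algebra, the residue field at the
generic point. -/
noncomputable def functionFieldEquiv [IsIntegral X] :
    letI := Curv2.stalkAlgebra k X (genericPoint X)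
    letI := Curv2.resAlgebra k X (genericPoint X)
    X.functionField ≃ₐ[k] X.residueField (genericPoint X) :=
  letI := Curv2.stalkAlgebra k X (genericPoint X)
  letI := Curv2.resAlgebra k X (genericPoint X)
  AlgEquiv.ofBijective
    ({ toRingHom := (X.residue (genericPoint X)).hom
       commutes' := fun _ => rfl } : X.functionField →ₐ[k] X.residueField (genericPoint X))
    ⟨(X.residue (genericPoint X)).hom.injective, Scheme.residue_surjective X (genericPoint X)⟩

theorem fg_top_functionField [IsIntegral X] :
    letI := Curv2.stalkAlgebra k X (genericPoint X)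
    (⊤ : IntermediateField k X.functionField).FG := by
  letI := Curv2.stalkAlgebra k X (genericPoint X)
  letI := Curv2.resAlgebra k X (genericPoint X)
  haveI := essFiniteType_residueField k X (genericPoint X)
  haveI : Algebra.EssFiniteType k X.functionField :=
    (Algebra.EssFiniteType.iff_of_algEquiv (functionFieldEquiv k X)).mpr inferInstance
  exact IntermediateField.fg_top k X.functionField

end

attribute [local instance] Curv2.stalkAlgebra in
/-- **The integral case**: an integral normal curve over `k` is an open subscheme of an integral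
normal curve proper over `k`. -/
theorem exists_completion_of_integral (k : Type u) [Field k] (X : Scheme.{u}) [IsIntegral X]
    (sX : X ⟶ Spec (CommRingCat.of k)) [LocallyOfFiniteType sX] [QuasiCompact sX] [IsSeparated sX]
    (hcurve : ∀ x : X, IsClosed ({x} : Set X) → ringKrullDim (X.presheaf.stalk x) = 1)
    (hnorm : Pi1.IsNormalScheme X) :
    ∃ (C : Scheme.{u}) (sc : C ⟶ Spec (CommRingCat.of k)) (j : X ⟶ C), IsIntegral C ∧
      IsOpenImmersion j ∧ j ≫ sc = sX ∧ IsProper sc ∧ Pi1.IsNormalScheme C ∧
      ∀ x : C, IsClosed ({x} : Set C) → ringKrullDim (C.presheaf.stalk x) = 1 := by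
  letI ovX : X.Over (Spec (CommRingCat.of k)) := ⟨sX⟩
  haveI : LocallyOfFiniteType (X ↘ Spec (CommRingCat.of k)) := ‹LocallyOfFiniteType sX›
  haveI : QuasiCompact (X ↘ Spec (CommRingCat.of k)) := ‹QuasiCompact sX›
  haveI : IsSeparated (X ↘ Spec (CommRingCat.of k)) := ‹IsSeparated sX›
  -- the function field
  have hfg := fg_top_functionField k X
  have htr : Algebra.trdeg k X.functionField = 1 := by
    have h1 := (Groth.Agent.S4442.result k X).mpr hcurve (genericPoint X) (by
      rw [(genericPoint_spec X).def]
      exact irreducibleComponents_eq_singleton (X := X) ▸ Set.mem_singleton _)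
    rw [← h1]
    letI := Curv2.resAlgebra k X (genericPoint X)
    exact (functionFieldEquiv k X).trdeg_eq
  obtain ⟨C, ovC, intC, hprop, hnormC, hcurveC, e, he⟩ :=
    Groth.Agent.S2345.result k X.functionField hfg htr
  let φ : C.functionField →ₐ[k] X.functionField :=
    { toRingHom := e.toRingHom
      commutes' := he }
  obtain ⟨u, ⟨hu1, hu2, hu3⟩, -⟩ := Groth.Agent.S4445.result k X C hcurve hnorm hcurveC φ
  refine ⟨C, C ↘ Spec (CommRingCat.of k), u, intC, ?_, hu1, hprop, hnormC, hcurveC⟩
  -- `u` is an open immersion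
  haveI : IsLocallyNoetherian C :=
    LocallyOfFiniteType.isLocallyNoetherian (C ↘ (Spec (CommRingCat.of k)))
  haveI : CompactSpace C :=
    QuasiCompact.compactSpace_of_compactSpace (C ↘ (Spec (CommRingCat.of k)))
  have hvalC := Groth.Agent.Lib.Helper21.RatExt.forall_valuationRing_of_normal_of_dim_one
    hcurveC hnormC
  have hsurj : Function.Surjective (C.presheaf.stalkSpecializes (specializes_of_eq hu2) ≫
      u.stalkMap (genericPoint X)).hom := by
    rw [hu3]
    exact e.surjective
  haveI : IsSeparated (u ≫ (C ↘ Spec (CommRingCat.of k))) := by rw [hu1]; infer_instance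
  haveI : IsSeparated u := IsSeparated.of_comp u (C ↘ Spec (CommRingCat.of k))
  haveI : LocallyOfFiniteType (u ≫ (C ↘ Spec (CommRingCat.of k))) := by
    rw [hu1]; infer_instance
  haveI : LocallyOfFiniteType u := locallyOfFiniteType_of_comp u (C ↘ Spec (CommRingCat.of k))
  haveI : IsNoetherian C := {}
  refine Groth.Agent.S7658.result u ?_ ?_
  · intro x
    refine Groth.Agent.S7659.result u
      TopologicalSpace.NoetherianSpace.finite_irreducibleComponents x ?_
    rw [ConcreteCategory.isIso_iff_bijective]
    exact stalkMap_bijective u hu2 hsurj (fun c => (hvalC c).2) x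
  · intro ξ ξ' hξ hξ' _
    rw [irreducibleComponents_eq_singleton, Set.mem_singleton_iff] at hξ hξ'
    have h1 : IsGenericPoint ξ (⊤ : Set X) := hξ
    have h2 : IsGenericPoint ξ' (⊤ : Set X) := hξ'
    exact h1.eq h2

end Groth.Agent.Lib.Helper21.CurveCompl
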