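import Groth.Agent.Lib.Helper21.CurveCompl3
import Groth.Agent.Lib.Helper6.PUO11
import Groth.Agent.Lib.Helper6.NormIsoB
import Groth.Prelude.Def_Pi1

/-!
# Completion of normal curves, part 4: stalks along open immersions; a Noetherian normal scheme is
the disjoint union of its irreducible components
-/

set_option autoImplicit false
set_option linter.style.haveILetI false
universe u
open AlgebraicGeometry CategoryTheory Limits TopologicalSpace

namespace Groth.Agent.Lib.Helper21.CurveCompl

section Stalk

variable {U X : Scheme.{u}} (j : U ⟶ X) [IsOpenImmersion j]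

/-- The stalk of the target of an open immersion is the stalk of the source. -/
noncomputable def stalkEquiv (y : U) : X.presheaf.stalk (j y) ≃+* U.presheaf.stalk y :=
  (asIso (j.stalkMap y)).commRingCatIsoToRingEquiv

theorem normal_stalk_iff (y : U) :
    (IsDomain (X.presheaf.stalk (j y)) ∧ IsIntegrallyClosed (X.presheaf.stalk (j y))) ↔
      (IsDomain (U.presheaf.stalk y) ∧ IsIntegrallyClosed (U.presheaf.stalk y)) := by
  constructor
  · rintro ⟨h1, h2⟩
    exact ⟨(stalkEquiv j y).symm.toMulEquiv.isDomain, IsIntegrallyClosed.of_equiv (stalkEquiv j y)⟩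
  · rintro ⟨h1, h2⟩
    exact ⟨(stalkEquiv j y).toMulEquiv.isDomain, IsIntegrallyClosed.of_equiv (stalkEquiv j y).symm⟩

theorem ringKrullDim_stalk_eq (y : U) :
    ringKrullDim (X.presheaf.stalk (j y)) = ringKrullDim (U.presheaf.stalk y) :=
  ringKrullDim_eq_of_ringEquiv (stalkEquiv j y)

theorem isClosed_singleton_of_isClosed_singleton_apply (y : U) (h : IsClosed ({j y} : Set X)) :
    IsClosed ({y} : Set U) := by
  have : ({y} : Set U) = j ⁻¹' {j y} := by
    ext z
    simp only [Set.mem_singleton_iff, Set.mem_preimage]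
    exact ⟨fun h => by rw [h], fun h => j.isOpenEmbedding.injective h⟩
  rw [this]
  exact h.preimage j.continuous

theorem isClosed_singleton_apply_of_isClosed_range (hr : IsClosed (Set.range j)) (y : U)
    (h : IsClosed ({y} : Set U)) : IsClosed ({j y} : Set X) := by
  have hce : Topology.IsClosedEmbedding j := ⟨j.isOpenEmbedding.isEmbedding, hr⟩
  have := hce.isClosedMap _ h
  rwa [Set.image_singleton] at this

end Stalk

section Decomp

variable (X : Scheme.{u}) [IsLocallyNoetherian X] [CompactSpace X]

omit [IsLocallyNoetherian X] [CompactSpace X] in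
theorem eq_of_mem_irreducibleComponents_of_normal (hnorm : Pi1.IsNormalScheme X) (t : X)
    (Y₁ Y₂ : Set X) (h₁ : Y₁ ∈ irreducibleComponents X) (h₂ : Y₂ ∈ irreducibleComponents X)
    (ht₁ : t ∈ Y₁) (ht₂ : t ∈ Y₂) : Y₁ = Y₂ := by
  refine Groth.Agent.Lib.Helper6.PUO.eq_of_mem_irreducibleComponents' t ?_ Y₁ Y₂ h₁ h₂ ht₁ ht₂
  haveI := (hnorm t).1
  rw [nilradical_eq_zero]
  exact Ideal.isPrime_bot

theorem isOpen_of_mem_irreducibleComponents (hnorm : Pi1.IsNormalScheme X) (Z : Set X)
    (hZ : Z ∈ irreducibleComponents X) : IsOpen Z := by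
  haveI : IsNoetherian X := {}
  exact Groth.Agent.Lib.Helper6.PUO.isOpen_of_mem_irreducibleComponents
    NoetherianSpace.finite_irreducibleComponents
    (fun t Y₁ h₁ Y₂ h₂ ht₁ ht₂ =>
      eq_of_mem_irreducibleComponents_of_normal X hnorm t Y₁ Y₂ h₁ h₂ ht₁ ht₂) Z hZ

/-- The irreducible components of a Noetherian normal scheme, as open subschemes. -/
def comp (hnorm : Pi1.IsNormalScheme X) (Z : irreducibleComponents X) : X.Opens :=
  ⟨Z.1, isOpen_of_mem_irreducibleComponents X hnorm Z.1 Z.2⟩

theorem iSup_comp (hnorm : Pi1.IsNormalScheme X) : ⨆ Z, (comp X hnorm Z).ι.opensRange = ⊤ := by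
  rw [eq_top_iff]
  intro x _
  simp only [Opens.iSup_mk, Opens.mem_mk, Set.mem_iUnion]
  refine ⟨⟨irreducibleComponent x, irreducibleComponent_mem_irreducibleComponents x⟩, ?_⟩
  rw [Scheme.Opens.opensRange_ι]
  exact mem_irreducibleComponent

theorem disjoint_comp (hnorm : Pi1.IsNormalScheme X) :
    Pairwise (Function.onFun Disjoint fun Z => (comp X hnorm Z).ι.opensRange) := by
  intro Z Z' hne
  rw [Function.onFun, Scheme.Opens.opensRange_ι, Scheme.Opens.opensRange_ι, disjoint_iff,
    Opens.ext_iff]
  ext x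
  simp only [Opens.coe_inf, Set.mem_inter_iff, SetLike.mem_coe, Opens.coe_bot, Set.mem_empty_iff_false,
    iff_false, not_and]
  intro h1 h2
  exact hne (Subtype.ext
    (eq_of_mem_irreducibleComponents_of_normal X hnorm x Z.1 Z'.1 Z.2 Z'.2 h1 h2))

instance finite_irreducibleComponents : Finite (irreducibleComponents X) := by
  haveI : IsNoetherian X := {}
  exact (NoetherianSpace.finite_irreducibleComponents (α := X)).to_subtype

theorem isIntegral_comp (hnorm : Pi1.IsNormalScheme X) (Z : irreducibleComponents X) :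
    IsIntegral (comp X hnorm Z).toScheme := by
  haveI : IrreducibleSpace (comp X hnorm Z).toScheme :=
    (isIrreducible_iff_irreducibleSpace (s := ((comp X hnorm Z : X.Opens) : Set X))).mp Z.2.1
  refine Groth.Agent.Lib.Helper6.NormIso.isIntegral_of_normal_irreducible _ ?_
  intro y
  exact (normal_stalk_iff (comp X hnorm Z).ι y).mp (hnorm _)

theorem isClosed_range_comp (hnorm : Pi1.IsNormalScheme X) (Z : irreducibleComponents X) :
    IsClosed (Set.range (comp X hnorm Z).ι) := by
  rw [Scheme.Opens.range_ι]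
  exact isClosed_of_mem_irreducibleComponents Z.1 Z.2

end Decomp

end Groth.Agent.Lib.Helper21.CurveCompl
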