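import Groth.Agent.Lib.Helper21.CurveCompl2
import Groth.Agent.Lib.Helper21.CurveCompl4

/-!
# Completion of normal curves, part 5: the general (possibly reducible) case
-/

set_option autoImplicit false
set_option linter.style.haveILetI false
universe u
open AlgebraicGeometry CategoryTheory Limits TopologicalSpace

namespace Groth.Agent.Lib.Helper21.CurveCompl

/-- **EGA II 7.4.11 (existence)**: a normal curve over a field is a dense open subscheme of a normal
curve proper over the field. -/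
theorem exists_completion (k : Type u) [Field k] (X : Scheme.{u})
    (sX : X ⟶ Spec (CommRingCat.of k)) [LocallyOfFiniteType sX] [QuasiCompact sX] [IsSeparated sX]
    (hcurve : ∀ x : X, IsClosed ({x} : Set X) → ringKrullDim (X.presheaf.stalk x) = 1)
    (hnorm : Pi1.IsNormalScheme X) :
    ∃ (Xc : Scheme.{u}) (sc : Xc ⟶ Spec (CommRingCat.of k)) (j : X ⟶ Xc), IsOpenImmersion j ∧
      Dense (Set.range j.base) ∧ j ≫ sc = sX ∧ IsProper sc ∧ Pi1.IsNormalScheme Xc ∧
      ∀ x : Xc, IsClosed ({x} : Set Xc) → ringKrullDim (Xc.presheaf.stalk x) = 1 := by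
  haveI hXN : IsLocallyNoetherian X := LocallyOfFiniteType.isLocallyNoetherian sX
  haveI hcpt : CompactSpace X := QuasiCompact.compactSpace_of_compactSpace sX
  haveI : IsNoetherian X := {}
  let U := comp X hnorm
  -- the completion of every component
  have hA : ∀ Z : irreducibleComponents X, ∃ (C : Scheme.{u}) (sc : C ⟶ Spec (CommRingCat.of k))
      (j : (U Z).toScheme ⟶ C), IsIntegral C ∧ IsOpenImmersion j ∧ j ≫ sc = (U Z).ι ≫ sX ∧
      IsProper sc ∧ Pi1.IsNormalScheme C ∧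
      ∀ x : C, IsClosed ({x} : Set C) → ringKrullDim (C.presheaf.stalk x) = 1 := by
    intro Z
    haveI := isIntegral_comp X hnorm Z
    haveI : QuasiCompact ((U Z).ι ≫ sX) := inferInstance
    refine exists_completion_of_integral k (U Z).toScheme ((U Z).ι ≫ sX) ?_ ?_
    · intro y hy
      rw [← ringKrullDim_stalk_eq (U Z).ι y]
      exact hcurve _ (isClosed_singleton_apply_of_isClosed_range (U Z).ι
        (isClosed_range_comp X hnorm Z) y hy)
    · intro y
      exact (normal_stalk_iff (U Z).ι y).mp (hnorm _)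
  choose C sc j hint hjo hjs hprop hnormC hcurveC using hA
  haveI := hjo
  haveI := hprop
  haveI := hint
  obtain ⟨hc⟩ := nonempty_isColimit_cofanMk_of (fun Z => (U Z).ι) (iSup_comp X hnorm)
    (disjoint_comp X hnorm)
  let J : X ⟶ (∐ C : Scheme.{u}) := Cofan.IsColimit.desc hc (fun Z => j Z ≫ Sigma.ι C Z)
  have hJ : ∀ Z, (U Z).ι ≫ J = j Z ≫ Sigma.ι C Z := fun Z =>
    Cofan.IsColimit.fac hc (fun Z => j Z ≫ Sigma.ι C Z) Z
  refine ⟨∐ C, Sigma.desc sc, J, ?_, ?_, ?_, ?_, ?_, ?_⟩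
  · -- open immersion
    let e : (∐ fun Z => (U Z).toScheme) ≅ X := colimit.isoColimitCocone ⟨_, hc⟩
    have he : ∀ Z, Sigma.ι (fun Z => (U Z).toScheme) Z ≫ e.hom = (U Z).ι := fun Z =>
      colimit.isoColimitCocone_ι_hom ⟨_, hc⟩ ⟨Z⟩
    have h1 : e.hom ≫ J = Sigma.desc (fun Z => j Z ≫ Sigma.ι C Z) := by
      refine Sigma.hom_ext _ _ fun Z => ?_
      rw [← Category.assoc, he, hJ, Sigma.ι_desc]
    haveI : IsOpenImmersion (Sigma.desc (fun Z => j Z ≫ Sigma.ι C Z)) := by
      refine isOpenImmersion_sigmaDesc _ _ ?_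
      intro Z Z' hne
      rw [Function.onFun, Set.disjoint_iff]
      rintro _ ⟨⟨a, rfl⟩, ⟨b, hb⟩⟩
      have hd := disjoint_opensRange_sigmaι C Z Z' hne
      rw [disjoint_iff, Opens.ext_iff] at hd
      have h2 : (j Z ≫ Sigma.ι C Z) a ∈
          ((Sigma.ι C Z).opensRange ⊓ (Sigma.ι C Z').opensRange : Opens _) := by
        refine ⟨⟨j Z a, by rw [Scheme.Hom.comp_apply]⟩, ⟨j Z' b, ?_⟩⟩
        rw [← hb, Scheme.Hom.comp_apply]
      rw [← SetLike.mem_coe, hd] at h2
      exact h2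
    have h2 : J = e.inv ≫ Sigma.desc (fun Z => j Z ≫ Sigma.ι C Z) := by
      rw [← h1, Iso.inv_hom_id_assoc]
    rw [h2]
    infer_instance
  · -- dense
    rw [dense_iff_closure_eq, Set.eq_univ_iff_forall]
    intro c
    obtain ⟨Z, y, rfl⟩ := exists_sigmaι_eq C c
    haveI : Nonempty (U Z).toScheme := by
      obtain ⟨z, hz⟩ := Z.2.1.1
      exact ⟨⟨z, hz⟩⟩
    have hd : Dense (Set.range (j Z)) :=
      (j Z).isOpenEmbedding.isOpen_range.dense (Set.range_nonempty _)
    have h1 : Sigma.ι C Z y ∈ closure (Sigma.ι C Z '' Set.range (j Z)) :=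
      image_closure_subset_closure_image (Sigma.ι C Z).continuous ⟨y, hd y, rfl⟩
    refine closure_mono ?_ h1
    rintro _ ⟨_, ⟨a, rfl⟩, rfl⟩
    refine ⟨(U Z).ι a, ?_⟩
    rw [← Scheme.Hom.comp_apply, hJ, Scheme.Hom.comp_apply]
  · refine Cofan.IsColimit.hom_ext hc _ _ fun Z => ?_
    change (U Z).ι ≫ J ≫ Sigma.desc sc = (U Z).ι ≫ sX
    rw [← Category.assoc, hJ, Category.assoc, Sigma.ι_desc, hjs]
  · exact isProper_sigmaDesc C sc
  · intro c
    obtain ⟨Z, y, rfl⟩ := exists_sigmaι_eq C c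
    exact (normal_stalk_iff (Sigma.ι C Z) y).mpr (hnormC Z y)
  · intro c hc'
    obtain ⟨Z, y, rfl⟩ := exists_sigmaι_eq C c
    rw [ringKrullDim_stalk_eq (Sigma.ι C Z) y]
    exact hcurveC Z y (isClosed_singleton_of_isClosed_singleton_apply (Sigma.ι C Z) y hc')

end Groth.Agent.Lib.Helper21.CurveCompl
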