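import Groth.Agent.Lib.Helper21.CurveExt

set_option autoImplicit false
set_option linter.style.haveILetI false
universe u
open AlgebraicGeometry CategoryTheory Limits TopologicalSpace

namespace Groth.Agent.Lib.Helper21.RatExt

variable {X Y S : Scheme.{u}}

/-- A rational `S`-map from `X` to a proper `S`-scheme, defined on a dense open `U`, extends to `X`
if the local rings at the points outside `U` are valuation rings. -/
theorem exists_extension_of_valuationRing_off [IsLocallyNoetherian X] [IsReduced X]
    (sX : X ⟶ S) (sY : Y ⟶ S) [IsProper sY] (U : X.Opens) (hU : Dense (U : Set X))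
    (hval : ∀ y : X, y ∉ U → ∃ _ : IsDomain (X.presheaf.stalk y), ValuationRing (X.presheaf.stalk y))
    (g : (U : Scheme.{u}) ⟶ Y) (hg : g ≫ sY = U.ι ≫ sX) :
    ∃ g' : X ⟶ Y, U.ι ≫ g' = g ∧ g' ≫ sY = sX := by
  have hsec : pullback.lift g U.ι hg ≫ pullback.snd sY sX = U.ι := pullback.lift_snd _ _ _
  have hcl : IsClosedMap (pullback.snd sY sX) := Scheme.Hom.isClosedMap _
  obtain ⟨U', hUU', s', hs', hs'U, hall⟩ :=
    exists_extension_of_forall_local (pullback.snd sY sX) U hU
      (pullback.lift g U.ι hg) hsec (fun _ => True) (fun y _ => by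
        by_cases hyU : y ∈ U
        · exact ⟨U, pullback.lift g U.ι hg, hyU, hsec, rfl⟩
        · obtain ⟨hd, hv⟩ := hval y hyU
          exact exists_local_extension (pullback.snd sY sX) hcl U hU
            (pullback.lift g U.ι hg) hsec y)
  have htop : U' = ⊤ := eq_top_iff.mpr (fun y _ => hall y trivial)
  have h1 : U.ι ≫ X.topIso.inv = X.homOfLE (le_top : U ≤ ⊤) := by
    rw [← cancel_mono X.topIso.hom, Category.assoc, Iso.inv_hom_id, Category.comp_id]
    exact (Scheme.homOfLE_ι X le_top).symm
  have hid : X.topIso.inv ≫ X.homOfLE (le_of_eq htop.symm) ≫ U'.ι = 𝟙 X := by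
    rw [Scheme.homOfLE_ι]
    exact X.topIso.inv_hom_id
  refine ⟨X.topIso.inv ≫ X.homOfLE (le_of_eq htop.symm) ≫ s' ≫ pullback.fst _ _, ?_, ?_⟩
  · rw [← Category.assoc, h1, ← Category.assoc, Scheme.homOfLE_homOfLE, ← Category.assoc, hs'U,
      pullback.lift_fst]
  · rw [Category.assoc, Category.assoc, Category.assoc, pullback.condition, ← Category.assoc s',
      hs', ← Category.assoc (X.homOfLE _), ← Category.assoc, hid, Category.id_comp]

end Groth.Agent.Lib.Helper21.RatExt
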