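import Groth.Agent.Lib.Helper21.CoheightOne
import Mathlib.Topology.NoetherianSpace
import Mathlib.Topology.JacobsonSpace

set_option autoImplicit false
set_option linter.unusedSectionVars false

namespace Groth.Agent.Lib.Helper21.CurveFib

open Set Order TopologicalSpace

section Top

attribute [local instance] specializationPreorder

variable {X : Type*} [TopologicalSpace X] [QuasiSober X] [T0Space X] [CompactSpace X]
  [IrreducibleSpace X]

/-- In an irreducible "curve-like" space every proper irreducible closed subset is a closed
point. -/
theorem eq_singleton_of_isIrreducible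
    (h1 : ∀ x : X, IsClosed ({x} : Set X) → coheight x = 1)
    (F : Set X) (hFc : IsClosed F) (hFi : IsIrreducible F) (hne : F ≠ univ) :
    ∃ x : X, IsClosed ({x} : Set X) ∧ F = {x} := by
  have h := (forall_closed_coheight_eq_one_iff (X := X)).mp h1
  refine h.1 F hFc hFi ?_
  rw [irreducibleComponents_eq_singleton]
  exact hne

theorem isClosed_singleton_or_eq_genericPoint
    (h1 : ∀ x : X, IsClosed ({x} : Set X) → coheight x = 1) (x : X) :
    IsClosed ({x} : Set X) ∨ x = genericPoint X := by
  by_cases hx : closure ({x} : Set X) = univ
  · right
    have h2 : IsGenericPoint x univ := hx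
    exact h2.eq (genericPoint_spec X)
  · left
    obtain ⟨z, hzc, hz⟩ := eq_singleton_of_isIrreducible h1 (closure {x}) isClosed_closure
      isIrreducible_singleton.closure hx
    have : x ∈ ({z} : Set X) := hz ▸ subset_closure rfl
    rw [mem_singleton_iff] at this
    rw [this]
    exact hzc

theorem not_isClosed_singleton_genericPoint
    (h1 : ∀ x : X, IsClosed ({x} : Set X) → coheight x = 1) :
    ¬ IsClosed ({genericPoint X} : Set X) := by
  intro hc
  have h := (forall_closed_coheight_eq_one_iff (X := X)).mp h1
  apply h.2 (genericPoint X) hc
  rw [irreducibleComponents_eq_singleton, mem_singleton_iff, ← hc.closure_eq]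
  exact (genericPoint_spec X).def

theorem finite_of_isClosed_of_ne_univ [NoetherianSpace X]
    (h1 : ∀ x : X, IsClosed ({x} : Set X) → coheight x = 1)
    (Z : Set X) (hZ : IsClosed Z) (hne : Z ≠ univ) : Z.Finite := by
  obtain ⟨S, hSfin, hSc, hSi, rfl⟩ := NoetherianSpace.exists_finite_set_isClosed_irreducible hZ
  refine Set.Finite.sUnion hSfin fun t ht => ?_
  have htne : t ≠ univ := by
    rintro rfl
    apply hne
    exact eq_univ_of_univ_subset (subset_sUnion_of_mem ht)
  obtain ⟨x, -, rfl⟩ := eq_singleton_of_isIrreducible h1 t (hSc t ht) (hSi t ht) htne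
  exact finite_singleton x

/-- A finite Jacobson space has only closed points. -/
theorem isClosed_singleton_of_finite {T : Type*} [TopologicalSpace T] [JacobsonSpace T]
    [Finite T] (x : T) : IsClosed ({x} : Set T) := by
  have h1 : IsClosed (closedPoints T) := by
    have : closedPoints T = ⋃ y ∈ closedPoints T, {y} := by
      ext z; simp
    rw [this]
    exact Set.Finite.isClosed_biUnion (Set.toFinite _) (fun y hy => hy)
  have h2 : closure (closedPoints T) = univ := by
    have := JacobsonSpace.closure_inter_closedPoints_eq_closure (X := T) isClosed_univ.isLocallyClosed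
    simpa using this
  rw [h1.closure_eq] at h2
  have : x ∈ closedPoints T := h2 ▸ mem_univ x
  exact this

end Top

end Groth.Agent.Lib.Helper21.CurveFib
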