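import Groth.Agent.Lib.Helper21.CurveFib1
import Mathlib.AlgebraicGeometry.Noetherian
import Mathlib.AlgebraicGeometry.Morphisms.FiniteType
import Mathlib.AlgebraicGeometry.Morphisms.Finite
import Mathlib.AlgebraicGeometry.Properties

set_option autoImplicit false
set_option linter.style.haveILetI false
set_option linter.unusedSectionVars false
universe u
open AlgebraicGeometry CategoryTheory Limits TopologicalSpace Set Order

namespace Groth.Agent.Lib.Helper21.CurveFib

section Sch

variable (k : Type u) [Field k] {X Y : Scheme.{u}} (sX : X ⟶ Spec (CommRingCat.of k))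
  (sY : Y ⟶ Spec (CommRingCat.of k))
  [LocallyOfFiniteType sX] [QuasiCompact sX] [LocallyOfFiniteType sY] [QuasiCompact sY]
  [IrreducibleSpace X] [IrreducibleSpace Y]

theorem coheight_eq_one_of_ringKrullDim {Z : Scheme.{u}} (z : Z)
    (h : ringKrullDim (Z.presheaf.stalk z) = 1) : coheight z = 1 := by
  rw [ringKrullDim_stalk_eq_coheight] at h
  exact_mod_cast h

theorem isDominant_iff_finite_fibres
    (hX : ∀ x : X, IsClosed ({x} : Set X) → ringKrullDim (X.presheaf.stalk x) = 1)
    (hY : ∀ x : Y, IsClosed ({x} : Set Y) → ringKrullDim (Y.presheaf.stalk x) = 1)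
    (f : X ⟶ Y) (hf : f ≫ sY = sX) :
    IsDominant f ↔ ∀ y : Y, (f ⁻¹' {y}).Finite := by
  haveI : CompactSpace X := QuasiCompact.compactSpace_of_compactSpace sX
  haveI : CompactSpace Y := QuasiCompact.compactSpace_of_compactSpace sY
  haveI : IsNoetherian X :=
    { __ := LocallyOfFiniteType.isLocallyNoetherian sX
      __ := QuasiCompact.compactSpace_of_compactSpace sX }
  haveI : IsNoetherian Y :=
    { __ := LocallyOfFiniteType.isLocallyNoetherian sY
      __ := QuasiCompact.compactSpace_of_compactSpace sY }
  haveI : JacobsonSpace X := LocallyOfFiniteType.jacobsonSpace sX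
  haveI : JacobsonSpace Y := LocallyOfFiniteType.jacobsonSpace sY
  haveI : LocallyOfFiniteType (f ≫ sY) := by rw [hf]; infer_instance
  haveI : LocallyOfFiniteType f := locallyOfFiniteType_of_comp f sY
  have hX' : ∀ x : X, IsClosed ({x} : Set X) → coheight x = 1 :=
    fun x hx => coheight_eq_one_of_ringKrullDim x (hX x hx)
  have hY' : ∀ x : Y, IsClosed ({x} : Set Y) → coheight x = 1 :=
    fun x hx => coheight_eq_one_of_ringKrullDim x (hY x hx)
  have hrange : Set.range f ⊆ closure {f (genericPoint X)} := by
    rintro _ ⟨x, rfl⟩
    have h1 : x ∈ closure ({genericPoint X} : Set X) := by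
      rw [(genericPoint_spec X).def]; trivial
    have := image_closure_subset_closure_image f.continuous (s := {genericPoint X})
      (mem_image_of_mem f h1)
    rwa [image_singleton] at this
  constructor
  · intro hdom
    have hη : f (genericPoint X) = genericPoint Y := by
      have h2 : IsGenericPoint (f (genericPoint X)) univ := by
        change closure _ = univ
        apply eq_univ_of_univ_subset
        rw [← hdom.denseRange.closure_eq]
        exact closure_minimal hrange isClosed_closure
      exact h2.eq (genericPoint_spec Y)
    intro y
    rcases isClosed_singleton_or_eq_genericPoint hY' y with hyc | rfl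
    · refine finite_of_isClosed_of_ne_univ hX' _ (hyc.preimage f.continuous) ?_
      intro huniv
      have h3 : genericPoint X ∈ f ⁻¹' {y} := huniv ▸ mem_univ _
      rw [mem_preimage, mem_singleton_iff, hη] at h3
      exact not_isClosed_singleton_genericPoint hY' (h3 ▸ hyc)
    · refine (finite_singleton (genericPoint X)).subset ?_
      intro x hx
      rw [mem_preimage, mem_singleton_iff] at hx
      rcases isClosed_singleton_or_eq_genericPoint hX' x with hxc | rfl
      · exfalso
        have h4 := f.closePoints_subset_preimage_closedPoints (show x ∈ closedPoints X from hxc)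
        have h5 : IsClosed ({f x} : Set Y) := h4
        rw [hx] at h5
        exact not_isClosed_singleton_genericPoint hY' h5
      · rfl
  · intro hfib
    by_contra hnd
    have hne : closure ({f (genericPoint X)} : Set Y) ≠ univ := by
      intro huniv
      apply hnd
      refine ⟨?_⟩
      rw [DenseRange, dense_iff_closure_eq]
      apply eq_univ_of_univ_subset
      rw [← huniv]
      apply closure_mono
      rintro _ rfl
      exact ⟨_, rfl⟩
    obtain ⟨z, hzc, hz⟩ := eq_singleton_of_isIrreducible hY' _ isClosed_closure
      isIrreducible_singleton.closure hne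
    have hall : f ⁻¹' {z} = univ := by
      apply eq_univ_of_forall
      intro x
      have := hrange ⟨x, rfl⟩
      rw [hz] at this
      exact this
    have hfinX : Finite X := by
      have := hfib z
      rw [hall] at this
      exact Set.finite_univ_iff.mp this
    exact not_isClosed_singleton_genericPoint hX' (isClosed_singleton_of_finite _)

end Sch

end Groth.Agent.Lib.Helper21.CurveFib
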