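import Mathlib
import Groth.Prelude.Def_CAlg
import Groth.Agent.Lib.Helper18.CM2
import Groth.Agent.Lib.Helper21.CurveH0a

/-!
# Cohen–Macaulayness of local rings of a one-dimensional scheme whose global functions form a field
-/

set_option autoImplicit false
universe u
open CategoryTheory CategoryTheory.Limits AlgebraicGeometry TopologicalSpace Opposite IsLocalRing

namespace Groth.Agent.Lib.Helper21.CurveH0

open Groth.Agent.Lib.Helper18.CM

theorem ringKrullDim_stalk_eq_zero_of_depth_eq_zero (k : Type u) [Field k] (X : Scheme.{u})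
    [IsLocallyNoetherian X] (φ : k →+* Γ(X, ⊤)) (hφ : Function.Surjective φ)
    (x : X) (hxc : IsClosed ({x} : Set X))
    (h0 : LocCoh.depth (X.presheaf.stalk x) (X.presheaf.stalk x) = 0) :
    ringKrullDim (X.presheaf.stalk x) = 0 := by
  obtain ⟨_, ⟨U, hU : IsAffineOpen U, rfl⟩, hxU, -⟩ :=
    X.isBasis_affineOpens.exists_subset_of_mem_open (Set.mem_univ x) isOpen_univ
  letI := X.presheaf.algebra_section_stalk ⟨x, hxU⟩
  haveI := hU.isLocalization_stalk ⟨x, hxU⟩
  haveI : IsNoetherianRing Γ(X, U) := IsLocallyNoetherian.component_noetherian ⟨U, hU⟩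
  set 𝔭 := (hU.primeIdealOf ⟨x, hxU⟩).asIdeal with h𝔭
  have hass : maximalIdeal (X.presheaf.stalk x) ∈
      associatedPrimes (X.presheaf.stalk x) (X.presheaf.stalk x) :=
    (depth_eq_zero_iff (X.presheaf.stalk x)).mp h0
  have hcomap : (maximalIdeal (X.presheaf.stalk x)).comap
      (algebraMap Γ(X, U) (X.presheaf.stalk x)) = 𝔭 :=
    IsLocalization.AtPrime.comap_maximalIdeal (X.presheaf.stalk x) 𝔭
  haveI : IsLocalizedModule 𝔭.primeCompl (Algebra.linearMap Γ(X, U) (X.presheaf.stalk x)) :=
    isLocalizedModule_iff_isLocalization.mpr inferInstance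
  have hass' : 𝔭 ∈ associatedPrimes Γ(X, U) Γ(X, U) := by
    rw [← hcomap]
    exact Module.associatedPrimes.comap_mem_associatedPrimes_of_mem_associatedPrimes_of_isLocalizedModule_of_fg
      𝔭.primeCompl (Algebra.linearMap Γ(X, U) (X.presheaf.stalk x)) _ hass
      (IsNoetherian.noetherian _)
  obtain ⟨-, a, ha⟩ := (isAssociatedPrime_iff).mp hass'
  have hkill : ∀ f : Γ(X, U), x ∉ X.basicOpen f → f * a = 0 := by
    intro f hf
    have hf𝔭 : f ∈ 𝔭 := by
      rw [← hcomap, Ideal.mem_comap, IsLocalRing.mem_maximalIdeal, mem_nonunits_iff]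
      intro hu
      exact hf ((X.mem_basicOpen f x hxU).mpr hu)
    rw [ha, Submodule.mem_colon_singleton, Submodule.mem_bot, smul_eq_mul] at hf𝔭
    exact hf𝔭
  obtain ⟨s, hs⟩ := exists_section_of_closedPoint X x hxc U hU hxU a hkill
  obtain ⟨c, rfl⟩ := hφ s
  have hc : c ≠ 0 := by
    rintro rfl
    rw [map_zero, map_zero] at hs
    have : 𝔭 = ⊤ := by
      rw [ha, ← hs]
      ext f
      simp [Submodule.mem_colon_singleton]
    exact (hU.primeIdealOf ⟨x, hxU⟩).isPrime.ne_top this
  have hunit : IsUnit a := by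
    rw [← hs]
    exact ((hc.isUnit.map φ).map _)
  have hbot : 𝔭 = ⊥ := by
    rw [ha]
    ext f
    rw [Submodule.mem_colon_singleton, Submodule.mem_bot, smul_eq_mul, Ideal.mem_bot]
    exact hunit.mul_left_eq_zero
  haveI : Nontrivial Γ(X, U) :=
    PrimeSpectrum.nonempty_iff_nontrivial.mp ⟨hU.primeIdealOf ⟨x, hxU⟩⟩
  rw [IsLocalization.AtPrime.ringKrullDim_eq_height 𝔭 (X.presheaf.stalk x), hbot,
    Ideal.height_bot]
  rfl

/-- If the global functions of a locally Noetherian scheme `X` of dimension `≤ 1` form a field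
(quotient of a field `k`), then all local rings of `X` are Cohen–Macaulay. -/
theorem isCohenMacaulayLocalRing_stalk (k : Type u) [Field k] (X : Scheme.{u})
    [IsLocallyNoetherian X] (φ : k →+* Γ(X, ⊤)) (hφ : Function.Surjective φ)
    (hdim : topologicalKrullDim X ≤ 1) (x : X) :
    LocCoh.IsCohenMacaulayLocalRing (X.presheaf.stalk x) := by
  refine { supportDim_eq_depth := ?_ }
  rw [Module.supportDim_self_eq_ringKrullDim]
  have hle : ((LocCoh.depth (X.presheaf.stalk x) (X.presheaf.stalk x) : ℕ∞) : WithBot ℕ∞) ≤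
      ringKrullDim (X.presheaf.stalk x) := by
    have := depth_le_supportDim (R := X.presheaf.stalk x) (X.presheaf.stalk x)
    rwa [Module.supportDim_self_eq_ringKrullDim] at this
  have hd1 : ringKrullDim (X.presheaf.stalk x) ≤ 1 := (ringKrullDim_stalk_le X x).trans hdim
  by_cases h0 : LocCoh.depth (X.presheaf.stalk x) (X.presheaf.stalk x) = 0
  · rw [h0]
    by_cases hxc : IsClosed ({x} : Set X)
    · exact ringKrullDim_stalk_eq_zero_of_depth_eq_zero k X φ hφ x hxc h0
    · exact ringKrullDim_stalk_eq_zero_of_not_isClosed X hdim x hxc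
  · have h1 : 1 ≤ LocCoh.depth (X.presheaf.stalk x) (X.presheaf.stalk x) :=
      ENat.one_le_iff_ne_zero.mpr h0
    refine le_antisymm (hd1.trans ?_) hle
    exact_mod_cast h1

end Groth.Agent.Lib.Helper21.CurveH0
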