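import Mathlib

set_option autoImplicit false
set_option linter.style.haveILetI false
universe u

open TensorProduct

namespace Groth.Agent.Lib.Helper21.PropH0

/-- a reduced algebra, integral over an algebraically closed field, with connected spectrum,
is the field itself -/
theorem bijective_algebraMap_of_isIntegral_of_preconnected (K R : Type*) [Field K] [IsAlgClosed K]
    [CommRing R] [Algebra K R] [Algebra.IsIntegral K R] [IsReduced R] [Nontrivial R]
    [PreconnectedSpace (PrimeSpectrum R)] : Function.Bijective (algebraMap K R) := by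
  refine ⟨(algebraMap K R).injective, fun a => ?_⟩
  let S := Algebra.adjoin K {a}
  have hint : IsIntegral K a := Algebra.IsIntegral.isIntegral a
  haveI : Module.Finite K S := Module.Finite.iff_fg.mpr hint.fg_adjoin_singleton
  haveI : IsArtinianRing S := IsArtinianRing.of_finite K S
  haveI : IsReduced S := isReduced_of_injective S.val Subtype.val_injective
  haveI : Algebra.IsIntegral S R := Algebra.IsIntegral.tower_top (R := K)
  haveI : FaithfulSMul S R :=
    (faithfulSMul_iff_algebraMap_injective S R).mpr Subtype.val_injective
  have hsurj := Algebra.IsIntegral.comap_surjective S R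
  haveI : PreconnectedSpace (PrimeSpectrum S) := by
    have hd : DenseRange (PrimeSpectrum.comap (algebraMap S R)) := hsurj.denseRange
    exact hd.preconnectedSpace (PrimeSpectrum.continuous_comap (algebraMap S R))
  haveI : Subsingleton (PrimeSpectrum S) := PreconnectedSpace.trivial_of_discrete
  haveI : Nontrivial S := inferInstance
  haveI : Subsingleton (MaximalSpectrum S) :=
    MaximalSpectrum.toPrimeSpectrum_injective.subsingleton
  haveI : Nonempty (MaximalSpectrum S) := inferInstance
  haveI : IsLocalRing S := IsLocalRing.of_singleton_maximalSpectrum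
  letI : Field S := (IsArtinianRing.isField_of_isReduced_of_isLocalRing S).toField
  haveI : Algebra.IsIntegral K S := Algebra.IsIntegral.of_finite K S
  obtain ⟨c, hc⟩ := (IsAlgClosed.algebraMap_bijective_of_isIntegral (k := K) (K := S)).2
    ⟨a, Algebra.self_mem_adjoin_singleton K a⟩
  exact ⟨c, by simpa using congrArg Subtype.val hc⟩

open AlgebraicGeometry CategoryTheory Limits

theorem preconnectedSpace_primeSpectrum_Γ (Y : Scheme.{u}) [CompactSpace Y] [PreconnectedSpace Y] :
    PreconnectedSpace (PrimeSpectrum Γ(Y, ⊤)) := by
  have hd : DenseRange Y.toSpecΓ := Y.toSpecΓ.denseRange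
  exact hd.preconnectedSpace Y.toSpecΓ.continuous

/-- A reduced connected scheme, universally closed over an algebraically closed field `K`, has
`Γ(Y, O_Y) = K`. -/
theorem bijective_toGlobal_of_isAlgClosed (K : Type u) [Field K] [IsAlgClosed K] (Y : Scheme.{u})
    (g : Y ⟶ Spec (CommRingCat.of K)) [UniversallyClosed g] [IsReduced Y] [ConnectedSpace Y] :
    Function.Bijective ((Scheme.ΓSpecIso (CommRingCat.of K)).inv ≫ g.appTop).hom := by
  haveI : CompactSpace Y := (quasiCompact_iff_compactSpace g).mp inferInstance
  let F := (Scheme.ΓSpecIso (CommRingCat.of K)).inv ≫ g.appTop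
  have hF : F.hom.IsIntegral := by
    apply RingHom.isIntegral_respectsIso.2
      (e := (Scheme.ΓSpecIso _).symm.commRingCatIsoToRingEquiv)
    exact isIntegral_appTop_of_universallyClosed g
  algebraize [F.hom]
  haveI : PreconnectedSpace (PrimeSpectrum Γ(Y, ⊤)) := preconnectedSpace_primeSpectrum_Γ Y
  haveI : Nonempty (⊤ : Y.Opens) := ⟨⟨Nonempty.some inferInstance, trivial⟩⟩
  haveI : Nontrivial Γ(Y, ⊤) := Scheme.component_nontrivial Y ⊤
  exact bijective_algebraMap_of_isIntegral_of_preconnected K Γ(Y, ⊤)

/-- faithfully flat descent of bijectivity along a pushout square of commutative rings -/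
theorem bijective_of_isPushout_of_bijective {R A B P : CommRingCat.{u}} {f : R ⟶ A} {g : R ⟶ B}
    {a : A ⟶ P} {b : B ⟶ P} (H : IsPushout f g a b) (hg : g.hom.FaithfullyFlat)
    (hb : Function.Bijective b.hom) : Function.Bijective f.hom := by
  algebraize [f.hom, g.hom]
  let e : B ⊗[R] A ≃+* P :=
    ((CommRingCat.isPushout_tensorProduct R B A).isoIsPushout B A H.flip).commRingCatIsoToRingEquiv
  have he : ∀ y : B, e (y ⊗ₜ[R] (1 : A)) = b.hom y := by
    intro y
    have := (CommRingCat.isPushout_tensorProduct R B A).inl_isoIsPushout_hom B A H.flip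
    exact congr($(this).hom y)
  have h1 : Function.Bijective (fun y : B => y ⊗ₜ[R] (1 : A)) := by
    have : (fun y : B => y ⊗ₜ[R] (1 : A)) = e.symm ∘ b.hom := by
      funext y
      simp only [Function.comp_apply]
      rw [← he y, RingEquiv.symm_apply_apply]
    rw [this]
    exact e.symm.bijective.comp hb
  have h2 : Function.Bijective ((Algebra.linearMap R A).lTensor B) := by
    have : ((Algebra.linearMap R A).lTensor B : B ⊗[R] R → B ⊗[R] A) =
        (fun y : B => y ⊗ₜ[R] (1 : A)) ∘ (TensorProduct.rid R B) := by
      funext z
      induction z using TensorProduct.induction_on with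
      | zero => simp
      | tmul y r =>
        simp only [LinearMap.lTensor_tmul, Algebra.linearMap_apply, Function.comp_apply,
          TensorProduct.rid_tmul]
        rw [Algebra.algebraMap_eq_smul_one, TensorProduct.tmul_smul, TensorProduct.smul_tmul']
      | add x y hx hy =>
        simp only [map_add, Function.comp_apply] at hx hy ⊢
        rw [hx, hy, TensorProduct.add_tmul]
    rw [this]
    exact h1.comp (TensorProduct.rid R B).bijective
  exact (Module.FaithfullyFlat.lTensor_bijective_iff_bijective R B (Algebra.linearMap R A)).mp h2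

theorem appLE_top_top {X Y : Scheme.{u}} (f : X ⟶ Y) (h : (⊤ : X.Opens) ≤ f ⁻¹ᵁ ⊤) :
    f.appLE ⊤ ⊤ h = f.appTop := by
  show f.appLE ⊤ (f ⁻¹ᵁ ⊤) le_rfl = f.app ⊤
  rw [← Scheme.Hom.app_eq_appLE]

/-- **`H⁰(X, O_X) = k`** for `X` proper, geometrically reduced and geometrically connected over a
field `k`. -/
theorem bijective_toGlobal_of_proper (k : Type u) [Field k] (X : Scheme.{u})
    (f : X ⟶ Spec (CommRingCat.of k)) [IsProper f] [GeometricallyReduced f]
    [GeometricallyConnected f] :
    Function.Bijective ((Scheme.ΓSpecIso (CommRingCat.of k)).inv ≫ f.appTop).hom := by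
  let K := AlgebraicClosure k
  let φ : CommRingCat.of k ⟶ CommRingCat.of K := CommRingCat.ofHom (algebraMap k K)
  let y : Spec (CommRingCat.of K) ⟶ Spec (CommRingCat.of k) := Spec.map φ
  have H := IsPullback.of_hasPullback f y
  haveI : IsReduced (pullback f y) :=
    GeometricallyReduced.geometrically_isReduced (f := f) y _ _ H
  haveI : ConnectedSpace ↥(pullback f y) :=
    GeometricallyConnected.geometrically_connectedSpace (f := f) y _ _ H
  haveI : UniversallyClosed (pullback.snd f y) := inferInstance
  have hb := bijective_toGlobal_of_isAlgClosed K (pullback f y) (pullback.snd f y)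
  haveI : CompactSpace X := (quasiCompact_iff_compactSpace f).mp inferInstance
  haveI : QuasiSeparatedSpace X := (quasiSeparated_iff_quasiSeparatedSpace f).mp inferInstance
  haveI : Flat y := by
    haveI : Subsingleton ↥(Spec (CommRingCat.of k)) :=
      inferInstanceAs (Subsingleton (PrimeSpectrum k))
    infer_instance
  have h1 := isIso_pushoutSection_of_isQuasiSeparated_of_flat_right H
    (US := ⊤) (UT := ⊤) (UX := ⊤) (UY := ⊤) le_top le_top (by simp)
    (isAffineOpen_top _) (isAffineOpen_top _) isCompact_univ isQuasiSeparated_univ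
  rw [isIso_pushoutSection_iff] at h1
  simp only [appLE_top_top] at h1
  -- `y.appTop` is faithfully flat
  have hy : y.appTop.hom.FaithfullyFlat := by
    have hnat : y.appTop = (Scheme.ΓSpecIso (CommRingCat.of k)).hom ≫ φ ≫
        (Scheme.ΓSpecIso (CommRingCat.of K)).inv := by
      rw [← Category.assoc, ← Scheme.ΓSpecIso_naturality, Category.assoc, Iso.hom_inv_id,
        Category.comp_id]
    rw [hnat, CommRingCat.hom_comp,
      RingHom.FaithfullyFlat.respectsIso.cancel_left_isIso, CommRingCat.hom_comp,
      RingHom.FaithfullyFlat.respectsIso.cancel_right_isIso]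
    show (algebraMap k K).FaithfullyFlat
    rw [RingHom.faithfullyFlat_algebraMap_iff]
    infer_instance
  have hsnd : Function.Bijective (pullback.snd f y).appTop.hom := by
    have h3 : IsIso ((Scheme.ΓSpecIso (CommRingCat.of K)).inv ≫ (pullback.snd f y).appTop) := by
      rw [ConcreteCategory.isIso_iff_bijective]
      exact hb
    have h4 : IsIso (pullback.snd f y).appTop := (isIso_comp_left_iff _ _).mp h3
    exact (ConcreteCategory.isIso_iff_bijective _).mp h4
  have h2 := bijective_of_isPushout_of_bijective h1 hy hsnd
  have h5 : IsIso f.appTop := (ConcreteCategory.isIso_iff_bijective _).mpr h2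
  have h6 : IsIso ((Scheme.ΓSpecIso (CommRingCat.of k)).inv ≫ f.appTop) := inferInstance
  exact (ConcreteCategory.isIso_iff_bijective _).mp h6

end Groth.Agent.Lib.Helper21.PropH0
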