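import Mathlib
import Groth.Prelude.Def_Coh
import Groth.Agent.Lib.Helper29.Twist6
import Groth.Agent.Lib.Helper21.PropH0

/-!
# `dim_k H^0(X, O_X) = 1` from `O(X) = k`
-/

set_option autoImplicit false
set_option backward.isDefEq.respectTransparency.types false
set_option maxHeartbeats 4000000
set_option synthInstance.maxHeartbeats 400000
universe u
open CategoryTheory CategoryTheory.Limits AlgebraicGeometry

namespace Groth.Agent.Lib.Helper21.PropH0

open Groth.Agent.Lib.Helper29.QCoh

theorem finrank_hh0_eq_one_of_bijective (k : Type u) [Field k] (X : Scheme.{u})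
    [X.Over (Spec (CommRingCat.of k))]
    (h : Function.Bijective ((Scheme.ΓSpecIso (CommRingCat.of k)).inv ≫
      (X ↘ Spec (CommRingCat.of k)).appTop).hom) :
    Module.finrank k (Coh.HH X (Coh.structureModule X) 0) = 1 := by
  haveI : Nontrivial ↑Γ(X, ⊤) :=
    h.1.nontrivial
  let e := hh0 (Coh.structureModule X)
  let one' : (Γ(Coh.structureModule X, ⊤) : Type u) := (1 : Γ(X, ⊤))
  let v : Coh.HH X (Coh.structureModule X) 0 := e.symm one'
  have hv : v ≠ 0 := by
    intro h
    have : e v = 0 := by rw [h, map_zero]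
    rw [AddEquiv.apply_symm_apply] at this
    exact one_ne_zero (α := Γ(X, ⊤)) this
  refine (finrank_eq_one_iff_of_nonzero' v hv).mpr fun w => ?_
  obtain ⟨c, hc⟩ := h.2 (show Γ(X, ⊤) from e w)
  refine ⟨c, ?_⟩
  apply e.injective
  have h2 : c • v = (Coh.toGlobal (X ↘ Spec (CommRingCat.of k)) c) • v := rfl
  rw [h2, hh0_smul, AddEquiv.apply_symm_apply]
  have h3 : (show Γ(X, ⊤) from Coh.toGlobal (X ↘ Spec (CommRingCat.of k)) c) • one' =
      (show Γ(X, ⊤) from Coh.toGlobal (X ↘ Spec (CommRingCat.of k)) c) * (1 : Γ(X, ⊤)) := rfl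
  rw [h3, mul_one]
  exact hc

end Groth.Agent.Lib.Helper21.PropH0
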