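import Mathlib
import Groth.Prelude.Def_Coh
import Groth.Agent.Lib.Helper29.Twist6
import Groth.Agent.Lib.Helper21.PropH0b

/-!
# `O(X) = k` from `dim_k H^0(X, O_X) = 1`
-/

set_option autoImplicit false
set_option backward.isDefEq.respectTransparency.types false
set_option maxHeartbeats 4000000
set_option synthInstance.maxHeartbeats 400000
universe u
open CategoryTheory CategoryTheory.Limits AlgebraicGeometry

namespace Groth.Agent.Lib.Helper21.CurveH0

open Groth.Agent.Lib.Helper29.QCoh

theorem surjective_of_finrank_hh0_eq_one (k : Type u) [Field k] (X : Scheme.{u})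
    [X.Over (Spec (CommRingCat.of k))]
    (h : Module.finrank k (Coh.HH X (Coh.structureModule X) 0) = 1) :
    Function.Surjective ((Scheme.ΓSpecIso (CommRingCat.of k)).inv ≫
      (X ↘ Spec (CommRingCat.of k)).appTop).hom := by
  let e := hh0 (Coh.structureModule X)
  let one' : (Γ(Coh.structureModule X, ⊤) : Type u) := (1 : Γ(X, ⊤))
  let v : Coh.HH X (Coh.structureModule X) 0 := e.symm one'
  have hv : v ≠ 0 := by
    intro hv0
    have h1 : e v = 0 := by rw [hv0, map_zero]
    rw [AddEquiv.apply_symm_apply] at h1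
    have h10 : (1 : Γ(X, ⊤)) = 0 := h1
    haveI : Subsingleton Γ(X, ⊤) := subsingleton_of_zero_eq_one h10.symm
    have hsub : Subsingleton (Coh.HH X (Coh.structureModule X) 0) := by
      refine ⟨fun a b => e.injective ?_⟩
      exact @Subsingleton.elim Γ(X, ⊤) _ _ _
    rw [Module.finrank_zero_of_subsingleton] at h
    exact zero_ne_one h
  intro s
  obtain ⟨c, hc⟩ := (finrank_eq_one_iff_of_nonzero' v hv).mp h (e.symm (show Γ(X, ⊤) from s))
  refine ⟨c, ?_⟩
  have h2 : c • v = (Coh.toGlobal (X ↘ Spec (CommRingCat.of k)) c) • v := rfl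
  have h4 := congrArg e hc
  rw [h2, hh0_smul, AddEquiv.apply_symm_apply, AddEquiv.apply_symm_apply] at h4
  have h3 : (show Γ(X, ⊤) from Coh.toGlobal (X ↘ Spec (CommRingCat.of k)) c) • one' =
      (show Γ(X, ⊤) from Coh.toGlobal (X ↘ Spec (CommRingCat.of k)) c) * (1 : Γ(X, ⊤)) := rfl
  rw [h3, mul_one] at h4
  exact h4

end Groth.Agent.Lib.Helper21.CurveH0
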