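import Groth.Agent.Lib.Helper21.DVRExt4

/-!
# The DVR criterion for a rational section to extend through a given point over a normal point
-/

set_option autoImplicit false
universe u
open AlgebraicGeometry CategoryTheory Limits TopologicalSpace

namespace Groth.Agent.Lib.Helper21.DVRExt

variable {X Y : Scheme.{u}}

/-- A morphism out of an affine scheme is separated. -/
theorem isSeparated_of_isAffine_source {Z : Scheme.{u}} [IsAffine Z] (f : Z ⟶ X) :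
    IsSeparated f := by
  have : IsSeparated (f ≫ terminal.from X) := inferInstance
  exact IsSeparated.of_comp f (terminal.from X)

/-- The generic point of the spectrum of a domain is dense. -/
theorem isDominant_specMap_of_injective {A B : CommRingCat.{u}} (f : A ⟶ B)
    (hf : Function.Injective f.hom) : IsDominant (Spec.map f) := by
  constructor
  change DenseRange (PrimeSpectrum.comap f.hom)
  rw [PrimeSpectrum.denseRange_comap_iff_ker_le_nilRadical,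
    (RingHom.injective_iff_ker_eq_bot f.hom).mp hf]
  exact bot_le

theorem homOfLE_apply {V W : X.Opens} (hVW : V ≤ W) (t : X) (ht : t ∈ V) :
    X.homOfLE hVW ⟨t, ht⟩ = ⟨t, hVW ht⟩ := by
  apply W.ι.isOpenEmbedding.injective
  rw [← Scheme.Hom.comp_apply, Scheme.homOfLE_ι]
  rfl

/-- **The DVR criterion (existence half).** `X` locally Noetherian, `q : Y ⟶ X` locally of finite
type, `h` a section of `q` over a dense open `U`, `x ∉ U` a normal point and `y₀` a point over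
`x`. If the valuative condition holds, `h` extends to a section over an open containing `U` and
`x`, mapping `x` to `y₀`. -/
theorem exists_extension_of_VC [IsLocallyNoetherian X] (q : Y ⟶ X) [LocallyOfFiniteType q]
    (U : X.Opens) (hU : Dense (U : Set X)) (h : (U : Scheme.{u}) ⟶ Y) (hh : h ≫ q = U.ι)
    (x : X) (hxU : x ∉ U) [IsDomain (X.presheaf.stalk x)]
    (hx : IsIntegrallyClosed (X.presheaf.stalk x)) (y₀ : Y) (hy₀ : q y₀ = x)
    (hVC : VC q U h x y₀) :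
    ∃ (U' : X.Opens) (hUU' : U ≤ U') (hxU' : x ∈ U') (h' : (U' : Scheme.{u}) ⟶ Y),
      h' ≫ q = U'.ι ∧ X.homOfLE hUU' ≫ h' = h ∧ h' ⟨x, hxU'⟩ = y₀ := by
  classical
  -- charts
  obtain ⟨X₁, hX₁, hxX₁, -, hint⟩ := exists_affine_integral_nhd x ⊤ trivial
  have hirr : IsPreirreducible (X₁ : Set X) := ZMTExt.isPreirreducible_of_isIntegral_opens X₁
  obtain ⟨Y₀, hY₀, hy₀Y₀, hY₀le⟩ : ∃ Y₀ : Y.Opens, IsAffineOpen Y₀ ∧ y₀ ∈ Y₀ ∧
      Y₀ ≤ q ⁻¹ᵁ X₁ := by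
    obtain ⟨Y₀, h1, h2, h3⟩ := Opens.isBasis_iff_nbhd.mp Y.isBasis_affineOpens
      (show y₀ ∈ q ⁻¹ᵁ X₁ by change q y₀ ∈ X₁; rw [hy₀]; exact hxX₁)
    exact ⟨Y₀, h1, h2, h3⟩
  have : IsAffine (Y₀ : Scheme.{u}) := hY₀
  let p₁ : (Y₀ : Scheme.{u}) ⟶ X := Y₀.ι ≫ q
  have hsep : IsSeparated p₁ := isSeparated_of_isAffine_source p₁
  -- a neighbourhood of `x` mapped into `Y₀`
  obtain ⟨V₀, hxV₀, hV₀⟩ := hVC.exists_nhd hxU Y₀ hy₀Y₀
  -- a basic open in `U ⊓ V₀`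
  obtain ⟨y, ⟨hyX₁, hyV₀⟩, hyU⟩ := hU.inter_open_nonempty (X₁ ⊓ V₀ : X.Opens)
    (X₁ ⊓ V₀ : X.Opens).isOpen ⟨x, hxX₁, hxV₀⟩
  obtain ⟨a, haO', hya⟩ := hX₁.exists_basicOpen_le (V := U ⊓ V₀) ⟨y, hyU, hyV₀⟩ hyX₁
  have hDa : IsAffineOpen (X.basicOpen a) := hX₁.basicOpen a
  have hDaU : X.basicOpen a ≤ U := haO'.trans inf_le_left
  have ha0 : a ≠ 0 := by
    rintro rfl
    rw [Scheme.basicOpen_zero] at hya
    exact hya
  let iT : Spec Γ(X, X.basicOpen a) ⟶ X := hDa.fromSpec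
  have hiTU : Set.range iT ⊆ Set.range U.ι := by
    rw [hDa.range_fromSpec, Scheme.Opens.range_ι]
    exact hDaU
  let g : Spec Γ(X, X.basicOpen a) ⟶ (U : Scheme.{u}) := IsOpenImmersion.lift U.ι iT hiTU
  have hg : g ≫ U.ι = iT := IsOpenImmersion.lift_fac _ _ _
  have hgh : Set.range (g ≫ h) ⊆ Set.range hY₀.fromSpec := by
    rintro _ ⟨t, rfl⟩
    rw [hY₀.range_fromSpec, Scheme.Hom.comp_apply]
    have h1 : U.ι (g t) ∈ X.basicOpen a := by
      rw [← Scheme.Hom.comp_apply, hg]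
      have : iT t ∈ Set.range iT := ⟨t, rfl⟩
      rw [hDa.range_fromSpec] at this
      exact this
    exact hV₀ (U.ι (g t)) (g t).2 (haO' h1).2
  let gP : Spec Γ(X, X.basicOpen a) ⟶ Spec Γ(Y, Y₀) :=
    IsOpenImmersion.lift hY₀.fromSpec (g ≫ h) hgh
  have hgP : gP ≫ hY₀.fromSpec = g ≫ h := IsOpenImmersion.lift_fac _ _ _
  let ψ : Γ(Y, Y₀) ⟶ Γ(X, X.basicOpen a) := Spec.preimage gP
  have hψ : Spec.map ψ ≫ hY₀.fromSpec = g ≫ h := by rw [Spec.map_preimage]; exact hgP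
  -- the local extension
  obtain ⟨V, V', v, hV'V, hV'U, hxV, hVX₁, hV'ne, hvY₀, hv, hvh⟩ :=
    ZMTExt.exists_local_extension_of_key q U h hh X₁ hX₁ x hxX₁ Y₀ hY₀ hY₀le a ha0 hDaU g hg ψ hψ
      (fun d => hVC.key hx X₁ hX₁ hxX₁ Y₀ hY₀ hy₀Y₀ a ha0 g hg ψ hψ d)
  let W : X.Opens := V ⊓ V₀
  have hxW : x ∈ W := ⟨hxV, hxV₀⟩
  let w : (W : Scheme.{u}) ⟶ Y := X.homOfLE (inf_le_left : W ≤ V) ≫ v
  have hw : w ≫ q = W.ι := by rw [Category.assoc, hv, Scheme.homOfLE_ι]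
  have hwY₀ : ∀ t, w t ∈ Y₀ := fun t => by
    change (X.homOfLE (inf_le_left : W ≤ V) ≫ v) t ∈ Y₀
    rw [Scheme.Hom.comp_apply]
    exact hvY₀ _
  -- agreement on `U ⊓ W`
  have hagree : X.homOfLE (inf_le_left : U ⊓ W ≤ U) ≫ h =
      X.homOfLE (inf_le_right : U ⊓ W ≤ W) ≫ w := by
    have hr₁ : Set.range (X.homOfLE (inf_le_left : U ⊓ W ≤ U) ≫ h) ⊆ Set.range Y₀.ι := by
      rintro _ ⟨t, rfl⟩
      rw [Scheme.Opens.range_ι, Scheme.Hom.comp_apply]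
      obtain ⟨t, htU, htW⟩ := t
      rw [homOfLE_apply]
      exact hV₀ t htU htW.2
    have hr₂ : Set.range (X.homOfLE (inf_le_right : U ⊓ W ≤ W) ≫ w) ⊆ Set.range Y₀.ι := by
      rintro _ ⟨t, rfl⟩
      rw [Scheme.Opens.range_ι, Scheme.Hom.comp_apply]
      exact hwY₀ _
    let s₁ := IsOpenImmersion.lift Y₀.ι _ hr₁
    let s₂ := IsOpenImmersion.lift Y₀.ι _ hr₂
    have hs₁ : s₁ ≫ Y₀.ι = X.homOfLE (inf_le_left : U ⊓ W ≤ U) ≫ h :=
      IsOpenImmersion.lift_fac _ _ _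
    have hs₂ : s₂ ≫ Y₀.ι = X.homOfLE (inf_le_right : U ⊓ W ≤ W) ≫ w :=
      IsOpenImmersion.lift_fac _ _ _
    have hle : U ⊓ W ≤ X₁ := (inf_le_right.trans inf_le_left).trans hVX₁
    have hred : IsReduced ((U ⊓ W : X.Opens) : Scheme.{u}) :=
      isReduced_of_isOpenImmersion (X.homOfLE hle)
    have hV'' : V' ⊓ V₀ ≤ U ⊓ W := le_inf (inf_le_left.trans hV'U)
      (le_inf (inf_le_left.trans hV'V) inf_le_right)
    have hne : ((V' ⊓ V₀ : X.Opens) : Set X).Nonempty := by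
      obtain ⟨y', hy'⟩ := hV'ne
      obtain ⟨t, -, ht1, ht2⟩ := hirr V' V₀ V'.isOpen V₀.isOpen ⟨y', hVX₁ (hV'V hy'), hy'⟩
        ⟨x, hxX₁, hxV₀⟩
      exact ⟨t, ht1, ht2⟩
    have hdom : IsDominant (X.homOfLE hV'') :=
      ZMTExt.isDominant_homOfLE_of_isPreirreducible hirr hV'' hle hne
    have hs : s₁ = s₂ := by
      refine ext_of_isDominant_of_isSeparated p₁ ?_ (X.homOfLE hV'') ?_
      · change s₁ ≫ Y₀.ι ≫ q = s₂ ≫ Y₀.ι ≫ q
        rw [← Category.assoc, ← Category.assoc, hs₁, hs₂, Category.assoc, Category.assoc, hh, hw,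
          Scheme.homOfLE_ι, Scheme.homOfLE_ι]
      · rw [← cancel_mono Y₀.ι, Category.assoc, Category.assoc, hs₁, hs₂]
        change _ = X.homOfLE hV'' ≫ X.homOfLE (inf_le_right : U ⊓ W ≤ W) ≫
          X.homOfLE (inf_le_left : W ≤ V) ≫ v
        rw [← Category.assoc, Scheme.homOfLE_homOfLE, ← Category.assoc, ← Category.assoc,
          Scheme.homOfLE_homOfLE, Scheme.homOfLE_homOfLE]
        have e1 : X.homOfLE (hV''.trans inf_le_left) =
            X.homOfLE (inf_le_left : V' ⊓ V₀ ≤ V') ≫ X.homOfLE hV'U := by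
          rw [Scheme.homOfLE_homOfLE]
        have e2 : X.homOfLE ((hV''.trans inf_le_right).trans inf_le_left) =
            X.homOfLE (inf_le_left : V' ⊓ V₀ ≤ V') ≫ X.homOfLE hV'V := by
          rw [Scheme.homOfLE_homOfLE]
        rw [e1, e2, Category.assoc, Category.assoc, hvh]
    rw [← hs₁, ← hs₂, hs]
  -- glue
  obtain ⟨U', hUU', hWU', k, hk1, hk2, -, hext⟩ := exists_glue_two U W h w hagree
  have hkq : k ≫ q = U'.ι := by
    apply hext
    · rw [← Category.assoc, hk1, hh, Scheme.homOfLE_ι]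
    · rw [← Category.assoc, hk2, hw, Scheme.homOfLE_ι]
  have hxU' : x ∈ U' := hWU' hxW
  refine ⟨U', hUU', hxU', k, hkq, hk1, ?_⟩
  -- the value at `x`
  have hkx : k ⟨x, hxU'⟩ ∈ Y₀ := by
    rw [← homOfLE_apply hWU' x hxW, ← Scheme.Hom.comp_apply, hk2]
    exact hwY₀ _
  obtain ⟨R, _, _, _, u, ub, hu, hub⟩ := exists_dvr_through_point U hU x hxU
  obtain ⟨h₁, hh₁, hh₁c, hgen⟩ := hVC R u hu ub hub
  have hrange := range_subset_of_closedPoint_mem u U' (hu ▸ hxU')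
  let u' := IsOpenImmersion.lift U'.ι u hrange
  have hu' : u' ≫ U'.ι = u := IsOpenImmersion.lift_fac _ _ _
  have hu'c : u' (IsLocalRing.closedPoint R) = ⟨x, hxU'⟩ := by
    apply U'.ι.isOpenEmbedding.injective
    rw [← Scheme.Hom.comp_apply, hu', hu]
    rfl
  let h₂ : Spec (CommRingCat.of R) ⟶ Y := u' ≫ k
  have hh₂ : h₂ ≫ q = u := by rw [Category.assoc, hkq, hu']
  have hh₂c : h₂ (IsLocalRing.closedPoint R) = k ⟨x, hxU'⟩ := by
    change (u' ≫ k) _ = _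
    rw [Scheme.Hom.comp_apply, hu'c]
  let ι' : CommRingCat.of R ⟶ CommRingCat.of (FractionRing R) :=
    CommRingCat.ofHom (algebraMap R (FractionRing R))
  have hgen₂ : Spec.map ι' ≫ h₂ = ub ≫ h := by
    rw [← hk1, ← Category.assoc, ← Category.assoc]
    congr 1
    rw [← cancel_mono U'.ι, Category.assoc, Category.assoc, hu', Scheme.homOfLE_ι, hub]
  have hr₁ : Set.range h₁ ⊆ Set.range Y₀.ι :=
    range_subset_of_closedPoint_mem h₁ Y₀ (hh₁c ▸ hy₀Y₀)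
  have hr₂ : Set.range h₂ ⊆ Set.range Y₀.ι :=
    range_subset_of_closedPoint_mem h₂ Y₀ (hh₂c ▸ hkx)
  let l₁ := IsOpenImmersion.lift Y₀.ι h₁ hr₁
  let l₂ := IsOpenImmersion.lift Y₀.ι h₂ hr₂
  have hl₁ : l₁ ≫ Y₀.ι = h₁ := IsOpenImmersion.lift_fac _ _ _
  have hl₂ : l₂ ≫ Y₀.ι = h₂ := IsOpenImmersion.lift_fac _ _ _
  have hdomR : IsDominant (Spec.map ι') :=
    isDominant_specMap_of_injective ι' (IsFractionRing.injective R (FractionRing R))
  have hl : l₁ = l₂ := by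
    refine ext_of_isDominant_of_isSeparated p₁ ?_ (Spec.map ι') ?_
    · change l₁ ≫ Y₀.ι ≫ q = l₂ ≫ Y₀.ι ≫ q
      rw [← Category.assoc, ← Category.assoc, hl₁, hl₂, hh₁, hh₂]
    · rw [← cancel_mono Y₀.ι, Category.assoc, Category.assoc, hl₁, hl₂, hgen₂]
      exact hgen
  have h12 : h₁ = h₂ := by rw [← hl₁, ← hl₂, hl]
  rw [← hh₂c, ← h12, hh₁c]

end Groth.Agent.Lib.Helper21.DVRExt
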