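import Groth.Agent.Lib.Helper21.CurveMor
import Groth.Agent.Lib.Helper21.DVRExt5
import Mathlib.AlgebraicGeometry.ValuativeCriterion

/-!
# Local rings of an integral separated scheme inside the function field versus valuation rings
-/

set_option autoImplicit false
universe u
open AlgebraicGeometry CategoryTheory Limits TopologicalSpace

namespace Groth.Agent.Lib.Helper21.CurveVal

open Groth.Agent.Lib.Helper21.DVRExt

variable {X : Scheme.{u}} [IsIntegral X]

theorem algebraMap_stalk_functionField_eq (x : X) :
    algebraMap (X.presheaf.stalk x) X.functionField =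
      (X.presheaf.stalkSpecializes ((genericPoint_spec X).specializes trivial)).hom := rfl

section

variable (R : ValuationSubring X.functionField) (x : X)
  (hR : (R : Set X.functionField) =
    Set.range (algebraMap (X.presheaf.stalk x) X.functionField))

/-- The corestriction `𝒪_x → R` when `R` is the image of `𝒪_x`. -/
noncomputable def toSub : X.presheaf.stalk x →+* R :=
  (algebraMap (X.presheaf.stalk x) X.functionField).codRestrict R.toSubring (fun a => by
    have h1 : algebraMap (X.presheaf.stalk x) X.functionField a ∈ (R : Set X.functionField) := by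
      rw [hR]
      exact ⟨a, rfl⟩
    exact h1)

theorem coe_toSub (a : X.presheaf.stalk x) :
    ((toSub R x hR a : R) : X.functionField) = algebraMap (X.presheaf.stalk x) X.functionField a :=
  rfl

theorem toSub_bijective : Function.Bijective (toSub R x hR) := by
  constructor
  · intro a b hab
    apply IsFractionRing.injective (X.presheaf.stalk x) X.functionField
    rw [← coe_toSub R x hR, ← coe_toSub R x hR, hab]
  · rintro ⟨r, hr⟩
    have h1 : r ∈ (R : Set X.functionField) := hr
    rw [hR] at h1
    obtain ⟨a, ha⟩ := h1
    exact ⟨a, Subtype.ext ha⟩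

/-- The `R`-point of `X` attached to a point whose local ring has image `R`. -/
noncomputable def lift : Spec (CommRingCat.of R) ⟶ X :=
  Spec.map (CommRingCat.ofHom (toSub R x hR)) ≫ X.fromSpecStalk x

theorem subtype_lift : Spec.map (CommRingCat.ofHom R.subtype) ≫ lift R x hR =
    X.fromSpecStalk (genericPoint X) := by
  rw [lift, ← Category.assoc, ← Spec.map_comp]
  have h1 : CommRingCat.ofHom (toSub R x hR) ≫ CommRingCat.ofHom R.subtype =
      X.presheaf.stalkSpecializes ((genericPoint_spec X).specializes trivial) := by
    ext a
    rfl
  rw [h1, Scheme.SpecMap_stalkSpecializes_fromSpecStalk]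

theorem lift_closedPoint : lift R x hR (IsLocalRing.closedPoint R) = x := by
  rw [lift, Scheme.Hom.comp_apply]
  have h1 : Spec.map (CommRingCat.ofHom (toSub R x hR)) (IsLocalRing.closedPoint R) =
      IsLocalRing.closedPoint (X.presheaf.stalk x) := by
    have hloc : IsLocalHom (toSub R x hR) := by
      constructor
      intro a ha
      exact (isUnit_map_iff (RingEquiv.ofBijective (toSub R x hR) (toSub_bijective R x hR)) a).mp ha
    exact IsLocalRing.comap_closedPoint (toSub R x hR)
  rw [h1, Scheme.fromSpecStalk_closedPoint]

end

/-- Two points of an integral separated scheme with the same local ring (inside the function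
field, a valuation ring) coincide. -/
theorem eq_of_range_eq [X.IsSeparated] (R : ValuationSubring X.functionField) (x x' : X)
    (hx : (R : Set X.functionField) =
      Set.range (algebraMap (X.presheaf.stalk x) X.functionField))
    (hx' : (R : Set X.functionField) =
      Set.range (algebraMap (X.presheaf.stalk x') X.functionField)) : x = x' := by
  have hdom : IsDominant (Spec.map (CommRingCat.ofHom R.subtype)) :=
    isDominant_specMap_of_injective _ Subtype.val_injective
  have h1 : lift R x hx = lift R x' hx' :=
    ext_of_isDominant (Spec.map (CommRingCat.ofHom R.subtype))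
      ((subtype_lift R x hx).trans (subtype_lift R x' hx').symm)
  rw [← lift_closedPoint R x hx, h1, lift_closedPoint R x' hx']

/-- If an `R`-point of `X` extends the generic point and the local ring at the image of the
closed point is a valuation ring, then this local ring is `R`. -/
theorem range_eq_of_lift (R : ValuationSubring X.functionField)
    (l : Spec (CommRingCat.of R) ⟶ X)
    (hl : Spec.map (CommRingCat.ofHom R.subtype) ≫ l = X.fromSpecStalk (genericPoint X))
    (hv : ValuationRing (X.presheaf.stalk (l (IsLocalRing.closedPoint R)))) :
    (R : Set X.functionField) = Set.range (algebraMap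
      (X.presheaf.stalk (l (IsLocalRing.closedPoint R))) X.functionField) := by
  set x := l (IsLocalRing.closedPoint R) with hxdef
  let ψ : X.presheaf.stalk x ⟶ CommRingCat.of R := Scheme.stalkClosedPointTo l
  have hψl : Spec.map ψ ≫ X.fromSpecStalk x = l := Scheme.Spec_stalkClosedPointTo_fromSpecStalk l
  have hcomp : ψ ≫ CommRingCat.ofHom R.subtype =
      X.presheaf.stalkSpecializes ((genericPoint_spec X).specializes trivial) := by
    apply Spec.map_injective
    rw [← cancel_mono (X.fromSpecStalk x), Spec.map_comp, Category.assoc, hψl, hl,
      Scheme.SpecMap_stalkSpecializes_fromSpecStalk]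
  have hψ : ∀ a : X.presheaf.stalk x, ((ψ.hom a : R) : X.functionField) =
      algebraMap (X.presheaf.stalk x) X.functionField a := by
    intro a
    have := congrArg (fun g => g.hom a) hcomp
    exact this
  have hloc : IsLocalHom ψ.hom := Scheme.isLocalHom_stalkClosedPointTo l
  apply Set.Subset.antisymm
  · intro r hr
    have hrR : r ∈ R := hr
    by_cases hr0 : r = 0
    · exact ⟨0, by rw [map_zero, hr0]⟩
    rcases ValuationRing.isInteger_or_isInteger (X.presheaf.stalk x) r with ⟨a, ha⟩ | ⟨a, ha⟩
    · exact ⟨a, ha⟩
    · by_cases hu : IsUnit a
      · obtain ⟨a', ha'⟩ := hu.exists_right_inv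
        refine ⟨a', ?_⟩
        have h1 : algebraMap (X.presheaf.stalk x) X.functionField a *
            algebraMap (X.presheaf.stalk x) X.functionField a' = 1 := by
          rw [← map_mul, ha', map_one]
        rw [ha] at h1
        field_simp at h1
        exact h1
      · exfalso
        have hnu : ¬ IsUnit (ψ.hom a) := fun h => hu (hloc.map_nonunit a h)
        apply hnu
        refine ⟨⟨ψ.hom a, ⟨r, hrR⟩, ?_, ?_⟩, rfl⟩
        · apply Subtype.ext
          change ((ψ.hom a : R) : X.functionField) * r = 1
          rw [hψ a, ha, inv_mul_cancel₀ hr0]
        · apply Subtype.ext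
          change r * ((ψ.hom a : R) : X.functionField) = 1
          rw [hψ a, ha, mul_inv_cancel₀ hr0]
  · rintro _ ⟨a, rfl⟩
    rw [← hψ a]
    exact (ψ.hom a).2

end Groth.Agent.Lib.Helper21.CurveVal
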