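import Groth.Agent.Lib.Helper21.P1b
import Groth.Agent.Lib.Helper29.PCT1

set_option autoImplicit false
set_option linter.style.haveILetI false
universe u
open AlgebraicGeometry CategoryTheory Limits TopologicalSpace
open HomogeneousLocalization MvPolynomial Groth.Agent.Lib.Helper29.QCoh

namespace Groth.Agent.Lib.Helper21.P1

variable (k : Type u) [Field k]

/-- the coordinate function `X_l / X_i` on the chart `D₊(X_i)` -/
noncomputable def coord (i l : Fin 2) : Γ(CohB1.ProjSpace 1 k, stdOpen k i) :=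
  sectionEquiv k i (xFrac 1 k i l)

theorem xFrac_eq_isLocalizationElem (i l : Fin 2) :
    xFrac 1 k i l = Away.isLocalizationElem (𝒜 := CohB1.polyGrading 1 k)
      (isHomogeneous_X k i) (isHomogeneous_X k l) := by
  apply HomogeneousLocalization.val_injective
  unfold xFrac
  rw [Away.val_mk, Away.val_mk]
  simp only [pow_one]

/-- `X_l / X_i` is invertible only on `D₊(X_l)`. -/
theorem basicOpen_coord_le (i l : Fin 2) :
    (CohB1.ProjSpace 1 k).basicOpen (coord k i l) ≤ stdOpen k l := by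
  change (Proj (CohB1.polyGrading 1 k)).basicOpen
    (show Γ(Proj (CohB1.polyGrading 1 k), Proj.basicOpen (CohB1.polyGrading 1 k) (X i)) from
      coord k i l) ≤ Proj.basicOpen (CohB1.polyGrading 1 k) (X l)
  set j := Proj.awayι (CohB1.polyGrading 1 k) (X i) (isHomogeneous_X k i) Nat.one_pos with hj
  set c : Γ(Proj (CohB1.polyGrading 1 k), Proj.basicOpen (CohB1.polyGrading 1 k) (X i)) :=
    coord k i l with hc
  have hrange : j.opensRange = Proj.basicOpen (CohB1.polyGrading 1 k) (X i) :=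
    Proj.opensRange_awayι (CohB1.polyGrading 1 k) (X i) (isHomogeneous_X k i) Nat.one_pos
  have htop : j ⁻¹ᵁ Proj.basicOpen (CohB1.polyGrading 1 k) (X i) = ⊤ :=
    awayι_preimage_basicOpen_top (CohB1.polyGrading 1 k) (isHomogeneous_X k i) Nat.one_pos
  have h1 : (j.appLE (Proj.basicOpen (CohB1.polyGrading 1 k) (X i)) ⊤ (by rw [htop])).hom c =
      (Scheme.ΓSpecIso _).inv.hom (xFrac 1 k i l) := by
    have := awayToSection_awayι_appLE (CohB1.polyGrading 1 k) (isHomogeneous_X k i) Nat.one_pos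
    exact congrArg (fun g => g.hom (xFrac 1 k i l)) this
  have h3 : j ⁻¹ᵁ (Proj (CohB1.polyGrading 1 k)).basicOpen c =
      PrimeSpectrum.basicOpen (xFrac 1 k i l) := by
    have h4 := Scheme.basicOpen_appLE j ⊤ (Proj.basicOpen (CohB1.polyGrading 1 k) (X i))
      (by rw [htop]) c
    rw [top_inf_eq] at h4
    rw [← h4]
    erw [h1]
    exact basicOpen_eq_of_affine _
  have h5 : j ⁻¹ᵁ Proj.basicOpen (CohB1.polyGrading 1 k) (X l) =
      PrimeSpectrum.basicOpen (xFrac 1 k i l) := by
    rw [xFrac_eq_isLocalizationElem]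
    exact Proj.awayι_preimage_basicOpen (CohB1.polyGrading 1 k) (isHomogeneous_X k i) Nat.one_pos
      (isHomogeneous_X k l) Nat.one_pos
  intro y hy
  have hyi : y ∈ Proj.basicOpen (CohB1.polyGrading 1 k) (X i) :=
    (Proj (CohB1.polyGrading 1 k)).basicOpen_le _ hy
  rw [← hrange] at hyi
  obtain ⟨y', rfl⟩ := hyi
  have : y' ∈ j ⁻¹ᵁ (Proj (CohB1.polyGrading 1 k)).basicOpen c := hy
  rw [h3, ← h5] at this
  exact this


theorem awayMap_xFrac_mul :
    awayMap (CohB1.polyGrading 1 k) (f := X 0) (g := X 1) (x := X 0 * X 1)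
        (isHomogeneous_X k 1) rfl (xFrac 1 k 0 1) *
      awayMap (CohB1.polyGrading 1 k) (f := X 1) (g := X 0) (x := X 0 * X 1)
        (isHomogeneous_X k 0) (mul_comm _ _) (xFrac 1 k 1 0) = 1 := by
  apply HomogeneousLocalization.val_injective
  unfold xFrac
  rw [HomogeneousLocalization.val_mul, awayMap_mk, awayMap_mk, Away.val_mk, Away.val_mk,
    HomogeneousLocalization.val_one, Localization.mk_mul]
  rw [← Localization.mk_one, Localization.mk_eq_mk_iff, Localization.r_iff_exists]
  refine ⟨1, ?_⟩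
  simp only [OneMemClass.coe_one, one_mul, Submonoid.coe_mul, pow_one, mul_one]
  ring

theorem res_mul_aux (W : (Proj (CohB1.polyGrading 1 k)).Opens)
    (h0 : W ≤ Proj.basicOpen (CohB1.polyGrading 1 k) (X 0))
    (h1 : W ≤ Proj.basicOpen (CohB1.polyGrading 1 k) (X 1)) :
    ((Proj (CohB1.polyGrading 1 k)).presheaf.map (homOfLE h0).op).hom
        ((Proj.awayToSection (CohB1.polyGrading 1 k) (X 0)).hom (xFrac 1 k 0 1)) *
      ((Proj (CohB1.polyGrading 1 k)).presheaf.map (homOfLE h1).op).hom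
        ((Proj.awayToSection (CohB1.polyGrading 1 k) (X 1)).hom (xFrac 1 k 1 0)) = 1 := by
  have hW : W ≤ Proj.basicOpen (CohB1.polyGrading 1 k) (X 0 * X 1) := by
    rw [Proj.basicOpen_mul]; exact le_inf h0 h1
  have e0 := Proj.awayMap_awayToSection (CohB1.polyGrading 1 k) (f := X 0) (g := X 1)
    (x := X 0 * X 1) (isHomogeneous_X k 1) rfl
  have e1 := Proj.awayMap_awayToSection (CohB1.polyGrading 1 k) (f := X 1) (g := X 0)
    (x := X 0 * X 1) (isHomogeneous_X k 0) (mul_comm _ _)
  have r0 : ((Proj (CohB1.polyGrading 1 k)).presheaf.map (homOfLE h0).op).hom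
        ((Proj.awayToSection (CohB1.polyGrading 1 k) (X 0)).hom (xFrac 1 k 0 1)) =
      ((Proj (CohB1.polyGrading 1 k)).presheaf.map (homOfLE hW).op).hom
        ((Proj.awayToSection (CohB1.polyGrading 1 k) (X 0 * X 1)).hom
          (awayMap (CohB1.polyGrading 1 k) (f := X 0) (g := X 1) (x := X 0 * X 1)
            (isHomogeneous_X k 1) rfl (xFrac 1 k 0 1))) := by
    have := congrArg (fun g => g.hom (xFrac 1 k 0 1)) e0
    simp only [CommRingCat.hom_comp, RingHom.comp_apply, CommRingCat.hom_ofHom] at this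
    rw [this]
    have hc : (Proj (CohB1.polyGrading 1 k)).presheaf.map (homOfLE h0).op =
        (Proj (CohB1.polyGrading 1 k)).presheaf.map
          (homOfLE (Proj.basicOpen_mono (CohB1.polyGrading 1 k) _ _ ⟨_, rfl⟩)).op ≫
        (Proj (CohB1.polyGrading 1 k)).presheaf.map (homOfLE hW).op := by
      rw [← Functor.map_comp]; rfl
    rw [hc]; rfl
  have r1 : ((Proj (CohB1.polyGrading 1 k)).presheaf.map (homOfLE h1).op).hom
        ((Proj.awayToSection (CohB1.polyGrading 1 k) (X 1)).hom (xFrac 1 k 1 0)) =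
      ((Proj (CohB1.polyGrading 1 k)).presheaf.map (homOfLE hW).op).hom
        ((Proj.awayToSection (CohB1.polyGrading 1 k) (X 0 * X 1)).hom
          (awayMap (CohB1.polyGrading 1 k) (f := X 1) (g := X 0) (x := X 0 * X 1)
            (isHomogeneous_X k 0) (mul_comm _ _) (xFrac 1 k 1 0))) := by
    have := congrArg (fun g => g.hom (xFrac 1 k 1 0)) e1
    simp only [CommRingCat.hom_comp, RingHom.comp_apply, CommRingCat.hom_ofHom] at this
    rw [this]
    have hc : (Proj (CohB1.polyGrading 1 k)).presheaf.map (homOfLE h1).op =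
        (Proj (CohB1.polyGrading 1 k)).presheaf.map
          (homOfLE (Proj.basicOpen_mono (CohB1.polyGrading 1 k) _ _ ⟨_, mul_comm _ _⟩)).op ≫
        (Proj (CohB1.polyGrading 1 k)).presheaf.map (homOfLE hW).op := by
      rw [← Functor.map_comp]; rfl
    rw [hc]; rfl
  rw [r0, r1, ← map_mul, ← map_mul, awayMap_xFrac_mul, map_one, map_one]

/-- On the overlap of the two standard charts, the two coordinates are inverse to each other. -/
theorem res_coord_mul (W : (CohB1.ProjSpace 1 k).Opens) (h0 : W ≤ stdOpen k 0)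
    (h1 : W ≤ stdOpen k 1) :
    ((CohB1.ProjSpace 1 k).presheaf.map (homOfLE h0).op).hom (coord k 0 1) *
      ((CohB1.ProjSpace 1 k).presheaf.map (homOfLE h1).op).hom (coord k 1 0) = 1 :=
  res_mul_aux k W h0 h1

/-- germ version -/
theorem germ_coord_mul (y : CohB1.ProjSpace 1 k) (h0 : y ∈ stdOpen k 0) (h1 : y ∈ stdOpen k 1) :
    ((CohB1.ProjSpace 1 k).presheaf.germ (stdOpen k 0) y h0).hom (coord k 0 1) *
      ((CohB1.ProjSpace 1 k).presheaf.germ (stdOpen k 1) y h1).hom (coord k 1 0) = 1 := by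
  have hy : y ∈ stdOpen k 0 ⊓ stdOpen k 1 := ⟨h0, h1⟩
  have e0 := TopCat.Presheaf.germ_res_apply (CohB1.ProjSpace 1 k).presheaf
    (homOfLE (inf_le_left : stdOpen k 0 ⊓ stdOpen k 1 ≤ stdOpen k 0)) y hy (coord k 0 1)
  have e1 := TopCat.Presheaf.germ_res_apply (CohB1.ProjSpace 1 k).presheaf
    (homOfLE (inf_le_right : stdOpen k 0 ⊓ stdOpen k 1 ≤ stdOpen k 1)) y hy (coord k 1 0)
  rw [← e0, ← e1, ← map_mul, res_coord_mul, map_one]

end Groth.Agent.Lib.Helper21.P1
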