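import Groth.Agent.Lib.Helper21.CurveExt
import Groth.Agent.Lib.Helper21.CurveVal
import Groth.Agent.Lib.Helper21.CurveFib2
import Groth.Agent.Lib.Helper21.P1c
import Groth.Agent.S4445
import Groth.Agent.S9705
import Groth.Prelude.Def_Pi1
import Mathlib.AlgebraicGeometry.ZariskisMainTheorem
import Mathlib.RingTheory.Valuation.Discrete.IsDiscreteValuationRing
import Mathlib.RingTheory.DiscreteValuationRing.TFAE

/-!
# Normal curves: valuations at closed points, morphisms to `ℙ¹`, domain of definition
-/

set_option autoImplicit false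
set_option linter.style.haveILetI false
universe u
open AlgebraicGeometry CategoryTheory Limits TopologicalSpace
open scoped WithZero

namespace Groth.Agent.Lib.Helper21.CurveRiem

section DVR
variable {C : Scheme.{u}} [IsIntegral C] [IsLocallyNoetherian C]

/-- local rings at closed points of a normal curve are discrete valuation rings -/
theorem isDVR_stalk (hnorm : Pi1.IsNormalScheme C) (q : C)
    (hq : ringKrullDim (C.presheaf.stalk q) = 1) :
    IsDiscreteValuationRing (C.presheaf.stalk q) := by
  have hnf : ¬ IsField (C.presheaf.stalk q) := by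
    intro hf
    have := ringKrullDim_eq_zero_of_isField hf
    rw [hq] at this
    exact one_ne_zero this
  have hv : ValuationRing (C.presheaf.stalk q) :=
    RatExt.valuationRing_of_isIntegrallyClosed_of_dim_le_one _ (hnorm q).2 hq.le
  exact ((IsDiscreteValuationRing.TFAE (C.presheaf.stalk q) hnf).out 0 1).mpr hv

/-- the valuation of the function field attached to a point with one-dimensional normal local ring -/
noncomputable def val (hnorm : Pi1.IsNormalScheme C) (q : C)
    (hq : ringKrullDim (C.presheaf.stalk q) = 1) : Valuation C.functionField ℤᵐ⁰ :=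
  haveI := isDVR_stalk hnorm q hq
  (IsDiscreteValuationRing.maximalIdeal (C.presheaf.stalk q)).valuation C.functionField

theorem val_le_one_iff (hnorm : Pi1.IsNormalScheme C) (q : C)
    (hq : ringKrullDim (C.presheaf.stalk q) = 1) (x : C.functionField) :
    val hnorm q hq x ≤ 1 ↔ x ∈ Set.range (algebraMap (C.presheaf.stalk q) C.functionField) := by
  haveI := isDVR_stalk hnorm q hq
  constructor
  · intro h
    obtain ⟨a, ha⟩ := IsDiscreteValuationRing.exists_lift_of_le_one h
    exact ⟨a, ha⟩
  · rintro ⟨a, rfl⟩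
    exact IsDedekindDomain.HeightOneSpectrum.valuation_le_one _ a

theorem val_algebraMap_lt_one_iff (hnorm : Pi1.IsNormalScheme C) (q : C)
    (hq : ringKrullDim (C.presheaf.stalk q) = 1) (a : C.presheaf.stalk q) :
    val hnorm q hq (algebraMap (C.presheaf.stalk q) C.functionField a) < 1 ↔
      a ∈ IsLocalRing.maximalIdeal (C.presheaf.stalk q) := by
  haveI := isDVR_stalk hnorm q hq
  exact IsDedekindDomain.HeightOneSpectrum.valuation_lt_one_iff_mem _ a

end DVR

section Core
variable {X Y : Scheme.{u}} [IsIntegral X] [IsIntegral Y]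

theorem genericPoint_mem_of_mem {V : Y.Opens} {y : Y} (hy : y ∈ V) : genericPoint Y ∈ V :=
  ((genericPoint_spec Y).specializes (Set.mem_univ y)).mem_open V.isOpen hy

/-- compatibility of stalk maps with the maps on function fields -/
theorem algebraMap_stalkMap_germ (φ : X ⟶ Y) (hu : φ (genericPoint X) = genericPoint Y) (q : X)
    (V : Y.Opens) (hqV : φ q ∈ V) (s : Γ(Y, V)) :
    algebraMap (X.presheaf.stalk q) X.functionField
        ((φ.stalkMap q).hom ((Y.presheaf.germ V (φ q) hqV).hom s)) =
      (Y.presheaf.stalkSpecializes (specializes_of_eq hu) ≫ φ.stalkMap (genericPoint X)).hom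
        ((Y.presheaf.germ V (genericPoint Y) (genericPoint_mem_of_mem hqV)).hom s) := by
  have hsp : genericPoint X ⤳ q := (genericPoint_spec X).specializes (Set.mem_univ q)
  rw [CurveVal.algebraMap_stalk_functionField_eq]
  have h1 := Scheme.Hom.stalkSpecializes_stalkMap_apply φ (genericPoint X) q hsp
    ((Y.presheaf.germ V (φ q) hqV).hom s)
  have hmem : φ (genericPoint X) ∈ V := by rw [hu]; exact genericPoint_mem_of_mem hqV
  have h2 : (Y.presheaf.stalkSpecializes (φ.base.hom.map_specializes hsp)).hom
      ((Y.presheaf.germ V (φ q) hqV).hom s) =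
      (Y.presheaf.germ V (φ (genericPoint X)) hmem).hom s :=
    TopCat.Presheaf.germ_stalkSpecializes_apply _ _ _ _
  have h3 : (Y.presheaf.stalkSpecializes (specializes_of_eq hu)).hom
      ((Y.presheaf.germ V (genericPoint Y) (genericPoint_mem_of_mem hqV)).hom s) =
      (Y.presheaf.germ V (φ (genericPoint X)) hmem).hom s :=
    TopCat.Presheaf.germ_stalkSpecializes_apply _ _ _ _
  rw [CommRingCat.hom_comp, RingHom.comp_apply, h3, ← h2]
  exact h1.symm

end Core

section Dom
variable (k : Type u) [Field k] {C : Scheme.{u}} [IsIntegral C] [Algebra k C.functionField]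

open P1 in
/-- the preimage of the standard chart `D₊(X₀)` is the domain of definition of `f` -/
theorem mem_preimage_stdOpen_iff (f : C.functionField) (hf : Transcendental k f)
    (φ : C ⟶ CohB1.ProjSpace 1 k)
    (hu : φ (genericPoint C) = genericPoint (CohB1.ProjSpace 1 k))
    (hφ : ((CohB1.ProjSpace 1 k).presheaf.stalkSpecializes (specializes_of_eq hu) ≫
          φ.stalkMap (genericPoint C)).hom = P1.funFieldHom k f hf) (q : C) :
    φ q ∈ stdOpen k 0 ↔ f ∈ Set.range (algebraMap (C.presheaf.stalk q) C.functionField) := by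
  have hX0 : ∀ h : genericPoint (CohB1.ProjSpace 1 k) ∈ stdOpen k 0,
      P1.funFieldHom k f hf (((CohB1.ProjSpace 1 k).presheaf.germ (stdOpen k 0)
        (genericPoint (CohB1.ProjSpace 1 k)) h).hom (coord k 0 1)) = f := fun _ =>
    P1.funFieldHom_X k f hf
  constructor
  · intro hq
    refine ⟨(φ.stalkMap q).hom (((CohB1.ProjSpace 1 k).presheaf.germ (stdOpen k 0) (φ q) hq).hom
      (coord k 0 1)), ?_⟩
    rw [algebraMap_stalkMap_germ φ hu q (stdOpen k 0) hq (coord k 0 1), hφ]
    exact hX0 _
  · rintro ⟨a, ha⟩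
    by_contra hq
    have hq1 : φ q ∈ stdOpen k 1 := by
      obtain ⟨i, hi⟩ := exists_mem_stdOpen k (φ q)
      fin_cases i
      · exact absurd hi hq
      · exact hi
    set b := (φ.stalkMap q).hom (((CohB1.ProjSpace 1 k).presheaf.germ (stdOpen k 1) (φ q) hq1).hom
      (coord k 1 0)) with hb
    have hbK : algebraMap (C.presheaf.stalk q) C.functionField b =
        P1.funFieldHom k f hf (((CohB1.ProjSpace 1 k).presheaf.germ (stdOpen k 1)
          (genericPoint (CohB1.ProjSpace 1 k)) (genericPoint_mem_of_mem hq1)).hom (coord k 1 0)) := by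
      rw [hb, algebraMap_stalkMap_germ φ hu q (stdOpen k 1) hq1 (coord k 1 0), hφ]
    have hmul : algebraMap (C.presheaf.stalk q) C.functionField (a * b) = 1 := by
      rw [map_mul, ha, hbK]
      calc f * P1.funFieldHom k f hf (((CohB1.ProjSpace 1 k).presheaf.germ (stdOpen k 1)
            (genericPoint (CohB1.ProjSpace 1 k)) (genericPoint_mem_of_mem hq1)).hom (coord k 1 0))
          = P1.funFieldHom k f hf (((CohB1.ProjSpace 1 k).presheaf.germ (stdOpen k 0)
            (genericPoint (CohB1.ProjSpace 1 k)) (genericPoint_mem_stdOpen k 0)).hom (coord k 0 1)) *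
            P1.funFieldHom k f hf (((CohB1.ProjSpace 1 k).presheaf.germ (stdOpen k 1)
            (genericPoint (CohB1.ProjSpace 1 k)) (genericPoint_mem_of_mem hq1)).hom (coord k 1 0)) := by
            rw [hX0 (genericPoint_mem_stdOpen k 0)]
        _ = 1 := by rw [← map_mul, germ_coord_mul, map_one]
    have hab : a * b = 1 := by
      apply IsFractionRing.injective (C.presheaf.stalk q) C.functionField
      rw [hmul, map_one]
    have hbu : IsUnit b := IsUnit.of_mul_eq_one a (by rw [mul_comm]; exact hab)
    have hgu : IsUnit (((CohB1.ProjSpace 1 k).presheaf.germ (stdOpen k 1) (φ q) hq1).hom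
        (coord k 1 0)) := by
      have : IsLocalHom (φ.stalkMap q).hom := inferInstance
      exact (isUnit_map_iff (φ.stalkMap q).hom _).mp hbu
    have hmem : φ q ∈ (CohB1.ProjSpace 1 k).basicOpen (coord k 1 0) :=
      ((CohB1.ProjSpace 1 k).mem_basicOpen (coord k 1 0) (φ q) hq1).mpr hgu
    exact hq (basicOpen_coord_le k 1 0 hmem)

end Dom

attribute [local instance] Curv2.stalkAlgebra

section Phi
variable (k : Type u) [Field k] (C : Scheme.{u}) [C.Over (Spec (CommRingCat.of k))]
  [LocallyOfFiniteType (C ↘ Spec (CommRingCat.of k))] [QuasiCompact (C ↘ Spec (CommRingCat.of k))]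
  [IsSeparated (C ↘ Spec (CommRingCat.of k))] [IsIntegral C]

theorem exists_morphism_P1
    (hcurve : ∀ x : C, IsClosed ({x} : Set C) → ringKrullDim (C.presheaf.stalk x) = 1)
    (hnorm : Pi1.IsNormalScheme C) (f : C.functionField) (hf : Transcendental k f) :
    ∃ φ : C ⟶ CohB1.ProjSpace 1 k,
      φ ≫ CohB1.ProjSpace.toSpec 1 k = C ↘ Spec (CommRingCat.of k) ∧
      ∃ hu : φ (genericPoint C) = genericPoint (CohB1.ProjSpace 1 k),
        ((CohB1.ProjSpace 1 k).presheaf.stalkSpecializes (specializes_of_eq hu) ≫
          φ.stalkMap (genericPoint C)).hom = P1.funFieldHom k f hf := by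
  haveI hprop : IsProper ((CohB1.ProjSpace 1 k) ↘ Spec (CommRingCat.of k)) :=
    Groth.Agent.S9705.isProper_toSpec 1 k
  let ψ : (CohB1.ProjSpace 1 k).functionField →ₐ[k] C.functionField :=
    { P1.funFieldHom k f hf with
      commutes' := fun c => P1.funFieldHom_algebraMap k f hf c }
  obtain ⟨φ, ⟨h1, hu, h2⟩, -⟩ := Groth.Agent.S4445.result k C (CohB1.ProjSpace 1 k) hcurve hnorm
    (P1.ringKrullDim_stalk_of_isClosed k) ψ
  exact ⟨φ, h1, hu, h2⟩

end Phi

section Fin
variable (k : Type u) [Field k] (X : Scheme.{u}) [X.Over (Spec (CommRingCat.of k))]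
  [IsProper (X ↘ Spec (CommRingCat.of k))] [IsIntegral X]

theorem isFinite_of_generic
    (hcurve : ∀ x : X, IsClosed ({x} : Set X) → ringKrullDim (X.presheaf.stalk x) = 1)
    (φ : X ⟶ CohB1.ProjSpace 1 k)
    (hφ : φ ≫ CohB1.ProjSpace.toSpec 1 k = X ↘ Spec (CommRingCat.of k))
    (hu : φ (genericPoint X) = genericPoint (CohB1.ProjSpace 1 k)) : IsFinite φ := by
  haveI hprop : IsProper (CohB1.ProjSpace.toSpec 1 k) :=
    Groth.Agent.S9705.isProper_toSpec 1 k
  haveI : IsProper (φ ≫ CohB1.ProjSpace.toSpec 1 k) := by rw [hφ]; infer_instance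
  haveI : IsProper φ := IsProper.of_comp φ (CohB1.ProjSpace.toSpec 1 k)
  have hdom : IsDominant φ := by
    constructor
    rw [DenseRange, dense_iff_closure_eq]
    apply Set.eq_univ_of_univ_subset
    rw [← (genericPoint_spec (CohB1.ProjSpace 1 k)).def]
    apply closure_mono
    rintro _ rfl
    exact ⟨genericPoint X, hu⟩
  have hfib := (CurveFib.isDominant_iff_finite_fibres k (X ↘ Spec (CommRingCat.of k))
    (CohB1.ProjSpace.toSpec 1 k) hcurve (P1.ringKrullDim_stalk_of_isClosed k) φ hφ).mp hdom
  haveI : LocallyQuasiFinite φ := LocallyQuasiFinite.of_finite_preimage_singleton φ hfib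
  exact IsFinite.of_isProper_of_locallyQuasiFinite φ

end Fin

end Groth.Agent.Lib.Helper21.CurveRiem
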