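import Groth.Agent.Lib.Helper21.KA10
import Mathlib.FieldTheory.IntermediateField.Adjoin.Algebra
import Mathlib.FieldTheory.IntermediateField.Adjoin.Basic
import Mathlib.RingTheory.Polynomial.Basic
import Mathlib.Algebra.Polynomial.FieldDivision
import Mathlib.RingTheory.Localization.Integral

/-!
# An abstract Riemann-type existence theorem

`K/k` a field extension, `t ∈ K` with `K` finite over `k(t)`, finitely many `ℤᵐ⁰`-valued
valuations `w i` of `K`, trivial on `k`, with `1 < w i t` (the "poles of `t`"), and a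
`k`-subalgebra `B ∋ t` containing the integral closure of `k[t]` (the functions regular away from
the poles of `t`).  If the valuation ring of `w i₀` is not contained in any other, there is
`y ∈ B` with a pole at `i₀` and regular at all other `w j`.
-/

set_option autoImplicit false
set_option linter.style.haveILetI false
universe u
open scoped WithZero
open Polynomial

namespace Groth.Agent.Lib.Helper21.Riemann

section D
variable {k K : Type*} [Field k] [Field K] [Algebra k K] {Γ : Type*}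
  [LinearOrderedCommGroupWithZero Γ] (w : Valuation K Γ)

theorem val_algebraMap_eq_one (hk : ∀ c : k, w (algebraMap k K c) ≤ 1) {c : k} (hc : c ≠ 0) :
    w (algebraMap k K c) = 1 := by
  refine le_antisymm (hk c) ?_
  have h1 : w (algebraMap k K c) * w (algebraMap k K c⁻¹) = 1 := by
    rw [← map_mul, ← map_mul, mul_inv_cancel₀ hc, map_one, map_one]
  have h2 := hk c⁻¹
  by_contra hlt
  rw [not_le] at hlt
  have : w (algebraMap k K c) * w (algebraMap k K c⁻¹) < 1 := by
    calc w (algebraMap k K c) * w (algebraMap k K c⁻¹) ≤ w (algebraMap k K c) * 1 :=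
          mul_le_mul_right h2 _
      _ = w (algebraMap k K c) := mul_one _
      _ < 1 := hlt
  rw [h1] at this
  exact lt_irrefl _ this

theorem val_aeval_le_one (hk : ∀ c : k, w (algebraMap k K c) ≤ 1) {u : K} (hu : w u ≤ 1)
    (p : k[X]) : w (aeval u p) ≤ 1 := by
  rw [aeval_eq_sum_range]
  refine Valuation.map_sum_le _ fun i _ => ?_
  rw [Algebra.smul_def, map_mul, map_pow]
  exact mul_le_one' (hk _) (pow_le_one₀ zero_le hu)

theorem val_aeval_eq_pow (hk : ∀ c : k, w (algebraMap k K c) ≤ 1) {t : K} (ht : 1 < w t)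
    {p : k[X]} (hp : p ≠ 0) : w (aeval t p) = w t ^ p.natDegree := by
  rw [aeval_eq_sum_range, Finset.sum_range_succ]
  have hlc : p.coeff p.natDegree ≠ 0 := by
    rwa [Polynomial.coeff_natDegree, Ne, Polynomial.leadingCoeff_eq_zero]
  have htop : w (p.coeff p.natDegree • t ^ p.natDegree) = w t ^ p.natDegree := by
    rw [Algebra.smul_def, map_mul, map_pow, val_algebraMap_eq_one w hk hlc, one_mul]
  have hpos : w t ^ p.natDegree ≠ 0 := pow_ne_zero _ (ne_of_gt (lt_trans zero_lt_one ht))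
  have hlow : w (∑ i ∈ Finset.range p.natDegree, p.coeff i • t ^ i) < w t ^ p.natDegree := by
    refine Valuation.map_sum_lt _ hpos fun i hi => ?_
    rw [Algebra.smul_def, map_mul, map_pow]
    calc w (algebraMap k K (p.coeff i)) * w t ^ i ≤ 1 * w t ^ i := mul_le_mul_left (hk _) _
      _ = w t ^ i := one_mul _
      _ < w t ^ p.natDegree := pow_lt_pow_right₀ ht (Finset.mem_range.mp hi)
  rw [← htop] at hlow ⊢
  exact Valuation.map_add_eq_of_lt_right _ hlow

theorem exists_poly_approx {ι : Type*} (w : ι → Valuation K Γ)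
    (hk : ∀ i (c : k), w i (algebraMap k K c) ≤ 1) {t : K} (ht : ∀ i, 1 < w i t)
    (c : K) (hc : c ∈ IntermediateField.adjoin k {t}) :
    ∃ q : k[X], ∀ i, w i (c - aeval t q) ≤ 1 := by
  obtain ⟨r, s, rfl⟩ := (IntermediateField.mem_adjoin_simple_iff k _).mp hc
  by_cases hs : s = 0
  · refine ⟨0, fun i => ?_⟩
    simp [hs]
  refine ⟨r / s, fun i => ?_⟩
  have hst : aeval t s ≠ 0 := by
    intro h0
    have := val_aeval_eq_pow (w i) (hk i) (ht i) hs
    rw [h0, map_zero] at this
    exact pow_ne_zero _ (ne_of_gt (lt_trans zero_lt_one (ht i))) this.symm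
  have hdiv : aeval t r = aeval t s * aeval t (r / s) + aeval t (r % s) := by
    rw [← map_mul, ← map_add, EuclideanDomain.div_add_mod r s]
  have heq : aeval t r / aeval t s - aeval t (r / s) = aeval t (r % s) / aeval t s := by
    rw [eq_div_iff hst, sub_mul, div_mul_cancel₀ _ hst, hdiv]
    ring
  rw [heq]
  by_cases hm : r % s = 0
  · simp [hm]
  rw [map_div₀, val_aeval_eq_pow (w i) (hk i) (ht i) hm, val_aeval_eq_pow (w i) (hk i) (ht i) hs]
  have hdeg : (r % s).natDegree ≤ s.natDegree :=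
    Polynomial.natDegree_le_natDegree (Polynomial.degree_mod_lt r hs).le
  have hpos : (0 : Γ) < w i t ^ s.natDegree := pow_pos (lt_trans zero_lt_one (ht i)) _
  rw [div_le_one₀ hpos]
  exact pow_le_pow_right₀ (ht i).le hdeg

end D

section Main
variable {k K : Type u} [Field k] [Field K] [Algebra k K]

open IntermediateField.algebraAdjoinAdjoin in
theorem exists_mul_mem (t : K) (B : Subalgebra k K)
    (hB : ∀ x : K, IsIntegral (Algebra.adjoin k {t}) x → x ∈ B)
    [Algebra.IsAlgebraic (IntermediateField.adjoin k {t}) K] (b : K) :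
    ∃ β : K, β ≠ 0 ∧ β ∈ IntermediateField.adjoin k {t} ∧ β * b ∈ B := by
  have hb : IsAlgebraic (IntermediateField.adjoin k {t}) b := Algebra.IsAlgebraic.isAlgebraic b
  have hb' : IsAlgebraic (Algebra.adjoin k {t}) b :=
    (IsFractionRing.isAlgebraic_iff (Algebra.adjoin k {t}) (IntermediateField.adjoin k {t}) K).mpr hb
  obtain ⟨y, hy0, hy⟩ := hb'.exists_integral_multiple
  refine ⟨(y : K), ?_, ?_, ?_⟩
  · intro h0
    exact hy0 (Subtype.ext h0)
  · exact IntermediateField.algebra_adjoin_le_adjoin k {t} y.2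
  · exact hB _ hy

/-- the `k`-submodule of elements integral at all `w i` -/
def intSub {ι : Type*} (w : ι → Valuation K ℤᵐ⁰)
    (hk : ∀ i (c : k), w i (algebraMap k K c) ≤ 1) : Submodule k K where
  carrier := {x | ∀ i, w i x ≤ 1}
  add_mem' := fun ha hb i => (Valuation.map_add _ _ _).trans (max_le (ha i) (hb i))
  zero_mem' := fun i => by simp
  smul_mem' := fun c x hx i => by
    rw [Algebra.smul_def, map_mul]; exact mul_le_one' (hk i c) (hx i)

theorem mem_intSub {ι : Type*} (w : ι → Valuation K ℤᵐ⁰)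
    (hk : ∀ i (c : k), w i (algebraMap k K c) ≤ 1) (x : K) :
    x ∈ intSub w hk ↔ ∀ i, w i x ≤ 1 := Iff.rfl

theorem exists_pow_bound {ι : Type*} [Finite ι] (w : ι → Valuation K ℤᵐ⁰) (t : K)
    (ht : ∀ i, 1 < w i t) (s : Finset K) : ∃ N : ℕ, ∀ i, ∀ b ∈ s, w i b ≤ w i t ^ N := by
  classical
  cases nonempty_fintype ι
  have h : ∀ p : ι × K, ∃ N : ℕ, ∀ n, N ≤ n → w p.1 p.2 < w p.1 t ^ n := fun p =>
    KA.exists_forall_lt_pow (w p.1 t) (w p.1 p.2) (ht p.1)
  choose Nf hNf using h
  refine ⟨(Finset.univ ×ˢ s).sup Nf, fun i b hb => ?_⟩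
  refine (hNf (i, b) _ ?_).le
  exact Finset.le_sup (f := Nf) (Finset.mem_product.mpr ⟨Finset.mem_univ i, hb⟩)

/-- spanning set inside `B` -/
theorem exists_spanning_in (t : K) (B : Subalgebra k K)
    (hB : ∀ x : K, IsIntegral (Algebra.adjoin k {t}) x → x ∈ B)
    [Module.Finite (IntermediateField.adjoin k {t}) K] :
    ∃ s : Finset K, (∀ b ∈ s, b ∈ B) ∧
      Submodule.span (IntermediateField.adjoin k {t}) (s : Set K) = ⊤ := by
  classical
  haveI : Algebra.IsAlgebraic (IntermediateField.adjoin k {t}) K :=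
    Algebra.IsAlgebraic.of_finite _ _
  obtain ⟨s₀, hs₀⟩ := (Module.Finite.fg_top : (⊤ : Submodule (IntermediateField.adjoin k {t}) K).FG)
  choose β hβ0 hβF hβB using exists_mul_mem t B hB
  refine ⟨s₀.image (fun b => β b * b), ?_, ?_⟩
  · intro b hb
    obtain ⟨b₀, -, rfl⟩ := Finset.mem_image.mp hb
    exact hβB b₀
  · rw [eq_top_iff, ← hs₀, Submodule.span_le]
    intro b hb
    have h1 : β b * b ∈ Submodule.span (IntermediateField.adjoin k {t})
        ((s₀.image (fun b => β b * b) : Finset K) : Set K) :=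
      Submodule.subset_span (Finset.mem_coe.mpr (Finset.mem_image_of_mem _ hb))
    have h2 := Submodule.smul_mem _ (⟨(β b)⁻¹, inv_mem (hβF b)⟩ : IntermediateField.adjoin k {t}) h1
    have h3 : (⟨(β b)⁻¹, inv_mem (hβF b)⟩ : IntermediateField.adjoin k {t}) • (β b * b) = b := by
      change (β b)⁻¹ * (β b * b) = b
      rw [← mul_assoc, inv_mul_cancel₀ (hβ0 b), one_mul]
    rw [h3] at h2
    exact h2

theorem exists_decomp {ι : Type*} [Finite ι] [Nonempty ι] (w : ι → Valuation K ℤᵐ⁰)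
    (hk : ∀ i (c : k), w i (algebraMap k K c) ≤ 1) (t : K) (ht : ∀ i, 1 < w i t)
    (B : Subalgebra k K) (htB : t ∈ B)
    (s : Finset K) (hsB : ∀ b ∈ s, b ∈ B)
    (hs : Submodule.span (IntermediateField.adjoin k {t}) (s : Set K) = ⊤) :
    ∃ G : Finset K,
      Subalgebra.toSubmodule B ⊔ intSub w hk ⊔ Submodule.span k (G : Set K) = ⊤ := by
  classical
  obtain ⟨N, hN⟩ := exists_pow_bound w t ht s
  have ht0 : t ≠ 0 := by
    intro h0
    obtain ⟨i⟩ := ‹Nonempty ι›
    have := ht i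
    rw [h0, map_zero] at this
    exact absurd this (not_lt.mpr zero_le_one)
  set G : Finset K := (Finset.range (N + 1) ×ˢ s).image (fun p => (t⁻¹) ^ p.1 * p.2) with hG
  refine ⟨G, ?_⟩
  -- monomial claim
  have hM : ∀ q : k[X], ∀ b ∈ s, (t⁻¹) ^ N * aeval t q * b ∈
      Subalgebra.toSubmodule B ⊔ Submodule.span k (G : Set K) := by
    intro q b hb
    induction q using Polynomial.induction_on' with
    | add p q hp hq =>
      rw [map_add, mul_add, add_mul]
      exact Submodule.add_mem _ hp hq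
    | monomial m a =>
      rw [Polynomial.aeval_monomial, ← Algebra.smul_def, mul_smul_comm, smul_mul_assoc]
      refine Submodule.smul_mem _ _ ?_
      by_cases hmN : N ≤ m
      · refine Submodule.mem_sup_left ?_
        have h1 : (t⁻¹) ^ N * t ^ m = t ^ (m - N) := by
          rw [inv_pow, ← Nat.sub_add_cancel hmN, pow_add, Nat.add_sub_cancel]
          field_simp
        rw [h1]
        exact B.mul_mem (B.pow_mem htB _) (hsB b hb)
      · refine Submodule.mem_sup_right (Submodule.subset_span ?_)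
        rw [not_le] at hmN
        have h1 : (t⁻¹) ^ N * t ^ m = (t⁻¹) ^ (N - m) := by
          rw [inv_pow, inv_pow, ← Nat.sub_add_cancel hmN.le, pow_add, Nat.add_sub_cancel]
          field_simp
        rw [h1, hG, Finset.mem_coe, Finset.mem_image]
        exact ⟨(N - m, b), Finset.mem_product.mpr
          ⟨Finset.mem_range.mpr (Nat.lt_succ_of_le (Nat.sub_le _ _)), hb⟩, rfl⟩
  rw [eq_top_iff]
  intro x _
  have hx : t ^ N * x ∈ Submodule.span (IntermediateField.adjoin k {t}) (s : Set K) := by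
    rw [hs]; trivial
  obtain ⟨f, -, hf⟩ := Submodule.mem_span_finset.mp hx
  have hq : ∀ b : K, ∃ q : k[X], ∀ i, w i ((f b : K) - aeval t q) ≤ 1 := fun b =>
    exists_poly_approx w hk ht _ (f b).2
  choose q hq using hq
  have hxeq : x = ∑ b ∈ s, ((t⁻¹) ^ N * ((f b : K) - aeval t (q b)) * b) +
      ∑ b ∈ s, ((t⁻¹) ^ N * aeval t (q b) * b) := by
    rw [← Finset.sum_add_distrib]
    have h2 : ∀ b ∈ s, (t⁻¹) ^ N * ((f b : K) - aeval t (q b)) * b + (t⁻¹) ^ N * aeval t (q b) * b
        = (t⁻¹) ^ N * (f b • b) := by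
      intro b _
      change _ = (t⁻¹) ^ N * ((f b : K) * b)
      ring
    rw [Finset.sum_congr rfl h2, ← Finset.mul_sum, hf, ← mul_assoc, inv_pow,
      inv_mul_cancel₀ (pow_ne_zero _ ht0), one_mul]
  rw [hxeq]
  have hS : ∑ b ∈ s, ((t⁻¹) ^ N * ((f b : K) - aeval t (q b)) * b) ∈ intSub w hk := by
    refine Submodule.sum_mem _ fun b hb => ?_
    rw [mem_intSub]
    intro i
    rw [map_mul, map_mul, map_pow, map_inv₀]
    have hpos : (0 : ℤᵐ⁰) < w i t ^ N := pow_pos (lt_trans zero_lt_one (ht i)) _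
    calc (w i t)⁻¹ ^ N * w i ((f b : K) - aeval t (q b)) * w i b
        ≤ (w i t)⁻¹ ^ N * 1 * w i t ^ N := by
          refine mul_le_mul' (mul_le_mul_right (hq b i) _) (hN i b hb)
      _ = 1 := by
          rw [mul_one, inv_pow, inv_mul_cancel₀ hpos.ne']
  have hBE : ∑ b ∈ s, ((t⁻¹) ^ N * aeval t (q b) * b) ∈
      Subalgebra.toSubmodule B ⊔ Submodule.span k (G : Set K) :=
    Submodule.sum_mem _ fun b hb => hM (q b) b hb
  obtain ⟨y, hy, e, he, hye⟩ := Submodule.mem_sup.mp hBE
  rw [← hye, ← add_assoc, add_comm _ y]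
  exact Submodule.add_mem _ (Submodule.mem_sup_left (Submodule.add_mem _ (Submodule.mem_sup_left hy) (Submodule.mem_sup_right hS))) (Submodule.mem_sup_right he)


theorem exists_pole_only_at {ι : Type*} [Finite ι] (w : ι → Valuation K ℤᵐ⁰) (i₀ : ι)
    (hk : ∀ i (c : k), w i (algebraMap k K c) ≤ 1) (t : K) (ht : ∀ i, 1 < w i t)
    (hind : ∀ j, j ≠ i₀ → ∃ a, w i₀ a ≤ 1 ∧ 1 < w j a)
    (B : Subalgebra k K) (htB : t ∈ B)
    (hB : ∀ x : K, IsIntegral (Algebra.adjoin k {t}) x → x ∈ B)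
    [Module.Finite (IntermediateField.adjoin k {t}) K] :
    ∃ y ∈ B, (∀ j, j ≠ i₀ → w j y ≤ 1) ∧ 1 < w i₀ y := by
  classical
  haveI : Nonempty ι := ⟨i₀⟩
  cases nonempty_fintype ι
  obtain ⟨s, hsB, hs⟩ := exists_spanning_in t B hB
  obtain ⟨G, hG⟩ := exists_decomp w hk t ht B htB s hsB hs
  -- the element `u`
  obtain ⟨x, hxA, hx0, hx⟩ := KA.exists_forall_one_lt_valuation (w i₀).integer
    (Finset.univ.erase i₀) w (fun j hj => by
      obtain ⟨a, ha1, ha2⟩ := hind j (Finset.ne_of_mem_erase hj)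
      exact ⟨a, (Valuation.mem_integer_iff _ _).mpr ha1, ha2⟩)
  have hxi₀ : w i₀ x ≤ 1 := (Valuation.mem_integer_iff _ _).mp hxA
  have hxj : ∀ j, j ≠ i₀ → 1 < w j x := fun j hj =>
    hx j (Finset.mem_erase.mpr ⟨hj, Finset.mem_univ j⟩)
  have hM : ∀ j : {j : ι // j ≠ i₀}, ∃ N : ℕ, ∀ n, N ≤ n → w j.1 t < w j.1 x ^ n := fun j =>
    KA.exists_forall_lt_pow (w j.1 x) (w j.1 t) (hxj j.1 j.2)
  choose Nf hNf using hM
  set M : ℕ := Finset.univ.sup Nf with hMdef
  set u : K := t / x ^ M with hu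
  have hwx0 : ∀ i, w i x ≠ 0 := fun i => (Valuation.ne_zero_iff _).mpr hx0
  have hu0 : 1 < w i₀ u := by
    rw [hu, map_div₀, map_pow]
    have hpos : (0 : ℤᵐ⁰) < w i₀ x ^ M := pow_pos (zero_lt_iff.mpr (hwx0 i₀)) _
    refine lt_of_lt_of_le (ht i₀) ?_
    rw [le_div_iff₀ hpos]
    exact mul_le_of_le_one_right' (pow_le_one₀ zero_le hxi₀)
  have huj : ∀ j, j ≠ i₀ → w j u ≤ 1 := by
    intro j hj
    rw [hu, map_div₀, map_pow]
    have hpos : (0 : ℤᵐ⁰) < w j x ^ M := pow_pos (zero_lt_iff.mpr (hwx0 j)) _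
    rw [div_le_one₀ hpos]
    exact (hNf ⟨j, hj⟩ M (Finset.le_sup (f := Nf) (Finset.mem_univ _))).le
  -- the finite-dimensional quotient
  set P : Submodule k K := Subalgebra.toSubmodule B ⊔ intSub w hk with hP
  have hfinQ : Module.Finite k (K ⧸ P) := by
    haveI : Module.Finite k (Submodule.span k (G : Set K)) :=
      Module.Finite.span_of_finite k (Finset.finite_toSet G)
    refine Module.Finite.of_surjective (P.mkQ.comp (Submodule.span k (G : Set K)).subtype) ?_
    intro z
    obtain ⟨x, rfl⟩ := P.mkQ_surjective z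
    have hx : x ∈ P ⊔ Submodule.span k (G : Set K) := by rw [hG]; trivial
    obtain ⟨y, hy, e, he, rfl⟩ := Submodule.mem_sup.mp hx
    refine ⟨⟨e, he⟩, ?_⟩
    simp only [LinearMap.comp_apply, Submodule.subtype_apply, map_add]
    have h0 : P.mkQ y = 0 := (Submodule.Quotient.mk_eq_zero P).mpr hy
    rw [h0, zero_add]
  set Φ : k[X] →ₗ[k] K ⧸ P :=
    P.mkQ.comp ((aeval u).toLinearMap.comp (LinearMap.mulLeft k (X : k[X]))) with hΦ
  have hninj : ¬ Function.Injective Φ := by
    intro hinj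
    exact Polynomial.not_finite (R := k) (Module.Finite.of_injective Φ hinj)
  obtain ⟨p, hp0, hpΦ⟩ : ∃ p : k[X], p ≠ 0 ∧ Φ p = 0 := by
    by_contra hcon
    push Not at hcon
    apply hninj
    rw [injective_iff_map_eq_zero]
    intro p hp
    by_contra hp0
    exact hcon p hp0 hp
  have hv : aeval u (X * p) ∈ P := by
    rw [← Submodule.Quotient.mk_eq_zero]
    exact hpΦ
  obtain ⟨y, hy, z, hz, hyz⟩ := Submodule.mem_sup.mp hv
  have hXp : X * p ≠ 0 := mul_ne_zero Polynomial.X_ne_zero hp0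
  have hv0 : 1 < w i₀ (aeval u (X * p)) := by
    rw [val_aeval_eq_pow (w i₀) (hk i₀) hu0 hXp]
    refine one_lt_pow₀ hu0 ?_
    rw [Polynomial.natDegree_X_mul hp0]
    exact Nat.succ_ne_zero _
  have hvj : ∀ j, j ≠ i₀ → w j (aeval u (X * p)) ≤ 1 := fun j hj =>
    val_aeval_le_one (w j) (hk j) (huj j hj) _
  have hyeq : y = aeval u (X * p) - z := by rw [← hyz]; ring
  refine ⟨y, hy, ?_, ?_⟩
  · intro j hj
    rw [hyeq]
    exact (Valuation.map_sub _ _ _).trans (max_le (hvj j hj) (hz j))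
  · rw [hyeq, Valuation.map_sub_eq_of_lt_left _ (lt_of_le_of_lt (hz i₀) hv0)]
    exact hv0

end Main

end Groth.Agent.Lib.Helper21.Riemann
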