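import Groth.Agent.Lib.Helper21.CurveRiem1
import Groth.Agent.Lib.Helper21.Riemann1
import Groth.Agent.Lib.Helper21.CurveCompl2

/-!
# Riemann-type existence of rational functions on a normal proper curve
-/

set_option autoImplicit false
set_option linter.style.haveILetI false
set_option linter.unusedSectionVars false
universe u
open AlgebraicGeometry CategoryTheory Limits TopologicalSpace
open scoped WithZero

namespace Groth.Agent.Lib.Helper21.CurveRiem

attribute [local instance] Curv2.stalkAlgebra

section Tower
variable (k : Type u) [Field k] (C : Scheme.{u}) [C.Over (Spec (CommRingCat.of k))] [IsIntegral C]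

instance isScalarTower_stalk (q : C) : IsScalarTower k (C.presheaf.stalk q) C.functionField := by
  refine IsScalarTower.of_algebraMap_eq fun c => ?_
  rw [CurveVal.algebraMap_stalk_functionField_eq]
  have hsp : genericPoint C ⤳ q := (genericPoint_spec C).specializes (Set.mem_univ q)
  exact (TopCat.Presheaf.germ_stalkSpecializes_apply C.presheaf (U := ⊤) (y := q) trivial hsp
    (Coh.toGlobal (C ↘ Spec (CommRingCat.of k)) c)).symm

theorem algebraMap_mem_range (q : C) (c : k) :
    algebraMap k C.functionField c ∈ Set.range (algebraMap (C.presheaf.stalk q) C.functionField) :=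
  ⟨algebraMap k (C.presheaf.stalk q) c, (IsScalarTower.algebraMap_apply k _ _ c).symm⟩

/-- an element of the function field not in a normal local ring is transcendental over `k` -/
theorem transcendental_of_notMem_range (q : C) (hq : IsIntegrallyClosed (C.presheaf.stalk q))
    (x : C.functionField)
    (hx : x ∉ Set.range (algebraMap (C.presheaf.stalk q) C.functionField)) :
    Transcendental k x := by
  intro halg
  apply hx
  have h1 : IsIntegral k x := halg.isIntegral
  have h2 : IsIntegral (C.presheaf.stalk q) x := h1.tower_top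
  exact (IsIntegrallyClosed.isIntegral_iff (R := C.presheaf.stalk q) (K := C.functionField)).mp h2

end Tower

section Val
variable {K : Type*} [Field K] {Γ₀ : Type*} [LinearOrderedCommGroupWithZero Γ₀]

theorem val_le_one_of_isIntegral {R : Type*} [CommRing R] [Algebra R K] (v : Valuation K Γ₀)
    (hR : ∀ r : R, v (algebraMap R K r) ≤ 1) {x : K} (hx : IsIntegral R x) : v x ≤ 1 := by
  obtain ⟨f, hm, hf⟩ := hx
  by_contra hlt
  rw [not_le] at hlt
  by_cases hn : f.natDegree = 0
  · rw [Polynomial.natDegree_eq_zero] at hn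
    obtain ⟨c, rfl⟩ := hn
    have hc : c = 1 := by
      have := hm.leadingCoeff
      rwa [Polynomial.leadingCoeff_C] at this
    rw [hc] at hf
    simp at hf
  simp only [Polynomial.eval₂_eq_sum_range, Finset.sum_range_succ, hm.coeff_natDegree, map_one,
    one_mul, add_eq_zero_iff_eq_neg] at hf
  apply_fun v at hf
  simp only [Valuation.map_neg, map_pow] at hf
  refine absurd hf (ne_of_lt (v.map_sum_lt ?_ ?_))
  · exact pow_ne_zero _ (ne_of_gt (lt_trans zero_lt_one hlt))
  · simp only [Finset.mem_range, map_mul, map_pow]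
    intro i hi
    exact mul_lt_of_le_one_of_lt (hR _) (pow_lt_pow_right₀ hlt hi)

end Val

section RC
variable (k : Type u) [Field k] (C : Scheme.{u}) [C.Over (Spec (CommRingCat.of k))]
  [IsIntegral C]

theorem trdeg_functionField [LocallyOfFiniteType (C ↘ Spec (CommRingCat.of k))]
    [QuasiCompact (C ↘ Spec (CommRingCat.of k))]
    (hcurve : ∀ x : C, IsClosed ({x} : Set C) → ringKrullDim (C.presheaf.stalk x) = 1) :
    Algebra.trdeg k C.functionField = 1 := by
  have h1 := (Groth.Agent.S4442.result k C).mpr hcurve (genericPoint C) (by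
    rw [(genericPoint_spec C).def]
    exact irreducibleComponents_eq_singleton (X := C) ▸ Set.mem_singleton _)
  rw [← h1]
  letI := Curv2.resAlgebra k C (genericPoint C)
  exact (CurveCompl.functionFieldEquiv k C).trdeg_eq

omit [C.Over (Spec (CommRingCat.of k))] in
/-- two closed points of a separated normal curve whose local rings are comparable coincide -/
theorem eq_of_range_subset [IsLocallyNoetherian C] [C.IsSeparated] (hnorm : Pi1.IsNormalScheme C) (p q : C)
    (hp : ringKrullDim (C.presheaf.stalk p) = 1) (hq : ringKrullDim (C.presheaf.stalk q) = 1)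
    (hle : ∀ a : C.functionField, val hnorm p hp a ≤ 1 → val hnorm q hq a ≤ 1) : p = q := by
  -- `m_p ⊆ m_q`
  have hdom : ∀ c : C.functionField, val hnorm p hp c < 1 → val hnorm q hq c < 1 := by
    intro c hc
    by_contra hcq
    have hcq1 : val hnorm q hq c = 1 := le_antisymm (hle c hc.le) (not_lt.mp hcq)
    have hc0 : c ≠ 0 := by
      rintro rfl
      rw [map_zero] at hcq1
      exact zero_ne_one hcq1
    -- then everything is integral at `q`
    have hall : ∀ y : C.functionField, val hnorm q hq y ≤ 1 := by
      intro y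
      have hvc : val hnorm p hp c ≠ 0 := (Valuation.ne_zero_iff _).mpr hc0
      have hγ : 1 < (val hnorm p hp c)⁻¹ := (one_lt_inv₀ (zero_lt_iff.mpr hvc)).mpr hc
      obtain ⟨N, hN⟩ := KA.exists_forall_lt_pow _ (val hnorm p hp y) hγ
      have h1 : val hnorm p hp (c ^ N * y) ≤ 1 := by
        rw [map_mul, map_pow]
        have h0 := (hN N le_rfl).le
        rw [inv_pow] at h0
        have hpos : val hnorm p hp c ^ N ≠ 0 := pow_ne_zero _ hvc
        calc val hnorm p hp c ^ N * val hnorm p hp y
            ≤ val hnorm p hp c ^ N * (val hnorm p hp c ^ N)⁻¹ := mul_le_mul_right h0 _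
          _ = 1 := mul_inv_cancel₀ hpos
      have h2 := hle _ h1
      rwa [map_mul, map_pow, hcq1, one_pow, one_mul] at h2
    -- contradiction: `𝒪_q` is not a field
    haveI := isDVR_stalk hnorm q hq
    obtain ⟨π, hπ⟩ := IsDiscreteValuationRing.exists_irreducible (C.presheaf.stalk q)
    have hπm : π ∈ IsLocalRing.maximalIdeal (C.presheaf.stalk q) :=
      (IsLocalRing.mem_maximalIdeal _).mpr hπ.not_isUnit
    have h3 := (val_algebraMap_lt_one_iff hnorm q hq π).mpr hπm
    have hπ0 : algebraMap (C.presheaf.stalk q) C.functionField π ≠ 0 := by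
      rw [Ne, FaithfulSMul.algebraMap_eq_zero_iff]; exact hπ.ne_zero
    have h4 := hall (algebraMap (C.presheaf.stalk q) C.functionField π)⁻¹
    rw [map_inv₀] at h4
    have h5 : val hnorm q hq (algebraMap (C.presheaf.stalk q) C.functionField π) ≠ 0 :=
      (Valuation.ne_zero_iff _).mpr hπ0
    exact absurd h3 (not_lt.mpr ((inv_le_one₀ (zero_lt_iff.mpr h5)).mp h4))
  -- `𝒪_q ⊆ 𝒪_p`
  have hge : ∀ a : C.functionField, val hnorm q hq a ≤ 1 → val hnorm p hp a ≤ 1 := by
    intro x hx
    by_contra hxp
    rw [not_le] at hxp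
    have hx0 : x ≠ 0 := by
      rintro rfl
      rw [map_zero] at hxp
      exact absurd hxp (not_lt.mpr zero_le_one)
    have h1 : val hnorm p hp x⁻¹ < 1 := by
      rw [map_inv₀]
      exact inv_lt_one_of_one_lt₀ hxp
    have h2 := hdom _ h1
    rw [map_inv₀] at h2
    have h3 : val hnorm q hq x ≠ 0 := (Valuation.ne_zero_iff _).mpr hx0
    have h4 : 1 < val hnorm q hq x := (inv_lt_one₀ (zero_lt_iff.mpr h3)).mp h2
    exact absurd hx (not_le.mpr h4)
  refine CurveVal.eq_of_range_eq (val hnorm p hp).valuationSubring p q ?_ ?_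
  · ext x
    exact val_le_one_iff hnorm p hp x
  · ext x
    rw [← val_le_one_iff hnorm q hq x]
    exact ⟨fun h => hle x h, fun h => hge x h⟩


/-- **Riemann-type existence**: on a normal proper curve there is a rational function with a pole
at a given closed point and regular at all other closed points. -/
theorem exists_pole_only_at [IsProper (C ↘ Spec (CommRingCat.of k))]
    (hcurve : ∀ x : C, IsClosed ({x} : Set C) → ringKrullDim (C.presheaf.stalk x) = 1)
    (hnorm : Pi1.IsNormalScheme C) (p : C) (hp : IsClosed ({p} : Set C)) :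
    ∃ f : C.functionField, f ∉ Set.range (algebraMap (C.presheaf.stalk p) C.functionField) ∧
      ∀ q : C, IsClosed ({q} : Set C) → q ≠ p →
        f ∈ Set.range (algebraMap (C.presheaf.stalk q) C.functionField) := by
  classical
  haveI hLN : IsLocallyNoetherian C :=
    LocallyOfFiniteType.isLocallyNoetherian (C ↘ Spec (CommRingCat.of k))
  haveI hcpt : CompactSpace C :=
    QuasiCompact.compactSpace_of_compactSpace (C ↘ Spec (CommRingCat.of k))
  haveI hNoe : IsNoetherian C := { }
  haveI hsep : C.IsSeparated :=
    (HasAffineProperty.iff_of_isAffine (P := @IsSeparated)).mp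
      (inferInstance : IsSeparated (C ↘ (Spec (CommRingCat.of k))))
  -- the function `t` with a pole at `p`
  haveI := isDVR_stalk hnorm p (hcurve p hp)
  obtain ⟨π, hπ⟩ := IsDiscreteValuationRing.exists_irreducible (C.presheaf.stalk p)
  have hπm : π ∈ IsLocalRing.maximalIdeal (C.presheaf.stalk p) :=
    (IsLocalRing.mem_maximalIdeal _).mpr hπ.not_isUnit
  have hπ0 : algebraMap (C.presheaf.stalk p) C.functionField π ≠ 0 := by
    rw [Ne, FaithfulSMul.algebraMap_eq_zero_iff]; exact hπ.ne_zero
  set t : C.functionField := (algebraMap (C.presheaf.stalk p) C.functionField π)⁻¹ with ht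
  have htp : 1 < val hnorm p (hcurve p hp) t := by
    rw [ht, map_inv₀]
    have h5 : val hnorm p (hcurve p hp) (algebraMap (C.presheaf.stalk p) C.functionField π) ≠ 0 :=
      (Valuation.ne_zero_iff _).mpr hπ0
    exact (one_lt_inv₀ (zero_lt_iff.mpr h5)).mpr
      ((val_algebraMap_lt_one_iff hnorm p (hcurve p hp) π).mpr hπm)
  have htnot : t ∉ Set.range (algebraMap (C.presheaf.stalk p) C.functionField) := by
    rw [← val_le_one_iff hnorm p (hcurve p hp)]
    exact not_le.mpr htp
  have httr : Transcendental k t :=
    transcendental_of_notMem_range k C p (hnorm p).2 t htnot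
  -- the morphism to `ℙ¹` and the set of poles
  obtain ⟨φ, hφ1, hu, hφ2⟩ := exists_morphism_P1 k C hcurve hnorm t httr
  have hdomt : ∀ q : C, φ q ∈ P1.stdOpen k 0 ↔
      t ∈ Set.range (algebraMap (C.presheaf.stalk q) C.functionField) :=
    mem_preimage_stdOpen_iff k t httr φ hu hφ2
  set Poles : Set C := {q | t ∉ Set.range (algebraMap (C.presheaf.stalk q) C.functionField)}
    with hPoles
  have hPeq : Poles = (φ ⁻¹ᵁ P1.stdOpen k 0 : Set C)ᶜ := by
    ext q
    rw [Set.mem_compl_iff]
    exact not_congr (hdomt q).symm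
  have hPcl : IsClosed Poles := by
    rw [hPeq]; exact (φ ⁻¹ᵁ P1.stdOpen k 0).isOpen.isClosed_compl
  have hcoh : ∀ x : C, IsClosed ({x} : Set C) → Order.coheight x = 1 := fun x hx =>
    CurveFib.coheight_eq_one_of_ringKrullDim x (hcurve x hx)
  have hgen : genericPoint C ∉ Poles := by
    intro h
    apply h
    refine ⟨t, ?_⟩
    rw [CurveVal.algebraMap_stalk_functionField_eq]
    simp
  have hPfin : Poles.Finite := by
    refine CurveFib.finite_of_isClosed_of_ne_univ hcoh Poles hPcl ?_
    intro h
    exact hgen (h ▸ Set.mem_univ _)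
  have hPclosed : ∀ q ∈ Poles, IsClosed ({q} : Set C) := by
    intro q hq
    rcases CurveFib.isClosed_singleton_or_eq_genericPoint hcoh q with h | h
    · exact h
    · exact absurd (h ▸ hq) hgen
  -- the valuations at the poles
  haveI : Finite Poles := hPfin.to_subtype
  let w : Poles → Valuation C.functionField ℤᵐ⁰ := fun q =>
    val hnorm q.1 (hcurve q.1 (hPclosed q.1 q.2))
  let i₀ : Poles := ⟨p, htnot⟩
  have hk : ∀ i (c : k), w i (algebraMap k C.functionField c) ≤ 1 := fun i c =>
    (val_le_one_iff hnorm i.1 _ _).mpr (algebraMap_mem_range k C i.1 c)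
  have htw : ∀ i, 1 < w i t := fun i =>
    not_le.mp (fun h => i.2 ((val_le_one_iff hnorm i.1 _ _).mp h))
  have hind : ∀ j, j ≠ i₀ → ∃ a, w i₀ a ≤ 1 ∧ 1 < w j a := by
    intro j hj
    by_contra hcon
    push Not at hcon
    have := eq_of_range_subset C hnorm p j.1 (hcurve p (hPclosed p htnot))
      (hcurve j.1 (hPclosed j.1 j.2)) hcon
    exact hj (Subtype.ext this.symm)
  -- the ring of functions regular away from the poles
  let B : Subalgebra k C.functionField :=
    { carrier := {x | ∀ q : C, IsClosed ({q} : Set C) → q ∉ Poles →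
        x ∈ Set.range (algebraMap (C.presheaf.stalk q) C.functionField)}
      mul_mem' := fun {a b} ha hb q hq hqP => by
        obtain ⟨a', rfl⟩ := ha q hq hqP
        obtain ⟨b', rfl⟩ := hb q hq hqP
        exact ⟨a' * b', map_mul _ _ _⟩
      add_mem' := fun {a b} ha hb q hq hqP => by
        obtain ⟨a', rfl⟩ := ha q hq hqP
        obtain ⟨b', rfl⟩ := hb q hq hqP
        exact ⟨a' + b', map_add _ _ _⟩
      algebraMap_mem' := fun c q _ _ => algebraMap_mem_range k C q c }
  have htB : t ∈ B := fun q _ hqP => not_not.mp hqP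
  have hB : ∀ x : C.functionField, IsIntegral (Algebra.adjoin k {t}) x → x ∈ B := by
    intro x hx q hq hqP
    have htq : t ∈ Set.range (algebraMap (C.presheaf.stalk q) C.functionField) := not_not.mp hqP
    rw [← val_le_one_iff hnorm q (hcurve q hq)]
    refine val_le_one_of_isIntegral (R := Algebra.adjoin k {t}) _ ?_ hx
    rintro ⟨r, hr⟩
    change val hnorm q (hcurve q hq) r ≤ 1
    induction hr using Algebra.adjoin_induction with
    | mem x hx =>
      rw [Set.mem_singleton_iff] at hx
      rw [hx]
      exact (val_le_one_iff hnorm q (hcurve q hq) t).mpr htq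
    | algebraMap c =>
      exact (val_le_one_iff hnorm q (hcurve q hq) _).mpr (algebraMap_mem_range k C q c)
    | add x y _ _ hx hy => exact (Valuation.map_add _ _ _).trans (max_le hx hy)
    | mul x y _ _ hx hy =>
      rw [map_mul]
      exact mul_le_one' hx hy
  haveI hfin : Module.Finite (IntermediateField.adjoin k {t}) C.functionField :=
    P1.finite_of_trdeg_one (CurveCompl.fg_top_functionField k C) (trdeg_functionField k C hcurve)
      (⟨t, IntermediateField.mem_adjoin_simple_self k t⟩ : IntermediateField.adjoin k {t}) httr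
  obtain ⟨y, hyB, hyj, hy0⟩ := Riemann.exists_pole_only_at w i₀ hk t htw hind B htB hB
  refine ⟨y, ?_, ?_⟩
  · rw [← val_le_one_iff hnorm p (hcurve p hp)]
    exact not_le.mpr hy0
  · intro q hq hqp
    by_cases hqP : q ∈ Poles
    · have := hyj ⟨q, hqP⟩ (fun h => hqp (congrArg Subtype.val h))
      exact (val_le_one_iff hnorm q _ _).mp this
    · exact hyB q hq hqP

end RC

end Groth.Agent.Lib.Helper21.CurveRiem
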