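import Groth.Agent.Lib.Helper21.FJ3
import Groth.Agent.Lib.Helper21.BirIso
import Groth.Agent.Lib.Helper6.NormalizationFinite
import Groth.Agent.Lib.Helper6.NormIsoB

/-!
# Normalization of integral schemes locally of finite type over a field
-/

set_option autoImplicit false
set_option linter.style.haveILetI false
universe u
open AlgebraicGeometry CategoryTheory Limits TopologicalSpace

namespace Groth.Agent.Lib.Helper21.VarNorm

open Groth.Agent.Lib.Helper6.GU

/-- Coordinate rings of an integral scheme locally of finite type over a field are N-2. -/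
theorem isN2_sections (k : Type u) [Field k] (X : Scheme.{u}) [X.Over (Spec (CommRingCat.of k))]
    [IsIntegral X] [LocallyOfFiniteType (X ↘ Spec (CommRingCat.of k))] (U : X.Opens)
    (hU : IsAffineOpen U) (hne : Nonempty U) :
    @CAlg.IsN2 Γ(X, U) _ (IsIntegral.component_integral (X := X) U) := by
  have hft : ((X ↘ Spec (CommRingCat.of k)).appLE ⊤ U le_top).hom.FiniteType :=
    (X ↘ Spec (CommRingCat.of k)).finiteType_appLE (isAffineOpen_top _) hU le_top
  let ψ : k →+* Γ(X, U) := ((X ↘ Spec (CommRingCat.of k)).appLE ⊤ U le_top).hom.comp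
    (Scheme.ΓSpecIso (CommRingCat.of k)).inv.hom
  have hsurj : Function.Surjective (Scheme.ΓSpecIso (CommRingCat.of k)).inv.hom :=
    ((ConcreteCategory.isIso_iff_bijective (Scheme.ΓSpecIso (CommRingCat.of k)).inv).mp
      inferInstance).2
  have hψ : ψ.FiniteType := hft.comp (RingHom.FiniteType.of_surjective _ hsurj)
  letI := ψ.toAlgebra
  haveI : Algebra.FiniteType k Γ(X, U) := hψ
  haveI : IsDomain Γ(X, U) := IsIntegral.component_integral (X := X) U
  exact Groth.Agent.Lib.Helper21.FJ.isUniversallyJapanese_field k Γ(X, U) inferInstance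

end Groth.Agent.Lib.Helper21.VarNorm
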