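import Groth.Agent.Lib.Helper21.CurveRiem2
import Groth.Agent.S4455
import Groth.Agent.S4454
import Groth.Agent.S0593
import Groth.Agent.S1585
import Groth.Agent.S2351
import Groth.Agent.Lib.Helper6.NormIsoC

/-!
# Non-proper curves are affine

* `isAffineOpen_of_ne_top`: every proper open subset of a normal proper curve is affine;
* `isAffine_of_not_isProper_of_normal`, `isAffine_of_not_isProper`: an integral separated curve of
  finite type over a field which is not proper is affine.
-/

set_option autoImplicit false
set_option linter.style.haveILetI false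
set_option linter.unusedSectionVars false
universe u
open AlgebraicGeometry CategoryTheory Limits TopologicalSpace
open scoped WithZero

namespace Groth.Agent.Lib.Helper21.CurveRiem

attribute [local instance] Curv2.stalkAlgebra

section Aff
variable (k : Type u) [Field k] (C : Scheme.{u}) [C.Over (Spec (CommRingCat.of k))]
  [IsIntegral C]

theorem range_eq_univ_of_eq (q : C) (hq : q = genericPoint C) :
    Set.range (algebraMap (C.presheaf.stalk q) C.functionField) = Set.univ := by
  subst hq
  apply Set.eq_univ_of_forall
  intro x
  refine ⟨x, ?_⟩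
  rw [CurveVal.algebraMap_stalk_functionField_eq]
  simp

/-- every proper open subset of a normal proper curve is affine -/
theorem isAffineOpen_of_ne_top [IsProper (C ↘ Spec (CommRingCat.of k))]
    (hcurve : ∀ x : C, IsClosed ({x} : Set C) → ringKrullDim (C.presheaf.stalk x) = 1)
    (hnorm : Pi1.IsNormalScheme C) (U : C.Opens) (hU : U ≠ ⊤) : IsAffineOpen U := by
  classical
  by_cases hbot : U = ⊥
  · rw [hbot]; exact isAffineOpen_bot C
  haveI hLN : IsLocallyNoetherian C :=
    LocallyOfFiniteType.isLocallyNoetherian (C ↘ Spec (CommRingCat.of k))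
  haveI hcpt : CompactSpace C :=
    QuasiCompact.compactSpace_of_compactSpace (C ↘ Spec (CommRingCat.of k))
  haveI hNoe : IsNoetherian C := { }
  have hcoh : ∀ x : C, IsClosed ({x} : Set C) → Order.coheight x = 1 := fun x hx =>
    CurveFib.coheight_eq_one_of_ringKrullDim x (hcurve x hx)
  have hgenU : genericPoint C ∈ U := by
    obtain ⟨y, hy⟩ : ∃ y, y ∈ U := by
      by_contra hcon
      push Not at hcon
      exact hbot (Opens.ext (Set.eq_empty_of_forall_notMem hcon))
    exact genericPoint_mem_of_mem hy
  set D : Set C := (U : Set C)ᶜ with hD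
  have hDcl : IsClosed D := U.isOpen.isClosed_compl
  have hDfin : D.Finite := by
    refine CurveFib.finite_of_isClosed_of_ne_univ hcoh D hDcl ?_
    intro h
    have : genericPoint C ∈ D := h ▸ Set.mem_univ _
    exact this hgenU
  have hDne : D.Nonempty := by
    by_contra hcon
    rw [Set.not_nonempty_iff_eq_empty, Set.compl_empty_iff] at hcon
    exact hU (Opens.ext hcon)
  have hclosed : ∀ q ∈ D, IsClosed ({q} : Set C) := by
    intro q hq
    rcases CurveFib.isClosed_singleton_or_eq_genericPoint hcoh q with h | h
    · exact h
    · exact absurd hgenU (h ▸ hq)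
  haveI : Fintype D := hDfin.fintype
  have H : ∀ p : D, ∃ f : C.functionField,
      f ∉ Set.range (algebraMap (C.presheaf.stalk p.1) C.functionField) ∧
      ∀ q : C, IsClosed ({q} : Set C) → q ≠ p.1 →
        f ∈ Set.range (algebraMap (C.presheaf.stalk q) C.functionField) := fun p =>
    exists_pole_only_at k C hcurve hnorm p.1 (hclosed p.1 p.2)
  choose F hF1 hF2 using H
  set f : C.functionField := ∑ p : D, F p with hf
  -- membership in the local rings
  have hmem : ∀ q : C, q ∈ U ↔
      f ∈ Set.range (algebraMap (C.presheaf.stalk q) C.functionField) := by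
    intro q
    rcases CurveFib.isClosed_singleton_or_eq_genericPoint hcoh q with hq | hq
    · by_cases hqD : q ∈ D
      · have hqU : q ∉ U := hqD
        refine iff_of_false hqU ?_
        intro hfq
        apply hF1 ⟨q, hqD⟩
        have h1 : F ⟨q, hqD⟩ = f - ∑ p ∈ Finset.univ.erase (⟨q, hqD⟩ : D), F p := by
          rw [hf, ← Finset.add_sum_erase Finset.univ F (Finset.mem_univ (⟨q, hqD⟩ : D))]
          ring
        rw [h1]
        change _ ∈ ((algebraMap (C.presheaf.stalk q) C.functionField).range : Set C.functionField)
        refine Subring.sub_mem _ hfq (Subring.sum_mem _ fun p hp => ?_)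
        refine hF2 p q hq ?_
        intro h
        exact (Finset.ne_of_mem_erase hp) (Subtype.ext h.symm)
      · have hqU : q ∈ U := not_not.mp hqD
        refine iff_of_true hqU ?_
        change _ ∈ ((algebraMap (C.presheaf.stalk q) C.functionField).range : Set C.functionField)
        refine Subring.sum_mem _ fun p _ => hF2 p q hq ?_
        intro h
        exact hqD (h ▸ p.2)
    · rw [range_eq_univ_of_eq C q hq]
      exact iff_of_true (hq ▸ hgenU) (Set.mem_univ _)
  obtain ⟨p₀, hp₀⟩ := hDne
  have hftr : Transcendental k f :=
    transcendental_of_notMem_range k C p₀ (hnorm p₀).2 f (fun h => hp₀ ((hmem p₀).mpr h))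
  obtain ⟨φ, hφ1, hu, hφ2⟩ := exists_morphism_P1 k C hcurve hnorm f hftr
  haveI : IsFinite φ := isFinite_of_generic k C hcurve φ hφ1 hu
  have hUeq : U = φ ⁻¹ᵁ P1.stdOpen k 0 := by
    ext q
    exact (hmem q).trans (mem_preimage_stdOpen_iff k f hftr φ hu hφ2 q).symm
  rw [hUeq]
  exact (P1.isAffineOpen_stdOpen k 0).preimage φ

end Aff

section B
variable (k : Type u) [Field k] (X : Scheme.{u}) [X.Over (Spec (CommRingCat.of k))]
  [IsIntegral X] [LocallyOfFiniteType (X ↘ Spec (CommRingCat.of k))]
  [QuasiCompact (X ↘ Spec (CommRingCat.of k))] [IsSeparated (X ↘ Spec (CommRingCat.of k))]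

/-- a normal curve which is not proper is affine -/
theorem isAffine_of_not_isProper_of_normal
    (hcurve : ∀ x : X, IsClosed ({x} : Set X) → ringKrullDim (X.presheaf.stalk x) = 1)
    (hnorm : Pi1.IsNormalScheme X) (hnp : ¬ IsProper (X ↘ Spec (CommRingCat.of k))) :
    IsAffine X := by
  obtain ⟨C, sc, j, hCint, hj, hjs, hprop, hnormC, hcurveC⟩ :=
    CurveCompl.exists_completion_of_integral k X (X ↘ Spec (CommRingCat.of k)) hcurve hnorm
  letI : C.Over (Spec (CommRingCat.of k)) := ⟨sc⟩
  haveI : IsProper (C ↘ Spec (CommRingCat.of k)) := hprop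
  have hne : j.opensRange ≠ ⊤ := by
    intro htop
    have hsurj : Surjective j := by
      constructor
      intro y
      have : y ∈ j.opensRange := by rw [htop]; trivial
      exact this
    haveI : IsIso j := (isIso_iff_isOpenImmersion_and_surjective j).mpr ⟨hj, hsurj⟩
    apply hnp
    rw [← hjs]
    infer_instance
  have haff : IsAffineOpen j.opensRange := isAffineOpen_of_ne_top k C hcurveC hnormC _ hne
  haveI : IsAffine (j.opensRange : Scheme.{u}) := haff
  exact IsAffine.of_isIso (Scheme.Hom.isoOpensRange j).hom


/-- **an integral curve which is not proper is affine** -/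
theorem isAffine_of_not_isProper
    (hcurve : ∀ x : X, IsClosed ({x} : Set X) → ringKrullDim (X.presheaf.stalk x) = 1)
    (hnp : ¬ IsProper (X ↘ Spec (CommRingCat.of k))) : IsAffine X := by
  haveI hsep : X.IsSeparated :=
    (HasAffineProperty.iff_of_isAffine (P := @IsSeparated)).mp
      (inferInstance : IsSeparated (X ↘ (Spec (CommRingCat.of k))))
  haveI hqc : QuasiCompact (X.fromSpecStalk (genericPoint X)) :=
    Groth.Agent.Lib.Helper6.NormIso.quasiCompact_of_field_source
      (K := X.functionField) (X.fromSpecStalk (genericPoint X))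
  haveI hqs : QuasiSeparated (X.fromSpecStalk (genericPoint X)) := inferInstance
  obtain ⟨hfin, hdom, -, hI, hN⟩ := Groth.Agent.S1585.result k X
  obtain ⟨-, -, hsurj, -⟩ := Groth.Agent.S2351.result X
  -- the normalization as a curve over `k`
  letI ovN : (Curv2.normalization X).Over (Spec (CommRingCat.of k)) :=
    ⟨Curv2.normalizationι X ≫ (X ↘ Spec (CommRingCat.of k))⟩
  have hov : (Curv2.normalization X) ↘ Spec (CommRingCat.of k) =
      Curv2.normalizationι X ≫ (X ↘ Spec (CommRingCat.of k)) := rfl
  haveI : LocallyOfFiniteType ((Curv2.normalization X) ↘ Spec (CommRingCat.of k)) := by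
    rw [hov]; infer_instance
  haveI : QuasiCompact ((Curv2.normalization X) ↘ Spec (CommRingCat.of k)) := by
    rw [hov]; infer_instance
  haveI : IsSeparated ((Curv2.normalization X) ↘ Spec (CommRingCat.of k)) := by
    rw [hov]; infer_instance
  have hcurveN : ∀ x' : Curv2.normalization X, IsClosed ({x'} : Set (Curv2.normalization X)) →
      ringKrullDim ((Curv2.normalization X).presheaf.stalk x') = 1 := by
    have h := Groth.Agent.S4454.result k X hcurve X.functionField (RingHom.id _)
      (RingHom.Finite.id _) (X.fromSpecStalk (genericPoint X)) (by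
        rw [show CommRingCat.ofHom (RingHom.id X.functionField) = 𝟙 _ from rfl, Spec.map_id,
          Category.id_comp])
    exact h.2.2
  have hnpN : ¬ IsProper ((Curv2.normalization X) ↘ Spec (CommRingCat.of k)) := by
    intro h
    exact hnp ((Groth.Agent.S4455.result k X hcurve).mpr h)
  haveI : IsAffine (Curv2.normalization X) :=
    isAffine_of_not_isProper_of_normal k (Curv2.normalization X) hcurveN hN hnpN
  exact Groth.Agent.S0593.result (Curv2.normalization X) X (Curv2.normalizationι X)

end B

end Groth.Agent.Lib.Helper21.CurveRiem
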