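import Groth.Agent.Lib.Helper21.CurveRiem3
import Groth.Agent.Lib.Helper21.CurveExt2
import Groth.Agent.Lib.Helper21.CurveCompl4
import Groth.Agent.Lib.Helper21.DVRExt5
import Groth.Agent.Lib.Helper29.ToProj4
import Groth.Agent.Lib.Helper29.PA2
import Groth.Agent.Lib.Helper29.VA6
import Groth.Agent.Lib.Helper29.PullTensor

/-!
# Proper integral curves are projective
-/

set_option autoImplicit false
set_option linter.style.haveILetI false
set_option linter.unusedSectionVars false
universe u
open AlgebraicGeometry CategoryTheory Limits TopologicalSpace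
open HomogeneousLocalization MvPolynomial Groth.Agent.Lib.Helper29.QCoh

namespace Groth.Agent.Lib.Helper21.CurveRiem

attribute [local instance] Curv2.stalkAlgebra

section Proj
variable (k : Type u) [Field k] (X : Scheme.{u}) (sX : X ⟶ Spec (CommRingCat.of k)) [IsProper sX]

/-- a scheme proper over `k` with a finite `k`-morphism to `ℙ¹` is projective -/
theorem exists_closedImmersion_of_finite (φ : X ⟶ CohB1.ProjSpace 1 k) [IsFinite φ] :
    ∃ (d : ℕ) (c : X ⟶ CohB1.ProjSpace d k), IsClosedImmersion c ∧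
      c ≫ CohB1.ProjSpace.toSpec d k = sX := by
  have h1 : CohB1.IsAmple (Twist.twist (CohB1.polyGrading 1 k) 1) :=
    isAmple_twist_one_of_cover (projSpace_degree_one_cover 1 k)
  haveI : CompactSpace X := QuasiCompact.compactSpace_of_compactSpace sX
  have h2 : CohB1.IsAmple ((Scheme.Modules.pullback φ).obj (Twist.twist (CohB1.polyGrading 1 k) 1)) :=
    isAmple_pullback_of_isAffineHom φ h1
  have h3 := isRelAmple_of_isAmple sX h2
  obtain ⟨n, j, hj, hjs⟩ := exists_closedImmersion_proj_of_isProper sX h3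
  exact ⟨n, j, hj, hjs⟩

end Proj

section Reg
variable (k : Type u) [Field k] (X : Scheme.{u}) [X.Over (Spec (CommRingCat.of k))]
  [IsIntegral X] [LocallyOfFiniteType (X ↘ Spec (CommRingCat.of k))]
  [QuasiCompact (X ↘ Spec (CommRingCat.of k))] [IsSeparated (X ↘ Spec (CommRingCat.of k))]

include k in
/-- an integral scheme of finite type over a field has a closed point with normal local ring -/
theorem exists_closed_normal_point :
    ∃ x₀ : X, IsClosed ({x₀} : Set X) ∧ IsIntegrallyClosed (X.presheaf.stalk x₀) := by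
  haveI hsep : X.IsSeparated :=
    (HasAffineProperty.iff_of_isAffine (P := @IsSeparated)).mp
      (inferInstance : IsSeparated (X ↘ (Spec (CommRingCat.of k))))
  haveI hqc : QuasiCompact (X.fromSpecStalk (genericPoint X)) :=
    Groth.Agent.Lib.Helper6.NormIso.quasiCompact_of_field_source
      (K := X.functionField) (X.fromSpecStalk (genericPoint X))
  haveI hqs : QuasiSeparated (X.fromSpecStalk (genericPoint X)) := inferInstance
  obtain ⟨hfin, hdom, ⟨V, hVne, hViso⟩, hI, hN⟩ := Groth.Agent.S1585.result k X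
  obtain ⟨-, -, hsurj, -⟩ := Groth.Agent.S2351.result X
  haveI : JacobsonSpace X := LocallyOfFiniteType.jacobsonSpace (X ↘ Spec (CommRingCat.of k))
  obtain ⟨x₀, hx₀V, hx₀c⟩ := nonempty_inter_closedPoints hVne V.isOpen.isLocallyClosed
  obtain ⟨x', rfl⟩ := hsurj.surj x₀
  refine ⟨_, hx₀c, ?_⟩
  have hx' : x' ∈ Curv2.normalizationι X ⁻¹ᵁ V := hx₀V
  have hiso : IsIso ((Curv2.normalizationι X).stalkMap x') := by
    have e := morphismRestrictStalkMap (Curv2.normalizationι X) V ⟨x', hx'⟩
    have h1 : IsIso ((Curv2.normalizationι X ∣_ V).stalkMap ⟨x', hx'⟩) := inferInstance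
    exact ((MorphismProperty.isomorphisms CommRingCat).arrow_mk_iso_iff e).mp h1
  haveI := (hN x').2
  exact IsIntegrallyClosed.of_equiv
    (asIso ((Curv2.normalizationι X).stalkMap x')).commRingCatIsoToRingEquiv.symm

end Reg

section G0
variable (k : Type u) [Field k] {Y : Scheme.{u}} (sX : Y ⟶ Spec (CommRingCat.of k))

/-- the structure map `k → Γ(Y, U)` -/
noncomputable def secMap (U : Y.Opens) : k →+* Γ(Y, U) :=
  (Y.presheaf.map (homOfLE (le_top : U ≤ ⊤)).op).hom.comp (Coh.toGlobal sX)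

/-- the ring map `k[X₀, X₁] → Γ(Y, U)`, `X₀ ↦ 1`, `X₁ ↦ a` -/
noncomputable def polyMap (U : Y.Opens) (a : Γ(Y, U)) : MvPolynomial (Fin 2) k →+* Γ(Y, U) :=
  MvPolynomial.eval₂Hom (secMap k sX U) (fun l => if l = 0 then 1 else a)

theorem polyMap_X0 (U : Y.Opens) (a : Γ(Y, U)) : polyMap k sX U a (X 0) = 1 := by
  simp [polyMap]

theorem polyMap_X1 (U : Y.Opens) (a : Γ(Y, U)) : polyMap k sX U a (X 1) = a := by
  simp [polyMap]

theorem polyMap_C (U : Y.Opens) (a : Γ(Y, U)) (r : k) :
    polyMap k sX U a (C r) = secMap k sX U r := by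
  simp [polyMap]

/-- the morphism `U → ℙ¹` defined by a function `a` on `U` -/
noncomputable def toP1 (U : Y.Opens) (a : Γ(Y, U)) : (U : Scheme.{u}) ⟶ CohB1.ProjSpace 1 k :=
  chartHom (CohB1.polyGrading 1 k) U (polyMap k sX U a) (isHomogeneous_X k 0) Nat.one_pos
    (by rw [polyMap_X0]; exact isUnit_one)

theorem toP1_toSpec (U : Y.Opens) (a : Γ(Y, U)) :
    toP1 k sX U a ≫ CohB1.ProjSpace.toSpec 1 k = U.ι ≫ sX := by
  rw [ι_comp_eq_toSpecΓ_comp sX U]
  unfold CohB1.ProjSpace.toSpec toP1
  have hz := chartHom_toSpecZero (CohB1.polyGrading 1 k) U (polyMap k sX U a)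
    (isHomogeneous_X k 0) Nat.one_pos (by rw [polyMap_X0]; exact isUnit_one)
  erw [reassoc_of% hz]
  rw [← Spec.map_comp]
  congr 2
  ext r
  change polyMap k sX U a (MvPolynomial.C r) = _
  rw [polyMap_C]
  rfl


theorem awayLift_polyMap_comp_chartFrom (U : Y.Opens) (a : Γ(Y, U)) :
    (awayLift (CohB1.polyGrading 1 k) (polyMap k sX U a) (X 0)
      (by rw [polyMap_X0]; exact isUnit_one)).comp (P1.chartFrom k 0) =
      Polynomial.eval₂RingHom (secMap k sX U) a := by
  apply Polynomial.ringHom_ext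
  · intro r
    rw [RingHom.comp_apply, P1.chartFrom_C, Polynomial.coe_eval₂RingHom, Polynomial.eval₂_C]
    change awayLift _ _ _ _ (fromZeroRingHom (CohB1.polyGrading 1 k) _
      (algebraMap k (CohB1.polyGrading 1 k 0) r)) = _
    rw [awayLift_fromZeroRingHom]
    exact polyMap_C k sX U a r
  · rw [RingHom.comp_apply, P1.chartFrom_X, Polynomial.coe_eval₂RingHom, Polynomial.eval₂_X]
    obtain ⟨ψ, hψ⟩ : ∃ ψ, ψ = awayLift (CohB1.polyGrading 1 k) (polyMap k sX U a) (X 0)
      (by rw [polyMap_X0]; exact isUnit_one) := ⟨_, rfl⟩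
    have h : ψ (Away.mk (CohB1.polyGrading 1 k) (isHomogeneous_X k 0) 1 (X 1)
        (by rw [one_smul]; exact isHomogeneous_X k 1)) * polyMap k sX U a (X 0) ^ 1 =
        polyMap k sX U a (X 1) := by
      rw [hψ]
      exact awayLift_mk (CohB1.polyGrading 1 k) (polyMap k sX U a) (X 0)
        (by rw [polyMap_X0]; exact isUnit_one) (isHomogeneous_X k 0) 1 (X 1)
        (by rw [one_smul]; exact isHomogeneous_X k 1)
    rw [polyMap_X0, one_pow, mul_one, polyMap_X1] at h
    rw [← hψ]
    exact h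

theorem isDominant_toP1 (U : Y.Opens) (hU : IsAffineOpen U) (a : Γ(Y, U))
    (ha : Function.Injective (Polynomial.eval₂RingHom (secMap k sX U) a)) :
    IsDominant (toP1 k sX U a) := by
  unfold toP1 chartHom
  haveI : IsIso U.toSpecΓ := by rw [← hU.isoSpec_hom]; infer_instance
  have hinj : Function.Injective (awayLift (CohB1.polyGrading 1 k) (polyMap k sX U a) (X 0)
      (by rw [polyMap_X0]; exact isUnit_one)) := by
    have h1 := awayLift_polyMap_comp_chartFrom k sX U a
    have h2 : awayLift (CohB1.polyGrading 1 k) (polyMap k sX U a) (X 0)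
        (by rw [polyMap_X0]; exact isUnit_one) =
        (Polynomial.eval₂RingHom (secMap k sX U) a).comp (P1.chartTo k 0) := by
      rw [← h1, RingHom.comp_assoc, P1.chartFrom_chartTo, RingHom.comp_id]
    rw [h2]
    exact ha.comp (P1.chartEquiv k 0).injective
  haveI : IsDominant (Spec.map (CommRingCat.ofHom (awayLift (CohB1.polyGrading 1 k)
      (polyMap k sX U a) (X 0) (by rw [polyMap_X0]; exact isUnit_one)))) :=
    DVRExt.isDominant_specMap_of_injective _ hinj
  haveI : IsDominant (Proj.awayι (CohB1.polyGrading 1 k) (X 0) (isHomogeneous_X k 0)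
      Nat.one_pos) := by
    constructor
    have hr : Set.range (Proj.awayι (CohB1.polyGrading 1 k) (X 0) (isHomogeneous_X k 0)
        Nat.one_pos) = (P1.stdOpen k 0 : Set (CohB1.ProjSpace 1 k)) := by
      have := Proj.opensRange_awayι (CohB1.polyGrading 1 k) (X 0) (isHomogeneous_X k 0) Nat.one_pos
      exact congrArg (fun O : (Proj (CohB1.polyGrading 1 k)).Opens =>
        (O : Set (Proj (CohB1.polyGrading 1 k)))) this
    rw [DenseRange, hr]
    obtain ⟨y⟩ := P1.stdOpen_nonempty k 0
    exact (P1.stdOpen k 0).isOpen.dense ⟨y.1, y.2⟩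
  haveI : IsDominant U.toSpecΓ := inferInstance
  exact inferInstanceAs (IsDominant (U.toSpecΓ ≫
    Spec.map (CommRingCat.ofHom (awayLift (CohB1.polyGrading 1 k) (polyMap k sX U a) (X 0)
      (by rw [polyMap_X0]; exact isUnit_one))) ≫
    Proj.awayι (CohB1.polyGrading 1 k) (X 0) (isHomogeneous_X k 0) Nat.one_pos))

end G0

section Tr
variable (k : Type u) [Field k] (X : Scheme.{u}) [X.Over (Spec (CommRingCat.of k))]
  [IsIntegral X] [LocallyOfFiniteType (X ↘ Spec (CommRingCat.of k))]
  [QuasiCompact (X ↘ Spec (CommRingCat.of k))]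

theorem germ_secMap (U : X.Opens) [Nonempty U] (c : k) :
    (X.germToFunctionField U).hom (secMap k (X ↘ Spec (CommRingCat.of k)) U c) =
      algebraMap k X.functionField c := by
  unfold secMap
  rw [RingHom.comp_apply]
  exact TopCat.Presheaf.germ_res_apply X.presheaf (homOfLE (le_top : U ≤ ⊤)) (genericPoint X) _ _

theorem exists_transcendental_section
    (hcurve : ∀ x : X, IsClosed ({x} : Set X) → ringKrullDim (X.presheaf.stalk x) = 1)
    (U : X.Opens) (hU : IsAffineOpen U) [Nonempty U] :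
    ∃ a : Γ(X, U), Function.Injective
      (Polynomial.eval₂RingHom (secMap k (X ↘ Spec (CommRingCat.of k)) U) a) := by
  by_contra hcon
  push Not at hcon
  have htr := trdeg_functionField k X hcurve
  have halg : ∀ a : Γ(X, U), IsAlgebraic k ((X.germToFunctionField U).hom a) := by
    intro a
    have h1 := hcon a
    rw [injective_iff_map_eq_zero] at h1
    push Not at h1
    obtain ⟨p, hp, hp0⟩ := h1
    refine ⟨p, hp0, ?_⟩
    rw [Polynomial.aeval_def]
    have h2 : (algebraMap k X.functionField) =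
        (X.germToFunctionField U).hom.comp (secMap k (X ↘ Spec (CommRingCat.of k)) U) := by
      ext c
      exact (germ_secMap k X U c).symm
    rw [h2, ← Polynomial.hom_eval₂]
    rw [Polynomial.coe_eval₂RingHom] at hp
    rw [hp, map_zero]
  haveI := functionField_isFractionRing_of_isAffineOpen X U hU
  have hall : Algebra.IsAlgebraic k X.functionField := by
    constructor
    intro x
    obtain ⟨a, b, -, rfl⟩ := IsFractionRing.div_surjective (A := Γ(X, U)) x
    exact (halg a).mul (halg b).inv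
  rw [trdeg_eq_zero_iff.mpr hall] at htr
  exact zero_ne_one htr

end Tr

section Main
variable (k : Type u) [Field k] (Z : Scheme.{u}) [Z.Over (Spec (CommRingCat.of k))]
  [IsIntegral Z]

/-- a dominant morphism from a proper integral curve to `ℙ¹` is finite -/
theorem isFinite_of_isDominant [IsProper (Z ↘ Spec (CommRingCat.of k))]
    (hcurve : ∀ x : Z, IsClosed ({x} : Set Z) → ringKrullDim (Z.presheaf.stalk x) = 1)
    (φ : Z ⟶ CohB1.ProjSpace 1 k)
    (hφ : φ ≫ CohB1.ProjSpace.toSpec 1 k = Z ↘ Spec (CommRingCat.of k))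
    [IsDominant φ] : IsFinite φ := by
  haveI hprop : IsProper (CohB1.ProjSpace.toSpec 1 k) :=
    Groth.Agent.S9705.isProper_toSpec 1 k
  haveI : IsProper (φ ≫ CohB1.ProjSpace.toSpec 1 k) := by rw [hφ]; infer_instance
  haveI : IsProper φ := IsProper.of_comp φ (CohB1.ProjSpace.toSpec 1 k)
  have hfib := (CurveFib.isDominant_iff_finite_fibres k (Z ↘ Spec (CommRingCat.of k))
    (CohB1.ProjSpace.toSpec 1 k) hcurve (P1.ringKrullDim_stalk_of_isClosed k) φ hφ).mp
      inferInstance
  haveI : LocallyQuasiFinite φ := LocallyQuasiFinite.of_finite_preimage_singleton φ hfib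
  exact IsFinite.of_isProper_of_locallyQuasiFinite φ

/-- open subschemes of curves are curves -/
theorem hcurve_opens [LocallyOfFiniteType (Z ↘ Spec (CommRingCat.of k))]
    (hcurve : ∀ x : Z, IsClosed ({x} : Set Z) → ringKrullDim (Z.presheaf.stalk x) = 1)
    (U : Z.Opens) (y : (U : Scheme.{u})) (hy : IsClosed ({y} : Set (U : Scheme.{u}))) :
    ringKrullDim ((U : Scheme.{u}).presheaf.stalk y) = 1 := by
  haveI : JacobsonSpace Z := LocallyOfFiniteType.jacobsonSpace (Z ↘ Spec (CommRingCat.of k))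
  have h1 : y ∈ U.ι ⁻¹' closedPoints Z := by
    rw [U.ι.isOpenEmbedding.preimage_closedPoints]
    exact hy
  rw [← CurveCompl.ringKrullDim_stalk_eq U.ι y]
  exact hcurve _ h1


/-- **a proper integral curve over a field is projective** -/
theorem exists_closedImmersion_of_isProper [IsProper (Z ↘ Spec (CommRingCat.of k))]
    (hcurve : ∀ x : Z, IsClosed ({x} : Set Z) → ringKrullDim (Z.presheaf.stalk x) = 1) :
    ∃ (d : ℕ) (c : Z ⟶ CohB1.ProjSpace d k), IsClosedImmersion c ∧
      c ≫ CohB1.ProjSpace.toSpec d k = Z ↘ Spec (CommRingCat.of k) := by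
  haveI hLN : IsLocallyNoetherian Z :=
    LocallyOfFiniteType.isLocallyNoetherian (Z ↘ Spec (CommRingCat.of k))
  haveI hcpt : CompactSpace Z :=
    QuasiCompact.compactSpace_of_compactSpace (Z ↘ Spec (CommRingCat.of k))
  haveI hNoe : IsNoetherian Z := { }
  have hcoh : ∀ x : Z, IsClosed ({x} : Set Z) → Order.coheight x = 1 := fun x hx =>
    CurveFib.coheight_eq_one_of_ringKrullDim x (hcurve x hx)
  -- a closed point with normal local ring
  obtain ⟨x₀, hx₀c, hx₀n⟩ := exists_closed_normal_point k Z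
  have hval₀ : ValuationRing (Z.presheaf.stalk x₀) :=
    RatExt.valuationRing_of_isIntegrallyClosed_of_dim_le_one _ hx₀n (hcurve x₀ hx₀c).le
  -- its complement
  set U₀ : Z.Opens := ⟨{x₀}ᶜ, hx₀c.isOpen_compl⟩ with hU₀
  have hgen : genericPoint Z ∈ U₀ := by
    intro h
    have h' : genericPoint Z = x₀ := h
    exact CurveFib.not_isClosed_singleton_genericPoint hcoh (h' ▸ hx₀c)
  haveI : Nonempty U₀ := ⟨⟨_, hgen⟩⟩
  have hdense : Dense (U₀ : Set Z) := U₀.isOpen.dense ⟨_, hgen⟩
  -- `U₀` is a non-proper curve, hence affine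
  letI ovU : (U₀ : Scheme.{u}).Over (Spec (CommRingCat.of k)) :=
    ⟨U₀.ι ≫ (Z ↘ Spec (CommRingCat.of k))⟩
  have hov : (U₀ : Scheme.{u}) ↘ Spec (CommRingCat.of k) =
      U₀.ι ≫ (Z ↘ Spec (CommRingCat.of k)) := rfl
  haveI : LocallyOfFiniteType ((U₀ : Scheme.{u}) ↘ Spec (CommRingCat.of k)) := by
    rw [hov]; infer_instance
  haveI : QuasiCompact ((U₀ : Scheme.{u}) ↘ Spec (CommRingCat.of k)) := by
    rw [hov]; infer_instance
  haveI : IsSeparated ((U₀ : Scheme.{u}) ↘ Spec (CommRingCat.of k)) := by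
    rw [hov]; infer_instance
  have hnp : ¬ IsProper ((U₀ : Scheme.{u}) ↘ Spec (CommRingCat.of k)) := by
    intro hp
    rw [hov] at hp
    haveI : IsProper U₀.ι := IsProper.of_comp U₀.ι (Z ↘ Spec (CommRingCat.of k))
    have hcl : IsClosed (Set.range U₀.ι) := U₀.ι.isClosedMap.isClosed_range
    have hclopen : IsClopen (U₀ : Set Z) := by
      refine ⟨?_, U₀.isOpen⟩
      rw [← Scheme.Opens.range_ι]
      exact hcl
    have huniv : (U₀ : Set Z) = Set.univ := hclopen.eq_univ ⟨_, hgen⟩
    have : x₀ ∈ (U₀ : Set Z) := huniv ▸ Set.mem_univ _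
    exact this rfl
  haveI haff : IsAffine (U₀ : Scheme.{u}) :=
    isAffine_of_not_isProper k (U₀ : Scheme.{u}) (hcurve_opens k Z hcurve U₀) hnp
  have hU₀aff : IsAffineOpen U₀ := haff
  -- a non-constant function on `U₀`
  obtain ⟨a, ha⟩ := exists_transcendental_section k Z hcurve U₀ hU₀aff
  -- the morphism to `ℙ¹`
  haveI hpropP : IsProper (CohB1.ProjSpace.toSpec 1 k) := Groth.Agent.S9705.isProper_toSpec 1 k
  obtain ⟨φ, hφ1, hφ2⟩ := RatExt.exists_extension_of_valuationRing_off
    (Z ↘ Spec (CommRingCat.of k)) (CohB1.ProjSpace.toSpec 1 k) U₀ hdense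
    (fun y hy => by
      have hy' : y = x₀ := not_not.mp hy
      subst hy'
      exact ⟨inferInstance, hval₀⟩)
    (toP1 k (Z ↘ Spec (CommRingCat.of k)) U₀ a)
    (toP1_toSpec k (Z ↘ Spec (CommRingCat.of k)) U₀ a)
  haveI : IsDominant (U₀.ι ≫ φ) := by
    rw [hφ1]
    exact isDominant_toP1 k (Z ↘ Spec (CommRingCat.of k)) U₀ hU₀aff a ha
  haveI : IsDominant φ := IsDominant.of_comp U₀.ι φ
  haveI : IsFinite φ := isFinite_of_isDominant k Z hcurve φ hφ2
  exact exists_closedImmersion_of_finite k Z (Z ↘ Spec (CommRingCat.of k)) φ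

end Main

end Groth.Agent.Lib.Helper21.CurveRiem
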