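import Groth.Agent.Lib.Helper21.CurveRiem4
import Groth.Agent.Lib.Helper21.CurveH0a

/-!
# Integral schemes of dimension one: local rings at closed points have dimension one
-/

set_option autoImplicit false
set_option linter.style.haveILetI false
universe u
open CategoryTheory CategoryTheory.Limits AlgebraicGeometry

namespace Groth.Agent.Lib.Helper21.CurveRiem

attribute [local instance] specializationPreorder in
theorem hcurve_of_dim (X : Scheme.{u}) [IsIntegral X] (hdim : topologicalKrullDim X = 1) (x : X)
    (hx : IsClosed ({x} : Set X)) : ringKrullDim (X.presheaf.stalk x) = 1 := by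
  refine le_antisymm ((Groth.Agent.Lib.Helper21.CurveH0.ringKrullDim_stalk_le X x).trans hdim.le) ?_
  rw [ringKrullDim_stalk_eq_coheight]
  have h1 : Order.coheight x ≠ 0 := by
    intro h0
    rw [Order.coheight_eq_zero] at h0
    have hsp : genericPoint X ⤳ x := (genericPoint_spec X).specializes (Set.mem_univ x)
    have hle : x ≤ genericPoint X := hsp
    have hge : genericPoint X ≤ x := h0 hle
    have heq : x = genericPoint X := (Specializes.antisymm hge hsp).eq
    have hsub : Subsingleton X := by
      constructor
      intro a b
      have ha : a ∈ closure ({x} : Set X) := by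
        rw [heq, (genericPoint_spec X).def]; trivial
      have hb : b ∈ closure ({x} : Set X) := by
        rw [heq, (genericPoint_spec X).def]; trivial
      rw [hx.closure_eq, Set.mem_singleton_iff] at ha hb
      rw [ha, hb]
    have h2 : Order.krullDim X ≤ 0 := Order.krullDim_nonpos_of_subsingleton
    rw [Groth.Agent.Lib.Helper21.CurveH0.krullDim_eq_topologicalKrullDim, hdim] at h2
    exact absurd h2 (by decide)
  have h2 : (1 : ℕ∞) ≤ Order.coheight x := Order.one_le_iff_ne_zero.mpr h1
  exact_mod_cast h2

/-- **curves are affine or projective** -/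
theorem affine_or_projective (k : Type u) [Field k] (X : Scheme.{u})
    [X.Over (Spec (CommRingCat.of k))] [IsIntegral X]
    [IsSeparated (X ↘ (Spec (CommRingCat.of k)))]
    [LocallyOfFiniteType (X ↘ (Spec (CommRingCat.of k)))]
    [QuasiCompact (X ↘ (Spec (CommRingCat.of k)))] (hdim : topologicalKrullDim X = 1) :
    IsAffine X ∨ ∃ (d : ℕ) (c : X ⟶ CohB1.ProjSpace d k), IsClosedImmersion c ∧
      c ≫ CohB1.ProjSpace.toSpec d k = X ↘ (Spec (CommRingCat.of k)) := by
  have hcurve := hcurve_of_dim X hdim
  by_cases hp : IsProper (X ↘ (Spec (CommRingCat.of k)))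
  · right
    exact exists_closedImmersion_of_isProper k X hcurve
  · left
    exact isAffine_of_not_isProper k X hcurve hp

end Groth.Agent.Lib.Helper21.CurveRiem
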