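import Groth.Agent.Lib.Helper21.RatExt
import Groth.Agent.Lib.Helper21.BiratPoint
import Mathlib.RingTheory.Ideal.Height

/-!
# Local rings of one-dimensional normal schemes are valuation rings
-/

set_option autoImplicit false
universe u
open AlgebraicGeometry CategoryTheory Limits TopologicalSpace

namespace Groth.Agent.Lib.Helper21.RatExt

variable {X : Scheme.{u}}

/-- The dimension of the local ring decreases under generization. -/
theorem ringKrullDim_stalk_le_of_specializes {y c : X} (h : y ⤳ c) :
    ringKrullDim (X.presheaf.stalk y) ≤ ringKrullDim (X.presheaf.stalk c) := by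
  obtain ⟨W, hW, hcW, -⟩ := Opens.isBasis_iff_nbhd.mp X.isBasis_affineOpens
    (show c ∈ (⊤ : X.Opens) from trivial)
  have hyW : y ∈ W := h.mem_open W.isOpen hcW
  have hle := Birat.primeIdealOf_le_of_specializes hW hyW hcW h
  have h1 : ringKrullDim (X.presheaf.stalk y) = (hW.primeIdealOf ⟨y, hyW⟩).asIdeal.height := by
    let _ : Algebra Γ(X, W) (X.presheaf.stalk y) :=
      TopCat.Presheaf.algebra_section_stalk X.presheaf ⟨y, hyW⟩
    have := hW.isLocalization_stalk ⟨y, hyW⟩
    exact IsLocalization.AtPrime.ringKrullDim_eq_height (hW.primeIdealOf ⟨y, hyW⟩).asIdeal _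
  have h2 : ringKrullDim (X.presheaf.stalk c) = (hW.primeIdealOf ⟨c, hcW⟩).asIdeal.height := by
    let _ : Algebra Γ(X, W) (X.presheaf.stalk c) :=
      TopCat.Presheaf.algebra_section_stalk X.presheaf ⟨c, hcW⟩
    have := hW.isLocalization_stalk ⟨c, hcW⟩
    exact IsLocalization.AtPrime.ringKrullDim_eq_height (hW.primeIdealOf ⟨c, hcW⟩).asIdeal _
  rw [h1, h2]
  exact_mod_cast Ideal.height_mono hle

/-- A Noetherian local domain which is integrally closed of dimension at most one is a valuation
ring. -/
theorem valuationRing_of_isIntegrallyClosed_of_dim_le_one (R : Type u) [CommRing R] [IsDomain R]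
    [IsLocalRing R] [IsNoetherianRing R] (hic : IsIntegrallyClosed R)
    (hdim : ringKrullDim R ≤ 1) : ValuationRing R := by
  have hle : Ring.KrullDimLE 1 R := Ring.krullDimLE_iff.mpr hdim
  have h3 : IsIntegrallyClosed R ∧
      ∀ P : Ideal R, P ≠ ⊥ → P.IsPrime → P = IsLocalRing.maximalIdeal R :=
    ⟨hic, fun P hP0 hP => IsLocalRing.eq_maximalIdeal
      (Ring.krullDimLE_one_iff_of_noZeroDivisors.mp hle P hP0 hP)⟩
  exact ((tfae_of_isNoetherianRing_of_isLocalRing_of_isDomain R).out 1 3).mpr h3

end Groth.Agent.Lib.Helper21.RatExt
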