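import Mathlib.RingTheory.Polynomial.Cyclotomic.Basic
import Mathlib.RingTheory.Polynomial.Cyclotomic.Roots
import Mathlib.RingTheory.Ideal.Quotient.Operations
import Mathlib.RingTheory.Coprime.Lemmas

/-!
# helper21: cyclotomic polynomials evaluated in arbitrary commutative rings where `d` is invertible

* `natCast_div_eq_zero`: `t^e = 1`, `Φ_d(t) = 0`, `e` a proper divisor of `d` ⟹ `d / e = 0`.
* `isUnit_pow_sub_one`: `Φ_d(t) = 0`, `d` invertible, `d ∤ k` ⟹ `t^k - 1` is a unit.
* `isCoprime_eval_cyclotomic`: `Φ_d(t)`, `Φ_e(t)` coprime for `e` proper divisor of `d` invertible.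
* `exists_idempotent_mul`: `t^d = 1`, `d` invertible ⟹ `∃ ε ∈ (Φ_d(t))`, `ε * Φ_d(t) = Φ_d(t)`.
-/

set_option autoImplicit false

namespace Groth.Agent.Lib.Helper21.Cyclo

open Polynomial

variable {R : Type*} [CommRing R]

theorem eval_cyclotomic_map {S : Type*} [CommRing S] (f : R →+* S) (d : ℕ) (t : R) :
    eval (f t) (cyclotomic d S) = f (eval t (cyclotomic d R)) := by
  rw [← map_cyclotomic d f, eval_map, eval₂_at_apply]

theorem cyclotomic_dvd_geom (d e : ℕ) (he : e ∈ d.properDivisors) :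
    cyclotomic d ℤ ∣ ∑ j ∈ Finset.range (d / e), (X ^ e : ℤ[X]) ^ j := by
  have h1 := X_pow_sub_one_mul_cyclotomic_dvd_X_pow_sub_one_of_dvd ℤ he
  have hed := (Nat.mem_properDivisors.mp he)
  have hde : e * (d / e) = d := Nat.mul_div_cancel' hed.1
  have he0 : e ≠ 0 := by
    rintro rfl
    have := Nat.eq_zero_of_zero_dvd hed.1
    omega
  have h2 : (∑ j ∈ Finset.range (d / e), (X ^ e : ℤ[X]) ^ j) * (X ^ e - 1) = X ^ d - 1 := by
    rw [geom_sum_mul, ← pow_mul, hde]
  rw [← h2, mul_comm] at h1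
  have hne : (X ^ e - 1 : ℤ[X]) ≠ 0 := by
    have := (monic_X_pow_sub_C (1 : ℤ) he0).ne_zero
    simpa using this
  exact (mul_dvd_mul_iff_right hne).mp h1

theorem natCast_div_eq_zero (d e : ℕ) (he : e ∈ d.properDivisors) (t : R) (hte : t ^ e = 1)
    (ht : eval t (cyclotomic d R) = 0) : ((d / e : ℕ) : R) = 0 := by
  obtain ⟨G, hG⟩ := cyclotomic_dvd_geom d e he
  have h1 := congrArg (fun P => eval t (map (Int.castRingHom R) P)) hG
  simp only [Polynomial.map_sum, Polynomial.map_pow, Polynomial.map_X, Polynomial.map_mul,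
    map_cyclotomic, eval_finsetSum, eval_pow, eval_X, eval_mul, ht, zero_mul, hte, one_pow,
    Finset.sum_const, Finset.card_range, nsmul_eq_mul, mul_one] at h1
  exact h1

theorem pow_eq_one_of_eval_cyclotomic (d : ℕ) (t : R) (ht : eval t (cyclotomic d R) = 0) :
    t ^ d = 1 := by
  obtain ⟨G, hG⟩ := cyclotomic.dvd_X_pow_sub_one d R
  have := congrArg (eval t) hG
  rw [eval_mul, ht, zero_mul, eval_sub, eval_pow, eval_X, eval_one] at this
  exact sub_eq_zero.mp this

theorem subsingleton_of_eval_cyclotomic (d e : ℕ) (hd : IsUnit (d : R))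
    (he : e ∈ d.properDivisors) (t : R) (hte : t ^ e = 1) (ht : eval t (cyclotomic d R) = 0) :
    Subsingleton R := by
  have h0 := natCast_div_eq_zero d e he t hte ht
  have hde : e * (d / e) = d := Nat.mul_div_cancel' (Nat.mem_properDivisors.mp he).1
  have : (d : R) = 0 := by
    rw [← hde, Nat.cast_mul, h0, mul_zero]
  rw [this] at hd
  exact subsingleton_of_zero_eq_one (isUnit_zero_iff.mp hd)

theorem isUnit_pow_sub_one (d : ℕ) (hd : IsUnit (d : R)) (t : R)
    (ht : eval t (cyclotomic d R) = 0) (k : ℕ) (hk : ¬ d ∣ k) : IsUnit (t ^ k - 1) := by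
  rcases subsingleton_or_nontrivial R with hR | hR
  · exact isUnit_of_subsingleton _
  have hd0 : d ≠ 0 := by
    rintro rfl
    simp at hd
  rw [← Ideal.span_singleton_eq_top, ← Ideal.Quotient.subsingleton_iff]
  set I := Ideal.span {t ^ k - 1} with hI
  have hk1 : (Ideal.Quotient.mk I t) ^ k = 1 := by
    rw [← map_pow, ← sub_eq_zero, ← map_one (Ideal.Quotient.mk I), ← map_sub,
      Ideal.Quotient.eq_zero_iff_mem]
    exact Ideal.subset_span rfl
  have hd1 : (Ideal.Quotient.mk I t) ^ d = 1 := by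
    rw [← map_pow, pow_eq_one_of_eval_cyclotomic d t ht, map_one]
  have hg : (Ideal.Quotient.mk I t) ^ (k.gcd d) = 1 := pow_gcd_eq_one.mpr ⟨hk1, hd1⟩
  have he : k.gcd d ∈ d.properDivisors := by
    rw [Nat.mem_properDivisors]
    refine ⟨Nat.gcd_dvd_right k d, lt_of_le_of_ne (Nat.le_of_dvd (Nat.pos_of_ne_zero hd0)
      (Nat.gcd_dvd_right k d)) fun h => hk ?_⟩
    rw [← h]
    exact Nat.gcd_dvd_left k d
  refine subsingleton_of_eval_cyclotomic d (k.gcd d) ?_ he (Ideal.Quotient.mk I t) hg ?_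
  · have := hd.map (Ideal.Quotient.mk I)
    rwa [map_natCast] at this
  · rw [eval_cyclotomic_map, ht, map_zero]

theorem isCoprime_eval_cyclotomic (d e : ℕ) (hd : IsUnit (d : R)) (he : e ∈ d.properDivisors)
    (t : R) : IsCoprime (eval t (cyclotomic d R)) (eval t (cyclotomic e R)) := by
  set a := eval t (cyclotomic d R) with ha
  set b := eval t (cyclotomic e R) with hb
  have htop : Ideal.span {a, b} = ⊤ := by
    rw [← Ideal.Quotient.subsingleton_iff]
    set I := Ideal.span {a, b} with hI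
    refine subsingleton_of_eval_cyclotomic d e ?_ he (Ideal.Quotient.mk I t) ?_ ?_
    · have := hd.map (Ideal.Quotient.mk I)
      rwa [map_natCast] at this
    · apply pow_eq_one_of_eval_cyclotomic
      rw [eval_cyclotomic_map, Ideal.Quotient.eq_zero_iff_mem]
      exact Ideal.subset_span (by simp [hb])
    · rw [eval_cyclotomic_map, Ideal.Quotient.eq_zero_iff_mem]
      exact Ideal.subset_span (by simp [ha])
  have h1 : (1 : R) ∈ Ideal.span {a, b} := by rw [htop]; trivial
  obtain ⟨u, v, huv⟩ := Ideal.mem_span_pair.mp h1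
  exact ⟨u, v, huv⟩

theorem exists_idempotent_mul (d : ℕ) (hd : IsUnit (d : R)) (t : R) (ht : t ^ d = 1) :
    ∃ ε ∈ Ideal.span {eval t (cyclotomic d R)},
      ε * eval t (cyclotomic d R) = eval t (cyclotomic d R) := by
  rcases subsingleton_or_nontrivial R with hR | hR
  · exact ⟨0, Ideal.zero_mem _, Subsingleton.elim _ _⟩
  have hd0 : d ≠ 0 := by
    rintro rfl
    simp at hd
  set a := eval t (cyclotomic d R) with ha
  have hprod : a * ∏ e ∈ d.properDivisors, eval t (cyclotomic e R) = 0 := by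
    have h1 := prod_cyclotomic_eq_X_pow_sub_one (Nat.pos_of_ne_zero hd0) R
    rw [← Nat.insert_self_properDivisors hd0,
      Finset.prod_insert Nat.self_notMem_properDivisors] at h1
    have h2 := congrArg (eval t) h1
    rw [eval_mul, eval_prod, eval_sub, eval_pow, eval_X, eval_one, ht, sub_self] at h2
    exact h2
  have hcop : IsCoprime a (∏ e ∈ d.properDivisors, eval t (cyclotomic e R)) :=
    IsCoprime.prod_right fun e he => isCoprime_eval_cyclotomic d e hd he t
  obtain ⟨u, v, huv⟩ := hcop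
  refine ⟨u * a, Ideal.mul_mem_left _ _ (Ideal.subset_span rfl), ?_⟩
  have : u * a * a = a * (u * a + v * ∏ e ∈ d.properDivisors, eval t (cyclotomic e R)) -
      v * (a * ∏ e ∈ d.properDivisors, eval t (cyclotomic e R)) := by ring
  rw [this, huv, hprod, mul_zero, sub_zero, mul_one]

end Groth.Agent.Lib.Helper21.Cyclo
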