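import Mathlib.AlgebraicGeometry.Stalk
import Mathlib.AlgebraicGeometry.Gluing
import Mathlib.AlgebraicGeometry.Restrict
import Mathlib.AlgebraicGeometry.AffineScheme

/-!
# Gluing two morphisms on a union of opens; generic points of `Spec R → Spec 𝒪_{X,x} → X`
-/

set_option autoImplicit false
universe u
open AlgebraicGeometry CategoryTheory Limits TopologicalSpace

namespace Groth.Agent.Lib.Helper21.DVRExt

variable {X Y : Scheme.{u}}

theorem pullback_fst_comp_eq_of_homOfLE (U' V₁ V₂ V₁₂ : X.Opens) (e₁ : V₁ ≤ U') (e₂ : V₂ ≤ U')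
    (h₁ : V₁₂ ≤ V₁) (h₂ : V₁₂ ≤ V₂) (hinf : V₁ ⊓ V₂ ≤ V₁₂) (ψ₁ : (V₁ : Scheme.{u}) ⟶ Y)
    (ψ₂ : (V₂ : Scheme.{u}) ⟶ Y) (h : X.homOfLE h₁ ≫ ψ₁ = X.homOfLE h₂ ≫ ψ₂) :
    pullback.fst (X.homOfLE e₁) (X.homOfLE e₂) ≫ ψ₁ =
      pullback.snd (X.homOfLE e₁) (X.homOfLE e₂) ≫ ψ₂ := by
  let t := pullback.fst (X.homOfLE e₁) (X.homOfLE e₂) ≫ V₁.ι
  have ht : t = pullback.snd (X.homOfLE e₁) (X.homOfLE e₂) ≫ V₂.ι := by
    change pullback.fst (X.homOfLE e₁) (X.homOfLE e₂) ≫ V₁.ι = _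
    rw [← X.homOfLE_ι e₁, ← X.homOfLE_ι e₂, ← Category.assoc, ← Category.assoc,
      pullback.condition]
  have hr : Set.range t ⊆ Set.range V₁₂.ι := by
    rintro _ ⟨z, rfl⟩
    rw [Scheme.Opens.range_ι]
    apply hinf
    refine ⟨?_, ?_⟩
    · change (pullback.fst (X.homOfLE e₁) (X.homOfLE e₂) ≫ V₁.ι) z ∈ V₁
      rw [Scheme.Hom.comp_apply]
      exact (pullback.fst (X.homOfLE e₁) (X.homOfLE e₂) z).2
    · rw [ht, Scheme.Hom.comp_apply]
      exact (pullback.snd (X.homOfLE e₁) (X.homOfLE e₂) z).2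
  let c := IsOpenImmersion.lift V₁₂.ι t hr
  have hc : c ≫ V₁₂.ι = t := IsOpenImmersion.lift_fac _ _ _
  have hc₁ : c ≫ X.homOfLE h₁ = pullback.fst (X.homOfLE e₁) (X.homOfLE e₂) := by
    rw [← cancel_mono V₁.ι, Category.assoc, Scheme.homOfLE_ι, hc]
  have hc₂ : c ≫ X.homOfLE h₂ = pullback.snd (X.homOfLE e₁) (X.homOfLE e₂) := by
    rw [← cancel_mono V₂.ι, Category.assoc, Scheme.homOfLE_ι, hc, ht]
  rw [← hc₁, ← hc₂, Category.assoc, Category.assoc, h]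

/-- Glue two morphisms on opens `U`, `V` agreeing on `U ⊓ V` to a morphism on an open `U'`
whose points are those of `U ∪ V`. -/
theorem exists_glue_two (U V : X.Opens) (f : (U : Scheme.{u}) ⟶ Y) (g : (V : Scheme.{u}) ⟶ Y)
    (h : X.homOfLE (inf_le_left : U ⊓ V ≤ U) ≫ f = X.homOfLE (inf_le_right : U ⊓ V ≤ V) ≫ g) :
    ∃ (U' : X.Opens) (hU : U ≤ U') (hV : V ≤ U') (k : (U' : Scheme.{u}) ⟶ Y),
      X.homOfLE hU ≫ k = f ∧ X.homOfLE hV ≫ k = g ∧ U' ≤ U ⊔ V ∧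
      ∀ {Z : Scheme.{u}} (a b : (U' : Scheme.{u}) ⟶ Z), X.homOfLE hU ≫ a = X.homOfLE hU ≫ b →
        X.homOfLE hV ≫ a = X.homOfLE hV ≫ b → a = b := by
  let W : Bool → X.Opens := fun b => cond b U V
  let 𝒰 := Scheme.Opens.iSupOpenCover W
  let ψ : ∀ b, 𝒰.X b ⟶ Y := fun b => match b with
    | true => f
    | false => g
  have hcompat : ∀ b b' : Bool, pullback.fst (𝒰.f b) (𝒰.f b') ≫ ψ b =
      pullback.snd (𝒰.f b) (𝒰.f b') ≫ ψ b' := by
    intro b b'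
    cases b <;> cases b'
    · exact pullback_fst_comp_eq_of_homOfLE (⨆ b, W b) V V (V ⊓ V) (le_iSup W false)
        (le_iSup W false) inf_le_left inf_le_left le_rfl g g rfl
    · exact pullback_fst_comp_eq_of_homOfLE (⨆ b, W b) V U (U ⊓ V) (le_iSup W false)
        (le_iSup W true) inf_le_right inf_le_left (le_of_eq (inf_comm _ _)) g f h.symm
    · exact pullback_fst_comp_eq_of_homOfLE (⨆ b, W b) U V (U ⊓ V) (le_iSup W true)
        (le_iSup W false) inf_le_left inf_le_right le_rfl f g h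
    · exact pullback_fst_comp_eq_of_homOfLE (⨆ b, W b) U U (U ⊓ U) (le_iSup W true)
        (le_iSup W true) inf_le_left inf_le_left le_rfl f f rfl
  refine ⟨⨆ b, W b, le_iSup W true, le_iSup W false, 𝒰.glueMorphisms ψ hcompat,
    𝒰.ι_glueMorphisms ψ hcompat true, 𝒰.ι_glueMorphisms ψ hcompat false, ?_, ?_⟩
  · refine iSup_le fun b => ?_
    cases b
    · exact le_sup_right
    · exact le_sup_left
  · intro Z a b h₁ h₂
    refine 𝒰.hom_ext a b fun i => ?_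
    cases i
    · exact h₂
    · exact h₁

theorem comap_bot_eq {A B : Type*} [CommRing A] [CommRing B] [IsDomain A] [IsDomain B]
    (f : A →+* B) (hf : Function.Injective f) :
    PrimeSpectrum.comap f ⟨⊥, Ideal.isPrime_bot⟩ = ⟨⊥, Ideal.isPrime_bot⟩ := by
  ext1
  exact Ideal.comap_bot_of_injective f hf

/-- For an injective `φ : 𝒪_{X,x} → R` into a domain, where `x` has an integral affine
neighbourhood, the generic point of `Spec R` lands in every open meeting that neighbourhood. -/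
theorem fromSpecStalk_generic_mem (x : X) (W₁ : X.Opens) (hW₁ : IsAffineOpen W₁) (hxW₁ : x ∈ W₁)
    [IsDomain Γ(X, W₁)] (U : X.Opens) (hUW : ((U ⊓ W₁ : X.Opens) : Set X).Nonempty)
    {R : CommRingCat.{u}} [IsDomain R] (φ : X.presheaf.stalk x ⟶ R)
    (hφ : Function.Injective φ.hom) :
    (Spec.map φ ≫ X.fromSpecStalk x) (⟨⊥, Ideal.isPrime_bot⟩ : PrimeSpectrum R) ∈ U := by
  obtain ⟨y, hyU, hyW₁⟩ := hUW
  obtain ⟨c, hcU, hyc⟩ := hW₁.exists_basicOpen_le (V := U) ⟨y, hyU⟩ hyW₁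
  have hc0 : c ≠ 0 := by
    rintro rfl
    rw [Scheme.basicOpen_zero] at hyc
    exact hyc
  let _ : Algebra Γ(X, W₁) (X.presheaf.stalk x) :=
    TopCat.Presheaf.algebra_section_stalk X.presheaf ⟨x, hxW₁⟩
  have hloc := hW₁.isLocalization_stalk ⟨x, hxW₁⟩
  have hdomA : IsDomain (X.presheaf.stalk x) :=
    IsLocalization.isDomain_of_le_nonZeroDivisors (X.presheaf.stalk x)
      (hW₁.primeIdealOf ⟨x, hxW₁⟩).asIdeal.primeCompl_le_nonZeroDivisors
  have hgerm : Function.Injective (X.presheaf.germ W₁ x hxW₁).hom :=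
    IsLocalization.injective (X.presheaf.stalk x)
      (hW₁.primeIdealOf ⟨x, hxW₁⟩).asIdeal.primeCompl_le_nonZeroDivisors
  rw [← hW₁.fromSpecStalk_eq_fromSpecStalk hxW₁, IsAffineOpen.fromSpecStalk,
    Scheme.Hom.comp_apply, Scheme.Hom.comp_apply]
  have h1 : Spec.map φ (⟨⊥, Ideal.isPrime_bot⟩ : PrimeSpectrum R) =
      (⟨⊥, Ideal.isPrime_bot⟩ : PrimeSpectrum (X.presheaf.stalk x)) := comap_bot_eq φ.hom hφ
  have h2 : Spec.map (X.presheaf.germ W₁ x hxW₁)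
      (⟨⊥, Ideal.isPrime_bot⟩ : PrimeSpectrum (X.presheaf.stalk x)) =
      (⟨⊥, Ideal.isPrime_bot⟩ : PrimeSpectrum Γ(X, W₁)) := comap_bot_eq _ hgerm
  rw [h1, h2]
  apply hcU
  have h3 : (⟨⊥, Ideal.isPrime_bot⟩ : PrimeSpectrum Γ(X, W₁)) ∈
      hW₁.fromSpec ⁻¹ᵁ X.basicOpen c := by
    rw [hW₁.fromSpec_preimage_basicOpen]
    exact hc0
  exact h3

end Groth.Agent.Lib.Helper21.DVRExt
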