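import Groth.Agent.Lib.Helper21.KA5
import Mathlib.RingTheory.Valuation.LocalSubring
import Mathlib.RingTheory.Ideal.KrullsHeightTheorem
import Mathlib.RingTheory.FiniteType

/-!
# A DVR dominating a Noetherian local domain (Stacks 00PH, case `L = K`)
-/

set_option autoImplicit false
universe u

namespace Groth.Agent.Lib.Helper21.KA

/-- Reduction to dimension one: a Noetherian local domain which is not a field is dominated by a
Noetherian local domain of dimension `≤ 1` (not a field) with the same fraction field. -/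
theorem exists_krullDimLE_one_dominating (A : Type u) [CommRing A] [IsDomain A]
    [IsNoetherianRing A] [IsLocalRing A] (hA : ¬ IsField A) (K : Type u) [Field K] [Algebra A K]
    [IsFractionRing A K] :
    ∃ (R' : Type u) (_ : CommRing R') (_ : IsDomain R') (_ : IsNoetherianRing R')
      (_ : IsLocalRing R') (_ : Ring.KrullDimLE 1 R') (_ : Algebra A R') (_ : Algebra R' K)
      (_ : IsScalarTower A R' K),
      ¬ IsField R' ∧ IsFractionRing R' K ∧ IsLocalHom (algebraMap A R') := by
  classical
  obtain ⟨V, hV, hloc⟩ := IsLocalRing.exists_factor_valuationRing (algebraMap A K)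
  let m := IsLocalRing.maximalIdeal A
  have hm0 : m ≠ ⊥ := fun h => hA (IsLocalRing.isField_iff_maximalIdeal_eq.mpr h)
  obtain ⟨s, hs⟩ : m.FG := IsNoetherian.noetherian m
  let s₀ := s.filter (· ≠ 0)
  have hs₀ne : s₀.Nonempty := by
    by_contra hcon
    rw [Finset.not_nonempty_iff_eq_empty] at hcon
    apply hm0
    rw [← hs, Ideal.span_eq_bot]
    intro x hx
    by_contra hx0
    have : x ∈ s₀ := Finset.mem_filter.mpr ⟨hx, hx0⟩
    rw [hcon] at this
    exact absurd this (Finset.notMem_empty x)
  obtain ⟨x₀, hx₀s₀, hx₀max⟩ := Finset.exists_max_image s₀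
    (fun x => V.valuation (algebraMap A K x)) hs₀ne
  have hx₀s : x₀ ∈ s := (Finset.mem_filter.mp hx₀s₀).1
  have hx₀0 : x₀ ≠ 0 := (Finset.mem_filter.mp hx₀s₀).2
  have hx₀m : x₀ ∈ m := by rw [← hs]; exact Ideal.subset_span hx₀s
  let k₀ : K := algebraMap A K x₀
  have hk₀ : k₀ ≠ 0 := by
    rw [Ne, FaithfulSMul.algebraMap_eq_zero_iff]; exact hx₀0
  have hdivV : ∀ x ∈ s, algebraMap A K x / k₀ ∈ V := by
    intro x hx
    by_cases hx0 : x = 0
    · rw [hx0, map_zero, zero_div]; exact V.zero_mem
    · have hxs₀ : x ∈ s₀ := Finset.mem_filter.mpr ⟨hx, hx0⟩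
      rw [← V.valuation_le_one_iff, map_div₀]
      have hv0 : V.valuation k₀ ≠ 0 := (Valuation.ne_zero_iff _).mpr hk₀
      rw [div_le_one₀ (zero_lt_iff.mpr hv0)]
      exact hx₀max x hxs₀
  let G : Finset K := s.image (fun x => algebraMap A K x / k₀)
  let B : Subalgebra A K := Algebra.adjoin A (G : Set K)
  let SV : Subalgebra A K := { V.toSubring with algebraMap_mem' := hV }
  have hBSV : B ≤ SV := by
    refine Algebra.adjoin_le ?_
    intro g hg
    obtain ⟨x, hx, rfl⟩ := Finset.mem_image.mp hg
    exact hdivV x hx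
  have hBfg : B.FG := Subalgebra.fg_adjoin_finset G
  have hBft : Algebra.FiniteType A B := (Subalgebra.fg_iff_finiteType B).mp hBfg
  have hNB : IsNoetherianRing B := Algebra.FiniteType.isNoetherianRing A B
  let x₀B : B := algebraMap A B x₀
  have hx₀B0 : x₀B ≠ 0 := by
    intro h0
    apply hk₀
    have := congrArg (algebraMap B K) h0
    rwa [map_zero, ← IsScalarTower.algebraMap_apply] at this
  let ι : B →+* V := RingHom.codRestrict (B.val : B →+* K) V.toSubring (fun b => hBSV b.2)
  let 𝔓' : Ideal B := (IsLocalRing.maximalIdeal V).comap ι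
  have h𝔓'prime : 𝔓'.IsPrime := Ideal.comap_isPrime _ _
  have hx₀𝔓' : x₀B ∈ 𝔓' := by
    rw [Ideal.mem_comap, IsLocalRing.mem_maximalIdeal, mem_nonunits_iff]
    intro hu
    have h1 : ι x₀B = (algebraMap A K).codRestrict V.toSubring hV x₀ := by
      apply Subtype.ext; rfl
    rw [h1] at hu
    have := hloc.map_nonunit x₀ hu
    exact ((IsLocalRing.mem_maximalIdeal x₀).mp hx₀m) this
  obtain ⟨𝔓, h𝔓min, h𝔓le⟩ := Ideal.exists_minimalPrimes_le (I := Ideal.span {x₀B}) (J := 𝔓')
    ((Ideal.span_singleton_le_iff_mem _).mpr hx₀𝔓')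
  have h𝔓prime : 𝔓.IsPrime := h𝔓min.1.1
  have hx₀𝔓 : x₀B ∈ 𝔓 := h𝔓min.1.2 (Ideal.mem_span_singleton_self x₀B)
  have h𝔓0 : 𝔓 ≠ ⊥ := fun h0 => hx₀B0 (by rw [h0] at hx₀𝔓; exact hx₀𝔓)
  have hht : 𝔓.height ≤ 1 :=
    Ideal.height_le_one_of_isPrincipal_of_mem_minimalPrimes (Ideal.span {x₀B}) 𝔓 h𝔓min
  let R' := Localization.AtPrime 𝔓
  have hR'dom : IsDomain R' :=
    IsLocalization.isDomain_localization 𝔓.primeCompl_le_nonZeroDivisors
  have hR'N : IsNoetherianRing R' := IsLocalization.isNoetherianRing 𝔓.primeCompl R' hNB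
  have hR'dim : Ring.KrullDimLE 1 R' := by
    rw [Ring.krullDimLE_iff, IsLocalization.AtPrime.ringKrullDim_eq_height 𝔓 R']
    exact_mod_cast hht
  have hR'nf : ¬ IsField R' := IsLocalization.AtPrime.not_isField B h𝔓0 R'
  have hfaith : FaithfulSMul B K :=
    (faithfulSMul_iff_algebraMap_injective B K).mpr Subtype.val_injective
  have hFrB : IsFractionRing B K := by
    refine IsFractionRing.of_field (R := B) K ?_
    intro z
    obtain ⟨a, a', -, rfl⟩ := IsFractionRing.div_surjective (A := A) z
    exact ⟨algebraMap A B a, algebraMap A B a', by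
      rw [← IsScalarTower.algebraMap_apply, ← IsScalarTower.algebraMap_apply]⟩
  have hunits : ∀ y : 𝔓.primeCompl, IsUnit (algebraMap B K y) := by
    intro y
    refine IsUnit.mk0 _ ?_
    rw [Ne, FaithfulSMul.algebraMap_eq_zero_iff]
    intro h0
    exact y.2 (h0 ▸ zero_mem 𝔓)
  let algR'K : Algebra R' K :=
    (IsLocalization.lift (M := 𝔓.primeCompl) (S := R') hunits).toAlgebra
  have towBR'K : IsScalarTower B R' K := IsScalarTower.of_algebraMap_eq fun t =>
    (IsLocalization.lift_eq (M := 𝔓.primeCompl) (S := R') hunits t).symm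
  have towAR'K : IsScalarTower A R' K := IsScalarTower.of_algebraMap_eq fun t => by
    rw [IsScalarTower.algebraMap_apply A B R', ← IsScalarTower.algebraMap_apply B R' K,
      ← IsScalarTower.algebraMap_apply A B K]
  refine ⟨R', inferInstance, hR'dom, hR'N, inferInstance, hR'dim, inferInstance, algR'K,
    towAR'K, hR'nf, ?_, ?_⟩
  · exact IsFractionRing.isFractionRing_of_isDomain_of_isLocalization 𝔓.primeCompl R' K
  · constructor
    intro a ha
    by_contra hna
    have ham : a ∈ m := (IsLocalRing.mem_maximalIdeal a).mpr hna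
    have hmap : ∀ x ∈ s, algebraMap A B x ∈ 𝔓 := by
      intro x hx
      have hg : algebraMap A K x / k₀ ∈ B :=
        Algebra.subset_adjoin (Finset.mem_coe.mpr (Finset.mem_image.mpr ⟨x, hx, rfl⟩))
      have : algebraMap A B x = ⟨algebraMap A K x / k₀, hg⟩ * x₀B := by
        apply Subtype.ext
        change algebraMap A K x = algebraMap A K x / k₀ * k₀
        rw [div_mul_cancel₀ _ hk₀]
      rw [this]
      exact Ideal.mul_mem_left _ _ hx₀𝔓
    have haB : algebraMap A B a ∈ 𝔓 := by
      have : m ≤ 𝔓.comap (algebraMap A B) := by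
        rw [← hs, Ideal.span_le]
        intro x hx
        exact hmap x hx
      exact this ham
    rw [IsScalarTower.algebraMap_apply A B R'] at ha
    exact ((IsLocalization.AtPrime.isUnit_to_map_iff R' 𝔓 _).mp ha) haB

/-- **Stacks 00PH** (case `L = K`): a Noetherian local domain which is not a field is dominated by
a discrete valuation ring with the same fraction field. -/
theorem exists_dvr_dominating (A : Type u) [CommRing A] [IsDomain A]
    [IsNoetherianRing A] [IsLocalRing A] (hA : ¬ IsField A) (K : Type u) [Field K] [Algebra A K]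
    [IsFractionRing A K] :
    ∃ (R : Type u) (_ : CommRing R) (_ : IsDomain R) (_ : IsDiscreteValuationRing R)
      (_ : Algebra A R) (_ : Algebra R K) (_ : IsScalarTower A R K),
      IsFractionRing R K ∧ IsLocalHom (algebraMap A R) := by
  obtain ⟨R', _, _, _, _, _, _, _, _, hR'nf, hFr, hloc⟩ :=
    exists_krullDimLE_one_dominating A hA K
  obtain ⟨R, _, _, _, _, _, _, hFrR, hlocR⟩ := exists_dvr_dominating_of_krullDimLE_one R' hR'nf K
  let algAR : Algebra A R := ((algebraMap R' R).comp (algebraMap A R')).toAlgebra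
  have tow1 : IsScalarTower A R' R := IsScalarTower.of_algebraMap_eq fun _ => rfl
  have tow : IsScalarTower A R K := IsScalarTower.of_algebraMap_eq fun t => by
    rw [IsScalarTower.algebraMap_apply A R' R, ← IsScalarTower.algebraMap_apply R' R K,
      ← IsScalarTower.algebraMap_apply A R' K]
  refine ⟨R, inferInstance, inferInstance, inferInstance, algAR, inferInstance, tow, hFrR, ?_⟩
  constructor
  intro a ha
  have h1 : IsUnit (algebraMap R' R (algebraMap A R' a)) := ha
  exact hloc.map_nonunit a (hlocR.map_nonunit _ h1)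

end Groth.Agent.Lib.Helper21.KA
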