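import Groth.Agent.Lib.Helper21.DVRExt1
import Groth.Agent.Lib.Helper21.KA6
import Groth.Agent.Lib.Helper21.ZMTExt3
import Groth.Agent.Lib.Helper7.LocalNhd
import Mathlib.AlgebraicGeometry.Noetherian

/-!
# A DVR through a non-generic point of a locally Noetherian scheme
-/

set_option autoImplicit false
universe u
open AlgebraicGeometry CategoryTheory Limits TopologicalSpace

namespace Groth.Agent.Lib.Helper21.DVRExt

variable {X : Scheme.{u}}

/-- A morphism from the spectrum of a local ring whose closed point lands in an open `U'`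
lands entirely in `U'`. -/
theorem range_subset_of_closedPoint_mem {R : CommRingCat.{u}} [IsLocalRing R]
    (u : Spec R ⟶ X) (U' : X.Opens) (h : u (IsLocalRing.closedPoint R) ∈ U') :
    Set.range u ⊆ Set.range U'.ι := by
  rintro _ ⟨p, rfl⟩
  rw [Scheme.Opens.range_ι]
  have hs : (p : PrimeSpectrum R) ⤳ IsLocalRing.closedPoint R :=
    IsLocalRing.specializes_closedPoint p
  exact (hs.map u.continuous).mem_open U'.isOpen h

theorem spec_field_point_eq {K : Type u} [Field K] (p : PrimeSpectrum K) :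
    p = ⟨⊥, Ideal.isPrime_bot⟩ := by
  ext1
  exact Ideal.eq_bot_of_prime p.asIdeal

/-- An integral affine neighbourhood inside a given open. -/
theorem exists_affine_integral_nhd [IsLocallyNoetherian X] (x : X)
    [IsDomain (X.presheaf.stalk x)] (U' : X.Opens) (hxU' : x ∈ U') :
    ∃ W₁ : X.Opens, IsAffineOpen W₁ ∧ x ∈ W₁ ∧ W₁ ≤ U' ∧ IsIntegral (W₁ : Scheme.{u}) := by
  obtain ⟨W₀, hxW₀, hW₀⟩ := Groth.Agent.Lib.Helper7.exists_integral_nhd X x
  obtain ⟨W₁, hW₁, hxW₁, hW₁le⟩ := Opens.isBasis_iff_nbhd.mp X.isBasis_affineOpens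
    (show x ∈ W₀ ⊓ U' from ⟨hxW₀, hxU'⟩)
  have : Nonempty (W₁ : Scheme.{u}) := ⟨⟨x, hxW₁⟩⟩
  exact ⟨W₁, hW₁, hxW₁, hW₁le.trans inf_le_right,
    isIntegral_of_isOpenImmersion (X.homOfLE (hW₁le.trans inf_le_left))⟩

/-- If `x` is not in a dense open, its local ring (a domain) is not a field. -/
theorem not_isField_stalk_of_notMem_dense [IsLocallyNoetherian X] (U : X.Opens)
    (hU : Dense (U : Set X)) (x : X) (hxU : x ∉ U) [IsDomain (X.presheaf.stalk x)] :
    ¬ IsField (X.presheaf.stalk x) := by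
  intro hf
  obtain ⟨W₁, hW₁, hxW₁, -, hint⟩ := exists_affine_integral_nhd x ⊤ trivial
  have hdom : IsDomain Γ(X, W₁) := ZMTExt.isDomain_of_isIntegral_opens W₁
  have hne : ((U ⊓ W₁ : X.Opens) : Set X).Nonempty := by
    obtain ⟨y, hyW, hyU⟩ := hU.inter_open_nonempty W₁ W₁.isOpen ⟨x, hxW₁⟩
    exact ⟨y, hyU, hyW⟩
  have h1 := fromSpecStalk_generic_mem x W₁ hW₁ hxW₁ U hne (𝟙 (X.presheaf.stalk x))
    (fun _ _ h => h)
  rw [Spec.map_id, Category.id_comp] at h1
  have h2 : (⟨⊥, Ideal.isPrime_bot⟩ : PrimeSpectrum (X.presheaf.stalk x)) =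
      IsLocalRing.closedPoint (X.presheaf.stalk x) := by
    ext1
    exact (IsLocalRing.isField_iff_maximalIdeal_eq.mp hf).symm
  rw [h2, Scheme.fromSpecStalk_closedPoint] at h1
  exact hxU h1

/-- **A DVR through a point**: `X` locally Noetherian, `U` a dense open, `x ∉ U` with `𝒪_{X,x}` a
domain. There is a DVR `R` and `u : Spec R ⟶ X` sending the closed point to `x` and the generic
point into `U`. -/
theorem exists_dvr_through_point [IsLocallyNoetherian X] (U : X.Opens)
    (hU : Dense (U : Set X)) (x : X) (hxU : x ∉ U) [IsDomain (X.presheaf.stalk x)] :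
    ∃ (R : Type u) (_ : CommRing R) (_ : IsDomain R) (_ : IsDiscreteValuationRing R)
      (u : Spec (CommRingCat.of R) ⟶ X)
      (ub : Spec (CommRingCat.of (FractionRing R)) ⟶ (U : Scheme.{u})),
      u (IsLocalRing.closedPoint R) = x ∧
        ub ≫ U.ι = Spec.map (CommRingCat.ofHom (algebraMap R (FractionRing R))) ≫ u := by
  have hnf := not_isField_stalk_of_notMem_dense U hU x hxU
  obtain ⟨W₁, hW₁, hxW₁, -, hint⟩ := exists_affine_integral_nhd x ⊤ trivial
  have hdom : IsDomain Γ(X, W₁) := ZMTExt.isDomain_of_isIntegral_opens W₁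
  have hne : ((U ⊓ W₁ : X.Opens) : Set X).Nonempty := by
    obtain ⟨y, hyW, hyU⟩ := hU.inter_open_nonempty W₁ W₁.isOpen ⟨x, hxW₁⟩
    exact ⟨y, hyU, hyW⟩
  let A := X.presheaf.stalk x
  let K := FractionRing A
  obtain ⟨R, _, _, _, _, _, _, hFr, hloc⟩ := KA.exists_dvr_dominating A hnf K
  let φ : A ⟶ CommRingCat.of R := CommRingCat.ofHom (algebraMap A R)
  have hφinj : Function.Injective φ.hom := by
    intro a b hab
    apply IsFractionRing.injective A K
    have hab' : algebraMap A R a = algebraMap A R b := hab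
    have := congrArg (algebraMap R K) hab'
    rwa [← IsScalarTower.algebraMap_apply, ← IsScalarTower.algebraMap_apply] at this
  let u : Spec (CommRingCat.of R) ⟶ X := Spec.map φ ≫ X.fromSpecStalk x
  have hu_closed : u (IsLocalRing.closedPoint R) = x := by
    change (Spec.map φ ≫ X.fromSpecStalk x) (IsLocalRing.closedPoint R) = x
    rw [Scheme.Hom.comp_apply]
    have : Spec.map φ (IsLocalRing.closedPoint R) = IsLocalRing.closedPoint A :=
      IsLocalRing.comap_closedPoint (algebraMap A R)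
    rw [this, Scheme.fromSpecStalk_closedPoint]
  have hu_gen : u (⟨⊥, Ideal.isPrime_bot⟩ : PrimeSpectrum R) ∈ U :=
    fromSpecStalk_generic_mem x W₁ hW₁ hxW₁ U hne φ hφinj
  let ι' : CommRingCat.of R ⟶ CommRingCat.of (FractionRing R) :=
    CommRingCat.ofHom (algebraMap R (FractionRing R))
  have hrange : Set.range (Spec.map ι' ≫ u) ⊆ Set.range U.ι := by
    rintro _ ⟨p, rfl⟩
    rw [Scheme.Opens.range_ι, Scheme.Hom.comp_apply]
    have hp : Spec.map ι' p = (⟨⊥, Ideal.isPrime_bot⟩ : PrimeSpectrum R) := by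
      have hp' : p = (⟨⊥, Ideal.isPrime_bot⟩ : PrimeSpectrum (FractionRing R)) :=
        spec_field_point_eq p
      rw [hp']
      exact comap_bot_eq (algebraMap R (FractionRing R)) (IsFractionRing.injective R _)
    rw [hp]
    exact hu_gen
  exact ⟨R, inferInstance, inferInstance, inferInstance, u,
    IsOpenImmersion.lift U.ι (Spec.map ι' ≫ u) hrange, hu_closed,
    IsOpenImmersion.lift_fac _ _ _⟩

end Groth.Agent.Lib.Helper21.DVRExt
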