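import Groth.Agent.Lib.Helper21.DVRExt6
import Groth.Agent.Lib.Helper21.DVRExt5
import Mathlib.AlgebraicGeometry.Morphisms.Immersion

/-!
# The valuative criterion of separatedness with discrete valuation rings
(locally Noetherian base, locally of finite type)
-/

set_option autoImplicit false
universe u
open AlgebraicGeometry CategoryTheory Limits TopologicalSpace

namespace Groth.Agent.Lib.Helper21.DVRExt

variable {X S : Scheme.{u}}

/-- Separatedness from specializations of the diagonal points of the generic points. -/
theorem isSeparated_of_specializations [IsLocallyNoetherian S] (f : X ⟶ S)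
    [LocallyOfFiniteType f]
    (H : ∀ η : X, closure {η} ∈ irreducibleComponents X → ∀ w : ↑(pullback f f),
      pullback.diagonal f η ⤳ w → w ∈ Set.range (pullback.diagonal f)) :
    IsSeparated f := by
  have hXN : IsLocallyNoetherian X := LocallyOfFiniteType.isLocallyNoetherian f
  have hPN : IsLocallyNoetherian (pullback f f) :=
    LocallyOfFiniteType.isLocallyNoetherian (pullback.fst f f)
  constructor
  apply IsClosedImmersion.of_isPreimmersion
  rw [← closure_subset_iff_isClosed]
  intro w hw
  obtain ⟨O, C, hO, hC, hOC⟩ := (pullback.diagonal f).isLocallyClosed_range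
  rw [hOC] at hw
  obtain ⟨t, ht, htw⟩ := exists_specializes_of_mem_closure_scheme hO hC hw
  rw [← hOC] at ht
  obtain ⟨t₀, rfl⟩ := ht
  obtain ⟨η, hη, hηt⟩ := Birat.exists_gen_specializes t₀
  exact H η hη w ((hηt.map (pullback.diagonal f).continuous).trans htw)

end Groth.Agent.Lib.Helper21.DVRExt
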