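import Mathlib
import Groth.Prelude.Def_W4c5adicflatcomplDec

/-!
# Adically decaying functions: basic toolbox
-/

open W4c5adicflatcompl

namespace Groth.Agent.Lib.Helper21.Dec

variable {A : Type*} [CommRing A] (I : Ideal A) (Z : Type*) (M : Type*) [AddCommGroup M]
  [Module A M]

/-- Evaluation at a point. -/
def ev (z : Z) : decaying I Z M →ₗ[A] M := (LinearMap.proj z) ∘ₗ (decaying I Z M).subtype

@[simp] lemma ev_apply (z : Z) (f : decaying I Z M) : ev I Z M z f = (f : Z → M) z := rfl

variable {M} in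
lemma map_mem_smul_top {N : Type*} [AddCommGroup N] [Module A N] (ψ : M →ₗ[A] N) {J : Ideal A}
    {x : M} (hx : x ∈ (J • ⊤ : Submodule A M)) : ψ x ∈ (J • ⊤ : Submodule A N) := by
  have : ψ x ∈ (J • ⊤ : Submodule A M).map ψ := Submodule.mem_map_of_mem hx
  rw [Submodule.map_smul''] at this
  exact Submodule.smul_mono le_rfl le_top this

variable {I Z M} in
lemma apply_mem_of_mem_smul_top {J : Ideal A} {f : decaying I Z M}
    (hf : f ∈ (J • ⊤ : Submodule A (decaying I Z M))) (z : Z) :
    (f : Z → M) z ∈ (J • ⊤ : Submodule A M) :=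
  map_mem_smul_top (ev I Z M z) hf

/-- S17536. -/
theorem isHausdorff [IsHausdorff I M] : IsHausdorff I (decaying I Z M) := by
  refine ⟨fun f hf => ?_⟩
  apply Subtype.ext
  funext z
  apply IsHausdorff.haus (inferInstance : IsHausdorff I M)
  intro n
  rw [SModEq.zero]
  exact apply_mem_of_mem_smul_top (by simpa [SModEq.zero] using hf n) z

variable {M} in
/-- Elements of `J • N` as combinations of generators of `J`. -/
lemma exists_sum_of_mem_smul {J : Ideal A} {r : ℕ} (a : Fin r → A)
    (ha : Ideal.span (Set.range a) = J) (N : Submodule A M) {x : M} (hx : x ∈ J • N) :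
    ∃ p : Fin r → M, (∀ j, p j ∈ N) ∧ x = ∑ j, a j • p j := by
  refine Submodule.smul_induction_on hx ?_ ?_
  · intro r' hr' n hn
    rw [← ha] at hr'
    obtain ⟨c, rfl⟩ := (Submodule.mem_span_range_iff_exists_fun A).1 hr'
    refine ⟨fun j => c j • n, fun j => N.smul_mem _ hn, ?_⟩
    rw [Finset.sum_smul]
    refine Finset.sum_congr rfl fun j _ => ?_
    rw [smul_eq_mul, mul_smul, smul_comm]
  · rintro x y ⟨p, hp, rfl⟩ ⟨q, hq, rfl⟩
    refine ⟨p + q, fun j => N.add_mem (hp j) (hq j), ?_⟩
    simp [Finset.sum_add_distrib]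

lemma pow_smul_top_antitone {m n : ℕ} (h : m ≤ n) :
    (I ^ n • ⊤ : Submodule A M) ≤ I ^ m • ⊤ :=
  Submodule.smul_mono_left (Ideal.pow_le_pow_right h)

variable {I Z M} in
/-- Lemma K: a decaying function with all values in `I ^ n M` lies in `I ^ n` times the module of
decaying functions (for finitely generated `I` and Hausdorff `M`). -/
theorem mem_smul_top_of_forall_mem [IsHausdorff I M] (hI : I.FG) (n : ℕ) (f : decaying I Z M)
    (hf : ∀ z, (f : Z → M) z ∈ (I ^ n • ⊤ : Submodule A M)) :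
    f ∈ (I ^ n • ⊤ : Submodule A (decaying I Z M)) := by
  classical
  obtain ⟨r, a, ha⟩ := Submodule.fg_iff_exists_fin_generating_family.1 (hI.pow (n := n))
  have haI : ∀ j, a j ∈ I ^ n := fun j => ha ▸ Submodule.subset_span ⟨j, rfl⟩
  have key : ∀ z, ∃ p : Fin r → M, (f : Z → M) z = ∑ j, a j • p j ∧
      ∀ K, (f : Z → M) z ∈ (I ^ (n + K) • ⊤ : Submodule A M) →
        ∀ j, p j ∈ (I ^ K • ⊤ : Submodule A M) := by
    intro z
    by_cases h0 : (f : Z → M) z = 0
    · exact ⟨0, by simp [h0], fun K _ j => Submodule.zero_mem _⟩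
    · have hex : ∃ K, (f : Z → M) z ∉ (I ^ (n + K) • ⊤ : Submodule A M) := by
        by_contra hcon
        push Not at hcon
        apply h0
        apply IsHausdorff.haus (inferInstance : IsHausdorff I M)
        intro m
        rw [SModEq.zero]
        exact pow_smul_top_antitone I M (Nat.le_add_left m n) (hcon m)
      have hK₁ := Nat.find_spec hex
      have hK₁pos : Nat.find hex ≠ 0 := by
        intro h
        rw [h, add_zero] at hK₁
        exact hK₁ (hf z)
      obtain ⟨k, hk⟩ := Nat.exists_eq_succ_of_ne_zero hK₁pos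
      have hmem : (f : Z → M) z ∈ (I ^ (n + k) • ⊤ : Submodule A M) := by
        by_contra h
        have := Nat.find_min' hex h
        omega
      rw [pow_add, mul_smul] at hmem
      obtain ⟨p, hp, hsum⟩ := exists_sum_of_mem_smul a ha _ hmem
      refine ⟨p, hsum, fun K hK j => ?_⟩
      have hKk : K ≤ k := by
        by_contra h
        push Not at h
        apply hK₁
        exact pow_smul_top_antitone I M (by omega) hK
      exact pow_smul_top_antitone I M hKk (hp j)
  choose p hp1 hp2 using key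
  have hdec : ∀ j, (fun z => p z j) ∈ decaying I Z M := by
    intro j K
    refine (f.2 (n + K)).subset ?_
    intro z hz
    by_contra h
    simp only [Set.mem_ofPred_eq, not_not] at h
    exact hz (hp2 z K h j)
  have hfeq : f = ∑ j, a j • (⟨fun z => p z j, hdec j⟩ : decaying I Z M) := by
    apply Subtype.ext
    funext z
    rw [hp1 z]
    simp [Finset.sum_apply]
  rw [hfeq]
  exact Submodule.sum_mem _ fun j _ => Submodule.smul_mem_smul (haI j) Submodule.mem_top

section Sum

variable {I Z M}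
variable {P : Type*} [AddCommGroup P] [Module A P]

lemma support_subset (ψ : Z → (P →ₗ[A] M)) (n : ℕ) (g : decaying I Z P) :
    Function.support (fun z => (Submodule.Quotient.mk (ψ z ((g : Z → P) z)) :
      M ⧸ (I ^ n • ⊤ : Submodule A M))) ⊆ {z | (g : Z → P) z ∉ (I ^ n • ⊤ : Submodule A P)} := by
  intro z hz
  by_contra h
  simp only [Set.mem_ofPred_eq, not_not] at h
  apply hz
  exact (Submodule.Quotient.mk_eq_zero _).2 (map_mem_smul_top (ψ z) h)

lemma support_finite (ψ : Z → (P →ₗ[A] M)) (n : ℕ) (g : decaying I Z P) :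
    (Function.support (fun z => (Submodule.Quotient.mk (ψ z ((g : Z → P) z)) :
      M ⧸ (I ^ n • ⊤ : Submodule A M)))).Finite :=
  (g.2 n).subset (support_subset ψ n g)

/-- The sum `∑ ψ z (g z)` modulo `I ^ n`. -/
noncomputable def sumMod (ψ : Z → (P →ₗ[A] M)) (n : ℕ) :
    decaying I Z P →ₗ[A] M ⧸ (I ^ n • ⊤ : Submodule A M) where
  toFun g := ∑ᶠ z, (Submodule.Quotient.mk (ψ z ((g : Z → P) z)) : M ⧸ (I ^ n • ⊤ : Submodule A M))
  map_add' g g' := by
    rw [← finsum_add_distrib (support_finite ψ n g) (support_finite ψ n g')]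
    refine finsum_congr fun z => ?_
    rw [Submodule.coe_add, Pi.add_apply, map_add, Submodule.Quotient.mk_add]
  map_smul' c g := by
    rw [RingHom.id_apply, smul_finsum' c (support_finite ψ n g)]
    refine finsum_congr fun z => ?_
    rw [Submodule.coe_smul, Pi.smul_apply, map_smul, Submodule.Quotient.mk_smul]

lemma sumMod_apply_eq_sum (ψ : Z → (P →ₗ[A] M)) (n : ℕ) (g : decaying I Z P) (S : Finset Z)
    (hS : {z | (g : Z → P) z ∉ (I ^ n • ⊤ : Submodule A P)} ⊆ S) :
    sumMod ψ n g = Submodule.Quotient.mk (∑ z ∈ S, ψ z ((g : Z → P) z)) := by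
  change ∑ᶠ z, _ = _
  rw [finsum_eq_sum_of_support_subset _ ((support_subset ψ n g).trans hS)]
  exact (map_sum (Submodule.mkQ (I ^ n • ⊤ : Submodule A M)) _ _).symm

lemma factorPow_comp_sumMod (ψ : Z → (P →ₗ[A] M)) {m n : ℕ} (hle : m ≤ n) :
    Submodule.factorPow I M hle ∘ₗ sumMod ψ n = sumMod (I := I) ψ m := by
  classical
  ext g
  let S : Finset Z := (g.2 n).toFinset
  have hSn : {z | (g : Z → P) z ∉ (I ^ n • ⊤ : Submodule A P)} ⊆ S := by
    intro z hz
    simpa [S] using hz
  have hSm : {z | (g : Z → P) z ∉ (I ^ m • ⊤ : Submodule A P)} ⊆ S := by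
    intro z hz
    apply hSn
    intro h
    exact hz (pow_smul_top_antitone I P hle h)
  rw [LinearMap.comp_apply, sumMod_apply_eq_sum ψ n g S hSn, sumMod_apply_eq_sum ψ m g S hSm]
  rfl

variable [IsAdicComplete I M]

/-- The convergent sum `g ↦ ∑ ψ z (g z)`. -/
noncomputable def sumMap (ψ : Z → (P →ₗ[A] M)) : decaying I Z P →ₗ[A] M :=
  IsAdicComplete.lift I (sumMod ψ) (fun hle => factorPow_comp_sumMod ψ hle)

lemma sumMap_sub_sum_mem (ψ : Z → (P →ₗ[A] M)) (g : decaying I Z P) (n : ℕ) (S : Finset Z)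
    (hS : {z | (g : Z → P) z ∉ (I ^ n • ⊤ : Submodule A P)} ⊆ S) :
    sumMap (I := I) ψ g - ∑ z ∈ S, ψ z ((g : Z → P) z) ∈ (I ^ n • ⊤ : Submodule A M) := by
  rw [← Submodule.Quotient.eq]
  have := IsAdicComplete.mk_lift (I := I) (fun hle => factorPow_comp_sumMod (I := I) ψ hle) n g
  rw [sumMod_apply_eq_sum ψ n g S hS] at this
  exact this

end Sum

end Groth.Agent.Lib.Helper21.Dec
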