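import Mathlib
import Groth.Agent.Lib.Helper21.Decaying

/-!
# Adically decaying functions: completeness, lifting, submodules, representation
-/

open W4c5adicflatcompl

namespace Groth.Agent.Lib.Helper21.Dec

variable {A : Type*} [CommRing A] (I : Ideal A) (Z : Type*) (M : Type*) [AddCommGroup M]
  [Module A M]

variable {I Z M} in
/-- Post-composition with a linear map preserves decay. -/
lemma comp_mem {N : Type*} [AddCommGroup N] [Module A N] (ψ : M →ₗ[A] N) {f : Z → M}
    (hf : f ∈ decaying I Z M) : (fun z => ψ (f z)) ∈ decaying I Z N := by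
  intro n
  refine (hf n).subset ?_
  intro z hz
  by_contra h
  simp only [Set.mem_ofPred_eq, not_not] at h
  exact hz (map_mem_smul_top ψ h)

variable {I Z M} in
/-- Precompleteness of the module of decaying functions. -/
theorem isPrecomplete (hI : I.FG) [IsHausdorff I M] [IsPrecomplete I M] :
    IsPrecomplete I (decaying I Z M) := by
  refine ⟨fun f hf => ?_⟩
  have hz : ∀ z : Z, ∃ L : M, ∀ n, ((f n : decaying I Z M) : Z → M) z ≡ L
      [SMOD (I ^ n • ⊤ : Submodule A M)] := by
    intro z
    refine IsPrecomplete.prec (inferInstance : IsPrecomplete I M) (f := fun n => (f n : Z → M) z) ?_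
    intro m n hmn
    have := hf hmn
    rw [SModEq.sub_mem] at this ⊢
    exact apply_mem_of_mem_smul_top this z
  choose L hL using hz
  have hLdec : L ∈ decaying I Z M := by
    intro n
    refine ((f n).2 n).subset ?_
    intro z hz
    by_contra h
    simp only [Set.mem_ofPred_eq, not_not] at h
    apply hz
    have h2 := (hL z n)
    rw [SModEq.sub_mem] at h2
    have : L z = (f n : Z → M) z - ((f n : Z → M) z - L z) := by abel
    rw [this]
    exact Submodule.sub_mem _ h h2
  refine ⟨⟨L, hLdec⟩, fun n => ?_⟩
  rw [SModEq.sub_mem]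
  refine mem_smul_top_of_forall_mem hI n _ (fun z => ?_)
  have h2 := (hL z n)
  rw [SModEq.sub_mem] at h2
  exact h2

variable {I Z M} in
/-- Completeness of the module of decaying functions (S17546, S17547). -/
theorem isAdicComplete (hI : I.FG) [IsAdicComplete I M] :
    IsAdicComplete I (decaying I Z M) := by
  haveI : IsHausdorff I M := IsAdicComplete.toIsHausdorff
  haveI : IsPrecomplete I M := IsAdicComplete.toIsPrecomplete
  haveI := isHausdorff I Z M
  haveI := isPrecomplete (Z := Z) (M := M) hI
  exact {}

variable {I M} in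
/-- Lemma L: lifting along a surjection onto a Hausdorff module, preserving the adic order. -/
lemma exists_lift_elt {N : Type*} [AddCommGroup N] [Module A N] [IsHausdorff I N]
    (φ : M →ₗ[A] N) (hφ : Function.Surjective φ) (y : N) :
    ∃ x : M, φ x = y ∧ ∀ n, y ∈ (I ^ n • ⊤ : Submodule A N) → x ∈ (I ^ n • ⊤ : Submodule A M) := by
  classical
  have hmap : ∀ n, (I ^ n • ⊤ : Submodule A M).map φ = (I ^ n • ⊤ : Submodule A N) := by
    intro n
    rw [Submodule.map_smul'', Submodule.map_top, LinearMap.range_eq_top.2 hφ]
  by_cases h0 : y = 0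
  · exact ⟨0, by simp [h0], fun n _ => Submodule.zero_mem _⟩
  · have hex : ∃ K, y ∉ (I ^ K • ⊤ : Submodule A N) := by
      by_contra hcon
      push Not at hcon
      apply h0
      apply IsHausdorff.haus (inferInstance : IsHausdorff I N)
      intro m
      rw [SModEq.zero]
      exact hcon m
    have hK₁ := Nat.find_spec hex
    have hK₁pos : Nat.find hex ≠ 0 := by
      intro h
      rw [h] at hK₁
      apply hK₁
      simp
    obtain ⟨k, hk⟩ := Nat.exists_eq_succ_of_ne_zero hK₁pos
    have hmem : y ∈ (I ^ k • ⊤ : Submodule A N) := by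
      by_contra h
      have := Nat.find_min' hex h
      omega
    rw [← hmap k] at hmem
    obtain ⟨x, hx, hxy⟩ := hmem
    refine ⟨x, hxy, fun n hn => ?_⟩
    have hnk : n ≤ k := by
      by_contra h
      push Not at h
      apply hK₁
      exact pow_smul_top_antitone I N (by omega) hn
    exact pow_smul_top_antitone I M hnk hx

variable {I Z M} in
/-- Lifting decaying functions along a surjection onto a Hausdorff module (S17542). -/
theorem exists_lift {N : Type*} [AddCommGroup N] [Module A N] [IsHausdorff I N]
    (φ : M →ₗ[A] N) (hφ : Function.Surjective φ) {g : Z → N} (hg : g ∈ decaying I Z N) :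
    ∃ f : Z → M, f ∈ decaying I Z M ∧ ∀ z, φ (f z) = g z := by
  choose f hf1 hf2 using fun z => exists_lift_elt (I := I) φ hφ (g z)
  refine ⟨f, fun n => ?_, hf1⟩
  refine (hg n).subset ?_
  intro z hz
  by_contra h
  simp only [Set.mem_ofPred_eq, not_not] at h
  exact hz (hf2 z n h)

variable {I Z M} in
/-- Decay in a submodule of a finite module over a Noetherian ring (S17541). -/
theorem mem_decaying_submodule_iff [IsNoetherianRing A] [Module.Finite A M] (N : Submodule A M)
    (f : Z → N) : f ∈ decaying I Z N ↔ (fun z => (f z : M)) ∈ decaying I Z M := by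
  constructor
  · intro hf
    exact comp_mem N.subtype hf
  · intro hf n
    obtain ⟨k, hk⟩ := Ideal.exists_pow_inf_eq_pow_smul I N
    refine (hf (n + k)).subset ?_
    intro z hz
    by_contra h
    simp only [Set.mem_ofPred_eq, not_not] at h
    apply hz
    rw [Submodule.mem_smul_top_iff]
    have h1 : (f z : M) ∈ (I ^ (n + k) • ⊤ ⊓ N : Submodule A M) := ⟨h, (f z).2⟩
    rw [hk (n + k) (by omega), Nat.add_sub_cancel] at h1
    exact Submodule.smul_mono le_rfl inf_le_right h1

/-- Membership in `J • ⊤` for vectors. -/
lemma mem_smul_top_fin_fun {r : ℕ} {J : Ideal A} {v : Fin r → A} (hv : ∀ j, v j ∈ J) :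
    v ∈ (J • ⊤ : Submodule A (Fin r → A)) := by
  classical
  have : v = ∑ j, v j • (Pi.single j (1 : A) : Fin r → A) := by
    funext i
    simp [Finset.sum_apply, Pi.single_apply]
  rw [this]
  exact Submodule.sum_mem _ fun j _ => Submodule.smul_mem_smul (hv j) Submodule.mem_top

variable {I Z M} in
/-- A decaying function into a finitely generated Hausdorff module is a combination of generators with
decaying coefficients. -/
theorem exists_repr [IsHausdorff I M] {r : ℕ} (m : Fin r → M)
    (hm : Submodule.span A (Set.range m) = ⊤) {f : Z → M} (hf : f ∈ decaying I Z M) :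
    ∃ F : Fin r → decaying I Z A, ∀ z, f z = ∑ j, ((F j : decaying I Z A) : Z → A) z • m j := by
  have hsurj : Function.Surjective (Fintype.linearCombination A m) := by
    rw [← LinearMap.range_eq_top, Fintype.range_linearCombination, hm]
  obtain ⟨G, hG, hGf⟩ := exists_lift (I := I) (Fintype.linearCombination A m) hsurj hf
  refine ⟨fun j => ⟨fun z => G z j, ?_⟩, fun z => ?_⟩
  · have := comp_mem (LinearMap.proj (R := A) (φ := fun _ : Fin r => A) j) hG
    exact this
  · rw [← hGf z, Fintype.linearCombination_apply]

end Groth.Agent.Lib.Helper21.Dec
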