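import Mathlib
import Groth.Agent.Lib.Helper21.Decaying2

/-!
# Adically decaying functions: tensor products with finite modules, flatness
-/

open W4c5adicflatcompl
open scoped TensorProduct

namespace Groth.Agent.Lib.Helper21.Dec

variable {A : Type*} [CommRing A] (I : Ideal A) (Z : Type*) (M : Type*) [AddCommGroup M]
  [Module A M]

variable {I Z} in
/-- A vector-valued function with decaying coordinates decays. -/
lemma fin_fun_mem {r : ℕ} (g : Fin r → decaying I Z A) :
    (fun z => (fun j => ((g j : decaying I Z A) : Z → A) z)) ∈ decaying I Z (Fin r → A) := by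
  intro n
  refine (Set.finite_iUnion fun j => (g j).2 n).subset ?_
  intro z hz
  by_contra h
  apply hz
  refine mem_smul_top_fin_fun fun j => ?_
  by_contra hj
  apply h
  rw [Set.mem_iUnion]
  exact ⟨j, by simpa using hj⟩

variable {I Z} in
/-- Core lemma: a vector of decaying functions taking values in a submodule `K` of `A ^ r` is a
combination of vectors of `K` with decaying coefficients. -/
theorem exists_repr_submodule [IsNoetherianRing A] (hI : I ≤ Ideal.jacobson ⊥) {r : ℕ}
    (K : Submodule A (Fin r → A)) (g : Fin r → decaying I Z A)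
    (hg : ∀ z, (fun j => ((g j : decaying I Z A) : Z → A) z) ∈ K) :
    ∃ (s : ℕ) (k : Fin s → Fin r → A) (H : Fin s → decaying I Z A),
      (∀ l, k l ∈ K) ∧ ∀ j, g j = ∑ l, k l j • H l := by
  have hdecK : (fun z => (⟨fun j => ((g j : decaying I Z A) : Z → A) z, hg z⟩ : K)) ∈
      decaying I Z K := (mem_decaying_submodule_iff K _).2 (fin_fun_mem g)
  obtain ⟨s, k, hk⟩ := Module.Finite.exists_fin (R := A) (M := K)
  haveI : IsHausdorff I K := IsHausdorff.of_le_jacobson I K hI
  obtain ⟨H, hH⟩ := exists_repr (I := I) k hk hdecK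
  refine ⟨s, fun l => (k l : Fin r → A), H, fun l => (k l).2, fun j => ?_⟩
  apply Subtype.ext
  funext z
  have := congrArg (fun v : K => (v : Fin r → A) j) (hH z)
  simp only at this
  rw [this]
  simp [Finset.sum_apply, mul_comm]

lemma exists_sum_tmul {N : Type*} [AddCommGroup N] [Module A N] {k : ℕ}
    (n : Fin k → N) (hn : Submodule.span A (Set.range n) = ⊤) (Q : Type*) [AddCommGroup Q]
    [Module A Q] (z : N ⊗[A] Q) : ∃ q : Fin k → Q, z = ∑ j, n j ⊗ₜ[A] q j := by
  induction z using TensorProduct.induction_on with
  | zero => exact ⟨0, by simp⟩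
  | tmul m q =>
    have hm : m ∈ Submodule.span A (Set.range n) := hn ▸ Submodule.mem_top
    obtain ⟨c, rfl⟩ := (Submodule.mem_span_range_iff_exists_fun A).1 hm
    refine ⟨fun j => c j • q, ?_⟩
    rw [TensorProduct.sum_tmul]
    refine Finset.sum_congr rfl fun j _ => ?_
    rw [TensorProduct.smul_tmul]
  | add x y hx hy =>
    obtain ⟨p, rfl⟩ := hx
    obtain ⟨q, rfl⟩ := hy
    refine ⟨p + q, ?_⟩
    simp [TensorProduct.tmul_add, Finset.sum_add_distrib]

/-- The canonical map `M ⊗ (decaying functions Z → A) → (Z → M)`. -/
noncomputable def theta : M ⊗[A] decaying I Z A →ₗ[A] (Z → M) :=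
  (TensorProduct.piScalarRightHom A A M Z) ∘ₗ ((decaying I Z A).subtype.lTensor M)

@[simp] lemma theta_tmul (m : M) (g : decaying I Z A) (z : Z) :
    theta I Z M (m ⊗ₜ g) z = (g : Z → A) z • m := by
  simp [theta]

lemma theta_mem (t : M ⊗[A] decaying I Z A) : theta I Z M t ∈ decaying I Z M := by
  induction t using TensorProduct.induction_on with
  | zero => simp
  | tmul m g =>
    intro n
    refine (g.2 n).subset ?_
    intro z hz
    by_contra h
    simp only [Set.mem_ofPred_eq, not_not] at h
    apply hz
    rw [theta_tmul]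
    exact Submodule.smul_mem_smul (by simpa using h) Submodule.mem_top
  | add x y hx hy =>
    rw [map_add]
    exact Submodule.add_mem _ hx hy

/-- S17543: `theta` is injective with range the decaying functions, for finite modules over a
Noetherian ring with `I` in the Jacobson radical. -/
theorem theta_injective_and_range [IsNoetherianRing A] (hI : I ≤ Ideal.jacobson ⊥)
    [Module.Finite A M] :
    Function.Injective (theta I Z M) ∧ LinearMap.range (theta I Z M) = decaying I Z M := by
  obtain ⟨r, m, hm⟩ := Module.Finite.exists_fin (R := A) (M := M)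
  haveI : IsHausdorff I M := IsHausdorff.of_le_jacobson I M hI
  constructor
  · rw [← LinearMap.ker_eq_bot, LinearMap.ker_eq_bot']
    intro t ht
    obtain ⟨g, rfl⟩ := exists_sum_tmul m hm (decaying I Z A) t
    have hK : ∀ z, (fun j => ((g j : decaying I Z A) : Z → A) z) ∈
        LinearMap.ker (Fintype.linearCombination A m) := by
      intro z
      rw [LinearMap.mem_ker, Fintype.linearCombination_apply]
      have := congrFun ht z
      simpa [map_sum, Finset.sum_apply] using this
    obtain ⟨s, k, H, hk, hgH⟩ := exists_repr_submodule hI _ g hK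
    have : ∑ j, m j ⊗ₜ[A] g j = ∑ l, (∑ j, k l j • m j) ⊗ₜ[A] H l := by
      simp_rw [hgH, TensorProduct.tmul_sum, TensorProduct.sum_tmul, TensorProduct.smul_tmul]
      rw [Finset.sum_comm]
    rw [this]
    refine Finset.sum_eq_zero fun l _ => ?_
    have hl := hk l
    rw [LinearMap.mem_ker, Fintype.linearCombination_apply] at hl
    rw [hl, TensorProduct.zero_tmul]
  · apply le_antisymm
    · rintro _ ⟨t, rfl⟩
      exact theta_mem I Z M t
    · intro f hf
      obtain ⟨F, hF⟩ := exists_repr (I := I) m hm hf
      refine ⟨∑ j, m j ⊗ₜ[A] F j, ?_⟩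
      funext z
      rw [hF z]
      simp [map_sum, Finset.sum_apply]

/-- S17545: flatness of the module of decaying functions. -/
theorem flat [IsNoetherianRing A] (hI : I ≤ Ideal.jacobson ⊥) :
    Module.Flat A (decaying I Z A) := by
  refine Module.Flat.of_forall_isTrivialRelation ?_
  intro r a d hrel
  have hK : ∀ z, (fun j => ((d j : decaying I Z A) : Z → A) z) ∈
      LinearMap.ker (Fintype.linearCombination A a) := by
    intro z
    rw [LinearMap.mem_ker, Fintype.linearCombination_apply]
    have := congrArg (fun f : decaying I Z A => (f : Z → A) z) hrel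
    simpa [Finset.sum_apply, mul_comm] using this
  obtain ⟨s, k, H, hk, hdH⟩ := exists_repr_submodule hI _ d hK
  refine ⟨s, fun i l => k l i, H, hdH, fun l => ?_⟩
  have hl := hk l
  rw [LinearMap.mem_ker, Fintype.linearCombination_apply] at hl
  simpa [mul_comm] using hl

end Groth.Agent.Lib.Helper21.Dec
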