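import Mathlib
import Groth.Agent.Lib.Helper21.Decaying2

/-!
# Adically decaying functions: universal property, adically projective modules
-/

open W4c5adicflatcompl

namespace Groth.Agent.Lib.Helper21.Dec

universe u

variable {A : Type*} [CommRing A] (I : Ideal A) (Z : Type*) (M : Type*) [AddCommGroup M]
  [Module A M]

section Single

variable [DecidableEq Z] {P : Type*} [AddCommGroup P] [Module A P]

variable {Z} (P) in
/-- `single` as a linear map. -/
noncomputable def lsingle (z : Z) : P →ₗ[A] decaying I Z P where
  toFun c := single I z c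
  map_add' c c' := by
    apply Subtype.ext
    simp [Pi.single_add]
  map_smul' a c := by
    apply Subtype.ext
    simp [Pi.single_smul]

variable {Z} in
@[simp] lemma lsingle_apply (z : Z) (c : P) : lsingle I P z c = single I z c := rfl

variable {I Z M}

lemma sub_sum_single_mem (g : decaying I Z P) (n : ℕ) (S : Finset Z)
    (hS : {z | (g : Z → P) z ∉ (I ^ n • ⊤ : Submodule A P)} ⊆ S) (z : Z) :
    ((g - ∑ z' ∈ S, single I z' ((g : Z → P) z') : decaying I Z P) : Z → P) z ∈
      (I ^ n • ⊤ : Submodule A P) := by
  have h1 : ((g - ∑ z' ∈ S, single I z' ((g : Z → P) z') : decaying I Z P) : Z → P) z =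
      (g : Z → P) z - ∑ z' ∈ S, (Pi.single z' ((g : Z → P) z') : Z → P) z := by
    simp [Finset.sum_apply]
  rw [h1, Finset.sum_pi_single]
  by_cases hz : z ∈ S
  · simp [hz]
  · simp only [hz, if_false, sub_zero]
    by_contra h
    exact hz (hS h)

/-- A linear map on decaying functions which kills all `single z c` is zero. -/
theorem eq_zero_of_single [IsHausdorff I P] [IsHausdorff I M] (hI : I.FG)
    (δ : decaying I Z P →ₗ[A] M) (hδ : ∀ z c, δ (single I z c) = 0) : δ = 0 := by
  ext g
  rw [LinearMap.zero_apply]
  apply IsHausdorff.haus (inferInstance : IsHausdorff I M)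
  intro n
  rw [SModEq.zero]
  have hg' := mem_smul_top_of_forall_mem hI n _
    (sub_sum_single_mem g n (g.2 n).toFinset (fun z hz => by simpa using hz))
  have := map_mem_smul_top δ hg'
  simpa [map_sub, map_sum, hδ] using this

lemma sumMap_single [IsAdicComplete I M] (ψ : Z → (P →ₗ[A] M)) (z : Z) (c : P) :
    sumMap (I := I) ψ (single I z c) = ψ z c := by
  haveI : IsHausdorff I M := IsAdicComplete.toIsHausdorff
  rw [← sub_eq_zero]
  apply IsHausdorff.haus (inferInstance : IsHausdorff I M)
  intro n
  rw [SModEq.zero]
  have := sumMap_sub_sum_mem (I := I) ψ (single I z c) n {z} (by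
    intro z' hz'
    by_contra h
    apply hz'
    have : z' ≠ z := by simpa using h
    simp [Pi.single_eq_of_ne this])
  simpa using this

end Single

section Act

variable {M}

/-- The action map `Â → M` determined by `m ∈ M`, for `M` adically complete. -/
noncomputable def act [IsAdicComplete I M] (m : M) : AdicCompletion I A →ₗ[A] M :=
  (AdicCompletion.ofLinearEquiv I M).symm.toLinearMap ∘ₗ
    (AdicCompletion.map I (LinearMap.toSpanSingleton A M m)).restrictScalars A

lemma act_one [IsAdicComplete I M] (m : M) : act I m 1 = m := by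
  have h1 : (1 : AdicCompletion I A) = AdicCompletion.of I A 1 := by
    rw [← (algebraMap A (AdicCompletion I A)).map_one, AdicCompletion.algebraMap_apply]
    rfl
  rw [act, h1]
  simp [AdicCompletion.map_of]

variable (M) in
lemma exists_sub_of_mem (hI : I.FG) (c : AdicCompletion I M) (n : ℕ) :
    ∃ a : M, c - AdicCompletion.of I M a ∈ (I ^ n • ⊤ : Submodule A (AdicCompletion I M)) := by
  obtain ⟨a, ha⟩ := Submodule.mkQ_surjective _ (AdicCompletion.eval I M n c)
  refine ⟨a, ?_⟩
  rw [AdicCompletion.pow_smul_top_eq_ker_eval hI, LinearMap.mem_ker, map_sub,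
    AdicCompletion.eval_of, ha, sub_self]

end Act

section Universal

variable [DecidableEq Z] {Z M}

/-- A linear map on decaying functions `Z → Â` which kills all `single z 1` is zero. -/
theorem eq_zero_of_single_one [IsHausdorff I M] (hI : I.FG)
    (δ : decaying I Z (AdicCompletion I A) →ₗ[A] M)
    (hδ : ∀ z, δ (single I z (1 : AdicCompletion I A)) = 0) : δ = 0 := by
  refine eq_zero_of_single hI δ (fun z c => ?_)
  apply IsHausdorff.haus (inferInstance : IsHausdorff I M)
  intro n
  rw [SModEq.zero]
  obtain ⟨a, ha⟩ := exists_sub_of_mem I A hI c n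
  have h1 : AdicCompletion.of I A a = a • (1 : AdicCompletion I A) := by
    rw [← Algebra.algebraMap_eq_smul_one, AdicCompletion.algebraMap_apply]
    rfl
  have h2 : c = a • (1 : AdicCompletion I A) + (c - AdicCompletion.of I A a) := by
    rw [h1]; abel
  have h3 : δ (single I z c) = δ (lsingle I (AdicCompletion I A) z (c - AdicCompletion.of I A a)) := by
    conv_lhs => rw [h2]
    rw [← lsingle_apply, map_add, map_add, map_smul, map_smul, lsingle_apply, hδ, smul_zero,
      zero_add]
  rw [h3]
  exact map_mem_smul_top (δ ∘ₗ lsingle I (AdicCompletion I A) z) ha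

/-- S17548: universal property of the decaying functions `Z → Â`. -/
theorem existsUnique_single_one [IsAdicComplete I M] (hI : I.FG) (f : Z → M) :
    ∃! φ : decaying I Z (AdicCompletion I A) →ₗ[A] M,
      ∀ z, φ (single I z (1 : AdicCompletion I A)) = f z := by
  haveI : IsHausdorff I M := IsAdicComplete.toIsHausdorff
  refine ⟨sumMap (I := I) (fun z => act I (f z)), fun z => ?_, fun φ hφ => ?_⟩
  · rw [sumMap_single, act_one]
  · rw [← sub_eq_zero]
    refine eq_zero_of_single_one I hI _ (fun z => ?_)
    rw [LinearMap.sub_apply, hφ, sumMap_single, act_one, sub_self]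

end Universal

section Projective

variable {I M}

/-- A retract of an adically complete module is adically complete. -/
theorem isAdicComplete_of_retract {F : Type*} [AddCommGroup F] [Module A F] [IsAdicComplete I F]
    (i : M →ₗ[A] F) (r : F →ₗ[A] M) (h : r ∘ₗ i = LinearMap.id) : IsAdicComplete I M := by
  have hri : ∀ x, r (i x) = x := fun x => LinearMap.congr_fun h x
  haveI : IsHausdorff I F := IsAdicComplete.toIsHausdorff
  haveI : IsPrecomplete I F := IsAdicComplete.toIsPrecomplete
  haveI : IsHausdorff I M := by
    refine ⟨fun x hx => ?_⟩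
    rw [← hri x]
    have : i x = 0 := by
      apply IsHausdorff.haus (inferInstance : IsHausdorff I F)
      intro n
      rw [SModEq.zero]
      exact map_mem_smul_top i (by simpa [SModEq.zero] using hx n)
    rw [this, map_zero]
  haveI : IsPrecomplete I M := by
    refine ⟨fun x hx => ?_⟩
    obtain ⟨L, hL⟩ := IsPrecomplete.prec (inferInstance : IsPrecomplete I F)
      (f := fun n => i (x n)) (by
        intro m n hmn
        have := hx hmn
        rw [SModEq.sub_mem] at this ⊢
        rw [← map_sub]
        exact map_mem_smul_top i this)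
    refine ⟨r L, fun n => ?_⟩
    have := hL n
    rw [SModEq.sub_mem] at this ⊢
    have h2 := map_mem_smul_top r this
    rwa [map_sub, hri] at h2
  exact {}

end Projective

end Groth.Agent.Lib.Helper21.Dec
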