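import Mathlib
import Groth.Agent.Lib.Helper21.Decaying2

/-!
# Adically decaying functions: the completion of finitely supported functions
-/

open W4c5adicflatcompl

namespace Groth.Agent.Lib.Helper21.Dec

variable {A : Type*} [CommRing A] (I : Ideal A) (Z : Type*) (M : Type*) [AddCommGroup M]
  [Module A M]

/-- One step: modify an element of `ker (eval n)` by an element of `I ^ n M̂` to land in
`ker (eval (n + 1))`. -/
lemma exists_sub_mem_ker_eval_succ (n : ℕ) (x : AdicCompletion I M)
    (hx : x ∈ LinearMap.ker (AdicCompletion.eval I M n)) :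
    ∃ w : AdicCompletion I M, w ∈ (I ^ n • ⊤ : Submodule A (AdicCompletion I M)) ∧
      x - w ∈ LinearMap.ker (AdicCompletion.eval I M (n + 1)) := by
  obtain ⟨y, hy⟩ := Submodule.mkQ_surjective _ (x.val (n + 1))
  have hyn : y ∈ (I ^ n • ⊤ : Submodule A M) := by
    rw [← Submodule.Quotient.mk_eq_zero]
    have h1 := x.property (Nat.le_succ n)
    rw [← hy] at h1
    rw [LinearMap.mem_ker, AdicCompletion.eval_apply] at hx
    rw [hx] at h1
    exact h1
  refine ⟨AdicCompletion.of I M y, map_mem_smul_top (AdicCompletion.of I M) hyn, ?_⟩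
  rw [LinearMap.mem_ker, map_sub, AdicCompletion.eval_of, AdicCompletion.eval_apply, hy, sub_self]

lemma ker_eval_antitone {a b : ℕ} (h : a ≤ b) :
    LinearMap.ker (AdicCompletion.eval I M b) ≤ LinearMap.ker (AdicCompletion.eval I M a) := by
  intro x hx
  rw [LinearMap.mem_ker, AdicCompletion.eval_apply] at hx ⊢
  rw [← x.property h, hx, map_zero]

/-- If the completion `M̂` is `I`-adically precomplete then `ker (M̂ → M / I ^ n M) = I ^ n M̂`
(no finiteness assumption on `I`). -/
theorem ker_eval_le_pow_smul_top [IsPrecomplete I (AdicCompletion I M)] (n : ℕ) :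
    LinearMap.ker (AdicCompletion.eval I M n) ≤
      (I ^ n • ⊤ : Submodule A (AdicCompletion I M)) := by
  intro x hx
  have step : ∀ (j : ℕ) (y : AdicCompletion I M), ∃ w : AdicCompletion I M,
      y ∈ LinearMap.ker (AdicCompletion.eval I M j) →
        (w ∈ (I ^ j • ⊤ : Submodule A (AdicCompletion I M)) ∧
          y - w ∈ LinearMap.ker (AdicCompletion.eval I M (j + 1))) := by
    intro j y
    by_cases hy : y ∈ LinearMap.ker (AdicCompletion.eval I M j)
    · obtain ⟨w, hw1, hw2⟩ := exists_sub_mem_ker_eval_succ I M j y hy
      exact ⟨w, fun _ => ⟨hw1, hw2⟩⟩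
    · exact ⟨0, fun h => absurd h hy⟩
  choose r hr using step
  let xs : ℕ → AdicCompletion I M := fun k => Nat.rec x (fun k y => y - r (n + k) y) k
  have hxs_succ : ∀ k, xs (k + 1) = xs k - r (n + k) (xs k) := fun k => rfl
  have hxs : ∀ k, xs k ∈ LinearMap.ker (AdicCompletion.eval I M (n + k)) := by
    intro k
    induction k with
    | zero => exact hx
    | succ k ih => rw [hxs_succ]; exact (hr (n + k) (xs k) ih).2
  have hw : ∀ k, r (n + k) (xs k) ∈ (I ^ (n + k) • ⊤ : Submodule A (AdicCompletion I M)) :=
    fun k => (hr (n + k) (xs k) (hxs k)).1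
  let t : ℕ → AdicCompletion I M := fun K => ∑ k ∈ Finset.range K, r (n + k) (xs k)
  have ht_succ : ∀ K, t (K + 1) = t K + r (n + K) (xs K) := fun K => Finset.sum_range_succ _ _
  have hxt : ∀ K, x - xs K = t K := by
    intro K
    induction K with
    | zero => simp [xs, t]
    | succ K ih => rw [ht_succ, ← ih, hxs_succ]; abel
  have htn : ∀ K, t K ∈ (I ^ n • ⊤ : Submodule A (AdicCompletion I M)) := fun K =>
    Submodule.sum_mem _ fun k _ => pow_smul_top_antitone I _ (Nat.le_add_right n k) (hw k)
  have hcauchy : ∀ {a b : ℕ}, a ≤ b →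
      t a ≡ t b [SMOD (I ^ a • ⊤ : Submodule A (AdicCompletion I M))] := by
    intro a b hab
    induction b, hab using Nat.le_induction with
    | base => rfl
    | succ b hab ih =>
      rw [SModEq.sub_mem] at ih ⊢
      have h1 : t a - t (b + 1) = (t a - t b) - r (n + b) (xs b) := by rw [ht_succ]; abel
      rw [h1]
      exact Submodule.sub_mem _ ih (pow_smul_top_antitone I _ (by omega) (hw b))
  obtain ⟨L, hL⟩ := IsPrecomplete.prec (inferInstance : IsPrecomplete I (AdicCompletion I M))
    (fun h => hcauchy h)
  have hxL : x = L := by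
    rw [← sub_eq_zero]
    ext j
    rw [AdicCompletion.val_zero_apply]
    have h1 : x - L = xs j + (t j - L) := by rw [← hxt j]; abel
    have h2 : xs j ∈ LinearMap.ker (AdicCompletion.eval I M j) :=
      ker_eval_antitone I M (Nat.le_add_left j n) (hxs j)
    have h3 : t j - L ∈ LinearMap.ker (AdicCompletion.eval I M j) := by
      have := hL j
      rw [SModEq.sub_mem] at this
      exact AdicCompletion.pow_smul_top_le_ker_eval I j this
    have h4 := Submodule.add_mem _ h2 h3
    rw [← h1, LinearMap.mem_ker, AdicCompletion.eval_apply] at h4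
    exact h4
  rw [hxL]
  have h5 := hL n
  rw [SModEq.sub_mem] at h5
  have : L = t n - (t n - L) := by abel
  rw [this]
  exact Submodule.sub_mem _ (htn n) h5

variable {Z M} in
/-- Membership of a finitely supported function in `J • ⊤` is coordinatewise. -/
lemma finsupp_mem_smul_top_iff {J : Ideal A} (v : Z →₀ M) :
    v ∈ (J • ⊤ : Submodule A (Z →₀ M)) ↔ ∀ z, v z ∈ (J • ⊤ : Submodule A M) := by
  classical
  constructor
  · intro hv z
    exact map_mem_smul_top (Finsupp.lapply (R := A) (M := M) z) hv
  · intro hv
    rw [← Finsupp.sum_single v]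
    refine Submodule.sum_mem _ fun z _ => ?_
    exact map_mem_smul_top (Finsupp.lsingle (R := A) (M := M) z) (hv z)

/-- The canonical map from the completion of `Z →₀ M` to functions `Z → M̂`. -/
noncomputable def Phi : AdicCompletion I (Z →₀ M) →ₗ[A] (Z → AdicCompletion I M) :=
  LinearMap.pi fun z : Z =>
    (AdicCompletion.map I (Finsupp.lapply (M := M) (R := A) z)).restrictScalars A

lemma Phi_val (x : AdicCompletion I (Z →₀ M)) (z : Z) (n : ℕ) (v : Z →₀ M)
    (hv : x.val n = Submodule.Quotient.mk v) :
    (Phi I Z M x z).val n = Submodule.Quotient.mk (v z) := by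
  change (AdicCompletion.map I (Finsupp.lapply (M := M) (R := A) z) x).val n = _
  rw [AdicCompletion.map_val_apply, hv]
  rfl

/-- S17539. -/
theorem Phi_injective_and_range [IsAdicComplete I (AdicCompletion I M)] :
    Function.Injective (Phi I Z M) ∧
      LinearMap.range (Phi I Z M) = decaying I Z (AdicCompletion I M) := by
  classical
  haveI : IsPrecomplete I (AdicCompletion I M) := IsAdicComplete.toIsPrecomplete
  constructor
  · rw [← LinearMap.ker_eq_bot, LinearMap.ker_eq_bot']
    intro x hx
    ext n
    rw [AdicCompletion.val_zero_apply]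
    obtain ⟨v, hv⟩ := Submodule.mkQ_surjective _ (x.val n)
    rw [← hv]
    refine (Submodule.Quotient.mk_eq_zero _).2 ((finsupp_mem_smul_top_iff v).2 fun z => ?_)
    rw [← Submodule.Quotient.mk_eq_zero, ← Phi_val I Z M x z n v hv.symm, hx]
    rfl
  · apply le_antisymm
    · rintro _ ⟨x, rfl⟩ n
      obtain ⟨v, hv⟩ := Submodule.mkQ_surjective _ (x.val n)
      refine v.support.finite_toSet.subset ?_
      intro z hz
      by_contra h
      apply hz
      apply ker_eval_le_pow_smul_top I M n
      rw [LinearMap.mem_ker, AdicCompletion.eval_apply, Phi_val I Z M x z n v hv.symm]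
      have : v z = 0 := by simpa using h
      rw [this]
      rfl
    · intro f hf
      have hrep : ∀ (n : ℕ) (z : Z), ∃ y : M,
          Submodule.Quotient.mk y = (f z).val n := fun n z => Submodule.mkQ_surjective _ _
      choose ρ hρ using hrep
      let v : ℕ → (Z →₀ M) := fun n =>
        Finsupp.onFinset (hf n).toFinset (fun z => if z ∈ (hf n).toFinset then ρ n z else 0)
          (fun z hz => by
            by_contra h
            exact hz (if_neg h))
      have hv : ∀ n z, (Submodule.Quotient.mk (v n z) : M ⧸ (I ^ n • ⊤ : Submodule A M)) =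
          (f z).val n := by
        intro n z
        by_cases hz : z ∈ (hf n).toFinset
        · simp only [v, Finsupp.onFinset_apply, hz, if_true, hρ]
        · simp only [v, Finsupp.onFinset_apply, hz, if_false]
          have : f z ∈ (I ^ n • ⊤ : Submodule A (AdicCompletion I M)) := by
            by_contra h
            exact hz (by simpa using h)
          have := AdicCompletion.pow_smul_top_le_ker_eval I n this
          rw [LinearMap.mem_ker, AdicCompletion.eval_apply] at this
          rw [this]
          rfl
      let x : AdicCompletion I (Z →₀ M) :=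
        ⟨fun n => Submodule.Quotient.mk (v n), by
          intro a b hab
          change Submodule.Quotient.mk (v b) = Submodule.Quotient.mk (v a)
          rw [Submodule.Quotient.eq, finsupp_mem_smul_top_iff]
          intro z
          rw [Finsupp.sub_apply, ← Submodule.Quotient.eq, hv a z, ← (f z).property hab, ← hv b z]
          rfl⟩
      refine ⟨x, ?_⟩
      funext z
      ext n
      rw [Phi_val I Z M x z n (v n) rfl, hv]

end Groth.Agent.Lib.Helper21.Dec
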