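import Mathlib
import Groth.Agent.Lib.Helper21.Decaying3
import Groth.Agent.Lib.Helper21.Decaying4
import Groth.Agent.Lib.Helper23.AdicIso

/-!
# Adically free modules over a complete Noetherian local ring
-/

open W4c5adicflatcompl

namespace Groth.Agent.Lib.Helper21.Dec

universe u

section Congr

variable {A : Type*} [CommRing A] (I : Ideal A) (Z : Type*) {P P' : Type*} [AddCommGroup P]
  [Module A P] [AddCommGroup P'] [Module A P']

/-- Functoriality of decaying functions in the module of values. -/
def decayingMap (ψ : P →ₗ[A] P') : decaying I Z P →ₗ[A] decaying I Z P' where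
  toFun f := ⟨fun z => ψ ((f : Z → P) z), comp_mem ψ f.2⟩
  map_add' f g := by
    apply Subtype.ext
    funext z
    simp
  map_smul' a f := by
    apply Subtype.ext
    funext z
    simp

@[simp] lemma decayingMap_apply (ψ : P →ₗ[A] P') (f : decaying I Z P) (z : Z) :
    ((decayingMap I Z ψ f : decaying I Z P') : Z → P') z = ψ ((f : Z → P) z) := rfl

/-- A linear equivalence of value modules induces one of modules of decaying functions. -/
def decayingCongr (e : P ≃ₗ[A] P') : decaying I Z P ≃ₗ[A] decaying I Z P' :=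
  LinearEquiv.ofLinearMap (decayingMap I Z e.toLinearMap) (decayingMap I Z e.symm.toLinearMap)
    (LinearMap.ext fun f => Subtype.ext (funext fun z => by simp))
    (LinearMap.ext fun f => Subtype.ext (funext fun z => by simp))

end Congr

section Local

variable {A : Type u} [CommRing A] [IsLocalRing A] (M : Type u) [AddCommGroup M] [Module A M]

/-- A family of elements of `M` lifting a basis of `M / 𝔪 M`. -/
lemma exists_family : ∃ (Z : Type u) (x : Z → M),
    Submodule.span A (Set.range x) ⊔ (IsLocalRing.maximalIdeal A) • ⊤ = ⊤ ∧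
    ∀ (S : Finset Z) (c : Z → A),
      ∑ z ∈ S, c z • x z ∈ ((IsLocalRing.maximalIdeal A) • ⊤ : Submodule A M) →
        ∀ z ∈ S, c z ∈ IsLocalRing.maximalIdeal A := by
  letI : Field (A ⧸ IsLocalRing.maximalIdeal A) := Ideal.Quotient.field _
  let V := M ⧸ ((IsLocalRing.maximalIdeal A) • ⊤ : Submodule A M)
  let b := Module.Basis.ofVectorSpace (A ⧸ IsLocalRing.maximalIdeal A) V
  have hlift : ∀ z, ∃ y : M, Submodule.Quotient.mk y = b z := fun z =>
    Submodule.mkQ_surjective _ (b z)
  choose x hx using hlift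
  refine ⟨_, x, ?_, ?_⟩
  · rw [eq_top_iff]
    intro y _
    have hv : (Submodule.Quotient.mk y : V) ∈
        Submodule.span (A ⧸ IsLocalRing.maximalIdeal A) (Set.range b) := by
      rw [b.span_eq]; exact Submodule.mem_top
    have key : ∀ v ∈ Submodule.span (A ⧸ IsLocalRing.maximalIdeal A) (Set.range b),
        ∃ y₁ ∈ Submodule.span A (Set.range x), (Submodule.Quotient.mk y₁ : V) = v := by
      intro v hv
      induction hv using Submodule.span_induction with
      | mem v hv =>
        obtain ⟨z, rfl⟩ := hv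
        exact ⟨x z, Submodule.subset_span ⟨z, rfl⟩, hx z⟩
      | zero => exact ⟨0, Submodule.zero_mem _, rfl⟩
      | add v w _ _ hv hw =>
        obtain ⟨y₁, hy₁, rfl⟩ := hv
        obtain ⟨y₂, hy₂, rfl⟩ := hw
        exact ⟨y₁ + y₂, Submodule.add_mem _ hy₁ hy₂, rfl⟩
      | smul a v _ hv =>
        obtain ⟨y₁, hy₁, rfl⟩ := hv
        obtain ⟨a, rfl⟩ := Ideal.Quotient.mk_surjective a
        exact ⟨a • y₁, Submodule.smul_mem _ _ hy₁, rfl⟩
    obtain ⟨y₁, hy₁, hyy⟩ := key _ hv
    have h2 : y - y₁ ∈ ((IsLocalRing.maximalIdeal A) • ⊤ : Submodule A M) := by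
      rw [← Submodule.Quotient.eq]; exact hyy.symm
    have : y = y₁ + (y - y₁) := by abel
    rw [this]
    exact Submodule.add_mem_sup hy₁ h2
  · intro S c hc z hz
    have h0 : (Submodule.Quotient.mk (∑ z ∈ S, c z • x z) : V) = 0 :=
      (Submodule.Quotient.mk_eq_zero _).2 hc
    have h1 : ∑ z ∈ S, (Ideal.Quotient.mk (IsLocalRing.maximalIdeal A) (c z)) • b z = 0 := by
      rw [← h0, ← Submodule.mkQ_apply, map_sum]
      refine Finset.sum_congr rfl fun z _ => ?_
      rw [← hx z]
      rfl
    have := linearIndependent_iff'.1 b.linearIndependent S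
      (fun z => Ideal.Quotient.mk (IsLocalRing.maximalIdeal A) (c z)) h1 z hz
    exact Ideal.Quotient.eq_zero_iff_mem.1 this

variable [IsNoetherianRing A] [IsAdicComplete (IsLocalRing.maximalIdeal A) A]

/-- A flat complete module over a complete Noetherian local ring is adically free. -/
theorem isAdicFree_of_flat_of_isAdicComplete [Module.Flat A M]
    [IsAdicComplete (IsLocalRing.maximalIdeal A) M] :
    IsAdicFree (IsLocalRing.maximalIdeal A) M := by
  classical
  have hI : (IsLocalRing.maximalIdeal A).FG := IsNoetherian.noetherian _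
  haveI : IsHausdorff (IsLocalRing.maximalIdeal A) A := IsAdicComplete.toIsHausdorff
  haveI : IsHausdorff (IsLocalRing.maximalIdeal A) M := IsAdicComplete.toIsHausdorff
  obtain ⟨Z, x, hx1, hx2⟩ := exists_family (A := A) M
  let u : decaying (IsLocalRing.maximalIdeal A) Z A →ₗ[A] M :=
    sumMap (I := IsLocalRing.maximalIdeal A) (fun z => LinearMap.toSpanSingleton A M (x z))
  haveI : IsAdicComplete (IsLocalRing.maximalIdeal A) (decaying (IsLocalRing.maximalIdeal A) Z A) :=
    isAdicComplete hI
  have hs : ∀ y : M, ∃ g, y - u g ∈ ((IsLocalRing.maximalIdeal A) • ⊤ : Submodule A M) := by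
    intro y
    have hy : y ∈ Submodule.span A (Set.range x) ⊔ (IsLocalRing.maximalIdeal A) • ⊤ := by
      rw [hx1]; exact Submodule.mem_top
    obtain ⟨y₁, hy₁, y₂, hy₂, rfl⟩ := Submodule.mem_sup.1 hy
    obtain ⟨c, rfl⟩ := Finsupp.mem_span_range_iff_exists_finsupp.1 hy₁
    refine ⟨∑ z ∈ c.support, single (IsLocalRing.maximalIdeal A) z (c z), ?_⟩
    have : u (∑ z ∈ c.support, single (IsLocalRing.maximalIdeal A) z (c z)) =
        c.sum fun z a => a • x z := by
      rw [map_sum, Finsupp.sum]
      refine Finset.sum_congr rfl fun z _ => ?_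
      rw [sumMap_single, LinearMap.toSpanSingleton_apply]
    rw [this]
    simpa using hy₂
  have h₀ : ∀ g, u g ∈ ((IsLocalRing.maximalIdeal A) • ⊤ : Submodule A M) →
      g ∈ ((IsLocalRing.maximalIdeal A) • ⊤ :
        Submodule A (decaying (IsLocalRing.maximalIdeal A) Z A)) := by
    intro g hg
    obtain ⟨S, hS1, hS2⟩ : ∃ S : Finset Z,
        {z | (g : Z → A) z ∉ ((IsLocalRing.maximalIdeal A) ^ 1 • ⊤ : Submodule A A)} ⊆ S ∧
        ∀ z ∈ S, (g : Z → A) z ∉ ((IsLocalRing.maximalIdeal A) ^ 1 • ⊤ : Submodule A A) :=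
      ⟨(g.2 1).toFinset, fun z hz => by simpa using hz, fun z hz => by simpa using hz⟩
    have h1 := sumMap_sub_sum_mem (I := IsLocalRing.maximalIdeal A)
      (fun z => LinearMap.toSpanSingleton A M (x z)) g 1 S hS1
    rw [pow_one] at h1
    have h2 : ∑ z ∈ S, (g : Z → A) z • x z ∈
        ((IsLocalRing.maximalIdeal A) • ⊤ : Submodule A M) := by
      have h5 := Submodule.sub_mem _ hg h1
      have h6 : u g - (sumMap (I := IsLocalRing.maximalIdeal A)
          (fun z => LinearMap.toSpanSingleton A M (x z)) g -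
          ∑ z ∈ S, LinearMap.toSpanSingleton A M (x z) ((g : Z → A) z)) =
          ∑ z ∈ S, (g : Z → A) z • x z := by
        simp only [LinearMap.toSpanSingleton_apply]
        change u g - (u g - _) = _
        abel
      rwa [h6] at h5
    have h3 := hx2 _ _ h2
    have h4 : ∀ z, (g : Z → A) z ∈ ((IsLocalRing.maximalIdeal A) ^ 1 • ⊤ : Submodule A A) := by
      intro z
      by_contra h
      have hz : z ∈ S := hS1 h
      apply h
      simpa using h3 z hz
    have := mem_smul_top_of_forall_mem hI 1 g h4
    rwa [pow_one] at this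
  have hbij := Groth.Agent.Lib.Helper23.AdicIso.bijective_of_flat (IsLocalRing.maximalIdeal A) u
    hs h₀
  exact ⟨Z, ⟨(LinearEquiv.ofBijective u hbij).symm.trans
    (decayingCongr _ Z (AdicCompletion.ofLinearEquiv (IsLocalRing.maximalIdeal A) A))⟩⟩

/-- S17552. -/
theorem isAdicFree_iff :
    IsAdicFree (IsLocalRing.maximalIdeal A) M ↔
      Module.Flat A M ∧ IsAdicComplete (IsLocalRing.maximalIdeal A) M := by
  have hI : (IsLocalRing.maximalIdeal A).FG := IsNoetherian.noetherian _
  constructor
  · rintro ⟨Z, ⟨e⟩⟩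
    haveI : IsAdicComplete (IsLocalRing.maximalIdeal A)
        (AdicCompletion (IsLocalRing.maximalIdeal A) A) := AdicCompletion.isAdicComplete hI
    haveI : IsAdicComplete (IsLocalRing.maximalIdeal A)
        (decaying (IsLocalRing.maximalIdeal A) Z (AdicCompletion (IsLocalRing.maximalIdeal A) A)) :=
      isAdicComplete hI
    constructor
    · haveI := flat (IsLocalRing.maximalIdeal A) Z
        (IsAdicComplete.le_jacobson_bot (IsLocalRing.maximalIdeal A))
      exact Module.Flat.of_linearEquiv (e.trans
        (decayingCongr _ Z (AdicCompletion.ofLinearEquiv (IsLocalRing.maximalIdeal A) A)).symm)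
    · exact isAdicComplete_of_retract e.toLinearMap e.symm.toLinearMap (by ext; simp)
  · rintro ⟨h1, h2⟩
    exact isAdicFree_of_flat_of_isAdicComplete M

end Local

end Groth.Agent.Lib.Helper21.Dec
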