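import Mathlib
import Groth.Agent.Lib.Helper21.Decaying6

/-!
# Inverse limits of flat adic systems over a complete Noetherian local ring
-/

open W4c5adicflatcompl

namespace Groth.Agent.Lib.Helper21.Dec

universe u

/-- Sections of a tower of surjections through a prescribed element. -/
lemma tower_surjective {M : ℕ → Type*} (ψ : ∀ n, M (n + 1) → M n)
    (hψ : ∀ n, Function.Surjective (ψ n)) :
    ∀ (n : ℕ) (y : M n), ∃ x : ∀ k, M k, (∀ k, ψ k (x (k + 1)) = x k) ∧ x n = y := by
  intro n
  induction n generalizing M with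
  | zero =>
    intro y
    choose σ hσ using hψ
    exact ⟨fun k => Nat.rec y (fun k xk => σ k xk) k, fun k => hσ k _, rfl⟩
  | succ n ih =>
    intro y
    obtain ⟨x', hx', hxn⟩ := ih (M := fun k => M (k + 1)) (fun k => ψ (k + 1))
      (fun k => hψ (k + 1)) y
    refine ⟨fun k => match k with | 0 => ψ 0 (x' 0) | k + 1 => x' k, ?_, hxn⟩
    intro k
    cases k with
    | zero => rfl
    | succ k => exact hx' k

/-- A module killed by a power of `I` is `I`-adically complete. -/
theorem isAdicComplete_of_pow_smul_top_eq_bot {A : Type*} [CommRing A] {I : Ideal A} {M : Type*}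
    [AddCommGroup M] [Module A M] {k : ℕ} (h : (I ^ k • ⊤ : Submodule A M) = ⊥) :
    IsAdicComplete I M := by
  haveI : IsHausdorff I M := by
    refine ⟨fun x hx => ?_⟩
    have := hx k
    rwa [h, SModEq.bot] at this
  haveI : IsPrecomplete I M := by
    refine ⟨fun f hf => ⟨f k, fun n => ?_⟩⟩
    by_cases hnk : n ≤ k
    · exact hf hnk
    · have := hf (show k ≤ n by omega)
      rw [h, SModEq.bot] at this
      rw [this]
  exact {}

section Tower

variable {A : Type u} [CommRing A] [IsLocalRing A]
  (M : ℕ → Type u) [∀ n, AddCommGroup (M n)] [∀ n, Module A (M n)]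
  [∀ n, Module (A ⧸ IsLocalRing.maximalIdeal A ^ (n + 1)) (M n)]
  [∀ n, IsScalarTower A (A ⧸ IsLocalRing.maximalIdeal A ^ (n + 1)) (M n)]

lemma pow_smul_top_eq_bot (n : ℕ) :
    (IsLocalRing.maximalIdeal A ^ (n + 1) • ⊤ : Submodule A (M n)) = ⊥ := by
  rw [eq_bot_iff]
  intro y hy
  refine Submodule.smul_induction_on hy ?_ ?_
  · intro a ha m _
    rw [Submodule.mem_bot, ← algebraMap_smul (A ⧸ IsLocalRing.maximalIdeal A ^ (n + 1)) a m,
      Ideal.Quotient.algebraMap_eq, Ideal.Quotient.eq_zero_iff_mem.2 ha, zero_smul]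
  · intro y₁ y₂ h₁ h₂
    exact Submodule.add_mem _ h₁ h₂

/-- Relations in a module flat over `A / 𝔪 ^ (n + 1)`, lifted to `A`. -/
lemma trivial_relation (n : ℕ) [Module.Flat (A ⧸ IsLocalRing.maximalIdeal A ^ (n + 1)) (M n)]
    {r : ℕ} (a : Fin r → A) (m : Fin r → M n) (h : ∑ i, a i • m i = 0) :
    ∃ (k : ℕ) (b : Fin r → Fin k → A) (y : Fin k → M n),
      (∀ i, m i = ∑ l, b i l • y l) ∧
      ∀ l, ∑ i, a i * b i l ∈ IsLocalRing.maximalIdeal A ^ (n + 1) := by
  have h' : ∑ i, (Ideal.Quotient.mk (IsLocalRing.maximalIdeal A ^ (n + 1)) (a i)) • m i = 0 := by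
    rw [← h]
    refine Finset.sum_congr rfl fun i _ => ?_
    rw [← Ideal.Quotient.algebraMap_eq, algebraMap_smul]
  obtain ⟨k, b', y, hy, hb⟩ := Module.Flat.isTrivialRelation_of_sum_smul_eq_zero h'
  have hlift : ∀ i l, ∃ c : A,
      Ideal.Quotient.mk (IsLocalRing.maximalIdeal A ^ (n + 1)) c = b' i l :=
    fun i l => Ideal.Quotient.mk_surjective _
  choose b hbl using hlift
  refine ⟨k, b, y, fun i => ?_, fun l => ?_⟩
  · rw [hy i]
    refine Finset.sum_congr rfl fun l _ => ?_
    rw [← hbl i l, ← Ideal.Quotient.algebraMap_eq, algebraMap_smul]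
  · rw [← Ideal.Quotient.eq_zero_iff_mem, map_sum, ← hb l]
    refine Finset.sum_congr rfl fun i _ => ?_
    rw [map_mul, hbl]

variable [IsNoetherianRing A] [IsAdicComplete (IsLocalRing.maximalIdeal A) A]
  [∀ n, Module.Flat (A ⧸ IsLocalRing.maximalIdeal A ^ (n + 1)) (M n)]
  (ψ : ∀ n, M (n + 1) →ₗ[A] M n) (hψ : ∀ n, Function.Surjective (ψ n))
  (hker : ∀ n, LinearMap.ker (ψ n) =
      (IsLocalRing.maximalIdeal A ^ (n + 1) • ⊤ : Submodule A (M (n + 1))))

include hψ hker in
/-- S17551. -/
theorem tower_main :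
    IsAdicFree (IsLocalRing.maximalIdeal A) (sysLim M ψ) ∧
      ∀ n, Function.Surjective (sysProj M ψ n) ∧
        LinearMap.ker (sysProj M ψ n) =
          (IsLocalRing.maximalIdeal A ^ (n + 1) • ⊤ : Submodule A (sysLim M ψ)) := by
  classical
  have hI : (IsLocalRing.maximalIdeal A).FG := IsNoetherian.noetherian _
  haveI : IsHausdorff (IsLocalRing.maximalIdeal A) A := IsAdicComplete.toIsHausdorff
  have hbot := pow_smul_top_eq_bot (A := A) M
  haveI hc : ∀ n, IsAdicComplete (IsLocalRing.maximalIdeal A) (M n) := fun n =>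
    isAdicComplete_of_pow_smul_top_eq_bot (hbot n)
  obtain ⟨Z, x0, hx1, hx2⟩ := exists_family (A := A) (M 0)
  have hlift : ∀ z, ∃ X : ∀ k, M k, (∀ k, ψ k (X (k + 1)) = X k) ∧ X 0 = x0 z := fun z =>
    tower_surjective (fun n => ψ n) hψ 0 (x0 z)
  choose X hX hX0 using hlift
  haveI : IsAdicComplete (IsLocalRing.maximalIdeal A) (decaying (IsLocalRing.maximalIdeal A) Z A) :=
    isAdicComplete hI
  let U : ∀ n, decaying (IsLocalRing.maximalIdeal A) Z A →ₗ[A] M n := fun n =>
    sumMap (I := IsLocalRing.maximalIdeal A) (fun z => LinearMap.toSpanSingleton A (M n) (X z n))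
  have hUsum : ∀ (n : ℕ) (g : decaying (IsLocalRing.maximalIdeal A) Z A) (T : Finset Z),
      {z | (g : Z → A) z ∉ (IsLocalRing.maximalIdeal A ^ (n + 1) • ⊤ : Submodule A A)} ⊆ T →
      U n g = ∑ z ∈ T, (g : Z → A) z • X z n := by
    intro n g T hT
    have := sumMap_sub_sum_mem (I := IsLocalRing.maximalIdeal A)
      (fun z => LinearMap.toSpanSingleton A (M n) (X z n)) g (n + 1) T hT
    rw [hbot n, Submodule.mem_bot, sub_eq_zero] at this
    simpa [LinearMap.toSpanSingleton_apply] using this
  have hUsingle : ∀ (n : ℕ) (z : Z) (a : A),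
      U n (single (IsLocalRing.maximalIdeal A) z a) = a • X z n := by
    intro n z a
    change sumMap (I := IsLocalRing.maximalIdeal A) _ _ = _
    rw [sumMap_single, LinearMap.toSpanSingleton_apply]
  have hcompat : ∀ (n : ℕ) (g : decaying (IsLocalRing.maximalIdeal A) Z A),
      ψ n (U (n + 1) g) = U n g := by
    intro n g
    obtain ⟨T, hT2⟩ : ∃ T : Finset Z, {z | (g : Z → A) z ∉
        (IsLocalRing.maximalIdeal A ^ (n + 1 + 1) • ⊤ : Submodule A A)} ⊆ T :=
      ⟨(g.2 (n + 1 + 1)).toFinset, fun z hz => by simpa using hz⟩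
    have hT1 : {z | (g : Z → A) z ∉
        (IsLocalRing.maximalIdeal A ^ (n + 1) • ⊤ : Submodule A A)} ⊆ T := by
      intro z hz
      apply hT2
      intro h
      exact hz (pow_smul_top_antitone _ _ (Nat.le_succ _) h)
    rw [hUsum (n + 1) g T hT2, hUsum n g T hT1, map_sum]
    refine Finset.sum_congr rfl fun z _ => ?_
    rw [map_smul, hX]
  have hUkill : ∀ (n : ℕ) (g : decaying (IsLocalRing.maximalIdeal A) Z A),
      g ∈ (IsLocalRing.maximalIdeal A ^ (n + 1) • ⊤ :
        Submodule A (decaying (IsLocalRing.maximalIdeal A) Z A)) → U n g = 0 := by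
    intro n g hg
    have := map_mem_smul_top (U n) hg
    rwa [hbot n, Submodule.mem_bot] at this
  have hb0 : ∀ g : decaying (IsLocalRing.maximalIdeal A) Z A, U 0 g = 0 →
      ∀ z, (g : Z → A) z ∈ IsLocalRing.maximalIdeal A := by
    intro g hg
    obtain ⟨S, hS1, hS2⟩ : ∃ S : Finset Z,
        {z | (g : Z → A) z ∉ ((IsLocalRing.maximalIdeal A) ^ (0 + 1) • ⊤ : Submodule A A)} ⊆ S ∧
        ∀ z ∈ S, (g : Z → A) z ∉ ((IsLocalRing.maximalIdeal A) ^ (0 + 1) • ⊤ : Submodule A A) :=
      ⟨(g.2 (0 + 1)).toFinset, fun z hz => by simpa using hz, fun z hz => by simpa using hz⟩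
    have h1 := hUsum 0 g S hS1
    rw [hg] at h1
    have h2 : ∑ z ∈ S, (g : Z → A) z • x0 z ∈
        ((IsLocalRing.maximalIdeal A) • ⊤ : Submodule A (M 0)) := by
      have : ∑ z ∈ S, (g : Z → A) z • x0 z = 0 := by
        rw [h1]
        refine Finset.sum_congr rfl fun z _ => ?_
        rw [hX0]
      rw [this]
      exact Submodule.zero_mem _
    have h3 := hx2 S _ h2
    intro z
    by_contra h
    have hz : z ∈ S := hS1 (by simpa using h)
    exact h (h3 z hz)
  have hdown : ∀ (n : ℕ) (g : decaying (IsLocalRing.maximalIdeal A) Z A),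
      U n g = 0 → U 0 g = 0 := by
    intro n
    induction n with
    | zero => exact fun g h => h
    | succ n ih =>
      intro g h
      apply ih
      rw [← hcompat, h, map_zero]
  have ha : ∀ n, Function.Surjective (U n) := by
    intro n
    induction n with
    | zero =>
      intro y
      have hy : y ∈ Submodule.span A (Set.range x0) ⊔ (IsLocalRing.maximalIdeal A) • ⊤ := by
        rw [hx1]; exact Submodule.mem_top
      have h𝔪0 : ((IsLocalRing.maximalIdeal A) • ⊤ : Submodule A (M 0)) = ⊥ := by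
        simpa using hbot 0
      rw [h𝔪0, sup_bot_eq] at hy
      obtain ⟨c, rfl⟩ := Finsupp.mem_span_range_iff_exists_finsupp.1 hy
      refine ⟨∑ z ∈ c.support, single (IsLocalRing.maximalIdeal A) z (c z), ?_⟩
      rw [map_sum, Finsupp.sum]
      refine Finset.sum_congr rfl fun z _ => ?_
      rw [hUsingle, hX0]
    | succ n ih =>
      have hsmall : ∀ y ∈ (IsLocalRing.maximalIdeal A ^ (n + 1) • ⊤ : Submodule A (M (n + 1))),
          y ∈ LinearMap.range (U (n + 1)) := by
        intro y hy
        refine Submodule.smul_induction_on hy ?_ ?_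
        · intro a ha m _
          obtain ⟨g, hg⟩ := ih (ψ n m)
          have h1 : m - U (n + 1) g ∈ LinearMap.ker (ψ n) := by
            rw [LinearMap.mem_ker, map_sub, hcompat, hg, sub_self]
          rw [hker n] at h1
          have h2 : a • (m - U (n + 1) g) ∈
              (IsLocalRing.maximalIdeal A ^ (n + 1 + 1) • ⊤ : Submodule A (M (n + 1))) := by
            have : a • (m - U (n + 1) g) ∈ (IsLocalRing.maximalIdeal A ^ (n + 1) •
                (IsLocalRing.maximalIdeal A ^ (n + 1) • ⊤) : Submodule A (M (n + 1))) :=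
              Submodule.smul_mem_smul ha h1
            rw [← Submodule.mul_smul, ← pow_add] at this
            exact pow_smul_top_antitone _ _ (by omega) this
          rw [hbot (n + 1), Submodule.mem_bot, smul_sub, sub_eq_zero] at h2
          exact ⟨a • g, by rw [map_smul, h2]⟩
        · intro y₁ y₂ h₁ h₂
          exact Submodule.add_mem _ h₁ h₂
      intro y
      obtain ⟨g, hg⟩ := ih (ψ n y)
      have h1 : y - U (n + 1) g ∈ LinearMap.ker (ψ n) := by
        rw [LinearMap.mem_ker, map_sub, hcompat, hg, sub_self]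
      rw [hker n] at h1
      obtain ⟨g', hg'⟩ := hsmall _ h1
      exact ⟨g + g', by rw [map_add, hg']; abel⟩
  have hb : ∀ (n : ℕ) (g : decaying (IsLocalRing.maximalIdeal A) Z A), U n g = 0 →
      ∀ z, (g : Z → A) z ∈ IsLocalRing.maximalIdeal A ^ (n + 1) := by
    intro n
    have key : ∀ j, j ≤ n + 1 → ∀ g : decaying (IsLocalRing.maximalIdeal A) Z A, U n g = 0 →
        ∀ z, (g : Z → A) z ∈ IsLocalRing.maximalIdeal A ^ j := by
      intro j
      induction j with
      | zero => intro _ g _ z; simp
      | succ j ih =>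
        intro hj g hg z
        have hgj := ih (by omega) g hg
        have hgmem : g ∈ (IsLocalRing.maximalIdeal A ^ j • ⊤ :
            Submodule A (decaying (IsLocalRing.maximalIdeal A) Z A)) :=
          mem_smul_top_of_forall_mem hI j g (fun z => by simpa using hgj z)
        obtain ⟨r, a, haspan⟩ := Submodule.fg_iff_exists_fin_generating_family.1 (hI.pow (n := j))
        have haI : ∀ i, a i ∈ IsLocalRing.maximalIdeal A ^ j := fun i =>
          haspan ▸ Submodule.subset_span ⟨i, rfl⟩
        obtain ⟨p, -, hgp⟩ := exists_sum_of_mem_smul a haspan ⊤ hgmem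
        have hrel : ∑ i, a i • U n (p i) = 0 := by
          rw [← hg, hgp, map_sum]
          refine Finset.sum_congr rfl fun i _ => ?_
          rw [map_smul]
        obtain ⟨k, b, y, hy, hbrel⟩ := trivial_relation M n a (fun i => U n (p i)) hrel
        choose d hd using fun l => ha n (y l)
        have hq : ∀ i, U n (p i - ∑ l, b i l • d l) = 0 := by
          intro i
          rw [map_sub, map_sum, hy i, sub_eq_zero]
          refine Finset.sum_congr rfl fun l _ => ?_
          rw [map_smul, hd]
        have hq0 : ∀ i z, ((p i - ∑ l, b i l • d l : decaying (IsLocalRing.maximalIdeal A) Z A) :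
            Z → A) z ∈ IsLocalRing.maximalIdeal A := fun i => hb0 _ (hdown n _ (hq i))
        have hval : (g : Z → A) z =
            ∑ i, a i * ((p i - ∑ l, b i l • d l : decaying (IsLocalRing.maximalIdeal A) Z A) :
              Z → A) z + ∑ l, (∑ i, a i * b i l) * ((d l : decaying _ Z A) : Z → A) z := by
          have h1 : (g : Z → A) z = ∑ i, a i * ((p i : decaying _ Z A) : Z → A) z := by
            rw [hgp]
            simp [Finset.sum_apply]
          have h2 : ∀ i, ((p i - ∑ l, b i l • d l : decaying (IsLocalRing.maximalIdeal A) Z A) :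
              Z → A) z = ((p i : decaying _ Z A) : Z → A) z -
                ∑ l, b i l * ((d l : decaying _ Z A) : Z → A) z := by
            intro i
            simp [Finset.sum_apply]
          rw [h1]
          simp only [h2, mul_sub, Finset.sum_sub_distrib, Finset.mul_sum, Finset.sum_mul]
          rw [Finset.sum_comm (f := fun l i => a i * b i l * ((d l : decaying _ Z A) : Z → A) z)]
          simp only [mul_assoc]
          abel
        rw [hval]
        refine Ideal.add_mem _ (Ideal.sum_mem _ fun i _ => ?_) (Ideal.sum_mem _ fun l _ => ?_)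
        · rw [pow_succ]
          exact Ideal.mul_mem_mul (haI i) (hq0 i z)
        · exact Ideal.mul_mem_right _ _ (Ideal.pow_le_pow_right hj (hbrel l))
    exact key (n + 1) le_rfl
  -- the limit map
  let Ulim : decaying (IsLocalRing.maximalIdeal A) Z A →ₗ[A] sysLim M ψ :=
    LinearMap.codRestrict (sysLim M ψ) (LinearMap.pi U) (fun g n => hcompat n g)
  have hUlim : ∀ g n, ((Ulim g : sysLim M ψ) : ∀ k, M k) n = U n g := fun g n => rfl
  have hinj : Function.Injective Ulim := by
    rw [← LinearMap.ker_eq_bot, LinearMap.ker_eq_bot']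
    intro g hg
    apply Subtype.ext
    funext z
    apply IsHausdorff.haus (inferInstance : IsHausdorff (IsLocalRing.maximalIdeal A) A)
    intro n
    rw [SModEq.zero]
    have h1 : U n g = 0 := by rw [← hUlim, hg]; rfl
    have h2 := hb n g h1 z
    have h3 : (g : Z → A) z ∈ IsLocalRing.maximalIdeal A ^ n :=
      Ideal.pow_le_pow_right (Nat.le_succ n) h2
    simpa using h3
  have hsurj : Function.Surjective Ulim := by
    intro y
    choose gs hgs using fun n => ha n ((y : ∀ k, M k) n)
    have hstep : ∀ n, gs (n + 1) - gs n ∈ (IsLocalRing.maximalIdeal A ^ (n + 1) • ⊤ :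
        Submodule A (decaying (IsLocalRing.maximalIdeal A) Z A)) := by
      intro n
      refine mem_smul_top_of_forall_mem hI (n + 1) _ (fun z => ?_)
      have h1 : U n (gs (n + 1) - gs n) = 0 := by
        rw [map_sub, ← hcompat, hgs, hgs, y.2 n, sub_self]
      simpa using hb n _ h1 z
    have hcauchy : ∀ {a b : ℕ}, a ≤ b → gs a ≡ gs b [SMOD (IsLocalRing.maximalIdeal A ^ a • ⊤ :
        Submodule A (decaying (IsLocalRing.maximalIdeal A) Z A))] := by
      intro a b hab
      induction b, hab using Nat.le_induction with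
      | base => rfl
      | succ b hab ih =>
        rw [SModEq.sub_mem] at ih ⊢
        have h1 : gs a - gs (b + 1) = (gs a - gs b) - (gs (b + 1) - gs b) := by abel
        rw [h1]
        exact Submodule.sub_mem _ ih (pow_smul_top_antitone _ _ (by omega) (hstep b))
    obtain ⟨g, hg⟩ := IsPrecomplete.prec (IsAdicComplete.toIsPrecomplete
      (I := IsLocalRing.maximalIdeal A) (M := decaying (IsLocalRing.maximalIdeal A) Z A))
      (fun h => hcauchy h)
    refine ⟨g, ?_⟩
    apply Subtype.ext
    funext n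
    rw [hUlim]
    have h1 := hg (n + 1)
    rw [SModEq.sub_mem] at h1
    have h2 := hUkill n _ h1
    rw [map_sub, sub_eq_zero] at h2
    rw [← h2, ← hcompat, hgs, y.2 n]
  refine ⟨⟨Z, ⟨(LinearEquiv.ofBijective Ulim ⟨hinj, hsurj⟩).symm.trans
    (decayingCongr _ Z (AdicCompletion.ofLinearEquiv (IsLocalRing.maximalIdeal A) A))⟩⟩, ?_⟩
  intro n
  constructor
  · intro y
    obtain ⟨x, hx, hxn⟩ := tower_surjective (fun n => ψ n) hψ n y
    exact ⟨⟨x, hx⟩, hxn⟩
  · apply le_antisymm
    · intro y hy
      obtain ⟨g, rfl⟩ := hsurj y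
      rw [LinearMap.mem_ker, sysProj_apply, hUlim] at hy
      have := mem_smul_top_of_forall_mem hI (n + 1) g (fun z => by simpa using hb n g hy z)
      exact map_mem_smul_top Ulim this
    · intro y hy
      have := map_mem_smul_top (sysProj M ψ n) hy
      rwa [hbot n, Submodule.mem_bot] at this

end Tower

end Groth.Agent.Lib.Helper21.Dec
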