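import Mathlib
import Groth.Agent.Lib.Helper21.Decaying4
import Groth.Agent.Lib.Helper21.Decaying5

/-!
# Completed base change of adically free modules
-/

open W4c5adicflatcompl
open scoped TensorProduct

namespace Groth.Agent.Lib.Helper21.Dec

universe u

/-- A linear map which is bijective modulo every power of `J` induces a bijection on completions. -/
theorem map_bijective_of_mod {R : Type*} [CommRing R] (J : Ideal R) {M N : Type*}
    [AddCommGroup M] [Module R M] [AddCommGroup N] [Module R N] (f : M →ₗ[R] N)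
    (h1 : ∀ (n : ℕ) (y : N), ∃ x : M, y - f x ∈ (J ^ n • ⊤ : Submodule R N))
    (h2 : ∀ (n : ℕ) (x : M), f x ∈ (J ^ n • ⊤ : Submodule R N) →
      x ∈ (J ^ n • ⊤ : Submodule R M)) :
    Function.Bijective (AdicCompletion.map J f) := by
  constructor
  · rw [injective_iff_map_eq_zero]
    intro x hx
    ext n
    rw [AdicCompletion.val_zero_apply]
    obtain ⟨v, hv⟩ := Submodule.mkQ_surjective _ (x.val n)
    have h3 : (AdicCompletion.map J f x).val n = Submodule.Quotient.mk (f v) := by
      rw [AdicCompletion.map_val_apply, ← hv]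
      rfl
    rw [hx, AdicCompletion.val_zero_apply] at h3
    rw [← hv]
    exact (Submodule.Quotient.mk_eq_zero _).2
      (h2 n v ((Submodule.Quotient.mk_eq_zero _).1 h3.symm))
  · intro y
    choose ρ hρ using fun n => Submodule.mkQ_surjective (J ^ n • ⊤ : Submodule R N) (y.val n)
    choose ξ hξ using fun n => h1 n (ρ n)
    have hcompat : ∀ {a b : ℕ}, a ≤ b → ξ b - ξ a ∈ (J ^ a • ⊤ : Submodule R M) := by
      intro a b hab
      apply h2
      have e1 : f (ξ b - ξ a) = (ρ b - ρ a) - (ρ b - f (ξ b)) + (ρ a - f (ξ a)) := by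
        rw [map_sub]; abel
      rw [e1]
      refine Submodule.add_mem _ (Submodule.sub_mem _ ?_
        (pow_smul_top_antitone _ _ hab (hξ b))) (hξ a)
      rw [← Submodule.Quotient.eq]
      have := y.property hab
      rw [← hρ b, ← hρ a] at this
      exact this
    refine ⟨⟨fun n => Submodule.Quotient.mk (ξ n), ?_⟩, ?_⟩
    · intro a b hab
      change Submodule.Quotient.mk (ξ b) = Submodule.Quotient.mk (ξ a)
      rw [Submodule.Quotient.eq]
      exact hcompat hab
    · ext n
      rw [AdicCompletion.map_val_apply]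
      change Submodule.Quotient.mk (f (ξ n)) = _
      rw [← hρ n, Submodule.mkQ_apply, eq_comm, Submodule.Quotient.eq]
      exact hξ n

section BaseChange

variable {A B : Type*} [CommRing A] [CommRing B] [Algebra A B] (I : Ideal A) (J : Ideal B)
  (Z : Type*) [DecidableEq Z]

/-- The comparison map from the free `B`-module on `Z` to the base change of decaying functions. -/
noncomputable def wMap : (Z →₀ B) →ₗ[B] B ⊗[A] decaying I Z (AdicCompletion I A) :=
  Finsupp.linearCombination B (fun z => (1 : B) ⊗ₜ[A] single I z (1 : AdicCompletion I A))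

lemma wMap_single (z : Z) (b : B) :
    wMap I Z (Finsupp.single z b) = b ⊗ₜ[A] single I z (1 : AdicCompletion I A) := by
  rw [wMap, Finsupp.linearCombination_single, TensorProduct.smul_tmul', smul_eq_mul, mul_one]

variable {I J Z}

lemma algebraMap_mem_pow (hIJ : I.map (algebraMap A B) ≤ J) {n : ℕ} {a : A} (ha : a ∈ I ^ n) :
    algebraMap A B a ∈ J ^ n := by
  have h1 : algebraMap A B a ∈ (I ^ n).map (algebraMap A B) := Ideal.mem_map_of_mem _ ha
  rw [Ideal.map_pow] at h1
  exact Ideal.pow_right_mono hIJ n h1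

lemma tmul_mem (hIJ : I.map (algebraMap A B) ≤ J) {N : Type*} [AddCommGroup N] [Module A N]
    (n : ℕ) (b : B) {g : N} (hg : g ∈ (I ^ n • ⊤ : Submodule A N)) :
    b ⊗ₜ[A] g ∈ (J ^ n • ⊤ : Submodule B (B ⊗[A] N)) := by
  refine Submodule.smul_induction_on hg ?_ ?_
  · intro a ha d _
    have : b ⊗ₜ[A] (a • d) = algebraMap A B a • (b ⊗ₜ[A] d) := by
      rw [TensorProduct.smul_tmul', ← TensorProduct.smul_tmul, Algebra.smul_def, smul_eq_mul]
    rw [this]
    exact Submodule.smul_mem_smul (algebraMap_mem_pow hIJ ha) Submodule.mem_top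
  · intro x y hx hy
    rw [TensorProduct.tmul_add]
    exact Submodule.add_mem _ hx hy

/-- `wMap` is surjective modulo `J ^ n`. -/
lemma wMap_surjective_mod (hI : I.FG) (hIJ : I.map (algebraMap A B) ≤ J) (n : ℕ)
    (y : B ⊗[A] decaying I Z (AdicCompletion I A)) :
    ∃ c : Z →₀ B, y - wMap I Z c ∈
      (J ^ n • ⊤ : Submodule B (B ⊗[A] decaying I Z (AdicCompletion I A))) := by
  induction y using TensorProduct.induction_on with
  | zero => exact ⟨0, by simp⟩
  | add y₁ y₂ h₁ h₂ =>
    obtain ⟨c₁, hc₁⟩ := h₁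
    obtain ⟨c₂, hc₂⟩ := h₂
    refine ⟨c₁ + c₂, ?_⟩
    have : y₁ + y₂ - wMap I Z (c₁ + c₂) = (y₁ - wMap I Z c₁) + (y₂ - wMap I Z c₂) := by
      rw [map_add]; abel
    rw [this]
    exact Submodule.add_mem _ hc₁ hc₂
  | tmul b g =>
    obtain ⟨S, hS⟩ : ∃ S : Finset Z, {z | (g : Z → AdicCompletion I A) z ∉
        (I ^ n • ⊤ : Submodule A (AdicCompletion I A))} ⊆ S :=
      ⟨(g.2 n).toFinset, fun z hz => by simpa using hz⟩
    have hg' : g - ∑ z ∈ S, single I z ((g : Z → AdicCompletion I A) z) ∈
        (I ^ n • ⊤ : Submodule A (decaying I Z (AdicCompletion I A))) :=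
      mem_smul_top_of_forall_mem hI n _ (sub_sum_single_mem g n S hS)
    choose a ha using fun z => exists_sub_of_mem I A hI ((g : Z → AdicCompletion I A) z) n
    refine ⟨∑ z ∈ S, Finsupp.single z (a z • b), ?_⟩
    have hone : ∀ z, single I z (AdicCompletion.of I A (a z)) =
        a z • single I z (1 : AdicCompletion I A) := by
      intro z
      have h1 : AdicCompletion.of I A (a z) = a z • (1 : AdicCompletion I A) := by
        rw [← Algebra.algebraMap_eq_smul_one, AdicCompletion.algebraMap_apply]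
        rfl
      rw [h1, ← lsingle_apply, map_smul, lsingle_apply]
    have key : b ⊗ₜ[A] g - wMap I Z (∑ z ∈ S, Finsupp.single z (a z • b)) =
        b ⊗ₜ[A] (g - ∑ z ∈ S, single I z ((g : Z → AdicCompletion I A) z)) +
        ∑ z ∈ S, b ⊗ₜ[A] (lsingle I (AdicCompletion I A) z
          ((g : Z → AdicCompletion I A) z - AdicCompletion.of I A (a z))) := by
      rw [map_sum, TensorProduct.tmul_sub, TensorProduct.tmul_sum]
      simp only [wMap_single, map_sub, lsingle_apply, TensorProduct.tmul_sub,
        Finset.sum_sub_distrib, hone, TensorProduct.tmul_smul, TensorProduct.smul_tmul']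
      abel
    rw [key]
    refine Submodule.add_mem _ (tmul_mem hIJ n b hg') (Submodule.sum_mem _ fun z _ => ?_)
    exact tmul_mem hIJ n b (map_mem_smul_top (lsingle I (AdicCompletion I A) z) (ha z))

variable (I J) in
/-- The `A`-linear map `Â → B / J ^ n`. -/
noncomputable def phiMap (hIJ : I.map (algebraMap A B) ≤ J) (n : ℕ) :
    AdicCompletion I A →ₗ[A] B ⧸ (J ^ n • ⊤ : Submodule B B) :=
  (Submodule.liftQ (I ^ n • ⊤ : Submodule A A)
    ((Submodule.mkQ (J ^ n • ⊤ : Submodule B B)).restrictScalars A ∘ₗ Algebra.linearMap A B)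
    (by
      intro a ha
      rw [LinearMap.mem_ker, LinearMap.comp_apply, LinearMap.restrictScalars_apply,
        Submodule.mkQ_apply, Submodule.Quotient.mk_eq_zero]
      have h1 : a ∈ I ^ n := by simpa using ha
      have := algebraMap_mem_pow hIJ h1
      simpa using this)) ∘ₗ AdicCompletion.eval I A n

lemma phiMap_one (hIJ : I.map (algebraMap A B) ≤ J) (n : ℕ) :
    phiMap I J hIJ n 1 = Submodule.Quotient.mk 1 := by
  have h1 : (1 : AdicCompletion I A) = AdicCompletion.of I A 1 := by
    rw [← (algebraMap A (AdicCompletion I A)).map_one, AdicCompletion.algebraMap_apply]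
    rfl
  rw [phiMap, LinearMap.comp_apply, h1, AdicCompletion.eval_of, Submodule.mkQ_apply,
    Submodule.liftQ_apply]
  simp

variable (I J Z) in
/-- Evaluation at `z` modulo `J ^ n` on the base change. -/
noncomputable def epsMap (hIJ : I.map (algebraMap A B) ≤ J) (z : Z) (n : ℕ) :
    B ⊗[A] decaying I Z (AdicCompletion I A) →ₗ[B] B ⧸ (J ^ n • ⊤ : Submodule B B) :=
  (phiMap I J hIJ n ∘ₗ ev I Z (AdicCompletion I A) z).liftBaseChange B

lemma epsMap_wMap (hIJ : I.map (algebraMap A B) ≤ J) (z : Z) (n : ℕ) (c : Z →₀ B) :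
    epsMap I J Z hIJ z n (wMap I Z c) = Submodule.Quotient.mk (c z) := by
  induction c using Finsupp.induction_linear with
  | zero => simp
  | add c₁ c₂ h₁ h₂ => rw [map_add, map_add, h₁, h₂, Finsupp.add_apply, Submodule.Quotient.mk_add]
  | single z' b =>
    rw [wMap_single, epsMap, LinearMap.liftBaseChange_tmul, LinearMap.comp_apply, ev_apply,
      coe_single]
    by_cases h : z' = z
    · subst h
      rw [Pi.single_eq_same, phiMap_one, Finsupp.single_eq_same, ← Submodule.Quotient.mk_smul]
      simp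
    · rw [Pi.single_eq_of_ne (Ne.symm h), map_zero, smul_zero, Finsupp.single_apply, if_neg h,
        Submodule.Quotient.mk_zero]

lemma pow_smul_top_quotient_eq_bot (n : ℕ) :
    (J ^ n • ⊤ : Submodule B (B ⧸ (J ^ n • ⊤ : Submodule B B))) = ⊥ := by
  rw [eq_bot_iff]
  intro y hy
  refine Submodule.smul_induction_on hy ?_ ?_
  · intro j hj q _
    obtain ⟨b, rfl⟩ := Submodule.Quotient.mk_surjective _ q
    rw [Submodule.mem_bot, ← Submodule.Quotient.mk_smul, Submodule.Quotient.mk_eq_zero]
    exact Submodule.smul_mem_smul hj Submodule.mem_top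
  · intro x y hx hy
    exact Submodule.add_mem _ hx hy

/-- `wMap` is injective modulo `J ^ n`. -/
lemma wMap_injective_mod (hIJ : I.map (algebraMap A B) ≤ J) (n : ℕ) (c : Z →₀ B)
    (hc : wMap I Z c ∈ (J ^ n • ⊤ : Submodule B (B ⊗[A] decaying I Z (AdicCompletion I A)))) :
    c ∈ (J ^ n • ⊤ : Submodule B (Z →₀ B)) := by
  rw [finsupp_mem_smul_top_iff]
  intro z
  have h1 := map_mem_smul_top (epsMap I J Z hIJ z n) hc
  rw [pow_smul_top_quotient_eq_bot, Submodule.mem_bot, epsMap_wMap,
    Submodule.Quotient.mk_eq_zero] at h1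
  exact h1

end BaseChange

/-- S17550. -/
theorem isAdicFree_baseChange {A B : Type u} [CommRing A] [CommRing B] [Algebra A B]
    [IsNoetherianRing A] [IsNoetherianRing B] (I : Ideal A) (J : Ideal B)
    (hIJ : I.map (algebraMap A B) ≤ J) (P : Type u) [AddCommGroup P] [Module A P]
    (hP : IsAdicFree I P) :
    IsAdicFree J (AdicCompletion J (B ⊗[A] P)) := by
  classical
  obtain ⟨Z, ⟨e0⟩⟩ := hP
  have hI : I.FG := IsNoetherian.noetherian I
  have hJ : J.FG := IsNoetherian.noetherian J
  haveI : IsAdicComplete J (AdicCompletion J B) := AdicCompletion.isAdicComplete hJ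
  let e1 : AdicCompletion J (B ⊗[A] P) ≃ₗ[B]
      AdicCompletion J (B ⊗[A] decaying I Z (AdicCompletion I A)) :=
    (AdicCompletion.congr J (e0.baseChange A B _ _)).restrictScalars B
  have hbij := map_bijective_of_mod J (wMap (B := B) I Z)
    (fun n y => wMap_surjective_mod hI hIJ n y) (fun n c hc => wMap_injective_mod hIJ n c hc)
  let e2 : AdicCompletion J (Z →₀ B) ≃ₗ[B]
      AdicCompletion J (B ⊗[A] decaying I Z (AdicCompletion I A)) :=
    LinearEquiv.ofBijective ((AdicCompletion.map J (wMap (B := B) I Z)).restrictScalars B) hbij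
  obtain ⟨h3inj, h3range⟩ := Phi_injective_and_range J Z B
  let e3 : AdicCompletion J (Z →₀ B) ≃ₗ[B] decaying J Z (AdicCompletion J B) :=
    (LinearEquiv.ofInjective (Phi J Z B) h3inj).trans (LinearEquiv.ofEq _ _ h3range)
  exact ⟨Z, ⟨e1.trans (e2.symm.trans e3)⟩⟩

end Groth.Agent.Lib.Helper21.Dec
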