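import Groth.Agent.Lib.Helper21.PropH0
import Groth.Agent.Lib.Helper29.VA7
import Groth.Prelude.Def_Neron

/-!
# `H⁰(X, O_X) = R` for integral proper flat schemes over a Dedekind domain with geometrically
integral generic fibre
-/

set_option autoImplicit false
universe u
open CategoryTheory AlgebraicGeometry CategoryTheory.Limits TensorProduct

namespace Groth.Agent.Lib.Helper21.DedekindH0

theorem bijective_algebraMap_of_tensor_fractionRing (R K B : Type*) [CommRing R]
    [IsDedekindDomain R] [Field K] [Algebra R K] [IsFractionRing R K] [CommRing B] [IsDomain B]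
    [Algebra R B] [Algebra.IsIntegral R B]
    (h : Function.Bijective (fun y : K => y ⊗ₜ[R] (1 : B))) :
    Function.Bijective (algebraMap R B) := by
  have hinj : Function.Injective (algebraMap R B) := by
    rw [injective_iff_map_eq_zero]
    intro r hr
    have h1 : (algebraMap R K r) ⊗ₜ[R] (1 : B) = (0 : K) ⊗ₜ[R] (1 : B) := by
      rw [Algebra.algebraMap_eq_smul_one, TensorProduct.smul_tmul, ← Algebra.algebraMap_eq_smul_one,
        hr, TensorProduct.tmul_zero, TensorProduct.zero_tmul]
    have h2 := h.injective h1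
    exact (IsFractionRing.injective R K) (h2.trans (map_zero _).symm)
  have : FaithfulSMul R B := (faithfulSMul_iff_algebraMap_injective R B).mpr hinj
  have : Module.Flat R B := inferInstance
  refine ⟨hinj, fun b => ?_⟩
  -- injectivity of c ↦ 1 ⊗ c
  have hinj2 : Function.Injective (fun c : B => (1 : K) ⊗ₜ[R] c) := by
    have h3 := Module.Flat.rTensor_preserves_injective_linearMap (M := B)
      (Algebra.linearMap R K) (IsFractionRing.injective R K)
    have : (fun c : B => (1 : K) ⊗ₜ[R] c) =
        ((Algebra.linearMap R K).rTensor B) ∘ (TensorProduct.lid R B).symm := by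
      funext c
      simp
    rw [this]
    exact h3.comp (TensorProduct.lid R B).symm.injective
  obtain ⟨l, hl⟩ := h.surjective ((1 : K) ⊗ₜ[R] b)
  -- l is integral over R
  let j : K →ₐ[R] K ⊗[R] B :=
    (Algebra.TensorProduct.includeLeft : K →ₐ[K] K ⊗[R] B).restrictScalars R
  have hj : Function.Bijective j := h
  let e : K ≃ₐ[R] K ⊗[R] B := AlgEquiv.ofBijective j hj
  have hint : IsIntegral R ((1 : K) ⊗ₜ[R] b) := by
    have := (Algebra.IsIntegral.isIntegral (R := R) b).map
      (Algebra.TensorProduct.includeRight : B →ₐ[R] K ⊗[R] B)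
    simpa using this
  have hl' : l = e.symm ((1 : K) ⊗ₜ[R] b) := by
    rw [AlgEquiv.eq_symm_apply]
    exact hl
  have hlint : IsIntegral R l := by
    rw [hl']
    exact hint.map e.symm
  obtain ⟨r, hr⟩ := IsIntegrallyClosed.isIntegral_iff.mp hlint
  refine ⟨r, ?_⟩
  apply hinj2
  show (1 : K) ⊗ₜ[R] (algebraMap R B r) = (1 : K) ⊗ₜ[R] b
  have hl2 : l ⊗ₜ[R] (1 : B) = (1 : K) ⊗ₜ[R] b := hl
  rw [← hl2, ← hr, Algebra.algebraMap_eq_smul_one (A := B) r,
    Algebra.algebraMap_eq_smul_one (A := K) r, TensorProduct.smul_tmul]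

/-- categorical form -/
theorem bijective_of_isPushout_fractionRing {R₀ : Type u} [CommRing R₀] [IsDedekindDomain R₀]
    {A P : CommRingCat.{u}} (f : CommRingCat.of R₀ ⟶ A) (a : A ⟶ P)
    (b : CommRingCat.of (FractionRing R₀) ⟶ P)
    (H : IsPushout f (CommRingCat.ofHom (algebraMap R₀ (FractionRing R₀))) a b) [IsDomain A]
    (hf : f.hom.IsIntegral) (hb : Function.Bijective b.hom) : Function.Bijective f.hom := by
  algebraize [f.hom]
  let e : FractionRing R₀ ⊗[R₀] A ≃+* P :=
    ((CommRingCat.isPushout_tensorProduct R₀ (FractionRing R₀) A).isoIsPushout _ _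
      H.flip).commRingCatIsoToRingEquiv
  have he : ∀ y : FractionRing R₀, e (y ⊗ₜ[R₀] (1 : A)) = b.hom y := by
    intro y
    have := (CommRingCat.isPushout_tensorProduct R₀ (FractionRing R₀) A).inl_isoIsPushout_hom _ _
      H.flip
    exact congr($(this).hom y)
  have h1 : Function.Bijective (fun y : FractionRing R₀ => y ⊗ₜ[R₀] (1 : A)) := by
    have : (fun y : FractionRing R₀ => y ⊗ₜ[R₀] (1 : A)) = e.symm ∘ b.hom := by
      funext y
      simp only [Function.comp_apply]
      rw [← he y, RingEquiv.symm_apply_apply]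
    rw [this]
    exact e.symm.bijective.comp hb
  haveI : Algebra.IsIntegral R₀ A := ⟨hf⟩
  exact bijective_algebraMap_of_tensor_fractionRing R₀ (FractionRing R₀) A h1

open Groth.Agent.Lib.Helper21.PropH0 in
/-- `H⁰(X, O_X) = R` for `X` integral and proper over a Dedekind domain `R` whose generic fibre is
geometrically connected and geometrically reduced. -/
theorem bijective_toGlobal_of_dedekind {R : Type u} [CommRing R] [IsDedekindDomain R]
    (X : Scheme.{u}) (f : X ⟶ Spec (CommRingCat.of R)) [IsIntegral X] [IsProper f]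
    [GeometricallyConnected (pullback.snd f (Neron.genPt R))]
    [GeometricallyReduced (pullback.snd f (Neron.genPt R))] :
    Function.Bijective ((Scheme.ΓSpecIso (CommRingCat.of R)).inv ≫ f.appTop).hom := by
  let y := Neron.genPt R
  have H := IsPullback.of_hasPullback f y
  have hb := bijective_toGlobal_of_proper (FractionRing R) (pullback f y) (pullback.snd f y)
  haveI : CompactSpace X := (quasiCompact_iff_compactSpace f).mp inferInstance
  haveI : QuasiSeparatedSpace X := (quasiSeparated_iff_quasiSeparatedSpace f).mp inferInstance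
  haveI : Flat y := by
    refine Flat.SpecMap_iff.mpr ?_
    exact RingHom.flat_algebraMap_iff.mpr (IsLocalization.flat (FractionRing R) (nonZeroDivisors R))
  have h1 := isIso_pushoutSection_of_isQuasiSeparated_of_flat_right H
    (US := ⊤) (UT := ⊤) (UX := ⊤) (UY := ⊤) le_top le_top (by simp)
    (isAffineOpen_top _) (isAffineOpen_top _) isCompact_univ isQuasiSeparated_univ
  rw [isIso_pushoutSection_iff] at h1
  simp only [appLE_top_top] at h1
  have H' : IsPushout ((Scheme.ΓSpecIso (CommRingCat.of R)).inv ≫ f.appTop)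
      (CommRingCat.ofHom (algebraMap R (FractionRing R))) (pullback.fst f y).appTop
      ((Scheme.ΓSpecIso (CommRingCat.of (FractionRing R))).inv ≫ (pullback.snd f y).appTop) := by
    refine IsPushout.of_iso h1 (Scheme.ΓSpecIso (CommRingCat.of R)) (Iso.refl _)
      (Scheme.ΓSpecIso (CommRingCat.of (FractionRing R))) (Iso.refl _) ?_ ?_ ?_ ?_
    · simp
    · exact Scheme.ΓSpecIso_naturality _
    · simp
    · simp
  have hint : ((Scheme.ΓSpecIso (CommRingCat.of R)).inv ≫ f.appTop).hom.IsIntegral := by
    apply RingHom.isIntegral_respectsIso.2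
      (e := (Scheme.ΓSpecIso _).symm.commRingCatIsoToRingEquiv)
    exact isIntegral_appTop_of_universallyClosed f
  exact bijective_of_isPushout_fractionRing _ _ _ H' hint hb

end Groth.Agent.Lib.Helper21.DedekindH0
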