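import Mathlib
import Groth.Prelude.Def_Cyc
import Groth.Agent.Lib.Helper21.BaseChg4
import Groth.Agent.Lib.Helper21.FibDim7

/-!
# Base change of dimension functions: lifting generisations inside fibres
-/

set_option autoImplicit false
set_option linter.style.haveILetI false
set_option linter.unusedSectionVars false
universe u

open AlgebraicGeometry CategoryTheory Limits TopologicalSpace

namespace Groth.Agent.Lib.Helper21.DimFun

/-- In a cartesian square, generisations **inside a fibre of the base map `g`** lift along the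
base change `q` of an arbitrary morphism `a` (because the fibre of `a` over a point is flat over
the residue field). -/
theorem exists_specializes_lift_in_fibre {X S S' X' : Scheme.{u}} {a : X ⟶ S} {g : S' ⟶ S}
    {p : X' ⟶ X} {q : X' ⟶ S'} (hsq : IsPullback p q a g) (x' : X') (y : S')
    (hy : y ⤳ q x') (hg : g y = g (q x')) : ∃ y' : X', y' ⤳ x' ∧ q y' = y := by
  set s : S := g (q x') with hs
  -- the fibre of `g` over `s`
  let ι := g.fiberι s
  -- the base change of `q` to the fibre
  have h1 : IsPullback (pullback.fst q ι) (pullback.snd q ι) q ι := IsPullback.of_hasPullback q ι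
  have h2 : IsPullback (pullback.fst q ι ≫ p) (pullback.snd q ι) a (ι ≫ g) :=
    h1.paste_horiz hsq
  have hfac : ι ≫ g = g.fiberToSpecResidueField s ≫ S.fromSpecResidueField s := g.fiber_fac s
  have hfib : IsPullback (a.fiberι s) (a.fiberToSpecResidueField s) a
      (S.fromSpecResidueField s) := IsPullback.of_hasPullback a (S.fromSpecResidueField s)
  have hcomm : (pullback.fst q ι ≫ p) ≫ a =
      (pullback.snd q ι ≫ g.fiberToSpecResidueField s) ≫ S.fromSpecResidueField s := by
    rw [Category.assoc, Category.assoc, ← hfac]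
    exact h2.w
  let u : pullback q ι ⟶ a.fiber s := hfib.lift _ _ hcomm
  have hu1 : u ≫ a.fiberι s = pullback.fst q ι ≫ p := hfib.lift_fst _ _ hcomm
  have hu2 : u ≫ a.fiberToSpecResidueField s =
      pullback.snd q ι ≫ g.fiberToSpecResidueField s := hfib.lift_snd _ _ hcomm
  have h3 : IsPullback u (pullback.snd q ι) (a.fiberToSpecResidueField s)
      (g.fiberToSpecResidueField s) := by
    refine IsPullback.of_right ?_ hu2 hfib
    rw [hu1, ← hfac]
    exact h2
  haveI : Flat (pullback.snd q ι) :=
    MorphismProperty.of_isPullback h3 (inferInstance : Flat (a.fiberToSpecResidueField s))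
  -- the points
  let s₀ : g.fiber s := (g.fiberHomeo s).symm ⟨q x', rfl⟩
  let y₀ : g.fiber s := (g.fiberHomeo s).symm ⟨y, hg⟩
  have hs₀ : ι s₀ = q x' := g.fiberι_fiberHomeo_symm s ⟨q x', rfl⟩
  have hy₀ : ι y₀ = y := g.fiberι_fiberHomeo_symm s ⟨y, hg⟩
  have hsp : y₀ ⤳ s₀ := by
    rw [← (g.fiberι s).isEmbedding.isInducing.specializes_iff]
    change ι y₀ ⤳ ι s₀
    rw [hs₀, hy₀]
    exact hy
  obtain ⟨z, hz1, hz2⟩ := Scheme.Pullback.exists_preimage_pullback (f := q) (g := ι) x' s₀
    hs₀.symm
  obtain ⟨w, hw1, hw2⟩ := Flat.generalizingMap (pullback.snd q ι) (hz2 ▸ hsp)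
  refine ⟨pullback.fst q ι w, ?_, ?_⟩
  · rw [← hz1]
    exact hw1.map (pullback.fst q ι).continuous
  · have h4 := congrArg (fun φ : pullback q ι ⟶ S' => φ w) (pullback.condition (f := q) (g := ι))
    simp only [Scheme.Hom.comp_apply] at h4
    rw [h4, hw2, hy₀]

end Groth.Agent.Lib.Helper21.DimFun
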