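import Groth.Agent.Lib.Helper21.DimLoc2
import Groth.Agent.Lib.Helper21.FibDim5

set_option autoImplicit false
set_option linter.unusedSectionVars false
set_option linter.style.haveILetI false
universe u
open AlgebraicGeometry CategoryTheory TopologicalSpace

namespace Groth.Agent.Lib.Helper21.DimLoc

open Groth.Agent.Lib.Helper21.ChartPt Groth.Agent.Lib.Helper20.DimTrdeg

/-- on a locally Noetherian scheme, local rings grow strictly in dimension under proper
specialisation -/
theorem ringKrullDim_stalk_lt_of_specializes {X : Scheme.{u}} [IsLocallyNoetherian X] {ξ x : X}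
    (h : ξ ⤳ x) (hne : ξ ≠ x) :
    ringKrullDim (X.presheaf.stalk ξ) < ringKrullDim (X.presheaf.stalk x) := by
  obtain ⟨U, hU, hxU, -⟩ := Opens.isBasis_iff_nbhd.mp X.isBasis_affineOpens
    (show x ∈ (⊤ : X.Opens) from trivial)
  have hU : IsAffineOpen U := hU
  have hξU : ξ ∈ U := h.mem_open U.2 hxU
  haveI : IsNoetherianRing Γ(X, U) := IsLocallyNoetherian.component_noetherian ⟨U, hU⟩
  rw [ringKrullDim_stalk_eq_height hU x hxU, ringKrullDim_stalk_eq_height hU ξ hξU]
  have hle : (hU.primeIdealOf ⟨ξ, hξU⟩).asIdeal ≤ (hU.primeIdealOf ⟨x, hxU⟩).asIdeal :=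
    (specializes_iff_primeIdealOf_le hU ⟨ξ, hξU⟩ ⟨x, hxU⟩).1 h
  have hlt : (hU.primeIdealOf ⟨ξ, hξU⟩).asIdeal < (hU.primeIdealOf ⟨x, hxU⟩).asIdeal := by
    refine lt_of_le_of_ne hle fun heq => hne ?_
    have h1 : hU.primeIdealOf ⟨ξ, hξU⟩ = hU.primeIdealOf ⟨x, hxU⟩ := PrimeSpectrum.ext heq
    have h2 := congrArg hU.fromSpec h1
    rw [hU.fromSpec_primeIdealOf, hU.fromSpec_primeIdealOf] at h2
    exact h2
  haveI := (hU.primeIdealOf ⟨ξ, hξU⟩).2
  haveI := (hU.primeIdealOf ⟨x, hxU⟩).2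
  have h3 := Ideal.height_strict_mono_of_isPrime_of_isPrime hlt
  exact_mod_cast h3

/-- local dimension is monotone under specialisation -/
theorem localDim_le_of_specializes {T : Type*} [TopologicalSpace T] {x x' : T} (h : x ⤳ x') :
    FlatMor.localDim T x ≤ FlatMor.localDim T x' := by
  unfold FlatMor.localDim
  exact le_iInf fun U' => iInf_le_of_le ⟨U'.1, h.mem_open U'.1.2 U'.2⟩ le_rfl

end Groth.Agent.Lib.Helper21.DimLoc
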