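import Groth.Agent.Lib.Helper21.DimLoc3
import Groth.Agent.Lib.Helper21.FibDimR2

set_option autoImplicit false
set_option linter.unusedSectionVars false
set_option linter.style.haveILetI false
universe u
open AlgebraicGeometry CategoryTheory TopologicalSpace

namespace Groth.Agent.Lib.Helper21.DimLoc

open Groth.Agent.Lib.Helper21.ChartPt Groth.Agent.Lib.Helper20.DimTrdeg
  Groth.Agent.Lib.Helper21.FibDim Groth.Agent.Lib.Helper18.DimFormula

/-- relative transcendence degrees of a finite type algebra are bounded by the number of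
generators -/
theorem trdeg_quotient_le_of_surjective (A B : Type u) [CommRing A] [CommRing B] [Algebra A B]
    (s : ℕ) (φ : MvPolynomial (Fin s) A →ₐ[A] B) (hφ : Function.Surjective φ)
    (p : Ideal A) [p.IsPrime] (q : Ideal B) [q.IsPrime] [q.LiesOver p] :
    Algebra.trdeg (A ⧸ p) (B ⧸ q) ≤ s := by
  have hprime : (q.comap φ).IsPrime := Ideal.comap_isPrime _ _
  have hlo : (q.comap φ).LiesOver p := by
    refine ⟨?_⟩
    rw [Ideal.over_def q p]
    ext a
    simp only [Ideal.under_def, Ideal.mem_comap]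
    rw [← φ.commutes a]
  rw [← trdeg_quotient_comap φ hφ p q]
  exact trdeg_quotient_mvPolynomial_le A s p (q.comap φ)

variable {X S : Scheme.{u}} (f : X ⟶ S) [LocallyOfFiniteType f]

/-- locally on the source, residue transcendence degrees are bounded -/
theorem exists_open_trdeg_le (x : X) :
    ∃ (U : X.Opens) (n : ℕ), x ∈ U ∧ ∀ y ∈ U,
      @Algebra.trdeg (S.residueField (f y)) (X.residueField y) _ _
        (f.residueFieldMap y).hom.toAlgebra ≤ n := by
  obtain ⟨V, hV, hxV, -⟩ := Opens.isBasis_iff_nbhd.mp S.isBasis_affineOpens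
    (show f x ∈ (⊤ : S.Opens) from trivial)
  have hV : IsAffineOpen V := hV
  obtain ⟨U, hU, hxU, e⟩ := Opens.isBasis_iff_nbhd.mp X.isBasis_affineOpens
    (show x ∈ f ⁻¹ᵁ V from hxV)
  have hU : IsAffineOpen U := hU
  letI alg : Algebra Γ(S, V) Γ(X, U) := (f.appLE V U e).hom.toAlgebra
  haveI : Algebra.FiniteType Γ(S, V) Γ(X, U) :=
    HasRingHomProperty.appLE (P := @LocallyOfFiniteType) f inferInstance ⟨V, hV⟩ ⟨U, hU⟩ e
  obtain ⟨n, φ, hφ⟩ := Algebra.FiniteType.iff_quotient_mvPolynomial''.mp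
    (inferInstance : Algebra.FiniteType Γ(S, V) Γ(X, U))
  refine ⟨U, n, hxU, fun y hy => ?_⟩
  let p : Ideal Γ(S, V) := (hV.primeIdealOf ⟨f y, e hy⟩).asIdeal
  let q : Ideal Γ(X, U) := (hU.primeIdealOf ⟨y, hy⟩).asIdeal
  have hp : p.IsPrime := (hV.primeIdealOf ⟨f y, e hy⟩).2
  have hq : q.IsPrime := (hU.primeIdealOf ⟨y, hy⟩).2
  have hqp : q.LiesOver p :=
    ⟨(congrArg PrimeSpectrum.asIdeal
      (IsAffineOpen.comap_primeIdealOf_appLE V hV U hU e hy)).symm⟩
  rw [trdeg_residueField_eq_trdeg_quotient f hU hV e rfl y hy p q rfl rfl]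
  exact trdeg_quotient_le_of_surjective Γ(S, V) Γ(X, U) n φ hφ p q

/-- on a quasi-compact source, residue transcendence degrees are uniformly bounded -/
theorem exists_trdeg_le [CompactSpace X] :
    ∃ n : ℕ, ∀ y : X, @Algebra.trdeg (S.residueField (f y)) (X.residueField y) _ _
        (f.residueFieldMap y).hom.toAlgebra ≤ n := by
  choose U n hxU hn using exists_open_trdeg_le f
  obtain ⟨t, ht⟩ := CompactSpace.elim_nhds_subcover (fun x => (U x : Set X))
    (fun x => (U x).2.mem_nhds (hxU x))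
  refine ⟨t.sup n, fun y => ?_⟩
  have hy : y ∈ ⋃ x ∈ t, (U x : Set X) := by rw [ht]; trivial
  simp only [Set.mem_iUnion] at hy
  obtain ⟨x, hxt, hyx⟩ := hy
  refine (hn x y hyx).trans ?_
  exact_mod_cast Finset.le_sup hxt

/-- uniform bound for the local fibre dimensions -/
theorem exists_fibreDimAt_le [CompactSpace X] :
    ∃ n : ℕ, ∀ x : X, FlatMor.fibreDimAt f x ≤ n := by
  obtain ⟨n, hn⟩ := exists_trdeg_le f
  refine ⟨n, fun x => ?_⟩
  obtain ⟨m, hm1, ⟨y, -, -, hy⟩, -⟩ := exists_fibreDimAt_eq_trdeg f x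
  have h1 := hn y
  rw [hy] at h1
  rw [hm1]
  exact_mod_cast h1

/-- uniform bound for the dimensions of the fibres -/
theorem exists_topologicalKrullDim_fiber_le [CompactSpace X] :
    ∃ n : ℕ, ∀ s : S, topologicalKrullDim (f.fiber s) ≤ n := by
  obtain ⟨n, hn⟩ := exists_fibreDimAt_le f
  refine ⟨n, fun s => ?_⟩
  rw [Groth.Agent.Lib.Helper18.TopDim.topologicalKrullDim_eq_iSup_localDim]
  refine iSup_le fun z => ?_
  have hz : f (f.fiberι s z) = s := (f.fiberHomeo s z).2
  rw [Groth.Agent.Lib.Helper6.EtaleSq.localDim_fiber_eq_fibreDimAt f (f.fiberι s z) s hz z rfl]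
  exact hn _

end Groth.Agent.Lib.Helper21.DimLoc
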