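import Groth.Agent.Lib.Helper6.PUO2
import Groth.Agent.Lib.Helper17.ProCons
import Groth.Agent.Lib.Helper21.DVRExt6
import Groth.Agent.Lib.Helper10.FlatPt2

/-!
# The discrete valuation ring criterion for universal openness at a point (EGA IV 14.5.8)
-/

set_option autoImplicit false
set_option linter.style.haveILetI false
set_option linter.unusedSectionVars false
universe u

open AlgebraicGeometry CategoryTheory Limits TopologicalSpace IsLocalRing

namespace Groth.Agent.Lib.Helper21.DvrCrit

variable {X Y : Scheme.{u}}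

/-- the generic point of the spectrum of a domain -/
noncomputable def genPt (A : Type u) [CommRing A] [IsDomain A] : ↥(Spec (CommRingCat.of A)) :=
  (⟨⊥, Ideal.isPrime_bot⟩ : PrimeSpectrum A)

theorem genPt_specializes (A : Type u) [CommRing A] [IsDomain A] (s : ↥(Spec (CommRingCat.of A))) :
    genPt A ⤳ s := by
  have : (⟨⊥, Ideal.isPrime_bot⟩ : PrimeSpectrum A) ≤ s := bot_le (a := s.asIdeal)
  exact (PrimeSpectrum.le_iff_specializes _ _).mp this

theorem genPt_ne_closedPoint (A : Type u) [CommRing A] [IsDomain A] [IsDiscreteValuationRing A] :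
    genPt A ≠ IsLocalRing.closedPoint A := by
  intro h
  have h1 : (genPt A).asIdeal = (IsLocalRing.closedPoint A).asIdeal := by rw [h]
  exact IsDiscreteValuationRing.not_a_field A h1.symm

theorem eq_genPt_of_ne_closedPoint (A : Type u) [CommRing A] [IsDomain A]
    [IsDiscreteValuationRing A] (s : ↥(Spec (CommRingCat.of A)))
    (hs : s ≠ IsLocalRing.closedPoint A) : s = genPt A := by
  by_contra hne
  apply hs
  have h0 : s.asIdeal ≠ ⊥ := fun h => hne (PrimeSpectrum.ext h)
  have hmax : s.asIdeal.IsMaximal := Ring.DimensionLEOne.maximalOfPrime h0 s.2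
  exact PrimeSpectrum.ext (IsLocalRing.eq_maximalIdeal hmax)

/-- necessity of the criterion -/
theorem exists_generization_of_isUnivOpenAt (f : X ⟶ Y) (x : X) (hU : EGA43.IsUnivOpenAt f x)
    (A : Type u) [CommRing A] [IsDomain A] [IsDiscreteValuationRing A]
    (g : Spec (CommRingCat.of A) ⟶ Y) (x' : ↥(pullback f g))
    (hx' : (pullback.fst f g).base x' = x) :
    ∃ z' : ↥(pullback f g), z' ⤳ x' ∧
      (pullback.snd f g).base z' ≠ IsLocalRing.closedPoint A := by
  have hop := hU _ g x' hx'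
  obtain ⟨z', hz', hz's⟩ := Groth.Agent.Lib.Helper17.ProConsLib.exists_generization_lift
    (pullback.snd f g) x' hop (genPt A) (genPt_specializes A _)
  exact ⟨z', hz', by rw [hz's]; exact genPt_ne_closedPoint A⟩

/-- the image of the generic point of a valuation subring of a residue field -/
theorem map_genPt_of_valuationSubring (η : Y) (A : ValuationSubring (Y.residueField η))
    (h : Spec (CommRingCat.of A) ⟶ Y)
    (hh : Spec.map (CommRingCat.ofHom A.subtype) ≫ h = Y.fromSpecResidueField η) :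
    h.base (genPt A) = η := by
  have h1 := congrArg (fun φ : Spec (Y.residueField η) ⟶ Y =>
    φ.base (IsLocalRing.closedPoint (Y.residueField η))) hh
  simp only [Scheme.Hom.comp_base, TopCat.hom_comp, ContinuousMap.comp_apply] at h1
  rw [Scheme.fromSpecResidueField_apply] at h1
  have h2 : (Spec.map (CommRingCat.ofHom A.subtype)).base
      (IsLocalRing.closedPoint (Y.residueField η)) = genPt A := by
    apply PrimeSpectrum.ext
    change Ideal.comap A.subtype (IsLocalRing.closedPoint (Y.residueField η)).asIdeal =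
      (⊥ : Ideal A)
    have : (IsLocalRing.closedPoint (Y.residueField η)).asIdeal = ⊥ :=
      IsLocalRing.maximalIdeal_eq_bot
    rw [this]
    ext a
    simp only [Ideal.mem_bot, Ideal.mem_comap]
    constructor
    · intro h0
      exact Subtype.ext h0
    · rintro rfl; exact map_zero _
  have h3 : h.base ((Spec.map (CommRingCat.ofHom A.subtype)).base
      (IsLocalRing.closedPoint (Y.residueField η))) = η := h1
  rw [h2] at h3
  exact h3

open AffineSpace in
/-- sufficiency of the criterion -/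
theorem isUnivOpenAt_of_dvr [IsLocallyNoetherian Y] (f : X ⟶ Y) [LocallyOfFiniteType f] (x : X)
    (H : ∀ (A : Type u) [CommRing A] [IsDomain A] [IsDiscreteValuationRing A]
        (g : Spec (CommRingCat.of A) ⟶ Y), g.base (IsLocalRing.closedPoint A) = f.base x →
        ∀ x' : ↥(pullback f g), (pullback.fst f g).base x' = x →
          (pullback.snd f g).base x' = IsLocalRing.closedPoint A →
          ∃ z' : ↥(pullback f g), z' ⤳ x' ∧
            (pullback.snd f g).base z' ≠ IsLocalRing.closedPoint A) :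
    EGA43.IsUnivOpenAt f x := by
  refine Groth.Agent.Lib.Helper6.PUO.isUnivOpenAt_of_isOpenAt_affineSpace f x
    (fun n _ x' hx' => ?_)
  haveI : IsLocallyNoetherian 𝔸(ULift.{u} (Fin n); Y) :=
    LocallyOfFiniteType.isLocallyNoetherian (𝔸(ULift.{u} (Fin n); Y) ↘ Y)
  have sqF : IsPullback (AffineSpace.map (ULift.{u} (Fin n)) f) (𝔸(ULift.{u} (Fin n); X) ↘ X)
      (𝔸(ULift.{u} (Fin n); Y) ↘ Y) f := AffineSpace.isPullback_map f
  haveI : LocallyOfFiniteType (AffineSpace.map (ULift.{u} (Fin n)) f) :=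
    MorphismProperty.of_isPullback (P := @LocallyOfFiniteType) sqF.flip inferInstance
  haveI : LocallyOfFinitePresentation (AffineSpace.map (ULift.{u} (Fin n)) f) :=
    LocallyOfFinitePresentation.iff_locallyOfFiniteType.mpr inferInstance
  refine Groth.Agent.Lib.Helper17.ProConsLib.isOpenAt_of_generization_lift
    (AffineSpace.map (ULift.{u} (Fin n)) f) x' (fun η' hη' => ?_)
  by_cases hne : (AffineSpace.map (ULift.{u} (Fin n)) f).base x' = η'
  · exact ⟨x', specializes_rfl, hne⟩
  have hsp : (𝟙 𝔸(ULift.{u} (Fin n); Y) : _ ⟶ _) η' ⤳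
      (AffineSpace.map (ULift.{u} (Fin n)) f).base x' := hη'
  obtain ⟨A, h, hA, hcl, hgen⟩ :=
    Groth.Agent.Lib.Helper21.DVRExt.exists_dvr_valuationSubring_of_specializes
      (𝟙 𝔸(ULift.{u} (Fin n); Y)) η' _ hsp hne
  rw [Category.comp_id] at hgen
  haveI := hA
  have hgη := map_genPt_of_valuationSubring η' A h hgen
  -- the pullback
  have s : IsPullback (pullback.snd f (h ≫ (𝔸(ULift.{u} (Fin n); Y) ↘ Y)))
      (pullback.fst f (h ≫ (𝔸(ULift.{u} (Fin n); Y) ↘ Y)))
      (h ≫ (𝔸(ULift.{u} (Fin n); Y) ↘ Y)) f := (IsPullback.of_hasPullback _ _).flip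
  have top := IsPullback.of_bot' s sqF
  set θ := sqF.lift (pullback.snd f (h ≫ (𝔸(ULift.{u} (Fin n); Y) ↘ Y)) ≫ h)
    (pullback.fst f (h ≫ (𝔸(ULift.{u} (Fin n); Y) ↘ Y))) (by rw [Category.assoc, s.w]) with hθ
  have hθ1 : θ ≫ AffineSpace.map (ULift.{u} (Fin n)) f =
      pullback.snd f (h ≫ (𝔸(ULift.{u} (Fin n); Y) ↘ Y)) ≫ h := sqF.lift_fst _ _ _
  have hθ2 : θ ≫ (𝔸(ULift.{u} (Fin n); X) ↘ X) =
      pullback.fst f (h ≫ (𝔸(ULift.{u} (Fin n); Y) ↘ Y)) := sqF.lift_snd _ _ _
  obtain ⟨x'', hx''1, hx''2⟩ := Groth.Agent.Lib.Helper10.FlatPt.exists_preimage_of_isPullback top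
    (IsLocalRing.closedPoint A) x' hcl
  have hfst : (pullback.fst f (h ≫ (𝔸(ULift.{u} (Fin n); Y) ↘ Y))).base x'' = x := by
    rw [← hθ2, Scheme.Hom.comp_apply]
    have : θ.base x'' = x' := hx''2
    rw [this]
    exact hx'
  have hg : (h ≫ (𝔸(ULift.{u} (Fin n); Y) ↘ Y)).base (IsLocalRing.closedPoint A) = f.base x := by
    rw [Scheme.Hom.comp_apply]
    have : h.base (IsLocalRing.closedPoint A) =
        (AffineSpace.map (ULift.{u} (Fin n)) f).base x' := hcl
    rw [this, ← hx']
    have h1 := congrArg (fun φ : 𝔸(ULift.{u} (Fin n); X) ⟶ Y => φ.base x')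
      (AffineSpace.map_over (n := ULift.{u} (Fin n)) f)
    simp only [Scheme.Hom.comp_apply] at h1
    exact h1
  obtain ⟨z'', hz'', hz''s⟩ := H A (h ≫ (𝔸(ULift.{u} (Fin n); Y) ↘ Y)) hg x'' hfst hx''1
  have hzg := eq_genPt_of_ne_closedPoint A _ hz''s
  refine ⟨θ.base z'', ?_, ?_⟩
  · have h1 := hz''.map θ.continuous
    have : θ.base x'' = x' := hx''2
    rw [this] at h1
    exact h1
  · have h1 := congrArg (fun φ : pullback f (h ≫ (𝔸(ULift.{u} (Fin n); Y) ↘ Y)) ⟶
        𝔸(ULift.{u} (Fin n); Y) => φ.base z'') hθ1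
    simp only [Scheme.Hom.comp_apply] at h1
    rw [h1, hzg]
    exact hgη

end Groth.Agent.Lib.Helper21.DvrCrit
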