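import Groth.Agent.Lib.Helper21.DvrCrit1

set_option autoImplicit false
set_option linter.style.haveILetI false
set_option linter.unusedSectionVars false
universe u

open AlgebraicGeometry CategoryTheory Limits TopologicalSpace IsLocalRing

namespace Groth.Agent.Lib.Helper21.DvrCrit

variable {X Y : Scheme.{u}}

/-- the generic point of an irreducible component of a scheme -/
theorem exists_isGenericPoint_of_mem_irreducibleComponents {P : Scheme.{u}} (Z : Set P)
    (hZ : Z ∈ irreducibleComponents (P : Type u)) :
    ∃ ζ : P, closure {ζ} = Z ∧ ∀ z' : P, z' ⤳ ζ → z' = ζ := by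
  obtain ⟨ζ, hζ⟩ := QuasiSober.sober hZ.1 (isClosed_of_mem_irreducibleComponents Z hZ)
  refine ⟨ζ, hζ.def, fun z' hz' => ?_⟩
  have h1 : closure ({ζ} : Set P) ⊆ closure {z'} := specializes_iff_closure_subset.mp hz'
  have h2 : Z ≤ closure ({z'} : Set P) := by rw [← hζ.def]; exact h1
  have h3 : closure ({z'} : Set P) ≤ Z := hZ.2 isIrreducible_singleton.closure h2
  have h4 : ζ ⤳ z' := by
    rw [specializes_iff_mem_closure, hζ.def]
    exact h3 (subset_closure rfl)
  exact (h4.antisymm hz').eq.symm

/-- components dominate over discrete valuation rings, necessity -/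
theorem dense_image_of_isUnivOpenAt (f : X ⟶ Y) (y : Y)
    (hU : ∀ x : X, f.base x = y → EGA43.IsUnivOpenAt f x)
    (A : Type u) [CommRing A] [IsDomain A] [IsDiscreteValuationRing A]
    (g : Spec (CommRingCat.of A) ⟶ Y) (hg : g.base (IsLocalRing.closedPoint A) = y)
    (Z : Set ↥(pullback f g)) (hZ : Z ∈ irreducibleComponents (↥(pullback f g) : Type u)) :
    Dense ((pullback.snd f g).base '' Z) := by
  obtain ⟨ζ, hζ, hmax⟩ := exists_isGenericPoint_of_mem_irreducibleComponents Z hZ
  have hgen : (pullback.snd f g).base ζ = genPt A := by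
    by_contra hne
    have hcl : (pullback.snd f g).base ζ = IsLocalRing.closedPoint A := by
      by_contra hne'
      exact hne (eq_genPt_of_ne_closedPoint A _ hne')
    have hfy : f.base ((pullback.fst f g).base ζ) = y := by
      have h1 := congrArg (fun φ : pullback f g ⟶ Y => φ.base ζ) (pullback.condition (f := f) (g := g))
      simp only [Scheme.Hom.comp_apply] at h1
      rw [h1, hcl, hg]
    obtain ⟨z', hz', hz's⟩ := exists_generization_of_isUnivOpenAt f _ (hU _ hfy) A g ζ rfl
    rw [hmax z' hz'] at hz's
    exact hz's hcl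
  intro s
  have h1 : genPt A ∈ (pullback.snd f g).base '' Z :=
    ⟨ζ, by rw [← hζ]; exact subset_closure rfl, hgen⟩
  exact closure_mono (Set.singleton_subset_iff.mpr h1) (genPt_specializes A s).mem_closure

/-- components dominate over discrete valuation rings, sufficiency -/
theorem isUnivOpenAt_of_dense_image [IsLocallyNoetherian Y] (f : X ⟶ Y) [LocallyOfFiniteType f]
    (y : Y)
    (H : ∀ (A : Type u) [CommRing A] [IsDomain A] [IsDiscreteValuationRing A]
      (g : Spec (CommRingCat.of A) ⟶ Y), g.base (IsLocalRing.closedPoint A) = y →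
      ∀ Z ∈ irreducibleComponents (↥(pullback f g) : Type u),
        Dense ((pullback.snd f g).base '' Z))
    (x : X) (hx : f.base x = y) : EGA43.IsUnivOpenAt f x := by
  refine isUnivOpenAt_of_dvr f x (fun A _ _ _ g hg x' _ _ => ?_)
  have hZ : irreducibleComponent x' ∈ irreducibleComponents (↥(pullback f g) : Type u) :=
    irreducibleComponent_mem_irreducibleComponents x'
  obtain ⟨ζ, hζ, -⟩ := exists_isGenericPoint_of_mem_irreducibleComponents _ hZ
  have hζx : ζ ⤳ x' := by
    rw [specializes_iff_mem_closure, hζ]
    exact mem_irreducibleComponent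
  have hd := H A g (hg.trans hx) _ hZ
  have h1 : genPt A ∈ closure ((pullback.snd f g).base '' irreducibleComponent x') := hd _
  have h2 : closure ((pullback.snd f g).base '' irreducibleComponent x') ⊆
      closure {(pullback.snd f g).base ζ} := by
    apply closure_minimal _ isClosed_closure
    rintro _ ⟨u, hu, rfl⟩
    rw [← hζ] at hu
    exact ((specializes_iff_mem_closure.mpr hu).map (pullback.snd f g).continuous).mem_closure
  have h3 : (pullback.snd f g).base ζ ⤳ genPt A := specializes_iff_mem_closure.mpr (h2 h1)
  have h4 : (pullback.snd f g).base ζ = genPt A :=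
    (h3.antisymm (genPt_specializes A _)).eq
  exact ⟨ζ, hζx, by rw [h4]; exact genPt_ne_closedPoint A⟩

end Groth.Agent.Lib.Helper21.DvrCrit
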