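import Mathlib
import Groth.Agent.Lib.Helper6.NormalTotalFrac

set_option autoImplicit false
set_option linter.style.haveILetI false
set_option linter.unusedSectionVars false
universe u

namespace Groth.Agent.Lib.Helper21.NagDvr

open Polynomial

section Integral

variable {A' : Type*} {B : Type*} [CommRing A'] [CommRing B] [Algebra A' B]

/-- If `a / t` (in the total ring of fractions `Q` of `A'`) is integral over `A'` and `t * b = σ`
in `B`, then `a * b` (morally `σ * (a/t)`) is integral over `A'`. -/
theorem isIntegral_mul_of_isIntegral_mk' (Q : Type*) [CommRing Q] [Algebra A' Q]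
    [IsFractionRing A' Q] (a : A') (t : nonZeroDivisors A')
    (hx : IsIntegral A' (IsLocalization.mk' Q a t)) (σ : A') (b : B)
    (hb : algebraMap A' B t * b = algebraMap A' B σ) :
    IsIntegral A' (algebraMap A' B a * b) := by
  rcases subsingleton_or_nontrivial B with hB | hB
  · have : algebraMap A' B a * b = algebraMap A' B 0 := Subsingleton.elim _ _
    rw [this]
    exact isIntegral_algebraMap
  obtain ⟨p, hpm, hp⟩ := hx
  -- `a` is a root of `p.scaleRoots t`
  have h1 : eval₂ (algebraMap A' Q) (algebraMap A' Q a) (p.scaleRoots (t : A')) = 0 := by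
    have : algebraMap A' Q a = algebraMap A' Q (t : A') * IsLocalization.mk' Q a t := by
      rw [mul_comm, IsLocalization.mk'_spec]
    rw [this]
    exact scaleRoots_eval₂_eq_zero _ hp
  have h1' : eval a (p.scaleRoots (t : A')) = 0 := by
    rw [eval₂_at_apply] at h1
    exact (IsFractionRing.injective A' Q) (by rw [h1, map_zero])
  -- pass to `B`
  set P : B[X] := (p.scaleRoots (t : A')).map (algebraMap A' B) with hP
  have hPm : (p.scaleRoots (t : A')).Monic := (monic_scaleRoots_iff _).mpr hpm
  have h2 : eval₂ (RingHom.id B) (algebraMap A' B a) P = 0 := by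
    rw [hP, eval₂_map, RingHom.id_comp, eval₂_at_apply, h1', map_zero]
  have h3 : eval₂ (RingHom.id B) (b * algebraMap A' B a) (P.scaleRoots b) = 0 := by
    have := scaleRoots_eval₂_eq_zero (RingHom.id B) (s := b) h2
    exact this
  have h4 : P.scaleRoots b = (p.scaleRoots σ).map (algebraMap A' B) := by
    have hlc : algebraMap A' B p.leadingCoeff ≠ 0 := by
      rw [hpm.leadingCoeff, map_one]
      exact one_ne_zero
    have hlc' : algebraMap A' B (p.scaleRoots (t : A')).leadingCoeff ≠ 0 := by
      rw [hPm.leadingCoeff, map_one]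
      exact one_ne_zero
    rw [hP, map_scaleRoots _ _ _ hlc, map_scaleRoots _ _ _ hlc, ← scaleRoots_mul, hb]
  refine ⟨p.scaleRoots σ, (monic_scaleRoots_iff _).mpr hpm, ?_⟩
  rw [h4, eval₂_map, RingHom.id_comp, mul_comm] at h3
  exact h3

end Integral

section Normal

open Groth.Agent.Lib.Helper6.NormalTotalFrac

variable {A' : Type*} {B : Type*} [CommRing A'] [CommRing B] [Algebra A' B]

/-- Lemma G: `A'` reduced with finitely many minimal primes, integrally closed in an overring `B`
in which every nonzerodivisor of `A'` becomes invertible after inverting an element outside `q`.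
Then `A'_q` is an integrally closed domain. -/
theorem normal_at_of_units [IsReduced A'] (hfin : (minimalPrimes A').Finite)
    (hinj : Function.Injective (algebraMap A' B))
    (hic : ∀ b : B, IsIntegral A' b → ∃ a : A', algebraMap A' B a = b)
    (q : Ideal A') [q.IsPrime]
    (hunit : ∀ t ∈ nonZeroDivisors A', ∃ σ : A', σ ∉ q ∧
      ∃ b : B, algebraMap A' B t * b = algebraMap A' B σ) :
    IsDomain (Localization.AtPrime q) ∧ IsIntegrallyClosed (Localization.AtPrime q) := by
  refine (normal_at_iff (FractionRing A') hfin q).mpr ?_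
  intro x hx
  obtain ⟨a, t, rfl⟩ := IsLocalization.exists_mk'_eq (nonZeroDivisors A') x
  obtain ⟨σ, hσ, b, hb⟩ := hunit t t.2
  have hint := isIntegral_mul_of_isIntegral_mk' (B := B) (FractionRing A') a t hx σ b hb
  obtain ⟨c, hc⟩ := hic _ hint
  refine ⟨σ, hσ, c, ?_⟩
  -- a * σ = c * t in A'
  have h1 : a * σ = c * (t : A') := by
    apply hinj
    rw [map_mul, map_mul, hc, ← hb]
    ring
  rw [Algebra.smul_def]
  have h2 : algebraMap A' (FractionRing A') σ * IsLocalization.mk' (FractionRing A') a t *
      algebraMap A' (FractionRing A') (t : A') =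
      algebraMap A' (FractionRing A') c * algebraMap A' (FractionRing A') (t : A') := by
    rw [mul_assoc, IsLocalization.mk'_spec, ← map_mul, ← map_mul, mul_comm σ a, h1]
  have hu : IsUnit (algebraMap A' (FractionRing A') (t : A')) :=
    IsLocalization.map_units (FractionRing A') t
  exact hu.mul_left_injective h2

end Normal

section DimOne

variable {R : Type*} [CommRing R]

/-- Step 1': in a Noetherian ring, if `q` is a prime minimal over `(t)`, there is `σ₀ ∉ q`
such that every prime containing `t` contains `σ₀` or contains `q`. -/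
theorem exists_notMem_forall_prime [IsNoetherianRing R] (q : Ideal R) [q.IsPrime] (t : R)
    (hq : q ∈ (Ideal.span {t}).minimalPrimes) :
    ∃ σ₀ : R, σ₀ ∉ q ∧ ∀ P : Ideal R, P.IsPrime → t ∈ P → σ₀ ∈ P ∨ q ≤ P := by
  classical
  have hfin : ((Ideal.span {t}).minimalPrimes).Finite :=
    Ideal.finite_minimalPrimes_of_isNoetherianRing R _
  -- for each other minimal prime choose an element outside `q`
  have hchoose : ∀ P ∈ (Ideal.span {t}).minimalPrimes, P ≠ q → ∃ s ∈ P, s ∉ q := by
    intro P hP hne
    by_contra hcon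
    push Not at hcon
    have hle : P ≤ q := fun s hs => hcon s hs
    have : q ≤ P := hq.2 hP.1 hle
    exact hne (le_antisymm hle this)
  choose! s hs1 hs2 using hchoose
  refine ⟨∏ P ∈ hfin.toFinset.filter (· ≠ q), s P, ?_, ?_⟩
  · intro hmem
    obtain ⟨P, hP, hPq⟩ := (Ideal.IsPrime.prod_mem_iff).mp hmem
    rw [Finset.mem_filter, Set.Finite.mem_toFinset] at hP
    exact hs2 P hP.1 hP.2 hPq
  · intro P hP htP
    haveI := hP
    obtain ⟨P₀, hP₀, hle⟩ := Ideal.exists_minimalPrimes_le (I := Ideal.span {t}) (J := P)
      (by rw [Ideal.span_le]; simpa using htP)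
    by_cases h : P₀ = q
    · right
      exact h ▸ hle
    · left
      apply hle
      refine Ideal.prod_mem P₀ (i := P₀) ?_ (hs1 P₀ hP₀ h)
      rw [Finset.mem_filter, Set.Finite.mem_toFinset]
      exact ⟨hP₀, h⟩

/-- In a Noetherian ring, a prime `q` of height one containing a nonzerodivisor `t` is minimal
over `(t)`. -/
theorem mem_minimalPrimes_span_of_height_le_one (q : Ideal R) [q.IsPrime] (t : R)
    (ht : t ∈ nonZeroDivisors R) (htq : t ∈ q) (hh : q.height ≤ 1) :
    q ∈ (Ideal.span {t}).minimalPrimes := by
  refine ⟨⟨inferInstance, by rw [Ideal.span_le]; simpa using htq⟩, ?_⟩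
  rintro P ⟨hP, hPt⟩ hPq
  by_contra hne
  have hlt : P < q := lt_of_le_of_ne hPq (fun h => hne (h ▸ le_rfl))
  haveI := hP
  have h1 : P.height + 1 ≤ q.height := Ideal.height_add_one_le_of_lt_of_isPrime hlt
  have h2 : P.height = 0 := by
    have h3 : P.height + 1 ≤ 0 + 1 := by simpa using le_trans h1 hh
    have h4 : P.height ≤ 0 := (ENat.add_le_add_iff_right ENat.one_ne_top).mp h3
    exact nonpos_iff_eq_zero.mp h4
  have hmin : P ∈ minimalPrimes R := (Ideal.height_eq_zero_iff).mp h2
  have htP : t ∈ P := by
    apply hPt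
    exact Ideal.subset_span rfl
  exact (Ideal.disjoint_nonZeroDivisors_of_mem_minimalPrimes hmin).le_bot ⟨htP, ht⟩

end DimOne

section Dvr

variable (R : Type*) [CommRing R] [IsDomain R] [IsNoetherianRing R] [IsLocalRing R]

theorem isDiscreteValuationRing_of_normal_dim_one [IsIntegrallyClosed R]
    (hdim : ringKrullDim R = 1) : IsDiscreteValuationRing R := by
  haveI : Ring.KrullDimLE 1 R := Ring.krullDimLE_iff.mpr hdim.le
  have h3 : IsIntegrallyClosed R ∧
      ∀ P : Ideal R, P ≠ ⊥ → P.IsPrime → P = IsLocalRing.maximalIdeal R := by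
    refine ⟨inferInstance, fun P hP0 hP => ?_⟩
    have := (Ring.krullDimLE_one_iff_of_noZeroDivisors.mp inferInstance) P hP0 hP
    exact IsLocalRing.eq_maximalIdeal this
  have hpid : IsPrincipalIdealRing R :=
    ((tfae_of_isNoetherianRing_of_isLocalRing_of_isDomain R).out 0 3).mpr h3
  refine { not_a_field' := fun h => ?_ }
  have hfield : IsField R := IsLocalRing.isField_iff_maximalIdeal_eq.mpr h
  have := ringKrullDim_eq_zero_of_isField hfield
  rw [hdim] at this
  exact absurd this (by decide)

end Dvr

end Groth.Agent.Lib.Helper21.NagDvr
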