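import Mathlib
import Groth.Agent.Lib.Helper18.Nag5
import Groth.Agent.Lib.Helper12.HensInt
import Groth.Agent.Lib.Helper12.IntegralDim
import Groth.Agent.Lib.Helper9.SemiLocalProd
import Groth.Agent.Lib.Helper21.NagDvr1

/-!
# Normalisation of a finite local domain over a complete discrete valuation ring
-/

set_option autoImplicit false
set_option linter.style.haveILetI false
set_option linter.unusedSectionVars false
universe u

namespace Groth.Agent.Lib.Helper21.DvrFin

open IsLocalRing

/-- The normalisation of a finite local domain over a complete discrete valuation ring is a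
discrete valuation ring, finite over the base. -/
theorem exists_dvr_finite (A : Type u) [CommRing A] [IsDomain A] [IsDiscreteValuationRing A]
    [IsAdicComplete (maximalIdeal A) A] (A' : Type u) [CommRing A'] [IsDomain A']
    [IsLocalRing A'] [Algebra A A'] [Module.Finite A A']
    (hinj : Function.Injective (algebraMap A A')) :
    ∃ (B : Type u) (_ : CommRing B) (_ : IsDomain B) (_ : IsDiscreteValuationRing B)
      (_ : Algebra A' B) (_ : Algebra A B) (_ : IsScalarTower A A' B),
      Module.Finite A B ∧ Function.Injective (algebraMap A' B) ∧
      Function.Injective (algebraMap A B) := by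
  haveI : IsNoetherianRing A' := IsNoetherianRing.of_finite A A'
  haveI : IsAdicComplete (maximalIdeal A') A' :=
    Groth.Agent.Lib.Helper9.SemiLocalProd.isAdicComplete_maximalIdeal_of_finite A A'
  have hN2 : CAlg.IsN2 A' := Groth.Agent.Lib.Helper18.Nag.isN2_of_isAdicComplete_of_isDomain A'
  let L := FractionRing A'
  let B := integralClosure A' L
  haveI hfinA'B : Module.Finite A' B := hN2 L inferInstance
  letI algAB : Algebra A B := ((algebraMap A' B).comp (algebraMap A A')).toAlgebra
  haveI : IsScalarTower A A' B := IsScalarTower.of_algebraMap_eq (fun _ => rfl)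
  haveI hfinAB : Module.Finite A B := Module.Finite.trans A' B
  have hinjA'B : Function.Injective (algebraMap A' B) := by
    intro a b hab
    have h1 : algebraMap A' L a = algebraMap A' L b := by
      have := congrArg (algebraMap B L) hab
      simpa [← IsScalarTower.algebraMap_apply] using this
    exact IsFractionRing.injective A' L h1
  have hinjAB : Function.Injective (algebraMap A B) := by
    have : (algebraMap A B) = (algebraMap A' B).comp (algebraMap A A') := rfl
    rw [this]
    exact hinjA'B.comp hinj
  haveI : IsIntegrallyClosed B :=
    integralClosure.isIntegrallyClosedOfFiniteExtension (R := A') L (L := L)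
  haveI : IsNoetherianRing B := IsNoetherianRing.of_finite A B
  haveI : HenselianRing A (maximalIdeal A) := inferInstance
  haveI : HenselianLocalRing A :=
    Groth.Agent.Lib.Helper12.HensInt.henselianLocalRing_of_henselianRing_maximalIdeal A
  haveI hloc : IsLocalRing B :=
    Groth.Agent.Lib.Helper12.HensInt.isLocalRing_of_isDomain_of_finite A B
  haveI : Algebra.IsIntegral A B := Algebra.IsIntegral.of_finite A B
  have hdim : ringKrullDim B = 1 := by
    rw [← Groth.Agent.Lib.Helper12.ringKrullDim_eq_of_isIntegral_of_injective A B hinjAB]
    exact IsDiscreteValuationRing.ringKrullDim_eq_one A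
  have hdvr : IsDiscreteValuationRing B :=
    Groth.Agent.Lib.Helper21.NagDvr.isDiscreteValuationRing_of_normal_dim_one B hdim
  exact ⟨B, inferInstance, inferInstance, hdvr, inferInstance, algAB, inferInstance, hfinAB,
    hinjA'B, hinjAB⟩

end Groth.Agent.Lib.Helper21.DvrFin
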