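import Mathlib
import Groth.Agent.Lib.Helper21.FibDim1

/-!
# Field-valued points and residue fields
-/

set_option autoImplicit false
set_option linter.style.haveILetI false
set_option linter.unusedSectionVars false
universe u

open CategoryTheory AlgebraicGeometry IsLocalRing

namespace Groth.Agent.Lib.Helper21.DvrFin

/-- a morphism `Spec K ⟶ X` with image `x` factors through `Spec κ(x)` -/
theorem exists_desc_of_apply_eq {K : Type u} [Field K] {X : Scheme.{u}}
    (a : Spec (CommRingCat.of K) ⟶ X) (x : X) (hx : a.base (closedPoint K) = x) :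
    ∃ α : X.residueField x ⟶ CommRingCat.of K, a = Spec.map α ≫ X.fromSpecResidueField x := by
  subst hx
  exact ⟨_, (Scheme.descResidueField_stalkClosedPointTo_fromSpecResidueField K X a).symm⟩

/-- two field-valued points with the same image and the same composite to the base agree as soon
as the residue field extension is trivial -/
theorem hom_ext_of_residueFieldMap_surjective {K : Type u} [Field K] {X S : Scheme.{u}}
    (f : X ⟶ S) (a b : Spec (CommRingCat.of K) ⟶ X) (x : X)
    (ha : a.base (closedPoint K) = x) (hb : b.base (closedPoint K) = x)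
    (hab : a ≫ f = b ≫ f) (hs : Function.Surjective (f.residueFieldMap x).hom) : a = b := by
  obtain ⟨α, rfl⟩ := exists_desc_of_apply_eq a x ha
  obtain ⟨β, rfl⟩ := exists_desc_of_apply_eq b x hb
  simp only [Category.assoc] at hab
  rw [← Scheme.Hom.SpecMap_residueFieldMap_fromSpecResidueField, ← Spec.map_comp_assoc,
    ← Spec.map_comp_assoc, cancel_mono, Spec.map_inj] at hab
  have : α = β := by
    ext t
    obtain ⟨t', rfl⟩ := hs t
    exact congrArg (fun φ => φ.hom t') hab
  rw [this]

/-- a field-valued point of `X` lying over a "closed immersion" point of the base has trivial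
residue field extension -/
theorem residueFieldMap_surjective_of_section {A K : Type u} [CommRing A] [Field K]
    {X : Scheme.{u}} (f : X ⟶ Spec (CommRingCat.of A)) (τ : Spec (CommRingCat.of K) ⟶ X)
    (ρ : A →+* K) (hρ : Function.Surjective ρ)
    (h : τ ≫ f = Spec.map (CommRingCat.ofHom ρ)) :
    Function.Surjective (f.residueFieldMap (τ.base (closedPoint K))).hom := by
  haveI : IsClosedImmersion (Spec.map (CommRingCat.ofHom ρ)) :=
    IsClosedImmersion.spec_of_surjective _ hρ
  haveI : SurjectiveOnStalks (τ ≫ f) := by rw [h]; infer_instance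
  have h1 := Groth.Agent.Lib.Helper21.FibDim.residueFieldMap_surjective (τ ≫ f) (closedPoint K)
  rw [Scheme.residueFieldMap_comp] at h1
  intro z
  obtain ⟨t, ht⟩ := h1 ((τ.residueFieldMap (closedPoint K)).hom z)
  refine ⟨t, ?_⟩
  have hinj : Function.Injective (τ.residueFieldMap (closedPoint K)).hom :=
    (τ.residueFieldMap (closedPoint K)).hom.injective
  apply hinj
  rw [← ht]
  rfl

end Groth.Agent.Lib.Helper21.DvrFin
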