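import Groth.Agent.Lib.Helper21.FibDim11
import Groth.Agent.Lib.Helper21.FibDim9
import Groth.Agent.Lib.Helper21.Img1
import Groth.Agent.Lib.Helper21.DimFun2

/-!
# Morphisms with irreducible equidimensional fibres over closed points

Point-wise calculus (via residue transcendence degrees) for Shafarevich I.6.3 Thm 8 and variants.
-/

set_option autoImplicit false
set_option linter.style.haveILetI false
set_option linter.unusedSectionVars false
universe u

open AlgebraicGeometry CategoryTheory Limits TopologicalSpace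

namespace Groth.Agent.Lib.Helper21.IrrFib

open Groth.Agent.Lib.Helper21.FibDim

section General

variable {X S : Scheme.{u}} (f : X ⟶ S)

/-- the generic point of an irreducible fibre of dimension `d` -/
theorem exists_generic_fibre [LocallyOfFiniteType f] (y : S) (d : ℕ)
    (hirr : IsIrreducible (f.base ⁻¹' {y}))
    (hdim : topologicalKrullDim ↥(f.base ⁻¹' {y}) = d) :
    ∃ θ : X, f θ = y ∧ (∀ x : X, f x = y → θ ⤳ x) ∧
      @Algebra.trdeg (S.residueField (f θ)) (X.residueField θ) _ _
        (f.residueFieldMap θ).hom.toAlgebra = d := by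
  letI := fiberOver f y
  haveI : LocallyOfFiniteType (f.fiber y ↘ Spec (CommRingCat.of (S.residueField y))) :=
    MorphismProperty.pullback_snd (P := @LocallyOfFiniteType) _ _ inferInstance
  have hirrF : IrreducibleSpace (f.fiber y) := by
    have : IrreducibleSpace ↥(f.base ⁻¹' {y}) := Subtype.irreducibleSpace hirr
    exact (f.fiberHomeo y).irreducibleSpace_iff.mpr this
  let θ' := genericPoint (f.fiber y)
  obtain ⟨a, ha⟩ := exists_nat_trdeg (S.residueField y) (f.fiber y) θ'
  have hd := topologicalKrullDim_closure_singleton (S.residueField y) (f.fiber y) θ' a ha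
  have hcl : closure ({θ'} : Set (f.fiber y)) = Set.univ := (genericPoint_spec (f.fiber y)).def
  have hdF : topologicalKrullDim (f.fiber y) = d := by
    rw [(f.fiberHomeo y).isHomeomorph.topologicalKrullDim_eq]; exact hdim
  have had : a = d := by
    have h1 : topologicalKrullDim (closure ({θ'} : Set (f.fiber y))) =
        topologicalKrullDim (f.fiber y) := by
      rw [hcl]
      exact (Homeomorph.Set.univ (f.fiber y)).isHomeomorph.topologicalKrullDim_eq
    rw [hd, hdF] at h1
    exact_mod_cast h1
  refine ⟨f.fiberι y θ', (f.fiberHomeo y θ').2, ?_, ?_⟩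
  · intro x hx
    have h1 : θ' ⤳ (f.fiberHomeo y).symm ⟨x, hx⟩ := genericPoint_specializes _
    have h2 := h1.map (f.fiberι y).continuous
    rwa [Scheme.Hom.fiberι_fiberHomeo_symm f y ⟨x, hx⟩] at h2
  · have := trdeg_fiber_eq f y θ'
    rw [← this, ha, had]

end General

/-- residue transcendence degrees are unchanged by precomposition with a morphism surjective on
stalks (e.g. a closed immersion) -/
theorem trdeg_comp_of_surjectiveOnStalks {W X S : Scheme.{u}} (ι : W ⟶ X) [SurjectiveOnStalks ι]
    (f : X ⟶ S) (w : W) (n : ℕ)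
    (h : @Algebra.trdeg (S.residueField (f (ι w))) (X.residueField (ι w)) _ _
      (f.residueFieldMap (ι w)).hom.toAlgebra = n) :
    @Algebra.trdeg (S.residueField ((ι ≫ f) w)) (W.residueField w) _ _
      ((ι ≫ f).residueFieldMap w).hom.toAlgebra = n := by
  have h0 : @Algebra.trdeg (X.residueField (ι w)) (W.residueField w) _ _
      (ι.residueFieldMap w).hom.toAlgebra = (0 : ℕ) := by
    letI := (ι.residueFieldMap w).hom.toAlgebra
    have := isAlgebraic_of_surjective (ι.residueFieldMap w).hom (residueFieldMap_surjective ι w)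
    rw [Nat.cast_zero]
    exact trdeg_eq_zero
  have := trdeg_comp ι f w n 0 h h0
  simpa using this

/-- **Lower bound for fibre dimensions along a specialisation**: if `ζ ⤳ x` then the fibre through
`x` contains a point `τ` between `ζ` and `x` whose residue transcendence degree is at least that
of `ζ`. -/
theorem exists_fibre_generization {X S : Scheme.{u}} (f : X ⟶ S) [LocallyOfFiniteType f]
    {ζ x : X} (h : ζ ⤳ x) (n : ℕ)
    (hn : @Algebra.trdeg (S.residueField (f ζ)) (X.residueField ζ) _ _
      (f.residueFieldMap ζ).hom.toAlgebra = n) :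
    ∃ (τ : X) (m : ℕ), ζ ⤳ τ ∧ τ ⤳ x ∧ f τ = f x ∧ n ≤ m ∧
      @Algebra.trdeg (S.residueField (f τ)) (X.residueField τ) _ _
        (f.residueFieldMap τ).hom.toAlgebra = m := by
  let I := Scheme.IdealSheafData.vanishingIdeal ⟨closure {ζ}, isClosed_closure⟩
  let ι := I.subschemeι
  have hr : Set.range ι = closure {ζ} := by
    rw [Scheme.IdealSheafData.range_subschemeι, Scheme.IdealSheafData.coe_support_vanishingIdeal]
    rfl
  have hζmem : ζ ∈ Set.range ι := by rw [hr]; exact subset_closure rfl
  have hxmem : x ∈ Set.range ι := by rw [hr]; exact specializes_iff_mem_closure.mp h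
  obtain ⟨ζ', hζ'⟩ := hζmem
  obtain ⟨x', hx'⟩ := hxmem
  let g := ι ≫ f
  have hmax : ∀ w : I.subscheme, w ⤳ ζ' → w = ζ' := by
    intro w hw
    have h1 : ι w ⤳ ι ζ' := hw.map ι.continuous
    rw [hζ'] at h1
    have h2 : ζ ⤳ ι w := by
      rw [specializes_iff_mem_closure, ← hr]
      exact ⟨w, rfl⟩
    have h3 : ι w = ι ζ' := by rw [hζ']; exact (h1.antisymm h2).eq
    exact ι.isEmbedding.injective h3
  obtain ⟨e, he1, he2⟩ := fibreDimAt_eq_trdeg_of_maximal' g ζ' hmax
  rw [← hζ'] at hn
  have hn' := trdeg_comp_of_surjectiveOnStalks ι f ζ' n hn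
  have hen : e = n := by
    have : (e : Cardinal) = n := by rw [← he2, ← hn']
    exact_mod_cast this
  have hsp : ζ' ⤳ x' := by
    rw [← ι.isEmbedding.isInducing.specializes_iff, hζ', hx']
    exact h
  have hchev := fibreDimAt_le_of_specializes g hsp
  obtain ⟨m, hm, ⟨τ', hτ'x, hτ'f, hτ't⟩, -⟩ := exists_fibreDimAt_eq_trdeg g x'
  rw [he1, hm] at hchev
  have hem : e ≤ m := by exact_mod_cast hchev
  obtain ⟨m', hm'⟩ := exists_nat_trdeg_residueFieldMap f (ι τ')
  have hm'' := trdeg_comp_of_surjectiveOnStalks ι f τ' m' hm'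
  have hmm : m' = m := by
    have : (m' : Cardinal) = m := by rw [← hm'', ← hτ't]
    exact_mod_cast this
  refine ⟨ι τ', m, ?_, ?_, ?_, ?_, ?_⟩
  · rw [specializes_iff_mem_closure, ← hr]
    exact ⟨τ', rfl⟩
  · have := hτ'x.map ι.continuous
    rwa [hx'] at this
  · have : f (ι τ') = f (ι x') := hτ'f
    rw [this, hx']
  · omega
  · rw [hm', hmm]

end Groth.Agent.Lib.Helper21.IrrFib
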