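import Groth.Agent.Lib.Helper21.EquiSub10
import Groth.Agent.Lib.Helper4.HensSplitSch
import Groth.Agent.Lib.Helper12.HensInt

/-!
# Finite quasi-sections over a complete local domain (EGA IV 14.5.4)
-/

set_option autoImplicit false
set_option linter.style.haveILetI false
set_option linter.unusedSectionVars false
universe u

open AlgebraicGeometry CategoryTheory Limits TopologicalSpace IsLocalRing

namespace Groth.Agent.Lib.Helper21.QSecFin

theorem irreducibleSpace_opens {W : Scheme.{u}} [IrreducibleSpace W] (U : W.Opens) (w : W)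
    (hw : w ∈ U) : IrreducibleSpace U.toScheme := by
  have h1 : IsIrreducible (U : Set W) :=
    ⟨⟨w, hw⟩, (IrreducibleSpace.isIrreducible_univ W).isPreirreducible.open_subset U.isOpen
      (Set.subset_univ _)⟩
  exact (isIrreducible_iff_irreducibleSpace (s := (U : Set W))).mp h1

/-- a quasi-finite affine integral scheme over a complete local domain, with a point over the
closed point, is finite -/
theorem isFinite_of_locallyQuasiFinite_of_complete {A : Type u} [CommRing A] [IsLocalRing A]
    [IsAdicComplete (IsLocalRing.maximalIdeal A) A] {T : Scheme.{u}} [IsAffine T]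
    [IrreducibleSpace T] (g : T ⟶ Spec (CommRingCat.of A)) [LocallyOfFiniteType g]
    [LocallyQuasiFinite g] (t : T) (ht : g.base t = IsLocalRing.closedPoint A) : IsFinite g := by
  haveI : HenselianRing A (maximalIdeal A) := inferInstance
  haveI : QuasiCompact g := inferInstance
  haveI : IsSeparated g := inferInstance
  have hfin : IsFinite (pullback.snd g
      (Spec.map (CommRingCat.ofHom (Ideal.Quotient.mk (maximalIdeal A))))) := by
    haveI : IsLocallyArtinian (Spec (CommRingCat.of (A ⧸ maximalIdeal A))) := by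
      rw [Scheme.isLocallyArtinianScheme_Spec]
      exact inferInstanceAs (IsArtinianRing (IsLocalRing.ResidueField A))
    exact IsFinite.of_locallyQuasiFinite _
  obtain ⟨W, hWc, hWf, hW⟩ := Groth.Agent.Lib.Helper4.HensSplitSch.core (maximalIdeal A) g hfin
  have htW : t ∈ W := by
    apply hW
    rw [ht]
    exact le_rfl
  have hclopen : IsClopen (W : Set T) := ⟨hWc, W.isOpen⟩
  have huniv : (W : Set T) = Set.univ := hclopen.eq_univ ⟨t, htW⟩
  have hWtop : W = ⊤ := TopologicalSpace.Opens.ext huniv
  subst hWtop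
  haveI : IsIso (⊤ : T.Opens).ι := by
    rw [← Scheme.topIso_hom]; infer_instance
  exact (MorphismProperty.cancel_left_of_respectsIso @IsFinite _ _).mp hWf

/-- **finite quasi-sections over a complete local domain** -/
theorem exists_finite_section {A : Type u} [CommRing A] [IsDomain A]
    [IsNoetherianRing A] [IsLocalRing A] [IsAdicComplete (IsLocalRing.maximalIdeal A) A]
    {X : Scheme.{u}} (f : X ⟶ Spec (CommRingCat.of A)) [LocallyOfFiniteType f] (x : X)
    (hx : f.base x = IsLocalRing.closedPoint A)
    (hf : EGA43.IsEquidimAt f x) (hcl : ∀ x' : X, f.base x' = f.base x → x ⤳ x' → x' = x) :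
    ∃ (A' : Type u) (_ : CommRing A') (_ : IsDomain A') (_ : IsLocalRing A') (_ : Algebra A A')
      (_ : Module.Finite A A'),
      Function.Injective (algebraMap A A') ∧
      ∃ h : Spec (CommRingCat.of A') ⟶ X,
        h ≫ f = Spec.map (CommRingCat.ofHom (algebraMap A A')) ∧
        IsImmersion h ∧ x ∈ Set.range h.base := by
  haveI : IrreducibleSpace ↥(Spec (CommRingCat.of A)) :=
    inferInstanceAs (IrreducibleSpace (PrimeSpectrum A))
  obtain ⟨T, i, hi, hTirr, hTred, ⟨t, ht⟩, hlft, hlqf, hqc, hdom⟩ :=
    Groth.Agent.Lib.Helper21.EquiSub.exists_quasiSection f x hf hcl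
  obtain ⟨T', hT'aff, htT'⟩ : ∃ T' : T.Opens, IsAffineOpen T' ∧ t ∈ T' := by
    obtain ⟨W, h1, h2, -⟩ := Opens.isBasis_iff_nbhd.mp T.isBasis_affineOpens
      (show t ∈ (⊤ : T.Opens) from trivial)
    exact ⟨W, h1, h2⟩
  haveI : IsAffine T'.toScheme := hT'aff
  haveI : IrreducibleSpace T'.toScheme := irreducibleSpace_opens T' t htT'
  haveI : IsIntegral T'.toScheme := isIntegral_of_irreducibleSpace_of_isReduced _
  let g' : T'.toScheme ⟶ Spec (CommRingCat.of A) := T'.ι ≫ i ≫ f
  haveI : LocallyOfFiniteType g' := inferInstance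
  haveI : LocallyQuasiFinite g' := inferInstance
  have hg't : g'.base ⟨t, htT'⟩ = IsLocalRing.closedPoint A := by
    change f.base (i.base t) = _
    rw [ht, hx]
  have hfin : IsFinite g' := isFinite_of_locallyQuasiFinite_of_complete g' ⟨t, htT'⟩ hg't
  -- dominance
  have hdense : DenseRange g'.base := by
    have h1 : DenseRange T'.ι.base := by
      rw [DenseRange, Scheme.Opens.range_ι]
      exact T'.isOpen.dense ⟨t, htT'⟩
    have h2 : DenseRange (i ≫ f).base := hdom.denseRange
    have h3 := h2.comp h1 (i ≫ f).continuous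
    exact h3
  -- the ring map
  obtain ⟨φ, hφ⟩ := Spec.map_surjective (T'.toScheme.isoSpec.inv ≫ g')
  letI alg : Algebra A Γ(T'.toScheme, ⊤) := φ.hom.toAlgebra
  have hφfin : φ.hom.Finite := by
    rw [← IsFinite.SpecMap_iff, hφ]
    infer_instance
  haveI hmf : Module.Finite A Γ(T'.toScheme, ⊤) := hφfin
  have hinj : Function.Injective (algebraMap A Γ(T'.toScheme, ⊤)) := by
    have hd : DenseRange (Spec.map φ).base := by
      rw [hφ]
      exact hdense.comp T'.toScheme.isoSpec.inv.homeomorph.surjective.denseRange g'.continuous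
    have hd' : DenseRange (PrimeSpectrum.comap φ.hom) := hd
    rw [PrimeSpectrum.denseRange_comap_iff_ker_le_nilRadical] at hd'
    rw [injective_iff_map_eq_zero]
    intro a ha
    have h1 : a ∈ nilradical A := hd' (RingHom.mem_ker.mpr ha)
    rw [nilradical_eq_zero] at h1
    exact h1
  haveI : HenselianRing A (maximalIdeal A) := inferInstance
  haveI : HenselianLocalRing A :=
    Groth.Agent.Lib.Helper12.HensInt.henselianLocalRing_of_henselianRing_maximalIdeal A
  haveI hloc : IsLocalRing Γ(T'.toScheme, ⊤) :=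
    Groth.Agent.Lib.Helper12.HensInt.isLocalRing_of_isDomain_of_finite A Γ(T'.toScheme, ⊤)
  refine ⟨Γ(T'.toScheme, ⊤), inferInstance, inferInstance, hloc, alg, hmf, hinj,
    T'.toScheme.isoSpec.inv ≫ T'.ι ≫ i, ?_, ?_, ?_⟩
  · rw [Category.assoc, Category.assoc]
    exact hφ.symm
  · infer_instance
  · refine ⟨T'.toScheme.isoSpec.hom.base ⟨t, htT'⟩, ?_⟩
    rw [← Scheme.Hom.comp_apply, Iso.hom_inv_id_assoc, Scheme.Hom.comp_apply]
    exact ht

end Groth.Agent.Lib.Helper21.QSecFin
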