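import Mathlib
import Groth.Agent.Lib.Helper21.DvrFin1
import Groth.Agent.Lib.Helper21.DvrFin2
import Groth.Agent.Lib.Helper21.DvrCrit1
import Groth.Agent.Lib.Helper21.QSecFin1
import Groth.Agent.Lib.Helper21.OpenAt3
import Groth.Agent.Lib.Helper21.EquiGU1
import Groth.Agent.Lib.Helper21.FibDim5
import Groth.Agent.Lib.Helper21.IrrFib1
import Groth.Agent.Lib.Helper21.EquiSub10
import Groth.Agent.Lib.Helper17.ProCons

/-!
# Lifting a point of the closed fibre to a discrete valuation ring (EGA IV 14.5.8, necessity)
-/

set_option autoImplicit false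
set_option linter.style.haveILetI false
set_option linter.unusedSectionVars false
universe u

open CategoryTheory AlgebraicGeometry IsLocalRing Limits

namespace Groth.Agent.Lib.Helper21.DvrFin

open Groth.Agent.Lib.Helper21.DvrCrit

/-- over a complete discrete valuation ring: a rational point of the closed fibre at which the
morphism is open lifts to a finite extension of discrete valuation rings -/
theorem exists_dvr_lift_of_isOpenAt (A : Type u) [CommRing A] [IsDomain A]
    [IsDiscreteValuationRing A] [IsAdicComplete (maximalIdeal A) A] {P : Scheme.{u}}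
    (f : P ⟶ Spec (CommRingCat.of A)) [LocallyOfFiniteType f]
    (σ : Spec (CommRingCat.of (ResidueField A)) ⟶ P)
    (hσ : σ ≫ f = Spec.map (CommRingCat.ofHom (residue A)))
    (x : P) (hx : σ.base (closedPoint (ResidueField A)) = x)
    (hop : EGA43.IsOpenAt f.base x) :
    ∃ (B : Type u) (_ : CommRing B) (_ : IsDomain B) (_ : IsDiscreteValuationRing B)
      (φ : A →+* B) (_ : IsLocalHom φ) (v : Spec (CommRingCat.of B) ⟶ P),
      φ.Finite ∧ v ≫ f = Spec.map (CommRingCat.ofHom φ) ∧
      Spec.map (CommRingCat.ofHom (ResidueField.map φ)) ≫ σ =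
        Spec.map (CommRingCat.ofHom (residue B)) ≫ v := by
  have hfx : f.base x = closedPoint A := by
    have h1 := congrArg (fun φ : Spec (CommRingCat.of (ResidueField A)) ⟶
      Spec (CommRingCat.of A) => φ.base (closedPoint (ResidueField A))) hσ
    simp only [Scheme.Hom.comp_apply] at h1
    rw [hx] at h1
    rw [h1]
    exact IsLocalRing.comap_closedPoint (residue A)
  have hsurj : Function.Surjective (f.residueFieldMap x).hom := by
    have := residueFieldMap_surjective_of_section f σ (residue A) residue_surjective hσ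
    subst hx
    exact this
  -- a generisation of `x` over the generic point
  obtain ⟨z, hzx, hfz⟩ := Groth.Agent.Lib.Helper17.ProConsLib.exists_generization_lift f x hop
    (genPt A) (hfx ▸ genPt_specializes A _)
  let Zc : TopologicalSpace.Closeds P := ⟨closure {z}, isClosed_closure⟩
  have hirr : IsIrreducible (Zc : Set P) := isIrreducible_singleton.closure
  haveI hint : IsIntegral (Scheme.IdealSheafData.vanishingIdeal Zc).subscheme :=
    Groth.Agent.Lib.Helper21.EquiGU.isIntegral_subscheme_vanishingIdeal Zc hirr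
  obtain ⟨Zs, ι, hcli, hintZ, hr⟩ : ∃ (Zs : Scheme.{u}) (ι : Zs ⟶ P), IsClosedImmersion ι ∧
      IsIntegral Zs ∧ Set.range ι.base = closure {z} :=
    ⟨_, (Scheme.IdealSheafData.vanishingIdeal Zc).subschemeι, inferInstance, hint,
      Groth.Agent.Lib.Helper21.CondT.range_subschemeι_vanishingIdeal Zc⟩
  obtain ⟨w, hw⟩ : ∃ w : Zs, ι.base w = x := by
    have : x ∈ Set.range ι.base := by rw [hr]; exact hzx.mem_closure
    exact this
  obtain ⟨zz, hzz⟩ : ∃ zz : Zs, ι.base zz = z := by
    have : z ∈ Set.range ι.base := by rw [hr]; exact subset_closure rfl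
    exact this
  have hemb : Topology.IsEmbedding ι.base := ι.isEmbedding
  have hgen : ∀ t : Zs, zz ⤳ t := by
    intro t
    rw [← hemb.isInducing.specializes_iff, hzz, specializes_iff_mem_closure, ← hr]
    exact ⟨t, rfl⟩
  obtain ⟨gZ, hgZ⟩ : ∃ gZ : Zs ⟶ Spec (CommRingCat.of A), gZ = ι ≫ f := ⟨_, rfl⟩
  haveI : LocallyOfFiniteType gZ := by rw [hgZ]; infer_instance
  have hgzz : gZ.base zz = genPt A := by rw [hgZ, Scheme.Hom.comp_apply, hzz, hfz]
  have hgw : gZ.base w = closedPoint A := by rw [hgZ, Scheme.Hom.comp_apply, hw, hfx]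
  haveI : IsDominant gZ := by
    refine ⟨fun s => ?_⟩
    have h1 : s ∈ closure {genPt A} := (genPt_specializes A s).mem_closure
    refine closure_mono ?_ h1
    rintro _ rfl
    exact ⟨zz, hgzz⟩
  haveI : IrreducibleSpace Zs := inferInstance
  haveI : LocallyOfFinitePresentation gZ :=
    LocallyOfFinitePresentation.iff_locallyOfFiniteType.mpr inferInstance
  have hopen : ∀ t : Zs, EGA43.IsOpenAt gZ.base t := by
    intro t
    refine Groth.Agent.Lib.Helper17.ProConsLib.isOpenAt_of_generization_lift gZ t ?_
    intro y' hy'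
    by_cases hc : y' = gZ.base t
    · exact ⟨t, specializes_rfl, hc.symm⟩
    · have hy'g : y' = genPt A := by
        apply eq_genPt_of_ne_closedPoint
        intro hcl
        apply hc
        rw [hcl] at hy' ⊢
        have := hy'.mem_closed (IsLocalRing.isClosed_singleton_closedPoint A) rfl
        exact this.symm
      exact ⟨zz, hgen t, by rw [hgzz, hy'g]⟩
  have hequi : EGA43.IsEquidimAt gZ w :=
    Groth.Agent.Lib.Helper21.OpenAt.isEquidimAt_of_isOpenAt_of_irreducible gZ w
      (fun _ _ _ => hopen _)
  have htr0 : @Algebra.trdeg ((Spec (CommRingCat.of A)).residueField (gZ.base w))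
      (Zs.residueField w) _ _ (gZ.residueFieldMap w).hom.toAlgebra = (0 : ℕ) := by
    have h1 : @Algebra.trdeg ((Spec (CommRingCat.of A)).residueField (f.base x))
        (P.residueField x) _ _ (f.residueFieldMap x).hom.toAlgebra = (0 : ℕ) := by
      letI := (f.residueFieldMap x).hom.toAlgebra
      haveI := Groth.Agent.Lib.Helper21.FibDim.isAlgebraic_of_surjective
        (f.residueFieldMap x).hom hsurj
      rw [Nat.cast_zero]
      exact _root_.trdeg_eq_zero
    have h2 := Groth.Agent.Lib.Helper21.EquiSub.trdeg_eq_of_eq f hw.symm 0 h1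
    subst hgZ
    exact Groth.Agent.Lib.Helper21.IrrFib.trdeg_comp_of_surjectiveOnStalks ι f w 0 h2
  have hcl : ∀ x' : Zs, gZ.base x' = gZ.base w → w ⤳ x' → x' = w := by
    intro x' hx' hsp
    by_contra hne
    have := Groth.Agent.Lib.Helper21.FibDim.trdeg_lt_of_specializes_of_ne (f := gZ) hsp
      (Ne.symm hne) hx'.symm
    rw [htr0, Nat.cast_zero] at this
    exact (not_lt.mpr zero_le) this
  obtain ⟨A', _, _, _, _, _, hinj, h, hh, himm, hwr⟩ :=
    Groth.Agent.Lib.Helper21.QSecFin.exists_finite_section gZ w hgw hequi hcl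
  obtain ⟨B, _, _, _, _, _, _, hfin, hinjA'B, hinjAB⟩ := exists_dvr_finite A A' hinj
  haveI : Algebra.IsIntegral A B := Algebra.IsIntegral.of_finite A B
  haveI : FaithfulSMul A B := (faithfulSMul_iff_algebraMap_injective A B).mpr hinjAB
  have hloc : IsLocalHom (algebraMap A B) := Algebra.IsIntegral.isLocalHom (R := A) (S := B)
  haveI : Algebra.IsIntegral A' B := Algebra.IsIntegral.tower_top (R := A) (S := A') (T := B)
  haveI : FaithfulSMul A' B := (faithfulSMul_iff_algebraMap_injective A' B).mpr hinjA'B
  have hloc' : IsLocalHom (algebraMap A' B) := Algebra.IsIntegral.isLocalHom (R := A') (S := B)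
  haveI : Algebra.IsIntegral A A' := Algebra.IsIntegral.of_finite A A'
  -- the point of `Spec A'` over `w` is the closed point
  have hhw : h.base (closedPoint A') = w := by
    obtain ⟨t, ht⟩ := hwr
    have h1 := congrArg (fun φ : Spec (CommRingCat.of A') ⟶ Spec (CommRingCat.of A) =>
      φ.base t) hh
    simp only [Scheme.Hom.comp_apply] at h1
    rw [ht, hgw] at h1
    have h2 : t.asIdeal.comap (algebraMap A A') = maximalIdeal A := by
      have := congrArg PrimeSpectrum.asIdeal h1
      exact this.symm
    have hmax : t.asIdeal.IsMaximal := by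
      haveI := t.2
      apply Ideal.isMaximal_of_isIntegral_of_isMaximal_comap (R := A) t.asIdeal
      rw [h2]
      infer_instance
    have : t = closedPoint A' := PrimeSpectrum.ext (IsLocalRing.eq_maximalIdeal hmax)
    rw [← this, ht]
  refine ⟨B, inferInstance, inferInstance, inferInstance, algebraMap A B, hloc,
    Spec.map (CommRingCat.ofHom (algebraMap A' B)) ≫ h ≫ ι, ?_, ?_, ?_⟩
  · exact RingHom.finite_algebraMap.mpr hfin
  · rw [Category.assoc, Category.assoc, ← hgZ, hh, ← Spec.map_comp, ← CommRingCat.ofHom_comp,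
      ← IsScalarTower.algebraMap_eq]
  · refine hom_ext_of_residueFieldMap_surjective f _ _ x ?_ ?_ ?_ hsurj
    · rw [Scheme.Hom.comp_apply, ← hx]
      congr 1
      exact Subsingleton.elim _ _
    · rw [Scheme.Hom.comp_apply, Scheme.Hom.comp_apply, Scheme.Hom.comp_apply]
      have h1 : (Spec.map (CommRingCat.ofHom (residue B))).base (closedPoint (ResidueField B)) =
          closedPoint B := IsLocalRing.comap_closedPoint (residue B)
      have h2 : (Spec.map (CommRingCat.ofHom (algebraMap A' B))).base (closedPoint B) =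
          closedPoint A' := IsLocalRing.comap_closedPoint (algebraMap A' B)
      rw [h1, h2, hhw, hw]
    · rw [Category.assoc, hσ, Category.assoc, Category.assoc, Category.assoc, ← hgZ, hh,
        ← Spec.map_comp, ← Spec.map_comp, ← Spec.map_comp, ← CommRingCat.ofHom_comp,
        ← CommRingCat.ofHom_comp, ← CommRingCat.ofHom_comp, ← IsScalarTower.algebraMap_eq]
      congr 2

end Groth.Agent.Lib.Helper21.DvrFin
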