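import Mathlib
import Groth.Agent.Lib.Helper21.DvrFin3

/-!
# Lifting criterion for universal openness at a point: necessity (EGA IV 14.5.8)
-/

set_option autoImplicit false
set_option linter.style.haveILetI false
set_option linter.unusedSectionVars false
universe u

open CategoryTheory AlgebraicGeometry IsLocalRing Limits

namespace Groth.Agent.Lib.Helper21.DvrFin

theorem exists_lift_of_isUnivOpenAt {X Y : Scheme.{u}} (f : X ⟶ Y) [LocallyOfFiniteType f] (x : X)
    (hU : EGA43.IsUnivOpenAt f x)
    (A : Type u) [CommRing A] [IsDomain A] [IsDiscreteValuationRing A]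
    [IsAdicComplete (maximalIdeal A) A]
    (g : Spec (CommRingCat.of A) ⟶ Y)
    (u₀ : Spec (CommRingCat.of (ResidueField A)) ⟶ X)
    (h₀ : u₀ ≫ f = Spec.map (CommRingCat.ofHom (residue A)) ≫ g)
    (hx : x ∈ Set.range u₀.base) :
    ∃ (B : CommRingCat.{u}) (_ : IsDomain B) (_ : IsDiscreteValuationRing B) (φ : A →+* B)
      (_ : IsLocalHom φ) (v : Spec B ⟶ X),
      φ.Finite ∧ v ≫ f = Spec.map (CommRingCat.ofHom φ) ≫ g ∧
      Spec.map (CommRingCat.ofHom (IsLocalRing.ResidueField.map φ)) ≫ u₀ =
        Spec.map (CommRingCat.ofHom (IsLocalRing.residue B)) ≫ v := by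
  let σ : Spec (CommRingCat.of (ResidueField A)) ⟶ pullback f g :=
    pullback.lift u₀ (Spec.map (CommRingCat.ofHom (residue A))) h₀
  have hσ : σ ≫ pullback.snd f g = Spec.map (CommRingCat.ofHom (residue A)) :=
    pullback.lift_snd _ _ _
  have hσ1 : σ ≫ pullback.fst f g = u₀ := pullback.lift_fst _ _ _
  have hfst : (pullback.fst f g).base (σ.base (closedPoint (ResidueField A))) = x := by
    rw [← Scheme.Hom.comp_apply, hσ1]
    obtain ⟨t, ht⟩ := hx
    rw [← ht]
    congr 1
    exact Subsingleton.elim _ _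
  have hop := hU _ g _ hfst
  obtain ⟨B, _, _, _, φ, hloc, v', hfin, hv', hres⟩ :=
    exists_dvr_lift_of_isOpenAt A (pullback.snd f g) σ hσ _ rfl hop
  refine ⟨CommRingCat.of B, inferInstance, inferInstance, φ, hloc, v' ≫ pullback.fst f g,
    hfin, ?_, ?_⟩
  · rw [Category.assoc, pullback.condition, ← Category.assoc, hv']
  · rw [← hσ1, ← Category.assoc, hres, Category.assoc]

end Groth.Agent.Lib.Helper21.DvrFin
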