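import Mathlib
import Groth.Agent.Lib.Helper23.CohenAlg
import Groth.Agent.Lib.Helper23.CohenRingExist

/-!
# Gonflement of a discrete valuation ring: complete DVR with prescribed residue field
-/

set_option autoImplicit false
set_option linter.style.haveILetI false
set_option linter.unusedSectionVars false
universe u

open IsLocalRing

namespace Groth.Agent.Lib.Helper21.DvrFin

/-- a discrete valuation ring admits a flat local extension which is a complete discrete valuation
ring with prescribed residue field extension (EGA 0_III 10.3.1 for DVRs) -/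
theorem exists_complete_dvr_gonflement (A₀ : Type u) [CommRing A₀] [IsDomain A₀]
    [IsDiscreteValuationRing A₀] (K : Type u) [Field K] [Algebra (ResidueField A₀) K] :
    ∃ (A : Type u) (_ : CommRing A) (_ : IsDomain A) (_ : IsDiscreteValuationRing A)
      (_ : Algebra A₀ A), IsAdicComplete (maximalIdeal A) A ∧ IsLocalHom (algebraMap A₀ A) ∧
      Function.Injective (algebraMap A₀ A) ∧
      ∃ e : ResidueField A ≃+* K, ∀ a : A₀, e (residue A (algebraMap A₀ A a)) =
        algebraMap (ResidueField A₀) K (residue A₀ a) := by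
  obtain ⟨B, _, _, _, hnoeth, hcompl, hloc, hflat, e₀, he₀⟩ :=
    Groth.Agent.Lib.Helper23.CohenAlg.exists_complete_gonflement (A := A₀) K
  have hmax : (maximalIdeal A₀).map (algebraMap A₀ B) = maximalIdeal B :=
    Groth.Agent.Lib.Helper23.Gonflement2.map_eq_maximalIdeal_of_equiv e₀
  obtain ⟨π₀, hπ₀⟩ := IsDiscreteValuationRing.exists_irreducible A₀
  have hm₀ : maximalIdeal A₀ = Ideal.span {π₀} := hπ₀.maximalIdeal_eq
  have hmB : maximalIdeal B = Ideal.span {algebraMap A₀ B π₀} := by
    rw [← hmax, hm₀, Ideal.map_span, Set.image_singleton]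
  have hreg₀ : IsSMulRegular A₀ π₀ := by
    intro a b hab
    exact mul_left_cancel₀ hπ₀.ne_zero hab
  have hreg : IsSMulRegular B (algebraMap A₀ B π₀) := hreg₀.of_flat
  haveI hdom : IsDomain B :=
    Groth.Agent.Lib.Helper23.CohenRingExist.isDomain_of_principal hmB hreg
  haveI : Module.FaithfullyFlat A₀ B := Module.FaithfullyFlat.of_flat_of_isLocalHom
  have hinj : Function.Injective (algebraMap A₀ B) := FaithfulSMul.algebraMap_injective A₀ B
  have hπ : algebraMap A₀ B π₀ ≠ 0 := by
    intro h0
    apply hπ₀.ne_zero
    apply hinj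
    rw [h0, map_zero]
  have hdvr : IsDiscreteValuationRing B :=
    Groth.Agent.Lib.Helper23.CohenRingExist.isDiscreteValuationRing_of_principal hmB hπ
  refine ⟨B, inferInstance, hdom, hdvr, inferInstance, hcompl, hloc, hinj,
    (Ideal.quotEquivOfEq hmax.symm).trans e₀, fun a => ?_⟩
  rw [← he₀ a]
  rfl

end Groth.Agent.Lib.Helper21.DvrFin
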