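import Mathlib
import Groth.Agent.Lib.Helper21.DvrFin5
import Groth.Agent.Lib.Helper21.DvrCrit1

/-!
# Lifting criterion for universal openness at a point: sufficiency (EGA IV 14.5.8)
-/

set_option autoImplicit false
set_option linter.style.haveILetI false
set_option linter.unusedSectionVars false
universe u

open CategoryTheory AlgebraicGeometry IsLocalRing Limits

namespace Groth.Agent.Lib.Helper21.DvrFin

open Groth.Agent.Lib.Helper21.DvrCrit

theorem map_genPt_of_finite {A B : Type u} [CommRing A] [IsDomain A] [IsDiscreteValuationRing A]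
    [CommRing B] [IsDomain B] [IsDiscreteValuationRing B] (φ : A →+* B) (hφ : φ.Finite) :
    (Spec.map (CommRingCat.ofHom φ)).base (genPt B) = genPt A := by
  apply eq_genPt_of_ne_closedPoint
  intro hcl
  letI := φ.toAlgebra
  haveI : Module.Finite A B := hφ
  haveI : Algebra.IsIntegral A B := Algebra.IsIntegral.of_finite A B
  obtain ⟨ϖ, hϖ⟩ := IsDiscreteValuationRing.exists_irreducible B
  have hmem : ϖ ∈ ((maximalIdeal B : Ideal B) : Set B) \ ((⊥ : Ideal B) : Set B) :=
    ⟨(IsLocalRing.mem_maximalIdeal _).mpr hϖ.not_isUnit, hϖ.ne_zero⟩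
  have hlt := Ideal.comap_lt_comap_of_integral_mem_sdiff (R := A) (I := ⊥)
    (J := maximalIdeal B) bot_le hmem (Algebra.IsIntegral.isIntegral ϖ)
  have h1 : (⊥ : Ideal B).comap (algebraMap A B) = maximalIdeal A :=
    congrArg PrimeSpectrum.asIdeal hcl
  rw [h1] at hlt
  have h2 : (maximalIdeal B).comap (algebraMap A B) ≤ maximalIdeal A :=
    IsLocalRing.le_maximalIdeal (Ideal.comap_ne_top _ (maximalIdeal.isMaximal B).ne_top)
  exact absurd h2 (not_le_of_gt hlt)

theorem map_genPt_of_injective {A B : Type u} [CommRing A] [IsDomain A]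
    [CommRing B] [IsDomain B] (φ : A →+* B) (hφ : Function.Injective φ) :
    (Spec.map (CommRingCat.ofHom φ)).base (genPt B) = genPt A := by
  apply PrimeSpectrum.ext
  change Ideal.comap φ ⊥ = ⊥
  exact Ideal.comap_bot_of_injective φ hφ

/-- the final step: from a lift over a finite extension of the gonflement to a generisation -/
theorem exists_generization_of_lift {X Y : Scheme.{u}} (f : X ⟶ Y)
    (A₀ : Type u) [CommRing A₀] [IsDomain A₀] [IsDiscreteValuationRing A₀]
    (g₀ : Spec (CommRingCat.of A₀) ⟶ Y) (x' : ↥(pullback f g₀))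
    (A : Type u) [CommRing A] [IsDomain A] [IsDiscreteValuationRing A]
    (α : A₀ →+* A) (hα : Function.Injective α)
    (θ : (pullback f g₀).residueField x' →+* ResidueField A)
    (hc : Spec.map (CommRingCat.ofHom θ) ≫ (pullback f g₀).fromSpecResidueField x' ≫
      pullback.snd f g₀ = Spec.map (CommRingCat.ofHom (residue A)) ≫
        Spec.map (CommRingCat.ofHom α))
    (B : Type u) [CommRing B] [IsDomain B] [IsDiscreteValuationRing B]
    (φ : A →+* B) [IsLocalHom φ] (hfin : φ.Finite) (v : Spec (CommRingCat.of B) ⟶ X)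
    (hv : v ≫ f = Spec.map (CommRingCat.ofHom φ) ≫ Spec.map (CommRingCat.ofHom α) ≫ g₀)
    (hres : Spec.map (CommRingCat.ofHom (ResidueField.map φ)) ≫
      (Spec.map (CommRingCat.ofHom θ) ≫ (pullback f g₀).fromSpecResidueField x' ≫
        pullback.fst f g₀) = Spec.map (CommRingCat.ofHom (residue B)) ≫ v) :
    ∃ z' : ↥(pullback f g₀), z' ⤳ x' ∧
      (pullback.snd f g₀).base z' ≠ closedPoint A₀ := by
  let t : Spec (CommRingCat.of B) ⟶ pullback f g₀ :=
    pullback.lift v (Spec.map (CommRingCat.ofHom φ) ≫ Spec.map (CommRingCat.ofHom α))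
      (by rw [hv, Category.assoc])
  have ht1 : t ≫ pullback.fst f g₀ = v := pullback.lift_fst _ _ _
  have ht2 : t ≫ pullback.snd f g₀ =
      Spec.map (CommRingCat.ofHom φ) ≫ Spec.map (CommRingCat.ofHom α) := pullback.lift_snd _ _ _
  have hkey : Spec.map (CommRingCat.ofHom (residue B)) ≫ t =
      Spec.map (CommRingCat.ofHom (ResidueField.map φ)) ≫ Spec.map (CommRingCat.ofHom θ) ≫
        (pullback f g₀).fromSpecResidueField x' := by
    apply pullback.hom_ext
    · rw [Category.assoc, ht1, ← hres]
      simp only [Category.assoc]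
    · rw [Category.assoc, ht2]
      simp only [Category.assoc]
      rw [hc, ← Spec.map_comp_assoc, ← Spec.map_comp_assoc, ← CommRingCat.ofHom_comp,
        ← CommRingCat.ofHom_comp]
      congr 3
  have hcl : t.base (closedPoint B) = x' := by
    have h1 := congrArg (fun m : Spec (CommRingCat.of (ResidueField B)) ⟶ pullback f g₀ =>
      m.base (closedPoint (ResidueField B))) hkey
    simp only [Scheme.Hom.comp_apply] at h1
    have h0 : (Spec.map (CommRingCat.ofHom (residue B))).base (closedPoint (ResidueField B)) =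
        closedPoint B := IsLocalRing.comap_closedPoint (residue B)
    rw [h0] at h1
    rw [h1, Scheme.fromSpecResidueField_apply]
  refine ⟨t.base (genPt B), ?_, ?_⟩
  · rw [← hcl]
    exact (genPt_specializes B _).map t.continuous
  · rw [← Scheme.Hom.comp_apply, ht2, Scheme.Hom.comp_apply, map_genPt_of_finite φ hfin,
      map_genPt_of_injective α hα]
    exact genPt_ne_closedPoint A₀

end Groth.Agent.Lib.Helper21.DvrFin
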