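import Mathlib
import Groth.Agent.Lib.Helper21.DvrFin6

/-!
# Lifting criterion for universal openness at a point: sufficiency (EGA IV 14.5.8), main
-/

set_option autoImplicit false
set_option linter.style.haveILetI false
set_option linter.unusedSectionVars false
universe u

open CategoryTheory AlgebraicGeometry IsLocalRing Limits

namespace Groth.Agent.Lib.Helper21.DvrFin

open Groth.Agent.Lib.Helper21.DvrCrit

theorem isUnivOpenAt_of_dvr_finite_lift {X Y : Scheme.{u}} [IsLocallyNoetherian Y]
    (f : X ⟶ Y) [LocallyOfFiniteType f] (x : X)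
    (H : ∀ (A : Type u) [CommRing A] [IsDomain A] [IsDiscreteValuationRing A]
        [IsAdicComplete (IsLocalRing.maximalIdeal A) A] [IsAlgClosed (IsLocalRing.ResidueField A)]
        (g : Spec (CommRingCat.of A) ⟶ Y), g.base (IsLocalRing.closedPoint A) = f.base x →
        ∀ u₀ : Spec (CommRingCat.of (IsLocalRing.ResidueField A)) ⟶ X,
          u₀ ≫ f = Spec.map (CommRingCat.ofHom (IsLocalRing.residue A)) ≫ g →
          x ∈ Set.range u₀.base →
          ∃ (B : CommRingCat.{u}) (_ : IsDomain B) (_ : IsDiscreteValuationRing B) (φ : A →+* B)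
            (_ : IsLocalHom φ) (v : Spec B ⟶ X),
            φ.Finite ∧ v ≫ f = Spec.map (CommRingCat.ofHom φ) ≫ g ∧
            Spec.map (CommRingCat.ofHom (IsLocalRing.ResidueField.map φ)) ≫ u₀ =
              Spec.map (CommRingCat.ofHom (IsLocalRing.residue B)) ≫ v) :
    EGA43.IsUnivOpenAt f x := by
  refine isUnivOpenAt_of_dvr f x (fun A₀ _ _ _ g₀ hg₀ x' hx'1 hx'2 => ?_)
  let F : Spec ((pullback f g₀).residueField x') ⟶ pullback f g₀ :=
    (pullback f g₀).fromSpecResidueField x'
  let ψc : CommRingCat.of A₀ ⟶ (pullback f g₀).residueField x' :=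
    Spec.preimage (F ≫ pullback.snd f g₀)
  have hψc : Spec.map ψc = F ≫ pullback.snd f g₀ := Spec.map_preimage _
  let ψ : A₀ →+* (pullback f g₀).residueField x' := ψc.hom
  have hker : ∀ a : A₀, ψ a = 0 ↔ a ∈ maximalIdeal A₀ := by
    intro a
    have h1 := congrArg (fun m : Spec ((pullback f g₀).residueField x') ⟶
      Spec (CommRingCat.of A₀) => m.base (closedPoint ((pullback f g₀).residueField x'))) hψc
    simp only [Scheme.Hom.comp_apply] at h1
    have h2 : F.base (closedPoint ((pullback f g₀).residueField x')) = x' :=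
      Scheme.fromSpecResidueField_apply _ _
    rw [h2, hx'2] at h1
    have h3 : (Ideal.comap ψ (maximalIdeal ((pullback f g₀).residueField x'))) =
        maximalIdeal A₀ := congrArg PrimeSpectrum.asIdeal h1
    rw [← h3, Ideal.mem_comap, IsLocalRing.maximalIdeal_eq_bot, Ideal.mem_bot]
  haveI hψloc : IsLocalHom ψ := by
    refine ⟨fun a ha => ?_⟩
    by_contra hna
    have : a ∈ maximalIdeal A₀ := (IsLocalRing.mem_maximalIdeal a).mpr hna
    rw [← hker] at this
    exact ha.ne_zero this
  let ψbar : ResidueField A₀ →+* (pullback f g₀).residueField x' := ResidueField.lift ψ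
  let K := AlgebraicClosure ((pullback f g₀).residueField x')
  letI algK : Algebra (ResidueField A₀) K :=
    ((algebraMap ((pullback f g₀).residueField x') K).comp ψbar).toAlgebra
  obtain ⟨A, _, _, _, _, hcompl, hloc, hinj, e, he⟩ := exists_complete_dvr_gonflement A₀ K
  haveI := hcompl
  haveI := hloc
  haveI : IsAlgClosed (ResidueField A) := IsAlgClosed.of_ringEquiv (k := K) (ResidueField A) e.symm
  let g : Spec (CommRingCat.of A) ⟶ Y := Spec.map (CommRingCat.ofHom (algebraMap A₀ A)) ≫ g₀
  have hg : g.base (closedPoint A) = f.base x := by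
    have h0 : (Spec.map (CommRingCat.ofHom (algebraMap A₀ A))).base (closedPoint A) =
        closedPoint A₀ := IsLocalRing.comap_closedPoint (algebraMap A₀ A)
    rw [Scheme.Hom.comp_apply, h0, hg₀]
  let θ : (pullback f g₀).residueField x' →+* ResidueField A :=
    e.symm.toRingHom.comp (algebraMap ((pullback f g₀).residueField x') K)
  have hθ : ∀ a : A₀, θ (ψ a) = residue A (algebraMap A₀ A a) := by
    intro a
    apply e.injective
    rw [he a]
    change e (e.symm _) = _
    rw [RingEquiv.apply_symm_apply]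
    change _ = (algebraMap ((pullback f g₀).residueField x') K) (ψbar (residue A₀ a))
    rw [ResidueField.lift_residue_apply]
  have hc : Spec.map (CommRingCat.ofHom θ) ≫ F ≫ pullback.snd f g₀ =
      Spec.map (CommRingCat.ofHom (residue A)) ≫
        Spec.map (CommRingCat.ofHom (algebraMap A₀ A)) := by
    rw [← hψc, ← Spec.map_comp, ← Spec.map_comp]
    congr 1
    ext a
    exact hθ a
  let u₀ : Spec (CommRingCat.of (ResidueField A)) ⟶ X :=
    Spec.map (CommRingCat.ofHom θ) ≫ F ≫ pullback.fst f g₀
  have h₀ : u₀ ≫ f = Spec.map (CommRingCat.ofHom (residue A)) ≫ g := by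
    change (Spec.map (CommRingCat.ofHom θ) ≫ F ≫ pullback.fst f g₀) ≫ f =
      Spec.map (CommRingCat.ofHom (residue A)) ≫
        Spec.map (CommRingCat.ofHom (algebraMap A₀ A)) ≫ g₀
    rw [Category.assoc, Category.assoc, pullback.condition, ← Category.assoc F,
      ← Category.assoc (Spec.map (CommRingCat.ofHom θ)), hc, Category.assoc]
  have hxr : x ∈ Set.range u₀.base := by
    refine ⟨closedPoint (ResidueField A), ?_⟩
    change (Spec.map (CommRingCat.ofHom θ) ≫ F ≫ pullback.fst f g₀).base _ = x
    rw [Scheme.Hom.comp_apply, Scheme.Hom.comp_apply]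
    have h2 : F.base ((Spec.map (CommRingCat.ofHom θ)).base (closedPoint (ResidueField A))) =
        x' := Scheme.fromSpecResidueField_apply _ _
    rw [h2, hx'1]
  obtain ⟨B, _, _, φ, hφloc, v, hfin, hv, hres⟩ := H A g hg u₀ h₀ hxr
  haveI := hφloc
  exact exists_generization_of_lift f A₀ g₀ x' A (algebraMap A₀ A) hinj θ hc B φ hfin v hv hres

end Groth.Agent.Lib.Helper21.DvrFin
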