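import Mathlib
import Groth.Agent.Lib.Helper21.DvrFin6

/-!
# Universal openness at a point can be tested on complete discrete valuation rings with
algebraically closed residue field
-/

set_option autoImplicit false
set_option linter.style.haveILetI false
set_option linter.unusedSectionVars false
universe u

open CategoryTheory AlgebraicGeometry IsLocalRing Limits

namespace Groth.Agent.Lib.Helper21.DvrFin

open Groth.Agent.Lib.Helper21.DvrCrit

/-- gonflement of a trait through a point of the closed fibre -/
theorem exists_gonflement_data {X Y : Scheme.{u}} (f : X ⟶ Y)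
    (A₀ : Type u) [CommRing A₀] [IsDomain A₀] [IsDiscreteValuationRing A₀]
    (g₀ : Spec (CommRingCat.of A₀) ⟶ Y) (x' : ↥(pullback f g₀))
    (hx'2 : (pullback.snd f g₀).base x' = closedPoint A₀) :
    ∃ (A : Type u) (_ : CommRing A) (_ : IsDomain A) (_ : IsDiscreteValuationRing A)
      (_ : IsAdicComplete (maximalIdeal A) A) (_ : IsAlgClosed (ResidueField A))
      (α : A₀ →+* A) (_ : IsLocalHom α)
      (θ : (pullback f g₀).residueField x' →+* ResidueField A),
      Function.Injective α ∧
      Spec.map (CommRingCat.ofHom θ) ≫ (pullback f g₀).fromSpecResidueField x' ≫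
        pullback.snd f g₀ = Spec.map (CommRingCat.ofHom (residue A)) ≫
          Spec.map (CommRingCat.ofHom α) := by
  let F : Spec ((pullback f g₀).residueField x') ⟶ pullback f g₀ :=
    (pullback f g₀).fromSpecResidueField x'
  let ψc : CommRingCat.of A₀ ⟶ (pullback f g₀).residueField x' :=
    Spec.preimage (F ≫ pullback.snd f g₀)
  have hψc : Spec.map ψc = F ≫ pullback.snd f g₀ := Spec.map_preimage _
  let ψ : A₀ →+* (pullback f g₀).residueField x' := ψc.hom
  have hker : ∀ a : A₀, ψ a = 0 ↔ a ∈ maximalIdeal A₀ := by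
    intro a
    have h1 := congrArg (fun m : Spec ((pullback f g₀).residueField x') ⟶
      Spec (CommRingCat.of A₀) => m.base (closedPoint ((pullback f g₀).residueField x'))) hψc
    simp only [Scheme.Hom.comp_apply] at h1
    have h2 : F.base (closedPoint ((pullback f g₀).residueField x')) = x' :=
      Scheme.fromSpecResidueField_apply _ _
    rw [h2, hx'2] at h1
    have h3 : (Ideal.comap ψ (maximalIdeal ((pullback f g₀).residueField x'))) =
        maximalIdeal A₀ := congrArg PrimeSpectrum.asIdeal h1
    rw [← h3, Ideal.mem_comap, IsLocalRing.maximalIdeal_eq_bot, Ideal.mem_bot]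
  haveI hψloc : IsLocalHom ψ := by
    refine ⟨fun a ha => ?_⟩
    by_contra hna
    have : a ∈ maximalIdeal A₀ := (IsLocalRing.mem_maximalIdeal a).mpr hna
    rw [← hker] at this
    exact ha.ne_zero this
  let ψbar : ResidueField A₀ →+* (pullback f g₀).residueField x' := ResidueField.lift ψ
  let K := AlgebraicClosure ((pullback f g₀).residueField x')
  letI algK : Algebra (ResidueField A₀) K :=
    ((algebraMap ((pullback f g₀).residueField x') K).comp ψbar).toAlgebra
  obtain ⟨A, _, _, _, _, hcompl, hloc, hinj, e, he⟩ := exists_complete_dvr_gonflement A₀ K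
  haveI : IsAlgClosed (ResidueField A) := IsAlgClosed.of_ringEquiv (k := K) (ResidueField A) e.symm
  let θ : (pullback f g₀).residueField x' →+* ResidueField A :=
    e.symm.toRingHom.comp (algebraMap ((pullback f g₀).residueField x') K)
  have hθ : ∀ a : A₀, θ (ψ a) = residue A (algebraMap A₀ A a) := by
    intro a
    apply e.injective
    rw [he a]
    change e (e.symm _) = _
    rw [RingEquiv.apply_symm_apply]
    change _ = (algebraMap ((pullback f g₀).residueField x') K) (ψbar (residue A₀ a))
    rw [ResidueField.lift_residue_apply]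
  have hc : Spec.map (CommRingCat.ofHom θ) ≫ F ≫ pullback.snd f g₀ =
      Spec.map (CommRingCat.ofHom (residue A)) ≫
        Spec.map (CommRingCat.ofHom (algebraMap A₀ A)) := by
    rw [← hψc, ← Spec.map_comp, ← Spec.map_comp]
    congr 1
    ext a
    exact hθ a
  exact ⟨A, inferInstance, inferInstance, inferInstance, hcompl, inferInstance, algebraMap A₀ A,
    hloc, θ, hinj, hc⟩

theorem isUnivOpenAt_of_complete_dvr {X Y : Scheme.{u}} [IsLocallyNoetherian Y] (f : X ⟶ Y)
    [LocallyOfFiniteType f] (x : X)
    (H : ∀ (A : Type u) [CommRing A] [IsDomain A] [IsDiscreteValuationRing A]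
        [IsAdicComplete (maximalIdeal A) A] [IsAlgClosed (ResidueField A)]
        (g : Spec (CommRingCat.of A) ⟶ Y), g.base (closedPoint A) = f.base x →
        ∀ x' : ↥(pullback f g), (pullback.fst f g).base x' = x →
          (pullback.snd f g).base x' = closedPoint A →
          ∃ z' : ↥(pullback f g), z' ⤳ x' ∧ (pullback.snd f g).base z' ≠ closedPoint A) :
    EGA43.IsUnivOpenAt f x := by
  refine isUnivOpenAt_of_dvr f x (fun A₀ _ _ _ g₀ hg₀ x' hx'1 hx'2 => ?_)
  obtain ⟨A, _, _, _, _, _, α, hαloc, θ, hinj, hc⟩ := exists_gonflement_data f A₀ g₀ x' hx'2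
  let F : Spec ((pullback f g₀).residueField x') ⟶ pullback f g₀ :=
    (pullback f g₀).fromSpecResidueField x'
  let g : Spec (CommRingCat.of A) ⟶ Y := Spec.map (CommRingCat.ofHom α) ≫ g₀
  have hα0 : (Spec.map (CommRingCat.ofHom α)).base (closedPoint A) = closedPoint A₀ :=
    IsLocalRing.comap_closedPoint α
  have hg : g.base (closedPoint A) = f.base x := by
    rw [Scheme.Hom.comp_apply, hα0, hg₀]
  have h₀ : (Spec.map (CommRingCat.ofHom θ) ≫ F ≫ pullback.fst f g₀) ≫ f =
      Spec.map (CommRingCat.ofHom (residue A)) ≫ g := by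
    change _ = Spec.map (CommRingCat.ofHom (residue A)) ≫ Spec.map (CommRingCat.ofHom α) ≫ g₀
    rw [Category.assoc, Category.assoc, pullback.condition, ← Category.assoc F,
      ← Category.assoc (Spec.map (CommRingCat.ofHom θ)), hc, Category.assoc]
  let t₀ : Spec (CommRingCat.of (ResidueField A)) ⟶ pullback f g :=
    pullback.lift (Spec.map (CommRingCat.ofHom θ) ≫ F ≫ pullback.fst f g₀)
      (Spec.map (CommRingCat.ofHom (residue A))) h₀
  let m : pullback f g ⟶ pullback f g₀ :=
    pullback.lift (pullback.fst f g) (pullback.snd f g ≫ Spec.map (CommRingCat.ofHom α))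
      (by rw [pullback.condition, Category.assoc])
  have hm1 : m ≫ pullback.fst f g₀ = pullback.fst f g := pullback.lift_fst _ _ _
  have hm2 : m ≫ pullback.snd f g₀ = pullback.snd f g ≫ Spec.map (CommRingCat.ofHom α) :=
    pullback.lift_snd _ _ _
  have ht1 : t₀ ≫ pullback.fst f g = Spec.map (CommRingCat.ofHom θ) ≫ F ≫ pullback.fst f g₀ :=
    pullback.lift_fst _ _ _
  have ht2 : t₀ ≫ pullback.snd f g = Spec.map (CommRingCat.ofHom (residue A)) :=
    pullback.lift_snd _ _ _
  have htm : t₀ ≫ m = Spec.map (CommRingCat.ofHom θ) ≫ F := by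
    apply pullback.hom_ext
    · rw [Category.assoc, hm1, ht1, Category.assoc]
    · rw [Category.assoc, hm2, ← Category.assoc, ht2, Category.assoc, hc]
  obtain ⟨x'', hx''⟩ : ∃ x'', t₀.base (closedPoint (ResidueField A)) = x'' := ⟨_, rfl⟩
  have hmx : m.base x'' = x' := by
    rw [← hx'', ← Scheme.Hom.comp_apply, htm, Scheme.Hom.comp_apply]
    exact Scheme.fromSpecResidueField_apply _ _
  have hx''1 : (pullback.fst f g).base x'' = x := by
    rw [← hm1, Scheme.Hom.comp_apply, hmx, hx'1]
  have hx''2 : (pullback.snd f g).base x'' = closedPoint A := by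
    rw [← hx'', ← Scheme.Hom.comp_apply, ht2]
    exact IsLocalRing.comap_closedPoint (residue A)
  obtain ⟨z'', hz'', hz''s⟩ := H A g hg x'' hx''1 hx''2
  refine ⟨m.base z'', ?_, ?_⟩
  · rw [← hmx]
    exact hz''.map m.continuous
  · rw [← Scheme.Hom.comp_apply, hm2, Scheme.Hom.comp_apply,
      eq_genPt_of_ne_closedPoint A _ hz''s, map_genPt_of_injective α hinj]
    exact genPt_ne_closedPoint A₀

end Groth.Agent.Lib.Helper21.DvrFin
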