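import Groth.Agent.Lib.Helper21.ZSupp1
import Groth.Agent.Lib.Helper21.BirH1
import Groth.Agent.Lib.Helper21.CDeg10
import Groth.Agent.Lib.Helper25.HypCoh1
import Groth.Agent.Lib.Helper17.ExtTorsionGeom
import Groth.Prelude.Def_BlowUp2

/-!
# Effective Cartier divisors on proper schemes of dimension `≤ 1`: finiteness and degree
-/

set_option autoImplicit false
set_option linter.style.haveILetI false
set_option linter.unusedSectionVars false
universe u
open CategoryTheory CategoryTheory.Limits AlgebraicGeometry TopologicalSpace Opposite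

namespace Groth.Agent.Lib.Helper21.ECart

open Groth.Agent.Lib.Helper29.QCoh

variable {X : Scheme.{u}}

/-- the complement of an effective Cartier divisor is dense -/
theorem dense_compl_support (D : X.IdealSheafData) (hD : BlowUp.IsEffCartierIdeal D) :
    Dense ((D.support : Set X)ᶜ) := by
  rw [dense_iff_inter_open]
  intro W hW ⟨x, hxW⟩
  obtain ⟨U, hxU, f, hf, hfD⟩ := hD x
  obtain ⟨g, hgW, hxg⟩ := U.2.exists_basicOpen_le (V := ⟨W, hW⟩) ⟨x, hxW⟩ hxU
  have hne : X.basicOpen (f * g) ≠ ⊥ := by
    intro hbot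
    have hnil : IsNilpotent (f * g) :=
      (Scheme.isNilpotent_iff_basicOpen_eq_bot_of_isCompact U.2.isCompact (f * g)).mpr hbot
    obtain ⟨N, hN⟩ := hnil
    rw [mul_pow] at hN
    have hfN : f ^ N ∈ nonZeroDivisors Γ(X, U.1) := pow_mem hf N
    have hg0 : g ^ N = 0 := (mul_left_mem_nonZeroDivisors_eq_zero_iff hfN).mp hN
    have hgnil : IsNilpotent g := ⟨N, hg0⟩
    have hb : X.basicOpen g = ⊥ := X.basicOpen_eq_bot_of_isNilpotent U.1 g hgnil
    have hxg' : x ∈ X.basicOpen g := hxg
    rw [hb] at hxg'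
    exact hxg'
  obtain ⟨y, hy⟩ : ∃ y, y ∈ X.basicOpen (f * g) := by
    by_contra hcon
    push Not at hcon
    exact hne (Opens.ext (Set.eq_empty_of_forall_notMem hcon))
  rw [Scheme.basicOpen_mul] at hy
  refine ⟨y, hgW hy.2, fun hyD => ?_⟩
  have hyU : y ∈ U.1 := X.basicOpen_le f hy.1
  have hyD' : y ∈ D.support := hyD
  rw [Scheme.IdealSheafData.mem_support_iff_of_mem hyU, Scheme.mem_zeroLocus_iff] at hyD'
  exact hyD' f (by rw [hfD]; exact Ideal.subset_span rfl) hy.1

/-- the stalks of `O_X / I` vanish outside the support of `I` -/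
theorem subsingleton_stalk_quotMod (D : X.IdealSheafData) (x : X) (hx : x ∉ D.support) :
    Subsingleton ((ClSub.quotMod D).presheaf.stalk x) := by
  refine ⟨fun a b => ?_⟩
  have key : ∀ t : (ClSub.quotMod D).presheaf.stalk x, t = 0 := by
    intro t
    obtain ⟨W, hxW, τ, rfl⟩ := TopCat.Presheaf.exists_germ_eq (ClSub.quotMod D).presheaf t
    let W' : X.Opens := W ⊓ ⟨(D.support : Set X)ᶜ, D.support.isClosed.isOpen_compl⟩
    have hxW' : x ∈ W' := ⟨hxW, hx⟩
    have hW'W : W' ≤ W := inf_le_left
    have h0 : Groth.Agent.Lib.Helper29.QCoh.res (ClSub.quotMod D) hW'W τ = 0 := by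
      refine eq_zero_of_germ_eq_zero (unitM D.subscheme)
        (show Γ(unitM D.subscheme, D.subschemeι ⁻¹ᵁ W') from
          Groth.Agent.Lib.Helper29.QCoh.res (ClSub.quotMod D) hW'W τ) (fun y hy => ?_)
      exfalso
      have h1 : D.subschemeι y ∈ (D.support : Set X)ᶜ := hy.2
      apply h1
      rw [← Scheme.IdealSheafData.range_subschemeι]
      exact ⟨y, rfl⟩
    rw [← germ_res (ClSub.quotMod D) hW'W x hxW' τ, h0, map_zero]
  rw [key a, key b]

section Fin

variable (k : Type u) [Field k] (X : Scheme.{u}) [X.Over (Spec (CommRingCat.of k))]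
  [IsProper (X ↘ (Spec (CommRingCat.of k)))]

include k in
/-- every subset of an effective Cartier divisor on a proper scheme of dimension `≤ 1` is
closed -/
theorem isClosed_of_subset_support (hdim : topologicalKrullDim X ≤ 1) (D : X.IdealSheafData)
    (hD : BlowUp.IsEffCartierIdeal D) {T : Set X} (hT : T ⊆ (D.support : Set X)) :
    IsClosed T := by
  haveI : IsLocallyNoetherian X :=
    LocallyOfFiniteType.isLocallyNoetherian (X ↘ Spec (CommRingCat.of k))
  haveI : CompactSpace X :=
    QuasiCompact.compactSpace_of_compactSpace (X ↘ (Spec (CommRingCat.of k)))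
  haveI : IsNoetherian X := {}
  refine Groth.Agent.Lib.Helper21.BirH1.isClosed_of_subset_compl_of_dense X hdim
    ⟨(D.support : Set X)ᶜ, D.support.isClosed.isOpen_compl⟩ (dense_compl_support D hD) ?_
  intro x hx hx'
  exact hx' (hT hx)

include k in
/-- an effective Cartier divisor on a proper scheme of dimension `≤ 1` is a finite set -/
theorem finite_support (hdim : topologicalKrullDim X ≤ 1) (D : X.IdealSheafData)
    (hD : BlowUp.IsEffCartierIdeal D) : (D.support : Set X).Finite := by
  haveI : IsLocallyNoetherian X :=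
    LocallyOfFiniteType.isLocallyNoetherian (X ↘ Spec (CommRingCat.of k))
  haveI : CompactSpace X :=
    QuasiCompact.compactSpace_of_compactSpace (X ↘ (Spec (CommRingCat.of k)))
  haveI : IsNoetherian X := {}
  have hdisc : DiscreteTopology ↥(D.support : Set X) := by
    rw [discreteTopology_iff_forall_isClosed]
    intro s
    have hcl : IsClosed ((↑) '' s : Set X) :=
      isClosed_of_subset_support k X hdim D hD (by rintro _ ⟨a, -, rfl⟩; exact a.2)
    have hs : s = Subtype.val ⁻¹' ((↑) '' s : Set X) :=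
      (Set.preimage_image_eq s Subtype.val_injective).symm
    rw [hs]
    exact hcl.preimage continuous_subtype_val
  exact (NoetherianSpace.isCompact _).finite ⟨hdisc⟩

/-- **an effective Cartier divisor on a proper scheme of dimension `≤ 1` over a field is finite
over the field** -/
theorem isFinite_subscheme (hdim : topologicalKrullDim X ≤ 1) (D : X.IdealSheafData)
    (hD : BlowUp.IsEffCartierIdeal D) :
    IsFinite (D.subschemeι ≫ (X ↘ (Spec (CommRingCat.of k)))) := by
  have hfin := finite_support k X hdim D hD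
  haveI : Finite ↥(D.support : Set X) := hfin.to_subtype
  haveI : Finite ↥D.subscheme := by
    refine Finite.of_injective (fun z : D.subscheme =>
      (⟨D.subschemeι z, by
        rw [← Scheme.IdealSheafData.range_subschemeι]; exact ⟨z, rfl⟩⟩ : ↥(D.support : Set X))) ?_
    intro a b hab
    have h1 : D.subschemeι a = D.subschemeι b := congrArg Subtype.val hab
    exact D.subschemeι.isClosedEmbedding.injective h1
  haveI : LocallyQuasiFinite (D.subschemeι ≫ (X ↘ (Spec (CommRingCat.of k)))) :=
    LocallyQuasiFinite.of_finite_preimage_singleton _ (fun _ => Set.toFinite _)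
  exact IsFinite.of_isProper_of_locallyQuasiFinite _

end Fin

section Deg

open Groth.Agent.Lib.Lead.TwistExact

variable (k : Type u) [Field k] (X : Scheme.{u}) [X.Over (Spec (CommRingCat.of k))]
  [IsProper (X ↘ (Spec (CommRingCat.of k)))]

/-- **`deg (E ⊗ O(D)) = n · h⁰(O_D) + deg E`** for an effective Cartier divisor `D` on a proper
scheme of dimension `≤ 1` over a field -/
theorem deg_tensorMod_effCartier (hdim : topologicalKrullDim X ≤ 1)
    (D : X.IdealSheafData) (hD : BlowUp.IsEffCartierIdeal D)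
    (L : X.Modules) (hL : PicF.IsInvertible L) (hLD : ClSub.IsInverseOf L (ClSub.idealMod D))
    (n : ℕ) (E : X.Modules) (hE : FlatMod.IsFinLocFreeOfRank n E) :
    Curv2.deg k X (CohB1.tensorMod E L) n =
      n * Module.finrank k (Coh.HH X (ClSub.quotMod D) 0) + Curv2.deg k X E n := by
  haveI : IsLocallyNoetherian X :=
    LocallyOfFiniteType.isLocallyNoetherian (X ↘ Spec (CommRingCat.of k))
  have hS := Groth.Agent.Lib.Helper25.HypTwist.shortExact_idealSeq D
  have hS₁ := shortExact_map_tensorRight (isFlat_of_isInvertible hL) _ hS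
  have hS₂ := shortExact_map_tensorRight
    (Groth.Agent.Lib.Helper28.DCohRes.isFlat_of_isFinLocFree
      (isFinLocFree_of_isFinLocFreeOfRank hE)) _ hS₁
  have cO : Coh.IsCoh (unitM X) := Groth.Agent.Lib.Helper12.H12Dev.isCoh_unitM X
  have cQ : Coh.IsCoh (ClSub.quotMod D) :=
    Groth.Agent.Lib.Helper17.ExtTorsionGeom.isCoh_pushforward_unit D.subschemeι
  have cI : Coh.IsCoh (ClSub.idealMod D) :=
    Groth.Agent.Lib.Helper12.H12Dev.isCoh_kernel _ cO cQ
  have cL : Coh.IsCoh L := ⟨isQuasicoherent_of_isInvertible hL, isFiniteType_of_isInvertible hL⟩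
  have cE : Coh.IsCoh E := Groth.Agent.Lib.Helper2.DegAdd.isCoh_of_isFinLocFreeOfRank hE
  have hadd := Groth.Agent.S1524.result k X _ hS₂
    (Groth.Agent.Lib.Helper12.H12Fin.isCoh_tensorMod'
      (Groth.Agent.Lib.Helper12.H12Fin.isCoh_tensorMod' cI cL) cE)
    (Groth.Agent.Lib.Helper12.H12Fin.isCoh_tensorMod'
      (Groth.Agent.Lib.Helper12.H12Fin.isCoh_tensorMod' cO cL) cE)
    (Groth.Agent.Lib.Helper12.H12Fin.isCoh_tensorMod'
      (Groth.Agent.Lib.Helper12.H12Fin.isCoh_tensorMod' cQ cL) cE)
  change Curv2.euler k X (CohB1.tensorMod (CohB1.tensorMod (unitM X) L) E) =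
    Curv2.euler k X (CohB1.tensorMod (CohB1.tensorMod (ClSub.idealMod D) L) E) +
    Curv2.euler k X (CohB1.tensorMod (CohB1.tensorMod (ClSub.quotMod D) L) E) at hadd
  -- the ideal term
  have e₁ : CohB1.tensorMod (CohB1.tensorMod (ClSub.idealMod D) L) E ≅ E :=
    tensorCongr (tensorBraid _ _ ≪≫ hLD.some) (Iso.refl E) ≪≫ tensorUnitL E
  -- the middle term
  have e₂ : CohB1.tensorMod (CohB1.tensorMod (unitM X) L) E ≅ CohB1.tensorMod E L :=
    tensorCongr (tensorUnitL L) (Iso.refl E) ≪≫ tensorBraid L E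
  rw [Groth.Agent.Lib.Helper21.CDeg.euler_of_iso k e₁,
    Groth.Agent.Lib.Helper21.CDeg.euler_of_iso k e₂] at hadd
  -- the torsion term
  have hsuppQ : CohB1.support (ClSub.quotMod D) ⊆ (D.support : Set X) := by
    intro x hx
    by_contra hxD
    exact hx (subsingleton_stalk_quotMod D x hxD)
  have hZQ : ∀ T : Set X, T ⊆ CohB1.support (ClSub.quotMod D) → IsClosed T :=
    fun T hT => isClosed_of_subset_support k X hdim D hD (hT.trans hsuppQ)
  have hZQL : ∀ T : Set X, T ⊆ CohB1.support (CohB1.tensorMod (ClSub.quotMod D) L) →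
      IsClosed T :=
    fun T hT => hZQ T (hT.trans
      (Groth.Agent.Lib.Helper25.SuppTensor.support_tensorMod_subset (ClSub.quotMod D) L))
  have h1 := Groth.Agent.Lib.Helper21.ZSupp.euler_tensorMod' k X
    (CohB1.tensorMod (ClSub.quotMod D) L)
    (Groth.Agent.Lib.Helper12.H12Fin.isCoh_tensorMod' cQ cL) hZQL n E hE
  have h2 := Groth.Agent.Lib.Helper21.ZSupp.euler_tensorMod' k X (ClSub.quotMod D) cQ hZQ 1 L
    ((isInvertible_iff_isFinLocFreeOfRank_one L).mp hL)
  have h3 := Groth.Agent.Lib.Helper21.ZSupp.euler_eq_finrank_zero k X (ClSub.quotMod D)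
    (fun i => subsingleton_HH_succ_of_support_hereditarily_closed (ClSub.quotMod D) hZQ i)
  rw [h1, h2, h3] at hadd
  unfold Curv2.deg
  rw [hadd]
  push_cast
  ring

end Deg

end Groth.Agent.Lib.Helper21.ECart
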