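import Groth.Agent.Lib.Helper21.EquiDim1
import Groth.Agent.Lib.Helper21.ChartPt6
import Groth.Agent.Lib.Helper21.FibDim12

/-!
# Miracle flatness for schemes of finite type over a field
-/

set_option autoImplicit false
set_option linter.style.haveILetI false
set_option linter.unusedSectionVars false
universe u

open AlgebraicGeometry CategoryTheory Limits TopologicalSpace

namespace Groth.Agent.Lib.Helper21.EquiDim

open Groth.Agent.Lib.Helper21.FibDim

section Stalk

variable {X Y : Scheme.{u}} [IsLocallyNoetherian Y] (f : X ⟶ Y) [LocallyOfFiniteType f]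

/-- miracle flatness at a point of a fibre, in terms of the local ring of the fibre -/
theorem flat_stalkMap_of_dim (s : Y) (t : f.fiber s)
    (hY : IsRegularLocalRing (Y.presheaf.stalk (f (f.fiberι s t))))
    (hX : LocCoh.IsCohenMacaulayLocalRing (X.presheaf.stalk (f.fiberι s t)))
    (hdim : ringKrullDim (X.presheaf.stalk (f.fiberι s t)) =
      ringKrullDim (Y.presheaf.stalk (f (f.fiberι s t))) +
        ringKrullDim ((f.fiber s).presheaf.stalk t)) :
    (f.stalkMap (f.fiberι s t)).hom.Flat := by
  haveI : IsLocallyNoetherian X := LocallyOfFiniteType.isLocallyNoetherian f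
  obtain ⟨hsurj, hker⟩ := Groth.Agent.S9501.result f s t
  letI : Algebra (Y.presheaf.stalk (f (f.fiberι s t))) (X.presheaf.stalk (f.fiberι s t)) :=
    (f.stalkMap (f.fiberι s t)).hom.toAlgebra
  haveI : IsLocalHom (algebraMap (Y.presheaf.stalk (f (f.fiberι s t)))
      (X.presheaf.stalk (f.fiberι s t))) :=
    inferInstanceAs (IsLocalHom (f.stalkMap (f.fiberι s t)).hom)
  change Module.Flat (Y.presheaf.stalk (f (f.fiberι s t))) (X.presheaf.stalk (f.fiberι s t))
  apply Groth.Agent.Lib.Helper18.CM.miracle_flatness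
  rw [hdim]
  congr 1
  have e1 := RingHom.quotientKerEquivOfSurjective hsurj
  have e2 := Ideal.quotEquivOfEq hker
  exact (ringKrullDim_eq_of_ringEquiv (e2.symm.trans e1)).symm

/-- miracle flatness at a point -/
theorem flat_stalkMap_of_dim' (x : X)
    (hY : IsRegularLocalRing (Y.presheaf.stalk (f x)))
    (hX : LocCoh.IsCohenMacaulayLocalRing (X.presheaf.stalk x))
    (hdim : ringKrullDim (X.presheaf.stalk x) =
      ringKrullDim (Y.presheaf.stalk (f x)) +
        ringKrullDim ((f.fiber (f x)).presheaf.stalk (f.asFiber x))) :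
    (f.stalkMap x).hom.Flat := by
  have hιt : f.fiberι (f x) (f.asFiber x) = x := Scheme.Hom.fiberι_asFiber f x
  have key := flat_stalkMap_of_dim f (f x) (f.asFiber x)
  rw [hιt] at key
  exact key hY hX hdim

end Stalk

section Main

variable (k : Type u) [Field k] {X Y : Scheme.{u}}

/-- **Miracle flatness for schemes**: a morphism from a Cohen–Macaulay equidimensional scheme to
a regular equidimensional scheme (both locally of finite type over a field) with equidimensional
fibres of the expected dimension is flat. -/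
theorem flat_of_equidim (q : Y ⟶ Spec (CommRingCat.of k)) [LocallyOfFiniteType q] (f : X ⟶ Y)
    [LocallyOfFiniteType (f ≫ q)]
    (hY : ∀ y : Y, IsRegularLocalRing (Y.presheaf.stalk y))
    (hX : ∀ x : X, LocCoh.IsCohenMacaulayLocalRing (X.presheaf.stalk x))
    (e d : ℕ) (hde : d ≤ e)
    (hXe : ∀ Z ∈ irreducibleComponents (X : Type u), topologicalKrullDim Z = e)
    (hYd : ∀ Z ∈ irreducibleComponents (Y : Type u), topologicalKrullDim Z = d)
    (hfib : ∀ y : Y, ∀ Z ∈ irreducibleComponents (f.base ⁻¹' {y}),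
      topologicalKrullDim Z = (e - d : ℕ)) :
    Flat f := by
  haveI hlftf : LocallyOfFiniteType f := locallyOfFiniteType_of_comp f q
  haveI : IsLocallyNoetherian Y := LocallyOfFiniteType.isLocallyNoetherian q
  haveI : IsLocallyNoetherian X := LocallyOfFiniteType.isLocallyNoetherian (f ≫ q)
  letI : Y.Over (Spec (CommRingCat.of k)) := ⟨q⟩
  letI : X.Over (Spec (CommRingCat.of k)) := ⟨f ≫ q⟩
  haveI : LocallyOfFiniteType (Y ↘ Spec (CommRingCat.of k)) := ‹LocallyOfFiniteType q›
  haveI : LocallyOfFiniteType (X ↘ Spec (CommRingCat.of k)) := ‹LocallyOfFiniteType (f ≫ q)›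
  rw [Flat.iff_flat_stalkMap]
  intro x
  have hlX : FlatMor.localDim X x = (e : WithBot ℕ∞) := localDim_eq_of_equidim k X e hXe x
  have hlY : FlatMor.localDim Y (f x) = (d : WithBot ℕ∞) :=
    localDim_eq_of_equidim k Y d hYd (f x)
  have hlF : FlatMor.fibreDimAt f x = ((e - d : ℕ) : WithBot ℕ∞) := by
    unfold FlatMor.fibreDimAt
    letI := fiberOver f (f x)
    haveI : LocallyOfFiniteType
        (f.fiber (f x) ↘ Spec (CommRingCat.of (Y.residueField (f x)))) :=
      MorphismProperty.pullback_snd (P := @LocallyOfFiniteType) _ _ inferInstance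
    apply localDim_eq_of_equidim (Y.residueField (f x)) (f.fiber (f x))
    intro Z hZ
    have h1 := hfib (f x) ((f.fiberHomeo (f x)).symm ⁻¹' Z)
      (Groth.Agent.Lib.Helper21.IrrFib.preimage_mem_irreducibleComponents _ Z hZ)
    rw [Groth.Agent.Lib.Helper21.IrrFib.topologicalKrullDim_preimage_homeomorph] at h1
    exact h1
  obtain ⟨aX, haX⟩ := exists_nat_trdeg k X x
  obtain ⟨bX, hbX⟩ := Groth.Agent.Lib.Helper18.SerreReg.exists_ringKrullDim_eq_nat
    (X.presheaf.stalk x)
  obtain ⟨aY, haY⟩ := exists_nat_trdeg k Y (f x)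
  obtain ⟨bY, hbY⟩ := Groth.Agent.Lib.Helper18.SerreReg.exists_ringKrullDim_eq_nat
    (Y.presheaf.stalk (f x))
  obtain ⟨aF, bF, haF, hbF, hF⟩ := exists_fibreDimAt_eq_add f x
  have h1 := Groth.Agent.Lib.Helper21.ChartPt.localDim_eq_add k X x aX bX haX hbX
  have h2 := Groth.Agent.Lib.Helper21.ChartPt.localDim_eq_add k Y (f x) aY bY haY hbY
  have h3 := trdeg_add_of_comp k X Y f rfl x aY aF haY haF
  rw [hlX] at h1
  rw [hlY] at h2
  rw [hlF] at hF
  rw [haX] at h3
  have h1' : e = aX + bX := by exact_mod_cast h1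
  have h2' : d = aY + bY := by exact_mod_cast h2
  have hF' : e - d = aF + bF := by exact_mod_cast hF
  have h3' : aX = aY + aF := by exact_mod_cast h3
  have hb : bX = bY + bF := by omega
  apply flat_stalkMap_of_dim' f x (hY _) (hX _)
  rw [hbX, hbY, hbF, hb]
  rfl

end Main

end Groth.Agent.Lib.Helper21.EquiDim
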