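import Groth.Agent.Lib.Helper21.EquiSub10
import Groth.Agent.Lib.Helper18.SchDim1

/-!
# Equidimensionality of integral dominant schemes over a one-dimensional base; quasi-sections
inside irreducible components (EGA IV 14.5.?)
-/

set_option autoImplicit false
set_option linter.style.haveILetI false
set_option linter.unusedSectionVars false
universe u

open AlgebraicGeometry CategoryTheory Limits TopologicalSpace IsLocalRing

namespace Groth.Agent.Lib.Helper21.EquiSub

open Groth.Agent.Lib.Helper21.FibDim

variable {W X Y : Scheme.{u}}

/-- a criterion for equidimensionality at a point, over an irreducible base: an open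
neighbourhood with a generic point over the generic point of the base, on which the local fibre
dimension is constant -/
theorem isEquidimAt_of_forall_fibreDimAt [IrreducibleSpace Y] (g : W ⟶ Y)
    [LocallyOfFiniteType g] (w : W) (O : W.Opens) (hwO : w ∈ O) (ξ : W) (hξO : ξ ∈ O)
    (hgen : ∀ u ∈ O, ξ ⤳ u) (hgξ : g ξ = genericPoint Y) (e : ℕ)
    (hO : ∀ u ∈ O, FlatMor.fibreDimAt g u = e) : EGA43.IsEquidimAt g w := by
  refine ⟨e, O, hwO, ?_, fun u Z hZ => topologicalKrullDim_component_fiber_eq g O e hO u Z hZ⟩
  intro Z hZ
  refine ⟨Set.univ, ?_, Set.mem_univ _, ?_⟩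
  · rw [irreducibleComponents_eq_singleton]
    rfl
  · let ξO : O.toScheme := ⟨ξ, hξO⟩
    have hclO : closure ({ξO} : Set O.toScheme) = Set.univ := by
      rw [← Set.univ_subset_iff]
      intro u _
      rw [← specializes_iff_mem_closure, ← O.ι.isEmbedding.isInducing.specializes_iff]
      exact hgen u.1 u.2
    have hξZ : ξO ∈ Z := by
      have h7 : IsIrreducible (closure ({ξO} : Set O.toScheme)) := isIrreducible_singleton.closure
      have h8 : Z ≤ closure ({ξO} : Set O.toScheme) := by
        rw [hclO]
        exact Set.subset_univ _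
      exact hZ.2 h7 h8 (subset_closure rfl)
    rw [← Set.univ_subset_iff, ← genericPoint_closure (α := Y)]
    apply closure_minimal _ isClosed_closure
    rw [Set.singleton_subset_iff]
    apply subset_closure
    exact ⟨ξO, hξZ, hgξ⟩

/-- over a locally Noetherian base all of whose local rings have dimension at most one, an
irreducible scheme with generic point over the generic point of the base has constant local
fibre dimension -/
theorem fibreDimAt_eq_of_dim_le_one [IsLocallyNoetherian Y] (g : W ⟶ Y) [LocallyOfFiniteType g]
    (hY : ∀ y : Y, ringKrullDim (Y.presheaf.stalk y) ≤ 1) (ξ : W) (hgen : ∀ u : W, ξ ⤳ u)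
    (e : ℕ) (he : @Algebra.trdeg (Y.residueField (g ξ)) (W.residueField ξ) _ _
      (g.residueFieldMap ξ).hom.toAlgebra = e) (u : W) :
    FlatMor.fibreDimAt g u = e := by
  haveI : IsLocallyNoetherian W := LocallyOfFiniteType.isLocallyNoetherian g
  apply le_antisymm
  · obtain ⟨N, hN, ⟨τ, hτu, hfτ, hτN⟩, -⟩ := exists_fibreDimAt_eq_trdeg g u
    rw [hN]
    by_cases hτξ : τ = ξ
    · subst hτξ
      rw [he] at hτN
      have : e = N := by exact_mod_cast hτN
      rw [this]
    · have hineq := Groth.Agent.Lib.Helper18.SchDim.stalk_dim_inequality g τ N e hτN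
        (fun ξ' hξ' _ => by
          have h1 : ξ' = ξ := by
            have h2 : closure ({ξ} : Set W) ⊆ closure {ξ'} := by
              have h3 : closure ({ξ'} : Set W) ⊆ closure {ξ} :=
                specializes_iff_closure_subset.mp (hgen ξ')
              exact hξ'.2 isIrreducible_singleton.closure h3
            have h4 : ξ' ⤳ ξ := specializes_iff_closure_subset.mpr h2
            exact (h4.antisymm (hgen ξ')).eq
          rw [h1, he])
      have hdim1 : (1 : WithBot ℕ∞) ≤ ringKrullDim (W.presheaf.stalk τ) := by
        rw [ringKrullDim_stalk_eq_coheight]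
        have hnm : ¬ IsMax τ := by
          intro hmax
          have h1 : τ ≤ ξ := hgen τ
          have h2 : ξ ≤ τ := hmax h1
          exact hτξ ((Specializes.antisymm h2 h1).eq)
        have h0 : Order.coheight τ ≠ 0 := fun h => hnm (Order.coheight_eq_zero.mp h)
        have h1 : (1 : ℕ∞) ≤ Order.coheight τ := Order.one_le_iff_ne_zero.mpr h0
        exact_mod_cast h1
      obtain ⟨c, hc⟩ := Groth.Agent.Lib.Helper18.SerreReg.exists_ringKrullDim_eq_nat
        (W.presheaf.stalk τ)
      obtain ⟨d, hd⟩ := Groth.Agent.Lib.Helper18.SerreReg.exists_ringKrullDim_eq_nat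
        (Y.presheaf.stalk (g τ))
      have hd1 := hY (g τ)
      rw [hd] at hd1 hineq
      rw [hc] at hdim1 hineq
      have h1 : 1 ≤ c := by exact_mod_cast hdim1
      have h2 : d ≤ 1 := by exact_mod_cast hd1
      have h3 : c + N ≤ d + e := by exact_mod_cast hineq
      have : N ≤ e := by omega
      exact_mod_cast this
  · exact le_fibreDimAt_of_specializes g (hgen u) e he

end Groth.Agent.Lib.Helper21.EquiSub
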