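import Groth.Agent.Lib.Helper21.EquiSub11

/-!
# Quasi-sections inside irreducible components over a one-dimensional base
-/

set_option autoImplicit false
set_option linter.style.haveILetI false
set_option linter.unusedSectionVars false
universe u

open AlgebraicGeometry CategoryTheory Limits TopologicalSpace IsLocalRing

namespace Groth.Agent.Lib.Helper21.EquiSub

open Groth.Agent.Lib.Helper21.FibDim

variable {X Y : Scheme.{u}}

theorem quasiSections_iff_components_dominate [IrreducibleSpace Y] [IsLocallyNoetherian Y]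
    (hY : ∀ y : Y, ringKrullDim (Y.presheaf.stalk y) ≤ 1)
    (f : X ⟶ Y) [LocallyOfFiniteType f] (y : Y) :
    (∀ Z ∈ irreducibleComponents (X : Type u), (Z ∩ f.base ⁻¹' {y}).Nonempty →
        Dense (f.base '' Z)) ↔
      ∀ x : X, f.base x = y → (∀ x' : X, f.base x' = y → x ⤳ x' → x' = x) →
        ∀ Xi ∈ irreducibleComponents (X : Type u), x ∈ Xi →
          ∃ (T : Scheme.{u}) (i : T ⟶ X), IsImmersion i ∧ IrreducibleSpace ↥T ∧ IsReduced T ∧
            x ∈ Set.range i.base ∧ Set.range i.base ⊆ Xi ∧
            LocallyOfFiniteType (i ≫ f) ∧ LocallyQuasiFinite (i ≫ f) ∧ QuasiCompact (i ≫ f) ∧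
            IsDominant (i ≫ f) := by
  constructor
  · intro hd x hxy hcl Xi hXi hxXi
    let C : TopologicalSpace.Closeds X := ⟨Xi, isClosed_of_mem_irreducibleComponents Xi hXi⟩
    have hr : Set.range (Scheme.IdealSheafData.vanishingIdeal C).subschemeι.base = Xi := by
      rw [Scheme.IdealSheafData.range_subschemeι,
        Scheme.IdealSheafData.coe_support_vanishingIdeal]
      rfl
    have hemb : Topology.IsEmbedding (Scheme.IdealSheafData.vanishingIdeal C).subschemeι.base :=
      (Scheme.IdealSheafData.vanishingIdeal C).subschemeι.isEmbedding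
    obtain ⟨ξ₀, hξ₀⟩ := QuasiSober.sober hXi.1 (isClosed_of_mem_irreducibleComponents Xi hXi)
    obtain ⟨w, hw⟩ : ∃ w, (Scheme.IdealSheafData.vanishingIdeal C).subschemeι.base w = x := by
      have : x ∈ Set.range (Scheme.IdealSheafData.vanishingIdeal C).subschemeι.base := by
        rw [hr]; exact hxXi
      exact this
    obtain ⟨ξ, hξ⟩ : ∃ ξ, (Scheme.IdealSheafData.vanishingIdeal C).subschemeι.base ξ = ξ₀ := by
      have : ξ₀ ∈ Set.range (Scheme.IdealSheafData.vanishingIdeal C).subschemeι.base := by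
        rw [hr]; exact hξ₀.mem
      exact this
    have hgenξ : ∀ u : (Scheme.IdealSheafData.vanishingIdeal C).subscheme, ξ ⤳ u := by
      intro u
      rw [← hemb.isInducing.specializes_iff, hξ, specializes_iff_mem_closure, hξ₀.def, ← hr]
      exact ⟨u, rfl⟩
    have hfξ₀ : f ξ₀ = genericPoint Y := by
      have hdense := hd Xi hXi ⟨x, hxXi, hxy⟩
      have h1 : closure (f.base '' closure {ξ₀}) = closure {f.base ξ₀} :=
        (closure_image_closure f.continuous).trans (by rw [Set.image_singleton])
      rw [hξ₀.def, hdense.closure_eq] at h1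
      have h2 : IsGenericPoint (f.base ξ₀) (Set.univ : Set Y) := h1.symm
      exact h2.eq (genericPoint_spec Y)
    have hgξ : ((Scheme.IdealSheafData.vanishingIdeal C).subschemeι ≫ f) ξ = genericPoint Y := by
      rw [← hfξ₀, ← hξ]
      rfl
    obtain ⟨e, he⟩ := exists_nat_trdeg_residueFieldMap
      ((Scheme.IdealSheafData.vanishingIdeal C).subschemeι ≫ f) ξ
    have hfd := fibreDimAt_eq_of_dim_le_one
      ((Scheme.IdealSheafData.vanishingIdeal C).subschemeι ≫ f) hY ξ hgenξ e he
    have hequi := isEquidimAt_of_forall_fibreDimAt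
      ((Scheme.IdealSheafData.vanishingIdeal C).subschemeι ≫ f) w ⊤ trivial ξ trivial
      (fun u _ => hgenξ u) hgξ e (fun u _ => hfd u)
    have hclw : ∀ w' : (Scheme.IdealSheafData.vanishingIdeal C).subscheme,
        ((Scheme.IdealSheafData.vanishingIdeal C).subschemeι ≫ f).base w' =
          ((Scheme.IdealSheafData.vanishingIdeal C).subschemeι ≫ f).base w → w ⤳ w' → w' = w := by
      intro w' hfw' hsp
      apply hemb.injective
      rw [hw]
      apply hcl
      · have : f ((Scheme.IdealSheafData.vanishingIdeal C).subschemeι.base w') =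
            f ((Scheme.IdealSheafData.vanishingIdeal C).subschemeι.base w) := hfw'
        rw [this, hw, hxy]
      · rw [← hw]
        exact hsp.map (Scheme.IdealSheafData.vanishingIdeal C).subschemeι.continuous
    obtain ⟨T, i, h1, h2, h3, h4, h5, h6, h7, h8⟩ := exists_quasiSection
      ((Scheme.IdealSheafData.vanishingIdeal C).subschemeι ≫ f) w hequi hclw
    refine ⟨T, i ≫ (Scheme.IdealSheafData.vanishingIdeal C).subschemeι, inferInstance, h2, h3,
      ?_, ?_, ?_, ?_, ?_, ?_⟩
    · obtain ⟨t, ht⟩ := h4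
      refine ⟨t, ?_⟩
      rw [← hw, ← ht]
      rfl
    · rintro _ ⟨t, rfl⟩
      rw [← hr]
      exact ⟨i.base t, rfl⟩
    · rw [Category.assoc]; exact h5
    · rw [Category.assoc]; exact h6
    · rw [Category.assoc]; exact h7
    · rw [Category.assoc]; exact h8
  · intro he Z hZ hne
    obtain ⟨x₀, hx₀Z, hx₀y⟩ := hne
    obtain ⟨x, -, hsp, hfx, htr⟩ := exists_mem_specializes_fiber_trdeg_eq_zero f ⊤ x₀ trivial
    have hxZ : x ∈ Z := hsp.mem_closed (isClosed_of_mem_irreducibleComponents Z hZ) hx₀Z
    have hxy : f.base x = y := hfx.trans hx₀y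
    have hcl : ∀ x' : X, f.base x' = y → x ⤳ x' → x' = x := by
      intro x' hx'y hsp'
      by_contra hne
      have hlt := trdeg_lt_of_specializes_of_ne f hsp' (fun h => hne h.symm) (hxy.trans hx'y.symm)
      rw [htr] at hlt
      exact absurd hlt (not_lt.2 zero_le)
    obtain ⟨T, i, -, -, -, -, hsub, -, -, -, hdom⟩ := he x hxy hcl Z hZ hxZ
    refine hdom.denseRange.mono ?_
    rintro _ ⟨t, rfl⟩
    exact ⟨i.base t, hsub ⟨t, rfl⟩, rfl⟩

end Groth.Agent.Lib.Helper21.EquiSub
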