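import Groth.Agent.Lib.Helper21.EquiSub1

/-!
# Restriction of an equidimensional morphism to a closed irreducible subset (EGA IV 13.3.6), II
-/

set_option autoImplicit false
set_option linter.style.haveILetI false
set_option linter.unusedSectionVars false
universe u

open AlgebraicGeometry CategoryTheory Limits TopologicalSpace

namespace Groth.Agent.Lib.Helper21.EquiSub

open Groth.Agent.Lib.Helper21.FibDim

variable {W X Y : Scheme.{u}}

/-- **Chevalley lower bound**: the local fibre dimension at `u` is at least the residue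
transcendence degree of any generization of `u` -/
theorem le_fibreDimAt_of_specializes (g : W ⟶ Y) [LocallyOfFiniteType g] {ξ u : W} (h : ξ ⤳ u)
    (δ : ℕ) (hδ : @Algebra.trdeg (Y.residueField (g ξ)) (W.residueField ξ) _ _
      (g.residueFieldMap ξ).hom.toAlgebra = δ) :
    (δ : WithBot ℕ∞) ≤ FlatMor.fibreDimAt g u := by
  obtain ⟨τ, m, -, hτu, hfτ, hδm, hm⟩ :=
    Groth.Agent.Lib.Helper21.IrrFib.exists_fibre_generization g h δ hδ
  obtain ⟨N, hN, -, hall⟩ := exists_fibreDimAt_eq_trdeg g u
  have h1 := hall τ hτu hfτ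
  rw [hm] at h1
  have h2 : m ≤ N := by exact_mod_cast h1
  rw [hN]
  exact_mod_cast hδm.trans h2

/-- if the local fibre dimension is `δ` everywhere, all irreducible components of all fibres have
dimension `δ` -/
theorem topologicalKrullDim_component_fiber_eq' (g' : W ⟶ Y) [LocallyOfFiniteType g']
    (δ : ℕ) (h : ∀ u : W, FlatMor.fibreDimAt g' u = δ) (t : Y)
    (Z : Set (g'.fiber t)) (hZ : Z ∈ irreducibleComponents (g'.fiber t)) :
    topologicalKrullDim Z = δ := by
  letI := fiberOver g' t
  haveI : LocallyOfFiniteType (g'.fiber t ↘ Spec (CommRingCat.of (Y.residueField t))) :=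
    MorphismProperty.pullback_snd (P := @LocallyOfFiniteType) _ _ inferInstance
  obtain ⟨ζ, hζ⟩ := QuasiSober.sober hZ.1 (isClosed_of_mem_irreducibleComponents Z hZ)
  have hcl : closure {ζ} = Z := hζ.def
  subst hcl
  rw [Groth.Agent.Lib.Helper21.BaseChg.topologicalKrullDim_closure_eq_localDim (Y.residueField t)
    (g'.fiber t) ζ hZ]
  have hy : g' (g'.fiberι t ζ) = t := (g'.fiberHomeo t ζ).2
  rw [Groth.Agent.Lib.Helper6.EtaleSq.localDim_fiber_eq_fibreDimAt g' (g'.fiberι t ζ) t hy ζ rfl]
  exact h _

/-- if the local fibre dimension is `δ` at all points of an open `O`, all irreducible components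
of all fibres of `O ⟶ Y` have dimension `δ` -/
theorem topologicalKrullDim_component_fiber_eq (g : W ⟶ Y) [LocallyOfFiniteType g] (O : W.Opens)
    (δ : ℕ) (h : ∀ u ∈ O, FlatMor.fibreDimAt g u = δ) (u : O)
    (Z : Set ((O.ι ≫ g).fiber ((O.ι ≫ g) u)))
    (hZ : Z ∈ irreducibleComponents ((O.ι ≫ g).fiber ((O.ι ≫ g) u))) :
    topologicalKrullDim Z = δ := by
  refine topologicalKrullDim_component_fiber_eq' (O.ι ≫ g) δ (fun v => ?_) _ Z hZ
  rw [Groth.Agent.Lib.Helper21.EquidimAt.fibreDimAt_ι_comp g O v]
  exact h _ v.2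

/-- the local ring of the fibre is a quotient of the local ring of the total space -/
theorem ringKrullDim_stalk_fiber_le (f : X ⟶ Y) (x : X) :
    ringKrullDim ((f.fiber (f x)).presheaf.stalk (f.asFiber x)) ≤
      ringKrullDim (X.presheaf.stalk x) := by
  have key : ∀ (s : Y) (t : f.fiber s), ringKrullDim ((f.fiber s).presheaf.stalk t) ≤
      ringKrullDim (X.presheaf.stalk (f.fiberι s t)) := fun s t =>
    ringKrullDim_le_of_surjective _ (Groth.Agent.S9501.result f s t).1
  have h := key (f x) (f.asFiber x)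
  rw [Scheme.Hom.fiberι_asFiber] at h
  exact h

/-- if the local ring of the fibre at `x'` has the same dimension as the local ring of `X` at
`x'`, there is a maximal point of `X` in the fibre specializing to `x'` -/
theorem exists_maximal_of_dim_fiber_eq [IsLocallyNoetherian Y] (f : X ⟶ Y) [LocallyOfFiniteType f]
    (x' : X) (n : ℕ) (h1 : ringKrullDim (X.presheaf.stalk x') = n)
    (h2 : ringKrullDim ((f.fiber (f x')).presheaf.stalk (f.asFiber x')) = n) :
    ∃ z : X, z ⤳ x' ∧ f z = f x' ∧ ∀ z' : X, z' ⤳ z → z' = z := by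
  rw [ringKrullDim_stalk_eq_coheight] at h1 h2
  have h2' : Order.coheight (f.asFiber x') = (n : ℕ∞) := by exact_mod_cast h2
  have h1' : Order.coheight x' = (n : ℕ∞) := by exact_mod_cast h1
  obtain ⟨p, hp1, hp2⟩ := Order.exists_series_of_coheight_eq_coe (f.asFiber x') h2'
  set q := p.map (f.fiberι (f x')) (Groth.Agent.Lib.Helper18.FibStalk.fiberι_strictMono f (f x'))
    with hq
  have hchain := Groth.Agent.Lib.Helper18.FibStalk.coheight_last_add_length_le q
  have hhead : q.head = x' := by
    rw [hq, LTSeries.head_map, hp1, Scheme.Hom.fiberι_asFiber]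
  have hlen : q.length = n := by rw [hq, LTSeries.map_length, hp2]
  rw [hhead, hlen, h1'] at hchain
  have h0 : Order.coheight q.last = 0 := by
    have hne : (n : ℕ∞) ≠ ⊤ := ENat.natCast_ne_top n
    have : Order.coheight q.last + (n : ℕ∞) ≤ 0 + (n : ℕ∞) := by rwa [zero_add]
    exact le_antisymm ((ENat.add_le_add_iff_right hne).mp this) bot_le
  have hmax : IsMax q.last := Order.coheight_eq_zero.mp h0
  refine ⟨q.last, ?_, ?_, fun z' hz' => ?_⟩
  · have := LTSeries.head_le_last q
    rw [hhead] at this
    exact this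
  · rw [hq, LTSeries.last_map]
    exact (f.fiberHomeo (f x') p.last).2
  · have h3 : q.last ≤ z' := hz'
    have h4 : z' ≤ q.last := hmax h3
    exact (Specializes.antisymm hz' h4).eq

end Groth.Agent.Lib.Helper21.EquiSub
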