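import Groth.Agent.Lib.Helper21.EquiSub2

/-!
# Restriction of an equidimensional morphism to a closed irreducible subset (EGA IV 13.3.6), III
-/

set_option autoImplicit false
set_option linter.style.haveILetI false
set_option linter.unusedSectionVars false
universe u

open AlgebraicGeometry CategoryTheory Limits TopologicalSpace

namespace Groth.Agent.Lib.Helper21.EquiSub

open Groth.Agent.Lib.Helper21.FibDim

/-- **EGA IV 13.3.6** -/
theorem equidim_restrict {X Y : Scheme.{u}} [IrreducibleSpace Y]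
    [IsLocallyNoetherian Y] (f : X ⟶ Y) [LocallyOfFiniteType f] (x : X)
    (hf : EGA43.IsEquidimAt f x)
    (X' : TopologicalSpace.Closeds X) (x' : X) (hx' : closure ({x'} : Set X) = (X' : Set X))
    (hx : x ∈ X') (n : ℕ)
    (hcodim : ringKrullDim (X.presheaf.stalk x') ≤ n)
    (hdim : FlatMor.localDim ↥((X' : Set X) ∩ f.base ⁻¹' {f.base x}) ⟨x, ⟨hx, rfl⟩⟩ + n ≤
      FlatMor.fibreDimAt f x) :
    ringKrullDim (X.presheaf.stalk x') = n ∧
      FlatMor.localDim ↥((X' : Set X) ∩ f.base ⁻¹' {f.base x}) ⟨x, ⟨hx, rfl⟩⟩ + n =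
        FlatMor.fibreDimAt f x ∧
      ∀ w : ↥(Scheme.IdealSheafData.vanishingIdeal X').subscheme,
        (Scheme.IdealSheafData.vanishingIdeal X').subschemeι.base w = x →
        EGA43.IsEquidimAt ((Scheme.IdealSheafData.vanishingIdeal X').subschemeι ≫ f) w := by
  haveI : IsLocallyNoetherian X := LocallyOfFiniteType.isLocallyNoetherian f
  set I := Scheme.IdealSheafData.vanishingIdeal X' with hI
  set ι := I.subschemeι with hι
  have hr : Set.range ι.base = (X' : Set X) := by
    rw [Scheme.IdealSheafData.range_subschemeι, Scheme.IdealSheafData.coe_support_vanishingIdeal]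
  have hemb : Topology.IsEmbedding ι.base := ι.isEmbedding
  obtain ⟨w, hw⟩ : ∃ w, ι.base w = x := by
    have : x ∈ Set.range ι.base := by rw [hr]; exact hx
    exact this
  subst hw
  obtain ⟨ξ, hξ⟩ : ∃ ξ, ι.base ξ = x' := by
    have : x' ∈ Set.range ι.base := by rw [hr, ← hx']; exact subset_closure rfl
    exact this
  subst hξ
  set f' := ι ≫ f with hf'
  -- equidimensionality data
  obtain ⟨e, U, hxU, hcomp, hfib⟩ := hf
  have hfx : FlatMor.fibreDimAt f (ι.base w) = e :=
    Groth.Agent.Lib.Helper21.EquidimAt.fibreDimAt_eq_of_forall_components f U e hfib _ hxU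
  have hspec : ι.base ξ ⤳ ι.base w := by
    rw [specializes_iff_mem_closure, hx']; exact hx
  have hx'U : ι.base ξ ∈ U := hspec.mem_open U.2 hxU
  have hfx' : FlatMor.fibreDimAt f (ι.base ξ) = e :=
    Groth.Agent.Lib.Helper21.EquidimAt.fibreDimAt_eq_of_forall_components f U e hfib _ hx'U
  obtain ⟨δ, b', hδ, hb', hloc⟩ := exists_fibreDimAt_eq_add f (ι.base ξ)
  have he : e = δ + b' := by
    rw [hloc] at hfx'
    exact_mod_cast hfx'.symm
  have hb'le := ringKrullDim_stalk_fiber_le f (ι.base ξ)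
  have hgenξ : ∀ u : I.subscheme, ξ ⤳ u := by
    intro u
    rw [← hemb.isInducing.specializes_iff, specializes_iff_mem_closure, hx', ← hr]
    exact ⟨u, rfl⟩
  have hξw : ξ ⤳ w := hgenξ w
  have hδ' : @Algebra.trdeg (Y.residueField (f' ξ)) (I.subscheme.residueField ξ) _ _
      (f'.residueFieldMap ξ).hom.toAlgebra = δ :=
    Groth.Agent.Lib.Helper21.IrrFib.trdeg_comp_of_surjectiveOnStalks ι f ξ δ hδ
  have hlow : (δ : WithBot ℕ∞) ≤ FlatMor.fibreDimAt f' w :=
    le_fibreDimAt_of_specializes f' hξw δ hδ'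
  have hbridge := localDim_inter_preimage_eq_fibreDimAt ι hemb f (X' : Set X) hr w hx
  rw [hbridge, hfx] at hdim ⊢
  obtain ⟨N, hN, -, -⟩ := exists_fibreDimAt_eq_trdeg f' w
  rw [hN] at hdim hlow ⊢
  obtain ⟨c, hc⟩ := Groth.Agent.Lib.Helper18.SerreReg.exists_ringKrullDim_eq_nat
    (X.presheaf.stalk (ι.base ξ))
  rw [hc] at hcodim hb'le ⊢
  rw [hb'] at hb'le
  have h1 : N + n ≤ e := by exact_mod_cast hdim
  have h2 : δ ≤ N := by exact_mod_cast hlow
  have h3 : c ≤ n := by exact_mod_cast hcodim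
  have h4 : b' ≤ c := by exact_mod_cast hb'le
  have hcn : c = n := by omega
  have hNe : N + n = e := by omega
  have hb'n : b' = n := by omega
  have hNδ : N = δ := by omega
  refine ⟨by rw [hcn], by exact_mod_cast hNe, ?_⟩
  intro w₂ hw₂
  have hww : w₂ = w := hemb.injective hw₂
  rw [hww]
  -- the generic point of `X'` lies over the generic point of `Y`
  obtain ⟨z, hzx', hfz, hzmax⟩ := exists_maximal_of_dim_fiber_eq f (ι.base ξ) n
    (by rw [hc, hcn]) (by rw [hb', hb'n])
  have hzU : z ∈ U := (hzx'.trans hspec).mem_open U.2 hxU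
  have hgen : genericPoint Y = f z :=
    Groth.Agent.Lib.Helper21.EquidimAt.eq_of_specializes_map_of_components f U
      (fun Z hZ => by
        obtain ⟨W, hW, -, hcl⟩ := hcomp Z hZ
        exact ⟨W, hW, hcl⟩) z hzU hzmax (genericPoint Y) (genericPoint_specializes _)
  have hfξ : f' ξ = genericPoint Y := by
    rw [hgen, hfz]
    rfl
  -- the open set where the fibre dimension is at most `δ`
  let O : I.subscheme.Opens :=
    ⟨{u | ((δ + 1 : ℕ) : WithBot ℕ∞) ≤ FlatMor.fibreDimAt f' u}ᶜ,
      (Groth.Agent.Lib.Helper18.FibSemi.isClosed_setOf_le_fibreDimAt f' (δ + 1)).isOpen_compl⟩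
  have hO : ∀ u ∈ O, FlatMor.fibreDimAt f' u = δ := by
    intro u hu
    have hl := le_fibreDimAt_of_specializes f' (hgenξ u) δ hδ'
    obtain ⟨M, hM, -, -⟩ := exists_fibreDimAt_eq_trdeg f' u
    have hu' : ¬ ((δ + 1 : ℕ) : WithBot ℕ∞) ≤ FlatMor.fibreDimAt f' u := hu
    rw [hM] at hl hu' ⊢
    have h5 : δ ≤ M := by exact_mod_cast hl
    have h6 : ¬ (δ + 1 ≤ M) := by
      intro h
      exact hu' (by exact_mod_cast h)
    have : M = δ := by omega
    rw [this]
  have hwO : w ∈ O := by
    change ¬ ((δ + 1 : ℕ) : WithBot ℕ∞) ≤ FlatMor.fibreDimAt f' w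
    rw [hN, hNδ]
    intro h
    have : δ + 1 ≤ δ := by exact_mod_cast h
    omega
  have hξO : ξ ∈ O := hξw.mem_open O.2 hwO
  refine ⟨δ, O, hwO, ?_, fun u Z hZ => topologicalKrullDim_component_fiber_eq f' O δ hO u Z hZ⟩
  intro Z hZ
  refine ⟨Set.univ, ?_, Set.mem_univ _, ?_⟩
  · rw [irreducibleComponents_eq_singleton]
    rfl
  · let ξO : O.toScheme := ⟨ξ, hξO⟩
    have hclO : closure ({ξO} : Set O.toScheme) = Set.univ := by
      rw [← Set.univ_subset_iff]
      intro u _
      rw [← specializes_iff_mem_closure, ← O.ι.isEmbedding.isInducing.specializes_iff]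
      exact hgenξ u.1
    have hξZ : ξO ∈ Z := by
      have h7 : IsIrreducible (closure ({ξO} : Set O.toScheme)) := isIrreducible_singleton.closure
      have h8 : Z ≤ closure ({ξO} : Set O.toScheme) := by
        rw [hclO]
        exact Set.subset_univ _
      exact hZ.2 h7 h8 (subset_closure rfl)
    rw [← Set.univ_subset_iff, ← genericPoint_closure (α := Y)]
    apply closure_minimal _ isClosed_closure
    rw [Set.singleton_subset_iff]
    apply subset_closure
    exact ⟨ξO, hξZ, hfξ⟩

end Groth.Agent.Lib.Helper21.EquiSub
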