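import Groth.Agent.Lib.Helper21.EquiSub3

/-!
# Hypersurface sections of equidimensional morphisms (EGA IV 13.3.7-13.3.8): preparations
-/

set_option autoImplicit false
set_option linter.style.haveILetI false
set_option linter.unusedSectionVars false
universe u

open AlgebraicGeometry CategoryTheory Limits TopologicalSpace

namespace Groth.Agent.Lib.Helper21.EquiSub

open Groth.Agent.Lib.Helper21.FibDim

variable {X Y : Scheme.{u}}

/-- membership in the zero locus of a global section at a generization, via the stalk -/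
theorem fromSpecStalk_mem_zeroLocus_iff (g : Γ(X, ⊤)) (ξ : X)
    (P : Spec (X.presheaf.stalk ξ)) :
    X.fromSpecStalk ξ P ∈ X.zeroLocus ({g} : Set Γ(X, ⊤)) ↔
      X.presheaf.germ ⊤ ξ trivial g ∈ P.asIdeal := by
  rw [Scheme.mem_zeroLocus_iff]
  simp only [Set.mem_singleton_iff, forall_eq]
  have h1 : X.fromSpecStalk ξ P ∈ X.basicOpen g ↔ P ∈ (X.fromSpecStalk ξ) ⁻¹ᵁ X.basicOpen g :=
    Iff.rfl
  rw [h1, Scheme.preimage_basicOpen_top, Scheme.fromSpecStalk_appTop]
  have h2 : (X.presheaf.germ ⊤ ξ trivial ≫ (Scheme.ΓSpecIso (X.presheaf.stalk ξ)).inv ≫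
      (Spec (X.presheaf.stalk ξ)).presheaf.map (homOfLE le_top).op) g =
      (Scheme.ΓSpecIso (X.presheaf.stalk ξ)).inv (X.presheaf.germ ⊤ ξ trivial g) := by
    have hid : (homOfLE (le_top : (⊤ : (Spec (X.presheaf.stalk ξ)).Opens) ≤ ⊤)).op = 𝟙 _ := rfl
    rw [hid, CategoryTheory.Functor.map_id, Category.comp_id]
    rfl
  rw [h2, basicOpen_eq_of_affine]
  change ¬ (X.presheaf.germ ⊤ ξ trivial g ∉ P.asIdeal) ↔ X.presheaf.germ ⊤ ξ trivial g ∈ P.asIdeal
  exact not_not

/-- **Krull's principal ideal theorem** for the maximal points of a hypersurface -/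
theorem ringKrullDim_stalk_le_one_of_maximal_zeroLocus [IsLocallyNoetherian X] (g : Γ(X, ⊤))
    (ξ : X) (hξ : ξ ∈ X.zeroLocus ({g} : Set Γ(X, ⊤)))
    (hmax : ∀ ξ' : X, ξ' ⤳ ξ → ξ' ∈ X.zeroLocus ({g} : Set Γ(X, ⊤)) → ξ' = ξ) :
    ringKrullDim (X.presheaf.stalk ξ) ≤ 1 := by
  set R := X.presheaf.stalk ξ with hR
  set a : R := X.presheaf.germ ⊤ ξ trivial g with ha
  have hmin : IsLocalRing.maximalIdeal R ∈ (Ideal.span {a}).minimalPrimes := by
    refine ⟨⟨inferInstance, ?_⟩, fun 𝔭 h𝔭 _ => ?_⟩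
    · rw [Ideal.span_le, Set.singleton_subset_iff]
      have := (fromSpecStalk_mem_zeroLocus_iff g ξ (IsLocalRing.closedPoint R)).mp (by
        rw [Scheme.fromSpecStalk_closedPoint]; exact hξ)
      exact this
    · haveI := h𝔭.1
      let P : Spec R := ⟨𝔭, h𝔭.1⟩
      have haP : a ∈ P.asIdeal := h𝔭.2 (Ideal.subset_span rfl)
      have h1 : X.fromSpecStalk ξ P ∈ X.zeroLocus ({g} : Set Γ(X, ⊤)) :=
        (fromSpecStalk_mem_zeroLocus_iff g ξ P).mpr haP
      have h2 : X.fromSpecStalk ξ P ⤳ ξ := by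
        have : X.fromSpecStalk ξ P ∈ Set.range (X.fromSpecStalk ξ) := ⟨_, rfl⟩
        rw [Scheme.range_fromSpecStalk] at this
        exact this
      have h3 := hmax _ h2 h1
      have h4 : P = IsLocalRing.closedPoint R := by
        apply (X.fromSpecStalk ξ).isEmbedding.injective
        rw [h3, Scheme.fromSpecStalk_closedPoint]
      have h5 : 𝔭 = IsLocalRing.maximalIdeal R := congrArg PrimeSpectrum.asIdeal h4
      rw [h5]
  haveI : (Ideal.span {a}).IsPrincipal := ⟨⟨a, rfl⟩⟩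
  have h := Ideal.height_le_one_of_isPrincipal_of_mem_minimalPrimes (Ideal.span {a}) _ hmin
  rw [← IsLocalRing.maximalIdeal_height_eq_ringKrullDim]
  exact_mod_cast h

end Groth.Agent.Lib.Helper21.EquiSub
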