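import Groth.Agent.Lib.Helper21.EquiSub5
import Groth.Agent.Lib.Helper6.RatSec4

/-!
# Hypersurface sections of equidimensional morphisms (EGA IV 13.3.7-13.3.8): maximal points
-/

set_option autoImplicit false
set_option linter.style.haveILetI false
set_option linter.unusedSectionVars false
universe u

open AlgebraicGeometry CategoryTheory Limits TopologicalSpace

namespace Groth.Agent.Lib.Helper21.EquiSub

open Groth.Agent.Lib.Helper21.FibDim

variable {X Y : Scheme.{u}}

/-- in a locally Noetherian scheme, every point has a neighbourhood all of whose points lie only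
on irreducible components through the given point -/
theorem exists_open_forall_maximal_specializes (S : Scheme.{u}) [IsLocallyNoetherian S] (w : S) :
    ∃ O : S.Opens, w ∈ O ∧ ∀ u ∈ O, ∀ ξ : S, (∀ ξ' : S, ξ' ⤳ ξ → ξ' = ξ) → ξ ⤳ u → ξ ⤳ w := by
  have hlf := Groth.Agent.Lib.Helper6.RatSec.locallyFinite_irreducibleComponents S
  let J := {Z : ↥(irreducibleComponents ↥S) // w ∉ (Z : Set S)}
  have hlf' : LocallyFinite (fun Z : J => ((Z.1 : Set S))) :=
    hlf.comp_injective Subtype.val_injective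
  have hcl : IsClosed (⋃ Z : J, (Z.1 : Set S)) :=
    hlf'.isClosed_iUnion (fun Z => isClosed_of_mem_irreducibleComponents _ Z.1.2)
  refine ⟨⟨(⋃ Z : J, (Z.1 : Set S))ᶜ, hcl.isOpen_compl⟩, ?_, ?_⟩
  · intro hw
    obtain ⟨Z, hZ⟩ := Set.mem_iUnion.mp hw
    exact Z.2 hZ
  · intro u hu ξ hξ hξu
    by_contra hξw
    apply hu
    have hcomp := closure_mem_irreducibleComponents_of_maximal ξ hξ
    refine Set.mem_iUnion.mpr ⟨⟨⟨closure {ξ}, hcomp⟩, ?_⟩, ?_⟩
    · intro hw
      exact hξw (specializes_iff_mem_closure.mpr hw)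
    · exact specializes_iff_mem_closure.mp hξu

/-- **the maximal points of a hypersurface section through `x`** (EGA IV 13.3.7) -/
theorem hypersurface_maximal_point [IrreducibleSpace Y] [IsLocallyNoetherian Y] (f : X ⟶ Y)
    [LocallyOfFiniteType f] (x : X) (hf : EGA43.IsEquidimAt f x) (g : Γ(X, ⊤))
    (hmax : ∀ τ ∈ X.zeroLocus ({g} : Set Γ(X, ⊤)), f τ = f x →
      ∃ z' : X, f z' = f x ∧ z' ⤳ τ ∧ z' ≠ τ)
    (x' : X) (hx'g : x' ∈ X.zeroLocus ({g} : Set Γ(X, ⊤)))
    (hx'max : ∀ ξ' : X, ξ' ⤳ x' → ξ' ∈ X.zeroLocus ({g} : Set Γ(X, ⊤)) → ξ' = x')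
    (hx'x : x' ⤳ x) :
    ringKrullDim (X.presheaf.stalk x') = 1 ∧ f x' = genericPoint Y ∧
      ∃ δ : ℕ, @Algebra.trdeg (Y.residueField (f x')) (X.residueField x') _ _
        (f.residueFieldMap x').hom.toAlgebra = δ ∧
        ((δ : ℕ) : WithBot ℕ∞) + 1 = FlatMor.fibreDimAt f x := by
  haveI : IsLocallyNoetherian X := LocallyOfFiniteType.isLocallyNoetherian f
  let T : TopologicalSpace.Closeds X := ⟨closure {x'}, isClosed_closure⟩
  have hTg : (T : Set X) ⊆ X.zeroLocus ({g} : Set Γ(X, ⊤)) :=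
    closure_minimal (Set.singleton_subset_iff.mpr hx'g) (X.zeroLocus_isClosed _)
  have hxT : x ∈ T := specializes_iff_mem_closure.mp hx'x
  have hr : Set.range (Scheme.IdealSheafData.vanishingIdeal T).subschemeι.base = (T : Set X) := by
    rw [Scheme.IdealSheafData.range_subschemeι, Scheme.IdealSheafData.coe_support_vanishingIdeal]
  have hemb : Topology.IsEmbedding (Scheme.IdealSheafData.vanishingIdeal T).subschemeι.base :=
    (Scheme.IdealSheafData.vanishingIdeal T).subschemeι.isEmbedding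
  obtain ⟨w, hw⟩ : ∃ w, (Scheme.IdealSheafData.vanishingIdeal T).subschemeι.base w = x := by
    have : x ∈ Set.range (Scheme.IdealSheafData.vanishingIdeal T).subschemeι.base := by
      rw [hr]; exact hxT
    exact this
  subst hw
  obtain ⟨ξ, hξ⟩ : ∃ ξ, (Scheme.IdealSheafData.vanishingIdeal T).subschemeι.base ξ = x' := by
    have : x' ∈ Set.range (Scheme.IdealSheafData.vanishingIdeal T).subschemeι.base := by
      rw [hr]; exact subset_closure rfl
    exact this
  have hξw : ξ ⤳ w := by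
    rw [← hemb.isInducing.specializes_iff, hξ]
    exact hx'x
  -- Krull
  have hcodim : ringKrullDim (X.presheaf.stalk x') ≤ ((1 : ℕ) : WithBot ℕ∞) := by
    have := ringKrullDim_stalk_le_one_of_maximal_zeroLocus g x' hx'g hx'max
    exact_mod_cast this
  -- the fibre dimension drops
  have hB := fibreDimAt_restrict_add_one_le (Scheme.IdealSheafData.vanishingIdeal T).subschemeι f w
    (fun τ' hτ' => hmax _ (hTg (by
      have : (Scheme.IdealSheafData.vanishingIdeal T).subschemeι.base τ' ∈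
          Set.range (Scheme.IdealSheafData.vanishingIdeal T).subschemeι.base := ⟨τ', rfl⟩
      rw [hr] at this
      exact this)) hτ')
  have hbridge := localDim_inter_preimage_eq_fibreDimAt
    (Scheme.IdealSheafData.vanishingIdeal T).subschemeι hemb f (T : Set X) hr w hxT
  have hdim : FlatMor.localDim ↥((T : Set X) ∩ f.base ⁻¹'
      {f.base ((Scheme.IdealSheafData.vanishingIdeal T).subschemeι.base w)})
        ⟨(Scheme.IdealSheafData.vanishingIdeal T).subschemeι.base w, ⟨hxT, rfl⟩⟩ + ((1 : ℕ) : WithBot ℕ∞) ≤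
      FlatMor.fibreDimAt f ((Scheme.IdealSheafData.vanishingIdeal T).subschemeι.base w) := by
    rw [hbridge]
    exact_mod_cast hB
  obtain ⟨h1, h2, -⟩ := equidim_restrict f _ hf T x' rfl hxT 1 hcodim hdim
  rw [hbridge] at h2
  -- the numerical data
  obtain ⟨e, U, hxU, hcomp, hfib⟩ := hf
  have hfx : FlatMor.fibreDimAt f ((Scheme.IdealSheafData.vanishingIdeal T).subschemeι.base w) = e :=
    Groth.Agent.Lib.Helper21.EquidimAt.fibreDimAt_eq_of_forall_components f U e hfib _ hxU
  obtain ⟨N, hN, -, -⟩ := exists_fibreDimAt_eq_trdeg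
    ((Scheme.IdealSheafData.vanishingIdeal T).subschemeι ≫ f) w
  obtain ⟨δ, hδ⟩ := exists_nat_trdeg_residueFieldMap f x'
  have hδ' : @Algebra.trdeg
      (Y.residueField (((Scheme.IdealSheafData.vanishingIdeal T).subschemeι ≫ f) ξ))
      ((Scheme.IdealSheafData.vanishingIdeal T).subscheme.residueField ξ) _ _
      (((Scheme.IdealSheafData.vanishingIdeal T).subschemeι ≫ f).residueFieldMap ξ).hom.toAlgebra =
        δ := by
    apply Groth.Agent.Lib.Helper21.IrrFib.trdeg_comp_of_surjectiveOnStalks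
    rw [hξ]
    exact hδ
  have hlow := le_fibreDimAt_of_specializes
    ((Scheme.IdealSheafData.vanishingIdeal T).subschemeι ≫ f) hξw δ hδ'
  rw [hN] at hlow h2
  rw [hfx] at h2 ⊢
  have hNe : N + 1 = e := by exact_mod_cast h2
  have hδN : δ ≤ N := by exact_mod_cast hlow
  have hx'U : x' ∈ U := hx'x.mem_open U.2 hxU
  obtain ⟨hgen, hδeq⟩ := map_eq_genericPoint_of_restrict f U e
    (fun Z hZ => by
      obtain ⟨W, hW, -, hcl⟩ := hcomp Z hZ
      exact ⟨W, hW, hcl⟩) hfib x' hx'U 1 N δ h1 hNe hδ hδN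
  refine ⟨by exact_mod_cast h1, hgen, δ, hδ, ?_⟩
  rw [hδeq]
  exact_mod_cast hNe

end Groth.Agent.Lib.Helper21.EquiSub
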