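import Groth.Agent.Lib.Helper21.EquiSub6

/-!
# Hypersurface sections of equidimensional morphisms (EGA IV 13.3.7-13.3.8): main statement
-/

set_option autoImplicit false
set_option linter.style.haveILetI false
set_option linter.unusedSectionVars false
universe u

open AlgebraicGeometry CategoryTheory Limits TopologicalSpace

namespace Groth.Agent.Lib.Helper21.EquiSub

open Groth.Agent.Lib.Helper21.FibDim

variable {X Y : Scheme.{u}}

/-- **EGA IV 13.3.7/13.3.8**: hypersurface sections of equidimensional morphisms -/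
theorem hypersurface_section [IrreducibleSpace Y] [IsLocallyNoetherian Y] (f : X ⟶ Y)
    [LocallyOfFiniteType f] (x : X) (hf : EGA43.IsEquidimAt f x)
    (g : Γ(X, ⊤)) (hgx : x ∈ X.zeroLocus ({g} : Set Γ(X, ⊤)))
    (hmax : ∀ z : X, f.base z = f.base x →
      (∀ z' : X, f.base z' = f.base x → z ∈ closure ({z'} : Set X) → z' = z) →
      z ∉ X.zeroLocus ({g} : Set Γ(X, ⊤))) :
    (∀ w : ↥(Scheme.IdealSheafData.vanishingIdeal
        ⟨X.zeroLocus ({g} : Set Γ(X, ⊤)), X.zeroLocus_isClosed _⟩).subscheme,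
        (Scheme.IdealSheafData.vanishingIdeal
          ⟨X.zeroLocus ({g} : Set Γ(X, ⊤)), X.zeroLocus_isClosed _⟩).subschemeι.base w = x →
        EGA43.IsEquidimAt ((Scheme.IdealSheafData.vanishingIdeal
          ⟨X.zeroLocus ({g} : Set Γ(X, ⊤)), X.zeroLocus_isClosed _⟩).subschemeι ≫ f) w) ∧
      FlatMor.localDim ↥(X.zeroLocus ({g} : Set Γ(X, ⊤)) ∩ f.base ⁻¹' {f.base x})
        ⟨x, ⟨hgx, rfl⟩⟩ + 1 = FlatMor.fibreDimAt f x ∧
      ∀ Z ∈ irreducibleComponents ↥(X.zeroLocus ({g} : Set Γ(X, ⊤))),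
        (⟨x, hgx⟩ : ↥(X.zeroLocus ({g} : Set Γ(X, ⊤)))) ∈ Z →
        ∀ ξ : ↥(X.zeroLocus ({g} : Set Γ(X, ⊤))),
          closure ({ξ} : Set ↥(X.zeroLocus ({g} : Set Γ(X, ⊤)))) = Z →
          ringKrullDim (X.presheaf.stalk (ξ : X)) = 1 := by
  haveI : IsLocallyNoetherian X := LocallyOfFiniteType.isLocallyNoetherian f
  have hmax' : ∀ τ ∈ X.zeroLocus ({g} : Set Γ(X, ⊤)), f τ = f x →
      ∃ z' : X, f z' = f x ∧ z' ⤳ τ ∧ z' ≠ τ := by
    intro τ hτ hfτ
    by_contra hcon
    push Not at hcon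
    exact hmax τ hfτ (fun z' hz' hcl => hcon z' hz' (specializes_iff_mem_closure.mpr hcl)) hτ
  let C : TopologicalSpace.Closeds X :=
    ⟨X.zeroLocus ({g} : Set Γ(X, ⊤)), X.zeroLocus_isClosed _⟩
  have hr : Set.range (Scheme.IdealSheafData.vanishingIdeal C).subschemeι.base =
      X.zeroLocus ({g} : Set Γ(X, ⊤)) := by
    rw [Scheme.IdealSheafData.range_subschemeι, Scheme.IdealSheafData.coe_support_vanishingIdeal]
    rfl
  have hemb : Topology.IsEmbedding (Scheme.IdealSheafData.vanishingIdeal C).subschemeι.base :=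
    (Scheme.IdealSheafData.vanishingIdeal C).subschemeι.isEmbedding
  have hmem : ∀ u : (Scheme.IdealSheafData.vanishingIdeal C).subscheme,
      (Scheme.IdealSheafData.vanishingIdeal C).subschemeι.base u ∈
        X.zeroLocus ({g} : Set Γ(X, ⊤)) := by
    intro u
    rw [← hr]
    exact ⟨u, rfl⟩
  haveI : IsLocallyNoetherian (Scheme.IdealSheafData.vanishingIdeal C).subscheme :=
    LocallyOfFiniteType.isLocallyNoetherian (Scheme.IdealSheafData.vanishingIdeal C).subschemeι
  obtain ⟨w, hw⟩ : ∃ w, (Scheme.IdealSheafData.vanishingIdeal C).subschemeι.base w = x := by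
    have : x ∈ Set.range (Scheme.IdealSheafData.vanishingIdeal C).subschemeι.base := by
      rw [hr]; exact hgx
    exact this
  subst hw
  -- maximal points of the hypersurface through `x`
  have key : ∀ ξ : (Scheme.IdealSheafData.vanishingIdeal C).subscheme,
      (∀ ξ', ξ' ⤳ ξ → ξ' = ξ) → ξ ⤳ w →
      ringKrullDim (X.presheaf.stalk
        ((Scheme.IdealSheafData.vanishingIdeal C).subschemeι.base ξ)) = 1 ∧
      ((Scheme.IdealSheafData.vanishingIdeal C).subschemeι ≫ f) ξ = genericPoint Y ∧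
      ∃ δ : ℕ, @Algebra.trdeg
        (Y.residueField (((Scheme.IdealSheafData.vanishingIdeal C).subschemeι ≫ f) ξ))
        ((Scheme.IdealSheafData.vanishingIdeal C).subscheme.residueField ξ) _ _
        (((Scheme.IdealSheafData.vanishingIdeal C).subschemeι ≫ f).residueFieldMap ξ).hom.toAlgebra =
          δ ∧ ((δ : ℕ) : WithBot ℕ∞) + 1 =
        FlatMor.fibreDimAt f ((Scheme.IdealSheafData.vanishingIdeal C).subschemeι.base w) := by
    intro ξ hξmax hξw
    have hx'max : ∀ ξ' : X, ξ' ⤳ (Scheme.IdealSheafData.vanishingIdeal C).subschemeι.base ξ →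
        ξ' ∈ X.zeroLocus ({g} : Set Γ(X, ⊤)) →
        ξ' = (Scheme.IdealSheafData.vanishingIdeal C).subschemeι.base ξ := by
      intro ξ' hsp hm
      rw [← hr] at hm
      obtain ⟨ξ'', rfl⟩ := hm
      rw [hξmax ξ'' (hemb.isInducing.specializes_iff.mp hsp)]
    obtain ⟨hdim1, hgen, δ, hδ, hδe⟩ := hypersurface_maximal_point f _ hf g hmax' _ (hmem ξ) hx'max
      (hξw.map (Scheme.IdealSheafData.vanishingIdeal C).subschemeι.continuous)
    exact ⟨hdim1, hgen, δ,
      Groth.Agent.Lib.Helper21.IrrFib.trdeg_comp_of_surjectiveOnStalks _ f ξ δ hδ, hδe⟩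
  -- numerical data at `w`
  have hB := fibreDimAt_restrict_add_one_le (Scheme.IdealSheafData.vanishingIdeal C).subschemeι f w
    (fun τ' hτ' => hmax' _ (hmem τ') hτ')
  obtain ⟨ξ₀, hξ₀max, hξ₀w⟩ := Groth.Agent.Lib.Helper21.DimFun.exists_maximal_specializes w
  obtain ⟨-, -, δ, hδ₀, hδe⟩ := key ξ₀ hξ₀max hξ₀w
  have hlow := le_fibreDimAt_of_specializes
    ((Scheme.IdealSheafData.vanishingIdeal C).subschemeι ≫ f) hξ₀w δ hδ₀
  obtain ⟨N, hN, -, -⟩ := exists_fibreDimAt_eq_trdeg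
    ((Scheme.IdealSheafData.vanishingIdeal C).subschemeι ≫ f) w
  obtain ⟨e, he, -, -⟩ := exists_fibreDimAt_eq_trdeg f
    ((Scheme.IdealSheafData.vanishingIdeal C).subschemeι.base w)
  have hbridge := localDim_inter_preimage_eq_fibreDimAt
    (Scheme.IdealSheafData.vanishingIdeal C).subschemeι hemb f
    (X.zeroLocus ({g} : Set Γ(X, ⊤))) hr w hgx
  have hB' : N + 1 ≤ e := by
    rw [hN, he] at hB
    exact_mod_cast hB
  have hlow' : δ ≤ N := by
    rw [hN] at hlow
    exact_mod_cast hlow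
  have hδe' : δ + 1 = e := by
    rw [he] at hδe
    exact_mod_cast hδe
  have hNδ : N = δ := by omega
  refine ⟨?_, ?_, ?_⟩
  · -- equidimensionality of the restriction
    intro w₂ hw₂
    have hww : w₂ = w := hemb.injective hw₂
    rw [hww]
    obtain ⟨O₀, hwO₀, hO₀⟩ := exists_open_forall_maximal_specializes
      (Scheme.IdealSheafData.vanishingIdeal C).subscheme w
    let O₁ : (Scheme.IdealSheafData.vanishingIdeal C).subscheme.Opens :=
      ⟨{u | ((δ + 1 : ℕ) : WithBot ℕ∞) ≤ FlatMor.fibreDimAt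
          ((Scheme.IdealSheafData.vanishingIdeal C).subschemeι ≫ f) u}ᶜ,
        (Groth.Agent.Lib.Helper18.FibSemi.isClosed_setOf_le_fibreDimAt
          ((Scheme.IdealSheafData.vanishingIdeal C).subschemeι ≫ f) (δ + 1)).isOpen_compl⟩
    have hwO₁ : w ∈ O₁ := by
      change ¬ ((δ + 1 : ℕ) : WithBot ℕ∞) ≤ FlatMor.fibreDimAt
          ((Scheme.IdealSheafData.vanishingIdeal C).subschemeι ≫ f) w
      rw [hN, hNδ]
      intro h
      have : δ + 1 ≤ δ := by exact_mod_cast h
      omega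
    have hO : ∀ u ∈ O₀ ⊓ O₁, FlatMor.fibreDimAt
        ((Scheme.IdealSheafData.vanishingIdeal C).subschemeι ≫ f) u = δ := by
      intro u hu
      obtain ⟨ξ, hξmax, hξu⟩ := Groth.Agent.Lib.Helper21.DimFun.exists_maximal_specializes u
      have hξw := hO₀ u hu.1 ξ hξmax hξu
      obtain ⟨-, -, δ', hδ', hδ'e⟩ := key ξ hξmax hξw
      have hδδ : δ' = δ := by
        rw [he] at hδ'e
        have : δ' + 1 = e := by exact_mod_cast hδ'e
        omega
      rw [hδδ] at hδ'
      have hl := le_fibreDimAt_of_specializes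
        ((Scheme.IdealSheafData.vanishingIdeal C).subschemeι ≫ f) hξu δ hδ'
      obtain ⟨M, hM, -, -⟩ := exists_fibreDimAt_eq_trdeg
        ((Scheme.IdealSheafData.vanishingIdeal C).subschemeι ≫ f) u
      have hu' : ¬ ((δ + 1 : ℕ) : WithBot ℕ∞) ≤ FlatMor.fibreDimAt
          ((Scheme.IdealSheafData.vanishingIdeal C).subschemeι ≫ f) u := hu.2
      rw [hM] at hl hu' ⊢
      have h5 : δ ≤ M := by exact_mod_cast hl
      have h6 : ¬ (δ + 1 ≤ M) := by
        intro h
        exact hu' (by exact_mod_cast h)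
      have : M = δ := by omega
      rw [this]
    refine ⟨δ, O₀ ⊓ O₁, ⟨hwO₀, hwO₁⟩, ?_, fun u Z hZ =>
      topologicalKrullDim_component_fiber_eq
        ((Scheme.IdealSheafData.vanishingIdeal C).subschemeι ≫ f) (O₀ ⊓ O₁) δ hO u Z hZ⟩
    intro Z hZ
    refine ⟨Set.univ, ?_, Set.mem_univ _, ?_⟩
    · rw [irreducibleComponents_eq_singleton]
      rfl
    · haveI : QuasiSober ↥(O₀ ⊓ O₁) := inferInstanceAs (QuasiSober (O₀ ⊓ O₁).toScheme)
      obtain ⟨ζ, hζ⟩ := QuasiSober.sober hZ.1 (isClosed_of_mem_irreducibleComponents Z hZ)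
      have hζmaxO : ∀ ζ' : ↥(O₀ ⊓ O₁), ζ' ⤳ ζ → ζ' = ζ := by
        intro ζ' h'
        have h1 : closure ({ζ} : Set ↥(O₀ ⊓ O₁)) ⊆ closure {ζ'} :=
          specializes_iff_closure_subset.mp h'
        rw [hζ.def] at h1
        have h2 := hZ.2 (isIrreducible_singleton.closure) h1
        have h3 : ζ' ∈ Z := h2 (subset_closure rfl)
        rw [← hζ.def] at h3
        exact (h'.antisymm (specializes_iff_mem_closure.mpr h3)).eq
      have hζmax : ∀ ξ' : (Scheme.IdealSheafData.vanishingIdeal C).subscheme,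
          ξ' ⤳ ζ.1 → ξ' = ζ.1 := by
        intro ξ' h'
        have hξ'O : ξ' ∈ O₀ ⊓ O₁ := h'.mem_open (O₀ ⊓ O₁).2 ζ.2
        have h1 : (⟨ξ', hξ'O⟩ : ↥(O₀ ⊓ O₁)) ⤳ ζ :=
          Topology.IsInducing.subtypeVal.specializes_iff.mp h'
        exact congrArg Subtype.val (hζmaxO _ h1)
      have hζw := hO₀ ζ.1 ζ.2.1 ζ.1 hζmax specializes_rfl
      obtain ⟨-, hgen, -⟩ := key ζ.1 hζmax hζw
      rw [← Set.univ_subset_iff, ← genericPoint_closure (α := Y)]
      apply closure_minimal _ isClosed_closure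
      rw [Set.singleton_subset_iff]
      apply subset_closure
      exact ⟨ζ, hζ.mem, hgen⟩
  · -- the local dimension of the section of the fibre
    rw [hbridge, hN, he, hNδ]
    exact_mod_cast hδe'
  · -- codimension one
    intro Z hZ hxZ ξ hξZ
    have hξx : ξ ⤳ (⟨_, hgx⟩ : ↥(X.zeroLocus ({g} : Set Γ(X, ⊤)))) := by
      rw [specializes_iff_mem_closure, hξZ]
      exact hxZ
    obtain ⟨ξ₁, hξ₁⟩ : ∃ ξ₁, (Scheme.IdealSheafData.vanishingIdeal C).subschemeι.base ξ₁ = ξ.1 := by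
      have : ξ.1 ∈ Set.range (Scheme.IdealSheafData.vanishingIdeal C).subschemeι.base := by
        rw [hr]; exact ξ.2
      exact this
    have hξ₁w : ξ₁ ⤳ w := by
      rw [← hemb.isInducing.specializes_iff, hξ₁]
      exact hξx.map continuous_subtype_val
    have hξ₁max : ∀ ξ', ξ' ⤳ ξ₁ → ξ' = ξ₁ := by
      intro ξ' h'
      have h1 : (Scheme.IdealSheafData.vanishingIdeal C).subschemeι.base ξ' ⤳ ξ.1 := by
        rw [← hξ₁]
        exact h'.map (Scheme.IdealSheafData.vanishingIdeal C).subschemeι.continuous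
      let ξ'' : ↥(X.zeroLocus ({g} : Set Γ(X, ⊤))) :=
        ⟨(Scheme.IdealSheafData.vanishingIdeal C).subschemeι.base ξ', hmem ξ'⟩
      have h2 : ξ'' ⤳ ξ := Topology.IsInducing.subtypeVal.specializes_iff.mp h1
      have h3 : closure ({ξ} : Set ↥(X.zeroLocus ({g} : Set Γ(X, ⊤)))) ⊆ closure {ξ''} :=
        specializes_iff_closure_subset.mp h2
      rw [hξZ] at h3
      have h4 := hZ.2 (isIrreducible_singleton.closure) h3
      have h5 : ξ'' ∈ Z := h4 (subset_closure rfl)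
      rw [← hξZ] at h5
      have h6 : ξ'' = ξ := (h2.antisymm (specializes_iff_mem_closure.mpr h5)).eq
      apply hemb.injective
      rw [hξ₁, ← h6]
    obtain ⟨hdim1, -, -⟩ := key ξ₁ hξ₁max hξ₁w
    rw [hξ₁] at hdim1
    exact hdim1

end Groth.Agent.Lib.Helper21.EquiSub
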