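import Groth.Agent.Lib.Helper21.EquiSub7

/-!
# Quasi-sections of equidimensional morphisms (EGA IV 14.5-style): preparations
-/

set_option autoImplicit false
set_option linter.style.haveILetI false
set_option linter.unusedSectionVars false
universe u

open AlgebraicGeometry CategoryTheory Limits TopologicalSpace IsLocalRing

namespace Groth.Agent.Lib.Helper21.EquiSub

open Groth.Agent.Lib.Helper21.FibDim

/-- in a Noetherian local ring `R` with an ideal `J` such that `dim R/J = e`, there is a prime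
of height at most `e` whose sum with `J` is primary to the maximal ideal -/
theorem exists_prime_height_le_of_quotient_dim (R : Type u) [CommRing R] [IsLocalRing R]
    [IsNoetherianRing R] (J : Ideal R) (hJ : J ≤ maximalIdeal R) (e : ℕ)
    (he : ringKrullDim (R ⧸ J) = e) :
    ∃ 𝔭 : Ideal R, 𝔭.IsPrime ∧ 𝔭.height ≤ e ∧
      ∀ 𝔮 : Ideal R, 𝔮.IsPrime → 𝔭 ≤ 𝔮 → J ≤ 𝔮 → 𝔮 = maximalIdeal R := by
  haveI : Nontrivial (R ⧸ J) :=
    Ideal.Quotient.nontrivial_iff.mpr (fun h => (maximalIdeal.isMaximal R).ne_top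
      (top_le_iff.mp (h ▸ hJ)))
  haveI : IsLocalRing (R ⧸ J) :=
    IsLocalRing.of_surjective' (Ideal.Quotient.mk J) Ideal.Quotient.mk_surjective
  have hht : (maximalIdeal (R ⧸ J)).height = e := by
    have h1 := IsLocalRing.maximalIdeal_height_eq_ringKrullDim (R := R ⧸ J)
    rw [he] at h1
    exact_mod_cast h1
  obtain ⟨s', hs'min, hs'card⟩ :=
    Ideal.exists_finset_card_eq_height_of_isNoetherianRing (maximalIdeal (R ⧸ J))
  classical
  let σ : R ⧸ J → R := Function.surjInv Ideal.Quotient.mk_surjective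
  have hσ : ∀ a, Ideal.Quotient.mk J (σ a) = a := Function.surjInv_eq _
  let s : Finset R := s'.image σ
  have hscard : s.card ≤ e := by
    have h1 : (s.card : ℕ∞) ≤ s'.card := by exact_mod_cast Finset.card_image_le
    rw [hs'card, hht] at h1
    exact_mod_cast h1
  have hspan : Ideal.span (s' : Set (R ⧸ J)) ≤ (Ideal.span (s : Set R)).map (Ideal.Quotient.mk J) := by
    rw [Ideal.span_le]
    intro a ha
    rw [← hσ a]
    apply Ideal.mem_map_of_mem
    apply Ideal.subset_span
    exact Finset.mem_image_of_mem σ ha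
  have hsm : Ideal.span (s : Set R) ≤ maximalIdeal R := by
    rw [Ideal.span_le]
    intro r hr
    obtain ⟨a, ha, rfl⟩ := Finset.mem_image.mp hr
    have h1 : a ∈ maximalIdeal (R ⧸ J) := hs'min.1.2 (Ideal.subset_span ha)
    by_contra hnot
    have hu : IsUnit (σ a) := by
      by_contra hnu
      exact hnot ((IsLocalRing.mem_maximalIdeal _).mpr hnu)
    have hu' : IsUnit (Ideal.Quotient.mk J (σ a)) := hu.map _
    rw [hσ a] at hu'
    exact (IsLocalRing.mem_maximalIdeal _).mp h1 hu'
  obtain ⟨𝔭, h𝔭min, h𝔭le⟩ := Ideal.exists_minimalPrimes_le hsm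
  haveI h𝔭prime : 𝔭.IsPrime := h𝔭min.1.1
  refine ⟨𝔭, h𝔭prime, ?_, ?_⟩
  · have := Ideal.height_le_card_of_mem_minimalPrimes_span_finset h𝔭min
    exact this.trans (by exact_mod_cast hscard)
  · intro 𝔮 h𝔮 h𝔭𝔮 hJ𝔮
    haveI := h𝔮
    have hker : RingHom.ker (Ideal.Quotient.mk J) ≤ 𝔮 := by
      rw [Ideal.mk_ker]; exact hJ𝔮
    haveI hq'prime : (𝔮.map (Ideal.Quotient.mk J)).IsPrime :=
      Ideal.map_isPrime_of_surjective Ideal.Quotient.mk_surjective hker
    have h1 : Ideal.span (s' : Set (R ⧸ J)) ≤ 𝔮.map (Ideal.Quotient.mk J) :=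
      hspan.trans (Ideal.map_mono (h𝔭min.1.2.trans h𝔭𝔮))
    have h2 : 𝔮.map (Ideal.Quotient.mk J) ≤ maximalIdeal (R ⧸ J) :=
      IsLocalRing.le_maximalIdeal hq'prime.ne_top
    have h3 : maximalIdeal (R ⧸ J) ≤ 𝔮.map (Ideal.Quotient.mk J) :=
      hs'min.2 ⟨hq'prime, h1⟩ h2
    have h4 : 𝔮 = (𝔮.map (Ideal.Quotient.mk J)).comap (Ideal.Quotient.mk J) := by
      rw [Ideal.comap_map_of_surjective _ Ideal.Quotient.mk_surjective]
      apply le_antisymm le_sup_left
      apply sup_le le_rfl
      rw [← RingHom.ker_eq_comap_bot]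
      exact hker
    apply le_antisymm (IsLocalRing.le_maximalIdeal h𝔮.ne_top)
    intro r hr
    rw [h4, Ideal.mem_comap]
    apply h3
    rw [IsLocalRing.mem_maximalIdeal] at hr ⊢
    intro hu
    apply hr
    -- a lift of a unit of the quotient of a local ring is a unit
    by_contra hnu
    have hrm : r ∈ maximalIdeal R := (IsLocalRing.mem_maximalIdeal _).mpr hnu
    have : Ideal.Quotient.mk J r ∈ maximalIdeal (R ⧸ J) := by
      have hmap : (maximalIdeal R).map (Ideal.Quotient.mk J) ≤ maximalIdeal (R ⧸ J) := by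
        apply IsLocalRing.le_maximalIdeal
        intro htop
        have h5 : (maximalIdeal R) = ((maximalIdeal R).map (Ideal.Quotient.mk J)).comap
            (Ideal.Quotient.mk J) := by
          rw [Ideal.comap_map_of_surjective _ Ideal.Quotient.mk_surjective]
          apply le_antisymm le_sup_left
          apply sup_le le_rfl
          rw [← RingHom.ker_eq_comap_bot, Ideal.mk_ker]
          exact hJ
        rw [htop, Ideal.comap_top] at h5
        exact (maximalIdeal.isMaximal R).ne_top h5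
      exact hmap (Ideal.mem_map_of_mem _ hrm)
    exact (IsLocalRing.mem_maximalIdeal _).mp this hu

end Groth.Agent.Lib.Helper21.EquiSub
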