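import Mathlib

/-!
# Frobenius-twisted polynomial rings

For a field `k` of exponential characteristic `p`, `q = p ^ e` and a finite set `C ⊆ k`, let
`k₀ = k^q(C)`.  The `q`-power map of `P = k[x]` factors through `P₀ = k₀[x]`, and `P₀` is a finite
module over `P` via this map.
-/

set_option autoImplicit false
universe u v

namespace Groth.Agent.Lib.Helper21.FJ

open MvPolynomial

variable (k : Type u) [Field k] (p : ℕ) [ExpChar k p] (e : ℕ) (σ : Type v) (C : Finset k)

/-- `k^q` as a subfield. -/
def kq : Subfield k := (iterateFrobenius k p e).fieldRange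

theorem pow_mem_kq (c : k) : c ^ p ^ e ∈ kq k p e := ⟨c, rfl⟩

/-- `k₀ = k^q(C)`. -/
def k0 : IntermediateField (kq k p e) k := IntermediateField.adjoin (kq k p e) (C : Set k)

theorem pow_mem_k0 (c : k) : c ^ p ^ e ∈ k0 k p e C :=
  (k0 k p e C).algebraMap_mem ⟨c ^ p ^ e, pow_mem_kq k p e c⟩

theorem mem_k0_of_mem {c : k} (hc : c ∈ C) : c ∈ k0 k p e C :=
  IntermediateField.subset_adjoin _ _ hc

theorem isIntegral_kq (c : k) : IsIntegral (kq k p e) c := by
  refine IsIntegral.of_pow (n := p ^ e) (expChar_pow_pos k p e) ?_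
  have h1 : c ^ p ^ e = algebraMap (kq k p e) k ⟨c ^ p ^ e, pow_mem_kq k p e c⟩ := rfl
  rw [h1]
  exact isIntegral_algebraMap

/-- Elements of `k₀` are polynomial expressions in `C` over `k^q`. -/
theorem k0_toSubalgebra : (k0 k p e C).toSubalgebra = Algebra.adjoin (kq k p e) (C : Set k) :=
  IntermediateField.adjoin_toSubalgebra_of_isAlgebraic
    (fun x _ => (isIntegral_kq k p e x).isAlgebraic)

/-- The inclusion `P₀ = k₀[x] → P = k[x]`. -/
noncomputable def incl : MvPolynomial σ (k0 k p e C) →+* MvPolynomial σ k :=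
  MvPolynomial.map (algebraMap (k0 k p e C) k)

theorem incl_injective : Function.Injective (incl k p e σ C) :=
  MvPolynomial.map_injective _ (algebraMap (k0 k p e C) k).injective

/-- `c ↦ c^q` as a map `k → k₀`. -/
noncomputable def frobK : k →+* k0 k p e C :=
  (iterateFrobenius k p e).codRestrict (k0 k p e C).toSubfield.toSubring
    (fun c => pow_mem_k0 k p e C c)

theorem coe_frobK (c : k) : ((frobK k p e C c : k0 k p e C) : k) = c ^ p ^ e := rfl

/-- The `q`-power map `P → P₀`. -/
noncomputable def frobP : MvPolynomial σ k →+* MvPolynomial σ (k0 k p e C) :=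
  MvPolynomial.eval₂Hom (MvPolynomial.C.comp (frobK k p e C)) (fun i => X i ^ p ^ e)

theorem incl_frobP (f : MvPolynomial σ k) : incl k p e σ C (frobP k p e σ C f) = f ^ p ^ e := by
  have h : (incl k p e σ C).comp (frobP k p e σ C) = iterateFrobenius (MvPolynomial σ k) p e := by
    apply MvPolynomial.ringHom_ext
    · intro c
      simp only [RingHom.comp_apply, frobP, incl, MvPolynomial.coe_eval₂Hom, MvPolynomial.eval₂_C,
        MvPolynomial.map_C, iterateFrobenius_def]
      rw [← map_pow]
      rfl
    · intro i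
      simp only [RingHom.comp_apply, frobP, incl, MvPolynomial.coe_eval₂Hom, MvPolynomial.eval₂_X,
        map_pow, MvPolynomial.map_X, iterateFrobenius_def]
  have := congrArg (fun g => g f) h
  simpa [iterateFrobenius_def] using this

theorem frobP_incl (g : MvPolynomial σ (k0 k p e C)) :
    frobP k p e σ C (incl k p e σ C g) = g ^ p ^ e := by
  apply incl_injective k p e σ C
  rw [incl_frobP, map_pow]

/-- `P₀` as a `P`-algebra via the `q`-power map. -/
@[reducible] noncomputable def algP0 : Algebra (MvPolynomial σ k) (MvPolynomial σ (k0 k p e C)) :=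
  (frobP k p e σ C).toAlgebra

attribute [local instance] algP0

theorem algebraMap_P0 (f : MvPolynomial σ k) :
    algebraMap (MvPolynomial σ k) (MvPolynomial σ (k0 k p e C)) f = frobP k p e σ C f := rfl

theorem isIntegral_P0 (g : MvPolynomial σ (k0 k p e C)) : IsIntegral (MvPolynomial σ k) g := by
  refine IsIntegral.of_pow (n := p ^ e) (expChar_pow_pos k p e) ?_
  rw [← frobP_incl]
  exact isIntegral_algebraMap

/-- `P₀` is generated as a `P`-algebra by the variables and the constants in `C`. -/
theorem adjoin_eq_top :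
    Algebra.adjoin (MvPolynomial σ k)
      (Set.range (X : σ → MvPolynomial σ (k0 k p e C)) ∪
        (fun c : k0 k p e C => (MvPolynomial.C c : MvPolynomial σ (k0 k p e C))) ''
          {c | (c : k) ∈ C}) = ⊤ := by
  set S := Set.range (X : σ → MvPolynomial σ (k0 k p e C)) ∪
        (fun c : k0 k p e C => (MvPolynomial.C c : MvPolynomial σ (k0 k p e C))) ''
          {c | (c : k) ∈ C} with hS
  rw [eq_top_iff]
  intro g _
  -- constants
  have hconst : ∀ (a : k) (ha : a ∈ k0 k p e C),
      (MvPolynomial.C (⟨a, ha⟩ : k0 k p e C) : MvPolynomial σ (k0 k p e C)) ∈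
        Algebra.adjoin (MvPolynomial σ k) S := by
    intro a ha
    have ha' : a ∈ Algebra.adjoin (kq k p e) (C : Set k) := by
      rw [← k0_toSubalgebra]
      exact ha
    have hle : Algebra.adjoin (kq k p e) (C : Set k) ≤ (k0 k p e C).toSubalgebra :=
      (k0_toSubalgebra k p e C).ge
    induction ha' using Algebra.adjoin_induction with
    | mem x hx =>
      exact Algebra.subset_adjoin (Or.inr ⟨⟨x, ha⟩, hx, rfl⟩)
    | algebraMap r =>
      obtain ⟨r, c, rfl⟩ := r
      have h1 : (MvPolynomial.C (⟨algebraMap (kq k p e) k ⟨iterateFrobenius k p e c, ⟨c, rfl⟩⟩, ha⟩ :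
          k0 k p e C) : MvPolynomial σ (k0 k p e C)) =
          algebraMap (MvPolynomial σ k) (MvPolynomial σ (k0 k p e C)) (MvPolynomial.C c) := by
        rw [algebraMap_P0, frobP, MvPolynomial.coe_eval₂Hom, MvPolynomial.eval₂_C]
        rfl
      rw [h1]
      exact Subalgebra.algebraMap_mem _ _
    | add x y hx hy ihx ihy =>
      have hx' : x ∈ k0 k p e C := hle hx
      have hy' : y ∈ k0 k p e C := hle hy
      have h1 : (⟨x + y, ha⟩ : k0 k p e C) = ⟨x, hx'⟩ + ⟨y, hy'⟩ := rfl
      rw [h1, map_add]
      exact Subalgebra.add_mem _ (ihx hx') (ihy hy')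
    | mul x y hx hy ihx ihy =>
      have hx' : x ∈ k0 k p e C := hle hx
      have hy' : y ∈ k0 k p e C := hle hy
      have h1 : (⟨x * y, ha⟩ : k0 k p e C) = ⟨x, hx'⟩ * ⟨y, hy'⟩ := rfl
      rw [h1, map_mul]
      exact Subalgebra.mul_mem _ (ihx hx') (ihy hy')
  induction g using MvPolynomial.induction_on with
  | C a => exact hconst a.1 a.2
  | add f g hf hg => exact Subalgebra.add_mem _ (hf trivial) (hg trivial)
  | mul_X f i hf =>
    exact Subalgebra.mul_mem _ (hf trivial) (Algebra.subset_adjoin (Or.inl ⟨i, rfl⟩))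

/-- `P₀ = k₀[x]` is a finite module over `P = k[x]` via the `q`-power map. -/
theorem finite_P0 [Finite σ] : Module.Finite (MvPolynomial σ k) (MvPolynomial σ (k0 k p e C)) := by
  have hfin : (Set.range (X : σ → MvPolynomial σ (k0 k p e C)) ∪
        (fun c : k0 k p e C => (MvPolynomial.C c : MvPolynomial σ (k0 k p e C))) ''
          {c | (c : k) ∈ C}).Finite := by
    refine (Set.finite_range _).union (Set.Finite.image _ ?_)
    have : {c : k0 k p e C | (c : k) ∈ C} = Subtype.val ⁻¹' (C : Set k) := rfl
    rw [this]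
    exact (C.finite_toSet).preimage Subtype.val_injective.injOn
  have h1 := fg_adjoin_of_finite hfin (fun x _ => isIntegral_P0 k p e σ C x)
  rw [adjoin_eq_top] at h1
  exact ⟨by simpa using h1⟩

end Groth.Agent.Lib.Helper21.FJ
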