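import Groth.Agent.Lib.Helper21.FJ1

/-!
# Polynomial rings over a field: finiteness of the integral closure in a finite purely inseparable
extension of the fraction field
-/

set_option autoImplicit false
set_option linter.style.haveILetI false
universe u v

namespace Groth.Agent.Lib.Helper21.FJ

open MvPolynomial

variable (k : Type u) [Field k] (p : ℕ) [ExpChar k p] (e : ℕ) (σ : Type v) (C : Finset k)

section Key

variable (L : Type u) [Field L] [Algebra (MvPolynomial σ k) L]
  (hinj : Function.Injective (algebraMap (MvPolynomial σ k) L))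

/-- `ψ : P₀ → P → L`. -/
noncomputable def psi : MvPolynomial σ (k0 k p e C) →+* L :=
  (algebraMap (MvPolynomial σ k) L).comp (incl k p e σ C)

include hinj in
theorem psi_injective : Function.Injective (psi k p e σ C L) :=
  hinj.comp (incl_injective k p e σ C)

theorem psi_frobP (f : MvPolynomial σ k) :
    psi k p e σ C L (frobP k p e σ C f) = algebraMap (MvPolynomial σ k) L f ^ p ^ e := by
  rw [psi, RingHom.comp_apply, incl_frobP, map_pow]

/-- The fraction field of `P₀` inside `L`. -/
noncomputable def Q0 : Subfield L :=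
  (IsFractionRing.lift (K := FractionRing (MvPolynomial σ (k0 k p e C)))
    (psi_injective k p e σ C L hinj)).fieldRange

theorem psi_mem_Q0 (g : MvPolynomial σ (k0 k p e C)) : psi k p e σ C L g ∈ Q0 k p e σ C L hinj :=
  ⟨algebraMap _ _ g, IsFractionRing.lift_algebraMap _ g⟩

/-- An element of the fraction field of `P₀` (inside `L`) which is integral over `P` lies in
`P₀`. -/
theorem exists_psi_eq_of_isIntegral [Finite σ] (a : L) (ha : IsIntegral (MvPolynomial σ k) a)
    (haQ : a ∈ Q0 k p e σ C L hinj) : ∃ g : MvPolynomial σ (k0 k p e C), psi k p e σ C L g = a := by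
  letI : Algebra (MvPolynomial σ (k0 k p e C)) (MvPolynomial σ k) := (incl k p e σ C).toAlgebra
  letI : Algebra (MvPolynomial σ (k0 k p e C)) L := (psi k p e σ C L).toAlgebra
  haveI : IsScalarTower (MvPolynomial σ (k0 k p e C)) (MvPolynomial σ k) L :=
    IsScalarTower.of_algebraMap_eq (fun _ => rfl)
  haveI hPint : Algebra.IsIntegral (MvPolynomial σ (k0 k p e C)) (MvPolynomial σ k) :=
    ⟨fun f => IsIntegral.of_pow (n := p ^ e) (expChar_pow_pos k p e) (by
      rw [← incl_frobP k p e σ C f]
      exact isIntegral_algebraMap)⟩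
  have h1 : IsIntegral (MvPolynomial σ (k0 k p e C)) a := isIntegral_trans a ha
  obtain ⟨y, hy⟩ := haQ
  have hΛ := IsFractionRing.lift_algebraMap
    (K := FractionRing (MvPolynomial σ (k0 k p e C))) (psi_injective k p e σ C L hinj)
  have h2 : IsIntegral (MvPolynomial σ (k0 k p e C)) y := by
    obtain ⟨f, hfm, hf⟩ := h1
    refine ⟨f, hfm, ?_⟩
    apply (IsFractionRing.lift (K := FractionRing (MvPolynomial σ (k0 k p e C)))
      (psi_injective k p e σ C L hinj)).injective
    rw [map_zero, Polynomial.hom_eval₂, hy, ← hf]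
    congr 1
    exact RingHom.ext hΛ
  obtain ⟨g, hg⟩ := IsIntegrallyClosed.isIntegral_iff.mp h2
  exact ⟨g, by rw [← hΛ, hg, hy]⟩

end Key

/-- **Finiteness in the purely inseparable case** for polynomial rings over a field. -/
theorem finite_integralClosure_of_isPurelyInseparable [Finite σ]
    (K : Type u) [Field K] [Algebra (MvPolynomial σ k) K] [IsFractionRing (MvPolynomial σ k) K]
    (L : Type u) [Field L] [Algebra (MvPolynomial σ k) L] [Algebra K L]
    [IsScalarTower (MvPolynomial σ k) K L] [FiniteDimensional K L] [IsPurelyInseparable K L] :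
    Module.Finite (MvPolynomial σ k) (integralClosure (MvPolynomial σ k) L) := by
  classical
  obtain ⟨p, hp⟩ := ExpChar.exists k
  haveI : ExpChar k p := hp
  haveI : ExpChar K p :=
    expChar_of_injective_algebraMap (IsFractionRing.injective (MvPolynomial σ k) K) p
  haveI : ExpChar L p := expChar_of_injective_algebraMap (algebraMap K L).injective p
  have hinj : Function.Injective (algebraMap (MvPolynomial σ k) L) := by
    rw [IsScalarTower.algebraMap_eq (MvPolynomial σ k) K L]
    exact (algebraMap K L).injective.comp (IsFractionRing.injective (MvPolynomial σ k) K)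
  set e := IsPurelyInseparable.exponent K L with he
  have hexp : ∀ a : L, a ^ p ^ e ∈ (algebraMap K L).range :=
    IsPurelyInseparable.exponent_def' K p
  let b := Module.finBasis K L
  have h1 : ∀ i, ∃ n d : MvPolynomial σ k, d ≠ 0 ∧
      (b i) ^ p ^ e * algebraMap (MvPolynomial σ k) L d = algebraMap (MvPolynomial σ k) L n := by
    intro i
    obtain ⟨κ, hκ⟩ := hexp (b i)
    obtain ⟨n, d, hd, rfl⟩ := IsFractionRing.div_surjective (MvPolynomial σ k) κ
    have hd0 : d ≠ 0 := nonZeroDivisors.ne_zero hd
    refine ⟨n, d, hd0, ?_⟩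
    have hdK : algebraMap (MvPolynomial σ k) K d ≠ 0 := by
      rw [Ne, FaithfulSMul.algebraMap_eq_zero_iff]
      exact hd0
    rw [← hκ, IsScalarTower.algebraMap_apply (MvPolynomial σ k) K L d,
      IsScalarTower.algebraMap_apply (MvPolynomial σ k) K L n, ← map_mul, div_mul_cancel₀ _ hdK]
  choose nn dd hdd hnd using h1
  let C : Finset k := Finset.univ.biUnion (fun i => (nn i).coeffs ∪ (dd i).coeffs)
  have hCn : ∀ i, ∃ n' : MvPolynomial σ (k0 k p e C), incl k p e σ C n' = nn i := by
    intro i
    apply MvPolynomial.mem_range_map_iff_coeffs_subset.mpr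
    intro c hc
    have hcC : c ∈ C := Finset.mem_biUnion.mpr ⟨i, Finset.mem_univ _, Finset.mem_union_left _ hc⟩
    exact ⟨⟨c, mem_k0_of_mem k p e C hcC⟩, rfl⟩
  have hCd : ∀ i, ∃ d' : MvPolynomial σ (k0 k p e C), incl k p e σ C d' = dd i := by
    intro i
    apply MvPolynomial.mem_range_map_iff_coeffs_subset.mpr
    intro c hc
    have hcC : c ∈ C := Finset.mem_biUnion.mpr ⟨i, Finset.mem_univ _, Finset.mem_union_right _ hc⟩
    exact ⟨⟨c, mem_k0_of_mem k p e C hcC⟩, rfl⟩
  -- `q`-th powers land in the fraction field of `P₀`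
  have hKq : ∀ x : K, (algebraMap K L x) ^ p ^ e ∈ Q0 k p e σ C L hinj := by
    intro x
    obtain ⟨u, v, hv, rfl⟩ := IsFractionRing.div_surjective (MvPolynomial σ k) x
    rw [map_div₀, div_pow, ← IsScalarTower.algebraMap_apply, ← IsScalarTower.algebraMap_apply,
      ← psi_frobP, ← psi_frobP]
    exact (Q0 k p e σ C L hinj).div_mem (psi_mem_Q0 k p e σ C L hinj _)
      (psi_mem_Q0 k p e σ C L hinj _)
  have hbq : ∀ i, (b i) ^ p ^ e ∈ Q0 k p e σ C L hinj := by
    intro i
    obtain ⟨n', hn'⟩ := hCn i
    obtain ⟨d', hd'⟩ := hCd i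
    have hdL : algebraMap (MvPolynomial σ k) L (dd i) ≠ 0 := by
      rw [Ne, map_eq_zero_iff _ hinj]
      exact hdd i
    have h2 : (b i) ^ p ^ e = psi k p e σ C L n' / psi k p e σ C L d' := by
      rw [psi, RingHom.comp_apply, RingHom.comp_apply, hn', hd', eq_div_iff hdL]
      exact hnd i
    rw [h2]
    exact (Q0 k p e σ C L hinj).div_mem (psi_mem_Q0 k p e σ C L hinj _)
      (psi_mem_Q0 k p e σ C L hinj _)
  have hLq : ∀ a : L, a ^ p ^ e ∈ Q0 k p e σ C L hinj := by
    intro a
    rw [← b.sum_repr a, sum_pow_char_pow]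
    refine (Q0 k p e σ C L hinj).sum_mem (fun i _ => ?_)
    rw [Algebra.smul_def, mul_pow]
    exact (Q0 k p e σ C L hinj).mul_mem (hKq _) (hbq i)
  have hkey : ∀ a : integralClosure (MvPolynomial σ k) L,
      ∃ g : MvPolynomial σ (k0 k p e C), psi k p e σ C L g = (a : L) ^ p ^ e := fun a =>
    exists_psi_eq_of_isIntegral k p e σ C L hinj _ (a.2.pow _) (hLq a)
  choose Φ hΦ using hkey
  have hψinj := psi_injective k p e σ C L hinj
  letI := algP0 k p e σ C
  haveI := finite_P0 k p e σ C
  haveI : IsNoetherian (MvPolynomial σ k) (MvPolynomial σ (k0 k p e C)) :=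
    isNoetherian_of_isNoetherianRing_of_finite _ _
  let Φl : integralClosure (MvPolynomial σ k) L →ₗ[MvPolynomial σ k]
      MvPolynomial σ (k0 k p e C) :=
    { toFun := Φ
      map_add' := fun a a' => by
        apply hψinj
        rw [map_add, hΦ, hΦ, hΦ]
        change ((a : L) + (a' : L)) ^ p ^ e = _
        exact add_pow_expChar_pow _ _ _ _
      map_smul' := fun f a => by
        apply hψinj
        have hR : (RingHom.id (MvPolynomial σ k)) f • Φ a = frobP k p e σ C f * Φ a := by
          rw [RingHom.id_apply, Algebra.smul_def, algebraMap_P0]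
        have hL : ((f • a : integralClosure (MvPolynomial σ k) L) : L) =
            algebraMap (MvPolynomial σ k) L f * (a : L) := by
          rw [Subalgebra.coe_smul, Algebra.smul_def]
        rw [hΦ, hR, map_mul, hΦ, psi_frobP, hL, mul_pow] }
  refine Module.Finite.of_injective Φl ?_
  intro a a' haa'
  have h3 : (a : L) ^ p ^ e = (a' : L) ^ p ^ e := by
    rw [← hΦ a, ← hΦ a']
    exact congrArg _ haa'
  exact Subtype.ext (iterateFrobenius_inj L p e h3)

end Groth.Agent.Lib.Helper21.FJ
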