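import Groth.Agent.Lib.Helper21.FJ2
import Groth.Agent.Lib.Helper11.Japanese
import Groth.Agent.S4562

/-!
# Fields are universally Japanese

Every domain of finite type over a field is N-2: the integral closure in any finite extension of
the fraction field is a finite module.
-/

set_option autoImplicit false
set_option linter.style.haveILetI false
universe u v

namespace Groth.Agent.Lib.Helper21.FJ

open CAlg

/-- Polynomial rings over a field are N-2. -/
theorem isN2_mvPolynomial (k : Type u) [Field k] (σ : Type) [Finite σ] :
    IsN2 (MvPolynomial σ k) := by
  apply Groth.Agent.S4562.result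
  intro K' _ _ _ _ hfd hpi
  exact finite_integralClosure_of_isPurelyInseparable k σ (FractionRing (MvPolynomial σ k)) K'

open scoped nonZeroDivisors in
/-- Domains of finite type over a field are N-1. -/
theorem isN1_of_finiteType (k : Type u) [Field k] (A : Type u) [CommRing A] [IsDomain A]
    [Algebra k A] [Algebra.FiniteType k A] : IsN1 A := by
  obtain ⟨s, g, hginj, hgfin⟩ := exists_finite_inj_algHom_of_fg k A
  letI algPA : Algebra (MvPolynomial (Fin s) k) A := g.toRingHom.toAlgebra
  haveI : Module.Finite (MvPolynomial (Fin s) k) A := hgfin
  haveI : FaithfulSMul (MvPolynomial (Fin s) k) A :=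
    (faithfulSMul_iff_algebraMap_injective _ _).mpr hginj
  haveI hint : Algebra.IsIntegral (MvPolynomial (Fin s) k) A := Algebra.IsIntegral.of_finite _ _
  haveI : IsScalarTower (MvPolynomial (Fin s) k) A (FractionRing A) := inferInstance
  haveI : FaithfulSMul (MvPolynomial (Fin s) k) (FractionRing A) := inferInstance
  letI := FractionRing.liftAlgebra (MvPolynomial (Fin s) k) (FractionRing A)
  haveI := FractionRing.isScalarTower_liftAlgebra (MvPolynomial (Fin s) k) (FractionRing A)
  haveI : FiniteDimensional (FractionRing (MvPolynomial (Fin s) k)) (FractionRing A) :=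
    Module.Finite.of_isLocalization (MvPolynomial (Fin s) k) A (MvPolynomial (Fin s) k)⁰
  have h1 : Module.Finite (MvPolynomial (Fin s) k)
      (integralClosure (MvPolynomial (Fin s) k) (FractionRing A)) :=
    Groth.Agent.Lib.Helper11.Japanese.IsN2.finite (isN2_mvPolynomial k (Fin s))
      (FractionRing (MvPolynomial (Fin s) k)) (FractionRing A)
  -- compare the two integral closures
  let φ : integralClosure (MvPolynomial (Fin s) k) (FractionRing A) →ₗ[MvPolynomial (Fin s) k]
      integralClosure A (FractionRing A) :=
    { toFun := fun x => ⟨x.1, x.2.tower_top⟩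
      map_add' := fun _ _ => rfl
      map_smul' := fun _ _ => rfl }
  have hφ : Function.Surjective φ := fun x =>
    ⟨⟨x.1, isIntegral_trans (R := MvPolynomial (Fin s) k) (A := A) x.1 x.2⟩, rfl⟩
  have h2 : Module.Finite (MvPolynomial (Fin s) k) (integralClosure A (FractionRing A)) :=
    Module.Finite.of_surjective φ hφ
  exact Module.Finite.of_restrictScalars_finite (MvPolynomial (Fin s) k) A _

/-- **Fields are universally Japanese.** -/
theorem isUniversallyJapanese_field (k : Type u) [Field k] : IsUniversallyJapanese k :=
  Groth.Agent.Lib.Helper11.Japanese.isUniversallyJapanese_of_forall_isN1 k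
    (fun S _ _ _ hS => by
      haveI := hS
      exact isN1_of_finiteType k S)

/-- Finiteness of the integral closure for domains of finite type over a field. -/
theorem finite_integralClosure (k A K L : Type u) [Field k] [CommRing A] [IsDomain A]
    [Algebra k A] [Algebra.FiniteType k A] [Field K] [Field L] [Algebra A K] [IsFractionRing A K]
    [Algebra K L] [FiniteDimensional K L] [Algebra A L] [IsScalarTower A K L] :
    Module.Finite A (integralClosure A L) :=
  Groth.Agent.Lib.Helper11.Japanese.IsN2.finite (isUniversallyJapanese_field k A inferInstance) K L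

end Groth.Agent.Lib.Helper21.FJ
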