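import Mathlib

/-!
# Fibrations (`O_Y ≅ f_* O_X`) are stable under flat base change
-/

set_option autoImplicit false
universe u
open CategoryTheory AlgebraicGeometry Opposite TopologicalSpace CategoryTheory.Limits TopCat

namespace Groth.Agent.Lib.Helper21.FibBC

/-- a morphism of sheaves of rings which is bijective on a basis is bijective on all opens -/
theorem app_bijective_of_isBasis {X : TopCat.{u}} {F G : TopCat.Sheaf CommRingCat.{u} X} (f : F ⟶ G)
    {B : Set (Opens X)} (hB : Opens.IsBasis B)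
    (h : ∀ U ∈ B, Function.Bijective (f.1.app (op U))) (U : Opens X) :
    Function.Bijective (f.1.app (op U)) := by
  apply TopCat.Presheaf.app_bijective_of_stalkFunctor_map_bijective
  intro x _
  constructor
  · exact TopCat.Presheaf.stalkFunctor_map_injective_of_isBasis hB (fun U hU => (h U hU).1) x
  · intro t
    obtain ⟨V, hxV, hV, s, rfl⟩ := TopCat.Presheaf.exists_mem_germ_eq_of_isBasis hB G.1 x t
    obtain ⟨s', rfl⟩ := (h V hV).2 s
    refine ⟨F.presheaf.germ V x hxV s', ?_⟩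
    rw [TopCat.Presheaf.stalkFunctor_map_germ_apply]

/-- If `O_Y → f_* O_X` is an isomorphism for a qcqs morphism `f : X ⟶ Y` and `g : Z ⟶ Y` is flat,
then `O_Z → q_* O_P` is an isomorphism for the base change `q : P = X ×_Y Z ⟶ Z`. -/
theorem isIso_app_of_isPullback_of_flat {X Y Z P : Scheme.{u}} {f : X ⟶ Y} {g : Z ⟶ Y}
    {p : P ⟶ X} {q : P ⟶ Z} (H : IsPullback p q f g) [QuasiCompact f] [QuasiSeparated f] [Flat g]
    (hfib : ∀ V : Y.Opens, IsIso (f.app V)) (W : Z.Opens) : IsIso (q.app W) := by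
  let B : Set Z.Opens := {W | IsAffineOpen W ∧ ∃ V : Y.Opens, IsAffineOpen V ∧ W ≤ g ⁻¹ᵁ V}
  have hB : Opens.IsBasis B := by
    rw [Opens.isBasis_iff_nbhd]
    intro W x hx
    obtain ⟨V, hV, hxV, -⟩ := Opens.isBasis_iff_nbhd.mp Y.isBasis_affineOpens
      (show g.base x ∈ (⊤ : Y.Opens) from trivial)
    have hx' : x ∈ g ⁻¹ᵁ V ⊓ W := ⟨hxV, hx⟩
    obtain ⟨W', hW', hxW', hW'le⟩ := Opens.isBasis_iff_nbhd.mp Z.isBasis_affineOpens hx'
    exact ⟨W', ⟨hW', V, hV, hW'le.trans inf_le_left⟩, hxW', hW'le.trans inf_le_right⟩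
  have step1 : ∀ W ∈ B, Function.Bijective (q.app W) := by
    rintro W ⟨hW, V, hV, hWV⟩
    have hUY : q ⁻¹ᵁ W = p ⁻¹ᵁ (f ⁻¹ᵁ V) ⊓ q ⁻¹ᵁ W := by
      apply le_antisymm (le_inf ?_ le_rfl) inf_le_right
      rw [← Scheme.Hom.comp_preimage, H.w, Scheme.Hom.comp_preimage]
      exact fun x hx => hWV hx
    have h1 := isIso_pushoutSection_of_isQuasiSeparated_of_flat_right H
      (US := V) (UT := W) (UX := f ⁻¹ᵁ V) (UY := q ⁻¹ᵁ W) hWV le_rfl hUY hV hW
      (f.isCompact_preimage hV.isCompact) (f.isQuasiSeparated_preimage hV.isQuasiSeparated)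
    rw [isIso_pushoutSection_iff] at h1
    haveI : IsIso (f.appLE V (f ⁻¹ᵁ V) le_rfl) := by
      rw [Scheme.Hom.appLE_eq_app]; exact hfib V
    have h2 := h1.isIso_inr_of_isIso
    have h3 : q.appLE W (q ⁻¹ᵁ W) le_rfl = q.app W := Scheme.Hom.appLE_eq_app q
    rw [h3] at h2
    exact ConcreteCategory.bijective_of_isIso (q.app W)
  let φ : Z.sheaf ⟶ (TopCat.Sheaf.pushforward CommRingCat q.base).obj P.sheaf := ⟨q.c⟩
  have h4 : Function.Bijective (q.app W) := app_bijective_of_isBasis φ hB step1 W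
  exact (ConcreteCategory.isIso_iff_bijective _).mpr h4

end Groth.Agent.Lib.Helper21.FibBC
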