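import Groth.Agent.Lib.Helper21.FibDim12

/-!
# The flat dimension formula with the fibre local ring; local dimension for flat morphisms of
relative dimension `d`
-/

set_option autoImplicit false
set_option linter.style.haveILetI false
set_option linter.unusedSectionVars false
universe u

open AlgebraicGeometry CategoryTheory Limits TopologicalSpace

namespace Groth.Agent.Lib.Helper21.FibDim

/-- **Flat lower bound**: `dim O_{Y,y} + dim O_{X_y,x} ≤ dim O_{X,x}` for a flat morphism -/
theorem add_le_ringKrullDim_stalk_of_flat {X Y : Scheme.{u}} (f : X ⟶ Y) [Flat f] (x : X)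
    (b c : ℕ) (hb : ringKrullDim ((f.fiber (f x)).presheaf.stalk (f.asFiber x)) = b)
    (hc : ringKrullDim (Y.presheaf.stalk (f x)) = c) :
    ((c + b : ℕ) : WithBot ℕ∞) ≤ ringKrullDim (X.presheaf.stalk x) := by
  rw [ringKrullDim_stalk_eq_coheight] at hb hc ⊢
  have hb' : Order.coheight (f.asFiber x) = (b : ℕ∞) := by exact_mod_cast hb
  have hc' : Order.coheight (f x) = (c : ℕ∞) := by exact_mod_cast hc
  obtain ⟨p, hp1, hp2⟩ := Order.exists_series_of_coheight_eq_coe (f.asFiber x) hb'
  obtain ⟨q, hq1, hq2⟩ := Order.exists_series_of_coheight_eq_coe (f x) hc'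
  have hmono : StrictMono (f.fiberι (f x)) := by
    intro z z' hzz'
    have h1 : z' ⤳ z := hzz'.le
    have h2 : ¬ z ⤳ z' := hzz'.not_ge
    refine lt_of_le_not_ge (h1.map (f.fiberι (f x)).continuous) ?_
    intro (h3 : f.fiberι (f x) z ⤳ f.fiberι (f x) z')
    exact h2 ((f.fiberι (f x)).isEmbedding.isInducing.specializes_iff.mp h3)
  let P : LTSeries X := p.map (f.fiberι (f x)) hmono
  have hPhead : P.head = x := by
    change f.fiberι (f x) p.head = x
    rw [hp1, Scheme.Hom.fiberι_asFiber]
  have hw : f P.last = q.head := by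
    rw [hq1]
    exact (f.fiberHomeo (f x) p.last).2
  obtain ⟨q', hq'1, hq'2⟩ := Groth.Agent.Lib.Helper14.AS.exists_ltSeries_of_generalizingMap f
    f.continuous (Flat.generalizingMap f) q P.last hw
  have hlen := Order.length_le_coheight_head (p := P.smash q' hq'1.symm)
  rw [RelSeries.head_smash, hPhead] at hlen
  have h4 : (P.smash q' hq'1.symm).length = c + b := by
    rw [RelSeries.smash_length, hq'2, hq2]
    change p.length + c = c + b
    rw [hp2, add_comm]
  rw [h4] at hlen
  exact_mod_cast hlen


/-- **Flat dimension formula**: `dim O_{X,x} = dim O_{Y,y} + dim O_{X_y,x}` for a flat morphism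
locally of finite type over a locally Noetherian base -/
theorem ringKrullDim_stalk_eq_add_fibre_of_flat {X Y : Scheme.{u}} (f : X ⟶ Y) [Flat f]
    [LocallyOfFiniteType f] [IsLocallyNoetherian Y] (x : X) :
    ringKrullDim (X.presheaf.stalk x) = ringKrullDim (Y.presheaf.stalk (f x)) +
      ringKrullDim ((f.fiber (f x)).presheaf.stalk (f.asFiber x)) := by
  apply le_antisymm (ringKrullDim_stalk_le_add_fibre f x)
  obtain ⟨a, b, -, hb, -⟩ := exists_fibreDimAt_eq_add f x
  obtain ⟨c, hc⟩ := Groth.Agent.Lib.Helper18.SerreReg.exists_ringKrullDim_eq_nat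
    (Y.presheaf.stalk (f x))
  have := add_le_ringKrullDim_stalk_of_flat f x b c hb hc
  rw [hb, hc]
  exact_mod_cast this

/-- the dimension of an open subset of a scheme is the supremum of the dimensions of the local
rings at its points -/
theorem topologicalKrullDim_opens_eq_iSup_stalk {X : Scheme.{u}} (U : X.Opens) :
    topologicalKrullDim ↥(U : Set X) = ⨆ u : U, ringKrullDim (X.presheaf.stalk u.1) := by
  have h1 := Groth.Agent.Lib.Helper14.AS.topologicalKrullDim_eq_iSup_stalk U.toScheme
  refine h1.trans ?_
  congr 1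
  funext u
  exact ringKrullDim_eq_of_ringEquiv (U.stalkIso u).commRingCatIsoToRingEquiv

end Groth.Agent.Lib.Helper21.FibDim
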