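import Groth.Agent.Lib.Helper21.FibDimR1

/-!
# Noether normalisation of a fibre ring `K ⊗[R] B`, lifted to `B`, for a field `K` of fractions
of a quotient of `R`
-/

set_option autoImplicit false
universe u

open Algebra TensorProduct Polynomial

namespace Groth.Agent.Lib.Helper21.FibDim

variable (R B K : Type u) [CommRing R] [CommRing B] [Algebra R B] [Field K] [Algebra R K]

/-- clearing denominators in `K ⊗[R] B` -/
theorem exists_smul_eq_one_tmul_of_frac
    (hK : ∀ k : K, ∃ r s : R, algebraMap R K s ≠ 0 ∧ k * algebraMap R K s = algebraMap R K r)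
    (c : K ⊗[R] B) : ∃ s : R, algebraMap R K s ≠ 0 ∧ ∃ b : B, s • c = (1 : K) ⊗ₜ[R] b := by
  induction c using TensorProduct.induction_on with
  | zero => exact ⟨1, by simp, 0, by simp⟩
  | tmul k b =>
    obtain ⟨r, s, hs, hrs⟩ := hK k
    refine ⟨s, hs, r • b, ?_⟩
    rw [TensorProduct.smul_tmul', Algebra.smul_def, mul_comm, hrs, ← mul_one (algebraMap R K r),
      ← Algebra.smul_def]
    exact TensorProduct.smul_tmul r (1 : K) b
  | add c₁ c₂ h₁ h₂ =>
    obtain ⟨s₁, hs₁, b₁, hb₁⟩ := h₁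
    obtain ⟨s₂, hs₂, b₂, hb₂⟩ := h₂
    refine ⟨s₁ * s₂, by rw [map_mul]; exact mul_ne_zero hs₁ hs₂, s₂ • b₁ + s₁ • b₂, ?_⟩
    rw [smul_add, mul_comm s₁ s₂, mul_smul, hb₁, mul_comm s₂ s₁, mul_smul, hb₂,
      TensorProduct.tmul_add, TensorProduct.tmul_smul, TensorProduct.tmul_smul]

/-- lifting a Noether normalisation of the fibre ring -/
theorem exists_algHom_of_finite_fiber_of_frac
    (hK : ∀ k : K, ∃ r s : R, algebraMap R K s ≠ 0 ∧ k * algebraMap R K s = algebraMap R K r)
    (d : ℕ) (g : MvPolynomial (Fin d) K →ₐ[K] K ⊗[R] B) (hg : g.toRingHom.Finite) :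
    ∃ π : MvPolynomial (Fin d) R →ₐ[R] B,
      (Algebra.TensorProduct.map (AlgHom.id K K) π).toRingHom.Finite := by
  classical
  choose r hr b hrb using fun i : Fin d =>
    exists_smul_eq_one_tmul_of_frac R B K hK (g (MvPolynomial.X i))
  let ρ : Fin d → K := fun i => algebraMap R K (r i)
  let π : MvPolynomial (Fin d) R →ₐ[R] B := MvPolynomial.aeval b
  refine ⟨π, ?_⟩
  let T := Algebra.TensorProduct.map (AlgHom.id K K) π
  let h : MvPolynomial (Fin d) K →ₐ[K] K ⊗[R] MvPolynomial (Fin d) R :=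
    MvPolynomial.aeval (fun i => (ρ i)⁻¹ ⊗ₜ[R] (MvPolynomial.X i))
  have hcomp : T.comp h = g := by
    apply MvPolynomial.algHom_ext
    intro i
    change T (h (MvPolynomial.X i)) = _
    simp only [h, MvPolynomial.aeval_X, T, Algebra.TensorProduct.map_tmul, AlgHom.coe_id, id_eq, π]
    have h1 : (ρ i)⁻¹ ⊗ₜ[R] b i = (ρ i)⁻¹ • ((1 : K) ⊗ₜ[R] b i) := by
      rw [TensorProduct.smul_tmul', smul_eq_mul, mul_one]
    rw [h1, ← hrb i]
    have h2 : r i • g (MvPolynomial.X i) = ρ i • g (MvPolynomial.X i) := by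
      rw [algebraMap_smul]
    rw [h2, smul_smul, inv_mul_cancel₀ (hr i), one_smul]
  have : T.toRingHom.comp h.toRingHom = g.toRingHom := by
    rw [← hcomp]; rfl
  exact RingHom.Finite.of_comp_finite (f := h.toRingHom) (this ▸ hg)

/-- a finite type algebra whose fibre ring `K ⊗[R] B` has dimension `d` admits a map from a
polynomial ring in `d` variables which is finite on the fibre -/
theorem exists_algHom_finite_fiber_of_ringKrullDim_of_frac [Algebra.FiniteType R B]
    (hK : ∀ k : K, ∃ r s : R, algebraMap R K s ≠ 0 ∧ k * algebraMap R K s = algebraMap R K r)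
    (d : ℕ) (hd : ringKrullDim (K ⊗[R] B) = d) :
    ∃ π : MvPolynomial (Fin d) R →ₐ[R] B,
      (Algebra.TensorProduct.map (AlgHom.id K K) π).toRingHom.Finite := by
  have hft : Algebra.FiniteType K (K ⊗[R] B) := inferInstance
  have hnt : Nontrivial (K ⊗[R] B) := by
    by_contra hcon
    rw [not_nontrivial_iff_subsingleton] at hcon
    rw [ringKrullDim_eq_bot_of_subsingleton] at hd
    exact WithBot.bot_ne_coe.symm hd.symm |>.elim
  obtain ⟨s, g, hinj, hfin⟩ := exists_finite_inj_algHom_of_fg K (K ⊗[R] B)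
  have hint : ∀ c : K ⊗[R] B, g.toRingHom.IsIntegralElem c :=
    fun c => hfin.to_isIntegral c
  have hs : ringKrullDim (K ⊗[R] B) = s :=
    Groth.Agent.Lib.Helper22.ringKrullDim_eq_of_finite_inj s g hinj hint
  have hsd : s = d := by
    rw [hd] at hs
    exact_mod_cast hs.symm
  subst hsd
  exact exists_algHom_of_finite_fiber_of_frac R B K hK s g hfin

end Groth.Agent.Lib.Helper21.FibDim
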