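import Groth.Agent.Lib.Helper21.OpenAt7

/-!
# Equidimensionality at a point from the dimension formula for an equidimensional local ring
(EGA IV 13.3.? and 14.2.3)
-/

set_option autoImplicit false
set_option linter.style.haveILetI false
set_option linter.unusedSectionVars false
universe u

open AlgebraicGeometry CategoryTheory Limits TopologicalSpace IsLocalRing

namespace Groth.Agent.Lib.Helper21.OpenAt

open Groth.Agent.Lib.Helper21.FibDim Groth.Agent.Lib.Helper21.EquiSub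
  Groth.Agent.Lib.Helper21.FourCond

variable {X Y : Scheme.{u}}

/-- a maximal point generising `x` is the image of a minimal prime of the local ring -/
theorem exists_minimalPrimes_fromSpecStalk_eq (x ξ : X) (hξx : ξ ⤳ x)
    (hξmax : ∀ ξ' : X, ξ' ⤳ ξ → ξ' = ξ) :
    ∃ (𝔭 : Ideal (X.presheaf.stalk x)) (h𝔭 : 𝔭.IsPrime), 𝔭 ∈ minimalPrimes (X.presheaf.stalk x) ∧
      X.fromSpecStalk x ⟨𝔭, h𝔭⟩ = ξ := by
  obtain ⟨P, hP⟩ : ξ ∈ Set.range (X.fromSpecStalk x) := by
    rw [Scheme.range_fromSpecStalk]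
    exact hξx
  refine ⟨P.asIdeal, P.2, ⟨⟨P.2, bot_le⟩, ?_⟩, hP⟩
  rintro Q ⟨hQ, -⟩ hQP
  let Q' : Spec (X.presheaf.stalk x) := ⟨Q, hQ⟩
  have h1 : Q' ⤳ P := (PrimeSpectrum.le_iff_specializes Q' P).mp hQP
  have h2 : X.fromSpecStalk x Q' ⤳ X.fromSpecStalk x P := h1.map (X.fromSpecStalk x).continuous
  rw [hP] at h2
  have h3 := hξmax _ h2
  rw [← hP] at h3
  have h4 : Q' = P := (X.fromSpecStalk x).isEmbedding.injective h3
  rw [← h4]

/-- every point of a locally Noetherian scheme has a maximal generisation -/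
theorem exists_maximal_specializes [IsLocallyNoetherian X] (u : X) :
    ∃ ξ : X, ξ ⤳ u ∧ ∀ ξ' : X, ξ' ⤳ ξ → ξ' = ξ := by
  obtain ⟨𝔭, h𝔭min, -⟩ := Ideal.exists_minimalPrimes_le
    (bot_le : (⊥ : Ideal (X.presheaf.stalk u)) ≤ maximalIdeal (X.presheaf.stalk u))
  haveI h𝔭p : 𝔭.IsPrime := h𝔭min.1.1
  refine ⟨X.fromSpecStalk u ⟨𝔭, h𝔭p⟩, ?_, fun ξ' h =>
    Groth.Agent.Lib.Helper21.EquidimAt.eq_of_specializes_fromSpecStalk_of_minimal u 𝔭 h𝔭min ξ' h⟩
  have : X.fromSpecStalk u ⟨𝔭, h𝔭p⟩ ∈ Set.range (X.fromSpecStalk u) := ⟨_, rfl⟩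
  rw [Scheme.range_fromSpecStalk] at this
  exact this

/-- the numerical core: under the dimension formula at `x` with `O_{X,x}` equidimensional, every
maximal point through `x` lies over a maximal point and has the residue transcendence degree of
the local fibre dimension at `x` -/
theorem maximal_facts_of_dim_formula [IsLocallyNoetherian Y] (f : X ⟶ Y)
    [LocallyOfFiniteType f] (x : X) (hX : EGA4.IsEquidim (X.presheaf.stalk x))
    (h : ringKrullDim (X.presheaf.stalk x) =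
      ringKrullDim (Y.presheaf.stalk (f.base x)) +
        ringKrullDim ((f.fiber (f.base x)).presheaf.stalk (f.asFiber x)))
    (n k : ℕ) (hn : @Algebra.trdeg (Y.residueField (f x)) (X.residueField x) _ _
      (f.residueFieldMap x).hom.toAlgebra = n)
    (hk : ringKrullDim ((f.fiber (f x)).presheaf.stalk (f.asFiber x)) = k)
    (hF : FlatMor.fibreDimAt f x = ((n + k : ℕ) : WithBot ℕ∞))
    (ξ : X) (hξx : ξ ⤳ x) (hξmax : ∀ ξ' : X, ξ' ⤳ ξ → ξ' = ξ) :
    @Algebra.trdeg (Y.residueField (f ξ)) (X.residueField ξ) _ _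
        (f.residueFieldMap ξ).hom.toAlgebra = (n + k : ℕ) ∧
      ∀ t : Y, t ⤳ f ξ → t = f ξ := by
  haveI : IsLocallyNoetherian X := LocallyOfFiniteType.isLocallyNoetherian f
  obtain ⟨𝔭, h𝔭p, h𝔭min, h𝔭ξ⟩ := exists_minimalPrimes_fromSpecStalk_eq x ξ hξx hξmax
  obtain ⟨E, hE⟩ := exists_nat_trdeg_residueFieldMap f ξ
  have hE' := trdeg_eq_of_eq f h𝔭ξ.symm E hE
  have hineq := Groth.Agent.Lib.Helper21.DimLoc.ringKrullDim_quotient_inequality f x 𝔭 n E hn hE'
  have hChev := le_fibreDimAt_of_specializes f hξx E hE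
  haveI h𝔮p : (𝔭.comap (f.stalkMap x).hom).IsPrime := Ideal.comap_isPrime _ _
  have hquot := height_add_ringKrullDim_quotient_le (𝔭.comap (f.stalkMap x).hom)
  haveI : IsLocalRing (Y.presheaf.stalk (f x) ⧸ 𝔭.comap (f.stalkMap x).hom) :=
    isLocalRing_quotient_of_le_maximalIdeal (le_maximalIdeal h𝔮p.ne_top)
  obtain ⟨aq, haq⟩ := exists_nat_eq_ringKrullDim
    (R := Y.presheaf.stalk (f x) ⧸ 𝔭.comap (f.stalkMap x).hom)
  obtain ⟨a, ha⟩ := Groth.Agent.Lib.Helper18.SerreReg.exists_ringKrullDim_eq_nat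
    (Y.presheaf.stalk (f x))
  obtain ⟨b, hb⟩ := Groth.Agent.Lib.Helper18.SerreReg.exists_ringKrullDim_eq_nat
    (X.presheaf.stalk x)
  have hht : (𝔭.comap (f.stalkMap x).hom).height ≠ ⊤ := Ideal.height_ne_top h𝔮p.ne_top
  obtain ⟨ht, hht'⟩ := ENat.ne_top_iff_exists.mp hht
  have hform : ringKrullDim (Y.presheaf.stalk (f x)) +
      ringKrullDim ((f.fiber (f x)).presheaf.stalk (f.asFiber x)) = ringKrullDim (X.presheaf.stalk x) :=
    h.symm
  rw [hX 𝔭 h𝔭min, hb, haq] at hineq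
  rw [hF] at hChev
  rw [haq, ha, ← hht'] at hquot
  rw [ha, hk, hb] at hform
  have h1 : b + n ≤ aq + E := by exact_mod_cast hineq
  have h3 : E ≤ n + k := by exact_mod_cast hChev
  have h4 : ht + aq ≤ a := by exact_mod_cast hquot
  have h5 : a + k = b := by exact_mod_cast hform
  have h6 : ht = 0 := by omega
  have h7 : E = n + k := by omega
  refine ⟨by rw [hE, h7], ?_⟩
  have hmin : 𝔭.comap (f.stalkMap x).hom ∈ minimalPrimes (Y.presheaf.stalk (f x)) := by
    rw [← Ideal.height_eq_zero_iff, ← hht', h6]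
    rfl
  intro t ht'
  have hmap := map_fromSpecStalk f x ⟨𝔭, h𝔭p⟩
  rw [h𝔭ξ] at hmap
  rw [← hmap] at ht' ⊢
  exact Groth.Agent.Lib.Helper21.EquidimAt.eq_of_specializes_fromSpecStalk_of_minimal (f x)
    (𝔭.comap (f.stalkMap x).hom) hmin t ht'

/-- **EGA IV 13.3.?**: equidimensionality at `x` from the dimension formula, when `O_{X,x}` is
equidimensional -/
theorem isEquidimAt_of_isEquidim_stalk_of_dim_formula [IsLocallyNoetherian Y] (f : X ⟶ Y)
    [LocallyOfFiniteType f] (x : X) (hX : EGA4.IsEquidim (X.presheaf.stalk x))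
    (h : ringKrullDim (X.presheaf.stalk x) =
      ringKrullDim (Y.presheaf.stalk (f.base x)) +
        ringKrullDim ((f.fiber (f.base x)).presheaf.stalk (f.asFiber x))) :
    EGA43.IsEquidimAt f x := by
  haveI : IsLocallyNoetherian X := LocallyOfFiniteType.isLocallyNoetherian f
  obtain ⟨n, k, hn, hk, hF⟩ := exists_fibreDimAt_eq_add f x
  obtain ⟨O₁, hxO₁, hO₁⟩ := exists_open_forall_maximal_specializes X x
  let O₂ : X.Opens :=
    ⟨{u | ((n + k + 1 : ℕ) : WithBot ℕ∞) ≤ FlatMor.fibreDimAt f u}ᶜ,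
      (Groth.Agent.Lib.Helper18.FibSemi.isClosed_setOf_le_fibreDimAt f (n + k + 1)).isOpen_compl⟩
  have hxO₂ : x ∈ O₂ := by
    intro hcon
    have hcon' : ((n + k + 1 : ℕ) : WithBot ℕ∞) ≤ FlatMor.fibreDimAt f x := hcon
    rw [hF] at hcon'
    have : n + k + 1 ≤ n + k := by exact_mod_cast hcon'
    omega
  refine Groth.Agent.Lib.Helper21.EquiBC.isEquidimAt_of_maximal_of_forall_fibreDimAt f x
    (O₁ ⊓ O₂) ⟨hxO₁, hxO₂⟩ ?_ (n + k) ?_
  · intro ξ hξO hξmax
    have hξx : ξ ⤳ x := hO₁ ξ hξO.1 ξ hξmax specializes_rfl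
    exact ⟨hξx, (maximal_facts_of_dim_formula f x hX h n k hn hk hF ξ hξx hξmax).2⟩
  · intro u hu
    obtain ⟨ξ, hξu, hξmax⟩ := exists_maximal_specializes u
    have hξx : ξ ⤳ x := hO₁ u hu.1 ξ hξmax hξu
    have hE := (maximal_facts_of_dim_formula f x hX h n k hn hk hF ξ hξx hξmax).1
    have hl := le_fibreDimAt_of_specializes f hξu (n + k) hE
    obtain ⟨M, hM, -, -⟩ := exists_fibreDimAt_eq_trdeg f u
    have hu' : ¬ ((n + k + 1 : ℕ) : WithBot ℕ∞) ≤ FlatMor.fibreDimAt f u := hu.2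
    rw [hM] at hl hu' ⊢
    have h5 : n + k ≤ M := by exact_mod_cast hl
    have h6 : ¬ (n + k + 1 ≤ M) := by
      intro h
      exact hu' (by exact_mod_cast h)
    have : M = n + k := by omega
    rw [this]

end Groth.Agent.Lib.Helper21.OpenAt
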