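import Groth.Agent.Lib.Helper21.FibStalkDepth
import Groth.Agent.Lib.Helper21.OpenAt8

/-!
# Local rings of the fibres of a composite
-/

set_option autoImplicit false
set_option linter.style.haveILetI false
set_option linter.unusedSectionVars false
universe u

open AlgebraicGeometry CategoryTheory Limits TopologicalSpace IsLocalRing

namespace Groth.Agent.Lib.Helper21.FibStalkComp

open Groth.Agent.Lib.Helper21 Groth.Agent.Lib.Helper21.EquiSub Groth.Agent.Lib.Helper18.CatFlat

section alg

variable (A B : Type u) [CommRing A] [CommRing B] [Algebra A B]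
  [IsLocalRing A] [IsLocalRing B] [IsLocalHom (algebraMap A B)]
  [IsNoetherianRing A] [IsNoetherianRing B]

/-- the dimension inequality for the quotients by an ideal of the base -/
theorem ringKrullDim_quotient_map_le (I : Ideal A) (hI : I ≠ ⊤) :
    ringKrullDim (B ⧸ I.map (algebraMap A B)) ≤
      ringKrullDim (A ⧸ I) + ringKrullDim (B ⧸ (maximalIdeal A).map (algebraMap A B)) := by
  have hIm : I ≤ maximalIdeal A := IsLocalRing.le_maximalIdeal hI
  have hIBm : I.map (algebraMap A B) ≤ maximalIdeal B :=
    (Ideal.map_mono hIm).trans (IsLocalRing.map_maximalIdeal_le (algebraMap A B))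
  have l1 : IsLocalRing (A ⧸ I) := isLocalRing_quotient_of_le_maximalIdeal hIm
  have l2 : IsLocalRing (B ⧸ I.map (algebraMap A B)) := isLocalRing_quotient_of_le_maximalIdeal hIBm
  have hloc := isLocalHom_quotient_map A B I
  have h := Groth.Agent.Lib.Helper18.CM.ringKrullDim_le_add_fibre (R := A ⧸ I)
    (S := B ⧸ I.map (algebraMap A B))
  have hJ : (maximalIdeal (A ⧸ I)).map (algebraMap (A ⧸ I) (B ⧸ I.map (algebraMap A B))) =
      ((maximalIdeal A).map (algebraMap A B)).map
        (Ideal.Quotient.mk (I.map (algebraMap A B))) := by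
    rw [maximalIdeal_quotient_eq_map, Ideal.map_map, Ideal.map_map]
    congr 1
  have e1 := DoubleQuot.quotQuotEquivQuotOfLE
    (Ideal.map_mono hIm : I.map (algebraMap A B) ≤ (maximalIdeal A).map (algebraMap A B))
  rw [ringKrullDim_eq_of_ringEquiv (Ideal.quotEquivOfEq hJ), ringKrullDim_eq_of_ringEquiv e1] at h
  exact h

end alg

variable {X X' S : Scheme.{u}}

/-- the extension to the local ring of `X'` of the ideal defining the fibre of `f` is the ideal
defining the fibre of the composite -/
theorem map_map_maximalIdeal (f : X ⟶ S) (g : X' ⟶ X) (y' : X') :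
    ((maximalIdeal (S.presheaf.stalk (f (g y')))).map (f.stalkMap (g y')).hom).map
        (g.stalkMap y').hom =
      (maximalIdeal (S.presheaf.stalk ((g ≫ f) y'))).map ((g ≫ f).stalkMap y').hom := by
  have hcomp : ((g ≫ f).stalkMap y').hom = (g.stalkMap y').hom.comp (f.stalkMap (g y')).hom := by
    rw [Scheme.Hom.stalkMap_comp]
    rfl
  rw [Ideal.map_map, hcomp]
  rfl

/-- **dimension inequality for the fibres of a composite** -/
theorem ringKrullDim_fiberStalk_comp_le [IsLocallyNoetherian X] [IsLocallyNoetherian X']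
    (f : X ⟶ S) (g : X' ⟶ X) (y' : X') :
    ringKrullDim (CInt.fiberStalk (g ≫ f) y') ≤
      ringKrullDim (CInt.fiberStalk f (g y')) + ringKrullDim (CInt.fiberStalk g y') := by
  change ringKrullDim (((g ≫ f).fiber ((g ≫ f) y')).presheaf.stalk ((g ≫ f).asFiber y')) ≤
    ringKrullDim ((f.fiber (f (g y'))).presheaf.stalk (f.asFiber (g y'))) +
      ringKrullDim ((g.fiber (g y')).presheaf.stalk (g.asFiber y'))
  rw [← ringKrullDim_quotient_map_maximalIdeal (g ≫ f) y',
    ← ringKrullDim_quotient_map_maximalIdeal f (g y'), ← ringKrullDim_quotient_map_maximalIdeal g y',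
    ← map_map_maximalIdeal f g y']
  letI : Algebra (X.presheaf.stalk (g y')) (X'.presheaf.stalk y') := (g.stalkMap y').hom.toAlgebra
  haveI : IsLocalHom (algebraMap (X.presheaf.stalk (g y')) (X'.presheaf.stalk y')) :=
    inferInstanceAs (IsLocalHom (g.stalkMap y').hom)
  exact ringKrullDim_quotient_map_le (X.presheaf.stalk (g y')) (X'.presheaf.stalk y')
    ((maximalIdeal (S.presheaf.stalk (f (g y')))).map (f.stalkMap (g y')).hom)
    (fun h => (maximalIdeal.isMaximal _).ne_top
      (top_le_iff.mp (h ▸ FibStalkDepth.map_maximalIdeal_le f (g y'))))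

/-- for flat `g` the fibres of the composite have local rings of larger dimension -/
theorem ringKrullDim_fiberStalk_le_comp_of_flat [IsLocallyNoetherian X] [IsLocallyNoetherian X']
    (f : X ⟶ S) (g : X' ⟶ X) [Flat g] (y' : X') :
    ringKrullDim (CInt.fiberStalk f (g y')) ≤ ringKrullDim (CInt.fiberStalk (g ≫ f) y') := by
  change ringKrullDim ((f.fiber (f (g y'))).presheaf.stalk (f.asFiber (g y'))) ≤
    ringKrullDim (((g ≫ f).fiber ((g ≫ f) y')).presheaf.stalk ((g ≫ f).asFiber y'))
  rw [← ringKrullDim_quotient_map_maximalIdeal (g ≫ f) y',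
    ← ringKrullDim_quotient_map_maximalIdeal f (g y'), ← map_map_maximalIdeal f g y']
  letI : Algebra (X.presheaf.stalk (g y')) (X'.presheaf.stalk y') := (g.stalkMap y').hom.toAlgebra
  haveI : IsLocalHom (algebraMap (X.presheaf.stalk (g y')) (X'.presheaf.stalk y')) :=
    inferInstanceAs (IsLocalHom (g.stalkMap y').hom)
  haveI : Module.Flat (X.presheaf.stalk (g y')) (X'.presheaf.stalk y') := Flat.stalkMap g y'
  have hne : (maximalIdeal (S.presheaf.stalk (f (g y')))).map (f.stalkMap (g y')).hom ≠ ⊤ :=
    fun h => (maximalIdeal.isMaximal _).ne_top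
      (top_le_iff.mp (h ▸ FibStalkDepth.map_maximalIdeal_le f (g y')))
  have h := ringKrullDim_quotient_map_eq (X.presheaf.stalk (g y')) (X'.presheaf.stalk y')
    ((maximalIdeal (S.presheaf.stalk (f (g y')))).map (f.stalkMap (g y')).hom) hne
  change _ ≤ ringKrullDim (X'.presheaf.stalk y' ⧸
    ((maximalIdeal (S.presheaf.stalk (f (g y')))).map (f.stalkMap (g y')).hom).map
      (algebraMap (X.presheaf.stalk (g y')) (X'.presheaf.stalk y')))
  rw [h]
  haveI : IsLocalRing (X'.presheaf.stalk y' ⧸ (maximalIdeal (X.presheaf.stalk (g y'))).map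
      (algebraMap (X.presheaf.stalk (g y')) (X'.presheaf.stalk y'))) :=
    isLocalRing_quotient_of_le_maximalIdeal (IsLocalRing.map_maximalIdeal_le _)
  have h0 : (0 : WithBot ℕ∞) ≤ ringKrullDim (X'.presheaf.stalk y' ⧸
      (maximalIdeal (X.presheaf.stalk (g y'))).map
        (algebraMap (X.presheaf.stalk (g y')) (X'.presheaf.stalk y'))) :=
    ringKrullDim_nonneg_of_nontrivial
  calc ringKrullDim (X.presheaf.stalk (g y') ⧸
        (maximalIdeal (S.presheaf.stalk (f (g y')))).map (f.stalkMap (g y')).hom)
      = ringKrullDim (X.presheaf.stalk (g y') ⧸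
        (maximalIdeal (S.presheaf.stalk (f (g y')))).map (f.stalkMap (g y')).hom) + 0 := by simp
    _ ≤ _ := add_le_add_right h0 _

end Groth.Agent.Lib.Helper21.FibStalkComp
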