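import Groth.Agent.Lib.Helper21.FibStalkComp
import Groth.Agent.Lib.Helper18.FibStalk

/-!
# Points of a fibre whose local ring in the fibre is zero-dimensional
-/

set_option autoImplicit false
set_option linter.style.haveILetI false
set_option linter.unusedSectionVars false
universe u

open AlgebraicGeometry CategoryTheory Limits TopologicalSpace IsLocalRing

namespace Groth.Agent.Lib.Helper21.FibStalkComp

open Groth.Agent.Lib.Helper21 Groth.Agent.Lib.Helper21.EquiSub

variable {X X' S : Scheme.{u}}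

/-- every non-empty fibre of a morphism from a locally Noetherian scheme has a point whose local
ring in the fibre is zero-dimensional -/
theorem exists_fiberStalk_dim_zero [IsLocallyNoetherian X'] (g : X' ⟶ X) (y'₀ : X') :
    ∃ y' : X', g y' = g y'₀ ∧ ringKrullDim (CInt.fiberStalk g y') = 0 := by
  haveI : IsNoetherianRing ((g.fiber (g y'₀)).presheaf.stalk (g.asFiber y'₀)) :=
    FibStalkDepth.isNoetherianRing_fiberStalk g y'₀
  obtain ⟨𝔭, h𝔭min, -⟩ := Ideal.exists_minimalPrimes_le
    (bot_le : (⊥ : Ideal ((g.fiber (g y'₀)).presheaf.stalk (g.asFiber y'₀))) ≤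
      maximalIdeal ((g.fiber (g y'₀)).presheaf.stalk (g.asFiber y'₀)))
  haveI h𝔭p : 𝔭.IsPrime := h𝔭min.1.1
  set t := (g.fiber (g y'₀)).fromSpecStalk (g.asFiber y'₀) ⟨𝔭, h𝔭p⟩ with ht
  have hdim : ringKrullDim ((g.fiber (g y'₀)).presheaf.stalk t) = 0 := by
    rw [ht, ringKrullDim_stalk_fromSpecStalk]
    have : 𝔭.height = 0 := Ideal.height_eq_zero_iff.mpr h𝔭min
    change ((𝔭.height : ℕ∞) : WithBot ℕ∞) = 0
    rw [this]
    rfl
  have hg : g (g.fiberι (g y'₀) t) = g y'₀ := (g.fiberHomeo (g y'₀) t).2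
  refine ⟨g.fiberι (g y'₀) t, hg, ?_⟩
  rw [← hdim]
  exact (Groth.Agent.Lib.Helper18.FibStalk.ringKrullDim_stalk_fiber_eq g _ (g y'₀) hg t rfl).symm

end Groth.Agent.Lib.Helper21.FibStalkComp
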