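import Mathlib
import Groth.Prelude.Def_CInt
import Groth.Agent.Lib.Helper18.FlatLocal
import Groth.Agent.Lib.Helper18.SerreNormal
import Groth.Agent.Lib.Helper18.PMor3
import Groth.Agent.Lib.Helper18.CatFlat
import Groth.Agent.Lib.Helper21.EquiSub9
import Groth.Agent.S9501

/-!
# Depth and dimension of the local rings of the fibres of a flat morphism
-/

set_option autoImplicit false
set_option linter.style.haveILetI false
set_option linter.unusedSectionVars false
universe u

open AlgebraicGeometry CategoryTheory Limits TopologicalSpace IsLocalRing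

namespace Groth.Agent.Lib.Helper21.FibStalkDepth

open Groth.Agent.Lib.Helper21

variable {X S : Scheme.{u}}

/-- the extension of the maximal ideal of the base lies in the maximal ideal -/
theorem map_maximalIdeal_le (f : X ⟶ S) (x : X) :
    (maximalIdeal (S.presheaf.stalk (f x))).map (f.stalkMap x).hom ≤
      maximalIdeal (X.presheaf.stalk x) :=
  IsLocalRing.map_maximalIdeal_le (f.stalkMap x).hom

instance (f : X ⟶ S) (x : X) : IsLocalRing (X.presheaf.stalk x ⧸
    (maximalIdeal (S.presheaf.stalk (f x))).map (f.stalkMap x).hom) :=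
  isLocalRing_quotient_of_le_maximalIdeal (map_maximalIdeal_le f x)

/-- the depth of the local ring of the fibre -/
theorem depth_quotient_map_maximalIdeal [IsLocallyNoetherian X] (f : X ⟶ S) (x : X) :
    LocCoh.depth (X.presheaf.stalk x ⧸
        (maximalIdeal (S.presheaf.stalk (f x))).map (f.stalkMap x).hom)
      (X.presheaf.stalk x ⧸
        (maximalIdeal (S.presheaf.stalk (f x))).map (f.stalkMap x).hom) =
      LocCoh.depth (CInt.fiberStalk f x) (CInt.fiberStalk f x) := by
  have key : ∀ (s : S) (t : f.fiber s), LocCoh.depth (X.presheaf.stalk (f.fiberι s t) ⧸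
      (maximalIdeal (S.presheaf.stalk (f (f.fiberι s t)))).map
        (f.stalkMap (f.fiberι s t)).hom) (X.presheaf.stalk (f.fiberι s t) ⧸
      (maximalIdeal (S.presheaf.stalk (f (f.fiberι s t)))).map
        (f.stalkMap (f.fiberι s t)).hom) = LocCoh.depth ((f.fiber s).presheaf.stalk t)
        ((f.fiber s).presheaf.stalk t) := by
    intro s t
    obtain ⟨hsurj, hker⟩ := Groth.Agent.S9501.result f s t
    have e1 := RingHom.quotientKerEquivOfSurjective hsurj
    have e2 := Ideal.quotEquivOfEq hker
    haveI : IsNoetherianRing ((f.fiber s).presheaf.stalk t) :=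
      isNoetherianRing_of_surjective _ _ _ hsurj
    exact Groth.Agent.Lib.Helper18.Serre.depth_self_eq_of_ringEquiv (e2.symm.trans e1)
  have h := key (f x) (f.asFiber x)
  rw [Scheme.Hom.fiberι_asFiber] at h
  exact h

/-- the local rings of the fibres of a morphism from a locally Noetherian scheme are Noetherian -/
theorem isNoetherianRing_fiberStalk [IsLocallyNoetherian X] (f : X ⟶ S) (x : X) :
    IsNoetherianRing (CInt.fiberStalk f x) := by
  obtain ⟨hsurj, -⟩ := Groth.Agent.S9501.result f (f x) (f.asFiber x)
  exact isNoetherianRing_of_surjective _ _ _ hsurj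

/-- **flat local homomorphisms**: depth of the local ring is the sum of the depths of the base
and of the fibre -/
theorem depth_stalk_eq_add [IsLocallyNoetherian X] [IsLocallyNoetherian S] (f : X ⟶ S) (x : X)
    (hflat : (f.stalkMap x).hom.Flat) :
    LocCoh.depth (X.presheaf.stalk x) (X.presheaf.stalk x) =
      LocCoh.depth (S.presheaf.stalk (f x)) (S.presheaf.stalk (f x)) +
        LocCoh.depth (CInt.fiberStalk f x) (CInt.fiberStalk f x) := by
  letI : Algebra (S.presheaf.stalk (f x)) (X.presheaf.stalk x) := (f.stalkMap x).hom.toAlgebra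
  haveI : IsLocalHom (algebraMap (S.presheaf.stalk (f x)) (X.presheaf.stalk x)) :=
    inferInstanceAs (IsLocalHom (f.stalkMap x).hom)
  haveI : Module.Flat (S.presheaf.stalk (f x)) (X.presheaf.stalk x) := hflat
  haveI : IsLocalRing (X.presheaf.stalk x ⧸
      (maximalIdeal (S.presheaf.stalk (f x))).map
        (algebraMap (S.presheaf.stalk (f x)) (X.presheaf.stalk x))) :=
    isLocalRing_quotient_of_le_maximalIdeal (map_maximalIdeal_le f x)
  have h := Groth.Agent.Lib.Helper18.FlatLocal.depth_eq_add_fibre_of_flat
    (S.presheaf.stalk (f x)) (X.presheaf.stalk x)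
  rw [h]
  congr 1
  exact depth_quotient_map_maximalIdeal f x

/-- depth of the fibre is at most the depth of the total space for flat morphisms -/
theorem depth_fiberStalk_le [IsLocallyNoetherian X] [IsLocallyNoetherian S] (f : X ⟶ S) [Flat f]
    (x : X) :
    LocCoh.depth (CInt.fiberStalk f x) (CInt.fiberStalk f x) ≤
      LocCoh.depth (X.presheaf.stalk x) (X.presheaf.stalk x) := by
  rw [depth_stalk_eq_add f x (Flat.stalkMap f x)]
  exact le_add_self

/-- a Cohen–Macaulay local ring of the fibre has depth its dimension -/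
theorem depth_fiberStalk_eq_ringKrullDim (f : X ⟶ S) (x : X)
    (hCM : LocCoh.IsCohenMacaulayLocalRing (CInt.fiberStalk f x)) :
    ((LocCoh.depth (CInt.fiberStalk f x) (CInt.fiberStalk f x) : ℕ∞) : WithBot ℕ∞) =
      ringKrullDim (CInt.fiberStalk f x) := by
  rw [← hCM.supportDim_eq_depth, Module.supportDim_self_eq_ringKrullDim]

end Groth.Agent.Lib.Helper21.FibStalkDepth
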