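import Groth.Agent.Lib.Helper21.CDeg8
import Groth.Agent.Lib.Helper6.IntegralField

/-!
# Global functions of a proper reduced connected scheme: a field whose degree divides all degrees
-/

set_option autoImplicit false
set_option linter.style.haveILetI false
set_option linter.unusedSectionVars false
universe u
open CategoryTheory CategoryTheory.Limits AlgebraicGeometry TopologicalSpace Opposite

namespace Groth.Agent.Lib.Helper21.FieldDvd

open Groth.Agent.Lib.Helper29.QCoh

/-- the degree of a field `R` over `k` divides the `k`-dimension of every `R`-module -/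
theorem finrank_dvd_of_isField {k R V : Type*} [Field k] [CommRing R] [Algebra k R]
    (hR : IsField R) [AddCommGroup V] [Module R V] [Module k V] [IsScalarTower k R V] :
    Module.finrank k R ∣ Module.finrank k V := by
  letI := hR.toField
  haveI : Module.Free R V := Module.Free.of_divisionRing R V
  haveI : Module.Free k R := Module.Free.of_divisionRing k R
  rw [← Module.finrank_mul_finrank k R V]
  exact dvd_mul_right _ _

variable (k : Type u) [Field k] (X : Scheme.{u}) [X.Over (Spec (CommRingCat.of k))]

/-- the `k`-algebra structure on global functions -/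
noncomputable abbrev algΓ : Algebra k Γ(X, ⊤) :=
  ((X ↘ (Spec (CommRingCat.of k))).appTop.hom.comp
    (Scheme.ΓSpecIso (CommRingCat.of k)).inv.hom).toAlgebra

attribute [local instance] algΓ

instance isScalarTower_HH (F : X.Modules) (i : ℕ) :
    IsScalarTower k (Γ(X, ⊤) : Type u) (Coh.HH X F i) :=
  ⟨fun c r v => by
    change (Coh.toGlobal (X ↘ Spec (CommRingCat.of k)) c * (show Coh.Γtop X from r)) • v =
      Coh.toGlobal (X ↘ Spec (CommRingCat.of k)) c • ((show Coh.Γtop X from r) • v)
    exact mul_smul _ _ _⟩

/-- `H^0(X, O_X)` is the ring of global functions, `k`-linearly -/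
noncomputable def hh0LinearEquiv :
    Coh.HH X (Coh.structureModule X) 0 ≃ₗ[k] (Γ(X, ⊤) : Type u) :=
  { hh0 (Coh.structureModule X) with
    map_smul' := fun c v => by
      have h2 : c • v = (Coh.toGlobal (X ↘ Spec (CommRingCat.of k)) c) • v := rfl
      change hh0 (Coh.structureModule X) (c • v) = _
      rw [h2, hh0_smul]
      rfl }

variable [IsProper (X ↘ (Spec (CommRingCat.of k)))]

theorem finite_Γ : Module.Finite k (Γ(X, ⊤) : Type u) := by
  have hOc : Coh.IsCoh (unitM X) := ⟨isQuasicoherent_of_isInvertible (isInvertible_unit X),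
    isFiniteType_of_isInvertible (isInvertible_unit X)⟩
  haveI : Module.Finite k (Coh.HH X (Coh.structureModule X) 0) :=
    Groth.Agent.S0002.result k X _ hOc 0
  exact Module.Finite.equiv (hh0LinearEquiv k X)

include k in
theorem isField_Γ [IsReduced X] [ConnectedSpace X] : IsField (Γ(X, ⊤) : Type u) := by
  haveI := finite_Γ k X
  haveI : Algebra.IsIntegral k (Γ(X, ⊤) : Type u) := Algebra.IsIntegral.of_finite k _
  haveI : Nonempty X := inferInstance
  haveI : Nonempty (⊤ : X.Opens) := ⟨⟨Classical.arbitrary X, trivial⟩⟩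
  haveI : Nontrivial (Γ(X, ⊤) : Type u) := inferInstance
  exact Groth.Agent.Lib.Helper6.IntegralField.isField_of_isIntegral_of_idempotent_trivial (k := k)
    (Groth.Agent.Lib.Helper6.IntegralField.idempotent_trivial_of_connected X)

theorem finrank_dvd_finrank_HH (hfield : IsField (Γ(X, ⊤) : Type u)) (F : X.Modules) (i : ℕ) :
    Module.finrank k (Γ(X, ⊤) : Type u) ∣ Module.finrank k (Coh.HH X F i) :=
  finrank_dvd_of_isField hfield

theorem finrank_dvd_euler (hfield : IsField (Γ(X, ⊤) : Type u)) (F : X.Modules) :
    (Module.finrank k (Γ(X, ⊤) : Type u) : ℤ) ∣ Curv2.euler k X F := by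
  unfold Curv2.euler
  refine finsum_induction (fun z : ℤ => (Module.finrank k (Γ(X, ⊤) : Type u) : ℤ) ∣ z)
    (dvd_zero _) (fun a b ha hb => dvd_add ha hb) (fun i => ?_)
  exact Dvd.dvd.mul_left (Int.natCast_dvd_natCast.mpr (finrank_dvd_finrank_HH k X hfield F i)) _

attribute [local instance] Curv2.resAlgebra

theorem finrank_dvd_finrank_residueField (hfield : IsField (Γ(X, ⊤) : Type u)) (x : X) :
    Module.finrank k (Γ(X, ⊤) : Type u) ∣ Module.finrank k (X.residueField x) := by
  let φ : (Γ(X, ⊤) : Type u) →+* X.residueField x :=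
    (X.residue x).hom.comp (X.presheaf.germ ⊤ x trivial).hom
  letI : Algebra (Γ(X, ⊤) : Type u) (X.residueField x) := φ.toAlgebra
  haveI : IsScalarTower k (Γ(X, ⊤) : Type u) (X.residueField x) :=
    IsScalarTower.of_algebraMap_eq (fun c => rfl)
  exact finrank_dvd_of_isField hfield

end Groth.Agent.Lib.Helper21.FieldDvd
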