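import Mathlib
import Groth.Prelude.Def_EGA43

/-!
# Finite base change criterion for universal openness: topological preliminaries
-/

set_option autoImplicit false
set_option linter.style.haveILetI false
set_option linter.unusedSectionVars false
universe u

open CategoryTheory AlgebraicGeometry IsLocalRing Limits

namespace Groth.Agent.Lib.Helper21.FinBC

/-- no non-trivial specialisations in the fibres of a locally quasi-finite morphism -/
theorem eq_of_specializes_of_locallyQuasiFinite {P X : Scheme.{u}} (q : P ⟶ X)
    [LocallyQuasiFinite q] (a b : P) (hab : a ⤳ b) (h : q.base a = q.base b) : a = b := by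
  have hd : _root_.IsDiscrete (q.base ⁻¹' {q.base b}) := q.isDiscrete_preimage_singleton (q.base b)
  haveI := hd.to_subtype
  let a' : ↥(q.base ⁻¹' {q.base b}) := ⟨a, h⟩
  let b' : ↥(q.base ⁻¹' {q.base b}) := ⟨b, rfl⟩
  have h1 : a' ⤳ b' := by
    rw [← Topology.IsInducing.subtypeVal.specializes_iff]
    exact hab
  have h2 : a' = b' := h1.eq
  exact congrArg Subtype.val h2

/-- points of a locally quasi-finite base change lying over a maximal point of a fibre are
maximal points of their fibre -/
theorem maximal_of_locallyQuasiFinite_baseChange {X Y Z : Scheme.{u}} (f : X ⟶ Y) (g : Z ⟶ Y)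
    [LocallyQuasiFinite g] (x : X)
    (hmax : ∀ x' : X, f.base x' = f.base x → x ∈ closure {x'} → x' = x)
    (p : ↥(pullback f g)) (hp : (pullback.fst f g).base p = x) :
    ∀ p' : ↥(pullback f g), (pullback.snd f g).base p' = (pullback.snd f g).base p →
      p ∈ closure {p'} → p' = p := by
  intro p' hp' hcl
  have hsp : p' ⤳ p := specializes_iff_mem_closure.mpr hcl
  have hc : ∀ t : ↥(pullback f g), f.base ((pullback.fst f g).base t) =
      g.base ((pullback.snd f g).base t) := by
    intro t
    have := congrArg (fun φ : pullback f g ⟶ Y => φ.base t) (pullback.condition (f := f) (g := g))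
    simpa only [Scheme.Hom.comp_apply] using this
  have h1 : (pullback.fst f g).base p' = x := by
    apply hmax
    · rw [hc p', hp', ← hc p, hp]
    · rw [← hp]
      exact (hsp.map (pullback.fst f g).continuous).mem_closure
  exact eq_of_specializes_of_locallyQuasiFinite (pullback.fst f g) p' p hsp (by rw [h1, hp])

end Groth.Agent.Lib.Helper21.FinBC
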