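import Mathlib
import Groth.Prelude.Def_EGA43

/-!
# Openness at a point and base change along an open immersion
-/

set_option autoImplicit false
set_option linter.style.haveILetI false
set_option linter.unusedSectionVars false
universe u

open CategoryTheory AlgebraicGeometry IsLocalRing Limits

namespace Groth.Agent.Lib.Helper21.FinBC

/-- openness at a point of the base change along `π` gives openness at a point of the base
change along `j ≫ π` for an open immersion `j` -/
theorem isOpenAt_snd_comp_of_isOpenImmersion {X Y T Z : Scheme.{u}} (f : X ⟶ Y) (π : T ⟶ Y)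
    (j : Z ⟶ T) [IsOpenImmersion j] (x : X)
    (H : ∀ p : ↥(pullback f π), (pullback.fst f π).base p = x →
      EGA43.IsOpenAt (pullback.snd f π).base p)
    (p : ↥(pullback f (j ≫ π))) (hp : (pullback.fst f (j ≫ π)).base p = x) :
    EGA43.IsOpenAt (pullback.snd f (j ≫ π)).base p := by
  let k : pullback f (j ≫ π) ⟶ pullback f π :=
    pullback.lift (pullback.fst f (j ≫ π)) (pullback.snd f (j ≫ π) ≫ j)
      (by rw [pullback.condition, Category.assoc])
  have hk1 : k ≫ pullback.fst f π = pullback.fst f (j ≫ π) := pullback.lift_fst _ _ _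
  have hk2 : k ≫ pullback.snd f π = pullback.snd f (j ≫ π) ≫ j := pullback.lift_snd _ _ _
  have sqT : IsPullback (pullback.fst f π) (pullback.snd f π) f π := IsPullback.of_hasPullback _ _
  have sqZ : IsPullback (k ≫ pullback.fst f π) (pullback.snd f (j ≫ π)) f (j ≫ π) := by
    rw [hk1]
    exact IsPullback.of_hasPullback _ _
  have sq : IsPullback k (pullback.snd f (j ≫ π)) (pullback.snd f π) j :=
    IsPullback.of_right sqZ hk2 sqT
  haveI : IsOpenImmersion k := MorphismProperty.of_isPullback (P := @IsOpenImmersion) sq.flip
    inferInstance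
  intro N hN
  have h1 : k.base '' N ∈ nhds (k.base p) := k.isOpenEmbedding.isOpenMap.image_mem_nhds hN
  have h2 := H (k.base p) (by rw [← Scheme.Hom.comp_apply, hk1, hp]) _ h1
  have h3 : (pullback.snd f π).base '' (k.base '' N) =
      j.base '' ((pullback.snd f (j ≫ π)).base '' N) := by
    rw [Set.image_image, Set.image_image]
    apply Set.image_congr
    intro a _
    rw [← Scheme.Hom.comp_apply, ← Scheme.Hom.comp_apply, hk2]
  rw [h3, ← Scheme.Hom.comp_apply, hk2, Scheme.Hom.comp_apply] at h2
  have h4 := j.continuous.continuousAt.preimage_mem_nhds h2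
  rwa [Set.preimage_image_eq _ j.isOpenEmbedding.injective] at h4

end Groth.Agent.Lib.Helper21.FinBC
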