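import Mathlib
import Groth.Agent.Lib.Helper4.EtNbhd7
import Groth.Agent.Lib.Helper4.EtNbhd6
import Groth.Agent.Lib.Helper4.EtNbhd8
import Groth.Agent.Lib.Helper4.HzsNoethC
import Groth.Agent.S9811
import Groth.Agent.S9236
import Groth.Agent.S9238

/-!
# Étale neighbourhoods separating the geometric branches
-/

set_option autoImplicit false
set_option linter.style.haveILetI false
set_option linter.unusedSectionVars false
universe u

open CategoryTheory AlgebraicGeometry IsLocalRing Limits

namespace Groth.Agent.Lib.Helper21.FinBC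

open Groth.Agent.Lib.Helper4

/-- a family of `ℕ∞`s, each at least one, with sum at most the number of terms, is constantly
one -/
theorem eq_one_of_sum_le_card {ι : Type*} [Fintype ι] (t : ι → ℕ∞) (h1 : ∀ i, 1 ≤ t i)
    (hs : ∑ i, t i ≤ (Fintype.card ι : ℕ∞)) (i : ι) : t i = 1 := by
  classical
  have hfin : ∀ j, t j ≠ ⊤ := by
    intro j hj
    have h2 : t j ≤ ∑ i, t i := Finset.single_le_sum (f := t) (fun _ _ => zero_le) (Finset.mem_univ j)
    rw [hj] at h2
    have := h2.trans hs
    exact absurd (top_le_iff.mp this) (ENat.natCast_ne_top _)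
  let m : ι → ℕ := fun j => (t j).toNat
  have hm : ∀ j, t j = (m j : ℕ∞) := fun j => (ENat.natCast_toNat (hfin j)).symm
  have hm1 : ∀ j, 1 ≤ m j := by
    intro j
    have := h1 j
    rw [hm j] at this
    exact_mod_cast this
  have hsum : ∑ j, m j ≤ Fintype.card ι := by
    have h3 : ((∑ j, m j : ℕ) : ℕ∞) ≤ (Fintype.card ι : ℕ∞) := by
      rw [Nat.cast_sum]
      simpa only [← hm] using hs
    exact_mod_cast h3
  have hmi : m i = 1 := by
    by_contra hne
    have h2 : 2 ≤ m i := by have := hm1 i; omega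
    have h4 : ∑ j, m j = m i + ∑ j ∈ Finset.univ.erase i, m j :=
      (Finset.add_sum_erase Finset.univ m (Finset.mem_univ i)).symm
    have h5 : (Finset.univ.erase i).card ≤ ∑ j ∈ Finset.univ.erase i, m j := by
      have := Finset.card_nsmul_le_sum (Finset.univ.erase i) m 1 (fun j _ => hm1 j)
      simpa using this
    have h6 : (Finset.univ.erase i).card = Fintype.card ι - 1 := by
      rw [Finset.card_erase_of_mem (Finset.mem_univ i), Finset.card_univ]
    have h7 : 0 < Fintype.card ι := Fintype.card_pos_iff.mpr ⟨i⟩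
    omega
  rw [hm i, hmi]
  rfl

/-- a local ring with finitely many minimal primes whose number of geometric branches is at most
the number of its minimal primes has geometrically unibranch irreducible components -/
theorem isGeomUnibranch_quotient_of_numGeomBranches_le (A : Type u) [CommRing A] [IsLocalRing A]
    (hfin : (minimalPrimes A).Finite)
    (hle : Brnch.numGeomBranches A ≤ (minimalPrimes A).encard)
    (𝔭 : Ideal A) [h𝔭 : 𝔭.IsPrime] (hmin : 𝔭 ∈ minimalPrimes A) :
    CAlg2.IsGeomUnibranch (A ⧸ 𝔭) := by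
  haveI : Fintype (minimalPrimes A) := hfin.fintype
  have h1 := Groth.Agent.S9811.result A hfin
  rw [finsum_eq_sum_of_fintype] at h1
  have hcard : (minimalPrimes A).encard = (Fintype.card (minimalPrimes A) : ℕ∞) := by
    rw [Set.encard_eq_coe_toFinset_card, Set.toFinset_card]
  rw [h1, hcard] at hle
  have h2 := eq_one_of_sum_le_card
    (fun p : minimalPrimes A => haveI : p.1.IsPrime := p.2.1.1; Brnch.numGeomBranches (A ⧸ p.1))
    (fun p => haveI : p.1.IsPrime := p.2.1.1; EtNbhd.one_le_numGeomBranches (A ⧸ p.1)) hle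
    ⟨𝔭, hmin⟩
  exact (Groth.Agent.S9236.result (A ⧸ 𝔭)).mp h2

/-- **étale neighbourhood separating the geometric branches**: every point of a locally
Noetherian scheme has an étale neighbourhood all of whose irreducible components through the
marked point are geometrically unibranch there -/
theorem exists_etale_nbhd_geomUnibranch_components {Y : Scheme.{u}} [IsLocallyNoetherian Y]
    (y : Y) :
    ∃ (U : Scheme.{u}) (g : U ⟶ Y) (u : U), Etale g ∧ g.base u = y ∧
      ∀ (𝔭 : Ideal (U.presheaf.stalk u)) [𝔭.IsPrime], 𝔭 ∈ minimalPrimes (U.presheaf.stalk u) →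
        CAlg2.IsGeomUnibranch (U.presheaf.stalk u ⧸ 𝔭) := by
  haveI hN : IsNoetherianRing (Hzs.Hs (Y.presheaf.stalk y)) := Hzs.Hs.isNoetherianRing _
  have hfinH : (minimalPrimes (Hzs.Hs (Y.presheaf.stalk y))).Finite :=
    minimalPrimes.finite_of_isNoetherianRing _
  have h2 := Groth.Agent.S9238.result (Y.presheaf.stalk y) (Hzs.Hs (Y.presheaf.stalk y))
  haveI := hfinH.fintype
  obtain ⟨n, hn⟩ : ∃ n : ℕ, (n : ℕ∞) = Brnch.numGeomBranches (Y.presheaf.stalk y) := by
    refine ⟨Fintype.card (minimalPrimes (Hzs.Hs (Y.presheaf.stalk y))), ?_⟩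
    rw [← h2, ENat.card_eq_coe_fintype_card]
  obtain ⟨U, g, u, ⟨hg, hgu⟩, hcount⟩ := EtNbhd.exists_etale_of_le_numGeomBranchesAt Y y n
    (by unfold Brnch.numGeomBranchesAt; rw [hn])
  subst hgu
  refine ⟨U, g, u, hg, rfl, ?_⟩
  rw [EtNbhd.encard_components_eq] at hcount
  haveI : IsLocallyNoetherian U := LocallyOfFiniteType.isLocallyNoetherian g
  have hfinA : (minimalPrimes (U.presheaf.stalk u)).Finite :=
    minimalPrimes.finite_of_isNoetherianRing _
  have hnum : Brnch.numGeomBranches (U.presheaf.stalk u) = n := by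
    let _ := (g.stalkMap u).hom.toAlgebra
    have hB := EtNbhd.essEtale_stalkMap g u
    have hloc : IsLocalHom (algebraMap (Y.presheaf.stalk (g u)) (U.presheaf.stalk u)) :=
      inferInstanceAs (IsLocalHom (g.stalkMap u).hom)
    obtain ⟨_, _, _, hsh, -⟩ :=
      Hzs.exists_algebra_of_essEtale hB (Hzs.Hs (Y.presheaf.stalk (g u)))
    have h3 := Groth.Agent.S9238.result (U.presheaf.stalk u) (Hzs.Hs (Y.presheaf.stalk (g u)))
    rw [← h3, h2, hn]
  intro 𝔭 _ hmin
  exact isGeomUnibranch_quotient_of_numGeomBranches_le _ hfinA (by rw [hnum]; exact hcount) 𝔭 hmin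

end Groth.Agent.Lib.Helper21.FinBC
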