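import Mathlib
import Groth.Agent.Lib.Helper21.EquiGU1
import Groth.Agent.Lib.Helper6.Chev5

/-!
# Local rings of irreducible components as closed subschemes
-/

set_option autoImplicit false
set_option linter.style.haveILetI false
set_option linter.unusedSectionVars false
universe u

open CategoryTheory AlgebraicGeometry IsLocalRing Limits

namespace Groth.Agent.Lib.Helper21.FinBC

open Groth.Agent.Lib.Helper21.OpenAt

variable {W X : Scheme.{u}}

/-- the local ring of an integral closed subscheme which is an irreducible component is the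
quotient of the local ring of the ambient scheme by the corresponding minimal prime -/
theorem nonempty_stalk_equiv_quotient_of_closedImmersion (ι : W ⟶ X) [IsClosedImmersion ι]
    [IsIntegral W] (w : W) (𝔭 : Ideal (X.presheaf.stalk (ι w))) [h𝔭 : 𝔭.IsPrime]
    (hmin : 𝔭 ∈ minimalPrimes (X.presheaf.stalk (ι w)))
    (hr : Set.range ι.base = closure {X.fromSpecStalk (ι w) ⟨𝔭, h𝔭⟩}) :
    Nonempty ((X.presheaf.stalk (ι w) ⧸ 𝔭) ≃+* W.presheaf.stalk w) := by
  have hsurj : Function.Surjective (ι.stalkMap w).hom := ι.stalkMap_surjective w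
  have hemb : Topology.IsEmbedding ι.base := ι.isEmbedding
  set ξ := X.fromSpecStalk (ι w) ⟨𝔭, h𝔭⟩ with hξ
  have hξx : ξ ⤳ ι w := by
    have : ξ ∈ Set.range (X.fromSpecStalk (ι w)) := ⟨_, rfl⟩
    rw [Scheme.range_fromSpecStalk] at this
    exact this
  obtain ⟨ξ', hξ'⟩ : ξ ∈ Set.range ι.base := by
    rw [hr]; exact subset_closure rfl
  have hξ'w : ξ' ⤳ w := by
    rw [← hemb.isInducing.specializes_iff]
    have : ι.base ξ' = ξ := hξ'
    rw [this]
    exact hξx
  obtain ⟨P', hP'⟩ : ξ' ∈ Set.range (W.fromSpecStalk w) := by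
    rw [Scheme.range_fromSpecStalk]
    exact hξ'w
  have h1 := map_fromSpecStalk ι w P'
  rw [hP'] at h1
  have h2 : X.fromSpecStalk (ι w) (Spec.map (ι.stalkMap w) P') =
      X.fromSpecStalk (ι w) ⟨𝔭, h𝔭⟩ := h1.trans hξ'
  have h3 : Spec.map (ι.stalkMap w) P' = ⟨𝔭, h𝔭⟩ :=
    (X.fromSpecStalk (ι w)).isEmbedding.injective h2
  have hker : RingHom.ker (ι.stalkMap w).hom ≤ 𝔭 := by
    have h4 : (Spec.map (ι.stalkMap w) P').asIdeal = 𝔭 := by rw [h3]
    rw [← h4]
    intro a ha
    change (ι.stalkMap w).hom a ∈ P'.asIdeal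
    rw [RingHom.mem_ker.mp ha]
    exact zero_mem _
  haveI hdom : IsDomain (W.presheaf.stalk w) := inferInstance
  haveI hkp : (RingHom.ker (ι.stalkMap w).hom).IsPrime := RingHom.ker_isPrime _
  have hkeq : RingHom.ker (ι.stalkMap w).hom = 𝔭 :=
    le_antisymm hker (hmin.2 ⟨hkp, bot_le⟩ hker)
  exact ⟨(Ideal.quotEquivOfEq hkeq.symm).trans (RingHom.quotientKerEquivOfSurjective hsurj)⟩

/-- geometric unibranchness passes to the local rings of an open subscheme -/
theorem isGeomUnibranch_stalk_of_isOpenImmersion (j : W ⟶ X) [IsOpenImmersion j] (w : W)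
    (h : CAlg2.IsGeomUnibranch (X.presheaf.stalk (j.base w))) :
    CAlg2.IsGeomUnibranch (W.presheaf.stalk w) := by
  haveI : IsIso (j.stalkMap w) := inferInstance
  exact Groth.Agent.Lib.Helper6.Chev.isGeomUnibranch_of_ringEquiv'
    (asIso (j.stalkMap w)).commRingCatIsoToRingEquiv h

end Groth.Agent.Lib.Helper21.FinBC
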