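import Mathlib
import Groth.Agent.Lib.Helper4.HensSection2

/-!
# Lifting strictly henselian traits to étale neighbourhoods
-/

set_option autoImplicit false
set_option linter.style.haveILetI false
set_option linter.unusedSectionVars false
universe u

open CategoryTheory AlgebraicGeometry IsLocalRing Limits

namespace Groth.Agent.Lib.Helper21.FinBC

theorem exists_lift_to_etale_nbhd {U Y : Scheme.{u}} (g : U ⟶ Y) [Etale g] (u : U)
    (A : Type u) [CommRing A] [HenselianLocalRing A] [IsSepClosed (ResidueField A)]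
    (gA : Spec (CommRingCat.of A) ⟶ Y) (h : gA.base (closedPoint A) = g.base u) :
    ∃ ℓ : Spec (CommRingCat.of A) ⟶ U, ℓ ≫ g = gA ∧ ℓ.base (closedPoint A) = u := by
  obtain ⟨a, ha1, ha2⟩ := Scheme.Pullback.exists_preimage_pullback (f := gA) (g := g)
    (closedPoint A) u h
  obtain ⟨σ, hσ1, hσ2⟩ := Groth.Agent.Lib.Helper4.HensSection.exists_section_through A
    (pullback.fst gA g) a ha1
  refine ⟨σ ≫ pullback.snd gA g, ?_, ?_⟩
  · rw [Category.assoc, ← pullback.condition, ← Category.assoc, hσ1, Category.id_comp]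
  · rw [Scheme.Hom.comp_apply, hσ2, ha2]

end Groth.Agent.Lib.Helper21.FinBC
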