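import Mathlib
import Groth.Agent.Lib.Helper21.FinBC4
import Groth.Agent.Lib.Helper21.DvrCrit1

/-!
# Traits through a point factor through a geometrically unibranch branch
-/

set_option autoImplicit false
set_option linter.style.haveILetI false
set_option linter.unusedSectionVars false
universe u

open CategoryTheory AlgebraicGeometry IsLocalRing Limits

namespace Groth.Agent.Lib.Helper21.FinBC

open Groth.Agent.Lib.Helper21.DvrCrit

variable {W X : Scheme.{u}}

theorem isGeomUnibranch_stalk_of_component (ι : W ⟶ X) [IsClosedImmersion ι]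
    [IsIntegral W] (w : W) (x : X) (hx : ι.base w = x) (𝔭 : Ideal (X.presheaf.stalk x))
    [h𝔭 : 𝔭.IsPrime] (hmin : 𝔭 ∈ minimalPrimes (X.presheaf.stalk x))
    (hr : Set.range ι.base = closure {X.fromSpecStalk x ⟨𝔭, h𝔭⟩})
    (hgu : CAlg2.IsGeomUnibranch (X.presheaf.stalk x ⧸ 𝔭)) :
    CAlg2.IsGeomUnibranch (W.presheaf.stalk w) := by
  subst hx
  obtain ⟨e⟩ := nonempty_stalk_equiv_quotient_of_closedImmersion ι w 𝔭 hmin hr
  exact Groth.Agent.Lib.Helper6.Chev.isGeomUnibranch_of_ringEquiv' e hgu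

/-- a trait through `u` factors through an affine, locally closed, geometrically unibranch
branch of `U` at `u` -/
theorem exists_branch_through_trait {U : Scheme.{u}} (u : U)
    (hU : ∀ (𝔭 : Ideal (U.presheaf.stalk u)) [𝔭.IsPrime], 𝔭 ∈ minimalPrimes (U.presheaf.stalk u) →
      CAlg2.IsGeomUnibranch (U.presheaf.stalk u ⧸ 𝔭))
    (A : Type u) [CommRing A] [IsDomain A] [IsLocalRing A]
    (ℓ : Spec (CommRingCat.of A) ⟶ U) (hℓ : ℓ.base (closedPoint A) = u) :
    ∃ (W : Scheme.{u}) (_ : IsAffine W) (i : W ⟶ U) (_ : IsImmersion i) (w : W)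
      (ℓ' : Spec (CommRingCat.of A) ⟶ W),
      ℓ' ≫ i = ℓ ∧ ℓ'.base (closedPoint A) = w ∧ i.base w = u ∧
      CAlg2.IsGeomUnibranch (W.presheaf.stalk w) := by
  -- the generic point of the trait
  have hζu : ℓ.base (genPt A) ⤳ u := by
    rw [← hℓ]
    exact (genPt_specializes A _).map ℓ.continuous
  obtain ⟨P, hP⟩ : ℓ.base (genPt A) ∈ Set.range (U.fromSpecStalk u) := by
    rw [Scheme.range_fromSpecStalk]
    exact hζu
  obtain ⟨𝔭, hmin, h𝔭P⟩ := Ideal.exists_minimalPrimes_le (show (⊥ : Ideal _) ≤ P.asIdeal from bot_le)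
  haveI h𝔭 : 𝔭.IsPrime := hmin.1.1
  have hξζ : U.fromSpecStalk u ⟨𝔭, h𝔭⟩ ⤳ ℓ.base (genPt A) := by
    rw [← hP]
    refine Specializes.map ?_ (U.fromSpecStalk u).continuous
    exact (PrimeSpectrum.le_iff_specializes (⟨𝔭, h𝔭⟩ : PrimeSpectrum _) P).mp h𝔭P
  let Zc : TopologicalSpace.Closeds U :=
    ⟨closure {U.fromSpecStalk u ⟨𝔭, h𝔭⟩}, isClosed_closure⟩
  have hirr : IsIrreducible (Zc : Set U) := isIrreducible_singleton.closure
  haveI hint : IsIntegral (Scheme.IdealSheafData.vanishingIdeal Zc).subscheme :=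
    Groth.Agent.Lib.Helper21.EquiGU.isIntegral_subscheme_vanishingIdeal Zc hirr
  have hr : Set.range (Scheme.IdealSheafData.vanishingIdeal Zc).subschemeι.base =
      closure {U.fromSpecStalk u ⟨𝔭, h𝔭⟩} :=
    Groth.Agent.Lib.Helper21.CondT.range_subschemeι_vanishingIdeal Zc
  -- the trait lands in the branch
  have hrange : closure (Set.range ℓ.base) ⊆ (Zc : Set U) := by
    apply closure_minimal _ isClosed_closure
    rintro _ ⟨a, rfl⟩
    have h1 : ℓ.base (genPt A) ⤳ ℓ.base a := (genPt_specializes A a).map ℓ.continuous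
    exact (hξζ.trans h1).mem_closure
  haveI : IsReduced (Spec (CommRingCat.of A)) := by
    rw [affine_isReduced_iff]
    infer_instance
  have hker : (Scheme.IdealSheafData.vanishingIdeal Zc).subschemeι.ker ≤ ℓ.ker := by
    rw [Scheme.IdealSheafData.ker_subschemeι,
      Groth.Agent.Lib.Helper16.ker_eq_vanishingIdeal_of_isReduced]
    exact Scheme.IdealSheafData.vanishingIdeal_antimono hrange
  obtain ⟨Z, ι, hcli, hintZ, hrZ, ℓ₁, hℓ₁⟩ : ∃ (Z : Scheme.{u}) (ι : Z ⟶ U)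
      (_ : IsClosedImmersion ι) (_ : IsIntegral Z)
      (_ : Set.range ι.base = closure {U.fromSpecStalk u ⟨𝔭, h𝔭⟩})
      (ℓ₁ : Spec (CommRingCat.of A) ⟶ Z), ℓ₁ ≫ ι = ℓ :=
    ⟨_, (Scheme.IdealSheafData.vanishingIdeal Zc).subschemeι, inferInstance, hint, hr,
      IsClosedImmersion.lift _ ℓ hker, IsClosedImmersion.lift_fac _ _ _⟩
  obtain ⟨w, hw⟩ : ∃ w : Z, ℓ₁.base (closedPoint A) = w := ⟨_, rfl⟩
  have hιw : ι.base w = u := by
    rw [← hw, ← Scheme.Hom.comp_apply, hℓ₁, hℓ]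
  have hguZ : CAlg2.IsGeomUnibranch (Z.presheaf.stalk w) :=
    isGeomUnibranch_stalk_of_component ι w u hιw 𝔭 hmin hrZ (hU 𝔭 hmin)
  -- shrink to an affine open neighbourhood of `w`
  obtain ⟨W', hW'aff, hwW'⟩ : ∃ W' : Z.Opens, IsAffineOpen W' ∧ w ∈ W' := by
    obtain ⟨W, h1, h2, -⟩ := TopologicalSpace.Opens.isBasis_iff_nbhd.mp Z.isBasis_affineOpens
      (show w ∈ (⊤ : Z.Opens) from trivial)
    exact ⟨W, h1, h2⟩
  have hrange' : Set.range ℓ₁.base ⊆ Set.range W'.ι.base := by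
    rw [Scheme.Opens.range_ι]
    rintro _ ⟨a, rfl⟩
    have h1 : ℓ₁.base a ⤳ w := by
      rw [← hw]
      exact (IsLocalRing.specializes_closedPoint (R := A) a).map ℓ₁.continuous
    exact h1.mem_open W'.2 hwW'
  haveI : IsAffine W'.toScheme := hW'aff
  refine ⟨W'.toScheme, inferInstance, W'.ι ≫ ι, inferInstance, ⟨w, hwW'⟩,
    IsOpenImmersion.lift W'.ι ℓ₁ hrange', ?_, ?_, ?_, ?_⟩
  · rw [← Category.assoc, IsOpenImmersion.lift_fac, hℓ₁]
  · apply W'.ι.isOpenEmbedding.injective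
    rw [← Scheme.Hom.comp_apply, IsOpenImmersion.lift_fac, hw]
    rfl
  · rw [Scheme.Hom.comp_apply]
    exact hιw
  · exact isGeomUnibranch_stalk_of_isOpenImmersion W'.ι ⟨w, hwW'⟩ hguZ

end Groth.Agent.Lib.Helper21.FinBC
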