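import Groth.Agent.Lib.Helper21.OpenAt12

/-!
# Morphisms open at a maximal point of a fibre: lifting generisations of the image with the same
residue transcendence degree (relative form of EGA IV 14.2.4)
-/

set_option autoImplicit false
set_option linter.style.haveILetI false
set_option linter.unusedSectionVars false
universe u

open AlgebraicGeometry CategoryTheory Limits TopologicalSpace IsLocalRing

namespace Groth.Agent.Lib.Helper21.OpenAt

open Groth.Agent.Lib.Helper21.FibDim Groth.Agent.Lib.Helper21.EquiSub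
  Groth.Agent.Lib.Helper21.FourCond

/-- `dim R/𝔮` as a coheight -/
theorem ringKrullDim_quotient_eq_coheight' {B : Type*} [CommRing B] (p : Ideal B)
    [hp : p.IsPrime] :
    ringKrullDim (B ⧸ p) = ((Order.coheight (⟨p, hp⟩ : PrimeSpectrum B) : ℕ∞) : WithBot ℕ∞) := by
  have hz : PrimeSpectrum.zeroLocus (p : Set B) = Set.Ici (⟨p, hp⟩ : PrimeSpectrum B) := by
    ext q
    rw [PrimeSpectrum.mem_zeroLocus, Set.mem_Ici, ← PrimeSpectrum.asIdeal_le_asIdeal]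
    rfl
  rw [ringKrullDim_quotient, Order.coheight_eq_krullDim_Ici, hz]

/-- comparable primes with quotients of the same finite dimension are equal -/
theorem eq_of_le_of_ringKrullDim_quotient_eq {R : Type*} [CommRing R] (𝔮 𝔮' : Ideal R)
    [h𝔮 : 𝔮.IsPrime] [h𝔮' : 𝔮'.IsPrime] (hle : 𝔮 ≤ 𝔮') (d : ℕ)
    (hd : ringKrullDim (R ⧸ 𝔮) = d) (hd' : ringKrullDim (R ⧸ 𝔮') = d) : 𝔮 = 𝔮' := by
  by_contra hne
  have hlt : (⟨𝔮, h𝔮⟩ : PrimeSpectrum R) < ⟨𝔮', h𝔮'⟩ := lt_of_le_of_ne hle (fun h => hne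
    (congrArg PrimeSpectrum.asIdeal h))
  have h1 := Order.coheight_add_one_le hlt
  rw [ringKrullDim_quotient_eq_coheight'] at hd hd'
  have e1 : Order.coheight (⟨𝔮, h𝔮⟩ : PrimeSpectrum R) = (d : ℕ∞) := by exact_mod_cast hd
  have e2 : Order.coheight (⟨𝔮', h𝔮'⟩ : PrimeSpectrum R) = (d : ℕ∞) := by exact_mod_cast hd'
  rw [e1, e2] at h1
  have : d + 1 ≤ d := by exact_mod_cast h1
  omega

variable {X Y : Scheme.{u}}

/-- **relative form of EGA IV 14.2.4**: if `f` is open at a point `ζ` maximal in its fibre, every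
generisation `η` of `f ζ` is the image of a generisation `ξ` of `ζ` with the same residue
transcendence degree -/
theorem exists_generization_of_isOpenAt_maximal [IsLocallyNoetherian Y] (f : X ⟶ Y)
    [LocallyOfFiniteType f] (ζ : X) (hζmax : ∀ τ : X, τ ⤳ ζ → f τ = f ζ → τ = ζ)
    (hop : EGA43.IsOpenAt f.base ζ) (n : ℕ)
    (hn : @Algebra.trdeg (Y.residueField (f ζ)) (X.residueField ζ) _ _
      (f.residueFieldMap ζ).hom.toAlgebra = n) (η : Y) (hη : η ⤳ f ζ) :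
    ∃ ξ : X, ξ ⤳ ζ ∧ f ξ = η ∧
      @Algebra.trdeg (Y.residueField (f ξ)) (X.residueField ξ) _ _
        (f.residueFieldMap ξ).hom.toAlgebra = n := by
  haveI : IsLocallyNoetherian X := LocallyOfFiniteType.isLocallyNoetherian f
  have hFζ : FlatMor.fibreDimAt f ζ = n := fibreDimAt_eq_trdeg_of_maximal f ζ hζmax n hn
  obtain ⟨Q, hQ⟩ : η ∈ Set.range (Y.fromSpecStalk (f ζ)) := by
    rw [Scheme.range_fromSpecStalk]
    exact hη
  haveI hQp : Q.asIdeal.IsPrime := Q.2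
  set φ := (f.stalkMap ζ).hom with hφ
  have hsurj := comap_stalkMap_surjective_of_isOpenAt f ζ hop
  set K : Ideal (X.presheaf.stalk ζ) := Q.asIdeal.map φ with hK
  have hIK : Q.asIdeal ≤ K.comap φ := Ideal.le_comap_map
  have hlift : ∀ 𝔭' : PrimeSpectrum (Y.presheaf.stalk (f ζ)), Q.asIdeal ≤ 𝔭'.asIdeal →
      ∃ 𝔮' : PrimeSpectrum (X.presheaf.stalk ζ), K ≤ 𝔮'.asIdeal ∧
        PrimeSpectrum.comap φ 𝔮' = 𝔭' := by
    intro 𝔭' h𝔭'
    obtain ⟨𝔮', h𝔮'⟩ := hsurj 𝔭'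
    refine ⟨𝔮', ?_, h𝔮'⟩
    rw [hK, Ideal.map_le_iff_le_comap]
    have : (PrimeSpectrum.comap φ 𝔮').asIdeal = 𝔭'.asIdeal := by rw [h𝔮']
    rw [← this] at h𝔭'
    exact h𝔭'
  have hsurj' := Groth.Agent.Lib.Helper21.SpecSurjDim.comap_quotientMap_surjective φ Q.asIdeal K
    hIK hlift
  have hKm : K ≤ maximalIdeal (X.presheaf.stalk ζ) := by
    obtain ⟨𝔮', h𝔮', -⟩ := hlift Q le_rfl
    exact h𝔮'.trans (le_maximalIdeal 𝔮'.2.ne_top)
  haveI : IsLocalRing (Y.presheaf.stalk (f ζ) ⧸ Q.asIdeal) :=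
    isLocalRing_quotient_of_le_maximalIdeal (le_maximalIdeal hQp.ne_top)
  haveI : IsLocalRing (X.presheaf.stalk ζ ⧸ K) := isLocalRing_quotient_of_le_maximalIdeal hKm
  have hdimle := Groth.Agent.Lib.Helper21.SpecSurjDim.ringKrullDim_le_of_comap_surjective _ _
    (Ideal.quotientMap K φ hIK) hsurj'
  obtain ⟨𝔭', h𝔭'min, h𝔭'dim⟩ :=
    Groth.Agent.Lib.Helper21.EquidimAt.exists_minimalPrimes_ringKrullDim_quotient_eq
      (X.presheaf.stalk ζ ⧸ K)
  haveI h𝔭'p : 𝔭'.IsPrime := h𝔭'min.1.1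
  set 𝔭 : Ideal (X.presheaf.stalk ζ) := 𝔭'.comap (Ideal.Quotient.mk K) with h𝔭
  haveI h𝔭p : 𝔭.IsPrime := Ideal.comap_isPrime _ _
  have hK𝔭 : K ≤ 𝔭 := by
    intro b hb
    change Ideal.Quotient.mk K b ∈ 𝔭'
    rw [Ideal.Quotient.eq_zero_iff_mem.mpr hb]
    exact zero_mem _
  have hdim𝔭 : ringKrullDim (X.presheaf.stalk ζ ⧸ 𝔭) =
      ringKrullDim ((X.presheaf.stalk ζ ⧸ K) ⧸ 𝔭') :=
    ringKrullDim_eq_of_ringEquiv (RingEquiv.ofBijective
      (Ideal.quotientMap 𝔭' (Ideal.Quotient.mk K) le_rfl) ⟨Ideal.quotientMap_injective,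
        Ideal.quotientMap_surjective Ideal.Quotient.mk_surjective⟩)
  set ξ := X.fromSpecStalk ζ ⟨𝔭, h𝔭p⟩ with hξ
  have hξζ : ξ ⤳ ζ := by
    have : ξ ∈ Set.range (X.fromSpecStalk ζ) := ⟨_, rfl⟩
    rw [Scheme.range_fromSpecStalk] at this
    exact this
  obtain ⟨E, hE⟩ := exists_nat_trdeg_residueFieldMap f ξ
  have hineq := Groth.Agent.Lib.Helper21.DimLoc.ringKrullDim_quotient_inequality f ζ 𝔭 n E hn hE
  have hChev := le_fibreDimAt_of_specializes f hξζ E hE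
  haveI h𝔮p : (𝔭.comap φ).IsPrime := Ideal.comap_isPrime _ _
  have hQle : Q.asIdeal ≤ 𝔭.comap φ := hIK.trans (Ideal.comap_mono hK𝔭)
  have hfac : ringKrullDim (Y.presheaf.stalk (f ζ) ⧸ 𝔭.comap φ) ≤
      ringKrullDim (Y.presheaf.stalk (f ζ) ⧸ Q.asIdeal) :=
    ringKrullDim_le_of_surjective (Ideal.Quotient.factor hQle) (Ideal.Quotient.factor_surjective hQle)
  haveI : IsLocalRing (Y.presheaf.stalk (f ζ) ⧸ 𝔭.comap φ) :=
    isLocalRing_quotient_of_le_maximalIdeal (le_maximalIdeal h𝔮p.ne_top)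
  haveI : IsLocalRing (X.presheaf.stalk ζ ⧸ 𝔭) :=
    isLocalRing_quotient_of_le_maximalIdeal (le_maximalIdeal h𝔭p.ne_top)
  obtain ⟨aq, haq⟩ := exists_nat_eq_ringKrullDim (R := Y.presheaf.stalk (f ζ) ⧸ 𝔭.comap φ)
  obtain ⟨ab, hab⟩ := exists_nat_eq_ringKrullDim (R := Y.presheaf.stalk (f ζ) ⧸ Q.asIdeal)
  obtain ⟨c, hc⟩ := exists_nat_eq_ringKrullDim (R := X.presheaf.stalk ζ ⧸ 𝔭)
  rw [hc, haq] at hineq
  rw [hFζ] at hChev
  rw [haq, hab] at hfac
  rw [← h𝔭'dim, ← hdim𝔭, hc, hab] at hdimle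
  have h1 : c + n ≤ aq + E := by exact_mod_cast hineq
  have h2 : E ≤ n := by exact_mod_cast hChev
  have h3 : aq ≤ ab := by exact_mod_cast hfac
  have h4 : ab ≤ c := by exact_mod_cast hdimle
  have h5 : E = n := by omega
  have h6 : aq = ab := by omega
  refine ⟨ξ, hξζ, ?_, by rw [hE, h5]⟩
  have hqeq : Q.asIdeal = 𝔭.comap φ :=
    eq_of_le_of_ringKrullDim_quotient_eq Q.asIdeal (𝔭.comap φ) hQle ab hab (by rw [haq, h6])
  have hmap := map_fromSpecStalk f ζ ⟨𝔭, h𝔭p⟩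
  rw [← hξ] at hmap
  rw [← hmap, ← hQ]
  congr 1
  exact PrimeSpectrum.ext hqeq.symm

end Groth.Agent.Lib.Helper21.OpenAt
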