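import Groth.Agent.Lib.Helper21.OpenAt15

/-!
# Open morphisms: an open neighbourhood of a fibre on which the fibre dimension is locally
constant (EGA IV 14.2.7)
-/

set_option autoImplicit false
set_option linter.style.haveILetI false
set_option linter.unusedSectionVars false
universe u

open AlgebraicGeometry CategoryTheory Limits TopologicalSpace IsLocalRing

namespace Groth.Agent.Lib.Helper21.OpenAt

open Groth.Agent.Lib.Helper21.FibDim Groth.Agent.Lib.Helper21.EquiSub
  Groth.Agent.Lib.Helper21.FourCond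

variable {X Y : Scheme.{u}}

theorem topologicalKrullDim_eq_bot_of_isEmpty (T : Type*) [TopologicalSpace T] [IsEmpty T] :
    topologicalKrullDim T = ⊥ := by
  haveI : IsEmpty (IrreducibleCloseds T) :=
    ⟨fun Z => IsEmpty.false (Z.isIrreducible.nonempty.some : T)⟩
  unfold topologicalKrullDim
  exact Order.krullDim_eq_bot

/-- the fibre of the restriction to an open is the trace of the fibre on the open -/
theorem topologicalKrullDim_fiber_ι_comp (f : X ⟶ Y) (U : X.Opens) (z : Y) :
    topologicalKrullDim ↥((U.ι ≫ f).fiber z) =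
      topologicalKrullDim ↥((U : Set X) ∩ f.base ⁻¹' {z}) := by
  set g := U.ι ≫ f with hg
  let φ : ↥(g.fiber z) → ↥((U : Set X) ∩ f.base ⁻¹' {z}) := fun t =>
    ⟨U.ι (g.fiberι z t), (g.fiberι z t).2, by
      have h1 : g (g.fiberι z t) = z := (g.fiberHomeo z t).2
      simpa [hg] using h1⟩
  have hφc : Continuous φ :=
    Continuous.subtype_mk (U.ι.continuous.comp (g.fiberι z).continuous) _
  have hemb : Topology.IsEmbedding φ := by
    apply Topology.IsEmbedding.of_comp hφc continuous_subtype_val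
    exact U.ι.isEmbedding.comp (g.fiberι z).isEmbedding
  have hsurj : Function.Surjective φ := by
    rintro ⟨x, hxU, hxz⟩
    have hmem : (⟨x, hxU⟩ : U) ∈ Set.range (g.fiberι z) := by
      rw [Scheme.Hom.range_fiberι]
      change (U.ι ≫ f) ⟨x, hxU⟩ = z
      rw [Scheme.Hom.comp_apply]
      exact hxz
    obtain ⟨t, ht⟩ := hmem
    refine ⟨t, Subtype.ext ?_⟩
    change U.ι (g.fiberι z t) = x
    rw [ht]
    rfl
  exact IsHomeomorph.topologicalKrullDim_eq φ
    (isHomeomorph_iff_isEmbedding_surjective.mpr ⟨hemb, hsurj⟩)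

/-- **EGA IV 14.2.7** -/
theorem exists_open_nhd_fibre_dim_locally_const [IsLocallyNoetherian Y] (f : X ⟶ Y)
    [LocallyOfFiniteType f] [QuasiCompact f] (hop : ∀ x : X, EGA43.IsOpenAt f.base x) (y : Y) :
    ∃ U : X.Opens, f.base ⁻¹' {y} ⊆ (U : Set X) ∧ ∃ V ∈ nhds y, ∀ z ∈ V,
      topologicalKrullDim ↥((U : Set X) ∩ f.base ⁻¹' {z}) =
        topologicalKrullDim ↥((U : Set X) ∩ f.base ⁻¹' {y}) := by
  haveI : IsLocallyNoetherian X := LocallyOfFiniteType.isLocallyNoetherian f
  by_cases hne : ∃ x₀ : X, f x₀ = y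
  · obtain ⟨x₀, rfl⟩ := hne
    obtain ⟨x₁, hfx₁, hFx₁⟩ := exists_fibreDimAt_eq_topologicalKrullDim_fiber f x₀
    obtain ⟨N, hN, -, -⟩ := exists_fibreDimAt_eq_trdeg f x₁
    have hdimy : topologicalKrullDim ↥(f.fiber (f x₀)) = N := by rw [← hFx₁, hN]
    set U : X.Opens := ⟨{x : X | FlatMor.fibreDimAt f x ≤ N}, isOpen_setOf_fibreDimAt_le f N⟩
      with hU
    have hfibU : f.base ⁻¹' {f x₀} ⊆ (U : Set X) := by
      intro x hx
      have hx' : f x = f x₀ := hx
      change FlatMor.fibreDimAt f x ≤ N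
      rw [← hdimy, ← hx']
      exact fibreDimAt_le_topologicalKrullDim_fiber f x
    refine ⟨U, hfibU, ?_⟩
    set g := U.ι ≫ f with hg
    have hgop : ∀ u : U, EGA43.IsOpenAt g.base u := by
      intro u W hW
      have h1 : U.ι.base '' W ∈ nhds (U.ι u) := U.ι.isOpenEmbedding.isOpenMap.image_mem_nhds hW
      have h2 := hop (U.ι u) _ h1
      have h3 : g.base '' W = f.base '' (U.ι.base '' W) := by
        rw [Set.image_image]
        rfl
      rw [h3]
      exact h2
    -- upper bound everywhere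
    have hub : ∀ z : Y, topologicalKrullDim ↥(g.fiber z) ≤ N := by
      intro z
      rw [Groth.Agent.Lib.Helper18.TopDim.topologicalKrullDim_eq_iSup_localDim]
      refine iSup_le fun t => ?_
      have hx : g (g.fiberι z t) = z := (g.fiberHomeo z t).2
      rw [Groth.Agent.Lib.Helper6.EtaleSq.localDim_fiber_eq_fibreDimAt g (g.fiberι z t) z hx t rfl,
        Groth.Agent.Lib.Helper21.EquidimAt.fibreDimAt_ι_comp f U (g.fiberι z t)]
      exact (g.fiberι z t).2
    -- the fibre over `y`
    have hgy : topologicalKrullDim ↥(g.fiber (f x₀)) = N := by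
      have hset : (U : Set X) ∩ f.base ⁻¹' {f x₀} = f.base ⁻¹' {f x₀} :=
        Set.inter_eq_right.mpr hfibU
      rw [topologicalKrullDim_fiber_ι_comp f U (f x₀), ← hdimy, hset]
      exact (IsHomeomorph.topologicalKrullDim_eq _ (f.fiberHomeo (f x₀)).isHomeomorph).symm
    obtain ⟨V, hV, hVle⟩ := exists_nhds_topologicalKrullDim_fiber_le g (f x₀)
      (fun u _ => hgop u)
    refine ⟨V, hV, fun z hz => ?_⟩
    rw [← topologicalKrullDim_fiber_ι_comp f U z, ← topologicalKrullDim_fiber_ι_comp f U (f x₀)]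
    refine le_antisymm ?_ (hVle z hz)
    rw [hgy]
    exact hub z
  · push Not at hne
    refine ⟨⊥, fun x hx => (hne x hx).elim, Set.univ, Filter.univ_mem, fun z _ => ?_⟩
    haveI h1 : IsEmpty ↥(((⊥ : X.Opens) : Set X) ∩ f.base ⁻¹' {z}) :=
      ⟨fun t => t.2.1⟩
    haveI h2 : IsEmpty ↥(((⊥ : X.Opens) : Set X) ∩ f.base ⁻¹' {y}) :=
      ⟨fun t => t.2.1⟩
    rw [topologicalKrullDim_eq_bot_of_isEmpty, topologicalKrullDim_eq_bot_of_isEmpty]

end Groth.Agent.Lib.Helper21.OpenAt
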