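import Mathlib
import Groth.Agent.Lib.Helper21.FinBC1
import Groth.Agent.Lib.Helper21.FinBC2
import Groth.Agent.Lib.Helper21.FinBC3
import Groth.Agent.Lib.Helper21.FinBC5
import Groth.Agent.Lib.Helper21.FinBC6
import Groth.Agent.Lib.Helper21.DvrFin8
import Groth.Agent.Lib.Helper3.ZMTFinite
import Groth.Agent.Lib.Helper14.EtaleLQF
import Groth.Agent.Lib.Helper14.UnivOpenAt
import Groth.Agent.Lib.Helper12.HensInt
import Groth.Agent.Lib.Helper17.ProCons
import Groth.Agent.S4934

/-!
# Universal openness at a maximal point of a fibre can be tested after finite base changes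
(EGA IV 14.4.9)
-/

set_option autoImplicit false
set_option linter.style.haveILetI false
set_option linter.unusedSectionVars false
universe u

open CategoryTheory AlgebraicGeometry IsLocalRing Limits

namespace Groth.Agent.Lib.Helper21.FinBC

open Groth.Agent.Lib.Helper21.DvrCrit

theorem isUnivOpenAt_of_finite_baseChange {X Y : Scheme.{u}} [IsNoetherian Y] (f : X ⟶ Y)
    [LocallyOfFiniteType f] (x : X)
    (hmax : ∀ x' : X, f.base x' = f.base x → x ∈ closure {x'} → x' = x)
    (H : ∀ (Y' : Scheme.{u}) (g : Y' ⟶ Y) [IsFinite g], ∀ x' : ↥(pullback f g),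
      (pullback.fst f g).base x' = x → EGA43.IsOpenAt (pullback.snd f g).base x') :
    EGA43.IsUnivOpenAt f x := by
  obtain ⟨U, g, u, hg, hgu, hU⟩ := exists_etale_nbhd_geomUnibranch_components (f.base x)
  haveI := hg
  refine Groth.Agent.Lib.Helper21.DvrFin.isUnivOpenAt_of_complete_dvr f x
    (fun A _ _ _ _ _ gA hgA x' hx'1 hx'2 => ?_)
  haveI : HenselianRing A (maximalIdeal A) := inferInstance
  haveI : HenselianLocalRing A :=
    Groth.Agent.Lib.Helper12.HensInt.henselianLocalRing_of_henselianRing_maximalIdeal A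
  haveI : IsSepClosed (ResidueField A) := inferInstance
  obtain ⟨ℓ, hℓ1, hℓ2⟩ := exists_lift_to_etale_nbhd g u A gA (by rw [hgA, hgu])
  obtain ⟨W, hWaff, i, hi, w, ℓ', hℓ'1, hℓ'2, hiw, hguW⟩ :=
    exists_branch_through_trait u hU A ℓ hℓ2
  haveI : LocallyQuasiFinite g := Groth.Agent.Lib.Helper14.AS.etale_locallyQuasiFinite g
  obtain ⟨gW, hgW⟩ : ∃ gW : W ⟶ Y, gW = i ≫ g := ⟨_, rfl⟩
  haveI : LocallyQuasiFinite gW := by rw [hgW]; infer_instance
  haveI : LocallyOfFiniteType gW := by rw [hgW]; infer_instance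
  haveI : IsSeparated gW := inferInstance
  haveI : QuasiCompact gW := inferInstance
  have hcomp : ℓ' ≫ gW = gA := by rw [hgW, ← Category.assoc, hℓ'1, hℓ1]
  haveI : IsLocallyNoetherian W := LocallyOfFiniteType.isLocallyNoetherian gW
  -- Zariski's main theorem
  obtain ⟨T, j, π, hj, -, hπ, hjπ⟩ :=
    Groth.Agent.Lib.Helper3.exists_openImmersion_finite_factorization gW
  have hopen : ∀ p : ↥(pullback f gW), (pullback.fst f gW).base p = x →
      EGA43.IsOpenAt (pullback.snd f gW).base p := by
    subst hjπ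
    exact isOpenAt_snd_comp_of_isOpenImmersion f π j x (fun p hp => H T π p hp)
  -- the comparison map
  let a : pullback f gA ⟶ pullback f gW :=
    pullback.lift (pullback.fst f gA) (pullback.snd f gA ≫ ℓ')
      (by rw [pullback.condition, Category.assoc, hcomp])
  have ha1 : a ≫ pullback.fst f gW = pullback.fst f gA := pullback.lift_fst _ _ _
  have ha2 : a ≫ pullback.snd f gW = pullback.snd f gA ≫ ℓ' := pullback.lift_snd _ _ _
  have sqW : IsPullback (pullback.fst f gW) (pullback.snd f gW) f gW :=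
    IsPullback.of_hasPullback _ _
  have sqA : IsPullback (a ≫ pullback.fst f gW) (pullback.snd f gA) f (ℓ' ≫ gW) := by
    rw [ha1, hcomp]
    exact IsPullback.of_hasPullback _ _
  have sq : IsPullback a (pullback.snd f gA) (pullback.snd f gW) ℓ' :=
    IsPullback.of_right sqA ha2 sqW
  have hp1 : (pullback.fst f gW).base (a.base x') = x := by
    rw [← Scheme.Hom.comp_apply, ha1, hx'1]
  have hp2 : (pullback.snd f gW).base (a.base x') = w := by
    rw [← Scheme.Hom.comp_apply, ha2, Scheme.Hom.comp_apply, hx'2, hℓ'2]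
  have hpmax := maximal_of_locallyQuasiFinite_baseChange f gW x hmax (a.base x') hp1
  have hgu'' : CAlg2.IsGeomUnibranch
      (W.presheaf.stalk ((pullback.snd f gW).base (a.base x'))) := by
    rw [hp2]; exact hguW
  have hUO : EGA43.IsUnivOpenAt (pullback.snd f gW) (a.base x') :=
    ((Groth.Agent.S4934.result (pullback.snd f gW) (a.base x') hpmax hgu'').out 3 0).mp
      (hopen _ hp1)
  have hop' : EGA43.IsOpenAt (pullback.snd f gA).base x' :=
    Groth.Agent.Lib.Helper14.UOA.isOpenAt_snd_of_isUnivOpenAt hUO sq x' rfl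
  obtain ⟨z', hz', hz's⟩ := Groth.Agent.Lib.Helper17.ProConsLib.exists_generization_lift
    (pullback.snd f gA) x' hop' (genPt A) (hx'2 ▸ genPt_specializes A _)
  exact ⟨z', hz', by rw [hz's]; exact genPt_ne_closedPoint A⟩

end Groth.Agent.Lib.Helper21.FinBC
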