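import Mathlib

/-!
# Flat modules over a domain: lifting linear / algebraic independence from a fibre

`A` a domain, `P` a prime of `A`, `M` a flat `A`-module, `N ⊇ P M` a submodule.  If a finite family
of `M` is "linearly independent modulo `N` over `A/P`", it is linearly independent over `A`
(no finiteness or Noetherian hypothesis).  Consequence: for a flat `A`-algebra `C` and an ideal
`Q ⊇ P C`, a family of `C` algebraically independent modulo `Q` over `A/P` is algebraically
independent over `A`.
-/

set_option autoImplicit false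
set_option linter.style.haveILetI false
set_option linter.unusedSectionVars false
universe u v

namespace Groth.Agent.Lib.Helper21.FlatGen

open scoped BigOperators

/-- **lifting linear independence from a fibre of a flat module** -/
theorem eq_zero_of_sum_smul_eq_zero_of_flat {A : Type*} [CommRing A] [IsDomain A] {M : Type*}
    [AddCommGroup M] [Module A M] [Module.Flat A M] (P : Ideal A) [hP : P.IsPrime]
    (N : Submodule A M) (hPN : P • (⊤ : Submodule A M) ≤ N) :
    ∀ (m : ℕ) (v : Fin m → M), (∀ g : Fin m → A, ∑ i, g i • v i ∈ N → ∀ i, g i ∈ P) →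
      ∀ f : Fin m → A, ∑ i, f i • v i = 0 → ∀ i, f i = 0 := by
  intro m
  induction m with
  | zero => intro v _ f _ i; exact i.elim0
  | succ m ih =>
    intro v hv f hf
    obtain ⟨k, a, y, hay, hfa⟩ := Module.Flat.isTrivialRelation_of_sum_smul_eq_zero hf
    have hv0 : v 0 ∉ N := by
      intro h0
      have h1 : ∑ i, (Pi.single (0 : Fin (m + 1)) (1 : A) : Fin (m + 1) → A) i • v i ∈ N := by
        have : ∑ i, (Pi.single (0 : Fin (m + 1)) (1 : A) : Fin (m + 1) → A) i • v i = v 0 := by
          rw [Finset.sum_eq_single 0]
          · simp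
          · intro b _ hb
            simp [hb]
          · intro h; exact absurd (Finset.mem_univ _) h
        rw [this]; exact h0
      have h2 := hv _ h1 0
      rw [Pi.single_eq_same] at h2
      exact hP.ne_top ((Ideal.eq_top_iff_one _).mpr h2)
    obtain ⟨j, hj⟩ : ∃ j, a 0 j ∉ P := by
      by_contra hcon
      push Not at hcon
      apply hv0
      rw [hay 0]
      exact N.sum_mem (fun j _ => hPN (Submodule.smul_mem_smul (hcon j) trivial))
    set w := a 0 j with hw_def
    have hw : w ≠ 0 := fun h => hj (by rw [h]; exact P.zero_mem)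
    have hrel : f 0 * w + ∑ i : Fin m, f i.succ * a i.succ j = 0 := by
      have := hfa j
      rwa [Fin.sum_univ_succ] at this
    set v' : Fin m → M := fun i => w • v i.succ - a i.succ j • v 0 with hv'_def
    have hv' : ∀ g : Fin m → A, ∑ i, g i • v' i ∈ N → ∀ i, g i ∈ P := by
      intro g hg i
      have key : ∑ i, g i • v' i = ∑ i : Fin (m + 1),
          (Fin.cons (-(∑ i, g i * a i.succ j)) (fun i => w * g i) : Fin (m + 1) → A) i • v i := by
        rw [Fin.sum_univ_succ]
        simp only [Fin.cons_zero, Fin.cons_succ, hv'_def, smul_sub, Finset.sum_sub_distrib,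
          smul_smul, neg_smul, Finset.sum_smul]
        rw [sub_eq_neg_add]
        congr 1
        exact Finset.sum_congr rfl (fun i _ => by rw [mul_comm])
      rw [key] at hg
      have := hv _ hg i.succ
      simp only [Fin.cons_succ] at this
      exact (hP.mem_or_mem this).resolve_left hj
    have hsum' : ∑ i, f i.succ • v' i = 0 := by
      have h1 : ∑ i : Fin m, f i.succ • v i.succ = -(f 0 • v 0) := by
        rw [Fin.sum_univ_succ] at hf
        exact eq_neg_of_add_eq_zero_right hf
      have h2 : ∑ i : Fin m, f i.succ * a i.succ j = -(f 0 * w) :=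
        eq_neg_of_add_eq_zero_right hrel
      have h3 : ∑ i, f i.succ • v' i = w • ∑ i : Fin m, f i.succ • v i.succ -
          (∑ i : Fin m, f i.succ * a i.succ j) • v 0 := by
        simp only [hv'_def, smul_sub, Finset.sum_sub_distrib, Finset.smul_sum, Finset.sum_smul,
          smul_smul]
        congr 1
        exact Finset.sum_congr rfl (fun i _ => by rw [mul_comm])
      rw [h3, h1, h2, smul_neg, neg_smul, smul_smul, sub_neg_eq_add, mul_comm w (f 0)]
      exact neg_add_cancel _
    have ih' := ih v' hv' (fun i => f i.succ) hsum'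
    intro i
    refine Fin.cases ?_ (fun i => ih' i) i
    have h0 : f 0 * w = 0 := by
      have : ∑ i : Fin m, f i.succ * a i.succ j = 0 :=
        Finset.sum_eq_zero (fun i _ => by rw [ih' i, zero_mul])
      rw [this, add_zero] at hrel
      exact hrel
    exact (mul_eq_zero.mp h0).resolve_right hw

/-- **lifting algebraic independence from a fibre of a flat algebra over a domain** -/
theorem algebraicIndependent_of_flat {A C : Type*} [CommRing A] [IsDomain A] [CommRing C]
    [Algebra A C] [Module.Flat A C] (P : Ideal A) [hP : P.IsPrime] (Q : Ideal C)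
    (hPQ : P.map (algebraMap A C) ≤ Q) {ι : Type*} (t : ι → C)
    (h : ∀ G : MvPolynomial ι A, MvPolynomial.aeval t G ∈ Q → ∀ α, G.coeff α ∈ P) :
    AlgebraicIndependent A t := by
  classical
  rw [algebraicIndependent_iff]
  intro F hF
  set s := F.support with hs
  set m := s.card with hm
  let e : Fin m ≃ s := s.equivFin.symm
  let v : Fin m → C := fun i => MvPolynomial.aeval t (MvPolynomial.monomial (e i).1 (1 : A))
  have hmon : ∀ (α : ι →₀ ℕ) (c : A), MvPolynomial.aeval t (MvPolynomial.monomial α c) =
      c • MvPolynomial.aeval t (MvPolynomial.monomial α (1 : A)) := by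
    intro α c
    rw [← map_smul, MvPolynomial.smul_monomial, smul_eq_mul, mul_one]
  have hsumG : ∀ g : Fin m → A, MvPolynomial.aeval t
      (∑ i, MvPolynomial.monomial (e i).1 (g i)) = ∑ i, g i • v i := by
    intro g
    rw [map_sum]
    exact Finset.sum_congr rfl (fun i _ => hmon _ _)
  have hcoeffG : ∀ (g : Fin m → A) (i : Fin m),
      (∑ i, MvPolynomial.monomial (e i).1 (g i)).coeff (e i).1 = g i := by
    intro g i
    rw [MvPolynomial.coeff_sum]
    rw [Finset.sum_eq_single i]
    · simp
    · intro b _ hb
      rw [MvPolynomial.coeff_monomial, if_neg]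
      intro hcon
      exact hb (e.injective (Subtype.ext hcon))
    · intro h; exact absurd (Finset.mem_univ _) h
  have hPN : P • (⊤ : Submodule A C) ≤ Q.restrictScalars A := by
    rw [Submodule.smul_le]
    intro a ha c _
    change a • c ∈ Q
    rw [Algebra.smul_def]
    exact Q.mul_mem_right _ (hPQ (Ideal.mem_map_of_mem _ ha))
  have hv : ∀ g : Fin m → A, ∑ i, g i • v i ∈ Q.restrictScalars A → ∀ i, g i ∈ P := by
    intro g hg i
    have h1 : MvPolynomial.aeval t (∑ i, MvPolynomial.monomial (e i).1 (g i)) ∈ Q := by
      rw [hsumG]; exact hg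
    have h2 := h _ h1 (e i).1
    rwa [hcoeffG] at h2
  have hF' : F = ∑ i, MvPolynomial.monomial (e i).1 (F.coeff (e i).1) := by
    conv_lhs => rw [← MvPolynomial.support_sum_monomial_coeff F]
    rw [← hs, ← Finset.sum_coe_sort s]
    exact (Equiv.sum_comp e (fun α : s => MvPolynomial.monomial α.1 (F.coeff α.1))).symm
  have hsum : ∑ i, (fun i => F.coeff (e i).1) i • v i = 0 := by
    rw [← hsumG, ← hF']; exact hF
  have hz := eq_zero_of_sum_smul_eq_zero_of_flat P (Q.restrictScalars A) hPN m v hv _ hsum
  rw [hF']
  exact Finset.sum_eq_zero (fun i _ => by rw [hz i, MvPolynomial.monomial_zero])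

end Groth.Agent.Lib.Helper21.FlatGen
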