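import Groth.Agent.Lib.Helper21.FlatGen1

/-!
# Residue transcendence degrees go up under generisation in a flat situation

Ring-level statement: `A₀ → C₀` rings, `Q' ≤ Q` primes of `C₀` such that `C₀/Q'` is flat over
`A₀/(Q' ∩ A₀)`.  Then `trdeg (A₀/(Q ∩ A₀)) (C₀/Q) ≤ trdeg (A₀/(Q' ∩ A₀)) (C₀/Q')`.
Over a Bezout (e.g. valuation) base the flatness hypothesis is automatic.
-/

set_option autoImplicit false
set_option linter.style.haveILetI false
set_option linter.unusedSectionVars false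
universe u v

namespace Groth.Agent.Lib.Helper21.FlatGen

open scoped BigOperators

/-- naturality of `aeval` for a commuting square of ring maps -/
theorem aeval_map_of_comp {A₀ A₁ C₀ C₁ : Type*} [CommRing A₀] [CommRing A₁] [CommRing C₀]
    [CommRing C₁] [Algebra A₀ C₀] [Algebra A₁ C₁] (φ : A₀ →+* A₁) (ψ : C₀ →+* C₁)
    (hcomm : ψ.comp (algebraMap A₀ C₀) = (algebraMap A₁ C₁).comp φ) {ι : Type*} (t : ι → C₀)
    (G : MvPolynomial ι A₀) :
    MvPolynomial.aeval (fun i => ψ (t i)) (MvPolynomial.map φ G) =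
      ψ (MvPolynomial.aeval t G) := by
  induction G using MvPolynomial.induction_on with
  | C a =>
    simp only [MvPolynomial.map_C, MvPolynomial.aeval_C]
    exact (RingHom.congr_fun hcomm a).symm
  | add p q hp hq => simp only [map_add, hp, hq]
  | mul_X p i hp => simp only [map_mul, hp, MvPolynomial.map_X, MvPolynomial.aeval_X]

/-- **flatness of `C₀/Q'` over `A₀/(Q' ∩ A₀)` makes residue transcendence degrees go up under
generisation** -/
theorem trdeg_quotient_le_of_flat (A₀ : Type u) (C₀ : Type v) [CommRing A₀] [CommRing C₀]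
    [Algebra A₀ C₀] (Q' Q : Ideal C₀) [hQ' : Q'.IsPrime] [hQ : Q.IsPrime] (hle : Q' ≤ Q)
    [Module.Flat (A₀ ⧸ Q'.under A₀) (C₀ ⧸ Q')] :
    Algebra.trdeg (A₀ ⧸ Q.under A₀) (C₀ ⧸ Q) ≤ Algebra.trdeg (A₀ ⧸ Q'.under A₀) (C₀ ⧸ Q') := by
  set P := Q.under A₀ with hP
  set P' := Q'.under A₀ with hP'
  have hP'P : P' ≤ P := Ideal.comap_mono hle
  obtain ⟨ι, x, hx⟩ := exists_isTranscendenceBasis' (A₀ ⧸ P) (C₀ ⧸ Q)
  rw [← hx.cardinalMk_eq_trdeg]
  choose t₀ ht₀ using fun i => Ideal.Quotient.mk_surjective (x i)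
  haveI hP₁ : (P.map (Ideal.Quotient.mk P')).IsPrime :=
    Ideal.map_isPrime_of_surjective Ideal.Quotient.mk_surjective (by rw [Ideal.mk_ker]; exact hP'P)
  have hcomm' : (Ideal.Quotient.mk Q').comp (algebraMap A₀ C₀) =
      (algebraMap (A₀ ⧸ P') (C₀ ⧸ Q')).comp (Ideal.Quotient.mk P') := by
    ext a
    simp only [RingHom.comp_apply]
    rw [Ideal.Quotient.algebraMap_mk_of_liesOver]
  have hcomm : (Ideal.Quotient.mk Q).comp (algebraMap A₀ C₀) =
      (algebraMap (A₀ ⧸ P) (C₀ ⧸ Q)).comp (Ideal.Quotient.mk P) := by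
    ext a
    simp only [RingHom.comp_apply]
    rw [Ideal.Quotient.algebraMap_mk_of_liesOver]
  have hAI : AlgebraicIndependent (A₀ ⧸ P') (fun i => Ideal.Quotient.mk Q' (t₀ i)) := by
    refine algebraicIndependent_of_flat (P.map (Ideal.Quotient.mk P'))
      (Q.map (Ideal.Quotient.mk Q')) ?_ _ ?_
    · rw [Ideal.map_map, ← hcomm', ← Ideal.map_map]
      exact Ideal.map_mono (Ideal.map_le_iff_le_comap.mpr le_rfl)
    · intro G hG α
      obtain ⟨G₀, rfl⟩ := MvPolynomial.map_surjective (Ideal.Quotient.mk P')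
        Ideal.Quotient.mk_surjective G
      rw [aeval_map_of_comp (Ideal.Quotient.mk P') (Ideal.Quotient.mk Q') hcomm' t₀ G₀,
        Ideal.mem_quotient_iff_mem hle] at hG
      have h1 : MvPolynomial.aeval x (MvPolynomial.map (Ideal.Quotient.mk P) G₀) = 0 := by
        have h2 := aeval_map_of_comp (Ideal.Quotient.mk P) (Ideal.Quotient.mk Q) hcomm t₀ G₀
        have h3 : (fun i => Ideal.Quotient.mk Q (t₀ i)) = x := funext ht₀
        rw [h3] at h2
        rw [h2]
        exact Ideal.Quotient.eq_zero_iff_mem.mpr hG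
      have h4 := (algebraicIndependent_iff.mp hx.1) _ h1
      have h5 : Ideal.Quotient.mk P (G₀.coeff α) = 0 := by
        have := congrArg (MvPolynomial.coeff α) h4
        rwa [MvPolynomial.coeff_map, MvPolynomial.coeff_zero] at this
      rw [MvPolynomial.coeff_map]
      exact Ideal.mem_map_of_mem _ (Ideal.Quotient.eq_zero_iff_mem.mp h5)
  exact hAI.cardinalMk_le_trdeg

/-- over a Bezout base (e.g. a valuation ring) the flatness hypothesis is automatic -/
theorem trdeg_quotient_le_of_isBezout (A₀ : Type u) (C₀ : Type v) [CommRing A₀] [CommRing C₀]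
    [Algebra A₀ C₀] (Q' Q : Ideal C₀) [hQ' : Q'.IsPrime] [hQ : Q.IsPrime] (hle : Q' ≤ Q)
    [IsBezout (A₀ ⧸ Q'.under A₀)] :
    Algebra.trdeg (A₀ ⧸ Q.under A₀) (C₀ ⧸ Q) ≤ Algebra.trdeg (A₀ ⧸ Q'.under A₀) (C₀ ⧸ Q') := by
  haveI : Module.Flat (A₀ ⧸ Q'.under A₀) (C₀ ⧸ Q') := by
    rw [Module.Flat.flat_iff_torsion_eq_bot_of_isBezout,
      ← Submodule.isTorsionFree_iff_torsion_eq_bot]
    infer_instance
  exact trdeg_quotient_le_of_flat A₀ C₀ Q' Q hle

end Groth.Agent.Lib.Helper21.FlatGen
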