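import Groth.Agent.Lib.Helper21.FourCond1

/-!
# The four conditions of EGA IV 13.2.7-13.2.8: the numerical facts
-/

set_option autoImplicit false
set_option linter.style.haveILetI false
set_option linter.unusedSectionVars false
universe u

open AlgebraicGeometry CategoryTheory Limits TopologicalSpace IsLocalRing

namespace Groth.Agent.Lib.Helper21.FourCond

open Groth.Agent.Lib.Helper21.FibDim Groth.Agent.Lib.Helper21.EquiSub

/-- the numerical facts behind EGA IV 13.2.7 and 13.2.8 -/
theorem four_facts {X Y : Scheme.{u}} [IsLocallyNoetherian Y] (f : X ⟶ Y)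
    [LocallyOfFiniteType f] (X' : TopologicalSpace.Closeds X)
    (hirr : IsIrreducible (X' : Set X))
    (w : ↥(Scheme.IdealSheafData.vanishingIdeal X').subscheme)
    (v : ↥(Scheme.IdealSheafData.vanishingIdeal
      (⟨closure (f.base '' (X' : Set X)), isClosed_closure⟩ :
        TopologicalSpace.Closeds Y)).subscheme)
    (hv : (Scheme.IdealSheafData.vanishingIdeal
      (⟨closure (f.base '' (X' : Set X)), isClosed_closure⟩ :
        TopologicalSpace.Closeds Y)).subschemeι.base v =
      f.base ((Scheme.IdealSheafData.vanishingIdeal X').subschemeι.base w))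
    (η' : Y) (hη' : closure ({η'} : Set Y) = closure (f.base '' (X' : Set X))) :
    ∃ a a' b' k k' E t : ℕ,
      ringKrullDim (Y.presheaf.stalk
        (f.base ((Scheme.IdealSheafData.vanishingIdeal X').subschemeι.base w))) = a ∧
      ringKrullDim ((Scheme.IdealSheafData.vanishingIdeal
        (⟨closure (f.base '' (X' : Set X)), isClosed_closure⟩ :
          TopologicalSpace.Closeds Y)).subscheme.presheaf.stalk v) = a' ∧
      ringKrullDim ((Scheme.IdealSheafData.vanishingIdeal X').subscheme.presheaf.stalk w) = b' ∧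
      ringKrullDim ((f.fiber (f.base
        ((Scheme.IdealSheafData.vanishingIdeal X').subschemeι.base w))).presheaf.stalk
          (f.asFiber ((Scheme.IdealSheafData.vanishingIdeal X').subschemeι.base w))) = k ∧
      ringKrullDim ((((Scheme.IdealSheafData.vanishingIdeal X').subschemeι ≫ f).fiber
        (((Scheme.IdealSheafData.vanishingIdeal X').subschemeι ≫ f).base w)).presheaf.stalk
          (((Scheme.IdealSheafData.vanishingIdeal X').subschemeι ≫ f).asFiber w)) = k' ∧
      topologicalKrullDim ↥((X' : Set X) ∩ f.base ⁻¹' {η'}) = E ∧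
      FlatMor.fibreDimAt ((Scheme.IdealSheafData.vanishingIdeal X').subschemeι ≫ f) w =
        ((t + k' : ℕ) : WithBot ℕ∞) ∧
      FlatMor.fibreDimAt f ((Scheme.IdealSheafData.vanishingIdeal X').subschemeι.base w) =
        ((t + k : ℕ) : WithBot ℕ∞) ∧
      a' ≤ a ∧ k' ≤ k ∧ b' ≤ a' + k' ∧ E ≤ t + k' ∧ b' + t ≤ a' + E := by
  haveI : IsLocallyNoetherian X := LocallyOfFiniteType.isLocallyNoetherian f
  let I := Scheme.IdealSheafData.vanishingIdeal X'
  let J := Scheme.IdealSheafData.vanishingIdeal
      (⟨closure (f.base '' (X' : Set X)), isClosed_closure⟩ : TopologicalSpace.Closeds Y)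
  let ιX := I.subschemeι
  let ιY := J.subschemeι
  have hIJ : J ≤ I.map f := by
    rw [Scheme.IdealSheafData.map_vanishingIdeal]
    exact le_rfl
  let g : I.subscheme ⟶ J.subscheme := Scheme.IdealSheafData.subschemeMap I J f hIJ
  have hfac : g ≫ ιY = ιX ≫ f := Scheme.IdealSheafData.subschemeMap_subschemeι I J f hIJ
  haveI : IsLocallyNoetherian I.subscheme := LocallyOfFiniteType.isLocallyNoetherian (ιX ≫ f)
  haveI : IsLocallyNoetherian J.subscheme := LocallyOfFiniteType.isLocallyNoetherian ιY
  haveI hglft : LocallyOfFiniteType g := by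
    haveI : LocallyOfFiniteType (g ≫ ιY) := by rw [hfac]; infer_instance
    exact locallyOfFiniteType_of_comp g ιY
  have hr : Set.range ιX.base = (X' : Set X) := by
    rw [Scheme.IdealSheafData.range_subschemeι, Scheme.IdealSheafData.coe_support_vanishingIdeal]
  have hemb : Topology.IsEmbedding ιX.base := ιX.isEmbedding
  -- the generic point
  obtain ⟨x', hx'⟩ := QuasiSober.sober hirr X'.isClosed
  have hx'cl : closure ({x'} : Set X) = (X' : Set X) := hx'
  obtain ⟨ξ, hξ⟩ : ∃ ξ, ιX.base ξ = x' := by
    have : x' ∈ Set.range ιX.base := by rw [hr, ← hx'cl]; exact subset_closure rfl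
    exact this
  subst hξ
  have hgenξ : ∀ u : I.subscheme, ξ ⤳ u := by
    intro u
    rw [← hemb.isInducing.specializes_iff, specializes_iff_mem_closure, hx'cl, ← hr]
    exact ⟨u, rfl⟩
  -- the image of the generic point
  have hη : (ιX ≫ f) ξ = η' := by
    have h1 : IsGenericPoint (f (ιX ξ)) (closure (f.base '' (X' : Set X))) := by
      have := (show IsGenericPoint (ιX ξ) (X' : Set X) from hx'cl).image f.continuous
      exact this
    have h2 : IsGenericPoint η' (closure (f.base '' (X' : Set X))) := hη'
    exact h1.eq h2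
  -- natural numbers
  obtain ⟨a, ha⟩ := Groth.Agent.Lib.Helper18.SerreReg.exists_ringKrullDim_eq_nat
    (Y.presheaf.stalk (f.base (ιX.base w)))
  obtain ⟨a', ha'⟩ := Groth.Agent.Lib.Helper18.SerreReg.exists_ringKrullDim_eq_nat
    (J.subscheme.presheaf.stalk v)
  obtain ⟨b', hb'⟩ := Groth.Agent.Lib.Helper18.SerreReg.exists_ringKrullDim_eq_nat
    (I.subscheme.presheaf.stalk w)
  obtain ⟨t, k', ht, hk', hF⟩ := exists_fibreDimAt_eq_add (ιX ≫ f) w
  obtain ⟨t₂, k, ht₂, hk, hG⟩ := exists_fibreDimAt_eq_add f (ιX.base w)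
  have htt : t = t₂ := by
    have := trdeg_of_comp_of_surjectiveOnStalks ιX f w t ht
    rw [ht₂] at this
    exact_mod_cast this.symm
  subst htt
  obtain ⟨E, hE⟩ := exists_nat_trdeg_residueFieldMap (ιX ≫ f) ξ
  -- the dimension of the generic fibre
  have hEdim : topologicalKrullDim ↥((X' : Set X) ∩ f.base ⁻¹' {η'}) = E := by
    rw [topologicalKrullDim_inter_preimage_eq ιX hemb f (X' : Set X) hr η', ← hη]
    exact Groth.Agent.Lib.Helper21.IrrFib.topologicalKrullDim_preimage_singleton_eq (ιX ≫ f) ξ E
      (fun u _ => hgenξ u) hE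
  -- (F1)
  have hF1 : a' ≤ a := by
    have := ringKrullDim_stalk_le_of_surjectiveOnStalks ιY v
    rw [ringKrullDim_stalk_congr hv, ha, ha'] at this
    exact_mod_cast this
  -- (F2)
  have hF2 : k' ≤ k := by
    have := ringKrullDim_stalk_fiber_comp_le ιX f w
    rw [hk, hk'] at this
    exact_mod_cast this
  -- the image of `w`
  have hgw : g w = v := by
    apply ιY.isEmbedding.injective
    rw [hv]
    change (g ≫ ιY) w = _
    rw [hfac]
    rfl
  -- (F3)
  have hF3 : b' ≤ a' + k' := by
    have := ringKrullDim_stalk_le_add_fiber_comp g ιY w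
    rw [ringKrullDim_fiber_stalk_congr_hom hfac w, ringKrullDim_stalk_congr hgw, hb', ha',
      hk'] at this
    exact_mod_cast this
  -- Chevalley
  have hChev : E ≤ t + k' := by
    have := le_fibreDimAt_of_specializes (ιX ≫ f) (hgenξ w) E hE
    rw [hF] at this
    exact_mod_cast this
  -- dimension inequality
  have hdim : b' + t ≤ a' + E := by
    obtain ⟨c, hc⟩ := exists_nat_trdeg_residueFieldMap g w
    have hct : t = c := by
      have := trdeg_congr_hom hfac w c (trdeg_comp_surjectiveOnStalks_right g ιY w c hc)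
      rw [ht] at this
      exact_mod_cast this
    subst hct
    have := Groth.Agent.Lib.Helper18.SchDim.stalk_dim_inequality g w t E hc (by
      intro ζ hζ _
      have hζξ : ζ = ξ := by
        have h1 : ξ ⤳ ζ := hgenξ ζ
        have h2 : closure ({ξ} : Set I.subscheme) ≤ closure {ζ} :=
          hζ.2 isIrreducible_singleton.closure (specializes_iff_closure_subset.mp h1)
        exact ((specializes_iff_closure_subset.mpr h2).antisymm h1).eq
      subst hζξ
      obtain ⟨c', hc'⟩ := exists_nat_trdeg_residueFieldMap g ζ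
      have := trdeg_congr_hom hfac ζ c' (trdeg_comp_surjectiveOnStalks_right g ιY ζ c' hc')
      rw [hE] at this
      have : E = c' := by exact_mod_cast this
      rw [hc', this])
    rw [ringKrullDim_stalk_congr hgw, hb', ha'] at this
    exact_mod_cast this
  exact ⟨a, a', b', k, k', E, t, ha, ha', hb', hk, hk', hEdim, hF, hG, hF1, hF2, hF3, hChev, hdim⟩

end Groth.Agent.Lib.Helper21.FourCond
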