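import Mathlib
import Groth.Agent.Lib.Helper23.FieldSep
import Groth.Agent.Lib.Helper12.PIRed2

/-!
# Geometric reducedness from reducedness after adjoining the `p`-th roots of the base field

Let `k` be a field of characteristic `p`, `k'` a field extension of `k` in which every element of
`k` has a `p`-th root, and `A` a `k`-algebra such that `k' ⊗[k] A` is reduced. Then `A` is
geometrically reduced over `k`.
-/

set_option autoImplicit false
set_option linter.style.haveILetI false
set_option linter.unusedSectionVars false
universe u

open TensorProduct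

namespace Groth.Agent.Lib.Helper21.Frob

section field

variable (k K k' : Type u) [Field k] [Field K] [Field k'] [Algebra k K] [Algebra k k']

/-- MacLane's condition from reducedness of `k' ⊗[k] K` -/
theorem linearIndepOn_pow_of_isReduced_tensor (p : ℕ) (hp : p.Prime) [ExpChar k p]
    (hroot : ∀ c : k, ∃ d : k', d ^ p = algebraMap k k' c) [IsReduced (k' ⊗[k] K)]
    (s : Finset K) (hs : LinearIndepOn k _root_.id (s : Set K)) :
    LinearIndepOn k (· ^ p) (s : Set K) := by
  classical
  let T := k' ⊗[k] K
  have hTinj : Function.Injective (algebraMap k T) := by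
    have h1 : Function.Injective (algebraMap k' T) :=
      Algebra.TensorProduct.includeLeft_injective (S := k') (algebraMap k K).injective
    have : algebraMap k T = (algebraMap k' T).comp (algebraMap k k') :=
      IsScalarTower.algebraMap_eq k k' T
    rw [this]
    exact h1.comp (algebraMap k k').injective
  have : ExpChar T p := expChar_of_injective_algebraMap hTinj p
  rw [LinearIndepOn, Fintype.linearIndependent_iff]
  intro g hg
  have hd : ∀ i : (s : Set K), ∃ z : k', z ^ p = algebraMap k k' (g i) := fun i => hroot _
  choose d hd using hd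
  let t : T := ∑ i : (s : Set K), d i ⊗ₜ[k] (i : K)
  have ht : t ^ p = 0 := by
    rw [sum_pow_char]
    have : ∀ i : (s : Set K), (d i ⊗ₜ[k] (i : K)) ^ p = (1 : k') ⊗ₜ[k] (g i • (i : K) ^ p) := by
      intro i
      rw [Algebra.TensorProduct.tmul_pow, hd, Algebra.algebraMap_eq_smul_one,
        TensorProduct.smul_tmul]
    rw [Finset.sum_congr rfl (fun i _ => this i), ← TensorProduct.tmul_sum, hg,
      TensorProduct.tmul_zero]
  have ht0 : t = 0 := IsReduced.eq_zero t ⟨p, ht⟩
  have hli : LinearIndependent k' (fun i : (s : Set K) => (1 : k') ⊗ₜ[k] (i : K)) :=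
    Module.Flat.linearIndependent_one_tmul (S := k') hs
  rw [Fintype.linearIndependent_iff] at hli
  have ht' : ∑ i : (s : Set K), d i • ((1 : k') ⊗ₜ[k] (i : K)) = 0 := by
    rw [← ht0]
    refine Finset.sum_congr rfl (fun i _ => ?_)
    rw [TensorProduct.smul_tmul', smul_eq_mul, mul_one]
  have hdz := hli d ht'
  intro i
  have := hd i
  rw [hdz i, zero_pow hp.ne_zero] at this
  exact (map_eq_zero (algebraMap k k')).mp this.symm

/-- the field case -/
theorem isGeometricallyReduced_of_isReduced_tensor_field (p : ℕ) (hp : p.Prime) [ExpChar k p]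
    (hroot : ∀ c : k, ∃ d : k', d ^ p = algebraMap k k' c) [IsReduced (k' ⊗[k] K)]
    [Algebra.EssFiniteType k K] : Algebra.IsGeometricallyReduced k K := by
  obtain ⟨s, hs, H⟩ :=
    exists_isTranscendenceBasis_and_isSeparable_of_linearIndepOn_pow_of_essFiniteType
      (k := k) (K := K) p hp
      (fun s hs => linearIndepOn_pow_of_isReduced_tensor k K k' p hp hroot s hs)
  have : Algebra.IsSeparable (↥(IntermediateField.adjoin k (Set.range ((↑) : s → K)))) K := by
    convert! H <;> simp
  haveI : Algebra.FormallySmooth k K := .of_algebraicIndependent_of_isSeparable hs.1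
  exact Groth.Agent.Lib.Helper23.FieldSep.isGeometricallyReduced_of_formallySmooth k K

end field

section algebra

variable (k k' : Type u) [Field k] [Field k'] [Algebra k k']

/-- a finite product of geometrically reduced algebras is geometrically reduced -/
theorem isGeometricallyReduced_pi {ι : Type u} [Finite ι] (K : ι → Type u) [∀ i, CommRing (K i)]
    [∀ i, Algebra k (K i)] [∀ i, Algebra.IsGeometricallyReduced k (K i)] :
    Algebra.IsGeometricallyReduced k (∀ i, K i) := by
  classical
  haveI := Fintype.ofFinite ι
  rw [Algebra.isGeometricallyReduced_field_iff]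
  let e := Algebra.TensorProduct.piRight k (AlgebraicClosure k) (AlgebraicClosure k) K
  haveI : ∀ i, IsReduced (AlgebraicClosure k ⊗[k] K i) := fun i =>
    (Algebra.isGeometricallyReduced_field_iff k (K i)).mp inferInstance
  exact isReduced_of_injective e.toRingHom e.injective

set_option maxHeartbeats 800000 in
/-- the localisation of a tensor product -/
theorem isReduced_tensor_localization (B : Type u) [CommRing B] [Algebra k B]
    [IsReduced (k' ⊗[k] B)] (M : Submonoid B) (L : Type u) [CommRing L] [Algebra B L] [Algebra k L]
    [IsScalarTower k B L] [IsLocalization M L] : IsReduced (k' ⊗[k] L) := by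
  let φ : k' ⊗[k] B →ₐ[k'] k' ⊗[k] L :=
    Algebra.TensorProduct.map (AlgHom.id k' k') (IsScalarTower.toAlgHom k B L)
  letI : Algebra (k' ⊗[k] B) (k' ⊗[k] L) := φ.toRingHom.toAlgebra
  haveI : IsScalarTower k' (k' ⊗[k] B) (k' ⊗[k] L) := by
    refine IsScalarTower.of_algebraMap_eq' ?_
    ext c
    change algebraMap k' (k' ⊗[k] L) c = φ (algebraMap k' (k' ⊗[k] B) c)
    rw [AlgHom.commutes]
  have H : (algebraMap (k' ⊗[k] B) (k' ⊗[k] L)).comp
      (Algebra.TensorProduct.includeRight (R := k) (A := k') (B := B)).toRingHom =
      (Algebra.TensorProduct.includeRight (R := k) (A := k') (B := L)).toRingHom.comp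
        (algebraMap B L) := by
    ext b
    change φ ((1 : k') ⊗ₜ[k] b) = (1 : k') ⊗ₜ[k] (algebraMap B L b)
    rw [Algebra.TensorProduct.map_tmul]
    rfl
  haveI := IsLocalization.tensorProduct_tensorProduct_right k k' M L H
  exact isReduced_localizationPreserves
    (M.map (Algebra.TensorProduct.includeRight (R := k) (A := k') (B := B))) (k' ⊗[k] L)
    inferInstance

set_option maxHeartbeats 800000 in
/-- the finite type case -/
theorem isGeometricallyReduced_of_isReduced_tensor_finiteType (p : ℕ) (hp : p.Prime)
    [ExpChar k p] (hroot : ∀ c : k, ∃ d : k', d ^ p = algebraMap k k' c)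
    (B : Type u) [CommRing B] [Algebra k B] [Algebra.FiniteType k B] [IsReduced (k' ⊗[k] B)] :
    Algebra.IsGeometricallyReduced k B := by
  classical
  haveI : IsReduced B := isReduced_of_injective
    (Algebra.TensorProduct.includeRight : B →ₐ[k] k' ⊗[k] B)
    (Algebra.TensorProduct.includeRight_injective (algebraMap k k').injective)
  haveI : IsNoetherianRing B := Algebra.FiniteType.isNoetherianRing k B
  have hfin : (minimalPrimes B).Finite := minimalPrimes.finite_of_isNoetherianRing B
  let ι : Type u := ↥(minimalPrimes B)
  haveI : Finite ι := hfin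
  haveI hprime : ∀ i : ι, i.1.IsPrime := fun i => i.2.1.1
  let K : ι → Type u := fun i => Localization.AtPrime i.1
  have hgr : ∀ i : ι, Algebra.IsGeometricallyReduced k (K i) := by
    intro i
    have hF := Groth.Agent.Lib.Helper12.H12PIRed.isField_localization_atPrime_of_minimal i.1 i.2
    letI : Field (K i) := hF.toField
    haveI : Algebra.EssFiniteType B (K i) := .of_isLocalization _ i.1.primeCompl
    haveI : Algebra.EssFiniteType k (K i) := Algebra.EssFiniteType.comp k B (K i)
    haveI : IsReduced (k' ⊗[k] K i) := isReduced_tensor_localization k k' B i.1.primeCompl (K i)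
    exact isGeometricallyReduced_of_isReduced_tensor_field k (K i) k' p hp hroot
  haveI := hgr
  haveI : Algebra.IsGeometricallyReduced k (∀ i, K i) := isGeometricallyReduced_pi k K
  let f : B →ₐ[k] ∀ i, K i := Pi.algHom k K (fun i => IsScalarTower.toAlgHom k B (K i))
  refine Algebra.IsGeometricallyReduced.of_injective f ?_
  rw [injective_iff_map_eq_zero]
  intro b hb
  have hmem : b ∈ sInf (minimalPrimes B) := by
    rw [Ideal.mem_sInf]
    intro q hq
    have h1 : algebraMap B (K ⟨q, hq⟩) b = 0 := congrFun hb ⟨q, hq⟩
    haveI : q.IsPrime := hq.1.1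
    rw [IsLocalization.map_eq_zero_iff q.primeCompl] at h1
    obtain ⟨u, hu⟩ := h1
    have h0 : (u : B) * b ∈ q := by rw [hu]; exact Ideal.zero_mem _
    exact (Ideal.IsPrime.mem_or_mem ‹q.IsPrime› h0).resolve_left u.2
  have h2 : sInf (minimalPrimes B) = (⊥ : Ideal B) := by
    have := Ideal.sInf_minimalPrimes (I := (⊥ : Ideal B))
    rw [this]
    exact nilradical_eq_bot_iff.mpr inferInstance
  rw [h2] at hmem
  exact hmem

/-- **geometric reducedness from reducedness after adjoining `p`-th roots** -/
theorem isGeometricallyReduced_of_isReduced_tensor (p : ℕ) (hp : p.Prime)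
    [ExpChar k p] (hroot : ∀ c : k, ∃ d : k', d ^ p = algebraMap k k' c)
    (A : Type u) [CommRing A] [Algebra k A] [IsReduced (k' ⊗[k] A)] :
    Algebra.IsGeometricallyReduced k A := by
  refine Algebra.IsGeometricallyReduced.of_forall_fg fun B hB => ?_
  haveI : Algebra.FiniteType k B := (Subalgebra.fg_iff_finiteType B).mp hB
  haveI : IsReduced (k' ⊗[k] B) := isReduced_of_injective
    (Algebra.TensorProduct.map (AlgHom.id k' k') B.val)
    (Module.Flat.lTensor_preserves_injective_linearMap (M := k') B.val.toLinearMap
      Subtype.val_injective)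
  exact isGeometricallyReduced_of_isReduced_tensor_finiteType k k' p hp hroot B

end algebra

end Groth.Agent.Lib.Helper21.Frob
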