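import Mathlib
import Groth.Agent.Lib.Helper21.Frob1
import Groth.Agent.S2535

/-!
# A scheme over a field of characteristic `p` is geometrically reduced iff its Frobenius twist is
reduced
-/

set_option autoImplicit false
set_option linter.style.haveILetI false
set_option linter.unusedSectionVars false
universe u

open CategoryTheory CategoryTheory.Limits AlgebraicGeometry Opposite TensorProduct

namespace Groth.Agent.Lib.Helper21.Frob

/-- the field `k` regarded as a `k`-algebra through the Frobenius endomorphism -/
def FrobAlg (k : Type u) (_p : ℕ) : Type u := k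

noncomputable instance (k : Type u) [Field k] (p : ℕ) : Field (FrobAlg k p) :=
  inferInstanceAs (Field k)

noncomputable instance (k : Type u) [Field k] (p : ℕ) [Fact p.Prime] [CharP k p] :
    Algebra k (FrobAlg k p) := (frobenius k p).toAlgebra

theorem algebraMap_frobAlg (k : Type u) [Field k] (p : ℕ) [Fact p.Prime] [CharP k p] :
    algebraMap k (FrobAlg k p) = frobenius k p := rfl

theorem exists_root_frobAlg (k : Type u) [Field k] (p : ℕ) [Fact p.Prime] [CharP k p] (c : k) :
    ∃ d : FrobAlg k p, d ^ p = algebraMap k (FrobAlg k p) c :=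
  ⟨c, rfl⟩

set_option maxHeartbeats 800000 in
theorem geometricallyReduced_of_isReduced_frobeniusTwist {k : Type u} [Field k] {X : Scheme.{u}}
    (f : X ⟶ Spec (CommRingCat.of k)) (p : ℕ) [Fact p.Prime] [CharP k p]
    (hX : IsReduced (pullback f (Spec.map (CommRingCat.ofHom (frobenius k p))))) :
    GeometricallyReduced f := by
  haveI : ExpChar k p := ExpChar.prime (Fact.out : p.Prime)
  haveI : IsReduced (FBase.bc f (AlgebraicClosure k)) := by
    refine @IsReduced.of_openCover _ (Scheme.Pullback.openCoverOfLeft X.affineCover f
      (Spec.map (CommRingCat.ofHom (algebraMap k (AlgebraicClosure k))))) fun i => ?_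
    show IsReduced (pullback (X.affineCover.f i ≫ f)
      (Spec.map (CommRingCat.ofHom (algebraMap k (AlgebraicClosure k)))))
    obtain ⟨A, _, _, -, hA⟩ := Groth.Agent.S2535.affine_bc (X.affineCover.X i)
      (X.affineCover.f i ≫ f)
    rw [hA (AlgebraicClosure k)]
    have h2 : IsReduced (pullback f (Spec.map (CommRingCat.ofHom (algebraMap k (FrobAlg k p))))) :=
      hX
    have hoi : IsOpenImmersion ((Scheme.Pullback.openCoverOfLeft X.affineCover f
        (Spec.map (CommRingCat.ofHom (algebraMap k (FrobAlg k p))))).f i) :=
      Scheme.Cover.map_prop (Scheme.Pullback.openCoverOfLeft X.affineCover f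
        (Spec.map (CommRingCat.ofHom (algebraMap k (FrobAlg k p))))) i
    have h3 : IsReduced (pullback (X.affineCover.f i ≫ f)
        (Spec.map (CommRingCat.ofHom (algebraMap k (FrobAlg k p))))) :=
      @isReduced_of_isOpenImmersion _ _ _ hoi h2
    have h4 : _root_.IsReduced (A ⊗[k] FrobAlg k p) := (hA (FrobAlg k p)).mp h3
    haveI : _root_.IsReduced (FrobAlg k p ⊗[k] A) :=
      isReduced_of_injective (Algebra.TensorProduct.comm k (FrobAlg k p) A).toAlgHom
        (Algebra.TensorProduct.comm k (FrobAlg k p) A).injective
    haveI : Algebra.IsGeometricallyReduced k A :=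
      isGeometricallyReduced_of_isReduced_tensor k (FrobAlg k p) p (Fact.out : p.Prime)
        (exists_root_frobAlg k p) A
    have h5 : _root_.IsReduced (AlgebraicClosure k ⊗[k] A) :=
      (Algebra.isGeometricallyReduced_field_iff k A).mp inferInstance
    exact isReduced_of_injective (Algebra.TensorProduct.comm k A (AlgebraicClosure k)).toAlgHom
      (Algebra.TensorProduct.comm k A (AlgebraicClosure k)).injective
  exact Groth.Agent.S2535.result (Ω := AlgebraicClosure k) f

end Groth.Agent.Lib.Helper21.Frob
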