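import Groth.Agent.Lib.Helper21.Gaps

/-!
# Generation at a closed point of a curve in terms of `h⁰(L ⊗ I_P)`
-/

set_option autoImplicit false
set_option linter.style.haveILetI false
set_option linter.unusedSectionVars false
universe u
open CategoryTheory CategoryTheory.Limits AlgebraicGeometry TopologicalSpace Opposite

namespace Groth.Agent.Lib.Helper21.GGCrit

open Groth.Agent.Lib.Helper29.QCoh Groth.Agent.Lib.Lead.LinLES Groth.Agent.Lib.Lead.TwistExact
  Groth.Agent.Lib.Helper21.CDeg Groth.Agent.Lib.Helper25.HypTwist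
  Groth.Agent.Lib.Helper21.TwistDown

section Van

variable {X : Scheme.{u}}

/-- a section which does not generate `L` at the closed point `q` vanishes in `L ⊗ κ(q)` -/
theorem comp_eq_zero_of_notMem_genLocus (q : X) (hq : IsClosed ({q} : Set X)) (L : X.Modules)
    (hL : PicF.IsInvertible L) (σ' : unitM X ⟶ CohB1.tensorMod (unitM X) L)
    (hqσ : q ∉ CohB1.genLocus L (σ' ≫ (tensorUnitL L).hom)) :
    σ' ≫ (show CohB1.tensorMod (unitM X) L ⟶ CohB1.tensorMod
        (ClSub.quotMod (Scheme.IdealSheafData.vanishingIdeal ⟨{q}, hq⟩)) L from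
      ((idealSeq (Scheme.IdealSheafData.vanishingIdeal ⟨{q}, hq⟩)).map (tensorRight L)).g) =
      0 := by
  set σ : unitM X ⟶ L := σ' ≫ (tensorUnitL L).hom with hσdef
  have hσ' : σ' = σ ≫ (tensorUnitL L).inv := by
    rw [hσdef, Category.assoc, Iso.hom_inv_id, Category.comp_id]
  obtain ⟨V, e, hV, hqV, -, he⟩ := exists_affine_isTriv hL (W := ⊤) q trivial
  obtain ⟨b, hb⟩ := he.exists_eq_smul (sval σ V)
  have hqb : q ∉ X.basicOpen b :=
    fun h => hqσ ((mem_genLocus_iff_of_isTriv σ he b hb q hqV).mpr h)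
  have hbD : b ∈ (Scheme.IdealSheafData.vanishingIdeal ⟨{q}, hq⟩).ideal ⟨V, hV⟩ :=
    (Groth.Agent.Lib.Helper21.RegPt.mem_vanishingIdeal_point_iff q hq hV hqV b).mpr hqb
  have hQst : ∀ x, x ∉ ({q} : Set X) → Subsingleton ((ClSub.quotMod
      (Scheme.IdealSheafData.vanishingIdeal ⟨{q}, hq⟩)).presheaf.stalk x) :=
    fun x hx => Groth.Agent.Lib.Helper21.RegPt.subsingleton_stalk_quotMod_point X q hq x hx
  generalize Scheme.IdealSheafData.vanishingIdeal ⟨{q}, hq⟩ = D at hQst hbD
  have hL1 := (isInvertible_iff_isFinLocFreeOfRank_one L).mp hL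
  rw [hσ']
  generalize (show CohB1.tensorMod (unitM X) L ⟶ CohB1.tensorMod (ClSub.quotMod D) L from
      ((idealSeq D).map (tensorRight L)).g) = g
  apply hom_ext_of_sval
  have h0 : sval (0 : unitM X ⟶ CohB1.tensorMod (ClSub.quotMod D) L) ⊤ = 0 := rfl
  rw [h0]
  refine eq_zero_of_germ_eq_zero _ _ (fun x hx => ?_)
  by_cases hxq : x = q
  · subst hxq
    rw [← germ_res _ (le_top : V ≤ ⊤) x hqV, res_sval, sval_comp, sval_comp, hb,
      Scheme.Modules.Hom.app_smul, Scheme.Modules.Hom.app_smul, germ_smul]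
    obtain ⟨T, hT⟩ := Groth.Agent.Lib.Helper21.ZSupp.exists_stalk_equiv (ClSub.quotMod D) L 1
      hL1 x
    obtain ⟨v, hv⟩ := T.surjective ((CohB1.tensorMod (ClSub.quotMod D) L).presheaf.germ V x hqV
      (g.app V ((tensorUnitL L).inv.app V e)))
    rw [← hv, ← hT]
    have hzero : X.presheaf.germ V x hqV b • v = 0 := by
      funext i
      exact Groth.Agent.Lib.Helper21.BasePt.germ_smul_stalk_quotMod D x hV hqV b hbD (v i)
    rw [hzero, map_zero]
  · haveI := Groth.Agent.Lib.Helper25.SuppTensor.subsingleton_stalk_tensorMod _ L x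
      (hQst x hxq)
    exact Subsingleton.elim _ _

end Van

section Crit

variable (k : Type u) [Field k] [IsAlgClosed k] (X : Scheme.{u}) [X.Over (Spec (CommRingCat.of k))]
  [IsIntegral X] [IsProper (X ↘ (Spec (CommRingCat.of k)))]

/-- **a closed point `q` imposes a condition on the sections of `N` iff some section of `N`
generates `N` at `q`** -/
theorem finrank_eq_iff_exists_mem_genLocus (q : X) (hq : IsClosed ({q} : Set X)) (N : X.Modules)
    (hN : PicF.IsInvertible N) :
    Module.finrank k (Coh.HH X (CohB1.tensorMod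
        (ClSub.idealMod (Scheme.IdealSheafData.vanishingIdeal ⟨{q}, hq⟩)) N) 0) + 1 =
      Module.finrank k (Coh.HH X N 0) ↔ ∃ σ : unitM X ⟶ N, q ∈ CohB1.genLocus N σ := by
  haveI : IsLocallyNoetherian X :=
    LocallyOfFiniteType.isLocallyNoetherian (X ↘ Spec (CommRingCat.of k))
  have hQ0 := Groth.Agent.Lib.Helper21.RegPt.finrank_HH_zero_quotMod_point k X q hq
  have hQnt := Groth.Agent.Lib.Helper21.RegPt.nontrivial_stalk_quotMod_point k X q hq
  have hQst : ∀ x, x ∉ ({q} : Set X) → Subsingleton ((ClSub.quotMod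
      (Scheme.IdealSheafData.vanishingIdeal ⟨{q}, hq⟩)).presheaf.stalk x) :=
    fun x hx => Groth.Agent.Lib.Helper21.RegPt.subsingleton_stalk_quotMod_point X q hq x hx
  have hvan := comp_eq_zero_of_notMem_genLocus q hq N hN
  generalize Scheme.IdealSheafData.vanishingIdeal ⟨{q}, hq⟩ = D at hQ0 hQnt hQst hvan
  have hS := shortExact_idealSeq D
  have hS' := shortExact_map_tensorRight (isFlat_of_isInvertible hN) _ hS
  have hN1 := (isInvertible_iff_isFinLocFreeOfRank_one N).mp hN
  have cO : Coh.IsCoh (unitM X) := Groth.Agent.Lib.Helper12.H12Dev.isCoh_unitM X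
  have cQ : Coh.IsCoh (ClSub.quotMod D) :=
    Groth.Agent.Lib.Helper17.ExtTorsionGeom.isCoh_pushforward_unit D.subschemeι
  have cJ : Coh.IsCoh (ClSub.idealMod D) :=
    Groth.Agent.Lib.Helper12.H12Dev.isCoh_kernel _ cO cQ
  have cN : Coh.IsCoh N := ⟨isQuasicoherent_of_isInvertible hN, isFiniteType_of_isInvertible hN⟩
  have hZ : ∀ T : Set X, T ⊆ ({q} : Set X) → IsClosed T := by
    intro T hT
    rcases Set.subset_singleton_iff_eq.mp hT with h | h
    · rw [h]; exact isClosed_empty
    · rw [h]; exact hq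
  haveI : (ClSub.quotMod D).IsQuasicoherent := cQ.1
  obtain ⟨Ψ⟩ := nonempty_linearEquiv_HH_zero_tensorMod k (ClSub.quotMod D) N hN {q} hZ hQst
  have hQN0 : Module.finrank k (Coh.HH X (CohB1.tensorMod (ClSub.quotMod D) N) 0) = 1 := by
    rw [← Ψ.finrank_eq]; exact hQ0
  let g : CohB1.tensorMod (unitM X) N ⟶ CohB1.tensorMod (ClSub.quotMod D) N :=
    ((idealSeq D).map (tensorRight N)).g
  let f : CohB1.tensorMod (ClSub.idealMod D) N ⟶ CohB1.tensorMod (unitM X) N :=
    ((idealSeq D).map (tensorRight N)).f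
  haveI hfmono : Mono f := hS'.mono_f
  haveI hgepi : Epi g := hS'.epi_g
  have cJN := Groth.Agent.Lib.Helper12.H12Fin.isCoh_tensorMod' cJ cN
  have cON := Groth.Agent.Lib.Helper12.H12Fin.isCoh_tensorMod' cO cN
  have cQN := Groth.Agent.Lib.Helper12.H12Fin.isCoh_tensorMod' cQ cN
  haveI : Module.Finite k (Coh.HH X (CohB1.tensorMod (unitM X) N) 0) :=
    Groth.Agent.S0002.result k X _ cON 0
  haveI : Module.Finite k (Coh.HH X (CohB1.tensorMod (ClSub.idealMod D) N) 0) :=
    Groth.Agent.S0002.result k X _ cJN 0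
  haveI : Module.Finite k (Coh.HH X (CohB1.tensorMod (ClSub.quotMod D) N) 0) :=
    Groth.Agent.S0002.result k X _ cQN 0
  have hinj0 : Function.Injective (Canon.HHlin k f 0) := by
    have happ := (mono_iff_app_injective f).mp hfmono ⊤
    intro x y hxy
    apply (hh0 _).injective
    apply happ
    rw [← hh0_map k f, ← hh0_map k f, hxy]
  have hON : Module.finrank k (Coh.HH X (CohB1.tensorMod (unitM X) N) 0) =
      Module.finrank k (Coh.HH X N 0) := (HHlinEquiv k (tensorUnitL N) 0).finrank_eq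
  have hex : Function.Exact (Canon.HHlin k f 0) (Canon.HHlin k g 0) := exact₂ k _ hS' 0
  have hker : LinearMap.ker (Canon.HHlin k g 0) = LinearMap.range (Canon.HHlin k f 0) :=
    (LinearMap.exact_iff.mp hex)
  have hrn := LinearMap.finrank_range_add_finrank_ker (Canon.HHlin k g 0)
  have hr1 : Module.finrank k (LinearMap.range (Canon.HHlin k g 0)) ≤ 1 := by
    rw [← hQN0]
    exact Submodule.finrank_le _
  have hk1 : Module.finrank k (LinearMap.ker (Canon.HHlin k g 0)) =
      Module.finrank k (Coh.HH X (CohB1.tensorMod (ClSub.idealMod D) N) 0) := by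
    rw [hker]
    exact LinearMap.finrank_range_of_inj hinj0
  -- the count is governed by whether `H⁰(g)` vanishes
  have hcount : Module.finrank k (Coh.HH X (CohB1.tensorMod (ClSub.idealMod D) N) 0) + 1 =
      Module.finrank k (Coh.HH X N 0) ↔ ∃ v, Canon.HHlin k g 0 v ≠ 0 := by
    constructor
    · intro h
      by_contra hcon
      push Not at hcon
      have hr0 : Module.finrank k (LinearMap.range (Canon.HHlin k g 0)) = 0 := by
        have hbot : LinearMap.range (Canon.HHlin k g 0) = ⊥ := by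
          rw [LinearMap.range_eq_bot]
          ext v
          exact hcon v
        rw [hbot]
        exact finrank_bot k _
      omega
    · rintro ⟨v, hv⟩
      have hpos : 0 < Module.finrank k (LinearMap.range (Canon.HHlin k g 0)) := by
        rw [Module.finrank_pos_iff_exists_ne_zero]
        refine ⟨⟨Canon.HHlin k g 0 v, LinearMap.mem_range_self _ v⟩, fun h0 => hv ?_⟩
        exact congrArg Subtype.val h0
      omega
  rw [hcount]
  constructor
  · rintro ⟨v, hv⟩
    let σ' : unitM X ⟶ CohB1.tensorMod (unitM X) N := homOfSection _ (hh0 _ v)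
    refine ⟨σ' ≫ (tensorUnitL N).hom, ?_⟩
    by_contra hnot
    apply hv
    have h1 : σ' ≫ g = 0 := hvan σ' hnot
    apply (hh0 _).injective
    rw [hh0_map, map_zero]
    have h2 : sval (σ' ≫ g) ⊤ = 0 := by rw [h1]; rfl
    rw [sval_comp, sval_homOfSection, res_self] at h2
    exact h2
  · rintro ⟨σ, hqV⟩
    let σ' : unitM X ⟶ CohB1.tensorMod (unitM X) N := σ ≫ (tensorUnitL N).inv
    have hsurj_q : Function.Surjective (stalkMap (σ' ≫ g) q) := by
      intro y
      obtain ⟨y₁, rfl⟩ := (epi_iff_stalkMap_surjective g).mp hgepi q y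
      obtain ⟨r, hr⟩ := stalkMap_surjective_of_mem_genLocus σ hqV
        (stalkMap (tensorUnitL N).hom q y₁)
      refine ⟨r, ?_⟩
      have e1 : stalkMap (σ' ≫ g) q r =
          stalkMap g q (stalkMap (tensorUnitL N).inv q (stalkMap σ q r)) := by
        change stalkMap ((σ ≫ (tensorUnitL N).inv) ≫ g) q r = _
        rw [stalkMap_comp_apply, stalkMap_comp_apply]
      have e2 : stalkMap (tensorUnitL N).inv q (stalkMap (tensorUnitL N).hom q y₁) = y₁ := by
        rw [← stalkMap_comp_apply, (tensorUnitL N).hom_inv_id, stalkMap_id]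
        rfl
      rw [e1, hr, e2]
    haveI hQNq : Nontrivial ((CohB1.tensorMod (ClSub.quotMod D) N).presheaf.stalk q) := by
      obtain ⟨T, -⟩ := Groth.Agent.Lib.Helper21.ZSupp.exists_stalk_equiv (ClSub.quotMod D) N 1
        hN1 q
      haveI := hQnt
      haveI : Nontrivial (Fin 1 → (ClSub.quotMod D).presheaf.stalk q) := Function.nontrivial
      exact T.symm.toEquiv.nontrivial
    have hψ : σ' ≫ g ≠ 0 := by
      intro h0
      obtain ⟨y, hy⟩ := exists_ne (0 : (CohB1.tensorMod (ClSub.quotMod D) N).presheaf.stalk q)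
      obtain ⟨r, hr⟩ := hsurj_q y
      rw [h0, stalkMap_zero_apply] at hr
      exact hy hr.symm
    have hsv : sval (σ' ≫ g) ⊤ ≠ 0 := by
      intro h0
      apply hψ
      apply hom_ext_of_sval
      rw [h0]
      rfl
    refine ⟨(hh0 _).symm (sval σ' ⊤), fun h0 => hsv ?_⟩
    have := congrArg (hh0 _) h0
    rw [hh0_map, AddEquiv.apply_symm_apply, map_zero] at this
    rw [sval_comp]
    exact this

end Crit

section Gen

variable {X : Scheme.{u}}

/-- a global section generating `L` near `x` generates the stalk at `x` -/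
theorem genAt_of_mem_genLocus {L : X.Modules} (σ : unitM X ⟶ L) {x : X}
    (hx : x ∈ CohB1.genLocus L σ) : GenAt L x := by
  rw [GenAt, eq_top_iff]
  rintro t -
  obtain ⟨r, rfl⟩ := stalkMap_surjective_of_mem_genLocus σ hx t
  obtain ⟨U, hxU, m, rfl⟩ := TopCat.Presheaf.exists_germ_eq (unitM X).presheaf r
  obtain ⟨a, rfl⟩ := toUnit_surjective m
  rw [stalkMap_germ, app_eq_smul_sval, germ_smul, ← res_sval σ (le_top : U ≤ ⊤), germ_res]
  exact Submodule.smul_mem _ _ (Submodule.subset_span ⟨sval σ ⊤, rfl⟩)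

end Gen

end Groth.Agent.Lib.Helper21.GGCrit
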