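import Groth.Agent.Lib.Helper21.IdealCart
import Groth.Agent.Lib.Helper21.GGCrit

/-!
# Integral proper curves of genus zero over an algebraically closed field are regular

For a closed point `p` and an invertible module `L` of degree one with two independent sections,
a section of `L` vanishing at `p` identifies `O_X` with `m_p ⊗ L`; hence `m_p` is invertible and
the local ring at `p` is a discrete valuation ring.
-/

set_option autoImplicit false
set_option linter.style.haveILetI false
set_option linter.unusedSectionVars false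
universe u
open CategoryTheory CategoryTheory.Limits AlgebraicGeometry TopologicalSpace Opposite

namespace Groth.Agent.Lib.Helper21.GenusZero

open Groth.Agent.Lib.Helper29.QCoh Groth.Agent.Lib.Lead.LinLES Groth.Agent.Lib.Lead.TwistExact
  Groth.Agent.Lib.Helper21.CDeg Groth.Agent.Lib.Helper25.HypTwist
  Groth.Agent.Lib.Helper21.TwistDown Groth.Agent.Lib.Helper21.RegPt

section Key

variable (k : Type u) [Field k] [IsAlgClosed k] (X : Scheme.{u}) [X.Over (Spec (CommRingCat.of k))]
  [IsIntegral X] [IsProper (X ↘ (Spec (CommRingCat.of k)))]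

/-- the degree of the ideal of a Cartier closed point is `-1` -/
theorem deg_idealMod_point (hdim : topologicalKrullDim X = 1) (q : X)
    (hq : IsClosed ({q} : Set X))
    (hcart : BlowUp.IsEffCartierIdeal (Scheme.IdealSheafData.vanishingIdeal ⟨{q}, hq⟩)) :
    Curv2.deg k X (ClSub.idealMod (Scheme.IdealSheafData.vanishingIdeal ⟨{q}, hq⟩)) 1 = -1 := by
  have hQ0 := finrank_HH_zero_quotMod_point k X q hq
  have hne : Scheme.IdealSheafData.vanishingIdeal ⟨{q}, hq⟩ ≠ ⊥ := by
    intro h
    obtain ⟨U, hqU, f, hf, hUf⟩ := hcart q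
    rw [h, Scheme.IdealSheafData.ideal_bot, Pi.bot_apply] at hUf
    have hf0 : f = 0 := by
      rw [← Ideal.span_singleton_eq_bot]
      exact hUf.symm
    haveI : Nonempty U.1 := ⟨⟨q, hqU⟩⟩
    exact nonZeroDivisors.ne_zero hf hf0
  have h := Groth.Agent.Lib.Helper21.IdealCart.deg_idealMod k X hdim.le _ hcart hne
  rw [hQ0] at h
  exact h

/-- there is an invertible module of degree one -/
theorem exists_deg_one (hdim : topologicalKrullDim X = 1) :
    ∃ L : X.Modules, PicF.IsInvertible L ∧ Curv2.deg k X L 1 = 1 := by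
  obtain ⟨q, hq, -, hcart⟩ := exists_closed_cartier_point k X hdim ⊤ ⟨genericPoint X, trivial⟩
  have hJ := isInvertible_idealMod _ hcart
  have dJ := deg_idealMod_point k X hdim q hq hcart
  obtain ⟨N, hN, ⟨e⟩⟩ := Groth.Agent.Lib.Helper29.QCoh.Dual.exists_inverse hJ
  refine ⟨N, hN, ?_⟩
  have h1 := deg_tensorMod k X hdim.le hN hJ
  have h2 : Curv2.deg k X (unitM X) 1 = 0 := deg_structureModule k X
  rw [deg_of_iso k e 1, h2, dJ] at h1
  linarith

/-- **a section vanishing at `p` trivialises `m_p ⊗ L`** when `deg L = 1` and `h⁰(L) ≥ 2` -/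
theorem exists_iso_unit_ideal_twist (hdim : topologicalKrullDim X = 1) (p : X)
    (hp : IsClosed ({p} : Set X)) (L : X.Modules) (hL : PicF.IsInvertible L)
    (hdeg : Curv2.deg k X L 1 = 1) (h0 : 2 ≤ Module.finrank k (Coh.HH X L 0)) :
    Nonempty (unitM X ≅ CohB1.tensorMod
      (ClSub.idealMod (Scheme.IdealSheafData.vanishingIdeal ⟨{p}, hp⟩)) L) := by
  haveI : IsLocallyNoetherian X :=
    LocallyOfFiniteType.isLocallyNoetherian (X ↘ Spec (CommRingCat.of k))
  have hQ0 := finrank_HH_zero_quotMod_point k X p hp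
  have hQst : ∀ x, x ∉ ({p} : Set X) → Subsingleton ((ClSub.quotMod
      (Scheme.IdealSheafData.vanishingIdeal ⟨{p}, hp⟩)).presheaf.stalk x) :=
    fun x hx => subsingleton_stalk_quotMod_point X p hp x hx
  generalize Scheme.IdealSheafData.vanishingIdeal ⟨{p}, hp⟩ = D at hQ0 hQst
  have hS := shortExact_idealSeq D
  have hS' := shortExact_map_tensorRight (isFlat_of_isInvertible hL) _ hS
  have cO : Coh.IsCoh (unitM X) := Groth.Agent.Lib.Helper12.H12Dev.isCoh_unitM X
  have cQ : Coh.IsCoh (ClSub.quotMod D) :=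
    Groth.Agent.Lib.Helper17.ExtTorsionGeom.isCoh_pushforward_unit D.subschemeι
  have cJ : Coh.IsCoh (ClSub.idealMod D) :=
    Groth.Agent.Lib.Helper12.H12Dev.isCoh_kernel _ cO cQ
  have cL : Coh.IsCoh L := ⟨isQuasicoherent_of_isInvertible hL, isFiniteType_of_isInvertible hL⟩
  have hZ : ∀ T : Set X, T ⊆ ({p} : Set X) → IsClosed T := by
    intro T hT
    rcases Set.subset_singleton_iff_eq.mp hT with h | h
    · rw [h]; exact isClosed_empty
    · rw [h]; exact hp
  haveI : (ClSub.quotMod D).IsQuasicoherent := cQ.1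
  obtain ⟨Ψ⟩ := nonempty_linearEquiv_HH_zero_tensorMod k (ClSub.quotMod D) L hL {p} hZ hQst
  have hQN0 : Module.finrank k (Coh.HH X (CohB1.tensorMod (ClSub.quotMod D) L) 0) = 1 := by
    rw [← Ψ.finrank_eq]; exact hQ0
  let g : CohB1.tensorMod (unitM X) L ⟶ CohB1.tensorMod (ClSub.quotMod D) L :=
    ((idealSeq D).map (tensorRight L)).g
  let f : CohB1.tensorMod (ClSub.idealMod D) L ⟶ CohB1.tensorMod (unitM X) L :=
    ((idealSeq D).map (tensorRight L)).f
  haveI hfmono : Mono f := hS'.mono_f
  have cJN := Groth.Agent.Lib.Helper12.H12Fin.isCoh_tensorMod' cJ cL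
  have cON := Groth.Agent.Lib.Helper12.H12Fin.isCoh_tensorMod' cO cL
  have cQN := Groth.Agent.Lib.Helper12.H12Fin.isCoh_tensorMod' cQ cL
  haveI : Module.Finite k (Coh.HH X (CohB1.tensorMod (unitM X) L) 0) :=
    Groth.Agent.S0002.result k X _ cON 0
  haveI : Module.Finite k (Coh.HH X (CohB1.tensorMod (ClSub.idealMod D) L) 0) :=
    Groth.Agent.S0002.result k X _ cJN 0
  haveI : Module.Finite k (Coh.HH X (CohB1.tensorMod (ClSub.quotMod D) L) 0) :=
    Groth.Agent.S0002.result k X _ cQN 0
  have hinj0 : Function.Injective (Canon.HHlin k f 0) := by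
    have happ := (mono_iff_app_injective f).mp hfmono ⊤
    intro x y hxy
    apply (hh0 _).injective
    apply happ
    rw [← hh0_map k f, ← hh0_map k f, hxy]
  have hON : Module.finrank k (Coh.HH X (CohB1.tensorMod (unitM X) L) 0) =
      Module.finrank k (Coh.HH X L 0) := (HHlinEquiv k (tensorUnitL L) 0).finrank_eq
  have hex : Function.Exact (Canon.HHlin k f 0) (Canon.HHlin k g 0) := exact₂ k _ hS' 0
  have hker : LinearMap.ker (Canon.HHlin k g 0) = LinearMap.range (Canon.HHlin k f 0) :=
    (LinearMap.exact_iff.mp hex)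
  have hrn := LinearMap.finrank_range_add_finrank_ker (Canon.HHlin k g 0)
  have hr1 : Module.finrank k (LinearMap.range (Canon.HHlin k g 0)) ≤ 1 := by
    rw [← hQN0]
    exact Submodule.finrank_le _
  have hk1 : Module.finrank k (LinearMap.ker (Canon.HHlin k g 0)) =
      Module.finrank k (Coh.HH X (CohB1.tensorMod (ClSub.idealMod D) L) 0) := by
    rw [hker]
    exact LinearMap.finrank_range_of_inj hinj0
  have hpos : 0 < Module.finrank k (Coh.HH X (CohB1.tensorMod (ClSub.idealMod D) L) 0) := by
    omega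
  -- a nonzero section of `m_p ⊗ L`
  obtain ⟨σ, hσ⟩ := exists_section_ne_zero k X _ hpos
  have hσf : σ ≫ f ≠ 0 := by
    intro h
    apply hσ
    rw [← cancel_mono f, h, zero_comp]
  haveI hsmono : Mono (σ ≫ f) :=
    mono_of_ne_zero (isInvertible_unit X) (isInvertible_tensorMod (isInvertible_unit X) hL) _ hσf
  haveI hσmono : Mono σ := mono_of_mono σ f
  -- Euler characteristics
  have hQ1 : Subsingleton (Coh.HH X (CohB1.tensorMod (ClSub.quotMod D) L) 1) := by
    refine subsingleton_HH_succ_of_support_hereditarily_closed _ (fun T hT => hZ T ?_) 0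
    intro x hx
    by_contra hxp
    exact (hT hx) (Groth.Agent.Lib.Helper25.SuppTensor.subsingleton_stalk_tensorMod _ L x
      (hQst x hxp))
  have z1 : Module.finrank k (Coh.HH X (CohB1.tensorMod (ClSub.quotMod D) L) 1) = 0 := by
    haveI := hQ1; exact Module.finrank_zero_of_subsingleton
  have hadd := Groth.Agent.S1524.result k X _ hS' cJN cON cQN
  change Curv2.euler k X (CohB1.tensorMod (unitM X) L) =
    Curv2.euler k X (CohB1.tensorMod (ClSub.idealMod D) L) +
      Curv2.euler k X (CohB1.tensorMod (ClSub.quotMod D) L) at hadd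
  rw [euler_eq_sub k X hdim.le (CohB1.tensorMod (ClSub.quotMod D) L), z1, hQN0,
    euler_of_iso k (tensorUnitL L)] at hadd
  have hχ : Curv2.euler k X (CohB1.tensorMod (ClSub.idealMod D) L) =
      Curv2.euler k X (unitM X) := by
    unfold Curv2.deg at hdeg
    change Curv2.euler k X L - ((1 : ℕ) : ℤ) * Curv2.euler k X (unitM X) = 1 at hdeg
    push_cast at hdeg hadd
    linarith
  -- the cokernel of `σ`
  have cC : Coh.IsCoh (cokernel σ) := Groth.Agent.Lib.Helper12.H12Dev.isCoh_cokernel σ cO cJN
  haveI : (cokernel σ).IsFiniteType := cC.2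
  have hsupp : ∀ x ∈ CohB1.support (cokernel σ), IsClosed ({x} : Set X) := by
    intro x hx
    refine isClosed_singleton_of_ne_genericPoint X hdim.le x ?_
    rintro rfl
    apply hx
    rw [← stalkMap_surjective_iff_cokernel]
    -- at the generic point `σ` is surjective
    have hs' : σ ≫ f ≫ (tensorUnitL L).hom ≠ 0 := by
      intro h
      apply hσf
      rw [← cancel_mono (tensorUnitL L).hom, Category.assoc, h, zero_comp]
    have hgen := genericPoint_mem_genLocus hL _ hs'
    have hsurj := stalkMap_surjective_of_mem_genLocus _ hgen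
    haveI : Mono (f ≫ (tensorUnitL L).hom) := mono_comp _ _
    have hinj := (mono_iff_stalkMap_injective (f ≫ (tensorUnitL L).hom)).mp inferInstance
      (genericPoint X)
    intro y
    obtain ⟨r, hr⟩ := hsurj (stalkMap (f ≫ (tensorUnitL L).hom) (genericPoint X) y)
    refine ⟨r, hinj ?_⟩
    rw [← hr, ← stalkMap_comp_apply]
  have hher := support_hereditarily_closed (cokernel σ) hsupp
  have hvan : Subsingleton (Coh.HH X (cokernel σ) 1) :=
    subsingleton_HH_succ_of_support_hereditarily_closed (cokernel σ) hher 0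
  have zC : Module.finrank k (Coh.HH X (cokernel σ) 1) = 0 := by
    haveI := hvan; exact Module.finrank_zero_of_subsingleton
  have hSσ : (ShortComplex.mk σ (cokernel.π σ) (cokernel.condition σ)).ShortExact :=
    ShortComplex.ShortExact.mk' (ShortComplex.exact_of_g_is_cokernel _ (cokernelIsCokernel σ))
      hσmono inferInstance
  have hadd2 := Groth.Agent.S1524.result k X _ hSσ cO cJN cC
  change Curv2.euler k X (CohB1.tensorMod (ClSub.idealMod D) L) =
    Curv2.euler k X (unitM X) + Curv2.euler k X (cokernel σ) at hadd2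
  rw [euler_eq_sub k X hdim.le (cokernel σ), zC, hχ] at hadd2
  have hC0 : Module.finrank k (Coh.HH X (cokernel σ) 0) = 0 := by
    push_cast at hadd2
    omega
  haveI hfin : Module.Finite k (Coh.HH X (cokernel σ) 0) :=
    Groth.Agent.S0002.result k X (cokernel σ) cC 0
  have hsub : Subsingleton (Coh.HH X (cokernel σ) 0) := Module.finrank_zero_iff.mp hC0
  have hsec : ∀ τ : Γ(cokernel σ, ⊤), τ = 0 := by
    intro τ
    have := (hh0 (cokernel σ)).symm.injective.subsingleton
    exact Subsingleton.elim _ _
  haveI : Epi σ := by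
    rw [epi_iff_cokernel_stalk_subsingleton]
    intro y
    refine ⟨fun a b => ?_⟩
    have h0' : ∀ t : (cokernel σ).presheaf.stalk y, t = 0 := by
      intro t
      obtain ⟨V, hyV, m, rfl⟩ := (cokernel σ).presheaf.exists_germ_eq t
      obtain ⟨τ, hτ⟩ := exists_extension_of_support_hereditarily_closed (cokernel σ) hher
        (le_top : V ≤ ⊤) m
      rw [← hτ, hsec τ, map_zero, map_zero]
    rw [h0' a, h0' b]
  haveI : IsIso σ := isIso_of_mono_of_epi σ
  exact ⟨asIso σ⟩

end Key

section Inv

variable {X : Scheme.{u}}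

/-- a module with an invertible twist isomorphic to `O_X` is invertible -/
theorem isInvertible_of_iso_twist {J L : X.Modules} (hL : PicF.IsInvertible L)
    (e : unitM X ≅ CohB1.tensorMod J L) : PicF.IsInvertible J := by
  obtain ⟨N, hN, ⟨eN⟩⟩ := Groth.Agent.Lib.Helper29.QCoh.Dual.exists_inverse hL
  have i : J ≅ N :=
    (tensorUnitR J).symm ≪≫ tensorCongr (Iso.refl J) (eN.symm ≪≫ tensorBraid N L) ≪≫
      (tensorAssoc J L N).symm ≪≫ tensorCongr e.symm (Iso.refl N) ≪≫ tensorUnitL N
  exact isInvertible_of_iso i.symm hN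

/-- if an ideal with the sections of the ideal of the point `q` is an invertible module, the
maximal ideal of the local ring at `q` is principal -/
theorem maximalIdeal_isPrincipal_aux (q : X) (D : X.IdealSheafData)
    (hmem : ∀ (W : X.Opens) (hW : IsAffineOpen W) (_ : q ∈ W) (b : Γ(X, W)),
      b ∈ D.ideal ⟨W, hW⟩ ↔ q ∉ X.basicOpen b)
    (hJ : PicF.IsInvertible (ClSub.idealMod D)) :
    (IsLocalRing.maximalIdeal (X.presheaf.stalk q)).IsPrincipal := by
  obtain ⟨V, e, hV, hqV, -, he⟩ := exists_affine_isTriv hJ (W := ⊤) q trivial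
  refine ⟨⟨X.presheaf.germ V q hqV (ifun D e), ?_⟩⟩
  change IsLocalRing.maximalIdeal (X.presheaf.stalk q) =
    Ideal.span {X.presheaf.germ V q hqV (ifun D e)}
  apply le_antisymm
  · intro y hy
    obtain ⟨W, hW, hqW, hWV, b, rfl⟩ := exists_affine_germ_eq q V hqV y
    have hb : b ∈ D.ideal ⟨W, hW⟩ := by
      rw [hmem W hW hqW b, Scheme.mem_basicOpen _ _ _ hqW]
      exact (IsLocalRing.mem_maximalIdeal _).mp hy
    obtain ⟨t, ht⟩ := exists_ifun_eq D ⟨W, hW⟩ b hb
    obtain ⟨c, hc⟩ := (he.restrict hWV).exists_eq_smul t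
    rw [Ideal.mem_span_singleton']
    refine ⟨X.presheaf.germ W q hqW c, ?_⟩
    have h1 : b = c * rres X hWV (ifun D e) := by
      rw [← ht, hc, ifun_smul, ifun_res]
    have h2 : X.presheaf.germ W q hqW (rres X hWV (ifun D e)) =
        X.presheaf.germ V q hqV (ifun D e) :=
      TopCat.Presheaf.germ_res_apply X.presheaf (homOfLE hWV) q hqW (ifun D e)
    rw [h1, map_mul, h2]
  · rw [Ideal.span_le, Set.singleton_subset_iff, SetLike.mem_coe, IsLocalRing.mem_maximalIdeal,
      mem_nonunits_iff, ← Scheme.mem_basicOpen _ _ _ hqV]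
    exact (hmem V hV hqV _).mp (ifun_mem D ⟨V, hV⟩ e)

theorem maximalIdeal_isPrincipal_of_isInvertible (q : X) (hq : IsClosed ({q} : Set X))
    (hJ : PicF.IsInvertible (ClSub.idealMod (Scheme.IdealSheafData.vanishingIdeal ⟨{q}, hq⟩))) :
    (IsLocalRing.maximalIdeal (X.presheaf.stalk q)).IsPrincipal :=
  maximalIdeal_isPrincipal_aux q _
    (fun _ hW hqW b => mem_vanishingIdeal_point_iff q hq hW hqW b) hJ

end Inv

section Main

variable (k : Type u) [Field k] [IsAlgClosed k] (X : Scheme.{u}) [X.Over (Spec (CommRingCat.of k))]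
  [IsIntegral X] [IsProper (X ↘ (Spec (CommRingCat.of k)))]

/-- **all local rings of an integral proper curve of genus zero over an algebraically closed
field are regular** -/
theorem isRegularLocalRing_stalk_of_genus_zero (hdim : topologicalKrullDim X = 1)
    (hg : Curv2.genus k X = 0) (x : X) : IsRegularLocalRing (X.presheaf.stalk x) := by
  haveI : IsLocallyNoetherian X :=
    LocallyOfFiniteType.isLocallyNoetherian (X ↘ Spec (CommRingCat.of k))
  by_cases hx : x = genericPoint X
  · rw [hx]
    exact inferInstanceAs (IsRegularLocalRing X.functionField)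
  · have hcl := isClosed_singleton_of_ne_genericPoint X hdim.le x hx
    obtain ⟨L, hL, hdeg⟩ := exists_deg_one k X hdim
    have v1 := h1_vanish k X hdim L hL (by rw [hg, hdeg]; norm_num)
    have z1 : Module.finrank k (Coh.HH X L 1) = 0 := by
      haveI := v1; exact Module.finrank_zero_of_subsingleton
    have hO := finrank_HH_zero_unit k X
    have h0 : Module.finrank k (Coh.HH X L 0) = 2 := by
      have hd := hdeg
      unfold Curv2.deg at hd
      rw [euler_eq_sub k X hdim.le L, euler_eq_sub k X hdim.le (Coh.structureModule X), z1, hO]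
        at hd
      have hg' : (Module.finrank k (Coh.HH X (Coh.structureModule X) 1) : ℤ) =
          Curv2.genus k X := rfl
      rw [hg', hg] at hd
      push_cast at hd
      omega
    obtain ⟨e⟩ := exists_iso_unit_ideal_twist k X hdim x hcl L hL hdeg (by omega)
    have hJ := isInvertible_of_iso_twist hL e
    have hprinc := maximalIdeal_isPrincipal_of_isInvertible x hcl hJ
    have hpid : IsPrincipalIdealRing (X.presheaf.stalk x) :=
      ((tfae_of_isNoetherianRing_of_isLocalRing_of_isDomain
        (X.presheaf.stalk x)).out 4 0).mp hprinc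
    infer_instance

end Main

end Groth.Agent.Lib.Helper21.GenusZero
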