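import Groth.Agent.Lib.Helper21.TwistDown
import Groth.Agent.Lib.Helper21.PC15
import Groth.Agent.S0002

/-!
# Invertible modules with prescribed `h⁰` and vanishing `h¹` on an integral proper curve over an
algebraically closed field, and vanishing of `H¹` in degree `≥ 2g - 1`
-/

set_option autoImplicit false
set_option linter.style.haveILetI false
set_option linter.unusedSectionVars false
universe u
open CategoryTheory CategoryTheory.Limits AlgebraicGeometry TopologicalSpace Opposite

namespace Groth.Agent.Lib.Helper21.TwistDown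

open Groth.Agent.Lib.Helper29.QCoh Groth.Agent.Lib.Lead.LinLES Groth.Agent.Lib.Lead.TwistExact
  Groth.Agent.Lib.Helper21.CDeg Groth.Agent.Lib.Helper25.HypTwist

section TD2

variable (k : Type u) [Field k] [IsAlgClosed k] (X : Scheme.{u}) [X.Over (Spec (CommRingCat.of k))]
  [IsIntegral X] [IsProper (X ↘ (Spec (CommRingCat.of k)))]

/-- a high power of an ample module has `h¹ = 0` and `h⁰ > 0` -/
theorem exists_start (hdim : topologicalKrullDim X = 1) :
    ∃ (L : X.Modules) (a : ℕ), PicF.IsInvertible L ∧ Subsingleton (Coh.HH X L 1) ∧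
      Module.finrank k (Coh.HH X L 0) = a + 1 := by
  haveI : IsLocallyNoetherian X :=
    LocallyOfFiniteType.isLocallyNoetherian (X ↘ Spec (CommRingCat.of k))
  obtain ⟨A, hA⟩ := Groth.Agent.Lib.Helper21.PC.exists_isAmple k X
    (X ↘ (Spec (CommRingCat.of k))) hdim.le
  have hAi := hA.1
  have cO : Coh.IsCoh (unitM X) := Groth.Agent.Lib.Helper12.H12Dev.isCoh_unitM X
  obtain ⟨n₀, hn₀⟩ := Groth.Agent.Lib.Helper12.H12Fin.serre_vanishing_of_isAmple k
    (X ↘ (Spec (CommRingCat.of k))) A hA (unitM X) cO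
  have hpos := deg_pos_of_isAmple k X hdim hA
  generalize hc : Curv2.euler k X (Coh.structureModule X) = c
  obtain ⟨n, hn1, hn2⟩ : ∃ n : ℕ, n₀ ≤ n ∧ 1 - c ≤ (n : ℤ) :=
    ⟨max n₀ (1 - c).toNat, le_max_left _ _,
      le_trans (Int.self_le_toNat _) (by exact_mod_cast le_max_right _ _)⟩
  have hv := hn₀ n hn1 0
  have h1 : Subsingleton (Coh.HH X (CohB1.tensorPow A n) 1) :=
    (HHlinEquiv k (tensorUnitL (CohB1.tensorPow A n)) 1).symm.toEquiv.subsingleton
  have hdeg := deg_tensorPow k X hdim.le hAi n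
  have hχ : Curv2.euler k X (CohB1.tensorPow A n) = n * Curv2.deg k X A 1 + c := by
    have hd : Curv2.deg k X (CohB1.tensorPow A n) 1 =
        Curv2.euler k X (CohB1.tensorPow A n) - c := by
      unfold Curv2.deg
      rw [hc]
      push_cast
      ring
    rw [hd] at hdeg
    linarith
  have z1 : Module.finrank k (Coh.HH X (CohB1.tensorPow A n) 1) = 0 := by
    haveI := h1; exact Module.finrank_zero_of_subsingleton
  rw [euler_eq_sub k X hdim.le, z1] at hχ
  have hge : (n : ℤ) ≤ n * Curv2.deg k X A 1 := by nlinarith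
  refine ⟨CohB1.tensorPow A n, Module.finrank k (Coh.HH X (CohB1.tensorPow A n) 0) - 1,
    isInvertible_tensorPow hAi n, h1, ?_⟩
  push_cast at hχ
  omega

/-- going down from `h⁰ = b` to any `a ≤ b` -/
theorem exists_of_le (hdim : topologicalKrullDim X = 1) (a d : ℕ) :
    ∀ (L : X.Modules), PicF.IsInvertible L → Subsingleton (Coh.HH X L 1) →
      Module.finrank k (Coh.HH X L 0) = a + d →
    ∃ L' : X.Modules, PicF.IsInvertible L' ∧ Subsingleton (Coh.HH X L' 1) ∧
      Module.finrank k (Coh.HH X L' 0) = a := by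
  induction d with
  | zero => exact fun L hL h1 h0 => ⟨L, hL, h1, h0⟩
  | succ d ih =>
    intro L hL h1 h0
    obtain ⟨L', hL', h1', h0'⟩ := exists_twist_down k X hdim L hL h1 (a + d) (by rw [h0]; ring)
    exact ih L' hL' h1' h0'

/-- an invertible module with `h¹ = 0` and prescribed small `h⁰` -/
theorem exists_h0_eq (hdim : topologicalKrullDim X = 1) (a : ℕ) (ha : a ≤ 1) :
    ∃ L' : X.Modules, PicF.IsInvertible L' ∧ Subsingleton (Coh.HH X L' 1) ∧
      Module.finrank k (Coh.HH X L' 0) = a := by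
  obtain ⟨L, b, hL, h1, h0⟩ := exists_start k X hdim
  obtain ⟨d, hd⟩ := Nat.exists_eq_add_of_le (show a ≤ b + 1 by omega)
  exact exists_of_le k X hdim a d L hL h1 (by rw [h0, hd])

include k in
/-- an invertible module with `h⁰ = h¹ = 0` -/
theorem exists_h0_zero (hdim : topologicalKrullDim X = 1) :
    ∃ N : X.Modules, PicF.IsInvertible N ∧ Subsingleton (Coh.HH X N 0) ∧
      Subsingleton (Coh.HH X N 1) := by
  obtain ⟨N, hN, h1, h0⟩ := exists_h0_eq k X hdim 0 (by omega)
  have cN : Coh.IsCoh N := ⟨isQuasicoherent_of_isInvertible hN, isFiniteType_of_isInvertible hN⟩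
  haveI : Module.Finite k (Coh.HH X N 0) := Groth.Agent.S0002.result k X N cN 0
  exact ⟨N, hN, Module.finrank_zero_iff.mp h0, h1⟩

/-- **vanishing of `H¹` in degree `≥ 2g - 1`** -/
theorem h1_vanish (hdim : topologicalKrullDim X = 1) (L : X.Modules) (hL : PicF.IsInvertible L)
    (hdeg : 2 * (Curv2.genus k X : ℤ) - 1 ≤ Curv2.deg k X L 1) :
    Subsingleton (Coh.HH X L 1) := by
  haveI : IsLocallyNoetherian X :=
    LocallyOfFiniteType.isLocallyNoetherian (X ↘ Spec (CommRingCat.of k))
  obtain ⟨N, hN, hN0, hN1⟩ := exists_h0_zero k X hdim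
  obtain ⟨N', hN', ⟨eN⟩⟩ := Groth.Agent.Lib.Helper29.QCoh.Dual.exists_inverse hN
  have cO : Coh.IsCoh (unitM X) := Groth.Agent.Lib.Helper12.H12Dev.isCoh_unitM X
  have χN : Curv2.euler k X N = 0 := by
    have z0 : Module.finrank k (Coh.HH X N 0) = 0 := by
      haveI := hN0; exact Module.finrank_zero_of_subsingleton
    have z1 : Module.finrank k (Coh.HH X N 1) = 0 := by
      haveI := hN1; exact Module.finrank_zero_of_subsingleton
    rw [euler_eq_sub k X hdim.le, z0, z1]
    simp
  have hg : Curv2.euler k X (Coh.structureModule X) =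
      (Module.finrank k (Coh.HH X (Coh.structureModule X) 0) : ℤ) - (Curv2.genus k X : ℤ) :=
    euler_eq_sub k X hdim.le _
  have hO0 : 0 < Module.finrank k (Coh.HH X (Coh.structureModule X) 0) := by
    haveI : Module.Finite k (Coh.HH X (Coh.structureModule X) 0) :=
      Groth.Agent.S0002.result k X _ cO 0
    haveI : Nontrivial (Coh.HH X (unitM X) 0) := by
      refine ⟨⟨(hh0 (unitM X)).symm (toUnit 1), 0, fun h => ?_⟩⟩
      have := congrArg (hh0 (unitM X)) h
      rw [AddEquiv.apply_symm_apply, map_zero] at this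
      exact one_ne_zero (α := Γ(X, ⊤)) this
    exact Module.finrank_pos (R := k) (M := Coh.HH X (unitM X) 0)
  generalize hc : Curv2.euler k X (Coh.structureModule X) = c at hg
  have dN : Curv2.deg k X N 1 = -c := by
    unfold Curv2.deg
    rw [χN, hc]
    push_cast
    ring
  have dNN' := deg_tensorMod k X hdim.le hN' hN
  rw [deg_of_iso k eN 1] at dNN'
  have dO : Curv2.deg k X (unitM X) 1 = 0 := deg_structureModule k X
  have hM : PicF.IsInvertible (CohB1.tensorMod L N') := isInvertible_tensorMod hL hN'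
  have dM := deg_tensorMod k X hdim.le hL hN'
  have hdM : Curv2.deg k X (CohB1.tensorMod L N') 1 =
      Curv2.euler k X (CohB1.tensorMod L N') - c := by
    unfold Curv2.deg
    rw [hc]
    push_cast
    ring
  have hχM : (1 : ℤ) ≤ Curv2.euler k X (CohB1.tensorMod L N') := by
    have : (1 : ℤ) ≤ (Module.finrank k (Coh.HH X (Coh.structureModule X) 0) : ℤ) := by
      exact_mod_cast hO0
    linarith
  rw [euler_eq_sub k X hdim.le] at hχM
  have h0M : 0 < Module.finrank k (Coh.HH X (CohB1.tensorMod L N') 0) := by omega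
  obtain ⟨τ, hτ⟩ := exists_section_ne_zero k X _ h0M
  haveI hmono : Mono τ := mono_of_ne_zero (isInvertible_unit X) hM τ hτ
  have hS : (ShortComplex.mk τ (cokernel.π τ) (cokernel.condition τ)).ShortExact :=
    ShortComplex.ShortExact.mk' (ShortComplex.exact_of_g_is_cokernel _ (cokernelIsCokernel τ))
      hmono inferInstance
  have hS' := shortExact_map_tensorRight (isFlat_of_isInvertible hN) _ hS
  have hON1 : Subsingleton (Coh.HH X (CohB1.tensorMod (unitM X) N) 1) :=
    (HHlinEquiv k (tensorUnitL N) 1).toEquiv.subsingleton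
  have hZ : ∀ T : Set X, T ⊆ CohB1.support (cokernel τ) → IsClosed T :=
    fun T hT => isClosed_of_subset_compl_genLocus hdim.le hM τ hτ
      (hT.trans (support_cokernel_subset τ))
  have hQN1 : Subsingleton (Coh.HH X (CohB1.tensorMod (cokernel τ) N) 1) :=
    subsingleton_HH_succ_of_support_hereditarily_closed _
      (fun T hT => hZ T (hT.trans
        (Groth.Agent.Lib.Helper25.SuppTensor.support_tensorMod_subset _ _))) 0
  have hMN1 : Subsingleton (Coh.HH X (CohB1.tensorMod (CohB1.tensorMod L N') N) 1) := by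
    have hz : ∀ x : Coh.HH X (CohB1.tensorMod (CohB1.tensorMod L N') N) 1, x = 0 := by
      intro x
      obtain ⟨x₁, hx₁⟩ := (exact₂ k _ hS' 1 x).1 (hQN1.elim _ _)
      have hx0 : x₁ = 0 := hON1.elim _ _
      rw [← hx₁, hx0]
      exact map_zero _
    exact ⟨fun a b => (hz a).trans (hz b).symm⟩
  let e : CohB1.tensorMod (CohB1.tensorMod L N') N ≅ L :=
    tensorAssoc L N' N ≪≫ tensorCongr (Iso.refl L) eN ≪≫ tensorUnitR L
  exact (HHlinEquiv k e 1).symm.toEquiv.subsingleton

end TD2

end Groth.Agent.Lib.Helper21.TwistDown
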