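import Groth.Agent.Lib.Helper21.EulerLF
import Groth.Agent.S4991
import Groth.Agent.Lib.Helper21.ChartPt7
import Groth.Agent.Lib.Helper14.SchemeDim
import Groth.Agent.Lib.Helper21.ECart
import Groth.Agent.Lib.Helper1.GeomIrrGeneric
import Groth.Prelude.Def_BlowUp2
import Mathlib.AlgebraicGeometry.AlgClosed.Basic

/-!
# Regular closed points on integral curves over an algebraically closed field
-/

set_option autoImplicit false
set_option linter.style.haveILetI false
set_option linter.unusedSectionVars false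
universe u
open CategoryTheory CategoryTheory.Limits AlgebraicGeometry TopologicalSpace Opposite

namespace Groth.Agent.Lib.Helper21.RegPt

open Groth.Agent.Lib.Helper29.QCoh

/-- the local ring of `Spec k` is regular -/
theorem isRegularLocalRing_stalk_spec_field (k : Type u) [Field k]
    (x : ↥(Spec (CommRingCat.of k))) :
    IsRegularLocalRing ↑((Spec (CommRingCat.of k)).presheaf.stalk x) := by
  have hA : IsAffineOpen (⊤ : (Spec (CommRingCat.of k)).Opens) := isAffineOpen_top _
  let x' : (⊤ : (Spec (CommRingCat.of k)).Opens) := ⟨x, trivial⟩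
  let _ := (Spec (CommRingCat.of k)).presheaf.algebra_section_stalk x'
  have hloc := hA.isLocalization_stalk x'
  let e₀ : Γ(Spec (CommRingCat.of k), ⊤) ≃+* k :=
    (Scheme.ΓSpecIso (CommRingCat.of k)).commRingCatIsoToRingEquiv
  have hu : ∀ m ∈ (hA.primeIdealOf x').asIdeal.primeCompl, IsUnit m := by
    intro m hm
    have h0 : m ≠ 0 := fun h => hm (by rw [h]; exact Ideal.zero_mem _)
    have h1 : e₀ m ≠ 0 := fun h => h0 (e₀.injective (by rw [h, map_zero]))
    have h2 : IsUnit (e₀ m) := h1.isUnit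
    have := h2.map e₀.symm
    rwa [RingEquiv.symm_apply_apply] at this
  let e := IsLocalization.atUnits Γ(Spec (CommRingCat.of k), ⊤)
    (hA.primeIdealOf x').asIdeal.primeCompl
    (S := ↑((Spec (CommRingCat.of k)).presheaf.stalk x)) hu
  exact IsRegularLocalRing.of_ringEquiv (e₀.symm.trans e.toRingEquiv)

/-- the local rings at the points of the smooth locus are regular -/
theorem isRegularLocalRing_stalk_of_mem_smoothLocus {k : Type u} [Field k] {X : Scheme.{u}}
    (f : X ⟶ Spec (CommRingCat.of k)) [LocallyOfFiniteType f] [LocallyOfFinitePresentation f]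
    (x : X) (hx : x ∈ f.smoothLocus) : IsRegularLocalRing (X.presheaf.stalk x) := by
  have hsm : Smooth (f.smoothLocus.ι ≫ f) := by
    rw [← Scheme.Hom.smoothLocus_eq_top_iff, ← Scheme.Hom.preimage_smoothLocus_eq]
    exact Scheme.Opens.ι_preimage_self _
  rw [Groth.Agent.S4991.result f x ⟨f.smoothLocus, hx, hsm⟩]
  exact isRegularLocalRing_stalk_spec_field k _

section Exists

variable (k : Type u) [Field k] [IsAlgClosed k] (X : Scheme.{u}) [X.Over (Spec (CommRingCat.of k))]
  [IsIntegral X] [IsProper (X ↘ (Spec (CommRingCat.of k)))]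

include k in
/-- every nonempty open of an integral proper curve over an algebraically closed field contains a
closed point whose local ring is a principal ideal domain -/
theorem exists_closed_regular_point (hdim : topologicalKrullDim X ≤ 1) (V : X.Opens)
    (hV : (V : Set X).Nonempty) :
    ∃ q : X, q ∈ V ∧ IsClosed ({q} : Set X) ∧ IsPrincipalIdealRing (X.presheaf.stalk q) := by
  haveI : IsLocallyNoetherian X :=
    LocallyOfFiniteType.isLocallyNoetherian (X ↘ Spec (CommRingCat.of k))
  haveI : JacobsonSpace X := LocallyOfFiniteType.jacobsonSpace (X ↘ Spec (CommRingCat.of k))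
  have hdense := (X ↘ Spec (CommRingCat.of k)).dense_smoothLocus_of_perfectField
  obtain ⟨y, hyV, hys⟩ := hdense.inter_open_nonempty (V : Set X) V.2 hV
  have hne : ((V ⊓ (X ↘ Spec (CommRingCat.of k)).smoothLocus : X.Opens) : Set X).Nonempty :=
    ⟨y, hyV, hys⟩
  obtain ⟨q, ⟨hqV, hqs⟩, hq⟩ := nonempty_inter_closedPoints hne
    (V ⊓ (X ↘ Spec (CommRingCat.of k)).smoothLocus).2.isLocallyClosed
  refine ⟨q, hqV, hq, ?_⟩
  haveI := isRegularLocalRing_stalk_of_mem_smoothLocus (X ↘ Spec (CommRingCat.of k)) q hqs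
  exact isPrincipalIdealRing_of_isRegularLocalRing_of_dim_le_one _
    ((ringKrullDim_stalk_le_topologicalKrullDim X q).trans hdim)

end Exists

section Vanishing

variable {X : Scheme.{u}}

/-- membership in the vanishing ideal of a closed point, on an affine open containing it -/
theorem mem_vanishingIdeal_point_iff (q : X) (hq : IsClosed ({q} : Set X)) {U : X.Opens}
    (hU : IsAffineOpen U) (hqU : q ∈ U) (a : Γ(X, U)) :
    a ∈ (Scheme.IdealSheafData.vanishingIdeal ⟨{q}, hq⟩).ideal ⟨U, hU⟩ ↔ q ∉ X.basicOpen a := by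
  rw [Scheme.IdealSheafData.vanishingIdeal_ideal, PrimeSpectrum.mem_vanishingIdeal]
  constructor
  · intro h hqa
    have hmem : hU.primeIdealOf ⟨q, hqU⟩ ∈ hU.fromSpec ⁻¹' ((⟨{q}, hq⟩ : Closeds X) : Set X) := by
      change hU.fromSpec (hU.primeIdealOf ⟨q, hqU⟩) ∈ ({q} : Set X)
      rw [hU.fromSpec_primeIdealOf]
      rfl
    have h1 := h _ hmem
    have h2 : hU.primeIdealOf ⟨q, hqU⟩ ∈ hU.fromSpec ⁻¹ᵁ X.basicOpen a := by
      change hU.fromSpec (hU.primeIdealOf ⟨q, hqU⟩) ∈ X.basicOpen a
      rw [hU.fromSpec_primeIdealOf]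
      exact hqa
    rw [hU.fromSpec_preimage_basicOpen] at h2
    exact h2 h1
  · intro h y hy
    by_contra hay
    apply h
    have h2 : y ∈ hU.fromSpec ⁻¹ᵁ X.basicOpen a := by
      rw [hU.fromSpec_preimage_basicOpen]
      exact hay
    have h3 : hU.fromSpec y = q := hy
    rw [← h3]
    exact h2

/-- the vanishing ideal of a closed point is trivial on affine opens missing the point -/
theorem vanishingIdeal_point_eq_top (q : X) (hq : IsClosed ({q} : Set X)) {U : X.Opens}
    (hU : IsAffineOpen U) (hqU : q ∉ U) :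
    (Scheme.IdealSheafData.vanishingIdeal ⟨{q}, hq⟩).ideal ⟨U, hU⟩ = ⊤ := by
  rw [Scheme.IdealSheafData.vanishingIdeal_ideal, eq_top_iff]
  intro a _
  rw [PrimeSpectrum.mem_vanishingIdeal]
  intro y hy
  exfalso
  have h3 : hU.fromSpec y = q := hy
  apply hqU
  rw [← h3]
  have hmem : hU.fromSpec y ∈ Set.range hU.fromSpec := ⟨y, rfl⟩
  rw [hU.range_fromSpec] at hmem
  exact hmem

end Vanishing

section Cartier

variable {X : Scheme.{u}}

/-- every element of a stalk is the germ of a section over an affine open inside a given open -/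
theorem exists_affine_germ_eq (q : X) (V : X.Opens) (hqV : q ∈ V) (t : X.presheaf.stalk q) :
    ∃ (W : X.Opens) (_ : IsAffineOpen W) (hqW : q ∈ W) (_ : W ≤ V) (c : Γ(X, W)),
      X.presheaf.germ W q hqW c = t := by
  obtain ⟨U, hUV, hqU, s, rfl⟩ := X.presheaf.exists_le_germ_eq t hqV
  obtain ⟨_, ⟨W, hW, rfl⟩, hqW, hWU⟩ :=
    X.isBasis_affineOpens.exists_subset_of_mem_open hqU U.2
  have hWU' : W ≤ U := hWU
  exact ⟨W, hW, hqW, hWU'.trans hUV, X.presheaf.map (homOfLE hWU').op s,
    TopCat.Presheaf.germ_res_apply X.presheaf (homOfLE hWU') q hqW s⟩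

/-- **the ideal sheaf of a closed point whose local ring is a principal ideal domain (not a
field) is an effective Cartier divisor** -/
theorem isEffCartierIdeal_vanishingIdeal_point [IsIntegral X] [IsLocallyNoetherian X] (q : X)
    (hq : IsClosed ({q} : Set X)) (hpid : IsPrincipalIdealRing (X.presheaf.stalk q))
    (hnf : ¬ IsField (X.presheaf.stalk q)) :
    BlowUp.IsEffCartierIdeal (Scheme.IdealSheafData.vanishingIdeal ⟨{q}, hq⟩) := by
  intro x
  by_cases hxq : x = q
  · rw [hxq]
    obtain ⟨_, ⟨U₀, hU₀, rfl⟩, hqU₀, -⟩ :=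
      X.isBasis_affineOpens.exists_subset_of_mem_open (Set.mem_univ q) isOpen_univ
    haveI : IsNoetherianRing Γ(X, U₀) := IsLocallyNoetherian.component_noetherian ⟨U₀, hU₀⟩
    obtain ⟨S, hS⟩ : ((Scheme.IdealSheafData.vanishingIdeal ⟨{q}, hq⟩).ideal ⟨U₀, hU₀⟩).FG :=
      (isNoetherianRing_iff_ideal_fg _).mp inferInstance _
    obtain ⟨π, hπ⟩ :=
      (IsPrincipalIdealRing.principal (IsLocalRing.maximalIdeal (X.presheaf.stalk q))).principal
    have hπ' : IsLocalRing.maximalIdeal (X.presheaf.stalk q) = Ideal.span {π} := hπ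
    obtain ⟨W, hW, hqW, hWU, b, hb⟩ := exists_affine_germ_eq q U₀ hqU₀ π
    have hS' : ∀ a ∈ S, ∃ (Wa : X.Opens) (hqWa : q ∈ Wa) (c : Γ(X, Wa)),
        X.presheaf.germ Wa q hqWa c * π = X.presheaf.germ U₀ q hqU₀ a := by
      intro a ha
      have haD : a ∈ (Scheme.IdealSheafData.vanishingIdeal ⟨{q}, hq⟩).ideal ⟨U₀, hU₀⟩ := by
        rw [← hS]; exact Ideal.subset_span ha
      have hnu : ¬ IsUnit (X.presheaf.germ U₀ q hqU₀ a) := by
        rw [← Scheme.mem_basicOpen _ _ _ hqU₀]
        exact (mem_vanishingIdeal_point_iff q hq hU₀ hqU₀ a).mp haD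
      have hmem : X.presheaf.germ U₀ q hqU₀ a ∈ IsLocalRing.maximalIdeal (X.presheaf.stalk q) :=
        (IsLocalRing.mem_maximalIdeal _).mpr hnu
      rw [hπ'] at hmem
      obtain ⟨y, hy⟩ := Ideal.mem_span_singleton'.mp hmem
      obtain ⟨Wa, -, hqWa, -, c, hc⟩ := exists_affine_germ_eq q W hqW y
      exact ⟨Wa, hqWa, c, by rw [hc, hy]⟩
    choose! Wa hqWa c hc using hS'
    have hTopen : IsOpen ((W : Set X) ∩ ⋂ a ∈ S, (Wa a : Set X)) :=
      W.2.inter (isOpen_biInter_finset (fun a _ => (Wa a).2))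
    have hqT : q ∈ (W : Set X) ∩ ⋂ a ∈ S, (Wa a : Set X) :=
      ⟨hqW, Set.mem_iInter₂.mpr (fun a ha => hqWa a ha)⟩
    obtain ⟨_, ⟨W', hW', rfl⟩, hqW', hW'T⟩ :=
      X.isBasis_affineOpens.exists_subset_of_mem_open hqT hTopen
    have hW'W : W' ≤ W := fun y hy => (hW'T hy).1
    have hW'Wa : ∀ a ∈ S, W' ≤ Wa a := fun a ha y hy => Set.mem_iInter₂.mp (hW'T hy).2 a ha
    have hgermb : X.presheaf.germ W' q hqW' (X.presheaf.map (homOfLE hW'W).op b) = π := by
      rw [TopCat.Presheaf.germ_res_apply X.presheaf (homOfLE hW'W) q hqW' b, hb]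
    have hπmem : π ∈ IsLocalRing.maximalIdeal (X.presheaf.stalk q) := by
      rw [hπ']; exact Ideal.mem_span_singleton_self π
    refine ⟨⟨W', hW'⟩, hqW', X.presheaf.map (homOfLE hW'W).op b, ?_, ?_⟩
    · haveI : Nonempty W' := ⟨⟨q, hqW'⟩⟩
      apply mem_nonZeroDivisors_of_ne_zero
      intro h0
      have hπ0 : π = 0 := by rw [← hgermb, h0, map_zero]
      apply hnf
      rw [IsLocalRing.isField_iff_maximalIdeal_eq, hπ', hπ0]
      simp
    · have hmap := (Scheme.IdealSheafData.vanishingIdeal ⟨{q}, hq⟩).map_ideal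
        (U := ⟨W', hW'⟩) (V := ⟨U₀, hU₀⟩) (hW'W.trans hWU)
      apply le_antisymm
      · rw [← hmap, ← hS, Ideal.map_span, Ideal.span_le]
        rintro _ ⟨a, ha, rfl⟩
        rw [SetLike.mem_coe, Ideal.mem_span_singleton']
        refine ⟨X.presheaf.map (homOfLE (hW'Wa a ha)).op (c a), ?_⟩
        apply germ_injective_of_isIntegral X q hqW'
        rw [map_mul, hgermb,
          TopCat.Presheaf.germ_res_apply X.presheaf (homOfLE (hW'Wa a ha)) q hqW' (c a),
          hc a ha]
        exact (TopCat.Presheaf.germ_res_apply X.presheaf (homOfLE (hW'W.trans hWU)) q hqW' a).symm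
      · rw [Ideal.span_le, Set.singleton_subset_iff, SetLike.mem_coe,
          mem_vanishingIdeal_point_iff q hq hW' hqW', Scheme.mem_basicOpen _ _ _ hqW', hgermb]
        exact (IsLocalRing.mem_maximalIdeal _).mp hπmem
  · obtain ⟨_, ⟨U, hU, rfl⟩, hxU, hUq⟩ :=
      X.isBasis_affineOpens.exists_subset_of_mem_open (show x ∈ ({q} : Set X)ᶜ from hxq)
        hq.isOpen_compl
    refine ⟨⟨U, hU⟩, hxU, 1, one_mem _, ?_⟩
    rw [vanishingIdeal_point_eq_top q hq hU (fun h => hUq h rfl), Ideal.span_singleton_one]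

end Cartier

section PointMod

variable (k : Type u) [Field k] [IsAlgClosed k] (X : Scheme.{u}) [X.Over (Spec (CommRingCat.of k))]
  [IsProper (X ↘ (Spec (CommRingCat.of k)))]

/-- over an algebraically closed field the residue field of a closed point is the base field -/
theorem resMap_bijective_of_isClosed (q : X) (hq : IsClosed ({q} : Set X)) :
    Function.Bijective (Curv2.resMap k X q) := by
  have h1 := Groth.Agent.Lib.Helper1.GeomIrrGeneric.specMap_resMap k X q
  have h2 := SpecMap_residueFieldIsoBase_inv (X ↘ Spec (CommRingCat.of k)) q hq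
  have h3 : CommRingCat.ofHom (Curv2.resMap k X q) =
      (residueFieldIsoBase (X ↘ Spec (CommRingCat.of k)) q hq).inv :=
    Spec.map_injective (h1.trans h2.symm)
  have hbij := (ConcreteCategory.isIso_iff_bijective
    (residueFieldIsoBase (X ↘ Spec (CommRingCat.of k)) q hq).inv).mp inferInstance
  rw [← h3] at hbij
  exact hbij

/-- subtracting a suitable constant, a function vanishes at a given closed point -/
theorem exists_const_sub_notMem_basicOpen (q : X) (hq : IsClosed ({q} : Set X)) {U : X.Opens}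
    (hqU : q ∈ U) (a : Γ(X, U)) :
    ∃ c : k, q ∉ X.basicOpen (a - X.presheaf.map (homOfLE (le_top : U ≤ ⊤)).op
      (Coh.toGlobal (X ↘ Spec (CommRingCat.of k)) c)) := by
  obtain ⟨c, hc⟩ := (resMap_bijective_of_isClosed k X q hq).2
    ((X.residue q).hom (X.presheaf.germ U q hqU a))
  refine ⟨c, ?_⟩
  rw [Scheme.mem_basicOpen _ _ _ hqU]
  intro hu
  have h0 : (X.residue q).hom (X.presheaf.germ U q hqU
      (a - X.presheaf.map (homOfLE (le_top : U ≤ ⊤)).op
        (Coh.toGlobal (X ↘ Spec (CommRingCat.of k)) c))) = 0 := by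
    rw [map_sub, map_sub,
      TopCat.Presheaf.germ_res_apply X.presheaf (homOfLE (le_top : U ≤ ⊤)) q hqU, ← hc]
    unfold Curv2.resMap Curv2.stalkMap
    exact sub_self _
  have h1 : IsLocalRing.residue _ (X.presheaf.germ U q hqU
      (a - X.presheaf.map (homOfLE (le_top : U ≤ ⊤)).op
        (Coh.toGlobal (X ↘ Spec (CommRingCat.of k)) c))) = 0 := h0
  rw [IsLocalRing.residue_eq_zero_iff] at h1
  exact (IsLocalRing.mem_maximalIdeal _).mp h1 hu

/-- the stalks of `O_X / m_q` vanish away from `q` -/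
theorem subsingleton_stalk_quotMod_point (q : X) (hq : IsClosed ({q} : Set X)) (x : X)
    (hx : x ≠ q) :
    Subsingleton ((ClSub.quotMod
      (Scheme.IdealSheafData.vanishingIdeal ⟨{q}, hq⟩)).presheaf.stalk x) :=
  Groth.Agent.Lib.Helper21.ECart.subsingleton_stalk_quotMod _ x (by
    intro h
    have h' : x ∈ ((Scheme.IdealSheafData.vanishingIdeal ⟨{q}, hq⟩).support : Set X) := h
    rw [Scheme.IdealSheafData.coe_support_vanishingIdeal] at h'
    exact hx h')

/-- **`h⁰(O_X / m_q) = 1`** for a closed point `q` over an algebraically closed field -/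
theorem finrank_HH_zero_quotMod_point (q : X) (hq : IsClosed ({q} : Set X)) :
    Module.finrank k (Coh.HH X (ClSub.quotMod
      (Scheme.IdealSheafData.vanishingIdeal ⟨{q}, hq⟩)) 0) = 1 := by
  have hsupp : ((Scheme.IdealSheafData.vanishingIdeal ⟨{q}, hq⟩).support : Set X) = {q} :=
    Scheme.IdealSheafData.coe_support_vanishingIdeal _
  set D := Scheme.IdealSheafData.vanishingIdeal ⟨{q}, hq⟩ with hD
  obtain ⟨z, hz⟩ : ∃ z : D.subscheme, D.subschemeι z = q := by
    have : q ∈ Set.range D.subschemeι := by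
      rw [Scheme.IdealSheafData.range_subschemeι, hsupp]; rfl
    exact this
  let one : Γ(ClSub.quotMod D, ⊤) := Groth.Agent.Lib.Helper21.BirH1.oneSec D.subschemeι
  have hone : one ≠ 0 := by
    intro h0
    haveI : Nonempty (D.subschemeι ⁻¹ᵁ ⊤ : D.subscheme.Opens) := ⟨⟨z, trivial⟩⟩
    exact one_ne_zero (α := Γ(D.subscheme, D.subschemeι ⁻¹ᵁ ⊤)) h0
  let v : Coh.HH X (ClSub.quotMod D) 0 := (hh0 (ClSub.quotMod D)).symm one
  have hv : v ≠ 0 := by
    intro h0
    apply hone
    have := congrArg (hh0 (ClSub.quotMod D)) h0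
    rwa [AddEquiv.apply_symm_apply, map_zero] at this
  refine finrank_eq_one v hv (fun w => ?_)
  obtain ⟨_, ⟨U, hU, rfl⟩, hqU, -⟩ :=
    X.isBasis_affineOpens.exists_subset_of_mem_open (Set.mem_univ q) isOpen_univ
  have husurj : Function.Surjective
      ((Groth.Agent.Lib.Helper21.BirH1.unitHom D.subschemeι).app U) :=
    Groth.Agent.Lib.Helper21.BirH1.unitHom_app_surjective D.subschemeι U
      (D.subschemeι_app_surjective ⟨U, hU⟩)
  obtain ⟨s, hs⟩ := husurj (res (ClSub.quotMod D) (le_top : U ≤ ⊤) (hh0 _ w))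
  obtain ⟨a, rfl⟩ := toUnit_surjective s
  obtain ⟨c, hc⟩ := exists_const_sub_notMem_basicOpen k X q hq hqU a
  refine ⟨c, ?_⟩
  apply (hh0 (ClSub.quotMod D)).injective
  have h3 : c • v = (Coh.toGlobal (X ↘ Spec (CommRingCat.of k)) c) • v := rfl
  rw [h3, hh0_smul, AddEquiv.apply_symm_apply]
  have hinj : ∀ t : Γ(ClSub.quotMod D, ⊤),
      res (ClSub.quotMod D) (le_top : U ≤ ⊤) t = 0 → t = 0 := by
    intro t ht
    refine eq_zero_of_germ_eq_zero (ClSub.quotMod D) t (fun x _ => ?_)
    by_cases hxU : x ∈ U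
    · rw [← germ_res (ClSub.quotMod D) (le_top : U ≤ ⊤) x hxU t, ht, map_zero]
    · haveI := subsingleton_stalk_quotMod_point X q hq x (by rintro rfl; exact hxU hqU)
      exact Subsingleton.elim _ _
  rw [← sub_eq_zero]
  apply hinj
  have happ : ∀ r : Γ(X, U), (Groth.Agent.Lib.Helper21.BirH1.unitHom D.subschemeι).app U
      (toUnit r) = r • res (ClSub.quotMod D) (le_top : U ≤ ⊤) one := by
    intro r
    unfold Groth.Agent.Lib.Helper21.BirH1.unitHom
    rw [app_eq_smul_sval, sval_homOfSection]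
  rw [map_sub, sub_eq_zero, ← hs, res_smul, ← happ,
    Groth.Agent.Lib.Helper21.BirH1.unitHom_app, Groth.Agent.Lib.Helper21.BirH1.unitHom_app]
  congr 1
  symm
  rw [← sub_eq_zero, ← map_sub, ← RingHom.mem_ker, D.ker_subschemeι_app ⟨U, hU⟩, hD,
    mem_vanishingIdeal_point_iff q hq hU hqU]
  exact hc

include k in
/-- the stalk of `O_X / m_q` at `q` is nontrivial -/
theorem nontrivial_stalk_quotMod_point (q : X) (hq : IsClosed ({q} : Set X)) :
    Nontrivial ((ClSub.quotMod
      (Scheme.IdealSheafData.vanishingIdeal ⟨{q}, hq⟩)).presheaf.stalk q) := by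
  by_contra hnt
  rw [not_nontrivial_iff_subsingleton] at hnt
  have hΓ : Subsingleton Γ(ClSub.quotMod (Scheme.IdealSheafData.vanishingIdeal ⟨{q}, hq⟩), ⊤) := by
    refine ⟨fun a b => ?_⟩
    rw [← sub_eq_zero]
    refine eq_zero_of_germ_eq_zero _ _ (fun x _ => ?_)
    by_cases hx : x = q
    · subst hx; exact Subsingleton.elim _ _
    · haveI := subsingleton_stalk_quotMod_point X q hq x hx
      exact Subsingleton.elim _ _
  haveI : Subsingleton (Coh.HH X (ClSub.quotMod
      (Scheme.IdealSheafData.vanishingIdeal ⟨{q}, hq⟩)) 0) :=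
    (hh0 (ClSub.quotMod (Scheme.IdealSheafData.vanishingIdeal ⟨{q}, hq⟩))).toEquiv.subsingleton
  have h1 := finrank_HH_zero_quotMod_point k X q hq
  rw [Module.finrank_zero_of_subsingleton] at h1
  exact zero_ne_one h1

end PointMod

section NotField

open Groth.Agent.Lib.Helper21.ChartPt

/-- On an integral scheme of dimension one, the local ring at a closed point is not a field. -/
theorem not_isField_stalk_of_isClosed {X : Scheme.{u}} [IsIntegral X]
    (hd : topologicalKrullDim X = 1) (x : X) (hx : IsClosed ({x} : Set X)) :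
    ¬ IsField (X.presheaf.stalk x) := by
  intro hF
  obtain ⟨_, ⟨U, hU, rfl⟩, hxU, -⟩ :=
    X.isBasis_affineOpens.exists_subset_of_mem_open (Set.mem_univ x) isOpen_univ
  have hU : IsAffineOpen U := hU
  have h0 : ringKrullDim (X.presheaf.stalk x) = 0 := by
    letI := hF.toField
    exact ringKrullDim_eq_zero_of_field _
  rw [ringKrullDim_stalk_eq_height hU x hxU] at h0
  have h0' : (hU.primeIdealOf ⟨x, hxU⟩).asIdeal.height = 0 := by exact_mod_cast h0
  have hmin : (hU.primeIdealOf ⟨x, hxU⟩).asIdeal ∈ minimalPrimes Γ(X, U) :=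
    Ideal.height_eq_zero_iff.mp h0'
  have hξU : genericPoint X ∈ U := genericPoint_mem_of_nonempty U ⟨x, hxU⟩
  have hle := le_primeIdealOf_genericPoint_of_mem_minimalPrimes hU hξU _ hmin
  have hmax := hU.primeIdealOf_isMaximal_of_isClosed ⟨x, hxU⟩ hx
  have heq : (hU.primeIdealOf ⟨x, hxU⟩).asIdeal =
      (hU.primeIdealOf ⟨genericPoint X, hξU⟩).asIdeal :=
    hmax.eq_of_le (hU.primeIdealOf ⟨genericPoint X, hξU⟩).2.ne_top hle
  have hxξ : x = genericPoint X := by
    have h2 := congrArg hU.fromSpec.base (PrimeSpectrum.ext heq)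
    rw [hU.fromSpec_primeIdealOf, hU.fromSpec_primeIdealOf] at h2
    exact h2
  have hall : ∀ z : X, z = x := by
    intro z
    have h1 : genericPoint X ⤳ z := genericPoint_specializes z
    rw [← hxξ] at h1
    exact h1.mem_closed hx (Set.mem_singleton x)
  have hdim0 : topologicalKrullDim X = 0 := by
    rw [Groth.Agent.Lib.Helper14.AS.topologicalKrullDim_eq_iSup_stalk]
    letI := hF.toField
    apply le_antisymm
    · refine iSup_le fun z => ?_
      rw [hall z, ringKrullDim_eq_zero_of_field]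
    · refine le_iSup_of_le x ?_
      rw [ringKrullDim_eq_zero_of_field]
  rw [hd] at hdim0
  exact one_ne_zero hdim0

end NotField

section Package

variable (k : Type u) [Field k] [IsAlgClosed k] (X : Scheme.{u}) [X.Over (Spec (CommRingCat.of k))]
  [IsIntegral X] [IsProper (X ↘ (Spec (CommRingCat.of k)))]

include k in
/-- every nonempty open of an integral proper curve over an algebraically closed field contains a
closed point whose ideal sheaf is an effective Cartier divisor -/
theorem exists_closed_cartier_point (hdim : topologicalKrullDim X = 1) (V : X.Opens)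
    (hV : (V : Set X).Nonempty) :
    ∃ (q : X) (hq : IsClosed ({q} : Set X)), q ∈ V ∧
      BlowUp.IsEffCartierIdeal (Scheme.IdealSheafData.vanishingIdeal ⟨{q}, hq⟩) := by
  haveI : IsLocallyNoetherian X :=
    LocallyOfFiniteType.isLocallyNoetherian (X ↘ Spec (CommRingCat.of k))
  obtain ⟨q, hqV, hq, hpid⟩ := exists_closed_regular_point k X hdim.le V hV
  exact ⟨q, hq, hqV, isEffCartierIdeal_vanishingIdeal_point q hq hpid
    (not_isField_stalk_of_isClosed hdim q hq)⟩

end Package

end Groth.Agent.Lib.Helper21.RegPt
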