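import Mathlib

/-!
# Generic irreducibility of polynomials (Bertini–Noether, Stacks 0556)

If `P ∈ A[σ]` is irreducible over an algebraically closed field containing the domain `A`, then
there is `a ≠ 0` in `A` such that `P` stays irreducible under every `φ : A → k` (`k` a field)
with `φ a ≠ 0`.
-/

set_option autoImplicit false
universe u v w

open MvPolynomial

namespace Groth.Agent.Lib.Helper21.GI

section Universal

variable (A : Type u) [CommRing A] (σ : Type v) (D : ℕ)

/-- monomials of degree `≤ D` -/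
abbrev Idx := {m : σ →₀ ℕ // m.degree ≤ D}

instance [Finite σ] : Finite (Idx σ D) := (Finsupp.finite_of_degree_le (σ := σ) D).to_subtype

/-- the ring of coefficients of two generic polynomials of degree `≤ D` -/
abbrev CoefRing := MvPolynomial (Idx σ D ⊕ Idx σ D) A

variable {A σ}

/-- the first generic polynomial -/
noncomputable def gen₁ [Fintype (Idx σ D)] : MvPolynomial σ (CoefRing A σ D) :=
  ∑ m : Idx σ D, monomial m.1 (X (Sum.inl m))

/-- the second generic polynomial -/
noncomputable def gen₂ [Fintype (Idx σ D)] : MvPolynomial σ (CoefRing A σ D) :=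
  ∑ m : Idx σ D, monomial m.1 (X (Sum.inr m))

theorem map_gen₁ [Fintype (Idx σ D)] {k : Type w} [CommRing k] (ψ : CoefRing A σ D →+* k) :
    map ψ (gen₁ (A := A) (σ := σ) D) = ∑ m : Idx σ D, monomial m.1 (ψ (X (Sum.inl m))) := by
  simp [gen₁, map_sum, map_monomial]

theorem map_gen₂ [Fintype (Idx σ D)] {k : Type w} [CommRing k] (ψ : CoefRing A σ D →+* k) :
    map ψ (gen₂ (A := A) (σ := σ) D) = ∑ m : Idx σ D, monomial m.1 (ψ (X (Sum.inr m))) := by
  simp [gen₂, map_sum, map_monomial]

theorem eq_sum_of_totalDegree_le [Fintype (Idx σ D)] {k : Type w} [CommRing k]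
    (q : MvPolynomial σ k) (hq : q.totalDegree ≤ D) :
    q = ∑ m : Idx σ D, monomial m.1 (coeff m.1 q) := by
  classical
  ext m'
  rw [coeff_sum]
  simp only [coeff_monomial]
  by_cases h : m'.degree ≤ D
  · rw [Finset.sum_eq_single (⟨m', h⟩ : Idx σ D)]
    · simp
    · intro b _ hb
      rw [if_neg]
      intro hbm
      exact hb (Subtype.ext hbm)
    · intro hn; exact absurd (Finset.mem_univ _) hn
  · rw [Finset.sum_eq_zero]
    · apply coeff_eq_zero_of_totalDegree_lt
      have : (m'.sum fun _ e => e) = m'.degree := by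
        simp [Finsupp.degree, Finsupp.sum]
      rw [Finsupp.sum] at this
      rw [this]
      omega
    · intro b _
      rw [if_neg]
      intro hbm
      exact h (hbm ▸ b.2)

/-- the ideal of relations `gen₁ * gen₂ = P` -/
noncomputable def relIdeal [Fintype (Idx σ D)] (P : MvPolynomial σ A) : Ideal (CoefRing A σ D) :=
  Ideal.span (Set.range fun m : σ →₀ ℕ =>
    coeff m (gen₁ (A := A) (σ := σ) D * gen₂ D - map C P))

theorem relIdeal_le_ker_iff [Fintype (Idx σ D)] (P : MvPolynomial σ A) {k : Type w} [CommRing k]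
    (ψ : CoefRing A σ D →+* k) :
    relIdeal D P ≤ RingHom.ker ψ ↔
      map ψ (gen₁ D) * map ψ (gen₂ D) = map (ψ.comp C) P := by
  rw [relIdeal, Ideal.span_le]
  constructor
  · intro h
    have h0 : map ψ (gen₁ (A := A) (σ := σ) D * gen₂ D - map C P) = 0 := by
      ext m
      rw [coeff_map, coeff_zero]
      exact h ⟨m, rfl⟩
    rw [map_sub, map_mul, map_map, sub_eq_zero] at h0
    exact h0
  · rintro h _ ⟨m, rfl⟩
    change ψ _ = 0
    rw [← coeff_map, map_sub, map_mul, map_map, h, sub_self, coeff_zero]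

/-- specialisation of the generic factorisation to an actual one -/
theorem exists_hom_of_factorisation [Fintype (Idx σ D)] (P : MvPolynomial σ A) {k : Type w}
    [CommRing k] (φ : A →+* k) (q₁ q₂ : MvPolynomial σ k) (h₁ : q₁.totalDegree ≤ D)
    (h₂ : q₂.totalDegree ≤ D) (h : q₁ * q₂ = map φ P) :
    ∃ ψ : CoefRing A σ D →+* k, ψ.comp C = φ ∧ relIdeal D P ≤ RingHom.ker ψ ∧
      (∀ m : Idx σ D, ψ (X (Sum.inl m)) = coeff m.1 q₁) ∧
      (∀ m : Idx σ D, ψ (X (Sum.inr m)) = coeff m.1 q₂) := by
  let ψ : CoefRing A σ D →+* k :=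
    eval₂Hom φ (Sum.elim (fun m => coeff m.1 q₁) (fun m => coeff m.1 q₂))
  have hC : ψ.comp C = φ := by
    ext a
    simp [ψ]
  have hl : ∀ m : Idx σ D, ψ (X (Sum.inl m)) = coeff m.1 q₁ := fun m => by simp [ψ]
  have hr : ∀ m : Idx σ D, ψ (X (Sum.inr m)) = coeff m.1 q₂ := fun m => by simp [ψ]
  refine ⟨ψ, hC, ?_, hl, hr⟩
  rw [relIdeal_le_ker_iff, hC, map_gen₁, map_gen₂, ← h]
  congr 1
  · exact (Finset.sum_congr rfl fun m _ => by rw [hl]).trans
      (eq_sum_of_totalDegree_le D q₁ h₁).symm
  · exact (Finset.sum_congr rfl fun m _ => by rw [hr]).trans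
      (eq_sum_of_totalDegree_le D q₂ h₂).symm

end Universal

end Groth.Agent.Lib.Helper21.GI
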