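import Mathlib

/-!
# Two finitely generated subalgebras of a field with the same fraction field have isomorphic
principal localisations
-/

set_option autoImplicit false
set_option linter.style.haveILetI false
set_option linter.unusedSectionVars false
universe u v w

namespace Groth.Agent.Lib.Helper21.GI

section Away

variable {A : Type u} [CommRing A] {B : Type v} [CommRing B] [IsDomain B] [Algebra A B]
  {L : Type w} [Field L] [Algebra A L] (ιB : B →ₐ[A] L) (hB : Function.Injective ιB)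

/-- the embedding of `B[1/g]` into `L` -/
noncomputable def awayLift (g : B) (hg : ιB g ≠ 0) : Localization.Away g →ₐ[A] L :=
  IsLocalization.liftAlgHom (M := Submonoid.powers g) (f := ιB) (by
    rintro ⟨_, n, rfl⟩
    rw [map_pow]
    exact (isUnit_iff_ne_zero.mpr hg).pow n)

theorem awayLift_algebraMap (g : B) (hg : ιB g ≠ 0) (b : B) :
    awayLift ιB g hg (algebraMap B (Localization.Away g) b) = ιB b := by
  unfold awayLift
  simp [IsLocalization.liftAlgHom_apply]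

include hB in
theorem awayLift_injective (g : B) (hg : ιB g ≠ 0) : Function.Injective (awayLift ιB g hg) := by
  have hg0 : g ≠ 0 := fun h => hg (by rw [h, map_zero])
  rw [injective_iff_map_eq_zero]
  intro z hz
  obtain ⟨b, ⟨_, n, rfl⟩, rfl⟩ := IsLocalization.exists_mk'_eq (Submonoid.powers g) z
  have h1 : awayLift ιB g hg (IsLocalization.mk' (Localization.Away g) b
      (⟨g ^ n, n, rfl⟩ : Submonoid.powers g)) * ιB (g ^ n) = ιB b := by
    rw [← awayLift_algebraMap ιB g hg (g ^ n), ← map_mul]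
    have := IsLocalization.mk'_spec (Localization.Away g) b (⟨g ^ n, n, rfl⟩ : Submonoid.powers g)
    rw [this, awayLift_algebraMap]
  rw [hz, zero_mul] at h1
  have hb : b = 0 := hB (by rw [← h1, map_zero])
  rw [hb, IsLocalization.mk'_zero]

theorem inv_mem_range_awayLift (g : B) (hg : ιB g ≠ 0) :
    (ιB g)⁻¹ ∈ (awayLift ιB g hg).range := by
  refine ⟨IsLocalization.mk' (Localization.Away g) 1 (⟨g, 1, pow_one g⟩ : Submonoid.powers g), ?_⟩
  have h1 : awayLift ιB g hg (IsLocalization.mk' (Localization.Away g) 1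
      (⟨g, 1, pow_one g⟩ : Submonoid.powers g)) * ιB g = 1 := by
    rw [← awayLift_algebraMap ιB g hg g, ← map_mul]
    have := IsLocalization.mk'_spec (Localization.Away g) (1 : B)
      (⟨g, 1, pow_one g⟩ : Submonoid.powers g)
    rw [this, map_one, map_one]
  exact eq_inv_of_mul_eq_one_left h1

theorem range_awayLift_le (g : B) (hg : ιB g ≠ 0) (S : Subalgebra A L)
    (h1 : ∀ b : B, ιB b ∈ S) (h2 : (ιB g)⁻¹ ∈ S) : (awayLift ιB g hg).range ≤ S := by
  rintro _ ⟨z, rfl⟩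
  obtain ⟨b, ⟨_, n, rfl⟩, rfl⟩ := IsLocalization.exists_mk'_eq (Submonoid.powers g) z
  have h3 : awayLift ιB g hg (IsLocalization.mk' (Localization.Away g) b
      (⟨g ^ n, n, rfl⟩ : Submonoid.powers g)) * ιB (g ^ n) = ιB b := by
    rw [← awayLift_algebraMap ιB g hg (g ^ n), ← map_mul]
    have := IsLocalization.mk'_spec (Localization.Away g) b (⟨g ^ n, n, rfl⟩ : Submonoid.powers g)
    rw [this, awayLift_algebraMap]
  have hgn : ιB (g ^ n) ≠ 0 := by rw [map_pow]; exact pow_ne_zero n hg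
  have h4 : awayLift ιB g hg (IsLocalization.mk' (Localization.Away g) b
      (⟨g ^ n, n, rfl⟩ : Submonoid.powers g)) = ιB b * ((ιB g)⁻¹) ^ n := by
    rw [inv_pow, ← map_pow, ← h3, mul_assoc, mul_inv_cancel₀ hgn, mul_one]
  change awayLift ιB g hg (IsLocalization.mk' (Localization.Away g) b
      (⟨g ^ n, n, rfl⟩ : Submonoid.powers g)) ∈ S
  rw [h4]
  exact S.mul_mem (h1 b) (S.pow_mem h2 n)

theorem awayLift_mk'_mul (g : B) (hg : ιB g ≠ 0) (b : B) (n : ℕ) :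
    awayLift ιB g hg (IsLocalization.mk' (Localization.Away g) b
      (⟨g ^ n, n, rfl⟩ : Submonoid.powers g)) * ιB (g ^ n) = ιB b := by
  rw [← awayLift_algebraMap ιB g hg (g ^ n), ← map_mul]
  have := IsLocalization.mk'_spec (Localization.Away g) b (⟨g ^ n, n, rfl⟩ : Submonoid.powers g)
  rw [this, awayLift_algebraMap]

theorem mem_range_awayLift_algebraMap (g : B) (hg : ιB g ≠ 0) (b : B) :
    ιB b ∈ (awayLift ιB g hg).range :=
  ⟨algebraMap _ _ b, awayLift_algebraMap ιB g hg b⟩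

/-- common denominators -/
theorem exists_common_denominator
    (fB : ∀ l : L, ∃ b b' : B, ιB b' ≠ 0 ∧ l * ιB b' = ιB b) (T : Finset L) :
    ∃ h : B, ιB h ≠ 0 ∧ ∀ l ∈ T, ∃ c : B, l * ιB h = ιB c := by
  classical
  induction T using Finset.induction_on with
  | empty => exact ⟨1, by rw [map_one]; exact one_ne_zero, fun l hl => absurd hl (Finset.notMem_empty l)⟩
  | insert l T hl ih =>
    obtain ⟨c, c', hc', hlc⟩ := fB l
    obtain ⟨h, hh, H⟩ := ih
    refine ⟨c' * h, by rw [map_mul]; exact mul_ne_zero hc' hh, fun l' hl' => ?_⟩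
    rcases Finset.mem_insert.mp hl' with rfl | hl'
    · exact ⟨c * h, by rw [map_mul, map_mul, ← hlc]; ring⟩
    · obtain ⟨c₁, hc₁⟩ := H l' hl'
      exact ⟨c' * c₁, by rw [map_mul, map_mul, ← hc₁]; ring⟩

end Away

section BIR

variable {A : Type u} [CommRing A] {B C : Type v} [CommRing B] [IsDomain B] [Algebra A B]
  [CommRing C] [IsDomain C] [Algebra A C] {L : Type w} [Field L] [Algebra A L]
  (ιB : B →ₐ[A] L) (hB : Function.Injective ιB) (ιC : C →ₐ[A] L) (hC : Function.Injective ιC)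

include hB hC in
/-- birational finitely generated domains have isomorphic principal localisations -/
theorem exists_away_equiv [Algebra.FiniteType A B] [Algebra.FiniteType A C]
    (fB : ∀ l : L, ∃ b b' : B, ιB b' ≠ 0 ∧ l * ιB b' = ιB b)
    (fC : ∀ l : L, ∃ c c' : C, ιC c' ≠ 0 ∧ l * ιC c' = ιC c) :
    ∃ g : B, g ≠ 0 ∧ ∃ h : C, h ≠ 0 ∧
      Nonempty (Localization.Away g ≃ₐ[A] Localization.Away h) := by
  classical
  obtain ⟨sB, hsB⟩ := (inferInstance : Algebra.FiniteType A B).out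
  obtain ⟨sC, hsC⟩ := (inferInstance : Algebra.FiniteType A C).out
  obtain ⟨h₀, hh₀, H₀⟩ := exists_common_denominator ιC fC (sB.image ιB)
  obtain ⟨g₀, hg₀, G₀⟩ := exists_common_denominator ιB fB (sC.image ιC)
  obtain ⟨b₁, g₁, hg₁, hb₁⟩ := fB (ιC h₀)
  have hb₁0 : ιB b₁ ≠ 0 := by rw [← hb₁]; exact mul_ne_zero hh₀ hg₁
  set g := g₀ * g₁ * b₁ with hgdef
  have hg : ιB g ≠ 0 := by
    rw [hgdef, map_mul, map_mul]; exact mul_ne_zero (mul_ne_zero hg₀ hg₁) hb₁0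
  set S₁ := (awayLift ιB g hg).range with hS₁
  have hBS₁ : ∀ b, ιB b ∈ S₁ := fun b => mem_range_awayLift_algebraMap ιB g hg b
  have hginv : (ιB g)⁻¹ ∈ S₁ := inv_mem_range_awayLift ιB g hg
  have hg₀inv : (ιB g₀)⁻¹ ∈ S₁ := by
    have : (ιB g₀)⁻¹ = ιB (g₁ * b₁) * (ιB g)⁻¹ := by
      rw [hgdef, map_mul, map_mul, map_mul]; field_simp
    rw [this]; exact S₁.mul_mem (hBS₁ _) hginv
  have hb₁inv : (ιB b₁)⁻¹ ∈ S₁ := by
    have : (ιB b₁)⁻¹ = ιB (g₀ * g₁) * (ιB g)⁻¹ := by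
      rw [hgdef, map_mul, map_mul, map_mul]; field_simp
    rw [this]; exact S₁.mul_mem (hBS₁ _) hginv
  have hCS₁ : ∀ c : C, ιC c ∈ S₁ := by
    have hle : (⊤ : Subalgebra A C) ≤ S₁.comap ιC := by
      rw [← hsC, Algebra.adjoin_le_iff]
      intro c hc
      obtain ⟨b, hb⟩ := G₀ (ιC c) (Finset.mem_image_of_mem _ hc)
      change ιC c ∈ S₁
      have : ιC c = ιB b * (ιB g₀)⁻¹ := by rw [← hb]; field_simp
      rw [this]; exact S₁.mul_mem (hBS₁ b) hg₀inv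
    exact fun c => hle Algebra.mem_top
  have hh₀inv : (ιC h₀)⁻¹ ∈ S₁ := by
    have : (ιC h₀)⁻¹ = ιB g₁ * (ιB b₁)⁻¹ := by rw [← hb₁]; field_simp
    rw [this]; exact S₁.mul_mem (hBS₁ _) hb₁inv
  -- `ιB g` lies in `C[1/h₀]`
  set S₀ := (awayLift ιC h₀ hh₀).range with hS₀
  have hCS₀ : ∀ c, ιC c ∈ S₀ := fun c => mem_range_awayLift_algebraMap ιC h₀ hh₀ c
  have hh₀invS₀ : (ιC h₀)⁻¹ ∈ S₀ := inv_mem_range_awayLift ιC h₀ hh₀
  have hBS₀ : ∀ b : B, ιB b ∈ S₀ := by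
    have hle : (⊤ : Subalgebra A B) ≤ S₀.comap ιB := by
      rw [← hsB, Algebra.adjoin_le_iff]
      intro b hb
      obtain ⟨c, hc⟩ := H₀ (ιB b) (Finset.mem_image_of_mem _ hb)
      change ιB b ∈ S₀
      have : ιB b = ιC c * (ιC h₀)⁻¹ := by rw [← hc]; field_simp
      rw [this]; exact S₀.mul_mem (hCS₀ c) hh₀invS₀
    exact fun b => hle Algebra.mem_top
  obtain ⟨z, hz⟩ := hBS₀ g
  obtain ⟨c₂, ⟨_, n, rfl⟩, rfl⟩ := IsLocalization.exists_mk'_eq (Submonoid.powers h₀) z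
  have hc₂ : ιB g * ιC (h₀ ^ n) = ιC c₂ := by
    have hz' : awayLift ιC h₀ hh₀ (IsLocalization.mk' (Localization.Away h₀) c₂
      (⟨h₀ ^ n, n, rfl⟩ : Submonoid.powers h₀)) = ιB g := hz
    rw [← hz']
    exact awayLift_mk'_mul ιC h₀ hh₀ c₂ n
  have hh₀n : ιC (h₀ ^ n) ≠ 0 := by rw [map_pow]; exact pow_ne_zero n hh₀
  have hc₂0 : ιC c₂ ≠ 0 := by rw [← hc₂]; exact mul_ne_zero hg hh₀n
  set h := h₀ * c₂ with hhdef
  have hh : ιC h ≠ 0 := by rw [hhdef, map_mul]; exact mul_ne_zero hh₀ hc₂0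
  set S₂ := (awayLift ιC h hh).range with hS₂
  have hCS₂ : ∀ c, ιC c ∈ S₂ := fun c => mem_range_awayLift_algebraMap ιC h hh c
  have hhinv : (ιC h)⁻¹ ∈ S₂ := inv_mem_range_awayLift ιC h hh
  have hh₀invS₂ : (ιC h₀)⁻¹ ∈ S₂ := by
    have : (ιC h₀)⁻¹ = ιC c₂ * (ιC h)⁻¹ := by rw [hhdef, map_mul]; field_simp
    rw [this]; exact S₂.mul_mem (hCS₂ _) hhinv
  have hc₂invS₂ : (ιC c₂)⁻¹ ∈ S₂ := by
    have : (ιC c₂)⁻¹ = ιC h₀ * (ιC h)⁻¹ := by rw [hhdef, map_mul]; field_simp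
    rw [this]; exact S₂.mul_mem (hCS₂ _) hhinv
  have hBS₂ : ∀ b : B, ιB b ∈ S₂ := by
    have hle : (⊤ : Subalgebra A B) ≤ S₂.comap ιB := by
      rw [← hsB, Algebra.adjoin_le_iff]
      intro b hb
      obtain ⟨c, hc⟩ := H₀ (ιB b) (Finset.mem_image_of_mem _ hb)
      change ιB b ∈ S₂
      have : ιB b = ιC c * (ιC h₀)⁻¹ := by rw [← hc]; field_simp
      rw [this]; exact S₂.mul_mem (hCS₂ c) hh₀invS₂
    exact fun b => hle Algebra.mem_top
  have hginvS₂ : (ιB g)⁻¹ ∈ S₂ := by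
    have : (ιB g)⁻¹ = ιC (h₀ ^ n) * (ιC c₂)⁻¹ := by rw [← hc₂]; field_simp
    rw [this]; exact S₂.mul_mem (hCS₂ _) hc₂invS₂
  have hc₂invS₁ : (ιC c₂)⁻¹ ∈ S₁ := by
    have : (ιC c₂)⁻¹ = (ιB g)⁻¹ * ((ιC h₀)⁻¹) ^ n := by
      rw [← hc₂, map_pow, mul_inv, inv_pow]
    rw [this]; exact S₁.mul_mem hginv (S₁.pow_mem hh₀inv n)
  have hhinvS₁ : (ιC h)⁻¹ ∈ S₁ := by
    have : (ιC h)⁻¹ = (ιC h₀)⁻¹ * (ιC c₂)⁻¹ := by rw [hhdef, map_mul, mul_inv]
    rw [this]; exact S₁.mul_mem hh₀inv hc₂invS₁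
  have h12 : S₁ = S₂ := le_antisymm
    (range_awayLift_le ιB g hg S₂ hBS₂ hginvS₂)
    (range_awayLift_le ιC h hh S₁ hCS₁ hhinvS₁)
  have hg0 : g ≠ 0 := fun h0 => hg (by rw [h0, map_zero])
  have hh0 : h ≠ 0 := fun h0 => hh (by rw [h0, map_zero])
  refine ⟨g, hg0, h, hh0, ⟨?_⟩⟩
  exact (AlgEquiv.ofInjective (awayLift ιB g hg) (awayLift_injective ιB hB g hg)).trans
    ((Subalgebra.equivOfEq S₁ S₂ h12).trans
      (AlgEquiv.ofInjective (awayLift ιC h hh) (awayLift_injective ιC hC h hh)).symm)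

end BIR

end Groth.Agent.Lib.Helper21.GI
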