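import Mathlib
import Groth.Agent.Lib.Helper21.GI1

/-!
# Generic irreducibility of polynomials, main statement
-/

set_option autoImplicit false
set_option linter.style.haveILetI false
universe u v w

open MvPolynomial TensorProduct

namespace Groth.Agent.Lib.Helper21.GI

/-- a finitely generated domain over a domain `A` admits an `A`-point with values in any
algebraically closed field containing `A` -/
theorem exists_algHom_of_isAlgClosed (A : Type u) [CommRing A] [IsDomain A] (Ω : Type w) [Field Ω]
    [IsAlgClosed Ω] [Algebra A Ω] (hinj : Function.Injective (algebraMap A Ω))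
    (E : Type v) [CommRing E] [IsDomain E] [Algebra A E] [Algebra.FiniteType A E]
    (hE : Function.Injective (algebraMap A E)) : Nonempty (E →ₐ[A] Ω) := by
  classical
  let K := FractionRing A
  letI algKΩ : Algebra K Ω := (IsFractionRing.lift hinj).toAlgebra
  haveI : IsScalarTower A K Ω := IsScalarTower.of_algebraMap_eq fun a => by
    rw [RingHom.algebraMap_toAlgebra, IsFractionRing.lift_algebraMap]
  let EK := K ⊗[A] E
  let L' := FractionRing E
  have hAL : Function.Injective (Algebra.ofId A L') := by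
    have : (Algebra.ofId A L' : A → L') = (algebraMap E L') ∘ (algebraMap A E) := by
      ext a
      exact IsScalarTower.algebraMap_apply A E L' a
    rw [this]
    exact (IsFractionRing.injective E L').comp hE
  let kL : K →ₐ[A] L' := IsFractionRing.liftAlgHom (K := K) hAL
  let pm : EK →ₐ[A] L' := Algebra.TensorProduct.productMap kL (IsScalarTower.toAlgHom A E L')
  haveI : Nontrivial EK := pm.toRingHom.domain_nontrivial
  obtain ⟨m, hm⟩ := Ideal.exists_maximal EK
  letI := Ideal.Quotient.field m
  haveI : Algebra.FiniteType K (EK ⧸ m) :=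
    Algebra.FiniteType.of_surjective (Ideal.Quotient.mkₐ K m) (Ideal.Quotient.mkₐ_surjective K m)
  haveI : Module.Finite K (EK ⧸ m) := finite_of_finite_type_of_isJacobsonRing K (EK ⧸ m)
  haveI : Algebra.IsAlgebraic K (EK ⧸ m) := Algebra.IsAlgebraic.of_finite K (EK ⧸ m)
  let l : (EK ⧸ m) →ₐ[K] Ω := IsAlgClosed.lift
  let g1 : E →ₐ[A] EK := Algebra.TensorProduct.includeRight
  let g2 : EK →ₐ[A] (EK ⧸ m) := (Ideal.Quotient.mkₐ K m).restrictScalars A
  exact ⟨(l.restrictScalars A).comp (g2.comp g1)⟩

section Main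

variable {A : Type u} [CommRing A] [IsDomain A] {σ : Type v} [Finite σ]

/-- the key emptiness statement -/
theorem exists_mem_relIdeal (D : ℕ) [Fintype (Idx σ D)] (P : MvPolynomial σ A)
    (Ω : Type w) [Field Ω] [IsAlgClosed Ω] [Algebra A Ω]
    (hinj : Function.Injective (algebraMap A Ω))
    (hP : Irreducible (map (algebraMap A Ω) P)) (m₁ m₂ : Idx σ D) (h₁ : m₁.1 ≠ 0)
    (h₂ : m₂.1 ≠ 0) :
    ∃ a : A, a ≠ 0 ∧ ∃ N : ℕ,
      (C a * (X (Sum.inl m₁) * X (Sum.inr m₂)) ^ N : CoefRing A σ D) ∈ relIdeal D P := by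
  classical
  by_contra hcon
  push Not at hcon
  set s : CoefRing A σ D := X (Sum.inl m₁) * X (Sum.inr m₂) with hs
  -- the multiplicative set
  let M : Submonoid (CoefRing A σ D) :=
    { carrier := {r | ∃ a : A, a ≠ 0 ∧ ∃ N : ℕ, r = C a * s ^ N}
      one_mem' := ⟨1, one_ne_zero, 0, by simp⟩
      mul_mem' := by
        rintro _ _ ⟨a, ha, N, rfl⟩ ⟨b, hb, N', rfl⟩
        refine ⟨a * b, mul_ne_zero ha hb, N + N', ?_⟩
        rw [map_mul, pow_add]; ring }
  have hdisj : Disjoint (relIdeal D P : Set (CoefRing A σ D)) M := by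
    rw [Set.disjoint_left]
    rintro _ hr ⟨a, ha, N, rfl⟩
    exact hcon a ha N hr
  obtain ⟨𝔓, h𝔓, hle, h𝔓M⟩ := Ideal.exists_le_prime_disjoint (relIdeal D P) M hdisj
  haveI := h𝔓
  -- the domain `R'` and its localisation
  let R' := CoefRing A σ D ⧸ 𝔓
  have hCa : ∀ a : A, a ≠ 0 → (C a : CoefRing A σ D) ∉ 𝔓 := by
    intro a ha hmem
    exact (Set.disjoint_left.mp h𝔓M) hmem ⟨a, ha, 0, by simp⟩
  have hs𝔓 : s ∉ 𝔓 := by
    intro hmem
    exact (Set.disjoint_left.mp h𝔓M) hmem ⟨1, one_ne_zero, 1, by simp⟩
  let sbar : R' := Ideal.Quotient.mk 𝔓 s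
  have hsbar : sbar ≠ 0 := by
    intro h
    exact hs𝔓 (Ideal.Quotient.eq_zero_iff_mem.mp h)
  let E := Localization.Away sbar
  haveI : IsDomain E :=
    IsLocalization.isDomain_of_le_nonZeroDivisors E
      (powers_le_nonZeroDivisors_of_noZeroDivisors hsbar)
  haveI : Algebra.FiniteType A R' :=
    Algebra.FiniteType.of_surjective (Ideal.Quotient.mkₐ A 𝔓) (Ideal.Quotient.mkₐ_surjective A 𝔓)
  haveI : Algebra.FiniteType R' E := IsLocalization.finiteType_of_monoid_fg (Submonoid.powers sbar) E
  haveI : Algebra.FiniteType A E := Algebra.FiniteType.trans (inferInstance : Algebra.FiniteType A R')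
    inferInstance
  have hR'inj : Function.Injective (algebraMap R' E) :=
    IsLocalization.injective E (powers_le_nonZeroDivisors_of_noZeroDivisors hsbar)
  have hAE : Function.Injective (algebraMap A E) := by
    rw [injective_iff_map_eq_zero]
    intro a ha
    by_contra hne
    rw [IsScalarTower.algebraMap_apply A R' E] at ha
    have h0 : algebraMap A R' a = 0 := hR'inj (by rw [ha, map_zero])
    have : (C a : CoefRing A σ D) ∈ 𝔓 := Ideal.Quotient.eq_zero_iff_mem.mp h0
    exact hCa a hne this
  obtain ⟨l⟩ := exists_algHom_of_isAlgClosed A Ω hinj E hAE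
  -- the resulting homomorphism
  let ψ : CoefRing A σ D →+* Ω :=
    (l : E →+* Ω).comp ((algebraMap R' E).comp (Ideal.Quotient.mk 𝔓))
  have hψC : ψ.comp C = algebraMap A Ω := by
    ext a
    change l (algebraMap R' E (Ideal.Quotient.mk 𝔓 (C a))) = _
    have : algebraMap R' E (Ideal.Quotient.mk 𝔓 (C a)) = algebraMap A E a := by
      rw [IsScalarTower.algebraMap_apply A R' E]
      rfl
    rw [this, AlgHom.commutes]
  have hψker : relIdeal D P ≤ RingHom.ker ψ := by
    intro r hr
    rw [RingHom.mem_ker]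
    change l (algebraMap R' E (Ideal.Quotient.mk 𝔓 r)) = 0
    rw [Ideal.Quotient.eq_zero_iff_mem.mpr (hle hr), map_zero, map_zero]
  have hψs : ψ s ≠ 0 := by
    change l (algebraMap R' E sbar) ≠ 0
    have hu : IsUnit (algebraMap R' E sbar) := IsLocalization.Away.algebraMap_isUnit sbar
    exact (hu.map l).ne_zero
  -- a nontrivial factorisation
  rw [relIdeal_le_ker_iff, hψC] at hψker
  rcases hP.isUnit_or_isUnit hψker.symm with hu | hu
  · rw [isUnit_iff_totalDegree_of_isReduced] at hu
    have hc : coeff m₁.1 (map ψ (gen₁ (A := A) (σ := σ) D)) = ψ (X (Sum.inl m₁)) := by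
      rw [map_gen₁, coeff_sum]
      simp only [coeff_monomial]
      rw [Finset.sum_eq_single m₁]
      · simp
      · intro b _ hb
        rw [if_neg]
        intro hbm
        exact hb (Subtype.ext hbm)
      · intro hn; exact absurd (Finset.mem_univ _) hn
    have hne : coeff m₁.1 (map ψ (gen₁ (A := A) (σ := σ) D)) ≠ 0 := by
      rw [hc]
      intro h0
      apply hψs
      rw [hs, map_mul, h0, zero_mul]
    have hdeg := le_totalDegree (mem_support_iff.mpr hne)
    rw [hu.2] at hdeg
    have : m₁.1 = 0 := by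
      ext i
      have h3 : m₁.1 i ≤ m₁.1.sum fun _ e => e := by
        by_cases hi : i ∈ m₁.1.support
        · exact Finset.single_le_sum (f := fun j => m₁.1 j) (fun _ _ => Nat.zero_le _) hi
        · rw [Finsupp.notMem_support_iff.mp hi]; exact Nat.zero_le _
      simp only [Finsupp.coe_zero, Pi.zero_apply]
      omega
    exact h₁ this
  · rw [isUnit_iff_totalDegree_of_isReduced] at hu
    have hc : coeff m₂.1 (map ψ (gen₂ (A := A) (σ := σ) D)) = ψ (X (Sum.inr m₂)) := by
      rw [map_gen₂, coeff_sum]
      simp only [coeff_monomial]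
      rw [Finset.sum_eq_single m₂]
      · simp
      · intro b _ hb
        rw [if_neg]
        intro hbm
        exact hb (Subtype.ext hbm)
      · intro hn; exact absurd (Finset.mem_univ _) hn
    have hne : coeff m₂.1 (map ψ (gen₂ (A := A) (σ := σ) D)) ≠ 0 := by
      rw [hc]
      intro h0
      apply hψs
      rw [hs, map_mul, h0, mul_zero]
    have hdeg := le_totalDegree (mem_support_iff.mpr hne)
    rw [hu.2] at hdeg
    have : m₂.1 = 0 := by
      ext i
      have h3 : m₂.1 i ≤ m₂.1.sum fun _ e => e := by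
        by_cases hi : i ∈ m₂.1.support
        · exact Finset.single_le_sum (f := fun j => m₂.1 j) (fun _ _ => Nat.zero_le _) hi
        · rw [Finsupp.notMem_support_iff.mp hi]; exact Nat.zero_le _
      simp only [Finsupp.coe_zero, Pi.zero_apply]
      omega
    exact h₂ this

end Main

end Groth.Agent.Lib.Helper21.GI
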