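import Mathlib
import Groth.Agent.Lib.Helper21.GI2

/-!
# Generic irreducibility of polynomials: the theorem
-/

set_option autoImplicit false
set_option linter.style.haveILetI false
universe u v w w'

open MvPolynomial TensorProduct

namespace Groth.Agent.Lib.Helper21.GI

theorem degree_eq_sum {σ : Type v} (m : σ →₀ ℕ) : (m.sum fun _ e => e) = m.degree := by
  simp [Finsupp.degree, Finsupp.sum]

/-- over a field, a nonzero nonunit polynomial has a nonconstant monomial -/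
theorem exists_ne_zero_mem_support {σ : Type v} {k : Type w} [Field k] (q : MvPolynomial σ k)
    (h0 : q ≠ 0) (hu : ¬ IsUnit q) :
    ∃ m : σ →₀ ℕ, m ≠ 0 ∧ coeff m q ≠ 0 ∧ m.degree = q.totalDegree := by
  classical
  have hsupp : q.support.Nonempty := by
    rw [Finset.nonempty_iff_ne_empty, Ne, support_eq_empty]
    exact h0
  obtain ⟨m, hm, hmdeg⟩ := Finset.exists_mem_eq_sup q.support hsupp (fun s => s.sum fun _ e => e)
  have hdeg : m.degree = q.totalDegree := by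
    rw [← degree_eq_sum]
    exact hmdeg.symm
  refine ⟨m, ?_, mem_support_iff.mp hm, hdeg⟩
  rintro rfl
  apply hu
  rw [isUnit_iff_totalDegree_of_isReduced]
  have htd : q.totalDegree = 0 := by rw [← hdeg]; simp
  refine ⟨?_, htd⟩
  rw [isUnit_iff_ne_zero]
  exact mem_support_iff.mp hm

/-- **Bertini–Noether** (Stacks 0556) -/
theorem exists_ne_zero_forall_irreducible_map {A : Type u} [CommRing A] [IsDomain A] {σ : Type v}
    [Finite σ] (P : MvPolynomial σ A) (Ω : Type w) [Field Ω] [IsAlgClosed Ω] [Algebra A Ω]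
    (hinj : Function.Injective (algebraMap A Ω))
    (hP : Irreducible (map (algebraMap A Ω) P)) :
    ∃ a : A, a ≠ 0 ∧ ∀ (k : Type w') [Field k] (φ : A →+* k), φ a ≠ 0 →
      Irreducible (map φ P) := by
  classical
  set D := P.totalDegree with hD
  letI : Fintype (Idx σ D) := Fintype.ofFinite _
  -- a nonconstant monomial of `P`
  obtain ⟨m₀, hm₀, hm₀c⟩ : ∃ m₀ : σ →₀ ℕ, m₀ ≠ 0 ∧ coeff m₀ P ≠ 0 := by
    obtain ⟨m, hm, hmc, -⟩ := exists_ne_zero_mem_support _ hP.ne_zero hP.not_isUnit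
    refine ⟨m, hm, ?_⟩
    intro h
    apply hmc
    rw [coeff_map, h, map_zero]
  -- the auxiliary elements
  have hex : ∀ p : Idx σ D × Idx σ D, ∃ a : A, a ≠ 0 ∧ (p.1.1 ≠ 0 → p.2.1 ≠ 0 →
      ∃ N : ℕ, (C a * (X (Sum.inl p.1) * X (Sum.inr p.2)) ^ N : CoefRing A σ D) ∈
        relIdeal D P) := by
    intro p
    by_cases h : p.1.1 ≠ 0 ∧ p.2.1 ≠ 0
    · obtain ⟨a, ha, N, hN⟩ := exists_mem_relIdeal D P Ω hinj hP p.1 p.2 h.1 h.2
      exact ⟨a, ha, fun _ _ => ⟨N, hN⟩⟩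
    · refine ⟨1, one_ne_zero, fun h1 h2 => absurd ⟨h1, h2⟩ h⟩
  choose F hF0 hF using hex
  refine ⟨coeff m₀ P * ∏ p : Idx σ D × Idx σ D, F p,
    mul_ne_zero hm₀c (Finset.prod_ne_zero_iff.mpr fun p _ => hF0 p), ?_⟩
  intro k _ φ hφ
  rw [map_mul, map_prod] at hφ
  have hφ0 : φ (coeff m₀ P) ≠ 0 := left_ne_zero_of_mul hφ
  have hφF : ∀ p, φ (F p) ≠ 0 := fun p =>
    (Finset.prod_ne_zero_iff.mp (right_ne_zero_of_mul hφ)) p (Finset.mem_univ _)
  have hcoef : coeff m₀ (map φ P) ≠ 0 := by rw [coeff_map]; exact hφ0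
  have hne0 : map φ P ≠ 0 := by
    intro h
    rw [h, coeff_zero] at hcoef
    exact hcoef rfl
  have hdegP : (map φ P).totalDegree ≤ D := Finset.sup_mono (support_map_subset φ P)
  refine ⟨?_, ?_⟩
  · intro hu
    rw [isUnit_iff_totalDegree_of_isReduced] at hu
    have hdeg := le_totalDegree (mem_support_iff.mpr hcoef)
    rw [hu.2, degree_eq_sum] at hdeg
    apply hm₀
    ext i
    have h3 : m₀ i ≤ m₀.degree := by
      rw [← degree_eq_sum]
      by_cases hi : i ∈ m₀.support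
      · exact Finset.single_le_sum (f := fun j => m₀ j) (fun _ _ => Nat.zero_le _) hi
      · rw [Finsupp.notMem_support_iff.mp hi]; exact Nat.zero_le _
    simp only [Finsupp.coe_zero, Pi.zero_apply]
    omega
  · intro q₁ q₂ hq
    by_contra hcon
    push Not at hcon
    obtain ⟨hu1, hu2⟩ := hcon
    have hq1 : q₁ ≠ 0 := by
      rintro rfl
      rw [zero_mul] at hq
      exact hne0 hq
    have hq2 : q₂ ≠ 0 := by
      rintro rfl
      rw [mul_zero] at hq
      exact hne0 hq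
    have hsum : (q₁ * q₂).totalDegree = q₁.totalDegree + q₂.totalDegree :=
      totalDegree_mul_of_isDomain hq1 hq2
    rw [← hq] at hsum
    have hd1 : q₁.totalDegree ≤ D := by omega
    have hd2 : q₂.totalDegree ≤ D := by omega
    obtain ⟨m₁, hm₁, hm₁c, hm₁d⟩ := exists_ne_zero_mem_support q₁ hq1 hu1
    obtain ⟨m₂, hm₂, hm₂c, hm₂d⟩ := exists_ne_zero_mem_support q₂ hq2 hu2
    let i₁ : Idx σ D := ⟨m₁, by rw [hm₁d]; exact hd1⟩
    let i₂ : Idx σ D := ⟨m₂, by rw [hm₂d]; exact hd2⟩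
    obtain ⟨ψ, hψC, hψker, hl, hr⟩ := exists_hom_of_factorisation D P φ q₁ q₂ hd1 hd2 hq.symm
    obtain ⟨N, hN⟩ := hF (i₁, i₂) hm₁ hm₂
    have h0 := hψker hN
    rw [RingHom.mem_ker, map_mul, map_pow, map_mul, hl, hr] at h0
    have hC : ψ (C (F (i₁, i₂))) = φ (F (i₁, i₂)) := by
      rw [← hψC]; rfl
    rw [hC] at h0
    exact (mul_ne_zero (hφF _) (pow_ne_zero N (mul_ne_zero hm₁c hm₂c))) h0

end Groth.Agent.Lib.Helper21.GI
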