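import Mathlib

/-!
# Geometrically reduced finitely generated field extensions are separably generated
-/

set_option autoImplicit false
set_option linter.style.haveILetI false
universe u v w

open TensorProduct

namespace Groth.Agent.Lib.Helper21.GI

variable (K : Type u) (L : Type v) [Field K] [Field L] [Algebra K L]
  (Ω : Type w) [Field Ω] [IsAlgClosed Ω] [Algebra K Ω]

/-- MacLane's criterion from geometric reducedness -/
theorem linearIndepOn_pow_of_isReduced_tensor (p : ℕ) [hp : Fact p.Prime] [CharP K p]
    (hred : IsReduced (Ω ⊗[K] L)) (s : Finset L)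
    (hs : LinearIndepOn K _root_.id (s : Set L)) : LinearIndepOn K (· ^ p) (s : Set L) := by
  classical
  haveI : Nontrivial (Ω ⊗[K] L) := by
    haveI : Module.Free K Ω := Module.Free.of_divisionRing K Ω
    infer_instance
  haveI : CharP (Ω ⊗[K] L) p :=
    charP_of_injective_algebraMap (algebraMap K (Ω ⊗[K] L)).injective p
  haveI : CharP Ω p := charP_of_injective_algebraMap (algebraMap K Ω).injective p
  rw [linearIndepOn_finset_iff]
  intro g hg a ha
  -- p-th roots
  have hroot : ∀ c : K, ∃ γ : Ω, γ ^ p = algebraMap K Ω c := fun c =>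
    IsAlgClosed.exists_pow_nat_eq _ hp.out.pos
  choose γ hγ using hroot
  let w : Ω ⊗[K] L := ∑ b ∈ s, (γ (g b)) ⊗ₜ[K] b
  have hw : w ^ p = 0 := by
    rw [sum_pow_char]
    have : ∀ b ∈ s, ((γ (g b)) ⊗ₜ[K] b : Ω ⊗[K] L) ^ p = (1 : Ω) ⊗ₜ[K] (g b • b ^ p) := by
      intro b _
      rw [Algebra.TensorProduct.tmul_pow, hγ, Algebra.algebraMap_eq_smul_one,
        TensorProduct.smul_tmul]
    rw [Finset.sum_congr rfl this, ← TensorProduct.tmul_sum, hg, TensorProduct.tmul_zero]
  have hw0 : w = 0 := by
    have := IsReduced.eq_zero w ⟨p, hw⟩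
    exact this
  -- linear independence of `1 ⊗ b`
  haveI : Module.Flat K Ω := inferInstance
  have hli : LinearIndepOn Ω (fun b : L => (1 : Ω) ⊗ₜ[K] b) (s : Set L) :=
    Module.Flat.linearIndependent_one_tmul (S := Ω) hs
  rw [linearIndepOn_finset_iff] at hli
  have hsum : ∑ b ∈ s, (γ (g b)) • ((1 : Ω) ⊗ₜ[K] b) = 0 := by
    rw [← hw0]
    refine Finset.sum_congr rfl fun b _ => ?_
    rw [TensorProduct.smul_tmul', smul_eq_mul, mul_one]
  have h0 := hli (fun b => γ (g b)) hsum a ha
  have h1 : algebraMap K Ω (g a) = 0 := by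
    rw [← hγ, h0, zero_pow hp.out.ne_zero]
  exact (map_eq_zero _).mp h1

/-- a finitely generated field extension which is geometrically reduced is separably generated -/
theorem exists_sep_transcendence_basis [Algebra.EssFiniteType K L]
    (hred : IsReduced (Ω ⊗[K] L)) :
    ∃ s : Finset L, IsTranscendenceBasis K ((↑) : s → L) ∧
      Algebra.IsSeparable (IntermediateField.adjoin K (s : Set L)) L := by
  obtain _ | ⟨p, hp, hpk⟩ := CharP.exists' K
  · haveI : PerfectField K := PerfectField.ofCharZero
    exact exists_isTranscendenceBasis_and_isSeparable_of_perfectField K L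
  · haveI : ExpChar K p := .prime hp.out
    exact exists_isTranscendenceBasis_and_isSeparable_of_linearIndepOn_pow_of_essFiniteType
      p hp.out (fun s hs => linearIndepOn_pow_of_isReduced_tensor K L Ω p hred s hs)

end Groth.Agent.Lib.Helper21.GI
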