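import Mathlib

/-!
# Base change of hypersurface rings, naturality of `optionEquivLeft`
-/

set_option autoImplicit false
set_option linter.style.haveILetI false
universe u v w

open TensorProduct MvPolynomial

namespace Groth.Agent.Lib.Helper21.GI

/-- base change of a hypersurface ring -/
noncomputable def tensorQuotEquiv (k : Type u) (k' : Type v) [CommRing k] [CommRing k']
    [Algebra k k'] {σ : Type w} (P : MvPolynomial σ k) :
    k' ⊗[k] (MvPolynomial σ k ⧸ Ideal.span {P}) ≃ₐ[k']
      (MvPolynomial σ k' ⧸ Ideal.span {map (algebraMap k k') P}) :=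
  (Algebra.TensorProduct.tensorQuotientEquiv (R := k) k' (MvPolynomial σ k) k'
      (Ideal.span {P})).trans
    (Ideal.quotientEquivAlg _ _ (algebraTensorAlgEquiv k k') (by
      symm
      rw [Ideal.map_span, Ideal.map_span]
      simp only [Set.image_singleton]
      congr 2
      change algebraTensorAlgEquiv k k' ((1 : k') ⊗ₜ[k] P) = _
      rw [algebraTensorAlgEquiv_tmul, one_smul]))

theorem tensorQuotEquiv_tmul (k : Type u) (k' : Type v) [CommRing k] [CommRing k']
    [Algebra k k'] {σ : Type w} (P : MvPolynomial σ k) (c : k') (G : MvPolynomial σ k) :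
    tensorQuotEquiv k k' P (c ⊗ₜ[k] Ideal.Quotient.mk _ G) =
      Ideal.Quotient.mk _ (c • map (algebraMap k k') G) := by
  unfold tensorQuotEquiv
  rw [AlgEquiv.trans_apply]
  have h1 : (Algebra.TensorProduct.tensorQuotientEquiv (R := k) k' (MvPolynomial σ k) k'
      (Ideal.span {P})) (c ⊗ₜ[k] Ideal.Quotient.mk _ G) =
      Ideal.Quotient.mk _ (c ⊗ₜ[k] G) := rfl
  rw [h1]
  change Ideal.Quotient.mk _ (algebraTensorAlgEquiv k k' (c ⊗ₜ[k] G)) = _
  congr 1
  exact algebraTensorAlgEquiv_tmul (R := k) (A := k') c G

/-- naturality of `optionEquivLeft` in the coefficient ring -/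
theorem optionEquivLeft_map {k : Type u} {k' : Type v} [CommRing k] [CommRing k']
    (φ : k →+* k') {ι : Type w} (G : MvPolynomial (Option ι) k) :
    optionEquivLeft k' ι (map φ G) =
      Polynomial.map (MvPolynomial.map φ) (optionEquivLeft k ι G) := by
  induction G using MvPolynomial.induction_on with
  | C a => simp [optionEquivLeft_C]
  | add p q hp hq => simp [hp, hq]
  | mul_X p i hp =>
    rw [map_mul, map_mul, map_mul, Polynomial.map_mul, hp, map_X]
    congr 1
    cases i with
    | none => simp [optionEquivLeft_X_none]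
    | some j => simp [optionEquivLeft_X_some]

theorem optionEquivLeft_symm_map {k : Type u} {k' : Type v} [CommRing k] [CommRing k']
    (φ : k →+* k') {ι : Type w} (G : Polynomial (MvPolynomial ι k)) :
    (optionEquivLeft k' ι).symm (Polynomial.map (MvPolynomial.map φ) G) =
      map φ ((optionEquivLeft k ι).symm G) := by
  apply (optionEquivLeft k' ι).injective
  rw [AlgEquiv.apply_symm_apply, optionEquivLeft_map, AlgEquiv.apply_symm_apply]

end Groth.Agent.Lib.Helper21.GI
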