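import Mathlib
import Groth.Agent.Lib.Helper21.GI5

/-!
# Hypersurface models of finitely generated separable field extensions (field level)
-/

set_option autoImplicit false
set_option linter.style.haveILetI false
universe u v w

open TensorProduct MvPolynomial

namespace Groth.Agent.Lib.Helper21.GI

variable {K : Type u} {L : Type v} [Field K] [Field L] [Algebra K L] {ι : Type w}

/-- the algebra structure of `L` over `K[x]` -/
@[reducible] noncomputable def algX (x : ι → L) : Algebra (MvPolynomial ι K) L :=
  (aeval x : MvPolynomial ι K →ₐ[K] L).toRingHom.toAlgebra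

theorem algX_algebraMap (x : ι → L) (q : MvPolynomial ι K) :
    letI := algX (K := K) x
    algebraMap (MvPolynomial ι K) L q = aeval x q := rfl

/-- the point `(θ, x)` of `L^{1+ι}` -/
def pt (x : ι → L) (θ : L) : Option ι → L := fun o => o.elim θ x

theorem aeval_pt_eq (x : ι → L) (θ : L) (G : MvPolynomial (Option ι) K) :
    letI := algX (K := K) x
    aeval (pt x θ) G = Polynomial.aeval θ (optionEquivLeft K ι G) := by
  letI := algX (K := K) x
  induction G using MvPolynomial.induction_on with
  | C a =>
    rw [aeval_C, optionEquivLeft_C, Polynomial.aeval_C, algX_algebraMap, aeval_C]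
  | add p q hp hq => rw [map_add, map_add, map_add, hp, hq]
  | mul_X p i hp =>
    rw [map_mul, map_mul, map_mul, hp, aeval_X]
    congr 1
    cases i with
    | none => rw [optionEquivLeft_X_none, Polynomial.aeval_X]; rfl
    | some j =>
      rw [optionEquivLeft_X_some, Polynomial.aeval_C, algX_algebraMap, aeval_X]; rfl

/-- the kernel of the evaluation at `(θ, x)` is generated by the minimal polynomial -/
theorem ker_aeval_pt (x : ι → L) (hx : AlgebraicIndependent K x) (θ : L)
    (hθ : letI := algX (K := K) x; IsIntegral (MvPolynomial ι K) θ) :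
    letI := algX (K := K) x
    RingHom.ker (aeval (pt x θ) : MvPolynomial (Option ι) K →ₐ[K] L) =
      Ideal.span {(optionEquivLeft K ι).symm (minpoly (MvPolynomial ι K) θ)} := by
  letI := algX (K := K) x
  have hinj : Function.Injective (algebraMap (MvPolynomial ι K) L) := hx
  haveI : Module.IsTorsionFree (MvPolynomial ι K) L :=
    Module.isTorsionFree_iff_algebraMap_injective.mpr hinj
  ext G
  rw [RingHom.mem_ker, Ideal.mem_span_singleton]
  change aeval (pt x θ) G = 0 ↔ _
  rw [aeval_pt_eq, minpoly.isIntegrallyClosed_dvd_iff hθ]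
  constructor
  · rintro ⟨Q, hQ⟩
    refine ⟨(optionEquivLeft K ι).symm Q, ?_⟩
    rw [← map_mul, ← hQ, AlgEquiv.symm_apply_apply]
  · rintro ⟨Q, hQ⟩
    refine ⟨optionEquivLeft K ι Q, ?_⟩
    rw [hQ, map_mul, AlgEquiv.apply_symm_apply]

/-- every element of `L` is a quotient of polynomial expressions in `(θ, x)` -/
theorem exists_frac (x : ι → L) (θ : L)
    (hprim : IntermediateField.adjoin (IntermediateField.adjoin K (Set.range x)) {θ} = ⊤)
    (l : L) : ∃ u v : MvPolynomial (Option ι) K, aeval (pt x θ) v ≠ 0 ∧
      l * aeval (pt x θ) v = aeval (pt x θ) u := by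
  have htop : IntermediateField.adjoin K (Set.range (pt x θ)) = ⊤ := by
    have hr : Set.range (pt x θ) = Set.range x ∪ {θ} := by
      ext z
      constructor
      · rintro ⟨o, rfl⟩
        cases o with
        | none => right; rfl
        | some i => left; exact ⟨i, rfl⟩
      · rintro (⟨i, rfl⟩ | hz)
        · exact ⟨some i, rfl⟩
        · exact ⟨none, hz.symm⟩
    rw [hr, ← IntermediateField.adjoin_adjoin_left, hprim, IntermediateField.restrictScalars_top]
  have hl : l ∈ IntermediateField.adjoin K (Set.range (pt x θ)) := by rw [htop]; trivial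
  obtain ⟨r, hr, s, hs, rfl⟩ := IntermediateField.mem_adjoin_iff_div.mp hl
  rw [Algebra.adjoin_range_eq_range_aeval] at hr hs
  obtain ⟨u, rfl⟩ := hr
  obtain ⟨v, rfl⟩ := hs
  by_cases hv : aeval (pt x θ) v = 0
  · refine ⟨0, 1, by simp, ?_⟩
    change _ / (aeval (pt x θ) v) * _ = _
    rw [hv, div_zero, zero_mul, map_zero]
  · refine ⟨u, v, hv, ?_⟩
    change (aeval (pt x θ) u) / (aeval (pt x θ) v) * _ = _
    rw [div_mul_cancel₀ _ hv]

/-- absolute irreducibility of the generator of the kernel -/
theorem irreducible_map_of_isDomain_tensor (Ω : Type w) [Field Ω] [Algebra K Ω]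
    (hdom : IsDomain (Ω ⊗[K] L)) (y : Option ι → L) (P : MvPolynomial (Option ι) K) (hP : P ≠ 0)
    (hker : RingHom.ker (aeval y : MvPolynomial (Option ι) K →ₐ[K] L) = Ideal.span {P}) :
    Irreducible (map (algebraMap K Ω) P) := by
  -- the injective map `K[σ]/(P) → L`
  let j : (MvPolynomial (Option ι) K ⧸ Ideal.span {P}) →ₐ[K] L :=
    Ideal.Quotient.liftₐ _ (aeval y) (fun a ha => by
      rw [← hker] at ha; exact ha)
  have hj : Function.Injective j := by
    rw [injective_iff_map_eq_zero]
    intro c hc
    obtain ⟨G, rfl⟩ := Ideal.Quotient.mk_surjective c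
    have : aeval y G = 0 := hc
    rw [Ideal.Quotient.eq_zero_iff_mem, ← hker]
    exact this
  let T : Ω ⊗[K] (MvPolynomial (Option ι) K ⧸ Ideal.span {P}) →ₐ[Ω] Ω ⊗[K] L :=
    Algebra.TensorProduct.map (AlgHom.id Ω Ω) j
  have hT : Function.Injective T := by
    have h1 : (T : _ → _) = LinearMap.lTensor Ω j.toLinearMap := by
      ext z
      induction z using TensorProduct.induction_on with
      | zero => simp
      | tmul a b => rfl
      | add a b ha hb => rw [map_add, map_add, ha, hb]
    rw [h1]
    exact Module.Flat.lTensor_preserves_injective_linearMap _ hj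
  haveI : IsDomain (Ω ⊗[K] (MvPolynomial (Option ι) K ⧸ Ideal.span {P})) :=
    hT.isDomain T.toRingHom
  haveI : IsDomain (MvPolynomial (Option ι) Ω ⧸ Ideal.span {map (algebraMap K Ω) P}) :=
by
    let e := (tensorQuotEquiv K Ω P).symm
    have he : Function.Injective e.toAlgHom.toRingHom := e.injective
    exact he.isDomain e.toAlgHom.toRingHom
  have hprime : (Ideal.span {map (algebraMap K Ω) P}).IsPrime :=
    (Ideal.Quotient.isDomain_iff_prime _).mp inferInstance
  have hne : map (algebraMap K Ω) P ≠ 0 := by
    intro h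
    apply hP
    exact map_injective _ (algebraMap K Ω).injective (by rw [h, map_zero])
  exact ((Ideal.span_singleton_prime hne).mp hprime).irreducible

end Groth.Agent.Lib.Helper21.GI
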