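import Mathlib
import Groth.Agent.Lib.Helper21.GI6

/-!
# Auxiliary lemmas: clearing denominators, monic division, scaling
-/

set_option autoImplicit false
set_option linter.style.haveILetI false
universe u v w

open TensorProduct MvPolynomial

namespace Groth.Agent.Lib.Helper21.GI

section Clear

variable (A : Type u) (K : Type v) [CommRing A] [IsDomain A] [Field K] [Algebra A K]
  [IsFractionRing A K] {σ : Type w}

theorem exists_clear_denominator (q : MvPolynomial σ K) :
    ∃ a : A, a ≠ 0 ∧ ∃ q' : MvPolynomial σ A,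
      map (algebraMap A K) q' = C (algebraMap A K a) * q := by
  induction q using MvPolynomial.induction_on with
  | C c =>
    obtain ⟨b, n, hn⟩ := IsLocalization.exists_integer_multiple (nonZeroDivisors A) c
    refine ⟨b, nonZeroDivisors.ne_zero b.2, C n, ?_⟩
    rw [map_C, hn, Algebra.smul_def, map_mul]
  | add p q hp hq =>
    obtain ⟨a₁, h₁, p', hp'⟩ := hp
    obtain ⟨a₂, h₂, q', hq'⟩ := hq
    refine ⟨a₁ * a₂, mul_ne_zero h₁ h₂, C a₂ * p' + C a₁ * q', ?_⟩
    rw [map_add, map_mul, map_mul, hp', hq', map_C, map_C, map_mul, map_mul]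
    ring
  | mul_X p i hp =>
    obtain ⟨a₁, h₁, p', hp'⟩ := hp
    refine ⟨a₁, h₁, p' * X i, ?_⟩
    rw [map_mul, hp', map_X, mul_assoc]

theorem exists_clear_denominators (T : Finset (MvPolynomial σ K)) :
    ∃ a : A, a ≠ 0 ∧ ∀ q ∈ T, ∃ q' : MvPolynomial σ A,
      map (algebraMap A K) q' = C (algebraMap A K a) * q := by
  classical
  induction T using Finset.induction_on with
  | empty => exact ⟨1, one_ne_zero, fun q hq => absurd hq (Finset.notMem_empty q)⟩
  | insert q T hq ih =>
    obtain ⟨a₁, h₁, q₁, hq₁⟩ := exists_clear_denominator A K q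
    obtain ⟨a₂, h₂, H⟩ := ih
    refine ⟨a₁ * a₂, mul_ne_zero h₁ h₂, fun r hr => ?_⟩
    rcases Finset.mem_insert.mp hr with rfl | hr
    · refine ⟨C a₂ * q₁, ?_⟩
      rw [map_mul, hq₁, map_C, map_mul, map_mul]
      ring
    · obtain ⟨r', hr'⟩ := H r hr
      refine ⟨C a₁ * r', ?_⟩
      rw [map_mul, hr', map_C, map_mul, map_mul]
      ring

end Clear

/-- divisibility by a monic polynomial descends along injective coefficient maps -/
theorem dvd_of_map_dvd_map_of_monic {R : Type u} {S : Type v} [CommRing R] [CommRing S]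
    (f : R →+* S) (hf : Function.Injective f) (P G : Polynomial R) (hP : P.Monic)
    (h : P.map f ∣ G.map f) : P ∣ G := by
  rw [← Polynomial.modByMonic_eq_zero_iff_dvd hP]
  apply Polynomial.map_injective f hf
  rw [Polynomial.map_modByMonic f hP, Polynomial.map_zero,
    Polynomial.modByMonic_eq_zero_iff_dvd (hP.map f)]
  exact h

end Groth.Agent.Lib.Helper21.GI
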