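import Mathlib
import Groth.Agent.Lib.Helper21.GI4
import Groth.Agent.Lib.Helper21.GI7

/-!
# Hypersurface models over a domain
-/

set_option autoImplicit false
set_option linter.style.haveILetI false
universe u v w

open TensorProduct MvPolynomial

namespace Groth.Agent.Lib.Helper21.GI

section Prim

variable {K : Type u} {L : Type v} [Field K] [Field L] [Algebra K L] {ι : Type w}

theorem adjoin_mul_eq_top (x : ι → L) (c : MvPolynomial ι K) (hc : aeval x c ≠ 0) (θ : L)
    (h : IntermediateField.adjoin (IntermediateField.adjoin K (Set.range x)) {θ} = ⊤) :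
    IntermediateField.adjoin (IntermediateField.adjoin K (Set.range x)) {aeval x c * θ} = ⊤ := by
  set F := IntermediateField.adjoin K (Set.range x) with hF
  have hcF : aeval x c ∈ F := by
    have h1 : aeval x c ∈ Algebra.adjoin K (Set.range x) := by
      rw [Algebra.adjoin_range_eq_range_aeval]
      exact ⟨c, rfl⟩
    exact IntermediateField.algebra_adjoin_le_adjoin K _ h1
  rw [eq_top_iff, ← h, IntermediateField.adjoin_le_iff]
  intro z hz
  rw [Set.mem_singleton_iff.mp hz]
  have h2 : aeval x c * θ ∈ IntermediateField.adjoin F {aeval x c * θ} :=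
    IntermediateField.subset_adjoin F _ rfl
  have h3 : (aeval x c)⁻¹ ∈ IntermediateField.adjoin F {aeval x c * θ} := by
    have : (aeval x c)⁻¹ = algebraMap F L (⟨aeval x c, hcF⟩⁻¹) := by
      rw [map_inv₀]; rfl
    rw [this]
    exact IntermediateField.algebraMap_mem _ _
  have h4 := mul_mem h3 h2
  rwa [inv_mul_cancel_left₀ hc] at h4

end Prim

theorem exists_model (A K L Ω : Type u) [CommRing A] [IsDomain A] [Field K] [Algebra A K]
    [IsFractionRing A K] [Field L] [Algebra K L] [Algebra A L] [IsScalarTower A K L]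
    [Algebra.EssFiniteType K L] [Field Ω] [IsAlgClosed Ω] [Algebra K Ω] [Algebra A Ω]
    [IsScalarTower A K Ω] (hdom : IsDomain (Ω ⊗[K] L)) :
    ∃ (ι : Type u) (_ : Finite ι) (y : Option ι → L) (P : MvPolynomial (Option ι) A),
      RingHom.ker (aeval y : MvPolynomial (Option ι) A →ₐ[A] L) = Ideal.span {P} ∧
      (∀ l : L, ∃ u v : MvPolynomial (Option ι) A, aeval y v ≠ 0 ∧
        l * aeval y v = aeval y u) ∧
      Irreducible (map (algebraMap A Ω) P) := by
  classical
  haveI := hdom
  obtain ⟨s, hs, hsep⟩ := exists_sep_transcendence_basis K L Ω inferInstance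
  let ι := {z : L // z ∈ s}
  let x : ι → L := fun i => i.1
  have hx : AlgebraicIndependent K x := hs.1
  have hrange : Set.range x = (s : Set L) := Subtype.range_coe
  have hsep' : Algebra.IsSeparable (IntermediateField.adjoin K (Set.range x)) L := by
    rw [hrange]; exact hsep
  set F := IntermediateField.adjoin K (Set.range x) with hF
  haveI : Algebra.EssFiniteType F L := Algebra.EssFiniteType.of_comp K F L
  haveI : Algebra.IsAlgebraic F L := Algebra.IsSeparable.isAlgebraic F L
  haveI : Module.Finite F L := Algebra.finite_of_essFiniteType_of_isAlgebraic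
  obtain ⟨θ₀, hθ₀⟩ := Field.exists_primitive_element F L
  letI := algX (K := K) x
  have hinj : Function.Injective (algebraMap (MvPolynomial ι K) L) := hx
  haveI : Module.IsTorsionFree (MvPolynomial ι K) L :=
    Module.isTorsionFree_iff_algebraMap_injective.mpr hinj
  -- algebraicity over `K[x]`
  have halg : ∀ z : L, IsAlgebraic (MvPolynomial ι K) z := by
    intro z
    haveI : Algebra.IsAlgebraic (Algebra.adjoin K (Set.range x)) L := hs.isAlgebraic
    have hz : IsAlgebraic (Algebra.adjoin K (Set.range x)) ((RingHom.id L) z) :=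
      Algebra.IsAlgebraic.isAlgebraic z
    refine IsAlgebraic.of_ringHom_of_comp_eq (hx.aevalEquiv : MvPolynomial ι K →+* _)
      (RingHom.id L) hz hx.aevalEquiv.surjective Function.injective_id ?_
    ext q
    · simp only [RingHom.coe_comp, Function.comp_apply]
      exact hx.algebraMap_aevalEquiv _
    · simp only [RingHom.coe_comp, Function.comp_apply]
      exact hx.algebraMap_aevalEquiv _
  obtain ⟨r, hr0, hrint⟩ := (halg θ₀).exists_integral_multiple
  set θ₁ : L := r • θ₀ with hθ₁
  have hθ₁prim : IntermediateField.adjoin F {θ₁} = ⊤ := by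
    have : θ₁ = aeval x r * θ₀ := Algebra.smul_def r θ₀
    rw [this]
    exact adjoin_mul_eq_top x r (fun h => hr0 (hinj (by rw [map_zero]; exact h))) θ₀ hθ₀
  -- clearing the denominators of the minimal polynomial
  set P₁ := minpoly (MvPolynomial ι K) θ₁ with hP₁
  set D := P₁.natDegree with hD
  obtain ⟨a, ha, hT⟩ := exists_clear_denominators A K
    (Finset.image (fun j => P₁.coeff j) (Finset.range (D + 1)))
  set c : MvPolynomial ι K := C (algebraMap A K a) with hc
  have haK : algebraMap A K a ≠ 0 := by
    intro h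
    exact ha (IsFractionRing.injective A K (by rw [h, map_zero]))
  have hc0 : c ≠ 0 := by
    rw [hc, Ne, C_eq_zero]; exact haK
  set θ : L := c • θ₁ with hθ
  have hθint : IsIntegral (MvPolynomial ι K) θ := hrint.smul c
  have hθprim : IntermediateField.adjoin F {θ} = ⊤ := by
    have : θ = aeval x c * θ₁ := Algebra.smul_def c θ₁
    rw [this]
    exact adjoin_mul_eq_top x c (fun h => hc0 (hinj (by rw [map_zero]; exact h))) θ₁ hθ₁prim
  have hmin : minpoly (MvPolynomial ι K) θ = P₁.scaleRoots c :=
    IsIntegrallyClosed.minpoly_smul hc0 hrint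
  have hmonic₁ : P₁.Monic := minpoly.monic hrint
  -- the polynomial has coefficients in `A[x]`
  have hrangeP : P₁.scaleRoots c ∈
      (Polynomial.mapRingHom (MvPolynomial.map (algebraMap A K) :
        MvPolynomial ι A →+* MvPolynomial ι K)).range := by
    rw [Polynomial.mem_map_range]
    intro n
    rw [Polynomial.coeff_scaleRoots, ← hD]
    rcases lt_trichotomy n D with hn | hn | hn
    · obtain ⟨q', hq'⟩ := hT (P₁.coeff n) (Finset.mem_image.mpr
        ⟨n, Finset.mem_range.mpr (by omega), rfl⟩)
      obtain ⟨m, hm⟩ : ∃ m, D - n = m + 1 := ⟨D - n - 1, by omega⟩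
      refine ⟨C (a ^ m) * q', ?_⟩
      rw [map_mul, hq', map_C, map_pow, C_pow, ← hc, hm, pow_succ]
      ring
    · refine ⟨1, ?_⟩
      rw [hn, Nat.sub_self, pow_zero, mul_one, map_one, hD]
      exact hmonic₁.coeff_natDegree.symm
    · refine ⟨0, ?_⟩
      rw [map_zero, Polynomial.coeff_eq_zero_of_natDegree_lt (by omega), zero_mul]
  obtain ⟨PA, hPA⟩ := hrangeP
  have hPA' : PA.map (MvPolynomial.map (algebraMap A K)) = P₁.scaleRoots c := hPA
  have hmapinj : Function.Injective (MvPolynomial.map (algebraMap A K) :
      MvPolynomial ι A → MvPolynomial ι K) :=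
    map_injective _ (IsFractionRing.injective A K)
  have hmonicK : (P₁.scaleRoots c).Monic := by rw [← hmin]; exact minpoly.monic hθint
  have hmonicA : PA.Monic := by
    apply Polynomial.monic_of_injective hmapinj
    rw [hPA']; exact hmonicK
  -- the model
  set y : Option ι → L := pt x θ with hy
  set P : MvPolynomial (Option ι) A := (optionEquivLeft A ι).symm PA with hP
  have hPK : map (algebraMap A K) P = (optionEquivLeft K ι).symm (P₁.scaleRoots c) := by
    rw [hP, ← optionEquivLeft_symm_map, hPA']
  have hkerK : RingHom.ker (aeval y : MvPolynomial (Option ι) K →ₐ[K] L) =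
      Ideal.span {map (algebraMap A K) P} := by
    rw [hPK, ← hmin]
    exact ker_aeval_pt x hx θ hθint
  have haevalA : ∀ G : MvPolynomial (Option ι) A,
      (aeval y : MvPolynomial (Option ι) A →ₐ[A] L) G =
        (aeval y : MvPolynomial (Option ι) K →ₐ[K] L) (map (algebraMap A K) G) := fun G =>
    (aeval_map_algebraMap K y G).symm
  refine ⟨ι, inferInstance, y, P, ?_, ?_, ?_⟩
  · ext G
    rw [RingHom.mem_ker, Ideal.mem_span_singleton]
    change (aeval y : MvPolynomial (Option ι) A →ₐ[A] L) G = 0 ↔ _
    rw [haevalA]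
    have h1 : (aeval y : MvPolynomial (Option ι) K →ₐ[K] L) (map (algebraMap A K) G) = 0 ↔
        map (algebraMap A K) P ∣ map (algebraMap A K) G := by
      rw [← Ideal.mem_span_singleton, ← hkerK, RingHom.mem_ker]
    rw [h1]
    constructor
    · intro hdvd
      have h2 : (optionEquivLeft K ι) (map (algebraMap A K) P) ∣
          (optionEquivLeft K ι) (map (algebraMap A K) G) := map_dvd _ hdvd
      rw [optionEquivLeft_map, optionEquivLeft_map, hP, AlgEquiv.apply_symm_apply] at h2
      have h3 := dvd_of_map_dvd_map_of_monic _ hmapinj PA _ hmonicA h2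
      have h4 : (optionEquivLeft A ι).symm PA ∣
          (optionEquivLeft A ι).symm ((optionEquivLeft A ι) G) := map_dvd _ h3
      rwa [AlgEquiv.symm_apply_apply] at h4
    · intro hdvd
      exact map_dvd _ hdvd
  · intro l
    obtain ⟨u, v, hv, huv⟩ := exists_frac x θ hθprim l
    obtain ⟨a₂, ha₂, H⟩ := exists_clear_denominators A K ({u, v} : Finset _)
    obtain ⟨u', hu'⟩ := H u (by simp)
    obtain ⟨v', hv'⟩ := H v (by simp)
    have ha₂K : algebraMap A K a₂ ≠ 0 := by
      intro h
      exact ha₂ (IsFractionRing.injective A K (by rw [h, map_zero]))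
    refine ⟨u', v', ?_, ?_⟩
    · rw [haevalA, hv', map_mul, aeval_C]
      exact mul_ne_zero ((map_ne_zero _).mpr ha₂K) hv
    · rw [haevalA, haevalA, hv', hu', map_mul, map_mul, aeval_C]
      rw [← huv]
      ring
  · have h1 : map (algebraMap A Ω) P = map (algebraMap K Ω) (map (algebraMap A K) P) := by
      rw [MvPolynomial.map_map, ← IsScalarTower.algebraMap_eq]
    rw [h1]
    refine irreducible_map_of_isDomain_tensor Ω hdom y _ ?_ hkerK
    rw [hPK]
    intro h0
    have : P₁.scaleRoots c = 0 := by
      have := congrArg (optionEquivLeft K ι) h0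
      rwa [AlgEquiv.apply_symm_apply, map_zero] at this
    exact hmonicK.ne_zero this

end Groth.Agent.Lib.Helper21.GI
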