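import Mathlib
import Groth.Agent.S0389

/-!
# Generic non-zero-divisors: `g ≠ 0` in a finitely generated domain `B` over a domain `A` stays a
non-zero-divisor on `k ⊗[A] B` for `k` a residue field of a generic point
-/

set_option autoImplicit false
set_option linter.style.haveILetI false
universe u

open TensorProduct

namespace Groth.Agent.Lib.Helper21.GI

theorem exists_injective_lTensor_mulLeft (A B : Type u) [CommRing A] [IsDomain A] [CommRing B]
    [IsDomain B] [Algebra A B] [Algebra.FiniteType A B] (g : B) (hg : g ≠ 0) :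
    ∃ a : A, a ≠ 0 ∧ ∀ (k : Type u) [Field k] (φ : A →+* k), φ a ≠ 0 →
      letI := φ.toAlgebra
      Function.Injective (LinearMap.lTensor k (LinearMap.mulLeft A g)) := by
  classical
  let I : Ideal B := Ideal.span {g}
  obtain ⟨f, hf0, hfree, -, -, -⟩ := Groth.Agent.S0389.result (R := A) (S := B) (M := B ⧸ I)
  refine ⟨f, hf0, ?_⟩
  intro k _ φ hφ
  letI := φ.toAlgebra
  let Af := Localization.Away f
  let ψ : Af →+* k := IsLocalization.Away.lift f (g := φ) (isUnit_iff_ne_zero.mpr hφ)
  letI algAfk : Algebra Af k := ψ.toAlgebra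
  haveI : IsScalarTower A Af k := IsScalarTower.of_algebraMap_eq fun a => by
    change φ a = ψ (algebraMap A Af a)
    exact (IsLocalization.Away.lift_eq f _ a).symm
  -- the exact sequence over `A`
  let u₀ : B →ₗ[A] B := LinearMap.mulLeft A g
  let π₀ : B →ₗ[A] (B ⧸ I) := (Ideal.Quotient.mkₐ A I).toLinearMap
  have hu₀ : Function.Injective u₀ := by
    intro b₁ b₂ h
    exact mul_left_cancel₀ hg h
  have hπ₀ : Function.Surjective π₀ := Ideal.Quotient.mk_surjective
  have hex₀ : Function.Exact u₀ π₀ := by
    intro b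
    constructor
    · intro hb
      have : b ∈ I := Ideal.Quotient.eq_zero_iff_mem.mp hb
      obtain ⟨c, rfl⟩ := Ideal.mem_span_singleton'.mp this
      exact ⟨c, mul_comm g c⟩
    · rintro ⟨c, rfl⟩
      change Ideal.Quotient.mk I (g * c) = 0
      exact Ideal.Quotient.eq_zero_iff_mem.mpr (Ideal.mul_mem_right _ _ (Ideal.mem_span_singleton_self g))
  -- base change to `Af`
  let u : Af ⊗[A] B →ₗ[Af] Af ⊗[A] B := u₀.baseChange Af
  let π : Af ⊗[A] B →ₗ[Af] Af ⊗[A] (B ⧸ I) := π₀.baseChange Af
  haveI : Module.Flat A Af := IsLocalization.flat Af (Submonoid.powers f)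
  have hu : Function.Injective u := by
    have : (u : _ → _) = u₀.lTensor Af := rfl
    rw [this]
    exact Module.Flat.lTensor_preserves_injective_linearMap u₀ hu₀
  have hπ : Function.Surjective π := by
    have : (π : _ → _) = π₀.lTensor Af := rfl
    rw [this]
    exact LinearMap.lTensor_surjective Af hπ₀
  have hex : Function.Exact u π := by
    have h1 : (u : _ → _) = u₀.lTensor Af := rfl
    have h2 : (π : _ → _) = π₀.lTensor Af := rfl
    rw [h1, h2]
    exact lTensor_exact Af hex₀ hπ₀
  haveI : Module.Flat Af (Af ⊗[A] (B ⧸ I)) := Module.Flat.of_free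
  have hinj := LinearMap.lTensor_injective_of_exact_of_flat π hπ u hu hex k
  -- transfer along the cancellation isomorphism
  let e : k ⊗[Af] (Af ⊗[A] B) ≃ₗ[k] k ⊗[A] B :=
    TensorProduct.AlgebraTensorModule.cancelBaseChange A Af k k B
  have hcomm : ∀ z : k ⊗[Af] (Af ⊗[A] B),
      e (u.lTensor k z) = (LinearMap.lTensor k u₀) (e z) := by
    intro z
    induction z using TensorProduct.induction_on with
    | zero => simp
    | add z₁ z₂ h₁ h₂ => rw [map_add, map_add, map_add, map_add, h₁, h₂]
    | tmul c w =>
      induction w using TensorProduct.induction_on with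
      | zero => simp
      | add w₁ w₂ h₁ h₂ =>
        rw [TensorProduct.tmul_add, map_add, map_add, map_add, map_add, h₁, h₂]
      | tmul s b =>
        simp only [LinearMap.lTensor_tmul, e, u, LinearMap.baseChange_tmul,
          TensorProduct.AlgebraTensorModule.cancelBaseChange_tmul]
  intro z₁ z₂ h
  obtain ⟨w₁, rfl⟩ := e.surjective z₁
  obtain ⟨w₂, rfl⟩ := e.surjective z₂
  rw [← hcomm, ← hcomm] at h
  have := hinj (e.injective h)
  rw [this]

end Groth.Agent.Lib.Helper21.GI
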