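import Mathlib
import Groth.Agent.Lib.Helper21.GI3
import Groth.Agent.Lib.Helper21.GI8
import Groth.Agent.Lib.Helper21.GI9
import Groth.Agent.Lib.Helper21.GI10

/-!
# Generic geometric irreducibility, algebraic form
-/

set_option autoImplicit false
set_option linter.style.haveILetI false
universe u

open TensorProduct MvPolynomial

namespace Groth.Agent.Lib.Helper21.GI

/-- localisations of a domain have no zero divisors -/
theorem noZeroDivisors_localization {R : Type u} [CommRing R] [IsDomain R] (M : Submonoid R) :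
    NoZeroDivisors (Localization M) := by
  by_cases h0 : (0 : R) ∈ M
  · haveI : Subsingleton (Localization M) := IsLocalization.subsingleton (M := M) h0
    exact ⟨fun {a b} _ => Or.inl (Subsingleton.elim a 0)⟩
  · have hle : M ≤ nonZeroDivisors R := by
      intro x hx
      apply mem_nonZeroDivisors_of_ne_zero
      rintro rfl
      exact h0 hx
    haveI := IsLocalization.isDomain_of_le_nonZeroDivisors (Localization M) hle
    infer_instance

/-- base change of a principal localisation: `k ⊗ B[1/g]` has no zero divisors iff ... -/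
theorem noZeroDivisors_tensor_away_iff_aux {A B k : Type u} [CommRing A] [CommRing B]
    [Algebra A B] [CommRing k] [Algebra A k] (g : B) :
    Nonempty (k ⊗[A] Localization.Away g ≃ₐ[k]
      Localization ((Submonoid.powers g).map
        (Algebra.TensorProduct.includeRight (R := A) (A := k) (B := B)))) :=
  ⟨IsLocalization.tensorProductEquivOfMapIncludeRight A k (Submonoid.powers g)
    (Localization.Away g) _⟩

/-- transfer of `NoZeroDivisors` along an isomorphism of principal localisations -/
theorem noZeroDivisors_tensor_of_away_equiv {A B C k : Type u} [CommRing A] [CommRing B]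
    [Algebra A B] [CommRing C] [Algebra A C] [CommRing k] [Algebra A k]
    [IsDomain (k ⊗[A] C)] (g : B) (h : C)
    (e : Localization.Away g ≃ₐ[A] Localization.Away h)
    (hinj : Function.Injective (LinearMap.lTensor k (LinearMap.mulLeft A g))) :
    NoZeroDivisors (k ⊗[A] B) := by
  -- (ii) `k ⊗ C[1/h]`
  haveI h1 : NoZeroDivisors (Localization ((Submonoid.powers h).map
      (Algebra.TensorProduct.includeRight (R := A) (A := k) (B := C)))) :=
    noZeroDivisors_localization _
  obtain ⟨e₁⟩ := noZeroDivisors_tensor_away_iff_aux (A := A) (B := C) (k := k) h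
  haveI h2 : NoZeroDivisors (k ⊗[A] Localization.Away h) := by
    have he : Function.Injective e₁.toAlgHom.toRingHom := e₁.injective
    exact he.noZeroDivisors e₁.toAlgHom.toRingHom (map_zero _) (map_mul _)
  -- (iii) `k ⊗ B[1/g]`
  haveI h3 : NoZeroDivisors (k ⊗[A] Localization.Away g) := by
    let e₂ : k ⊗[A] Localization.Away g ≃ₐ[k] k ⊗[A] Localization.Away h :=
      Algebra.TensorProduct.congr AlgEquiv.refl e
    have he : Function.Injective e₂.toAlgHom.toRingHom := e₂.injective
    exact he.noZeroDivisors e₂.toAlgHom.toRingHom (map_zero _) (map_mul _)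
  -- (iv) back to `k ⊗ B`
  obtain ⟨e₃⟩ := noZeroDivisors_tensor_away_iff_aux (A := A) (B := B) (k := k) g
  haveI h4 : NoZeroDivisors (Localization ((Submonoid.powers g).map
      (Algebra.TensorProduct.includeRight (R := A) (A := k) (B := B)))) := by
    have he : Function.Injective e₃.symm.toAlgHom.toRingHom := e₃.symm.injective
    exact he.noZeroDivisors e₃.symm.toAlgHom.toRingHom (map_zero _) (map_mul _)
  have hM : (Submonoid.powers g).map
      (Algebra.TensorProduct.includeRight (R := A) (A := k) (B := B)) ≤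
      nonZeroDivisors (k ⊗[A] B) := by
    rintro _ ⟨_, ⟨n, rfl⟩, rfl⟩
    have hmul : ∀ z : k ⊗[A] B, ((1 : k) ⊗ₜ[A] g) * z =
        LinearMap.lTensor k (LinearMap.mulLeft A g) z := by
      intro z
      induction z using TensorProduct.induction_on with
      | zero => simp
      | add z₁ z₂ h₁ h₂ => rw [mul_add, map_add, h₁, h₂]
      | tmul c b =>
        rw [Algebra.TensorProduct.tmul_mul_tmul, one_mul, LinearMap.lTensor_tmul]
        rfl
    have hnzd : ((1 : k) ⊗ₜ[A] g) ∈ nonZeroDivisors (k ⊗[A] B) := by
      rw [mem_nonZeroDivisors_iff_right]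
      intro z hz
      rw [mul_comm, hmul] at hz
      exact hinj (by rw [hz, map_zero])
    have : Algebra.TensorProduct.includeRight (R := A) (A := k) (B := B) (g ^ n) =
        ((1 : k) ⊗ₜ[A] g) ^ n := by
      rw [map_pow]; rfl
    rw [this]
    exact pow_mem hnzd n
  have hinj4 : Function.Injective (algebraMap (k ⊗[A] B) (Localization ((Submonoid.powers g).map
      (Algebra.TensorProduct.includeRight (R := A) (A := k) (B := B))))) :=
    IsLocalization.injective _ hM
  exact hinj4.noZeroDivisors _ (map_zero _) (map_mul _)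


/-- **generic geometric irreducibility** (algebraic form): if the generic fibre of a finitely
generated domain `B` over a domain `A` is geometrically integral, then `k ⊗[A] B` has no zero
divisors for every residue field `k` of a point in a nonempty open of `Spec A`. -/
theorem exists_noZeroDivisors_tensor (A B K L Ω : Type u) [CommRing A] [IsDomain A] [CommRing B]
    [IsDomain B] [Algebra A B] [Algebra.FiniteType A B] [Field K] [Algebra A K]
    [IsFractionRing A K] [Field L] [Algebra B L] [IsFractionRing B L] [Algebra K L] [Algebra A L]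
    [IsScalarTower A K L] [IsScalarTower A B L] [Field Ω] [IsAlgClosed Ω] [Algebra K Ω]
    [Algebra A Ω] [IsScalarTower A K Ω] (hdom : IsDomain (Ω ⊗[K] L)) (g₁ : B) (hg₁ : g₁ ≠ 0) :
    ∃ a : A, a ≠ 0 ∧ ∀ (k : Type u) [Field k] (φ : A →+* k), φ a ≠ 0 →
      letI := φ.toAlgebra
      NoZeroDivisors (k ⊗[A] B) ∧
        Function.Injective (LinearMap.lTensor k (LinearMap.mulLeft A g₁)) := by
  classical
  haveI : Algebra.EssFiniteType K L := by
    haveI : Algebra.EssFiniteType B L := Algebra.EssFiniteType.of_isLocalization L (nonZeroDivisors B)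
    haveI : Algebra.EssFiniteType A L := Algebra.EssFiniteType.comp A B L
    exact Algebra.EssFiniteType.of_comp A K L
  obtain ⟨ι, hι, y, P, hker, hfrac, hirr⟩ := exists_model A K L Ω hdom
  -- the hypersurface ring
  let C := MvPolynomial (Option ι) A ⧸ Ideal.span {P}
  let ιC : C →ₐ[A] L := Ideal.Quotient.liftₐ (Ideal.span {P}) (aeval y) (fun a ha => by
    rw [← hker] at ha; exact ha)
  have hιC : Function.Injective ιC := by
    rw [injective_iff_map_eq_zero]
    intro c hc
    obtain ⟨G, rfl⟩ := Ideal.Quotient.mk_surjective c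
    have : aeval y G = 0 := hc
    rw [Ideal.Quotient.eq_zero_iff_mem, ← hker]
    exact this
  haveI : IsDomain C := hιC.isDomain ιC.toRingHom
  haveI : Algebra.FiniteType A C :=
    Algebra.FiniteType.of_surjective (Ideal.Quotient.mkₐ A _) (Ideal.Quotient.mkₐ_surjective A _)
  have fC : ∀ l : L, ∃ c c' : C, ιC c' ≠ 0 ∧ l * ιC c' = ιC c := by
    intro l
    obtain ⟨u, v, hv, huv⟩ := hfrac l
    exact ⟨Ideal.Quotient.mk _ u, Ideal.Quotient.mk _ v, hv, huv⟩
  let ιB : B →ₐ[A] L := IsScalarTower.toAlgHom A B L
  have hιB : Function.Injective ιB := IsFractionRing.injective B L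
  have fB : ∀ l : L, ∃ b b' : B, ιB b' ≠ 0 ∧ l * ιB b' = ιB b := by
    intro l
    obtain ⟨b, s, hs, rfl⟩ := IsFractionRing.div_surjective (A := B) l
    have hs0 : algebraMap B L s ≠ 0 :=
      IsFractionRing.to_map_ne_zero_of_mem_nonZeroDivisors hs
    exact ⟨b, s, hs0, div_mul_cancel₀ _ hs0⟩
  obtain ⟨g, hg, h, hh, ⟨e⟩⟩ := exists_away_equiv ιB hιB ιC hιC fB fC
  -- the three generic conditions
  have hinjΩ : Function.Injective (algebraMap A Ω) := by
    rw [IsScalarTower.algebraMap_eq A K Ω]
    exact (algebraMap K Ω).injective.comp (IsFractionRing.injective A K)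
  obtain ⟨a₁, ha₁, H₁⟩ := exists_ne_zero_forall_irreducible_map.{u, u, u, u} P Ω hinjΩ hirr
  obtain ⟨a₂, ha₂, H₂⟩ := exists_injective_lTensor_mulLeft A B g hg
  obtain ⟨a₃, ha₃, H₃⟩ := exists_injective_lTensor_mulLeft A B g₁ hg₁
  refine ⟨a₁ * a₂ * a₃, mul_ne_zero (mul_ne_zero ha₁ ha₂) ha₃, ?_⟩
  intro k _ φ hφ
  rw [map_mul, map_mul] at hφ
  have hφ₁ : φ a₁ ≠ 0 := left_ne_zero_of_mul (left_ne_zero_of_mul hφ)
  have hφ₂ : φ a₂ ≠ 0 := right_ne_zero_of_mul (left_ne_zero_of_mul hφ)
  have hφ₃ : φ a₃ ≠ 0 := right_ne_zero_of_mul hφ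
  letI := φ.toAlgebra
  refine ⟨?_, H₃ k φ hφ₃⟩
  -- (i) `k ⊗ C` is a domain
  have hirrk : Irreducible (map φ P) := H₁ k φ hφ₁
  haveI : IsDomain (MvPolynomial (Option ι) k ⧸ Ideal.span {map (algebraMap A k) P}) := by
    have hprime : Prime (map φ P) := hirrk.prime
    have : (Ideal.span {map (algebraMap A k) P}).IsPrime :=
      (Ideal.span_singleton_prime hprime.ne_zero).mpr hprime
    exact Ideal.Quotient.isDomain _
  haveI : IsDomain (k ⊗[A] C) := by
    let e' := tensorQuotEquiv A k P
    have he : Function.Injective e'.toAlgHom.toRingHom := e'.injective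
    exact he.isDomain e'.toAlgHom.toRingHom
  exact noZeroDivisors_tensor_of_away_equiv g h e (H₂ k φ hφ₂)

end Groth.Agent.Lib.Helper21.GI
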