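import Mathlib
import Groth.Agent.Lib.Helper21.GI11

/-!
# Generic geometric irreducibility: a version with hypotheses on `Ω ⊗[A] B`
-/

set_option autoImplicit false
set_option linter.style.haveILetI false
universe u

open TensorProduct

namespace Groth.Agent.Lib.Helper21.GI

/-- from `Ω ⊗[A] B` to `Ω ⊗[K] L` -/
theorem isDomain_tensor_fractionRing (A B Ω : Type u) [CommRing A] [IsDomain A] [CommRing B]
    [IsDomain B] [Algebra A B] [FaithfulSMul A B] [Field Ω] [Algebra A Ω] [FaithfulSMul A Ω]
    (hdom : IsDomain (Ω ⊗[A] B)) :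
    letI := FractionRing.liftAlgebra A (FractionRing B)
    letI := FractionRing.liftAlgebra A Ω
    IsDomain (Ω ⊗[FractionRing A] FractionRing B) := by
  letI := FractionRing.liftAlgebra A (FractionRing B)
  letI := FractionRing.liftAlgebra A Ω
  -- step 1: `Ω ⊗[K] L ≃ Ω ⊗[A] L`
  let e₁ : Ω ⊗[FractionRing A] FractionRing B ≃ₐ[FractionRing A] Ω ⊗[A] FractionRing B :=
    IsLocalization.algebraTensorEquiv (nonZeroDivisors A) (FractionRing A) Ω (FractionRing B)
  -- step 2: `Ω ⊗[A] L` is a localisation of `Ω ⊗[A] B`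
  let e₂ : Ω ⊗[A] FractionRing B ≃ₐ[Ω] Localization ((nonZeroDivisors B).map
      (Algebra.TensorProduct.includeRight (R := A) (A := Ω) (B := B))) :=
    IsLocalization.tensorProductEquivOfMapIncludeRight A Ω (nonZeroDivisors B) (FractionRing B) _
  haveI h1 : NoZeroDivisors (Localization ((nonZeroDivisors B).map
      (Algebra.TensorProduct.includeRight (R := A) (A := Ω) (B := B)))) :=
    noZeroDivisors_localization _
  haveI h2 : NoZeroDivisors (Ω ⊗[A] FractionRing B) := by
    have he : Function.Injective e₂.toAlgHom.toRingHom := e₂.injective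
    exact he.noZeroDivisors e₂.toAlgHom.toRingHom (map_zero _) (map_mul _)
  haveI h3 : NoZeroDivisors (Ω ⊗[FractionRing A] FractionRing B) := by
    have he : Function.Injective e₁.toAlgHom.toRingHom := e₁.injective
    exact he.noZeroDivisors e₁.toAlgHom.toRingHom (map_zero _) (map_mul _)
  haveI : Nontrivial (Ω ⊗[FractionRing A] FractionRing B) := inferInstance
  exact NoZeroDivisors.to_isDomain _

/-- **generic geometric irreducibility**, with the hypothesis on `Ω ⊗[A] B` -/
theorem exists_noZeroDivisors_tensor_of_isDomain (A B Ω : Type u) [CommRing A] [IsDomain A]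
    [CommRing B] [IsDomain B] [Algebra A B] [FaithfulSMul A B] [Algebra.FiniteType A B]
    [Field Ω] [IsAlgClosed Ω] [Algebra A Ω] [FaithfulSMul A Ω]
    (hdom : IsDomain (Ω ⊗[A] B)) (g₁ : B) (hg₁ : g₁ ≠ 0) :
    ∃ a : A, a ≠ 0 ∧ ∀ (k : Type u) [Field k] (φ : A →+* k), φ a ≠ 0 →
      letI := φ.toAlgebra
      NoZeroDivisors (k ⊗[A] B) ∧
        Function.Injective (LinearMap.lTensor k (LinearMap.mulLeft A g₁)) := by
  letI := FractionRing.liftAlgebra A (FractionRing B)
  letI := FractionRing.liftAlgebra A Ω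
  have h := isDomain_tensor_fractionRing A B Ω hdom
  exact exists_noZeroDivisors_tensor A B (FractionRing A) (FractionRing B) Ω h g₁ hg₁

end Groth.Agent.Lib.Helper21.GI
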