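import Mathlib
import Groth.Agent.Lib.Helper21.GI12

/-!
# Generic geometric irreducibility: ring level statement about fibres
-/

set_option autoImplicit false
set_option linter.style.haveILetI false
universe u

open TensorProduct

namespace Groth.Agent.Lib.Helper21.GI

/-- an ideal whose zero locus is irreducible and stable under generisation, and such that the
local rings at the points of the zero locus are reduced, is prime -/
theorem isPrime_of_isIrreducible_zeroLocus {R : Type u} [CommRing R] (J : Ideal R)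
    (hirr : IsIrreducible (PrimeSpectrum.zeroLocus (J : Set R)))
    (hgen : ∀ r r' : PrimeSpectrum R, J ≤ r.asIdeal → r'.asIdeal ≤ r.asIdeal → J ≤ r'.asIdeal)
    (hred : ∀ r : PrimeSpectrum R, J ≤ r.asIdeal → IsReduced (Localization.AtPrime r.asIdeal)) :
    J.IsPrime := by
  have hrad : J.radical.IsPrime := (PrimeSpectrum.isIrreducible_zeroLocus_iff J).mp hirr
  suffices h : J.radical ≤ J by
    have : J = J.radical := le_antisymm Ideal.le_radical h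
    rw [this]; exact hrad
  intro x hx
  by_contra hxJ
  -- the colon ideal
  have hC : J.colon ({x} : Set R) ≠ ⊤ := by
    intro htop
    have h1 : (1 : R) ∈ J.colon ({x} : Set R) := by rw [htop]; trivial
    rw [Submodule.mem_colon_singleton] at h1
    exact hxJ (by simpa using h1)
  obtain ⟨𝔪, h𝔪, hle⟩ := Ideal.exists_le_maximal _ hC
  haveI := h𝔪.isPrime
  have hJ𝔪 : J ≤ 𝔪 := by
    intro y hy
    apply hle
    rw [Submodule.mem_colon_singleton]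
    exact J.mul_mem_right _ hy
  let r : PrimeSpectrum R := ⟨𝔪, h𝔪.isPrime⟩
  haveI := hred r hJ𝔪
  -- the image of `x` in `R_𝔪` is nilpotent
  have hnil : IsNilpotent (algebraMap R (Localization.AtPrime 𝔪) x) := by
    rw [nilpotent_iff_mem_prime]
    intro Q hQ
    let Q' : PrimeSpectrum (Localization.AtPrime 𝔪) := ⟨Q, hQ⟩
    let r' : PrimeSpectrum R := PrimeSpectrum.comap (algebraMap R (Localization.AtPrime 𝔪)) Q'
    have hr' : r' ∈ Set.range (PrimeSpectrum.comap (algebraMap R (Localization.AtPrime 𝔪))) :=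
      ⟨Q', rfl⟩
    rw [PrimeSpectrum.localization_comap_range (Localization.AtPrime 𝔪) 𝔪.primeCompl] at hr'
    have hr'le : r'.asIdeal ≤ 𝔪 := by
      intro y hy
      by_contra hy𝔪
      exact Set.disjoint_left.mp hr' hy𝔪 hy
    have hJr' : J ≤ r'.asIdeal := hgen r r' hJ𝔪 hr'le
    have hxr' : x ∈ r'.asIdeal := by
      have : J.radical ≤ r'.asIdeal := (Ideal.IsPrime.radical_le_iff r'.2).mpr hJr'
      exact this hx
    exact hxr'
  have hzero : algebraMap R (Localization.AtPrime 𝔪) x = 0 := hnil.eq_zero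
  obtain ⟨c, hc⟩ := (IsLocalization.map_eq_zero_iff 𝔪.primeCompl (Localization.AtPrime 𝔪) x).mp hzero
  have hc𝔪 : (c : R) ∈ 𝔪 := by
    apply hle
    rw [Submodule.mem_colon_singleton, smul_eq_mul, hc]
    exact J.zero_mem
  exact c.2 hc𝔪

/-- variant of `exists_noZeroDivisors_tensor_of_isDomain` with an `Algebra` instance on `k` -/
theorem exists_noZeroDivisors_tensor_of_isDomain' (A B Ω : Type u) [CommRing A] [IsDomain A]
    [CommRing B] [IsDomain B] [Algebra A B] [FaithfulSMul A B] [Algebra.FiniteType A B]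
    [Field Ω] [IsAlgClosed Ω] [Algebra A Ω] [FaithfulSMul A Ω]
    (hdom : IsDomain (Ω ⊗[A] B)) (g₁ : B) (hg₁ : g₁ ≠ 0) :
    ∃ a : A, a ≠ 0 ∧ ∀ (k : Type u) [Field k] [Algebra A k], algebraMap A k a ≠ 0 →
      NoZeroDivisors (k ⊗[A] B) ∧
        Function.Injective (LinearMap.lTensor k (LinearMap.mulLeft A g₁)) := by
  obtain ⟨a, ha, H⟩ := exists_noZeroDivisors_tensor_of_isDomain A B Ω hdom g₁ hg₁
  refine ⟨a, ha, fun k _ inst h => ?_⟩
  have h1 := H k (algebraMap A k) h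
  have heq : (algebraMap A k).toAlgebra = inst := Algebra.algebra_ext _ _ (fun r => rfl)
  rw [heq] at h1
  exact h1

theorem preirreducibleSpace_of_noZeroDivisors (S : Type u) [CommRing S] [NoZeroDivisors S] :
    PreirreducibleSpace (PrimeSpectrum S) := by
  rcases subsingleton_or_nontrivial S with h | h
  · infer_instance
  · haveI : IsDomain S := NoZeroDivisors.to_isDomain S
    infer_instance

/-- the fibres of `Spec B₀/𝔮 → Spec A₀` over a nonempty open subset of `V(𝔭)` are irreducible or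
empty, and meet a given nonempty open subset when they are nonempty -/
theorem exists_isPreirreducible_fibre (A₀ B₀ Ω : Type u) [CommRing A₀] [CommRing B₀]
    [Algebra A₀ B₀] [Algebra.FiniteType A₀ B₀] (𝔮 : Ideal B₀) [𝔮.IsPrime] [Field Ω]
    [IsAlgClosed Ω] [Algebra (A₀ ⧸ 𝔮.comap (algebraMap A₀ B₀)) Ω]
    [FaithfulSMul (A₀ ⧸ 𝔮.comap (algebraMap A₀ B₀)) Ω]
    (hdom : IsDomain (Ω ⊗[A₀ ⧸ 𝔮.comap (algebraMap A₀ B₀)] (B₀ ⧸ 𝔮))) (g₁ : B₀)
    (hg₁ : g₁ ∉ 𝔮) :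
    ∃ a₀ : A₀, a₀ ∉ 𝔮.comap (algebraMap A₀ B₀) ∧ ∀ 𝔱 : PrimeSpectrum A₀, a₀ ∉ 𝔱.asIdeal →
      IsPreirreducible {𝔷 : PrimeSpectrum B₀ | 𝔮 ≤ 𝔷.asIdeal ∧
        PrimeSpectrum.comap (algebraMap A₀ B₀) 𝔷 = 𝔱} ∧
      ((∃ 𝔷 : PrimeSpectrum B₀, 𝔮 ≤ 𝔷.asIdeal ∧
          PrimeSpectrum.comap (algebraMap A₀ B₀) 𝔷 = 𝔱) →
        ∃ 𝔷 : PrimeSpectrum B₀, 𝔮 ≤ 𝔷.asIdeal ∧
          PrimeSpectrum.comap (algebraMap A₀ B₀) 𝔷 = 𝔱 ∧ g₁ ∉ 𝔷.asIdeal) := by
  classical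
  obtain ⟨a, ha, H⟩ := exists_noZeroDivisors_tensor_of_isDomain' (A₀ ⧸ (𝔮.comap (algebraMap A₀ B₀))) (B₀ ⧸ 𝔮) Ω hdom
    (Ideal.Quotient.mk 𝔮 g₁) (by rwa [Ne, Ideal.Quotient.eq_zero_iff_mem])
  obtain ⟨a₀, rfl⟩ := Ideal.Quotient.mk_surjective a
  rw [Ne, Ideal.Quotient.eq_zero_iff_mem] at ha
  refine ⟨a₀, ha, fun 𝔱 h𝔱 => ?_⟩
  -- the set in question is the image of a fibre of `Spec B → Spec A`
  set F : Set (PrimeSpectrum B₀) := {𝔷 : PrimeSpectrum B₀ | 𝔮 ≤ 𝔷.asIdeal ∧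
        PrimeSpectrum.comap (algebraMap A₀ B₀) 𝔷 = 𝔱} with hF
  by_cases hle : (𝔮.comap (algebraMap A₀ B₀)) ≤ 𝔱.asIdeal
  swap
  · have hempty : F = ∅ := by
      ext 𝔷
      simp only [hF, Set.mem_ofPred_eq, Set.mem_empty_iff_false, iff_false, not_and]
      intro h1 h2
      apply hle
      rw [← h2]
      exact Ideal.comap_mono h1
    refine ⟨by rw [hempty]; exact isPreirreducible_empty, ?_⟩
    rintro ⟨𝔷, h1, h2⟩
    have : 𝔷 ∈ F := ⟨h1, h2⟩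
    rw [hempty] at this
    exact this.elim
  -- the point of `Spec A`
  have h𝔱r : 𝔱 ∈ Set.range (PrimeSpectrum.comap (Ideal.Quotient.mk (𝔮.comap (algebraMap A₀ B₀)))) := by
    rw [_root_.range_comap_of_surjective _ _ Ideal.Quotient.mk_surjective, Ideal.mk_ker]
    exact hle
  obtain ⟨𝔱', h𝔱'⟩ := h𝔱r
  have ha𝔱' : Ideal.Quotient.mk (𝔮.comap (algebraMap A₀ B₀)) a₀ ∉ 𝔱'.asIdeal := by
    intro hmem
    apply h𝔱
    rw [← h𝔱']
    exact hmem
  have hka : algebraMap (A₀ ⧸ (𝔮.comap (algebraMap A₀ B₀))) 𝔱'.asIdeal.ResidueField (Ideal.Quotient.mk (𝔮.comap (algebraMap A₀ B₀)) a₀) ≠ 0 := by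
    rw [Ne, Ideal.algebraMap_residueField_eq_zero]
    exact ha𝔱'
  obtain ⟨hnzd, hinj⟩ := H 𝔱'.asIdeal.ResidueField hka
  let e := PrimeSpectrum.preimageHomeomorphFiber (A₀ ⧸ (𝔮.comap (algebraMap A₀ B₀))) (B₀ ⧸ 𝔮) 𝔱'
  haveI : PreirreducibleSpace (PrimeSpectrum (𝔱'.asIdeal.Fiber (B₀ ⧸ 𝔮))) :=
    preirreducibleSpace_of_noZeroDivisors _
  haveI : PreirreducibleSpace ↥(PrimeSpectrum.comap (algebraMap (A₀ ⧸ (𝔮.comap (algebraMap A₀ B₀))) (B₀ ⧸ 𝔮)) ⁻¹' {𝔱'}) :=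
    Function.Surjective.preirreducibleSpace e.symm.continuous e.symm.surjective
  have hpre : IsPreirreducible (PrimeSpectrum.comap (algebraMap (A₀ ⧸ (𝔮.comap (algebraMap A₀ B₀))) (B₀ ⧸ 𝔮)) ⁻¹' {𝔱'}) :=
    isPreirreducible_iff_preirreducibleSpace.mpr inferInstance
  -- compatibility of the two maps on spectra
  have hsq : ∀ 𝔷' : PrimeSpectrum (B₀ ⧸ 𝔮),
      PrimeSpectrum.comap (algebraMap A₀ B₀) (PrimeSpectrum.comap (Ideal.Quotient.mk 𝔮) 𝔷') =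
        PrimeSpectrum.comap (Ideal.Quotient.mk (𝔮.comap (algebraMap A₀ B₀)))
          (PrimeSpectrum.comap (algebraMap (A₀ ⧸ (𝔮.comap (algebraMap A₀ B₀))) (B₀ ⧸ 𝔮)) 𝔷') := by
    intro 𝔷'
    ext x
    simp only [PrimeSpectrum.comap_asIdeal, Ideal.mem_comap]
    rfl
  have hinjA : Function.Injective (PrimeSpectrum.comap (Ideal.Quotient.mk (𝔮.comap (algebraMap A₀ B₀)))) :=
    PrimeSpectrum.comap_injective_of_surjective _ Ideal.Quotient.mk_surjective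
  have hFeq : F = PrimeSpectrum.comap (Ideal.Quotient.mk 𝔮) ''
      (PrimeSpectrum.comap (algebraMap (A₀ ⧸ (𝔮.comap (algebraMap A₀ B₀))) (B₀ ⧸ 𝔮)) ⁻¹' {𝔱'}) := by
    ext 𝔷
    constructor
    · rintro ⟨h1, h2⟩
      have h𝔷r : 𝔷 ∈ Set.range (PrimeSpectrum.comap (Ideal.Quotient.mk 𝔮)) := by
        rw [_root_.range_comap_of_surjective _ _ Ideal.Quotient.mk_surjective,
          Ideal.mk_ker]
        exact h1
      obtain ⟨𝔷', rfl⟩ := h𝔷r
      refine ⟨𝔷', ?_, rfl⟩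
      apply hinjA
      rw [← hsq, h2, h𝔱']
    · rintro ⟨𝔷', h𝔷', rfl⟩
      refine ⟨?_, ?_⟩
      · intro x hx
        change Ideal.Quotient.mk 𝔮 x ∈ 𝔷'.asIdeal
        rw [Ideal.Quotient.eq_zero_iff_mem.mpr hx]
        exact 𝔷'.asIdeal.zero_mem
      · rw [hsq, ← h𝔱']
        congr 1
  refine ⟨?_, ?_⟩
  · rw [hFeq]
    exact hpre.image _ (PrimeSpectrum.continuous_comap _).continuousOn
  · rintro ⟨𝔷, h1, h2⟩
    have h𝔷F : 𝔷 ∈ F := ⟨h1, h2⟩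
    rw [hFeq] at h𝔷F
    obtain ⟨𝔷', h𝔷', -⟩ := h𝔷F
    -- the fibre ring is a domain
    haveI : Nonempty (PrimeSpectrum (𝔱'.asIdeal.Fiber (B₀ ⧸ 𝔮))) := ⟨e ⟨𝔷', h𝔷'⟩⟩
    haveI : Nontrivial (𝔱'.asIdeal.Fiber (B₀ ⧸ 𝔮)) := by
      by_contra hnt
      rw [not_nontrivial_iff_subsingleton] at hnt
      exact (inferInstance : IsEmpty (PrimeSpectrum (𝔱'.asIdeal.Fiber (B₀ ⧸ 𝔮)))).false
        (Nonempty.some inferInstance)
    haveI : IsDomain (𝔱'.asIdeal.Fiber (B₀ ⧸ 𝔮)) := NoZeroDivisors.to_isDomain _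
    have hne : ((1 : 𝔱'.asIdeal.ResidueField) ⊗ₜ[A₀ ⧸ (𝔮.comap (algebraMap A₀ B₀))] (Ideal.Quotient.mk 𝔮 g₁) :
        𝔱'.asIdeal.Fiber (B₀ ⧸ 𝔮)) ≠ 0 := by
      intro h0
      have h2 : LinearMap.lTensor 𝔱'.asIdeal.ResidueField
          (LinearMap.mulLeft (A₀ ⧸ (𝔮.comap (algebraMap A₀ B₀))) (Ideal.Quotient.mk 𝔮 g₁))
          ((1 : 𝔱'.asIdeal.ResidueField) ⊗ₜ[A₀ ⧸ (𝔮.comap (algebraMap A₀ B₀))] (1 : B₀ ⧸ 𝔮)) = 0 := by
        rw [LinearMap.lTensor_tmul, LinearMap.mulLeft_apply, mul_one]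
        exact h0
      have h3 := hinj (h2.trans (map_zero _).symm)
      exact one_ne_zero (α := 𝔱'.asIdeal.Fiber (B₀ ⧸ 𝔮)) h3
    let w' : PrimeSpectrum (𝔱'.asIdeal.Fiber (B₀ ⧸ 𝔮)) := ⟨⊥, Ideal.isPrime_bot⟩
    let w := e.symm w'
    refine ⟨PrimeSpectrum.comap (Ideal.Quotient.mk 𝔮) w.1, ?_, ?_, ?_⟩
    · intro x hx
      change Ideal.Quotient.mk 𝔮 x ∈ w.1.asIdeal
      rw [Ideal.Quotient.eq_zero_iff_mem.mpr hx]
      exact w.1.asIdeal.zero_mem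
    · rw [hsq, ← h𝔱']
      congr 1
      exact w.2
    · intro hmem
      apply hne
      have h4 : Ideal.Quotient.mk 𝔮 g₁ ∈ w.1.asIdeal := hmem
      have h5 : w.1.asIdeal = w'.asIdeal.comap
          (Algebra.TensorProduct.includeRight (R := A₀ ⧸ (𝔮.comap (algebraMap A₀ B₀))) (A := 𝔱'.asIdeal.ResidueField)
            (B := B₀ ⧸ 𝔮)).toRingHom := rfl
      rw [h5, Ideal.mem_comap] at h4
      exact h4

end Groth.Agent.Lib.Helper21.GI
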