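import Mathlib
import Groth.Agent.Lib.Helper21.GI13

/-!
# Generic geometric irreducibility: from a pushout square of rings
-/

set_option autoImplicit false
set_option linter.style.haveILetI false
universe u

open TensorProduct

namespace Groth.Agent.Lib.Helper21.GI

theorem isDomain_tensor_of_isPushout {A₀ B₀ Ω R : Type u} [CommRing A₀] [CommRing B₀] [Field Ω]
    [CommRing R] [Algebra A₀ B₀] [Algebra A₀ Ω] [Algebra B₀ R] [Algebra Ω R] [Algebra A₀ R]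
    [IsScalarTower A₀ B₀ R] [IsScalarTower A₀ Ω R] [Algebra.IsPushout A₀ Ω B₀ R]
    (𝔮 : Ideal B₀) [𝔮.IsPrime] [Algebra (A₀ ⧸ 𝔮.comap (algebraMap A₀ B₀)) Ω]
    [IsScalarTower A₀ (A₀ ⧸ 𝔮.comap (algebraMap A₀ B₀)) Ω]
    (hJ : (𝔮.map (algebraMap B₀ R)).IsPrime) :
    IsDomain (Ω ⊗[A₀ ⧸ 𝔮.comap (algebraMap A₀ B₀)] (B₀ ⧸ 𝔮)) := by
  haveI : IsDomain (R ⧸ 𝔮.map (algebraMap B₀ R)) := Ideal.Quotient.isDomain _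
  let e₁ : (R ⧸ 𝔮.map (algebraMap B₀ R)) ≃ₐ[R] R ⊗[B₀] (B₀ ⧸ 𝔮) :=
    Algebra.TensorProduct.quotIdealMapEquivTensorQuot R 𝔮
  let e₂ : R ⊗[B₀] (B₀ ⧸ 𝔮) ≃ₐ[Ω] Ω ⊗[A₀] (B₀ ⧸ 𝔮) :=
    Algebra.IsPushout.cancelBaseChangeAlg A₀ Ω B₀ R (B₀ ⧸ 𝔮)
  haveI : TensorProduct.CompatibleSMul A₀ (A₀ ⧸ 𝔮.comap (algebraMap A₀ B₀)) Ω (B₀ ⧸ 𝔮) := by
    constructor
    intro r m n
    obtain ⟨r₀, rfl⟩ := Ideal.Quotient.mk_surjective r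
    have h1 : (Ideal.Quotient.mk (𝔮.comap (algebraMap A₀ B₀)) r₀) • m = r₀ • m := by
      rw [← algebraMap_smul (A₀ ⧸ 𝔮.comap (algebraMap A₀ B₀)) r₀ m]
      rfl
    have h2 : (Ideal.Quotient.mk (𝔮.comap (algebraMap A₀ B₀)) r₀) • n = r₀ • n := by
      rw [← algebraMap_smul (A₀ ⧸ 𝔮.comap (algebraMap A₀ B₀)) r₀ n]
      rfl
    rw [h1, h2, TensorProduct.smul_tmul]
  let e₃ : Ω ⊗[A₀ ⧸ 𝔮.comap (algebraMap A₀ B₀)] (B₀ ⧸ 𝔮) ≃ₐ[Ω] Ω ⊗[A₀] (B₀ ⧸ 𝔮) :=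
    Algebra.TensorProduct.equivOfCompatibleSMul A₀ (A₀ ⧸ 𝔮.comap (algebraMap A₀ B₀)) Ω Ω (B₀ ⧸ 𝔮)
  let ψ : Ω ⊗[A₀ ⧸ 𝔮.comap (algebraMap A₀ B₀)] (B₀ ⧸ 𝔮) →+* (R ⧸ 𝔮.map (algebraMap B₀ R)) :=
    (e₁.symm.toAlgHom.toRingHom.comp e₂.symm.toAlgHom.toRingHom).comp e₃.toAlgHom.toRingHom
  have hψ : Function.Injective ψ :=
    (e₁.symm.injective.comp e₂.symm.injective).comp e₃.injective
  exact hψ.isDomain ψ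

/-- **master statement at ring level** -/
theorem exists_isPreirreducible_fibre_of_isPushout {A₀ B₀ Ω R : Type u} [CommRing A₀]
    [CommRing B₀] [Field Ω] [IsAlgClosed Ω] [CommRing R]
    (φ₀ : A₀ →+* B₀) (hφ₀ : φ₀.FiniteType) (ψ : A₀ →+* Ω) (β : B₀ →+* R) (ω : Ω →+* R)
    (hpush : CategoryTheory.IsPushout (CommRingCat.ofHom φ₀) (CommRingCat.ofHom ψ)
      (CommRingCat.ofHom β) (CommRingCat.ofHom ω))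
    (𝔮 : Ideal B₀) [𝔮.IsPrime] (hker : RingHom.ker ψ = 𝔮.comap φ₀)
    (hirr : IsIrreducible (PrimeSpectrum.zeroLocus (𝔮.map β : Set R)))
    (hgen : ∀ r r' : PrimeSpectrum R, 𝔮.map β ≤ r.asIdeal → r'.asIdeal ≤ r.asIdeal →
      𝔮.map β ≤ r'.asIdeal)
    (hred : ∀ r : PrimeSpectrum R, 𝔮.map β ≤ r.asIdeal →
      IsReduced (Localization.AtPrime r.asIdeal))
    (g₁ : B₀) (hg₁ : g₁ ∉ 𝔮) :
    ∃ a₀ : A₀, a₀ ∉ 𝔮.comap φ₀ ∧ ∀ 𝔱 : PrimeSpectrum A₀, a₀ ∉ 𝔱.asIdeal →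
      IsPreirreducible {𝔷 : PrimeSpectrum B₀ | 𝔮 ≤ 𝔷.asIdeal ∧ PrimeSpectrum.comap φ₀ 𝔷 = 𝔱} ∧
      ((∃ 𝔷 : PrimeSpectrum B₀, 𝔮 ≤ 𝔷.asIdeal ∧ PrimeSpectrum.comap φ₀ 𝔷 = 𝔱) →
        ∃ 𝔷 : PrimeSpectrum B₀, 𝔮 ≤ 𝔷.asIdeal ∧ PrimeSpectrum.comap φ₀ 𝔷 = 𝔱 ∧
          g₁ ∉ 𝔷.asIdeal) := by
  letI := φ₀.toAlgebra
  letI := ψ.toAlgebra
  letI := β.toAlgebra
  letI := ω.toAlgebra
  letI : Algebra A₀ R := (β.comp φ₀).toAlgebra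
  haveI : IsScalarTower A₀ B₀ R := .of_algebraMap_eq' rfl
  have hw : β.comp φ₀ = ω.comp ψ := by
    have := hpush.w
    exact congrArg CommRingCat.Hom.hom this
  haveI : IsScalarTower A₀ Ω R := .of_algebraMap_eq' hw
  haveI : Algebra.FiniteType A₀ B₀ := hφ₀
  have hP : Algebra.IsPushout A₀ B₀ Ω R := CommRingCat.isPushout_iff_isPushout.mp hpush
  haveI : Algebra.IsPushout A₀ Ω B₀ R := hP.symm
  letI : Algebra (A₀ ⧸ 𝔮.comap (algebraMap A₀ B₀)) Ω :=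
    (Ideal.Quotient.lift _ ψ (fun a ha => by rw [← RingHom.mem_ker, hker]; exact ha)).toAlgebra
  haveI : IsScalarTower A₀ (A₀ ⧸ 𝔮.comap (algebraMap A₀ B₀)) Ω := .of_algebraMap_eq' rfl
  haveI : FaithfulSMul (A₀ ⧸ 𝔮.comap (algebraMap A₀ B₀)) Ω := by
    rw [faithfulSMul_iff_algebraMap_injective]
    refine RingHom.lift_injective_of_ker_le_ideal _ _ ?_
    rw [hker]
    exact le_rfl
  have hJ := isPrime_of_isIrreducible_zeroLocus _ hirr hgen hred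
  have hdom := isDomain_tensor_of_isPushout (A₀ := A₀) (B₀ := B₀) (Ω := Ω) (R := R) 𝔮 hJ
  exact exists_isPreirreducible_fibre A₀ B₀ Ω 𝔮 hdom g₁ hg₁

end Groth.Agent.Lib.Helper21.GI
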