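import Mathlib
import Groth.Agent.Lib.Helper21.GI13
import Groth.Agent.S0389

/-!
# Generic geometric irreducibility over a domain with algebraically closed fraction field:
ring level (nonvanishing, spreading of nil ideals)
-/

set_option autoImplicit false
set_option linter.style.haveILetI false
universe u

open TensorProduct

namespace Groth.Agent.Lib.Helper21.GIR

/-- a field in which `f` is invertible is an algebra over `Localization.Away f` -/
noncomputable def awayToField {A : Type u} [CommRing A] (f : A) (L : Type u) [Field L]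
    [Algebra A L] (hf : algebraMap A L f ≠ 0) : Localization.Away f →ₐ[A] L :=
  IsLocalization.liftAlgHom (M := Submonoid.powers f) (f := Algebra.ofId A L) (by
    rintro ⟨_, n, rfl⟩
    simp only [Algebra.ofId_apply, map_pow]
    exact (IsUnit.mk0 _ hf).pow n)

/-- **generic nonvanishing**: for a finite type algebra `B` over a domain `A` with `A → B`
injective, `L ⊗[A] B` is nontrivial for every field `L` over `A` in which a certain nonzero
element of `A` is invertible -/
theorem exists_nontrivial_tensor (A B : Type u) [CommRing A] [IsDomain A] [CommRing B]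
    [Algebra A B] [FaithfulSMul A B] [Algebra.FiniteType A B] :
    ∃ a : A, a ≠ 0 ∧ ∀ (L : Type u) [Field L] [Algebra A L], algebraMap A L a ≠ 0 →
      Nontrivial (L ⊗[A] B) := by
  obtain ⟨f, hf, -, hfree, -, -⟩ := Groth.Agent.S0389.result (R := A) (S := B) (M := B)
  refine ⟨f, hf, fun L _ _ hL => ?_⟩
  let σ := awayToField f L hL
  letI : Algebra (Localization.Away f) L := σ.toRingHom.toAlgebra
  haveI : IsScalarTower A (Localization.Away f) L := .of_algebraMap_eq' σ.comp_algebraMap.symm
  -- `Localization.Away f ⊗[A] B` is nontrivial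
  haveI hnt : Nontrivial (Localization.Away f ⊗[A] B) := by
    haveI : IsLocalization (Algebra.algebraMapSubmonoid B (Submonoid.powers f))
        (B ⊗[A] Localization.Away f) := IsLocalization.tensor (Localization.Away f) _
    have h0 : (0 : B) ∉ Algebra.algebraMapSubmonoid B (Submonoid.powers f) := by
      rintro ⟨_, ⟨n, rfl⟩, h⟩
      have : algebraMap A B (f ^ n) = algebraMap A B 0 := by rw [h, map_zero]
      exact pow_ne_zero n hf (FaithfulSMul.algebraMap_injective A B this)
    haveI : Nontrivial (B ⊗[A] Localization.Away f) := by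
      rw [← not_subsingleton_iff_nontrivial,
        IsLocalization.subsingleton_iff (M := Algebra.algebraMapSubmonoid B (Submonoid.powers f))]
      exact h0
    exact (Algebra.TensorProduct.comm A (Localization.Away f) B).toEquiv.nontrivial
  haveI : Module.Free (Localization.Away f) (Localization.Away f ⊗[A] B) := hfree
  haveI : Module.FaithfullyFlat (Localization.Away f) (Localization.Away f ⊗[A] B) :=
    inferInstance
  haveI : Nontrivial (L ⊗[Localization.Away f] (Localization.Away f ⊗[A] B)) :=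
    inferInstance
  exact (TensorProduct.AlgebraTensorModule.cancelBaseChange A (Localization.Away f)
    (Localization.Away f) L B).symm.toEquiv.nontrivial

/-- the kernel of `A_f ⊗ C → A_f ⊗ C/𝔮` is finitely generated for suitable `f ≠ 0` -/
theorem exists_fg_map_includeRight (A C : Type u) [CommRing A] [IsDomain A] [CommRing C]
    [Algebra A C] [Algebra.FiniteType A C] (𝔮 : Ideal C) :
    ∃ f : A, f ≠ 0 ∧ (𝔮.map (Algebra.TensorProduct.includeRight :
      C →ₐ[A] Localization.Away f ⊗[A] C)).FG := by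
  obtain ⟨f, hf, -, -, hfp, -⟩ := Groth.Agent.S0389.result (R := A) (S := C ⧸ 𝔮) (M := C ⧸ 𝔮)
  refine ⟨f, hf, ?_⟩
  haveI := hfp
  let π : Localization.Away f ⊗[A] C →ₐ[Localization.Away f] Localization.Away f ⊗[A] (C ⧸ 𝔮) :=
    Algebra.TensorProduct.map (AlgHom.id (Localization.Away f) (Localization.Away f))
      (Ideal.Quotient.mkₐ A 𝔮)
  have hπ : Function.Surjective π :=
    Algebra.TensorProduct.map_surjective _ _ (fun x => ⟨x, rfl⟩) (Ideal.Quotient.mkₐ_surjective A 𝔮)
  have hker : RingHom.ker π.toRingHom =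
      𝔮.map (Algebra.TensorProduct.includeRight : C →ₐ[A] Localization.Away f ⊗[A] C) := by
    have h1 := Algebra.TensorProduct.lTensor_ker (R := A) (A := Localization.Away f)
      (Ideal.Quotient.mkₐ A 𝔮) (Ideal.Quotient.mkₐ_surjective A 𝔮)
    have h2 : RingHom.ker (Ideal.Quotient.mkₐ A 𝔮) = 𝔮 := Ideal.Quotient.mkₐ_ker A 𝔮
    rw [h2] at h1
    rw [← h1]
    rfl
  rw [← hker]
  obtain ⟨n, g, hg⟩ := Algebra.FiniteType.iff_quotient_mvPolynomial''.mp
    (inferInstance : Algebra.FiniteType (Localization.Away f) (Localization.Away f ⊗[A] C))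
  have h2 := (Algebra.FinitePresentation.ker_fg_of_mvPolynomial (π.comp g) (hπ.comp hg)).map
    g.toRingHom
  convert h2 using 1
  simp_rw [RingHom.ker_eq_comap_bot, AlgHom.toRingHom_eq_coe, AlgHom.comp_toRingHom]
  rw [← Ideal.comap_comap, Ideal.map_comap_of_surjective (g : MvPolynomial (Fin n)
    (Localization.Away f) →+* Localization.Away f ⊗[A] C) hg]

/-- an element killed generically is nilpotent in `L ⊗ C` -/
theorem isNilpotent_one_tmul {A C L : Type u} [CommRing A] [CommRing C] [Algebra A C] [Field L]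
    [Algebra A L] (q : C) (s : A) (hs : algebraMap A L s ≠ 0) (h : ∃ n : ℕ, s • q ^ n = 0) :
    IsNilpotent ((1 : L) ⊗ₜ[A] q) := by
  obtain ⟨n, hn⟩ := h
  refine ⟨n, ?_⟩
  rw [Algebra.TensorProduct.tmul_pow, one_pow]
  have h1 : (1 : L) ⊗ₜ[A] (q ^ n) = ((algebraMap A L s)⁻¹) ⊗ₜ[A] (s • q ^ n) := by
    rw [TensorProduct.tmul_smul, TensorProduct.smul_tmul', Algebra.smul_def,
      mul_inv_cancel₀ hs]
  rw [h1, hn, tmul_zero]

/-- **spreading of nil ideals** -/
theorem exists_forall_isNilpotent_tmul (A C : Type u) [CommRing A] [IsDomain A] [CommRing C]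
    [Algebra A C] [Algebra.FiniteType A C] (𝔮 : Ideal C)
    (h𝔮 : ∀ q ∈ 𝔮, ∃ s : A, s ≠ 0 ∧ ∃ n : ℕ, s • q ^ n = 0) :
    ∃ a : A, a ≠ 0 ∧ ∀ (L : Type u) [Field L] [Algebra A L], algebraMap A L a ≠ 0 →
      ∀ q ∈ 𝔮, IsNilpotent ((1 : L) ⊗ₜ[A] q) := by
  classical
  obtain ⟨f, hf, hfg⟩ := exists_fg_map_includeRight A C 𝔮
  rw [Ideal.map, Ideal.span] at hfg
  change (Submodule.span _ _).FG at hfg
  rw [Submodule.fg_span_iff_fg_span_finset_subset] at hfg
  obtain ⟨T, hT, hspan⟩ := hfg
  have hT' : ∀ t : Localization.Away f ⊗[A] C, t ∈ T → ∃ q : C, q ∈ 𝔮 ∧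
      (Algebra.TensorProduct.includeRight : C →ₐ[A] Localization.Away f ⊗[A] C) q = t :=
    fun t ht => hT (Finset.mem_coe.mpr ht)
  choose! qq hqq using hT'
  choose! ss hss using h𝔮
  refine ⟨f * ∏ t ∈ T, ss (qq t), mul_ne_zero hf (Finset.prod_ne_zero_iff.mpr fun t ht =>
    (hss _ (hqq t ht).1).1), fun L _ _ hL q hq => ?_⟩
  have hfL : algebraMap A L f ≠ 0 := by
    intro h; apply hL; rw [map_mul, h, zero_mul]
  have hsL : ∀ t ∈ T, algebraMap A L (ss (qq t)) ≠ 0 := by
    intro t ht h; apply hL; rw [map_mul, map_prod, Finset.prod_eq_zero ht h, mul_zero]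
  let σ := awayToField f L hfL
  let ρ : Localization.Away f ⊗[A] C →ₐ[A] L ⊗[A] C :=
    Algebra.TensorProduct.map σ (AlgHom.id A C)
  have hρ : ∀ c : C, ρ (Algebra.TensorProduct.includeRight c) = (1 : L) ⊗ₜ[A] c := by
    intro c
    simp [ρ]
  have hmem : (Algebra.TensorProduct.includeRight q : Localization.Away f ⊗[A] C) ∈
      Submodule.span (Localization.Away f ⊗[A] C) (T : Set (Localization.Away f ⊗[A] C)) := by
    rw [← hspan]; exact Submodule.subset_span ⟨q, hq, rfl⟩
  have hle : Submodule.span (Localization.Away f ⊗[A] C)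
      (T : Set (Localization.Away f ⊗[A] C)) ≤ (nilradical (L ⊗[A] C)).comap ρ.toRingHom := by
    rw [Submodule.span_le]
    intro t ht
    change ρ t ∈ nilradical _
    rw [mem_nilradical]
    obtain ⟨hq1, hq2⟩ := hqq t ht
    rw [← hq2, hρ]
    exact isNilpotent_one_tmul _ _ (hsL t ht) (hss _ hq1).2
  have h3 := hle hmem
  change ρ _ ∈ nilradical _ at h3
  rw [mem_nilradical, hρ] at h3
  exact h3

end Groth.Agent.Lib.Helper21.GIR
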