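import Mathlib
import Groth.Agent.Lib.Helper21.GIR1

/-!
# Generic geometric irreducibility over a domain with algebraically closed fraction field
-/

set_option autoImplicit false
set_option linter.style.haveILetI false
set_option linter.unusedSectionVars false
universe u

open TensorProduct

namespace Groth.Agent.Lib.Helper21.GIR

section

variable (A' Ω C' : Type u) [CommRing A'] [IsDomain A'] [Field Ω] [Algebra A' Ω]
  [IsFractionRing A' Ω] [CommRing C'] [Algebra A' C']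

attribute [local instance] Algebra.TensorProduct.rightAlgebra in
/-- vanishing in `Ω ⊗ C'` is generic vanishing -/
theorem one_tmul_eq_zero_iff (q : C') :
    (1 : Ω) ⊗ₜ[A'] q = 0 ↔ ∃ s : A', s ≠ 0 ∧ s • q = 0 := by
  haveI : IsLocalization (Algebra.algebraMapSubmonoid C' (nonZeroDivisors A')) (Ω ⊗[A'] C') :=
    IsLocalization.tensorRight Ω (nonZeroDivisors A')
  have h1 : (1 : Ω) ⊗ₜ[A'] q = algebraMap C' (Ω ⊗[A'] C') q := rfl
  rw [h1, IsLocalization.map_eq_zero_iff (Algebra.algebraMapSubmonoid C' (nonZeroDivisors A'))]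
  constructor
  · rintro ⟨⟨_, s, hs, rfl⟩, hm⟩
    exact ⟨s, nonZeroDivisors.ne_zero hs, by rw [Algebra.smul_def]; exact hm⟩
  · rintro ⟨s, hs, h⟩
    exact ⟨⟨algebraMap A' C' s, s, mem_nonZeroDivisors_of_ne_zero hs, rfl⟩,
      by rw [← Algebra.smul_def]; exact h⟩

theorem isNilpotent_one_tmul_iff (q : C') :
    IsNilpotent ((1 : Ω) ⊗ₜ[A'] q) ↔ ∃ s : A', s ≠ 0 ∧ ∃ n : ℕ, s • q ^ n = 0 := by
  constructor
  · rintro ⟨n, hn⟩
    rw [Algebra.TensorProduct.tmul_pow, one_pow, one_tmul_eq_zero_iff] at hn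
    obtain ⟨s, hs, h⟩ := hn
    exact ⟨s, hs, n, h⟩
  · rintro ⟨s, hs, h⟩
    refine isNilpotent_one_tmul q s ?_ h
    intro h0
    exact hs ((IsFractionRing.injective A' Ω) (by rw [h0, map_zero]))

end

section

variable (A' Ω B' : Type u) [CommRing A'] [IsDomain A'] [Field Ω] [Algebra A' Ω]
  [IsFractionRing A' Ω] [CommRing B'] [IsDomain B'] [Algebra A' B'] [FaithfulSMul A' B']

attribute [local instance] Algebra.TensorProduct.rightAlgebra in
/-- for a domain `B'` containing `A'`, the ring `Frac A' ⊗ B'` is a domain -/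
theorem isDomain_tensor_of_isFractionRing : IsDomain (Ω ⊗[A'] B') := by
  haveI : IsLocalization (Algebra.algebraMapSubmonoid B' (nonZeroDivisors A')) (Ω ⊗[A'] B') :=
    IsLocalization.tensorRight Ω (nonZeroDivisors A')
  refine IsLocalization.isDomain_of_le_nonZeroDivisors (Ω ⊗[A'] B')
    (M := Algebra.algebraMapSubmonoid B' (nonZeroDivisors A')) ?_
  exact map_le_nonZeroDivisors_of_injective _ (FaithfulSMul.algebraMap_injective A' B') le_rfl

end

theorem lTensor_mulLeft_apply {A B L : Type u} [CommRing A] [CommRing B] [Algebra A B]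
    [CommRing L] [Algebra A L] (b : B) (x : L ⊗[A] B) :
    LinearMap.lTensor L (LinearMap.mulLeft A b) x = ((1 : L) ⊗ₜ[A] b) * x := by
  induction x using TensorProduct.induction_on with
  | zero => simp
  | tmul l c => simp
  | add x y hx hy => rw [map_add, hx, hy, mul_add]

section main

variable (A' Ω C' : Type u) [CommRing A'] [IsDomain A'] [Field Ω] [IsAlgClosed Ω] [Algebra A' Ω]
  [IsFractionRing A' Ω] [CommRing C'] [Algebra A' C'] [Algebra.FiniteType A' C']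

/-- the prime case -/
theorem exists_preirreducible_tensor_of_isPrime (𝔮' : Ideal C') [𝔮'.IsPrime]
    (h𝔮' : ∀ q : C', q ∈ 𝔮' ↔ IsNilpotent ((1 : Ω) ⊗ₜ[A'] q)) (G : Finset C') :
    ∃ a' : A', a' ≠ 0 ∧ ∀ (L : Type u) [Field L] [Algebra A' L], algebraMap A' L a' ≠ 0 →
      PreirreducibleSpace (PrimeSpectrum (L ⊗[A'] C')) ∧
      ∀ g ∈ G, (IsNilpotent ((1 : L) ⊗ₜ[A'] g) ↔ IsNilpotent ((1 : Ω) ⊗ₜ[A'] g)) := by
  classical
  haveI : Nontrivial (Ω ⊗[A'] C') := by
    by_contra hcon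
    rw [not_nontrivial_iff_subsingleton] at hcon
    have h1 : (1 : C') ∈ 𝔮' := (h𝔮' 1).mpr ⟨1, Subsingleton.elim _ _⟩
    exact (Ideal.IsPrime.ne_top inferInstance) ((Ideal.eq_top_iff_one 𝔮').mpr h1)
  haveI : FaithfulSMul A' (C' ⧸ 𝔮') := by
    rw [faithfulSMul_iff_algebraMap_injective, injective_iff_map_eq_zero]
    intro a ha
    have h1 : algebraMap A' C' a ∈ 𝔮' := by
      rw [← Ideal.Quotient.eq_zero_iff_mem]
      exact ha
    rw [h𝔮'] at h1
    have h2 : (1 : Ω) ⊗ₜ[A'] (algebraMap A' C' a) =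
        algebraMap Ω (Ω ⊗[A'] C') (algebraMap A' Ω a) := by
      rw [Algebra.TensorProduct.algebraMap_apply, Algebra.algebraMap_self, RingHom.id_apply,
        Algebra.algebraMap_eq_smul_one, Algebra.algebraMap_eq_smul_one (A := Ω),
        TensorProduct.tmul_smul, TensorProduct.smul_tmul']
    rw [h2] at h1
    have h3 : IsNilpotent (algebraMap A' Ω a) :=
      (IsNilpotent.map_iff (algebraMap Ω (Ω ⊗[A'] C')).injective).mp h1
    exact (IsFractionRing.injective A' Ω) (by rw [h3.eq_zero, map_zero])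
  have hdom : IsDomain (Ω ⊗[A'] (C' ⧸ 𝔮')) := isDomain_tensor_of_isFractionRing A' Ω (C' ⧸ 𝔮')
  -- the three generic statements
  have hGI : ∀ g : C', ∃ a : A', a ≠ 0 ∧ ∀ (L : Type u) [Field L] [Algebra A' L],
      algebraMap A' L a ≠ 0 → NoZeroDivisors (L ⊗[A'] (C' ⧸ 𝔮')) ∧
        (g ∉ 𝔮' → Function.Injective
          (LinearMap.lTensor L (LinearMap.mulLeft A' (Ideal.Quotient.mk 𝔮' g)))) := by
    intro g
    by_cases hg : g ∈ 𝔮'
    · obtain ⟨a, ha, H⟩ := Groth.Agent.Lib.Helper21.GI.exists_noZeroDivisors_tensor_of_isDomain'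
        A' (C' ⧸ 𝔮') Ω hdom 1 one_ne_zero
      exact ⟨a, ha, fun L _ _ hL => ⟨(H L hL).1, fun h => absurd hg h⟩⟩
    · obtain ⟨a, ha, H⟩ := Groth.Agent.Lib.Helper21.GI.exists_noZeroDivisors_tensor_of_isDomain'
        A' (C' ⧸ 𝔮') Ω hdom (Ideal.Quotient.mk 𝔮' g)
        (by rwa [Ne, Ideal.Quotient.eq_zero_iff_mem])
      exact ⟨a, ha, fun L _ _ hL => ⟨(H L hL).1, fun _ => (H L hL).2⟩⟩
  choose aa haa0 haa using hGI
  obtain ⟨a₂, ha₂, H₂⟩ := exists_forall_isNilpotent_tmul A' C' 𝔮' (fun q hq =>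
    (isNilpotent_one_tmul_iff A' Ω C' q).mp ((h𝔮' q).mp hq))
  obtain ⟨a₃, ha₃, H₃⟩ := exists_nontrivial_tensor A' (C' ⧸ 𝔮')
  refine ⟨aa 1 * (∏ g ∈ G, aa g) * a₂ * a₃, mul_ne_zero (mul_ne_zero (mul_ne_zero (haa0 1)
    (Finset.prod_ne_zero_iff.mpr fun g _ => haa0 g)) ha₂) ha₃, fun L _ _ hL => ?_⟩
  have hL1 : algebraMap A' L (aa 1) ≠ 0 := by
    intro h; apply hL; simp [map_mul, h]
  have hLG : ∀ g ∈ G, algebraMap A' L (aa g) ≠ 0 := by
    intro g hg h; apply hL
    rw [map_mul, map_mul, map_mul, map_prod, Finset.prod_eq_zero hg h]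
    simp
  have hL2 : algebraMap A' L a₂ ≠ 0 := by
    intro h; apply hL; simp [map_mul, h]
  have hL3 : algebraMap A' L a₃ ≠ 0 := by
    intro h; apply hL; simp [map_mul, h]
  haveI hNZD : NoZeroDivisors (L ⊗[A'] (C' ⧸ 𝔮')) := (haa 1 L hL1).1
  haveI hNT : Nontrivial (L ⊗[A'] (C' ⧸ 𝔮')) := H₃ L hL3
  have hnil := H₂ L hL2
  let π : L ⊗[A'] C' →ₐ[A'] L ⊗[A'] (C' ⧸ 𝔮') :=
    Algebra.TensorProduct.map (AlgHom.id A' L) (Ideal.Quotient.mkₐ A' 𝔮')
  have hπ : Function.Surjective π :=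
    Algebra.TensorProduct.map_surjective _ _ (fun x => ⟨x, rfl⟩)
      (Ideal.Quotient.mkₐ_surjective A' 𝔮')
  have hπone : ∀ c : C', π ((1 : L) ⊗ₜ[A'] c) = (1 : L) ⊗ₜ[A'] (Ideal.Quotient.mk 𝔮' c) := by
    intro c
    simp [π]
  have hker : RingHom.ker π.toRingHom ≤ nilradical (L ⊗[A'] C') := by
    have h1 := Algebra.TensorProduct.lTensor_ker (R := A') (A := L)
      (Ideal.Quotient.mkₐ A' 𝔮') (Ideal.Quotient.mkₐ_surjective A' 𝔮')
    have h2 : RingHom.ker (Ideal.Quotient.mkₐ A' 𝔮') = 𝔮' := Ideal.Quotient.mkₐ_ker A' 𝔮'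
    rw [h2] at h1
    have h3 : RingHom.ker π.toRingHom = 𝔮'.map (Algebra.TensorProduct.includeRight :
        C' →ₐ[A'] L ⊗[A'] C') := h1
    rw [h3, Ideal.map_le_iff_le_comap]
    intro q hq
    rw [Ideal.mem_comap, mem_nilradical]
    exact hnil q hq
  refine ⟨?_, fun g hg => ⟨fun h => ?_, fun h => hnil g ((h𝔮' g).mpr h)⟩⟩
  · -- preirreducibility
    haveI : PreirreducibleSpace (PrimeSpectrum (L ⊗[A'] (C' ⧸ 𝔮'))) :=
      Groth.Agent.Lib.Helper21.GI.preirreducibleSpace_of_noZeroDivisors _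
    refine Function.Surjective.preirreducibleSpace (f := PrimeSpectrum.comap π.toRingHom)
      (PrimeSpectrum.continuous_comap _) ?_
    intro 𝔯
    have : 𝔯 ∈ Set.range (PrimeSpectrum.comap π.toRingHom) := by
      rw [_root_.range_comap_of_surjective _ π.toRingHom hπ, PrimeSpectrum.mem_zeroLocus]
      intro x hx
      exact nilradical_le_prime 𝔯.asIdeal (hker hx)
    exact this
  · -- non-nilpotent elements stay non-nilpotent
    by_contra hcon
    have hg𝔮 : g ∉ 𝔮' := fun h' => hcon ((h𝔮' g).mp h')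
    have hinj := (haa g L (hLG g hg)).2 hg𝔮
    have hreg : IsLeftRegular ((1 : L) ⊗ₜ[A'] (Ideal.Quotient.mk 𝔮' g) :
        L ⊗[A'] (C' ⧸ 𝔮')) := by
      intro x y hxy
      apply hinj
      rw [lTensor_mulLeft_apply, lTensor_mulLeft_apply]
      exact hxy
    obtain ⟨n, hn⟩ := h
    have h1 : ((1 : L) ⊗ₜ[A'] (Ideal.Quotient.mk 𝔮' g) : L ⊗[A'] (C' ⧸ 𝔮')) ^ n = 0 := by
      rw [← hπone, ← map_pow, hn, map_zero]
    exact (hreg.pow n).ne_zero h1

/-- **generic irreducibility of the fibres** over a domain with algebraically closed fraction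
field -/
theorem exists_preirreducible_tensor
    (hpre : PreirreducibleSpace (PrimeSpectrum (Ω ⊗[A'] C'))) (G : Finset C') :
    ∃ a' : A', a' ≠ 0 ∧ ∀ (L : Type u) [Field L] [Algebra A' L], algebraMap A' L a' ≠ 0 →
      PreirreducibleSpace (PrimeSpectrum (L ⊗[A'] C')) ∧
      ∀ g ∈ G, (IsNilpotent ((1 : L) ⊗ₜ[A'] g) ↔ IsNilpotent ((1 : Ω) ⊗ₜ[A'] g)) := by
  rcases subsingleton_or_nontrivial (Ω ⊗[A'] C') with hsub | hnt
  · have h10 : (1 : Ω) ⊗ₜ[A'] (1 : C') = 0 := Subsingleton.elim _ _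
    obtain ⟨s, hs, h⟩ := (one_tmul_eq_zero_iff A' Ω C' 1).mp h10
    refine ⟨s, hs, fun L _ _ hL => ?_⟩
    have hsub' : Subsingleton (L ⊗[A'] C') := by
      obtain ⟨n, hn⟩ := isNilpotent_one_tmul (A := A') (C := C') (L := L) 1 s hL
        ⟨1, by simpa using h⟩
      rw [← Algebra.TensorProduct.one_def, one_pow] at hn
      exact subsingleton_of_zero_eq_one hn.symm
    exact ⟨inferInstance, fun g _ => ⟨fun _ => ⟨1, Subsingleton.elim _ _⟩,
      fun _ => ⟨1, Subsingleton.elim _ _⟩⟩⟩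
  · haveI : IrreducibleSpace (PrimeSpectrum (Ω ⊗[A'] C')) :=
      { toPreirreducibleSpace := hpre, toNonempty := inferInstance }
    have hprime : (nilradical (Ω ⊗[A'] C')).IsPrime :=
      PrimeSpectrum.irreducibleSpace_iff_isPrime_nilradical.mp inferInstance
    let 𝔮' : Ideal C' := (nilradical (Ω ⊗[A'] C')).comap
      (Algebra.TensorProduct.includeRight : C' →ₐ[A'] Ω ⊗[A'] C')
    haveI : 𝔮'.IsPrime := Ideal.comap_isPrime _ _
    refine exists_preirreducible_tensor_of_isPrime A' Ω C' 𝔮' (fun q => ?_) G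
    change Algebra.TensorProduct.includeRight q ∈ nilradical _ ↔ _
    rw [mem_nilradical, Algebra.TensorProduct.includeRight_apply]

end main

end Groth.Agent.Lib.Helper21.GIR
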