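import Mathlib
import Groth.Agent.Lib.Helper21.GIR2

/-!
# Generic geometric irreducibility: charts given by pushout squares
-/

set_option autoImplicit false
set_option linter.style.haveILetI false
set_option linter.unusedSectionVars false
universe u

open TensorProduct CategoryTheory

namespace Groth.Agent.Lib.Helper21.GIR

/-- a pushout square of commutative rings computes an iterated tensor product -/
theorem exists_ringEquiv_of_isPushout {A₀ A' C L R : Type u} [CommRing A₀] [CommRing A']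
    [CommRing C] [CommRing L] [CommRing R] [Algebra A₀ A'] [Algebra A₀ C] [Algebra A' L]
    [Algebra A₀ L] [IsScalarTower A₀ A' L] (β : C →+* R) (ω : L →+* R)
    (hpush : IsPushout (CommRingCat.ofHom (algebraMap A₀ C))
      (CommRingCat.ofHom (algebraMap A₀ L)) (CommRingCat.ofHom β) (CommRingCat.ofHom ω)) :
    ∃ e : L ⊗[A'] (A' ⊗[A₀] C) ≃+* R,
      ∀ g : C, e ((1 : L) ⊗ₜ[A'] ((1 : A') ⊗ₜ[A₀] g)) = β g := by
  letI := β.toAlgebra
  letI := ω.toAlgebra
  letI : Algebra A₀ R := (β.comp (algebraMap A₀ C)).toAlgebra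
  haveI : IsScalarTower A₀ C R := .of_algebraMap_eq' rfl
  have hw : β.comp (algebraMap A₀ C) = ω.comp (algebraMap A₀ L) :=
    congrArg CommRingCat.Hom.hom hpush.w
  haveI : IsScalarTower A₀ L R := .of_algebraMap_eq' hw
  have hP : Algebra.IsPushout A₀ C L R := CommRingCat.isPushout_iff_isPushout.mp hpush
  haveI : Algebra.IsPushout A₀ L C R := hP.symm
  let e₁ : L ⊗[A'] (A' ⊗[A₀] C) ≃ₐ[A'] L ⊗[A₀] C :=
    Algebra.TensorProduct.cancelBaseChange A₀ A' A' L C
  let e₂ : L ⊗[A₀] C ≃ₐ[L] R := Algebra.IsPushout.equiv A₀ L C R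
  refine ⟨e₁.toRingEquiv.trans e₂.toRingEquiv, fun g => ?_⟩
  rw [RingEquiv.trans_apply]
  have h1 : e₁.toRingEquiv ((1 : L) ⊗ₜ[A'] ((1 : A') ⊗ₜ[A₀] g)) = (1 : L) ⊗ₜ[A₀] g := by
    change e₁ _ = _
    rw [Algebra.TensorProduct.cancelBaseChange_tmul, one_smul]
  rw [h1]
  change e₂ _ = _
  rw [Algebra.IsPushout.equiv_tmul, map_one, one_mul]
  rfl

theorem preirreducibleSpace_of_ringEquiv {S R : Type u} [CommRing S] [CommRing R] (e : S ≃+* R)
    [PreirreducibleSpace (PrimeSpectrum S)] : PreirreducibleSpace (PrimeSpectrum R) :=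
  Function.Surjective.preirreducibleSpace (f := PrimeSpectrum.homeomorphOfRingEquiv e)
    (PrimeSpectrum.homeomorphOfRingEquiv e).continuous
    (PrimeSpectrum.homeomorphOfRingEquiv e).surjective

theorem isNilpotent_ringEquiv_iff {S R : Type u} [CommRing S] [CommRing R] (e : S ≃+* R) (x : S) :
    IsNilpotent (e x) ↔ IsNilpotent x :=
  IsNilpotent.map_iff (f := e.toRingHom) e.injective

/-- **generic irreducibility on a chart** -/
theorem exists_generic_chart (A₀ A' Ω : Type u) [CommRing A₀] [CommRing A'] [IsDomain A']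
    [Field Ω] [IsAlgClosed Ω] [Algebra A' Ω] [IsFractionRing A' Ω] [Algebra A₀ A'] [Algebra A₀ Ω]
    [IsScalarTower A₀ A' Ω] {C RΩ : Type u} [CommRing C] [CommRing RΩ] [Algebra A₀ C]
    [Algebra.FiniteType A₀ C] (G : Finset C) (βΩ : C →+* RΩ) (ωΩ : Ω →+* RΩ)
    (hpushΩ : IsPushout (CommRingCat.ofHom (algebraMap A₀ C))
      (CommRingCat.ofHom (algebraMap A₀ Ω)) (CommRingCat.ofHom βΩ) (CommRingCat.ofHom ωΩ))
    (hpre : PreirreducibleSpace (PrimeSpectrum RΩ)) :
    ∃ a' : A', a' ≠ 0 ∧ ∀ (L : Type u) [Field L] [Algebra A' L] [Algebra A₀ L]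
      [IsScalarTower A₀ A' L], algebraMap A' L a' ≠ 0 →
      ∀ (R : Type u) [CommRing R] (β : C →+* R) (ω : L →+* R),
        IsPushout (CommRingCat.ofHom (algebraMap A₀ C)) (CommRingCat.ofHom (algebraMap A₀ L))
          (CommRingCat.ofHom β) (CommRingCat.ofHom ω) →
        PreirreducibleSpace (PrimeSpectrum R) ∧
          ∀ g ∈ G, (IsNilpotent (β g) ↔ IsNilpotent (βΩ g)) := by
  classical
  obtain ⟨eΩ, heΩ⟩ := exists_ringEquiv_of_isPushout (A' := A') βΩ ωΩ hpushΩ
  haveI hpre' : PreirreducibleSpace (PrimeSpectrum (Ω ⊗[A'] (A' ⊗[A₀] C))) :=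
    preirreducibleSpace_of_ringEquiv eΩ.symm
  obtain ⟨a', ha', H⟩ := exists_preirreducible_tensor A' Ω (A' ⊗[A₀] C) hpre'
    (G.image fun g => (1 : A') ⊗ₜ[A₀] g)
  refine ⟨a', ha', fun L _ _ _ _ hL R _ β ω hpush => ?_⟩
  obtain ⟨e, he⟩ := exists_ringEquiv_of_isPushout (A' := A') β ω hpush
  obtain ⟨h1, h2⟩ := H L hL
  refine ⟨preirreducibleSpace_of_ringEquiv e, fun g hg => ?_⟩
  rw [← he, ← heΩ, isNilpotent_ringEquiv_iff, isNilpotent_ringEquiv_iff]
  exact h2 _ (Finset.mem_image_of_mem _ hg)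

end Groth.Agent.Lib.Helper21.GIR
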