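import Mathlib

/-!
# Geometric points over the integral closure in an algebraic closure
-/

set_option autoImplicit false
set_option linter.style.haveILetI false
set_option linter.unusedSectionVars false
universe u

namespace Groth.Agent.Lib.Helper21.GIR

section

variable (A Ω : Type u) [CommRing A] [IsDomain A] [Field Ω] [Algebra A Ω] [FaithfulSMul A Ω]
  [Algebra.IsAlgebraic A Ω]

theorem isFractionRing_integralClosure : IsFractionRing (integralClosure A Ω) Ω :=
  integralClosure.isFractionRing_of_algebraic (fun x hx =>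
    FaithfulSMul.algebraMap_injective A Ω (by rw [hx, map_zero]))

/-- every nonzero element of the integral closure divides a nonzero element of `A`, and primes of
`A` not containing that element lift to geometric points -/
theorem exists_geometric_point (a' : integralClosure A Ω) (ha' : a' ≠ 0) :
    ∃ a : A, a ≠ 0 ∧ ∀ t : Ideal A, t.IsPrime → a ∉ t →
      ∃ (L : Type u) (_ : Field L) (_ : IsAlgClosed L) (_ : Algebra (integralClosure A Ω) L),
        algebraMap (integralClosure A Ω) L a' ≠ 0 ∧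
        RingHom.ker ((algebraMap (integralClosure A Ω) L).comp
          (algebraMap A (integralClosure A Ω))) = t := by
  have ha'Ω : (a' : Ω) ≠ 0 := fun h => ha' (Subtype.ext h)
  obtain ⟨y, hy, hint⟩ := (Algebra.IsAlgebraic.isAlgebraic (R := A) ((a' : Ω)⁻¹)).exists_integral_multiple
  let b' : integralClosure A Ω := ⟨y • (a' : Ω)⁻¹, hint⟩
  have hab : a' * b' = algebraMap A (integralClosure A Ω) y := by
    apply Subtype.ext
    change (a' : Ω) * (y • (a' : Ω)⁻¹) = algebraMap A Ω y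
    rw [mul_smul_comm, mul_inv_cancel₀ ha'Ω, Algebra.algebraMap_eq_smul_one]
  have hinj : Function.Injective (algebraMap A (integralClosure A Ω)) := by
    intro x x' hxx'
    apply FaithfulSMul.algebraMap_injective A Ω
    have := congrArg (fun z : integralClosure A Ω => (z : Ω)) hxx'
    exact this
  refine ⟨y, hy, fun t ht hyt => ?_⟩
  haveI := ht
  obtain ⟨Q, -, hQ, hQt⟩ := Ideal.exists_ideal_over_prime_of_isIntegral t
    (⊥ : Ideal (integralClosure A Ω)) (by
      intro x hx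
      rw [Ideal.mem_comap, Ideal.mem_bot] at hx
      rw [hinj (hx.trans (map_zero _).symm)]
      exact t.zero_mem)
  haveI := hQ
  have ha'Q : a' ∉ Q := by
    intro h
    apply hyt
    rw [← hQt, Ideal.mem_comap, ← hab]
    exact Q.mul_mem_right _ h
  let L := AlgebraicClosure (FractionRing (integralClosure A Ω ⧸ Q))
  letI : Algebra (integralClosure A Ω) L :=
    ((algebraMap (integralClosure A Ω ⧸ Q) L).comp (Ideal.Quotient.mk Q)).toAlgebra
  have hinjL : Function.Injective (algebraMap (integralClosure A Ω ⧸ Q) L) := by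
    rw [IsScalarTower.algebraMap_eq (integralClosure A Ω ⧸ Q)
      (FractionRing (integralClosure A Ω ⧸ Q)) L]
    exact (algebraMap (FractionRing (integralClosure A Ω ⧸ Q)) L).injective.comp
      (IsFractionRing.injective _ _)
  have hmap : ∀ x : integralClosure A Ω, algebraMap (integralClosure A Ω) L x = 0 ↔ x ∈ Q := by
    intro x
    change algebraMap (integralClosure A Ω ⧸ Q) L (Ideal.Quotient.mk Q x) = 0 ↔ _
    rw [map_eq_zero_iff _ hinjL, Ideal.Quotient.eq_zero_iff_mem]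
  refine ⟨L, inferInstance, inferInstance, inferInstance, fun h => ha'Q ((hmap a').mp h), ?_⟩
  ext x
  rw [RingHom.mem_ker, RingHom.comp_apply, hmap, ← hQt, Ideal.mem_comap]

end

section

variable {A₀ : Type u} [CommRing A₀] (𝔭 : Ideal A₀) [𝔭.IsPrime] (Ω : Type u) [Field Ω]
  [Algebra (A₀ ⧸ 𝔭) Ω] [FaithfulSMul (A₀ ⧸ 𝔭) Ω] [Algebra.IsAlgebraic (A₀ ⧸ 𝔭) Ω]

/-- version over a prime of an arbitrary ring -/
theorem exists_geometric_point' (a' : integralClosure (A₀ ⧸ 𝔭) Ω) (ha' : a' ≠ 0) :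
    ∃ a₀ : A₀, a₀ ∉ 𝔭 ∧ ∀ t₀ : Ideal A₀, t₀.IsPrime → 𝔭 ≤ t₀ → a₀ ∉ t₀ →
      ∃ (L : Type u) (_ : Field L) (_ : IsAlgClosed L)
        (_ : Algebra (integralClosure (A₀ ⧸ 𝔭) Ω) L),
        algebraMap (integralClosure (A₀ ⧸ 𝔭) Ω) L a' ≠ 0 ∧
        RingHom.ker ((algebraMap (integralClosure (A₀ ⧸ 𝔭) Ω) L).comp
          ((algebraMap (A₀ ⧸ 𝔭) (integralClosure (A₀ ⧸ 𝔭) Ω)).comp (Ideal.Quotient.mk 𝔭))) =
            t₀ := by
  obtain ⟨a, ha, H⟩ := exists_geometric_point (A₀ ⧸ 𝔭) Ω a' ha'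
  obtain ⟨a₀, rfl⟩ := Ideal.Quotient.mk_surjective a
  refine ⟨a₀, fun h => ha (Ideal.Quotient.eq_zero_iff_mem.mpr h), fun t₀ ht₀ hle hat₀ => ?_⟩
  haveI := ht₀
  have hker : RingHom.ker (Ideal.Quotient.mk 𝔭) ≤ t₀ := by rwa [Ideal.mk_ker]
  have hprime : (t₀.map (Ideal.Quotient.mk 𝔭)).IsPrime :=
    Ideal.map_isPrime_of_surjective Ideal.Quotient.mk_surjective hker
  have hcomap : (t₀.map (Ideal.Quotient.mk 𝔭)).comap (Ideal.Quotient.mk 𝔭) = t₀ := by
    rw [Ideal.comap_map_of_surjective _ Ideal.Quotient.mk_surjective, ← RingHom.ker_eq_comap_bot,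
      sup_eq_left]
    exact hker
  obtain ⟨L, iF, iC, iA, h1, h2⟩ := H (t₀.map (Ideal.Quotient.mk 𝔭)) hprime (by
    intro h
    apply hat₀
    rw [← hcomap, Ideal.mem_comap]
    exact h)
  refine ⟨L, iF, iC, iA, h1, ?_⟩
  rw [← RingHom.comp_assoc, ← RingHom.comap_ker, h2, hcomap]

end

section package

variable {A₀ : Type u} [CommRing A₀] (𝔭 : Ideal A₀) [𝔭.IsPrime]

/-- **the ring-level package**: a domain `A'` over `A₀/𝔭` with algebraically closed fraction field
`Ω`, such that the nonvanishing locus of any nonzero element of `A'` contains the geometric points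
above a nonempty open subset of `V(𝔭)` -/
theorem exists_package :
    ∃ (A' : Type u) (_ : CommRing A') (_ : IsDomain A') (Ω : Type u) (_ : Field Ω)
      (_ : IsAlgClosed Ω) (_ : Algebra A' Ω) (_ : IsFractionRing A' Ω) (_ : Algebra A₀ A')
      (_ : Algebra A₀ Ω) (_ : IsScalarTower A₀ A' Ω),
      RingHom.ker (algebraMap A₀ Ω) = 𝔭 ∧ ∀ a' : A', a' ≠ 0 →
        ∃ a₀ : A₀, a₀ ∉ 𝔭 ∧ ∀ t₀ : Ideal A₀, t₀.IsPrime → 𝔭 ≤ t₀ → a₀ ∉ t₀ →
          ∃ (L : Type u) (_ : Field L) (_ : IsAlgClosed L) (_ : Algebra A' L) (_ : Algebra A₀ L)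
            (_ : IsScalarTower A₀ A' L),
            algebraMap A' L a' ≠ 0 ∧ RingHom.ker (algebraMap A₀ L) = t₀ := by
  let Ω := AlgebraicClosure (FractionRing (A₀ ⧸ 𝔭))
  have hinjΩ : Function.Injective (algebraMap (A₀ ⧸ 𝔭) Ω) := by
    rw [IsScalarTower.algebraMap_eq (A₀ ⧸ 𝔭) (FractionRing (A₀ ⧸ 𝔭)) Ω]
    exact (algebraMap (FractionRing (A₀ ⧸ 𝔭)) Ω).injective.comp (IsFractionRing.injective _ _)
  haveI : FaithfulSMul (A₀ ⧸ 𝔭) Ω := (faithfulSMul_iff_algebraMap_injective _ _).mpr hinjΩ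
  haveI : Algebra.IsAlgebraic (A₀ ⧸ 𝔭) Ω := by
    haveI := IsLocalization.isAlgebraic (FractionRing (A₀ ⧸ 𝔭)) (nonZeroDivisors (A₀ ⧸ 𝔭))
    exact Algebra.IsAlgebraic.trans (A₀ ⧸ 𝔭) (FractionRing (A₀ ⧸ 𝔭)) Ω
  let A' := integralClosure (A₀ ⧸ 𝔭) Ω
  haveI hfr : IsFractionRing A' Ω := isFractionRing_integralClosure _ _
  have htoA' : algebraMap A₀ A' = (algebraMap (A₀ ⧸ 𝔭) A').comp (Ideal.Quotient.mk 𝔭) :=
    IsScalarTower.algebraMap_eq A₀ (A₀ ⧸ 𝔭) A'
  refine ⟨A', inferInstance, inferInstance, Ω, inferInstance, inferInstance, inferInstance, hfr,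
    inferInstance, inferInstance, inferInstance, ?_, fun a' ha' => ?_⟩
  · ext x
    rw [RingHom.mem_ker, IsScalarTower.algebraMap_apply A₀ (A₀ ⧸ 𝔭) Ω,
      map_eq_zero_iff _ hinjΩ]
    exact Ideal.Quotient.eq_zero_iff_mem
  · obtain ⟨a₀, ha₀, H⟩ := exists_geometric_point' 𝔭 Ω a' ha'
    refine ⟨a₀, ha₀, fun t₀ ht₀ hle hat₀ => ?_⟩
    obtain ⟨L, iF, iC, iA, h1, h2⟩ := H t₀ ht₀ hle hat₀
    letI iL : Algebra A₀ L := ((algebraMap A' L).comp (algebraMap A₀ A')).toAlgebra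
    haveI itowL : IsScalarTower A₀ A' L := .of_algebraMap_eq' rfl
    refine ⟨L, iF, iC, iA, iL, itowL, h1, ?_⟩
    rw [← h2, ← htoA']
    rfl

end package

end Groth.Agent.Lib.Helper21.GIR
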