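import Mathlib
import Groth.Agent.Lib.Helper21.GIR2

/-!
# Generic structure of the fibres over a domain with algebraically closed fraction field:
closed subsets of the charts, in tensor form
-/

set_option autoImplicit false
set_option linter.style.haveILetI false
set_option linter.unusedSectionVars false
universe u

open TensorProduct

namespace Groth.Agent.Lib.Helper21.GIR

section

variable (A' Ω C : Type u) [CommRing A'] [IsDomain A'] [Field Ω] [IsAlgClosed Ω] [Algebra A' Ω]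
  [IsFractionRing A' Ω] [CommRing C] [Algebra A' C] [Algebra.FiniteType A' C]

include Ω in
/-- (T1) the closed subset cut out by a prime lying over `0` is generically irreducible -/
theorem exists_isPreirreducible_zeroLocus (𝔮 : Ideal C) [𝔮.IsPrime] [FaithfulSMul A' (C ⧸ 𝔮)]
    (G : Finset C) :
    ∃ a' : A', a' ≠ 0 ∧ ∀ (L : Type u) [Field L] [Algebra A' L], algebraMap A' L a' ≠ 0 →
      IsPreirreducible (PrimeSpectrum.zeroLocus
        ((𝔮.map (Algebra.TensorProduct.includeRight : C →ₐ[A'] L ⊗[A'] C) : Ideal _) :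
          Set (L ⊗[A'] C))) ∧
      ∀ g ∈ G, g ∉ 𝔮 → ∃ r : PrimeSpectrum (L ⊗[A'] C),
        𝔮.map (Algebra.TensorProduct.includeRight : C →ₐ[A'] L ⊗[A'] C) ≤ r.asIdeal ∧
          (1 : L) ⊗ₜ[A'] g ∉ r.asIdeal := by
  classical
  haveI hdom : IsDomain (Ω ⊗[A'] (C ⧸ 𝔮)) := isDomain_tensor_of_isFractionRing A' Ω (C ⧸ 𝔮)
  have hbot : ∀ q : C ⧸ 𝔮, q ∈ (⊥ : Ideal (C ⧸ 𝔮)) ↔ IsNilpotent ((1 : Ω) ⊗ₜ[A'] q) := by
    intro q
    rw [Ideal.mem_bot]
    constructor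
    · rintro rfl
      rw [tmul_zero]
      exact IsNilpotent.zero
    · intro h
      have h0 : (1 : Ω) ⊗ₜ[A'] q = 0 := h.eq_zero
      obtain ⟨s, hs, hsq⟩ := (one_tmul_eq_zero_iff A' Ω (C ⧸ 𝔮) q).mp h0
      rw [Algebra.smul_def] at hsq
      rcases mul_eq_zero.mp hsq with h1 | h1
      · exact absurd ((FaithfulSMul.algebraMap_injective A' (C ⧸ 𝔮)) (by rw [h1, map_zero])) hs
      · exact h1
  haveI : (⊥ : Ideal (C ⧸ 𝔮)).IsPrime := Ideal.isPrime_bot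
  obtain ⟨a', ha', H⟩ := exists_preirreducible_tensor_of_isPrime A' Ω (C ⧸ 𝔮) ⊥ hbot
    (G.image (Ideal.Quotient.mk 𝔮))
  refine ⟨a', ha', fun L _ _ hL => ?_⟩
  obtain ⟨h1, h2⟩ := H L hL
  let π : L ⊗[A'] C →ₐ[A'] L ⊗[A'] (C ⧸ 𝔮) :=
    Algebra.TensorProduct.map (AlgHom.id A' L) (Ideal.Quotient.mkₐ A' 𝔮)
  have hπ : Function.Surjective π :=
    Algebra.TensorProduct.map_surjective _ _ (fun x => ⟨x, rfl⟩)
      (Ideal.Quotient.mkₐ_surjective A' 𝔮)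
  have hπone : ∀ c : C, π ((1 : L) ⊗ₜ[A'] c) = (1 : L) ⊗ₜ[A'] (Ideal.Quotient.mk 𝔮 c) := by
    intro c
    simp [π]
  have hker : RingHom.ker π.toRingHom = 𝔮.map (Algebra.TensorProduct.includeRight :
      C →ₐ[A'] L ⊗[A'] C) := by
    have h1 := Algebra.TensorProduct.lTensor_ker (R := A') (A := L)
      (Ideal.Quotient.mkₐ A' 𝔮) (Ideal.Quotient.mkₐ_surjective A' 𝔮)
    have h2 : RingHom.ker (Ideal.Quotient.mkₐ A' 𝔮) = 𝔮 := Ideal.Quotient.mkₐ_ker A' 𝔮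
    rw [h2] at h1
    exact h1
  have hrange : Set.range (PrimeSpectrum.comap π.toRingHom) = PrimeSpectrum.zeroLocus
      ((𝔮.map (Algebra.TensorProduct.includeRight : C →ₐ[A'] L ⊗[A'] C) : Ideal _) :
        Set (L ⊗[A'] C)) := by
    rw [_root_.range_comap_of_surjective _ π.toRingHom hπ, hker]
  refine ⟨?_, fun g hg hg𝔮 => ?_⟩
  · rw [← hrange, ← Set.image_univ]
    exact h1.isPreirreducible_univ.image _ (PrimeSpectrum.continuous_comap _).continuousOn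
  · have hne : ¬ IsNilpotent ((1 : L) ⊗ₜ[A'] (Ideal.Quotient.mk 𝔮 g)) := by
      rw [h2 _ (Finset.mem_image_of_mem _ hg), ← hbot, Ideal.mem_bot,
        Ideal.Quotient.eq_zero_iff_mem]
      exact hg𝔮
    have h3 : PrimeSpectrum.basicOpen ((1 : L) ⊗ₜ[A'] (Ideal.Quotient.mk 𝔮 g)) ≠ ⊥ := by
      rw [Ne, PrimeSpectrum.basicOpen_eq_bot_iff]
      exact hne
    obtain ⟨rb, hrb⟩ : ∃ r, r ∈ PrimeSpectrum.basicOpen
        ((1 : L) ⊗ₜ[A'] (Ideal.Quotient.mk 𝔮 g)) := by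
      by_contra hcon
      push Not at hcon
      exact h3 (by ext r; simpa using hcon r)
    refine ⟨PrimeSpectrum.comap π.toRingHom rb, ?_, ?_⟩
    · have : PrimeSpectrum.comap π.toRingHom rb ∈ Set.range (PrimeSpectrum.comap π.toRingHom) :=
        ⟨rb, rfl⟩
      rw [hrange, PrimeSpectrum.mem_zeroLocus] at this
      exact this
    · change π ((1 : L) ⊗ₜ[A'] g) ∉ rb.asIdeal
      rw [hπone]
      exact hrb

end

section

variable (A' C : Type u) [CommRing A'] [IsDomain A'] [CommRing C] [Algebra A' C]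
  [Algebra.FiniteType A' C]

/-- (T2) generically, every point of the fibre lies on one of the closed subsets cut out by a
finite family of ideals whose intersection is generically nil -/
theorem exists_forall_exists_map_le (M : Finset (Ideal C))
    (hnil : ∀ q : C, (∀ 𝔮 ∈ M, q ∈ 𝔮) → ∃ s : A', s ≠ 0 ∧ ∃ n : ℕ, s • q ^ n = 0) :
    ∃ a' : A', a' ≠ 0 ∧ ∀ (L : Type u) [Field L] [Algebra A' L], algebraMap A' L a' ≠ 0 →
      ∀ r : PrimeSpectrum (L ⊗[A'] C), ∃ 𝔮 ∈ M,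
        𝔮.map (Algebra.TensorProduct.includeRight : C →ₐ[A'] L ⊗[A'] C) ≤ r.asIdeal := by
  classical
  obtain ⟨a', ha', H⟩ := exists_forall_isNilpotent_tmul A' C (M.inf id) (fun q hq => by
    apply hnil q
    intro 𝔮 h𝔮
    have : M.inf id ≤ 𝔮 := Finset.inf_le (f := id) h𝔮
    exact this hq)
  refine ⟨a', ha', fun L _ _ hL r => ?_⟩
  by_contra hcon
  push Not at hcon
  have hex : ∀ 𝔮 : Ideal C, ∃ q : C, 𝔮 ∈ M → q ∈ 𝔮 ∧ (1 : L) ⊗ₜ[A'] q ∉ r.asIdeal := by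
    intro 𝔮
    by_cases h𝔮 : 𝔮 ∈ M
    · have h1 := hcon 𝔮 h𝔮
      rw [Ideal.map_le_iff_le_comap] at h1
      obtain ⟨q, hq, hqr⟩ := Set.not_subset.mp h1
      exact ⟨q, fun _ => ⟨hq, hqr⟩⟩
    · exact ⟨0, fun h => absurd h h𝔮⟩
  choose qq hqq using hex
  have hprod : (∏ 𝔮 ∈ M, qq 𝔮) ∈ M.inf id := by
    rw [Submodule.mem_finsetInf]
    intro 𝔮 h𝔮
    exact Ideal.prod_mem 𝔮 h𝔮 (hqq 𝔮 h𝔮).1
  have h2 := H L hL _ hprod
  have h3 : (1 : L) ⊗ₜ[A'] (∏ 𝔮 ∈ M, qq 𝔮) ∈ r.asIdeal := by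
    obtain ⟨n, hn⟩ := h2
    exact r.isPrime.mem_of_pow_mem n (by rw [hn]; exact r.asIdeal.zero_mem)
  have h4 : (1 : L) ⊗ₜ[A'] (∏ 𝔮 ∈ M, qq 𝔮) = ∏ 𝔮 ∈ M, ((1 : L) ⊗ₜ[A'] qq 𝔮) := by
    have : ∀ c : C, (1 : L) ⊗ₜ[A'] c =
        (Algebra.TensorProduct.includeRight : C →ₐ[A'] L ⊗[A'] C) c := fun c => rfl
    simp only [this, map_prod]
  rw [h4] at h3
  haveI := r.isPrime
  obtain ⟨𝔮, h𝔮, h5⟩ := (Ideal.IsPrime.prod_mem_iff).mp h3
  exact (hqq 𝔮 h𝔮).2 h5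

/-- (T3) a closed subset cut out by an ideal meeting `A' ∖ 0` is generically empty -/
theorem not_map_le_of_mem (I : Ideal C) (s : A') (hs : algebraMap A' C s ∈ I) (L : Type u)
    [Field L] [Algebra A' L] (hL : algebraMap A' L s ≠ 0) (r : PrimeSpectrum (L ⊗[A'] C)) :
    ¬ I.map (Algebra.TensorProduct.includeRight : C →ₐ[A'] L ⊗[A'] C) ≤ r.asIdeal := by
  intro hle
  have h1 : (Algebra.TensorProduct.includeRight : C →ₐ[A'] L ⊗[A'] C) (algebraMap A' C s) ∈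
      r.asIdeal := hle (Ideal.mem_map_of_mem _ hs)
  have h2 : (Algebra.TensorProduct.includeRight : C →ₐ[A'] L ⊗[A'] C) (algebraMap A' C s) =
      algebraMap L (L ⊗[A'] C) (algebraMap A' L s) := by
    rw [AlgHom.commutes, IsScalarTower.algebraMap_apply A' L (L ⊗[A'] C)]
  rw [h2] at h1
  exact r.isPrime.ne_top (Ideal.eq_top_of_isUnit_mem _ h1
    ((IsUnit.mk0 _ hL).map (algebraMap L (L ⊗[A'] C))))

/-- (T4) an ideal all of whose primes meet `A' ∖ 0` meets `A' ∖ 0` -/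
theorem exists_mem_of_forall_comap_ne_bot (I : Ideal C)
    (h : ∀ 𝔯 : Ideal C, 𝔯.IsPrime → I ≤ 𝔯 → 𝔯.comap (algebraMap A' C) ≠ ⊥) :
    ∃ s : A', s ≠ 0 ∧ algebraMap A' C s ∈ I := by
  by_contra hcon
  push Not at hcon
  have hdisj : Disjoint (I : Set C)
      ((nonZeroDivisors A').map (algebraMap A' C) : Submonoid C) := by
    rw [Set.disjoint_left]
    rintro _ hx ⟨s, hs, rfl⟩
    exact hcon s (nonZeroDivisors.ne_zero hs) hx
  obtain ⟨𝔯, h𝔯, hI𝔯, hd⟩ := Ideal.exists_le_prime_disjoint I _ hdisj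
  apply h 𝔯 h𝔯 hI𝔯
  rw [eq_bot_iff]
  intro s hs
  rw [Ideal.mem_bot]
  by_contra hs0
  exact Set.disjoint_left.mp hd hs ⟨s, mem_nonZeroDivisors_of_ne_zero hs0, rfl⟩

end

section

variable (A' Ω C : Type u) [CommRing A'] [IsDomain A'] [Field Ω] [Algebra A' Ω]
  [IsFractionRing A' Ω] [CommRing C] [Algebra A' C] [Algebra.FiniteType A' C]

include Ω in
/-- (T0) the finitely many primes of `C` which are minimal over `0 ⊆ A'` -/
theorem exists_finset_primes :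
    ∃ M : Finset (Ideal C), (∀ 𝔮 ∈ M, 𝔮.IsPrime ∧ 𝔮.comap (algebraMap A' C) = ⊥) ∧
      ∀ q : C, (∀ 𝔮 ∈ M, q ∈ 𝔮) → ∃ s : A', s ≠ 0 ∧ ∃ n : ℕ, s • q ^ n = 0 := by
  classical
  haveI : IsNoetherianRing (Ω ⊗[A'] C) := Algebra.FiniteType.isNoetherianRing Ω _
  have hfin : (minimalPrimes (Ω ⊗[A'] C)).Finite := minimalPrimes.finite_of_isNoetherianRing _
  refine ⟨hfin.toFinset.image (Ideal.comap
    (Algebra.TensorProduct.includeRight : C →ₐ[A'] Ω ⊗[A'] C)), ?_, ?_⟩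
  · intro 𝔮 h𝔮
    obtain ⟨𝔔, h𝔔, rfl⟩ := Finset.mem_image.mp h𝔮
    rw [Set.Finite.mem_toFinset] at h𝔔
    haveI : 𝔔.IsPrime := h𝔔.1.1
    refine ⟨Ideal.comap_isPrime _ _, ?_⟩
    rw [eq_bot_iff]
    intro s hs
    rw [Ideal.mem_bot]
    by_contra hs0
    rw [Ideal.mem_comap, Ideal.mem_comap, AlgHom.commutes,
      IsScalarTower.algebraMap_apply A' Ω (Ω ⊗[A'] C)] at hs
    have hsΩ : algebraMap A' Ω s ≠ 0 := fun h0 =>
      hs0 ((IsFractionRing.injective A' Ω) (by rw [h0, map_zero]))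
    exact (Ideal.IsPrime.ne_top inferInstance) (Ideal.eq_top_of_isUnit_mem _ hs
      ((IsUnit.mk0 _ hsΩ).map (algebraMap Ω (Ω ⊗[A'] C))))
  · intro q hq
    rw [← isNilpotent_one_tmul_iff A' Ω C q, ← mem_nilradical, nilradical,
      ← Ideal.sInf_minimalPrimes, Ideal.mem_sInf]
    intro 𝔔 h𝔔
    have := hq (𝔔.comap (Algebra.TensorProduct.includeRight : C →ₐ[A'] Ω ⊗[A'] C))
      (Finset.mem_image_of_mem _ (hfin.mem_toFinset.mpr h𝔔))
    exact this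

end

end Groth.Agent.Lib.Helper21.GIR
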