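import Mathlib
import Groth.Agent.Lib.Helper21.GIR4

/-!
# The ring-level package, integral form
-/

set_option autoImplicit false
set_option linter.style.haveILetI false
set_option linter.unusedSectionVars false
universe u

open TensorProduct

namespace Groth.Agent.Lib.Helper21.GIR

variable {A₀ : Type u} [CommRing A₀] (𝔭 : Ideal A₀) [𝔭.IsPrime]

/-- **the ring-level package, integral form**: a domain `A'` integral over `A₀`, with kernel `𝔭`
and algebraically closed fraction field, such that every nonzero element of `A'` divides the image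
of an element of `A₀` outside `𝔭` -/
theorem exists_package_integral :
    ∃ (A' : Type u) (_ : CommRing A') (_ : IsDomain A') (Ω : Type u) (_ : Field Ω)
      (_ : IsAlgClosed Ω) (_ : Algebra A' Ω) (_ : IsFractionRing A' Ω) (_ : Algebra A₀ A'),
      Algebra.IsIntegral A₀ A' ∧ RingHom.ker (algebraMap A₀ A') = 𝔭 ∧
      ∀ a' : A', a' ≠ 0 → ∃ r : A₀, r ∉ 𝔭 ∧ a' ∣ algebraMap A₀ A' r := by
  let Ω := AlgebraicClosure (FractionRing (A₀ ⧸ 𝔭))
  have hinjΩ : Function.Injective (algebraMap (A₀ ⧸ 𝔭) Ω) := by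
    rw [IsScalarTower.algebraMap_eq (A₀ ⧸ 𝔭) (FractionRing (A₀ ⧸ 𝔭)) Ω]
    exact (algebraMap (FractionRing (A₀ ⧸ 𝔭)) Ω).injective.comp (IsFractionRing.injective _ _)
  haveI : FaithfulSMul (A₀ ⧸ 𝔭) Ω := (faithfulSMul_iff_algebraMap_injective _ _).mpr hinjΩ
  haveI : Algebra.IsAlgebraic (A₀ ⧸ 𝔭) Ω := by
    haveI := IsLocalization.isAlgebraic (FractionRing (A₀ ⧸ 𝔭)) (nonZeroDivisors (A₀ ⧸ 𝔭))
    exact Algebra.IsAlgebraic.trans (A₀ ⧸ 𝔭) (FractionRing (A₀ ⧸ 𝔭)) Ω
  let A' := integralClosure (A₀ ⧸ 𝔭) Ω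
  haveI hfr : IsFractionRing A' Ω := isFractionRing_integralClosure _ _
  have htoA' : algebraMap A₀ A' = (algebraMap (A₀ ⧸ 𝔭) A').comp (Ideal.Quotient.mk 𝔭) :=
    IsScalarTower.algebraMap_eq A₀ (A₀ ⧸ 𝔭) A'
  have hinjA' : Function.Injective (algebraMap (A₀ ⧸ 𝔭) A') := by
    intro x y hxy
    apply hinjΩ
    have := congrArg (algebraMap A' Ω) hxy
    rwa [← IsScalarTower.algebraMap_apply, ← IsScalarTower.algebraMap_apply] at this
  haveI h1 : Algebra.IsIntegral (A₀ ⧸ 𝔭) A' := inferInstance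
  haveI h2 : Algebra.IsIntegral A₀ (A₀ ⧸ 𝔭) :=
    Algebra.isIntegral_of_surjective Ideal.Quotient.mk_surjective
  refine ⟨A', inferInstance, inferInstance, Ω, inferInstance, inferInstance, inferInstance, hfr,
    inferInstance, Algebra.IsIntegral.trans (A₀ ⧸ 𝔭), ?_, fun a' ha' => ?_⟩
  · ext x
    rw [RingHom.mem_ker, htoA', RingHom.comp_apply, map_eq_zero_iff _ hinjA']
    exact Ideal.Quotient.eq_zero_iff_mem
  · have halg : IsAlgebraic (A₀ ⧸ 𝔭) a' := (h1.isIntegral a').isAlgebraic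
    obtain ⟨rb, hrb, hdvd⟩ := halg.exists_nonzero_dvd (mem_nonZeroDivisors_of_ne_zero ha')
    obtain ⟨r, rfl⟩ := Ideal.Quotient.mk_surjective rb
    refine ⟨r, fun hr => hrb (Ideal.Quotient.eq_zero_iff_mem.mpr hr), ?_⟩
    rw [htoA']
    exact hdvd

end Groth.Agent.Lib.Helper21.GIR
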