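import Groth.Agent.Lib.Helper21.OpenAt20

/-!
# Irreducible connected components of the fibres through a section: semicontinuity
-/

set_option autoImplicit false
set_option linter.style.haveILetI false
set_option linter.unusedSectionVars false
universe u

open AlgebraicGeometry CategoryTheory Limits TopologicalSpace IsLocalRing

namespace Groth.Agent.Lib.Helper21.OpenAt

open Groth.Agent.Lib.Helper21.FibDim Groth.Agent.Lib.Helper21.EquiSub
  Groth.Agent.Lib.Helper21.FourCond

variable {X Y : Scheme.{u}}

/-- a connected component of a fibre is maximal among the irreducible subsets of the fibre that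
contain it -/
theorem connectedComponentIn_maximal (f : X ⟶ Y) (y : Y) (x : X) (hx : f x = y) (Z' : Set X)
    (hZ' : IsIrreducible Z') (hZ'F : Z' ⊆ f.base ⁻¹' {y})
    (hCZ' : connectedComponentIn (f.base ⁻¹' {y}) x ⊆ Z') :
    Z' = connectedComponentIn (f.base ⁻¹' {y}) x := by
  refine Set.Subset.antisymm ?_ hCZ'
  exact (IsIrreducible.isConnected hZ').isPreconnected.subset_connectedComponentIn
    (hCZ' (mem_connectedComponentIn hx)) hZ'F

/-- if the connected component of the fibre through `x` is irreducible, its dimension is the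
local fibre dimension at `x` -/
theorem topologicalKrullDim_connectedComponentIn_eq_fibreDimAt (f : X ⟶ Y)
    [LocallyOfFiniteType f] (x : X)
    (hirr : IsIrreducible (connectedComponentIn (f.base ⁻¹' {f x}) x)) :
    topologicalKrullDim ↥(connectedComponentIn (f.base ⁻¹' {f x}) x) =
      FlatMor.fibreDimAt f x := by
  apply le_antisymm _ (fibreDimAt_le_topologicalKrullDim_connectedComponentIn f x)
  set C := connectedComponentIn (f.base ⁻¹' {f x}) x with hC
  have hCF : C ⊆ f.base ⁻¹' {f x} := connectedComponentIn_subset _ _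
  obtain ⟨τC, hτCC, hCeq⟩ := exists_generic_of_fibre_component f (f x) C hCF hirr
    (fun Z' hZ' hZ'F hCZ' => connectedComponentIn_maximal f (f x) x rfl Z' hZ' hZ'F hCZ')
  have hfτC : f τC = f x := hCF hτCC
  obtain ⟨m, hm⟩ := exists_nat_trdeg_residueFieldMap f τC
  have hdimC : topologicalKrullDim ↥C = m := by
    have h1 := topologicalKrullDim_closure_inter_fiber f τC m hm
    rw [hfτC, ← hCeq] at h1
    exact h1
  rw [hdimC]
  have hxC : x ∈ C := mem_connectedComponentIn rfl
  rw [hCeq] at hxC
  exact le_fibreDimAt_of_specializes f (specializes_iff_mem_closure.mpr hxC.1) m hm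

/-- upper semicontinuity of the local fibre dimension along a continuous map -/
theorem upperSemicontinuous_fibreDimAt_comp (f : X ⟶ Y) [LocallyOfFiniteType f]
    {T : Type*} [TopologicalSpace T] (g : T → X) (hg : Continuous g) :
    UpperSemicontinuous (fun t : T => FlatMor.fibreDimAt f (g t)) := by
  intro t c hc
  obtain ⟨N, hN, -, -⟩ := exists_fibreDimAt_eq_trdeg f (g t)
  have hopen := (isOpen_setOf_fibreDimAt_le f N).preimage hg
  have hmem : t ∈ g ⁻¹' {x : X | FlatMor.fibreDimAt f x ≤ N} := by
    change FlatMor.fibreDimAt f (g t) ≤ N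
    rw [hN]
  filter_upwards [hopen.mem_nhds hmem] with z hz
  have hz' : FlatMor.fibreDimAt f (g z) ≤ N := hz
  exact lt_of_le_of_lt hz' (by rw [← hN]; exact hc)

/-- **EGA IV 15.6.3-type statement** -/
theorem sectionComponent_usc_and_closure (f : X ⟶ Y) [LocallyOfFiniteType f] (g : Y ⟶ X)
    (hg : g ≫ f = 𝟙 Y)
    (hirr : ∀ y : Y, IsIrreducible (connectedComponentIn (f.base ⁻¹' {y}) (g.base y))) :
    UpperSemicontinuous (fun y : Y =>
        topologicalKrullDim ↥(connectedComponentIn (f.base ⁻¹' {y}) (g.base y))) ∧
      ∀ y : Y, (∃ V ∈ nhds y, ∀ z ∈ V,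
          topologicalKrullDim ↥(connectedComponentIn (f.base ⁻¹' {z}) (g.base z)) =
            topologicalKrullDim ↥(connectedComponentIn (f.base ⁻¹' {y}) (g.base y))) →
        ∀ y' : Y, y' ⤳ y → connectedComponentIn (f.base ⁻¹' {y}) (g.base y) ⊆
          closure (connectedComponentIn (f.base ⁻¹' {y'}) (g.base y')) := by
  have hfg : ∀ t : Y, f (g t) = t := fun t => by
    have := congrArg (fun φ : Y ⟶ Y => φ t) hg
    simpa using this
  have key : ∀ y : Y, topologicalKrullDim ↥(connectedComponentIn (f.base ⁻¹' {y}) (g.base y)) =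
      FlatMor.fibreDimAt f (g y) := by
    intro y
    have h1 := topologicalKrullDim_connectedComponentIn_eq_fibreDimAt f (g y)
      (by rw [hfg y]; exact hirr y)
    rw [hfg y] at h1
    exact h1
  constructor
  · have h1 := upperSemicontinuous_fibreDimAt_comp f (fun y : Y => g y) g.continuous
    have h2 : (fun y : Y =>
        topologicalKrullDim ↥(connectedComponentIn (f.base ⁻¹' {y}) (g.base y))) =
        fun y : Y => FlatMor.fibreDimAt f (g y) := funext key
    rw [h2]
    exact h1
  · rintro y ⟨V, hV, hVeq⟩ y' hy'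
    have hy'V : y' ∈ V := mem_of_mem_nhds (hy' hV)
    exact sectionComponent_subset_closure f g hg y y' hy' _ (connectedComponentIn_subset _ _)
      (hirr y')
      (fun Z' hZ' hZ'F hCZ' => connectedComponentIn_maximal f y' (g y') (hfg y') Z' hZ' hZ'F hCZ')
      (mem_connectedComponentIn (hfg y')) (hirr y) (hVeq y' hy'V).symm

end Groth.Agent.Lib.Helper21.OpenAt
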