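import Mathlib
import Groth.Prelude.Def_FDesc
import Groth.Agent.Lib.Helper21.OpenAt21
import Groth.Agent.Lib.Helper21.BaseChg4

/-!
# Base change of the connected components of the fibres through a section
-/

set_option autoImplicit false
set_option linter.style.haveILetI false
set_option linter.unusedSectionVars false
universe u

open AlgebraicGeometry CategoryTheory Limits TopologicalSpace IsLocalRing

namespace Groth.Agent.Lib.Helper21.SecBC

open Groth.Agent.Lib.Helper21.OpenAt Groth.Agent.Lib.Helper21.BaseChg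

variable {X Y T P : Scheme.{u}}

/-- the trace on the fibre over `t` of the preimage of a subset `C` of `X` under a base change
is the image of its preimage in the base change of the fibre to `κ(t)`. -/
theorem isIrreducible_preimage_inter_fiber (f : X ⟶ Y) (a : T ⟶ Y) (fst : P ⟶ X) (snd : P ⟶ T)
    (hsq : IsPullback fst snd f a) (t : T) (C : Set X)
    (hC : letI : Algebra (IsLocalRing.ResidueField (Y.presheaf.stalk (a t))) (T.residueField t) :=
        (a.residueFieldMap t).hom.toAlgebra
      IsIrreducible ((FBase.bcπ (f.fiberToSpecResidueField (a t)) (T.residueField t) ≫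
        f.fiberι (a t)).base ⁻¹' C)) :
    IsIrreducible (fst.base ⁻¹' C ∩ snd.base ⁻¹' {t}) := by
  letI alg : Algebra (IsLocalRing.ResidueField (Y.presheaf.stalk (a t))) (T.residueField t) :=
    (a.residueFieldMap t).hom.toAlgebra
  obtain ⟨τ, hpb, hτ⟩ := exists_fiber_isPullback hsq t
  let φ := f.fiberToSpecResidueField (a t)
  have hpb' : IsPullback τ (snd.fiberToSpecResidueField t) φ
      (Spec.map (CommRingCat.ofHom (algebraMap (IsLocalRing.ResidueField (Y.presheaf.stalk (a t)))
        (T.residueField t)))) := hpb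
  let e : snd.fiber t ≅ FBase.bc φ (T.residueField t) := hpb'.isoPullback
  have he1 : e.hom ≫ FBase.bcπ φ (T.residueField t) = τ := hpb'.isoPullback_hom_fst
  let ψ : FBase.bc φ (T.residueField t) ⟶ P := e.inv ≫ snd.fiberι t
  have hψ1 : ψ ≫ fst = FBase.bcπ φ (T.residueField t) ≫ f.fiberι (a t) := by
    change (e.inv ≫ snd.fiberι t) ≫ fst = _
    rw [Category.assoc, ← hτ, ← he1, Category.assoc, Iso.inv_hom_id_assoc]
  have hψ2 : ∀ b, snd (ψ b) = t := by
    intro b
    change snd ((e.inv ≫ snd.fiberι t) b) = t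
    rw [Scheme.Hom.comp_apply]
    exact (snd.fiberHomeo t (e.inv b)).2
  have himg : fst.base ⁻¹' C ∩ snd.base ⁻¹' {t} =
      ψ.base '' ((FBase.bcπ φ (T.residueField t) ≫ f.fiberι (a t)).base ⁻¹' C) := by
    ext p
    constructor
    · rintro ⟨hp1, hp2⟩
      let q : snd.fiber t := (snd.fiberHomeo t).symm ⟨p, hp2⟩
      have hq : snd.fiberι t q = p := snd.fiberι_fiberHomeo_symm t ⟨p, hp2⟩
      have hψq : ψ (e.hom q) = p := by
        change (e.inv ≫ snd.fiberι t) (e.hom q) = p
        rw [Scheme.Hom.comp_apply, ← Scheme.Hom.comp_apply e.hom e.inv, e.hom_inv_id]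
        exact hq
      refine ⟨e.hom q, ?_, hψq⟩
      change (FBase.bcπ φ (T.residueField t) ≫ f.fiberι (a t)) (e.hom q) ∈ C
      rw [← hψ1, Scheme.Hom.comp_apply, hψq]
      exact hp1
    · rintro ⟨b, hb, rfl⟩
      refine ⟨?_, hψ2 b⟩
      change fst (ψ b) ∈ C
      rw [← Scheme.Hom.comp_apply, hψ1]
      exact hb
  rw [himg]
  exact hC.image _ ψ.continuous.continuousOn

/-- the connected component of the fibre of a base change through the base-changed section is
the trace of the preimage of the original one, provided this trace is irreducible -/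
theorem connectedComponentIn_baseChange (f : X ⟶ Y) (g : Y ⟶ X) (hg : g ≫ f = 𝟙 Y) (a : T ⟶ Y)
    (fst : P ⟶ X) (snd : P ⟶ T) (hsq : IsPullback fst snd f a) (gT : T ⟶ P)
    (hgT1 : gT ≫ fst = a ≫ g) (hgT2 : gT ≫ snd = 𝟙 T) (t : T)
    (hirr : IsIrreducible (fst.base ⁻¹' (connectedComponentIn (f.base ⁻¹' {a t}) (g.base (a t))) ∩
      snd.base ⁻¹' {t})) :
    connectedComponentIn (snd.base ⁻¹' {t}) (gT.base t) =
      fst.base ⁻¹' (connectedComponentIn (f.base ⁻¹' {a t}) (g.base (a t))) ∩
        snd.base ⁻¹' {t} := by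
  have hfg : ∀ y : Y, f (g y) = y := fun y => by
    have := congrArg (fun φ : Y ⟶ Y => φ y) hg
    simpa using this
  have hsg : ∀ t : T, snd (gT t) = t := fun t => by
    have := congrArg (fun φ : T ⟶ T => φ t) hgT2
    simpa using this
  have hfstg : ∀ t : T, fst (gT t) = g (a t) := fun t => by
    have := congrArg (fun φ : T ⟶ X => φ t) hgT1
    simpa using this
  have hcomm : ∀ p : P, f (fst p) = a (snd p) := fun p => by
    have := congrArg (fun φ : P ⟶ Y => φ p) hsq.w
    simpa using this
  have hgmem : gT.base t ∈ fst.base ⁻¹' (connectedComponentIn (f.base ⁻¹' {a t}) (g.base (a t))) ∩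
      snd.base ⁻¹' {t} := by
    refine ⟨?_, hsg t⟩
    change fst (gT t) ∈ connectedComponentIn (f.base ⁻¹' {a t}) (g.base (a t))
    rw [hfstg]
    exact mem_connectedComponentIn (hfg (a t))
  apply Set.Subset.antisymm
  · intro p hp
    have hpF : p ∈ snd.base ⁻¹' {t} := connectedComponentIn_subset _ _ hp
    refine ⟨?_, hpF⟩
    have hpre : _root_.IsPreconnected (fst.base '' connectedComponentIn (snd.base ⁻¹' {t}) (gT.base t)) :=
      isPreconnected_connectedComponentIn.image _ fst.continuous.continuousOn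
    have hsub : fst.base '' connectedComponentIn (snd.base ⁻¹' {t}) (gT.base t) ⊆
        f.base ⁻¹' {a t} := by
      rintro _ ⟨q, hq, rfl⟩
      have hqF : q ∈ snd.base ⁻¹' {t} := connectedComponentIn_subset _ _ hq
      replace hqF : snd q = t := hqF
      change f (fst q) = a t
      rw [hcomm, hqF]
    have hmem : g.base (a t) ∈ fst.base '' connectedComponentIn (snd.base ⁻¹' {t}) (gT.base t) :=
      ⟨gT t, mem_connectedComponentIn (hsg t), hfstg t⟩
    exact hpre.subset_connectedComponentIn hmem hsub ⟨p, hp, rfl⟩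
  · exact (IsIrreducible.isConnected hirr).isPreconnected.subset_connectedComponentIn hgmem
      Set.inter_subset_right

/-- the dimension of the connected component through the section is invariant under base
change, when the components are irreducible -/
theorem dim_connectedComponentIn_baseChange (f : X ⟶ Y) [LocallyOfFiniteType f] (g : Y ⟶ X)
    (hg : g ≫ f = 𝟙 Y) (a : T ⟶ Y)
    (fst : P ⟶ X) (snd : P ⟶ T) (hsq : IsPullback fst snd f a) (gT : T ⟶ P)
    (hgT1 : gT ≫ fst = a ≫ g) (hgT2 : gT ≫ snd = 𝟙 T) (t : T)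
    (hirrX : IsIrreducible (connectedComponentIn (f.base ⁻¹' {a t}) (g.base (a t))))
    (hirrP : IsIrreducible (connectedComponentIn (snd.base ⁻¹' {t}) (gT.base t))) :
    topologicalKrullDim ↥(connectedComponentIn (snd.base ⁻¹' {t}) (gT.base t)) =
      topologicalKrullDim ↥(connectedComponentIn (f.base ⁻¹' {a t}) (g.base (a t))) := by
  haveI : LocallyOfFiniteType snd := MorphismProperty.of_isPullback (P := @LocallyOfFiniteType)
    hsq inferInstance
  have hfg : ∀ y : Y, f (g y) = y := fun y => by
    have := congrArg (fun φ : Y ⟶ Y => φ y) hg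
    simpa using this
  have hsg : ∀ t : T, snd (gT t) = t := fun t => by
    have := congrArg (fun φ : T ⟶ T => φ t) hgT2
    simpa using this
  have hfstg : ∀ t : T, fst (gT t) = g (a t) := fun t => by
    have := congrArg (fun φ : T ⟶ X => φ t) hgT1
    simpa using this
  have h1 := topologicalKrullDim_connectedComponentIn_eq_fibreDimAt f (g (a t))
    (by rw [hfg]; exact hirrX)
  rw [hfg] at h1
  have h2 := topologicalKrullDim_connectedComponentIn_eq_fibreDimAt snd (gT t)
    (by rw [hsg]; exact hirrP)
  rw [hsg] at h2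
  rw [h1, h2, fibreDimAt_eq_of_isPullback hsq (gT t), hfstg]

/-- the connected components through the section are irreducible under the geometric
irreducibility hypothesis -/
theorem isIrreducible_sectionComponent (f : X ⟶ Y) (g : Y ⟶ X)
    (hgi : ∀ (y : Y) (K : Type u) [Field K] [Algebra (IsLocalRing.ResidueField (Y.presheaf.stalk y)) K],
      IsIrreducible ((FBase.bcπ (f.fiberToSpecResidueField y) K ≫ f.fiberι y).base ⁻¹'
        (connectedComponentIn (f.base ⁻¹' {y}) (g.base y)))) (y : Y) :
    IsIrreducible (connectedComponentIn (f.base ⁻¹' {y}) (g.base y)) := by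
  have hsq : IsPullback (𝟙 X) f f (𝟙 Y) := IsPullback.of_horiz_isIso ⟨by simp⟩
  have h1 := isIrreducible_preimage_inter_fiber f (𝟙 Y) (𝟙 X) f hsq y
    (connectedComponentIn (f.base ⁻¹' {y}) (g.base y))
    (@hgi ((𝟙 Y : Y ⟶ Y) y) (Y.residueField y) _ ((𝟙 Y : Y ⟶ Y).residueFieldMap y).hom.toAlgebra)
  have h2 : (𝟙 X : X ⟶ X).base ⁻¹' (connectedComponentIn (f.base ⁻¹' {y}) (g.base y)) ∩
      f.base ⁻¹' {y} = connectedComponentIn (f.base ⁻¹' {y}) (g.base y) := by
    ext p
    constructor
    · rintro ⟨hp, -⟩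
      exact hp
    · intro hp
      exact ⟨hp, connectedComponentIn_subset _ _ hp⟩
  rw [h2] at h1
  exact h1

/-- **base change of the components through a section** under the geometric irreducibility
hypothesis -/
theorem baseChange_facts (f : X ⟶ Y) [LocallyOfFiniteType f] (g : Y ⟶ X) (hg : g ≫ f = 𝟙 Y)
    (hgi : ∀ (y : Y) (K : Type u) [Field K] [Algebra (IsLocalRing.ResidueField (Y.presheaf.stalk y)) K],
      IsIrreducible ((FBase.bcπ (f.fiberToSpecResidueField y) K ≫ f.fiberι y).base ⁻¹'
        (connectedComponentIn (f.base ⁻¹' {y}) (g.base y))))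
    (a : T ⟶ Y) (fst : P ⟶ X) (snd : P ⟶ T) (hsq : IsPullback fst snd f a) (gT : T ⟶ P)
    (hgT1 : gT ≫ fst = a ≫ g) (hgT2 : gT ≫ snd = 𝟙 T) (t : T) :
    connectedComponentIn (snd.base ⁻¹' {t}) (gT.base t) =
        fst.base ⁻¹' (connectedComponentIn (f.base ⁻¹' {a t}) (g.base (a t))) ∩
          snd.base ⁻¹' {t} ∧
      IsIrreducible (connectedComponentIn (snd.base ⁻¹' {t}) (gT.base t)) ∧
      topologicalKrullDim ↥(connectedComponentIn (snd.base ⁻¹' {t}) (gT.base t)) =
        topologicalKrullDim ↥(connectedComponentIn (f.base ⁻¹' {a t}) (g.base (a t))) := by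
  have hW := isIrreducible_preimage_inter_fiber f a fst snd hsq t
    (connectedComponentIn (f.base ⁻¹' {a t}) (g.base (a t)))
    (@hgi (a t) (T.residueField t) _ (a.residueFieldMap t).hom.toAlgebra)
  have hCC := connectedComponentIn_baseChange f g hg a fst snd hsq gT hgT1 hgT2 t hW
  have hirrP : IsIrreducible (connectedComponentIn (snd.base ⁻¹' {t}) (gT.base t)) := by
    rw [hCC]; exact hW
  exact ⟨hCC, hirrP, dim_connectedComponentIn_baseChange f g hg a fst snd hsq gT hgT1 hgT2 t
    (isIrreducible_sectionComponent f g hgi (a t)) hirrP⟩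

end Groth.Agent.Lib.Helper21.SecBC
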