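import Mathlib
import Groth.Agent.Lib.Helper21.SecBC1
import Groth.Agent.Lib.Helper21.CondT4

/-!
# Dimension of the connected components through a section: generisations
-/

set_option autoImplicit false
set_option linter.style.haveILetI false
set_option linter.unusedSectionVars false
universe u

open AlgebraicGeometry CategoryTheory Limits TopologicalSpace IsLocalRing

namespace Groth.Agent.Lib.Helper21.SecBC

open Groth.Agent.Lib.Helper21.OpenAt Groth.Agent.Lib.Helper21.BaseChg
  Groth.Agent.Lib.Helper21.FibDim Groth.Agent.Lib.Helper21.CondT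

variable {X Y : Scheme.{u}}

/-- a closed subset of a locally Noetherian scheme containing all generisations of a point is
a neighbourhood of that point -/
theorem mem_nhds_of_isClosed_of_generizations [IsLocallyNoetherian Y] (E : Set Y)
    (hE : IsClosed E) (y₀ : Y) (h : ∀ t : Y, t ⤳ y₀ → t ∈ E) : E ∈ nhds y₀ := by
  obtain ⟨U, hU, hyU, -⟩ := Opens.isBasis_iff_nbhd.mp Y.isBasis_affineOpens
    (show y₀ ∈ (⊤ : Y.Opens) from trivial)
  have hU : IsAffineOpen U := hU
  haveI : IsNoetherianRing Γ(Y, U) := IsLocallyNoetherian.component_noetherian ⟨U, hU⟩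
  haveI : NoetherianSpace ↥U := noetherianSpace_of_isAffineOpen U hU
  haveI : QuasiSober ↥U := U.2.isOpenEmbedding_subtypeVal.quasiSober
  let y₀' : ↥U := ⟨y₀, hyU⟩
  have hfin : (irreducibleComponents ↥U).Finite := NoetherianSpace.finite_irreducibleComponents
  let 𝒞 : Set (Set ↥U) := {C | C ∈ irreducibleComponents ↥U ∧ y₀' ∉ C}
  have h𝒞fin : 𝒞.Finite := hfin.subset (fun C hC => hC.1)
  let F : Set ↥U := ⋃₀ 𝒞
  have hFcl : IsClosed F := by
    change IsClosed (⋃₀ 𝒞)
    rw [Set.sUnion_eq_biUnion]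
    exact h𝒞fin.isClosed_biUnion (fun C hC => isClosed_of_mem_irreducibleComponents C hC.1)
  have hy₀F : y₀' ∉ F := by
    rintro ⟨C, hC, hmem⟩
    exact hC.2 hmem
  have hsub : Fᶜ ⊆ Subtype.val ⁻¹' E := by
    intro z hz
    have hCmem : irreducibleComponent z ∈ irreducibleComponents ↥U :=
      irreducibleComponent_mem_irreducibleComponents z
    have hy₀C : y₀' ∈ irreducibleComponent z := by
      by_contra hcon
      exact hz ⟨irreducibleComponent z, ⟨hCmem, hcon⟩, mem_irreducibleComponent⟩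
    obtain ⟨c, hc⟩ := QuasiSober.sober (isIrreducible_irreducibleComponent (x := z))
      isClosed_irreducibleComponent
    have hcy₀ : c ⤳ y₀' := by
      rw [specializes_iff_mem_closure, hc.def]
      exact hy₀C
    have hcz : c ⤳ z := by
      rw [specializes_iff_mem_closure, hc.def]
      exact mem_irreducibleComponent
    have hcE : c.1 ∈ E := h c.1 (hcy₀.map continuous_subtype_val)
    have hzc : z.1 ∈ closure ({c.1} : Set Y) :=
      specializes_iff_mem_closure.mp (hcz.map continuous_subtype_val)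
    exact (closure_minimal (Set.singleton_subset_iff.mpr hcE) hE) hzc
  have h1 : Fᶜ ∈ nhds y₀' := hFcl.isOpen_compl.mem_nhds hy₀F
  have h2 : Subtype.val '' Fᶜ ∈ nhds y₀ :=
    U.2.isOpenEmbedding_subtypeVal.isOpenMap.image_mem_nhds h1
  refine Filter.mem_of_superset h2 ?_
  rintro _ ⟨z, hz, rfl⟩
  exact hsub hz

/-- the generic point of an irreducible connected component through the section -/
theorem exists_generic_sectionComponent (f : X ⟶ Y) [LocallyOfFiniteType f] (g : Y ⟶ X)
    (hg : g ≫ f = 𝟙 Y) (y : Y)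
    (hirr : IsIrreducible (connectedComponentIn (f.base ⁻¹' {y}) (g.base y))) :
    ∃ (ζ : X) (n : ℕ), ζ ∈ connectedComponentIn (f.base ⁻¹' {y}) (g.base y) ∧
      connectedComponentIn (f.base ⁻¹' {y}) (g.base y) = closure {ζ} ∩ f.base ⁻¹' {y} ∧
      (∀ τ : X, τ ⤳ ζ → f τ = f ζ → τ = ζ) ∧
      @Algebra.trdeg (Y.residueField (f ζ)) (X.residueField ζ) _ _
        (f.residueFieldMap ζ).hom.toAlgebra = n ∧
      topologicalKrullDim ↥(connectedComponentIn (f.base ⁻¹' {y}) (g.base y)) = n := by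
  have hfg : ∀ t : Y, f (g t) = t := fun t => by
    have := congrArg (fun φ : Y ⟶ Y => φ t) hg
    simpa using this
  set C := connectedComponentIn (f.base ⁻¹' {y}) (g.base y) with hC
  have hCF : C ⊆ f.base ⁻¹' {y} := connectedComponentIn_subset _ _
  obtain ⟨ζ, hζC, hCeq⟩ := exists_generic_of_fibre_component f y C hCF hirr
    (fun Z' hZ' hZ'F hCZ' => connectedComponentIn_maximal f y (g y) (hfg y) Z' hZ' hZ'F hCZ')
  have hfζ : f ζ = y := hCF hζC
  obtain ⟨n, hn⟩ := exists_nat_trdeg_residueFieldMap f ζ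
  refine ⟨ζ, n, hζC, hCeq, ?_, hn, ?_⟩
  · intro τ hτζ hfτ
    have h1 := closure_inter_fiber_subset_connectedComponentIn f τ ζ hτζ hfτ
    have hτmem : τ ∈ closure ({τ} : Set X) ∩ f.base ⁻¹' {f ζ} := ⟨subset_closure rfl, hfτ⟩
    have h2 : τ ∈ connectedComponentIn (f.base ⁻¹' {f ζ}) ζ := h1 hτmem
    rw [hfζ] at h2
    have h3 : connectedComponentIn (f.base ⁻¹' {y}) (g.base y) =
        connectedComponentIn (f.base ⁻¹' {y}) ζ := connectedComponentIn_eq hζC
    rw [← h3] at h2
    have h4 : τ ∈ closure ({ζ} : Set X) ∩ f.base ⁻¹' {y} := by rw [← hCeq]; exact h2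
    exact (hτζ.antisymm (specializes_iff_mem_closure.mpr h4.1)).eq
  · have h1 := topologicalKrullDim_closure_inter_fiber f ζ n hn
    rw [hfζ, ← hCeq] at h1
    exact h1

/-- **key step**: a generisation of the generic point of the component over `y₀`, lying over a
given generisation `t` of `y₀`, with local fibre dimension the dimension of the component -/
theorem exists_generization_of_isUnivOpenAt_generic (f : X ⟶ Y) [LocallyOfFiniteType f]
    (g : Y ⟶ X) (hg : g ≫ f = 𝟙 Y) (y₀ : Y)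
    (hirr : IsIrreducible (connectedComponentIn (f.base ⁻¹' {y₀}) (g.base y₀)))
    (hopen : ∀ ξ ∈ connectedComponentIn (f.base ⁻¹' {y₀}) (g.base y₀),
      connectedComponentIn (f.base ⁻¹' {y₀}) (g.base y₀) ⊆ closure {ξ} → EGA43.IsUnivOpenAt f ξ)
    (t : Y) (ht : t ⤳ y₀) :
    ∃ (ζ ξ : X), ζ ∈ connectedComponentIn (f.base ⁻¹' {y₀}) (g.base y₀) ∧
      connectedComponentIn (f.base ⁻¹' {y₀}) (g.base y₀) = closure {ζ} ∩ f.base ⁻¹' {y₀} ∧
      ξ ⤳ ζ ∧ f ξ = t ∧
      FlatMor.fibreDimAt f ξ =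
        topologicalKrullDim ↥(connectedComponentIn (f.base ⁻¹' {y₀}) (g.base y₀)) := by
  obtain ⟨ζ, n, hζC, hCeq, hζmax, hn, hdim⟩ := exists_generic_sectionComponent f g hg y₀ hirr
  have hfζ' : ζ ∈ f.base ⁻¹' {y₀} := connectedComponentIn_subset _ _ hζC
  have hfζ : f ζ = y₀ := hfζ'
  have hop : EGA43.IsUnivOpenAt f ζ := hopen ζ hζC (by
    rw [hCeq]; exact Set.inter_subset_left)
  obtain ⟨ξ, hξζ, hfξ, hFξ⟩ := exists_generization_fibreDimAt_of_isUnivOpenAt f ζ hop hζmax n hn t
    (by rw [hfζ]; exact ht)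
  exact ⟨ζ, ξ, hζC, hCeq, hξζ, hfξ, by rw [hFξ, hdim]⟩

end Groth.Agent.Lib.Helper21.SecBC
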