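import Mathlib
import Groth.Agent.S9501

/-!
# Reduced fibre at a point and generisations outside the fibre

If the fibre of `h : P ⟶ S` through `p₀` is reduced at `p₀`, the maximal ideal of `O_{S,h p₀}` is
principal, the generisations of `p₀` in the fibre have a least element `ζ'`, and `ξ` is a
generisation of `ζ'` outside the fibre, then `O_{P,p₀}` is a domain with generic point `ξ`.
-/

set_option autoImplicit false
set_option linter.style.haveILetI false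
set_option linter.unusedSectionVars false
universe u

open AlgebraicGeometry CategoryTheory Limits TopologicalSpace IsLocalRing

namespace Groth.Agent.Lib.Helper21.SecBC

theorem specializes_of_reduced_fibre {P S : Scheme.{u}} [IsLocallyNoetherian P] (h : P ⟶ S)
    (s : S) (y : h.fiber s)
    (hprin : ∃ ϖ₀, maximalIdeal (S.presheaf.stalk (h ((h.fiberι s) y))) = Ideal.span {ϖ₀})
    (hred : _root_.IsReduced ((h.fiber s).presheaf.stalk y))
    (ζ' : P) (hζ'1 : ζ' ⤳ (h.fiberι s) y) (hζ'2 : h ζ' = s)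
    (hζ'min : ∀ z : P, z ⤳ (h.fiberι s) y → h z = s → ζ' ⤳ z)
    (ξ : P) (hξζ : ξ ⤳ ζ') (hξ : h ξ ≠ s) :
    ∀ z : P, z ⤳ (h.fiberι s) y → ξ ⤳ z := by
  obtain ⟨p₀, hp₀def⟩ : ∃ p₀, (h.fiberι s) y = p₀ := ⟨_, rfl⟩
  have hp₀ : h ((h.fiberι s) y) = s := (h.fiberHomeo s y).2
  obtain ⟨hsurj, hker⟩ := Groth.Agent.S9501.result h s y
  let B := P.presheaf.stalk ((h.fiberι s) y)
  let σ : S.presheaf.stalk (h ((h.fiberι s) y)) →+* B := (h.stalkMap ((h.fiberι s) y)).hom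
  let I : Ideal B := Ideal.map σ (maximalIdeal (S.presheaf.stalk (h ((h.fiberι s) y))))
  have hIrad : I.IsRadical := by
    change (Ideal.map (h.stalkMap ((h.fiberι s) y)).hom
      (maximalIdeal (S.presheaf.stalk (h ((h.fiberι s) y))))).IsRadical
    rw [← hker]
    exact RingHom.ker_isRadical_iff_reduced_of_surjective hsurj |>.mpr hred
  obtain ⟨ϖ₀, hϖ₀⟩ := hprin
  have hI : I = Ideal.span {σ ϖ₀} := by
    change Ideal.map σ (maximalIdeal (S.presheaf.stalk (h ((h.fiberι s) y)))) = _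
    rw [hϖ₀, Ideal.map_span, Set.image_singleton]
  let φ := P.fromSpecStalk ((h.fiberι s) y)
  have hφemb : Topology.IsEmbedding φ.base := φ.isEmbedding
  have hrange : ∀ z : P, z ⤳ (h.fiberι s) y → ∃ 𝔯 : PrimeSpectrum B, φ.base 𝔯 = z := by
    intro z hz
    have : z ∈ Set.range φ.base := by
      rw [Scheme.range_fromSpecStalk]
      exact hz
    exact this
  have hspec : ∀ 𝔯 : PrimeSpectrum B, φ.base 𝔯 ⤳ (h.fiberι s) y := by
    intro 𝔯
    have : φ.base 𝔯 ∈ Set.range φ.base := ⟨𝔯, rfl⟩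
    rw [Scheme.range_fromSpecStalk] at this
    exact this
  have hle_iff : ∀ 𝔯₁ 𝔯₂ : PrimeSpectrum B, φ.base 𝔯₁ ⤳ φ.base 𝔯₂ ↔ 𝔯₁.asIdeal ≤ 𝔯₂.asIdeal := by
    intro 𝔯₁ 𝔯₂
    have h1 : φ.base 𝔯₁ ⤳ φ.base 𝔯₂ ↔ 𝔯₁ ⤳ 𝔯₂ := hφemb.isInducing.specializes_iff
    have h2 : 𝔯₁ ⤳ 𝔯₂ ↔ 𝔯₁ ≤ 𝔯₂ := (PrimeSpectrum.le_iff_specializes 𝔯₁ 𝔯₂).symm
    exact h1.trans h2
  -- points of the fibre
  have hfib : ∀ 𝔯 : PrimeSpectrum B, h (φ.base 𝔯) = s ↔ I ≤ 𝔯.asIdeal := by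
    intro 𝔯
    have hcomm : φ ≫ h = Spec.map (h.stalkMap ((h.fiberι s) y)) ≫
        S.fromSpecStalk (h ((h.fiberι s) y)) :=
      (Scheme.SpecMap_stalkMap_fromSpecStalk (f := h) (x := (h.fiberι s) y)).symm
    have h1 : h (φ.base 𝔯) = (S.fromSpecStalk (h ((h.fiberι s) y))).base
        ((Spec.map (h.stalkMap ((h.fiberι s) y))).base 𝔯) := by
      rw [← Scheme.Hom.comp_apply, ← Scheme.Hom.comp_apply, hcomm]
    let 𝔫 : PrimeSpectrum (S.presheaf.stalk (h ((h.fiberι s) y))) :=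
      (Spec.map (h.stalkMap ((h.fiberι s) y))).base 𝔯
    have h𝔫 : 𝔫.asIdeal = Ideal.comap σ 𝔯.asIdeal := rfl
    have hinj : Function.Injective (S.fromSpecStalk (h ((h.fiberι s) y))).base :=
      (S.fromSpecStalk (h ((h.fiberι s) y))).isEmbedding.injective
    have hcl : (S.fromSpecStalk (h ((h.fiberι s) y))).base
        (closedPoint (S.presheaf.stalk (h ((h.fiberι s) y)))) = h ((h.fiberι s) y) :=
      Scheme.fromSpecStalk_closedPoint
    constructor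
    · intro heq
      have heq' : (S.fromSpecStalk (h ((h.fiberι s) y))).base 𝔫 =
          (S.fromSpecStalk (h ((h.fiberι s) y))).base
            (closedPoint (S.presheaf.stalk (h ((h.fiberι s) y)))) :=
        (h1.symm.trans (heq.trans hp₀.symm)).trans hcl.symm
      have h2 : 𝔫 = closedPoint (S.presheaf.stalk (h ((h.fiberι s) y))) := hinj heq'
      have h3 : 𝔫.asIdeal = maximalIdeal _ := by rw [h2]; rfl
      rw [h𝔫] at h3
      change Ideal.map σ _ ≤ _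
      rw [Ideal.map_le_iff_le_comap, h3]
    · intro hle
      change Ideal.map σ _ ≤ _ at hle
      rw [Ideal.map_le_iff_le_comap, ← h𝔫] at hle
      have h3 : 𝔫.asIdeal = maximalIdeal _ :=
        ((IsLocalRing.maximalIdeal.isMaximal _).eq_of_le 𝔫.2.ne_top hle).symm
      have h2 : 𝔫 = closedPoint (S.presheaf.stalk (h ((h.fiberι s) y))) :=
        PrimeSpectrum.ext h3
      have h4 : (S.fromSpecStalk (h ((h.fiberι s) y))).base 𝔫 = h ((h.fiberι s) y) := by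
        rw [h2]; exact hcl
      exact (h1.trans h4).trans hp₀
  obtain ⟨𝔭', h𝔭'⟩ := hrange ζ' hζ'1
  obtain ⟨𝔮', h𝔮'⟩ := hrange ξ (hξζ.trans hζ'1)
  have hI𝔭' : I ≤ 𝔭'.asIdeal := (hfib 𝔭').mp (by rw [h𝔭']; exact hζ'2)
  have hmin : ∀ 𝔯 : PrimeSpectrum B, I ≤ 𝔯.asIdeal → 𝔭'.asIdeal ≤ 𝔯.asIdeal := by
    intro 𝔯 h𝔯
    rw [← hle_iff, h𝔭']
    exact hζ'min _ (hspec 𝔯) ((hfib 𝔯).mpr h𝔯)
  have hIeq : I = 𝔭'.asIdeal := by
    apply le_antisymm hI𝔭'
    rw [← hIrad.radical, Ideal.radical_eq_sInf]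
    refine le_sInf ?_
    rintro J ⟨hJ1, hJ2⟩
    exact hmin ⟨J, hJ2⟩ hJ1
  have h𝔮𝔭 : 𝔮'.asIdeal ≤ 𝔭'.asIdeal := by
    rw [← hle_iff, h𝔭', h𝔮']
    exact hξζ
  have hϖ : σ ϖ₀ ∉ 𝔮'.asIdeal := by
    intro hmem
    apply hξ
    rw [← h𝔮']
    refine (hfib 𝔮').mpr ?_
    rw [hI, Ideal.span_singleton_le_iff_mem]
    exact hmem
  -- Nakayama
  haveI : IsNoetherianRing B := inferInstance
  have hbot : 𝔮'.asIdeal = ⊥ := by
    have hfg : (𝔮'.asIdeal : Submodule B B).FG := IsNoetherian.noetherian _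
    refine Submodule.eq_bot_of_le_smul_of_le_jacobson_bot (Ideal.span {σ ϖ₀}) 𝔮'.asIdeal hfg ?_ ?_
    · intro b hb
      have hb' : b ∈ Ideal.span {σ ϖ₀} := by
        rw [← hI, hIeq]
        exact h𝔮𝔭 hb
      obtain ⟨b₁, rfl⟩ := Ideal.mem_span_singleton'.mp hb'
      have hb₁ : b₁ ∈ 𝔮'.asIdeal := (𝔮'.2.mem_or_mem hb).resolve_right hϖ
      rw [mul_comm]
      exact Submodule.smul_mem_smul (Ideal.mem_span_singleton_self _) hb₁
    · rw [IsLocalRing.jacobson_eq_maximalIdeal ⊥ bot_ne_top, ← hI, hIeq]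
      exact IsLocalRing.le_maximalIdeal 𝔭'.2.ne_top
  intro z hz
  obtain ⟨𝔯, h𝔯⟩ := hrange z hz
  rw [← h𝔯, ← h𝔮', hle_iff, hbot]
  exact bot_le

end Groth.Agent.Lib.Helper21.SecBC
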