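import Mathlib
import Groth.Agent.Lib.Helper21.SecBC2
import Groth.Agent.Lib.Helper21.SecBC3
import Groth.Agent.Lib.Helper21.DvrCrit1

/-!
# The case of a reduced fibre over a trait
-/

set_option autoImplicit false
set_option linter.style.haveILetI false
set_option linter.unusedSectionVars false
universe u

open AlgebraicGeometry CategoryTheory Limits TopologicalSpace IsLocalRing

namespace Groth.Agent.Lib.Helper21.SecBC

open Groth.Agent.Lib.Helper21.OpenAt Groth.Agent.Lib.Helper21.BaseChg
  Groth.Agent.Lib.Helper21.FibDim Groth.Agent.Lib.Helper21.DvrCrit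

/-- the maximal ideal of the local ring of a trait at its closed point is principal -/
theorem exists_span_singleton_maximalIdeal_stalk (A : Type u) [CommRing A] [IsDomain A]
    [IsDiscreteValuationRing A] (t : Spec (CommRingCat.of A)) (ht : t = closedPoint A) :
    ∃ ϖ₀, maximalIdeal ((Spec (CommRingCat.of A)).presheaf.stalk t) = Ideal.span {ϖ₀} := by
  subst ht
  let e₀ : (Spec (CommRingCat.of A)).presheaf.stalk (closedPoint A) ≃+* A :=
    (stalkClosedPointIso (CommRingCat.of A)).commRingCatIsoToRingEquiv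
  obtain ⟨π, hπ⟩ := IsDiscreteValuationRing.exists_irreducible A
  have hm : maximalIdeal A = Ideal.span {π} := hπ.maximalIdeal_eq
  refine ⟨e₀.symm π, ?_⟩
  ext x
  have hu : IsUnit (e₀ x) ↔ IsUnit x := isUnit_map_iff e₀ x
  have hmem : e₀ x ∈ maximalIdeal A ↔ ¬ IsUnit (e₀ x) := by
    rw [IsLocalRing.mem_maximalIdeal, mem_nonunits_iff]
  rw [IsLocalRing.mem_maximalIdeal, mem_nonunits_iff, ← hu, ← hmem, hm,
    Ideal.mem_span_singleton', Ideal.mem_span_singleton']
  constructor
  · rintro ⟨c, hc⟩
    refine ⟨e₀.symm c, e₀.injective ?_⟩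
    rw [map_mul, e₀.apply_symm_apply, e₀.apply_symm_apply, hc]
  · rintro ⟨c, hc⟩
    refine ⟨e₀ c, ?_⟩
    rw [← hc, map_mul, e₀.apply_symm_apply]

/-- geometric reducedness of a fibre at a point gives reducedness of the local rings of the
fibres of a base change at the points above it -/
theorem isReduced_stalk_fiber_of_isGeomReducedAt {X Y T P : Scheme.{u}} (f : X ⟶ Y) (a : T ⟶ Y)
    (fst : P ⟶ X) (snd : P ⟶ T) (hsq : IsPullback fst snd f a) (t : T) (y : snd.fiber t)
    (hα : FBase.IsGeomReducedAt (f.fiberToSpecResidueField (f (fst ((snd.fiberι t) y))))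
      (f.asFiber (fst ((snd.fiberι t) y)))) :
    _root_.IsReduced ((snd.fiber t).presheaf.stalk y) := by
  obtain ⟨x, hxdef⟩ : ∃ x, fst ((snd.fiberι t) y) = x := ⟨_, rfl⟩
  rw [hxdef] at hα
  have hsy : snd ((snd.fiberι t) y) = t := (snd.fiberHomeo t y).2
  have hfx : f x = a t := by
    have := congrArg (fun φ : P ⟶ Y => φ ((snd.fiberι t) y)) hsq.w
    simp only [Scheme.Hom.comp_apply] at this
    rw [← hxdef, this, hsy]
  have key' : ∀ (y₁ : Y) (hy₁ : f x = y₁), FBase.IsGeomReducedAt (f.fiberToSpecResidueField y₁)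
      ((f.fiberHomeo y₁).symm ⟨x, hy₁⟩) := by
    intro y₁ hy₁
    subst hy₁
    exact hα
  have hα' := key' (a t) hfx
  letI alg : Algebra (IsLocalRing.ResidueField (Y.presheaf.stalk (a t))) (T.residueField t) :=
    (a.residueFieldMap t).hom.toAlgebra
  obtain ⟨τ, hpb, hτ⟩ := exists_fiber_isPullback hsq t
  let φ := f.fiberToSpecResidueField (a t)
  have hpb' : IsPullback τ (snd.fiberToSpecResidueField t) φ
      (Spec.map (CommRingCat.ofHom (algebraMap (IsLocalRing.ResidueField (Y.presheaf.stalk (a t)))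
        (T.residueField t)))) := hpb
  let e : snd.fiber t ≅ FBase.bc φ (T.residueField t) := hpb'.isoPullback
  have he1 : e.hom ≫ FBase.bcπ φ (T.residueField t) = τ := hpb'.isoPullback_hom_fst
  have hinj : Function.Injective (f.fiberι (a t)).base := (f.fiberι (a t)).isEmbedding.injective
  have hx' : (FBase.bcπ φ (T.residueField t)).base (e.hom.base y) =
      (f.fiberHomeo (a t)).symm ⟨x, hfx⟩ := by
    apply hinj
    rw [f.fiberι_fiberHomeo_symm (a t) ⟨x, hfx⟩]
    change (f.fiberι (a t)) ((FBase.bcπ φ (T.residueField t)) (e.hom y)) = x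
    have h1 : (FBase.bcπ φ (T.residueField t)) (e.hom y) = τ y := by
      rw [← Scheme.Hom.comp_apply, he1]
    have h2 : (f.fiberι (a t)) (τ y) = fst ((snd.fiberι t) y) := by
      rw [← Scheme.Hom.comp_apply, hτ, Scheme.Hom.comp_apply]
    rw [h1, h2, hxdef]
  have hred' : _root_.IsReduced ((FBase.bc φ (T.residueField t)).presheaf.stalk (e.hom.base y)) :=
    hα' (T.residueField t) (e.hom.base y) hx'
  haveI : IsIso (e.hom.stalkMap y) := inferInstance
  let ψ := inv (e.hom.stalkMap y)
  have hψinj : Function.Injective ψ.hom := (ConcreteCategory.bijective_of_isIso ψ).1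
  exact isReduced_of_injective ψ.hom hψinj

/-- **over a trait**: if the morphism is universally open at the generic point of the component
of the closed fibre through the section and the closed fibre is reduced at the section, the
component of the generic fibre has at least the dimension of that of the closed fibre -/
theorem dim_le_dim_generic_of_reduced {P : Scheme.{u}} (A : Type u) [CommRing A] [IsDomain A]
    [IsDiscreteValuationRing A] (h : P ⟶ Spec (CommRingCat.of A)) [LocallyOfFiniteType h]
    (gT : Spec (CommRingCat.of A) ⟶ P) (hgT : gT ≫ h = 𝟙 _)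
    (s η : ↥(Spec (CommRingCat.of A))) (hs : s = closedPoint A) (hηs : η ⤳ s) (hne : η ≠ s)
    (hirr : IsIrreducible (connectedComponentIn (h.base ⁻¹' {s}) (gT.base s)))
    (hopen : ∀ ξ ∈ connectedComponentIn (h.base ⁻¹' {s}) (gT.base s),
      connectedComponentIn (h.base ⁻¹' {s}) (gT.base s) ⊆ closure {ξ} →
        EGA43.IsUnivOpenAt h ξ)
    (hred : ∀ y : h.fiber s, (h.fiberι s) y = gT s →
      _root_.IsReduced ((h.fiber s).presheaf.stalk y)) :
    topologicalKrullDim ↥(connectedComponentIn (h.base ⁻¹' {s}) (gT.base s)) ≤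
      topologicalKrullDim ↥(connectedComponentIn (h.base ⁻¹' {η}) (gT.base η)) := by
  haveI : IsLocallyNoetherian P := LocallyOfFiniteType.isLocallyNoetherian h
  have hsg : ∀ t, h (gT t) = t := fun t => by
    have := congrArg (fun φ : Spec (CommRingCat.of A) ⟶ Spec (CommRingCat.of A) => φ t) hgT
    simpa using this
  obtain ⟨ζ', ξ, hζ'C, hCeq, hξζ, hhξ, hFξ⟩ := exists_generization_of_isUnivOpenAt_generic h gT hgT
    s hirr hopen η hηs
  have hζ's' : ζ' ∈ h.base ⁻¹' {s} := connectedComponentIn_subset _ _ hζ'C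
  have hζ's : h ζ' = s := hζ's'
  -- the point of the fibre
  let y : h.fiber s := (h.fiberHomeo s).symm ⟨gT s, hsg _⟩
  have hy : (h.fiberι s) y = gT s := h.fiberι_fiberHomeo_symm s ⟨gT s, hsg _⟩
  have hprin := exists_span_singleton_maximalIdeal_stalk A (h ((h.fiberι s) y))
    (by rw [hy, hsg]; exact hs)
  have hgmem : gT s ∈ closure ({ζ'} : Set P) ∩ h.base ⁻¹' {s} := by
    rw [← hCeq]
    exact mem_connectedComponentIn (hsg _)
  have hζ'1 : ζ' ⤳ (h.fiberι s) y := by
    rw [hy]
    exact specializes_iff_mem_closure.mpr hgmem.1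
  have hζ'min : ∀ z : P, z ⤳ (h.fiberι s) y → h z = s → ζ' ⤳ z := by
    intro z hz hhz
    rw [hy] at hz
    have h1 := closure_inter_fiber_subset_connectedComponentIn h z (gT s) hz
      (by rw [hhz, hsg])
    have hzmem : z ∈ closure ({z} : Set P) ∩ h.base ⁻¹' {h (gT s)} :=
      ⟨subset_closure rfl, by rw [hsg]; exact hhz⟩
    have h2 := h1 hzmem
    rw [hsg] at h2
    rw [hCeq] at h2
    exact specializes_iff_mem_closure.mpr h2.1
  have hξne : h ξ ≠ s := by
    rw [hhξ]
    exact hne
  have hall := specializes_of_reduced_fibre h s y hprin (hred y hy) ζ' hζ'1 hζ's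
    hζ'min ξ hξζ hξne
  have hgspec : gT η ⤳ (h.fiberι s) y := by
    rw [hy]
    exact hηs.map gT.continuous
  have hξg : ξ ⤳ gT η := hall _ hgspec
  have h1 := closure_inter_fiber_subset_connectedComponentIn h ξ (gT η) hξg
    (by rw [hhξ, hsg])
  have hξmem : ξ ∈ closure ({ξ} : Set P) ∩ h.base ⁻¹' {h (gT η)} :=
    ⟨subset_closure rfl, by rw [hsg]; exact hhξ⟩
  have h2 := h1 hξmem
  rw [hsg] at h2
  have h3 : connectedComponentIn (h.base ⁻¹' {η}) (gT.base η) =
      connectedComponentIn (h.base ⁻¹' {η}) ξ := connectedComponentIn_eq h2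
  have h4 := fibreDimAt_le_topologicalKrullDim_connectedComponentIn h ξ
  rw [hhξ, ← h3, hFξ] at h4
  exact h4

end Groth.Agent.Lib.Helper21.SecBC
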