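import Mathlib
import Groth.Agent.Lib.Helper21.SecBC4
import Groth.Agent.Lib.Helper21.DVRExt3
import Groth.Agent.Lib.Helper18.FibSemi
import Groth.Agent.Lib.Helper6.PUO15

/-!
# EGA IV 15.6.7: local constancy of the dimension of the components through a section
-/

set_option autoImplicit false
set_option linter.style.haveILetI false
set_option linter.unusedSectionVars false
universe u

open AlgebraicGeometry CategoryTheory Limits TopologicalSpace IsLocalRing

namespace Groth.Agent.Lib.Helper21.SecBC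

open Groth.Agent.Lib.Helper21.OpenAt Groth.Agent.Lib.Helper21.BaseChg
  Groth.Agent.Lib.Helper21.FibDim Groth.Agent.Lib.Helper21.DvrCrit

variable {X Y : Scheme.{u}}

/-- the inequality for a generisation, case (α) -/
theorem dim_le_of_generization_of_geomReduced [IsLocallyNoetherian Y] (f : X ⟶ Y)
    [LocallyOfFiniteType f] (g : Y ⟶ X) (hg : g ≫ f = 𝟙 Y)
    (hgi : ∀ (y : Y) (K : Type u) [Field K] [Algebra (IsLocalRing.ResidueField (Y.presheaf.stalk y)) K],
      IsIrreducible ((FBase.bcπ (f.fiberToSpecResidueField y) K ≫ f.fiberι y).base ⁻¹'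
        (connectedComponentIn (f.base ⁻¹' {y}) (g.base y))))
    (y₀ : Y)
    (hopen : ∀ ξ ∈ connectedComponentIn (f.base ⁻¹' {y₀}) (g.base y₀),
      connectedComponentIn (f.base ⁻¹' {y₀}) (g.base y₀) ⊆ closure {ξ} → EGA43.IsUnivOpenAt f ξ)
    (hα : FBase.IsGeomReducedAt (f.fiberToSpecResidueField (f.base (g.base y₀)))
      (f.asFiber (g.base y₀)))
    (t : Y) (ht : t ⤳ y₀) (hne : t ≠ y₀) :
    topologicalKrullDim ↥(connectedComponentIn (f.base ⁻¹' {y₀}) (g.base y₀)) ≤
      topologicalKrullDim ↥(connectedComponentIn (f.base ⁻¹' {t}) (g.base t)) := by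
  have hfg : ∀ y : Y, f (g y) = y := fun y => by
    have := congrArg (fun φ : Y ⟶ Y => φ y) hg
    simpa using this
  obtain ⟨A, _, _, _, a, hac, hag⟩ :=
    Groth.Agent.Lib.Helper21.DVRExt.exists_dvr_of_specializes t y₀ ht hne
  obtain ⟨s, hs⟩ : ∃ s : ↥(Spec (CommRingCat.of A)), s = closedPoint A := ⟨_, rfl⟩
  obtain ⟨η, hη⟩ : ∃ η : ↥(Spec (CommRingCat.of A)), η = genPt A := ⟨_, rfl⟩
  have has : a s = y₀ := by rw [hs]; exact hac
  have haη : a η = t := by rw [hη]; exact hag
  have hηs : η ⤳ s := by rw [hη]; exact genPt_specializes A s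
  have hηne : η ≠ s := by rw [hη, hs]; exact genPt_ne_closedPoint A
  let fst := pullback.fst f a
  let snd := pullback.snd f a
  have hsq : IsPullback fst snd f a := IsPullback.of_hasPullback f a
  let gT : Spec (CommRingCat.of A) ⟶ pullback f a :=
    pullback.lift (a ≫ g) (𝟙 _) (by rw [Category.assoc, hg, Category.comp_id, Category.id_comp])
  have hgT1 : gT ≫ fst = a ≫ g := pullback.lift_fst _ _ _
  have hgT2 : gT ≫ snd = 𝟙 _ := pullback.lift_snd _ _ _
  haveI : LocallyOfFiniteType snd := MorphismProperty.of_isPullback (P := @LocallyOfFiniteType)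
    hsq inferInstance
  have hfacts := fun t => baseChange_facts f g hg hgi a fst snd hsq gT hgT1 hgT2 t
  have hfstg : ∀ t, fst (gT t) = g (a t) := fun t => by
    have := congrArg (fun φ : Spec (CommRingCat.of A) ⟶ X => φ t) hgT1
    simpa using this
  have hcomm : ∀ p : ↥(pullback f a), f (fst p) = a (snd p) := fun p => by
    have := congrArg (fun φ : pullback f a ⟶ Y => φ p) hsq.w
    simpa using this
  -- universal openness at the generic point upstairs
  have hopen' : ∀ ξ ∈ connectedComponentIn (snd.base ⁻¹' {s}) (gT.base s),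
      connectedComponentIn (snd.base ⁻¹' {s}) (gT.base s) ⊆ closure {ξ} →
        EGA43.IsUnivOpenAt snd ξ := by
    intro ξ hξ hsub
    refine Groth.Agent.Lib.Helper6.PUO.isUnivOpenAt_of_isPullback hsq ξ (hopen (fst ξ) ?_ ?_)
    · have h1 := (Set.ext_iff.mp (hfacts s).1 ξ).mp hξ
      have h2 : fst ξ ∈ connectedComponentIn (f.base ⁻¹' {a s}) (g.base (a s)) := h1.1
      rw [has] at h2
      exact h2
    · intro x hx
      have hfx' : x ∈ f.base ⁻¹' {y₀} := connectedComponentIn_subset _ _ hx
      have hfx : f x = a s := by rw [has]; exact hfx'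
      obtain ⟨p, hp1, hp2⟩ := Scheme.Pullback.exists_preimage_pullback (f := f) (g := a) x s hfx
      have hpC : p ∈ connectedComponentIn (snd.base ⁻¹' {s}) (gT.base s) := by
        refine (Set.ext_iff.mp (hfacts s).1 p).mpr ⟨?_, hp2⟩
        change fst p ∈ connectedComponentIn (f.base ⁻¹' {a s}) (g.base (a s))
        rw [hp1, has]
        exact hx
      have h3 : x ∈ fst.base '' closure ({ξ} : Set ↥(pullback f a)) := ⟨p, hsub hpC, hp1⟩
      have h4 := image_closure_subset_closure_image fst.continuous h3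
      rw [Set.image_singleton] at h4
      exact h4
  -- reducedness upstairs
  have hred' : ∀ y : snd.fiber s, (snd.fiberι s) y = gT s →
      _root_.IsReduced ((snd.fiber s).presheaf.stalk y) := by
    intro y hy
    refine isReduced_stalk_fiber_of_isGeomReducedAt f a fst snd hsq s y ?_
    have hx : fst ((snd.fiberι s) y) = g y₀ := by rw [hy, hfstg, has]
    rw [hx]
    exact hα
  have hmain := dim_le_dim_generic_of_reduced A snd gT hgT2 s η hs hηs hηne (hfacts s).2.1 hopen'
    hred'
  rw [(hfacts s).2.2, (hfacts η).2.2, has, haη] at hmain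
  exact hmain

/-- **EGA IV 15.6.7** -/
theorem dim_sectionComponent_const [IsLocallyNoetherian Y] (f : X ⟶ Y)
    [LocallyOfFiniteType f] (g : Y ⟶ X) (hg : g ≫ f = 𝟙 Y)
    (hgi : ∀ (y : Y) (K : Type u) [Field K] [Algebra (IsLocalRing.ResidueField (Y.presheaf.stalk y)) K],
      IsIrreducible ((FBase.bcπ (f.fiberToSpecResidueField y) K ≫ f.fiberι y).base ⁻¹'
        (connectedComponentIn (f.base ⁻¹' {y}) (g.base y))))
    (y₀ : Y)
    (hopen : ∀ ξ ∈ connectedComponentIn (f.base ⁻¹' {y₀}) (g.base y₀),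
      connectedComponentIn (f.base ⁻¹' {y₀}) (g.base y₀) ⊆ closure {ξ} → EGA43.IsUnivOpenAt f ξ)
    (hαβ : FBase.IsGeomReducedAt (f.fiberToSpecResidueField (f.base (g.base y₀)))
        (f.asFiber (g.base y₀)) ∨
      (∀ y' : Y, y₀ ∈ closure {y'} → closure {y'} ∈ irreducibleComponents (Y : Type u) →
        topologicalKrullDim ↥(f.fiber y') =
          topologicalKrullDim ↥(connectedComponentIn (f.base ⁻¹' {y'}) (g.base y')))) :
    ∃ V ∈ nhds y₀, ∀ z ∈ V,
      topologicalKrullDim ↥(connectedComponentIn (f.base ⁻¹' {z}) (g.base z)) =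
        topologicalKrullDim ↥(connectedComponentIn (f.base ⁻¹' {y₀}) (g.base y₀)) := by
  have hfg : ∀ y : Y, f (g y) = y := fun y => by
    have := congrArg (fun φ : Y ⟶ Y => φ y) hg
    simpa using this
  have hirrX := isIrreducible_sectionComponent f g hgi
  have key : ∀ y : Y, topologicalKrullDim ↥(connectedComponentIn (f.base ⁻¹' {y}) (g.base y)) =
      FlatMor.fibreDimAt f (g y) := by
    intro y
    have h1 := topologicalKrullDim_connectedComponentIn_eq_fibreDimAt f (g y)
      (by rw [hfg y]; exact hirrX y)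
    rw [hfg y] at h1
    exact h1
  obtain ⟨N, hN, -, -⟩ := exists_fibreDimAt_eq_trdeg f (g y₀)
  have hdim₀ : topologicalKrullDim ↥(connectedComponentIn (f.base ⁻¹' {y₀}) (g.base y₀)) = N := by
    rw [key, hN]
  -- upper semicontinuity
  have husc := (sectionComponent_usc_and_closure f g hg hirrX).1
  have hV₁ : ∀ᶠ z in nhds y₀,
      topologicalKrullDim ↥(connectedComponentIn (f.base ⁻¹' {z}) (g.base z)) <
        ((N + 1 : ℕ) : WithBot ℕ∞) := by
    refine husc y₀ _ ?_
    change topologicalKrullDim ↥(connectedComponentIn (f.base ⁻¹' {y₀}) (g.base y₀)) <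
      ((N + 1 : ℕ) : WithBot ℕ∞)
    rw [hdim₀]
    exact_mod_cast Nat.lt_succ_self N
  -- the closed set
  let E : Set Y := {z | (N : WithBot ℕ∞) ≤
    topologicalKrullDim ↥(connectedComponentIn (f.base ⁻¹' {z}) (g.base z))}
  have hEcl : IsClosed E := by
    have h1 : E = g.base ⁻¹' {x : X | (N : WithBot ℕ∞) ≤ FlatMor.fibreDimAt f x} := by
      ext z
      change (N : WithBot ℕ∞) ≤ _ ↔ (N : WithBot ℕ∞) ≤ FlatMor.fibreDimAt f (g z)
      rw [key]
    rw [h1]
    exact (Groth.Agent.Lib.Helper18.FibSemi.isClosed_setOf_le_fibreDimAt f N).preimage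
      g.continuous
  have hy₀E : y₀ ∈ E := by
    change (N : WithBot ℕ∞) ≤ _
    rw [hdim₀]
  have hgenE : ∀ t : Y, t ⤳ y₀ → t ∈ E := by
    rcases hαβ with hα | hβ
    · intro t ht
      by_cases hne : t = y₀
      · rw [hne]; exact hy₀E
      · change (N : WithBot ℕ∞) ≤ _
        rw [← hdim₀]
        exact dim_le_of_generization_of_geomReduced f g hg hgi y₀ hopen hα t ht hne
    · have hmax : ∀ t : Y, t ⤳ y₀ → closure {t} ∈ irreducibleComponents (Y : Type u) → t ∈ E := by
        intro t ht hcomp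
        obtain ⟨ζ, ξ, -, -, -, hfξ, hFξ⟩ := exists_generization_of_isUnivOpenAt_generic f g hg y₀
          (hirrX y₀) hopen t ht
        change (N : WithBot ℕ∞) ≤ _
        rw [← hβ t (specializes_iff_mem_closure.mp ht) hcomp, ← hdim₀, ← hFξ, ← hfξ]
        exact FibDim.fibreDimAt_le_topologicalKrullDim_fiber f ξ
      intro t ht
      obtain ⟨t', ht'⟩ := QuasiSober.sober (isIrreducible_irreducibleComponent (x := t))
        isClosed_irreducibleComponent
      have hcomp : closure ({t'} : Set Y) ∈ irreducibleComponents (Y : Type u) := by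
        rw [ht'.def]
        exact irreducibleComponent_mem_irreducibleComponents t
      have ht't : t' ⤳ t := by
        rw [specializes_iff_mem_closure, ht'.def]
        exact mem_irreducibleComponent
      have ht'E : t' ∈ E := hmax t' (ht't.trans ht) hcomp
      exact (closure_minimal (Set.singleton_subset_iff.mpr ht'E) hEcl)
        (specializes_iff_mem_closure.mp ht't)
  have hEnhds : E ∈ nhds y₀ := mem_nhds_of_isClosed_of_generizations E hEcl y₀ hgenE
  refine ⟨{z | topologicalKrullDim ↥(connectedComponentIn (f.base ⁻¹' {z}) (g.base z)) <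
        ((N + 1 : ℕ) : WithBot ℕ∞)} ∩ E, Filter.inter_mem hV₁ hEnhds, ?_⟩
  rintro z ⟨hz1, hz2⟩
  change topologicalKrullDim ↥(connectedComponentIn (f.base ⁻¹' {z}) (g.base z)) <
    ((N + 1 : ℕ) : WithBot ℕ∞) at hz1
  change (N : WithBot ℕ∞) ≤ _ at hz2
  rw [hdim₀]
  obtain ⟨M, hM, -, -⟩ := exists_fibreDimAt_eq_trdeg f (g z)
  rw [key, hM] at hz1 hz2 ⊢
  have h1 : M < N + 1 := by exact_mod_cast hz1
  have h2 : N ≤ M := by exact_mod_cast hz2
  have h3 : M = N := by omega
  rw [h3]

end Groth.Agent.Lib.Helper21.SecBC
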