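import Mathlib
import Groth.Agent.Lib.Helper21.SecBC5
import Groth.Agent.S3458
import Groth.Prelude.Def_MoreMor

/-!
# EGA IV 15.6.8, first part: local constancy of `dim X_y⁰` versus universal openness
-/

set_option autoImplicit false
set_option linter.style.haveILetI false
set_option linter.unusedSectionVars false
universe u

open AlgebraicGeometry CategoryTheory Limits TopologicalSpace IsLocalRing

namespace Groth.Agent.Lib.Helper21.SecOpen

variable {X Y : Scheme.{u}}

theorem section_apply (f : X ⟶ Y) (g : Y ⟶ X) (hg : g ≫ f = 𝟙 Y) (y : Y) : f (g y) = y := by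
  have := congrArg (fun φ : Y ⟶ Y => φ y) hg
  simpa using this

/-- membership in the union of the components through the section -/
theorem mem_sectionComponents_iff (f : X ⟶ Y) (g : Y ⟶ X) (x : X) :
    x ∈ MoreMor.sectionComponents f g ↔
      x ∈ connectedComponentIn (f.base ⁻¹' {f x}) (g.base (f x)) := Iff.rfl

theorem mem_sectionComponents_of_mem (f : X ⟶ Y) (g : Y ⟶ X) (y : Y) (x : X)
    (hx : x ∈ connectedComponentIn (f.base ⁻¹' {y}) (g.base y)) :
    x ∈ MoreMor.sectionComponents f g := by
  have hfx' : x ∈ f.base ⁻¹' {y} := connectedComponentIn_subset _ _ hx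
  have hfx : f x = y := hfx'
  rw [mem_sectionComponents_iff, hfx]
  exact hx

/-- geometric reducedness at the points of the components through the section -/
theorem isGeomReducedAt_of_hint (f : X ⟶ Y) (g : Y ⟶ X)
    (hred : ∀ (y : Y) (K : Type u) [Field K]
      [Algebra (IsLocalRing.ResidueField (Y.presheaf.stalk y)) K]
      (x' : ↥(FBase.bc (f.fiberToSpecResidueField y) K)),
      (FBase.bcπ (f.fiberToSpecResidueField y) K ≫ f.fiberι y).base x' ∈
        connectedComponentIn (f.base ⁻¹' {y}) (g.base y) →
      _root_.IsReduced ((FBase.bc (f.fiberToSpecResidueField y) K).presheaf.stalk x'))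
    (x : X) (hx : x ∈ MoreMor.sectionComponents f g) :
    FBase.IsGeomReducedAt (f.fiberToSpecResidueField (f x)) (f.asFiber x) := by
  intro K _ _ x' hx'
  refine hred (f x) K x' ?_
  rw [Scheme.Hom.comp_base, TopCat.coe_comp, Function.comp_apply, hx']
  have : (f.fiberι (f x)).base (f.asFiber x) = x := f.fiberι_asFiber x
  rw [this]
  exact hx

/-- **first part of EGA IV 15.6.8** -/
theorem isLocallyConstant_iff [IsLocallyNoetherian Y] (f : X ⟶ Y) [LocallyOfFiniteType f]
    (g : Y ⟶ X) (hg : g ≫ f = 𝟙 Y)
    (hgi : ∀ (y : Y) (K : Type u) [Field K]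
      [Algebra (IsLocalRing.ResidueField (Y.presheaf.stalk y)) K],
      IsIrreducible ((FBase.bcπ (f.fiberToSpecResidueField y) K ≫ f.fiberι y).base ⁻¹'
        (connectedComponentIn (f.base ⁻¹' {y}) (g.base y))))
    (hred : ∀ (y : Y) (K : Type u) [Field K]
      [Algebra (IsLocalRing.ResidueField (Y.presheaf.stalk y)) K]
      (x' : ↥(FBase.bc (f.fiberToSpecResidueField y) K)),
      (FBase.bcπ (f.fiberToSpecResidueField y) K ≫ f.fiberι y).base x' ∈
        connectedComponentIn (f.base ⁻¹' {y}) (g.base y) →
      _root_.IsReduced ((FBase.bc (f.fiberToSpecResidueField y) K).presheaf.stalk x')) :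
    IsLocallyConstant (fun y : Y =>
        topologicalKrullDim ↥(connectedComponentIn (f.base ⁻¹' {y}) (g.base y))) ↔
      ∀ x ∈ MoreMor.sectionComponents f g, EGA43.IsUnivOpenAt f x := by
  constructor
  · intro hlc x hx
    have hev := (IsLocallyConstant.iff_eventually_eq _).mp hlc (f x)
    refine Groth.Agent.S3458.result f g hg hgi (f x) ⟨_, hev, fun z hz => hz⟩ x hx
  · intro hopen
    rw [IsLocallyConstant.iff_eventually_eq]
    intro y₀
    obtain ⟨V, hV, hVeq⟩ := Groth.Agent.Lib.Helper21.SecBC.dim_sectionComponent_const f g hg hgi y₀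
      (fun ξ hξ _ => hopen ξ (mem_sectionComponents_of_mem f g y₀ ξ hξ))
      (Or.inl (isGeomReducedAt_of_hint f g hred (g y₀) (by
        rw [mem_sectionComponents_iff, section_apply f g hg y₀]
        exact mem_connectedComponentIn (section_apply f g hg y₀))))
    exact Filter.mem_of_superset hV hVeq
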