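import Mathlib
import Groth.Agent.Lib.Helper21.SecOpen1

/-!
# The union of the components through the section is stable under generisation
-/

set_option autoImplicit false
set_option linter.style.haveILetI false
set_option linter.unusedSectionVars false
universe u

open AlgebraicGeometry CategoryTheory Limits TopologicalSpace IsLocalRing

namespace Groth.Agent.Lib.Helper21.SecOpen

open Groth.Agent.Lib.Helper21.OpenAt Groth.Agent.Lib.Helper21.BaseChg
  Groth.Agent.Lib.Helper21.FibDim Groth.Agent.Lib.Helper21.DvrCrit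
  Groth.Agent.Lib.Helper21.SecBC

variable {X Y : Scheme.{u}}

/-- over a trait: a section through a point of the component of the closed fibre has its generic
point in the component of the generic fibre -/
theorem mem_generic_component_of_reduced {P : Scheme.{u}} (A : Type u) [CommRing A] [IsDomain A]
    [IsDiscreteValuationRing A] (h : P ⟶ Spec (CommRingCat.of A)) [LocallyOfFiniteType h]
    (gT : Spec (CommRingCat.of A) ⟶ P) (hgT : gT ≫ h = 𝟙 _)
    (σ : Spec (CommRingCat.of A) ⟶ P) (hσ : σ ≫ h = 𝟙 _)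
    (s η : ↥(Spec (CommRingCat.of A))) (hs : s = closedPoint A) (hηs : η ⤳ s) (hne : η ≠ s)
    (hirr : IsIrreducible (connectedComponentIn (h.base ⁻¹' {s}) (gT.base s)))
    (hopen : ∀ ξ ∈ connectedComponentIn (h.base ⁻¹' {s}) (gT.base s),
      connectedComponentIn (h.base ⁻¹' {s}) (gT.base s) ⊆ closure {ξ} →
        EGA43.IsUnivOpenAt h ξ)
    (hσs : σ s ∈ connectedComponentIn (h.base ⁻¹' {s}) (gT.base s))
    (hred : ∀ y : h.fiber s, (h.fiberι s) y ∈ connectedComponentIn (h.base ⁻¹' {s}) (gT.base s) →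
      _root_.IsReduced ((h.fiber s).presheaf.stalk y)) :
    σ η ∈ connectedComponentIn (h.base ⁻¹' {η}) (gT.base η) := by
  haveI : IsLocallyNoetherian P := LocallyOfFiniteType.isLocallyNoetherian h
  have hsg : ∀ t, h (gT t) = t := fun t => section_apply h gT hgT t
  have hsσ : ∀ t, h (σ t) = t := fun t => section_apply h σ hσ t
  obtain ⟨ζ', ξ, hζ'C, hCeq, hξζ, hhξ, -⟩ := exists_generization_of_isUnivOpenAt_generic h gT hgT
    s hirr hopen η hηs
  have hζ's' : ζ' ∈ h.base ⁻¹' {s} := connectedComponentIn_subset _ _ hζ'C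
  have hζ's : h ζ' = s := hζ's'
  have hξne : h ξ ≠ s := by
    rw [hhξ]
    exact hne
  -- the key claim for a point `p₀` of the component over `s`
  have key : ∀ p₀ : P, p₀ ∈ connectedComponentIn (h.base ⁻¹' {s}) (gT.base s) →
      ∀ z : P, z ⤳ p₀ → ξ ⤳ z := by
    intro p₀ hp₀
    have hp₀s' : p₀ ∈ h.base ⁻¹' {s} := connectedComponentIn_subset _ _ hp₀
    have hp₀s : h p₀ = s := hp₀s'
    let y : h.fiber s := (h.fiberHomeo s).symm ⟨p₀, hp₀s⟩
    have hy : (h.fiberι s) y = p₀ := h.fiberι_fiberHomeo_symm s ⟨p₀, hp₀s⟩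
    have hprin := exists_span_singleton_maximalIdeal_stalk A (h ((h.fiberι s) y))
      (by rw [hy, hp₀s]; exact hs)
    have hmem : p₀ ∈ closure ({ζ'} : Set P) ∩ h.base ⁻¹' {s} := by
      rw [← hCeq]
      exact hp₀
    have hζ'1 : ζ' ⤳ (h.fiberι s) y := by
      rw [hy]
      exact specializes_iff_mem_closure.mpr hmem.1
    have hCCeq : connectedComponentIn (h.base ⁻¹' {s}) p₀ =
        connectedComponentIn (h.base ⁻¹' {s}) (gT.base s) :=
      (connectedComponentIn_eq hp₀).symm
    have hζ'min : ∀ z : P, z ⤳ (h.fiberι s) y → h z = s → ζ' ⤳ z := by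
      intro z hz hhz
      rw [hy] at hz
      have h1 := closure_inter_fiber_subset_connectedComponentIn h z p₀ hz
        (by rw [hhz, hp₀s])
      have hzmem : z ∈ closure ({z} : Set P) ∩ h.base ⁻¹' {h p₀} :=
        ⟨subset_closure rfl, by rw [hp₀s]; exact hhz⟩
      have h2 := h1 hzmem
      rw [hp₀s, hCCeq, hCeq] at h2
      exact specializes_iff_mem_closure.mpr h2.1
    have hmain := specializes_of_reduced_fibre h s y hprin (hred y (by rw [hy]; exact hp₀))
      ζ' hζ'1 hζ's hζ'min ξ hξζ hξne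
    intro z hz
    exact hmain z (by rw [hy]; exact hz)
  have h1 : ξ ⤳ σ η := key (σ s) hσs (σ η) (hηs.map σ.continuous)
  have h2 : ξ ⤳ gT η := key (gT s) (mem_connectedComponentIn (hsg s)) (gT η)
    (hηs.map gT.continuous)
  have h3 := closure_inter_fiber_subset_connectedComponentIn h ξ (gT η) h2
    (by rw [hhξ, hsg])
  rw [hsg] at h3
  exact h3 ⟨specializes_iff_mem_closure.mp h1, hsσ η⟩

/-- **stability under generisation** of the union of the components through the section -/
theorem mem_sectionComponents_of_specializes [IsLocallyNoetherian Y] (f : X ⟶ Y)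
    [LocallyOfFiniteType f] (g : Y ⟶ X) (hg : g ≫ f = 𝟙 Y)
    (hgi : ∀ (y : Y) (K : Type u) [Field K]
      [Algebra (IsLocalRing.ResidueField (Y.presheaf.stalk y)) K],
      IsIrreducible ((FBase.bcπ (f.fiberToSpecResidueField y) K ≫ f.fiberι y).base ⁻¹'
        (connectedComponentIn (f.base ⁻¹' {y}) (g.base y))))
    (hred : ∀ (y : Y) (K : Type u) [Field K]
      [Algebra (IsLocalRing.ResidueField (Y.presheaf.stalk y)) K]
      (x' : ↥(FBase.bc (f.fiberToSpecResidueField y) K)),
      (FBase.bcπ (f.fiberToSpecResidueField y) K ≫ f.fiberι y).base x' ∈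
        connectedComponentIn (f.base ⁻¹' {y}) (g.base y) →
      _root_.IsReduced ((FBase.bc (f.fiberToSpecResidueField y) K).presheaf.stalk x'))
    (hopen : ∀ x ∈ MoreMor.sectionComponents f g, EGA43.IsUnivOpenAt f x)
    (x ζ : X) (hx : x ∈ MoreMor.sectionComponents f g) (hζx : ζ ⤳ x) :
    ζ ∈ MoreMor.sectionComponents f g := by
  haveI : IsLocallyNoetherian X := LocallyOfFiniteType.isLocallyNoetherian f
  have hfg : ∀ y : Y, f (g y) = y := fun y => section_apply f g hg y
  rw [mem_sectionComponents_iff] at hx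
  by_cases hfeq : f ζ = f x
  · have h1 := closure_inter_fiber_subset_connectedComponentIn f ζ x hζx hfeq
    have h2 : ζ ∈ connectedComponentIn (f.base ⁻¹' {f x}) x :=
      h1 ⟨subset_closure rfl, hfeq⟩
    rw [← connectedComponentIn_eq hx] at h2
    exact mem_sectionComponents_of_mem f g (f x) ζ h2
  have hne : ζ ≠ x := fun h => hfeq (by rw [h])
  obtain ⟨A, _, _, _, b, hbc, hbg⟩ :=
    Groth.Agent.Lib.Helper21.DVRExt.exists_dvr_of_specializes ζ x hζx hne
  obtain ⟨s, hs⟩ : ∃ s : ↥(Spec (CommRingCat.of A)), s = closedPoint A := ⟨_, rfl⟩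
  obtain ⟨η, hη⟩ : ∃ η : ↥(Spec (CommRingCat.of A)), η = genPt A := ⟨_, rfl⟩
  have hbs : b s = x := by rw [hs]; exact hbc
  have hbη : b η = ζ := by rw [hη]; exact hbg
  have hηs : η ⤳ s := by rw [hη]; exact genPt_specializes A s
  have hηne : η ≠ s := by rw [hη, hs]; exact genPt_ne_closedPoint A
  let a : Spec (CommRingCat.of A) ⟶ Y := b ≫ f
  have has : a s = f x := by
    change (b ≫ f) s = _
    rw [Scheme.Hom.comp_apply, hbs]
  have haη : a η = f ζ := by
    change (b ≫ f) η = _
    rw [Scheme.Hom.comp_apply, hbη]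
  let fst := pullback.fst f a
  let snd := pullback.snd f a
  have hsq : IsPullback fst snd f a := IsPullback.of_hasPullback f a
  let gT : Spec (CommRingCat.of A) ⟶ pullback f a :=
    pullback.lift (a ≫ g) (𝟙 _) (by rw [Category.assoc, hg, Category.comp_id, Category.id_comp])
  have hgT1 : gT ≫ fst = a ≫ g := pullback.lift_fst _ _ _
  have hgT2 : gT ≫ snd = 𝟙 _ := pullback.lift_snd _ _ _
  let σ : Spec (CommRingCat.of A) ⟶ pullback f a :=
    pullback.lift b (𝟙 _) (by rw [Category.id_comp])
  have hσ1 : σ ≫ fst = b := pullback.lift_fst _ _ _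
  have hσ2 : σ ≫ snd = 𝟙 _ := pullback.lift_snd _ _ _
  haveI : LocallyOfFiniteType snd := MorphismProperty.of_isPullback (P := @LocallyOfFiniteType)
    hsq inferInstance
  have hfacts := fun t => baseChange_facts f g hg hgi a fst snd hsq gT hgT1 hgT2 t
  have hfstσ : ∀ t, fst (σ t) = b t := fun t => by
    have := congrArg (fun φ : Spec (CommRingCat.of A) ⟶ X => φ t) hσ1
    simpa using this
  have hsndσ : ∀ t, snd (σ t) = t := fun t => section_apply snd σ hσ2 t
  -- universal openness upstairs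
  have hopen' : ∀ ξ ∈ connectedComponentIn (snd.base ⁻¹' {s}) (gT.base s),
      connectedComponentIn (snd.base ⁻¹' {s}) (gT.base s) ⊆ closure {ξ} →
        EGA43.IsUnivOpenAt snd ξ := by
    intro ξ hξ _
    refine Groth.Agent.Lib.Helper6.PUO.isUnivOpenAt_of_isPullback hsq ξ (hopen (fst ξ) ?_)
    have h1 := (Set.ext_iff.mp (hfacts s).1 ξ).mp hξ
    exact mem_sectionComponents_of_mem f g (a s) (fst ξ) h1.1
  -- reducedness upstairs
  have hred' : ∀ y : snd.fiber s,
      (snd.fiberι s) y ∈ connectedComponentIn (snd.base ⁻¹' {s}) (gT.base s) →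
      _root_.IsReduced ((snd.fiber s).presheaf.stalk y) := by
    intro y hy
    refine isReduced_stalk_fiber_of_isGeomReducedAt f a fst snd hsq s y ?_
    have h1 := (Set.ext_iff.mp (hfacts s).1 _).mp hy
    exact isGeomReducedAt_of_hint f g hred _
      (mem_sectionComponents_of_mem f g (a s) _ h1.1)
  have hσs : σ s ∈ connectedComponentIn (snd.base ⁻¹' {s}) (gT.base s) := by
    refine (Set.ext_iff.mp (hfacts s).1 (σ s)).mpr ⟨?_, hsndσ s⟩
    change fst (σ s) ∈ connectedComponentIn (f.base ⁻¹' {a s}) (g.base (a s))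
    rw [hfstσ, hbs, has]
    exact hx
  have hmain := mem_generic_component_of_reduced A snd gT hgT2 σ hσ2 s η hs hηs hηne
    (hfacts s).2.1 hopen' hσs hred'
  have h2 := (Set.ext_iff.mp (hfacts η).1 (σ η)).mp hmain
  have h3 : fst (σ η) ∈ connectedComponentIn (f.base ⁻¹' {a η}) (g.base (a η)) := h2.1
  rw [hfstσ, hbη] at h3
  exact mem_sectionComponents_of_mem f g (a η) ζ h3

end Groth.Agent.Lib.Helper21.SecOpen
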