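import Mathlib
import Groth.Agent.Lib.Helper21.SecOpen3

/-!
# Dictionary between points of an affine open and primes of its ring of sections
-/

set_option autoImplicit false
set_option linter.style.haveILetI false
set_option linter.unusedSectionVars false
universe u

open AlgebraicGeometry CategoryTheory Limits TopologicalSpace IsLocalRing

namespace Groth.Agent.Lib.Helper21.SecOpen

variable {X Y : Scheme.{u}}

theorem exists_fromSpec_eq {U : X.Opens} (hU : IsAffineOpen U) (z : X) (hz : z ∈ U) :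
    ∃ 𝔷 : PrimeSpectrum Γ(X, U), hU.fromSpec 𝔷 = z :=
  ⟨hU.primeIdealOf ⟨z, hz⟩, hU.fromSpec_primeIdealOf ⟨z, hz⟩⟩

theorem fromSpec_mem {U : X.Opens} (hU : IsAffineOpen U) (𝔷 : PrimeSpectrum Γ(X, U)) :
    hU.fromSpec 𝔷 ∈ U := by
  have : hU.fromSpec 𝔷 ∈ Set.range hU.fromSpec := ⟨𝔷, rfl⟩
  rw [hU.range_fromSpec] at this
  exact this

theorem fromSpec_injective {U : X.Opens} (hU : IsAffineOpen U) :
    Function.Injective hU.fromSpec :=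
  hU.fromSpec.isOpenEmbedding.injective

theorem fromSpec_specializes_iff {U : X.Opens} (hU : IsAffineOpen U)
    (𝔷₁ 𝔷₂ : PrimeSpectrum Γ(X, U)) :
    hU.fromSpec 𝔷₁ ⤳ hU.fromSpec 𝔷₂ ↔ 𝔷₁.asIdeal ≤ 𝔷₂.asIdeal := by
  have h1 : hU.fromSpec 𝔷₁ ⤳ hU.fromSpec 𝔷₂ ↔ 𝔷₁ ⤳ 𝔷₂ :=
    hU.fromSpec.isOpenEmbedding.isInducing.specializes_iff
  have h2 : 𝔷₁ ⤳ 𝔷₂ ↔ 𝔷₁ ≤ 𝔷₂ := (PrimeSpectrum.le_iff_specializes 𝔷₁ 𝔷₂).symm
  rw [h1, h2]
  rfl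

theorem fromSpec_mem_basicOpen_iff {U : X.Opens} (hU : IsAffineOpen U) (g₁ : Γ(X, U))
    (𝔷 : PrimeSpectrum Γ(X, U)) :
    hU.fromSpec 𝔷 ∈ X.basicOpen g₁ ↔ g₁ ∉ 𝔷.asIdeal := by
  have h := hU.fromSpec_preimage_basicOpen g₁
  have h1 : 𝔷 ∈ hU.fromSpec ⁻¹ᵁ X.basicOpen g₁ ↔ 𝔷 ∈ PrimeSpectrum.basicOpen g₁ := by
    rw [h]; rfl
  exact h1

theorem map_fromSpec (f : X ⟶ Y) {U : X.Opens} {V : Y.Opens} (hU : IsAffineOpen U)
    (hV : IsAffineOpen V) (e : U ≤ f ⁻¹ᵁ V) (𝔷 : PrimeSpectrum Γ(X, U)) :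
    f (hU.fromSpec 𝔷) = hV.fromSpec (PrimeSpectrum.comap (f.appLE V U e).hom 𝔷) := by
  have h := IsAffineOpen.SpecMap_appLE_fromSpec f hV hU e
  have h1 := congrArg (fun φ : Spec Γ(X, U) ⟶ Y => φ 𝔷) h
  simp only [Scheme.Hom.comp_apply] at h1
  exact h1.symm

end Groth.Agent.Lib.Helper21.SecOpen
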