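import Mathlib
import Groth.Agent.Lib.Helper21.SecOpen4
import Groth.Agent.Lib.Helper18.GFl5

/-!
# Charts of the fibre of a morphism over a field-valued point
-/

set_option autoImplicit false
set_option linter.style.haveILetI false
set_option linter.unusedSectionVars false
universe u

open AlgebraicGeometry CategoryTheory Limits TopologicalSpace

namespace Groth.Agent.Lib.Helper21.GIS

open Groth.Agent.Lib.Helper21.SecOpen

variable {X Y : Scheme.{u}}

/-- the point of `Y` defined by a ring map from the sections over an affine open to a field -/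
noncomputable def pt {V₀ : Y.Opens} (hV₀ : IsAffineOpen V₀) {K : Type u} [Field K]
    (ψ : Γ(Y, V₀) →+* K) : Spec (CommRingCat.of K) ⟶ Y :=
  Spec.map (CommRingCat.ofHom ψ) ≫ hV₀.fromSpec

theorem pt_apply {V₀ : Y.Opens} (hV₀ : IsAffineOpen V₀) {K : Type u} [Field K]
    (ψ : Γ(Y, V₀) →+* K) (s : Spec (CommRingCat.of K)) :
    pt hV₀ ψ s = hV₀.fromSpec ⟨RingHom.ker ψ, RingHom.ker_isPrime ψ⟩ := by
  unfold pt
  rw [Scheme.Hom.comp_apply]
  congr 1
  apply PrimeSpectrum.ext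
  change s.asIdeal.comap ψ = RingHom.ker ψ
  have h6 : s.asIdeal = ⊥ := by
    have := s.isPrime
    rcases Ideal.eq_bot_or_top s.asIdeal with h | h
    · exact h
    · exact absurd h this.ne_top
  rw [h6, RingHom.ker_eq_comap_bot]

theorem pt_mem {V₀ : Y.Opens} (hV₀ : IsAffineOpen V₀) {K : Type u} [Field K]
    (ψ : Γ(Y, V₀) →+* K) (s : Spec (CommRingCat.of K)) : pt hV₀ ψ s ∈ V₀ := by
  rw [pt_apply]
  exact fromSpec_mem hV₀ _

theorem top_le_pt {V₀ : Y.Opens} (hV₀ : IsAffineOpen V₀) {K : Type u} [Field K]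
    (ψ : Γ(Y, V₀) →+* K) : (⊤ : (Spec (CommRingCat.of K)).Opens) ≤ (pt hV₀ ψ) ⁻¹ᵁ V₀ :=
  fun s _ => pt_mem hV₀ ψ s

theorem pt_appLE {V₀ : Y.Opens} (hV₀ : IsAffineOpen V₀) {K : Type u} [Field K]
    (ψ : Γ(Y, V₀) →+* K) :
    (pt hV₀ ψ).appLE V₀ ⊤ (top_le_pt hV₀ ψ) ≫ (Scheme.ΓSpecIso (CommRingCat.of K)).hom =
      CommRingCat.ofHom ψ := by
  apply Spec.map_injective
  haveI : Mono hV₀.fromSpec := inferInstance
  rw [← cancel_mono hV₀.fromSpec, Spec.map_comp, Category.assoc,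
    IsAffineOpen.SpecMap_appLE_fromSpec (pt hV₀ ψ) hV₀ (isAffineOpen_top _) (top_le_pt hV₀ ψ)]
  rw [IsAffineOpen.fromSpec_top, Scheme.isoSpec_Spec_inv, ← Category.assoc, ← Spec.map_comp,
    Iso.inv_hom_id, Spec.map_id, Category.id_comp]
  rfl

/-- **charts of the fibre over a field-valued point**: the preimage of an affine open of `X` in
`X ×_Y Spec K` is the spectrum of the pushout -/
theorem exists_chart (f : X ⟶ Y) {V₀ : Y.Opens} (hV₀ : IsAffineOpen V₀) {K : Type u} [Field K]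
    (ψ : Γ(Y, V₀) →+* K) {U₀ : X.Opens} (hU₀ : IsAffineOpen U₀) (e : U₀ ≤ f ⁻¹ᵁ V₀) :
    ∃ (R : CommRingCat.{u}) (β : Γ(X, U₀) ⟶ R) (ω : CommRingCat.of K ⟶ R),
      IsPushout (f.appLE V₀ U₀ e) (CommRingCat.ofHom ψ) β ω ∧
      (PreirreducibleSpace (PrimeSpectrum R) ↔
        IsPreirreducible ((pullback.fst f (pt hV₀ ψ)).base ⁻¹' (U₀ : Set X))) ∧
      ∀ g : Γ(X, U₀), ((pullback.fst f (pt hV₀ ψ)).base ⁻¹' (X.basicOpen g : Set X)).Nonempty ↔
        ¬ IsNilpotent (β.hom g) := by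
  let a := pt hV₀ ψ
  let p := pullback.fst f a
  let q := pullback.snd f a
  have H : IsPullback p q f a := IsPullback.of_hasPullback f a
  let UY : (pullback f a).Opens := p ⁻¹ᵁ U₀ ⊓ q ⁻¹ᵁ ⊤
  have hUST := top_le_pt hV₀ ψ
  have hUY : IsAffineOpen UY :=
    Groth.Agent.Lib.Helper18.GFl.isAffineOpen_of_isPullback H hV₀ (isAffineOpen_top _) hU₀ hUST e rfl
  have hpush := Groth.Agent.Lib.Helper18.GFl.isPushout_appLE_of_isPullback H hV₀
    (isAffineOpen_top _) hU₀ hUST e (rfl : UY = p ⁻¹ᵁ U₀ ⊓ q ⁻¹ᵁ ⊤)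
  have hUYle : UY ≤ p ⁻¹ᵁ U₀ := inf_le_left
  have hUYmem : ∀ x' : ↥(pullback f a), x' ∈ UY ↔ p x' ∈ U₀ := by
    intro x'
    exact ⟨fun h => h.1, fun h => ⟨h, trivial⟩⟩
  let eK := Scheme.ΓSpecIso (CommRingCat.of K)
  have hpush' : IsPushout (f.appLE V₀ U₀ e) (a.appLE V₀ ⊤ hUST ≫ eK.hom)
      (p.appLE U₀ UY hUYle) (eK.inv ≫ q.appLE ⊤ UY inf_le_right) := by
    refine hpush.of_iso (Iso.refl _) (Iso.refl _) eK (Iso.refl _) ?_ ?_ ?_ ?_
    · simp
    · simp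
    · simp
    · simp
  rw [show a.appLE V₀ ⊤ hUST ≫ eK.hom = CommRingCat.ofHom ψ from pt_appLE hV₀ ψ] at hpush'
  have hpj : ∀ r : PrimeSpectrum Γ(pullback f a, UY),
      p (hUY.fromSpec r) = hU₀.fromSpec (PrimeSpectrum.comap (p.appLE U₀ UY hUYle).hom r) :=
    fun r => map_fromSpec p hUY hU₀ hUYle r
  have hset : (p.base ⁻¹' (U₀ : Set X)) = Set.range hUY.fromSpec := by
    rw [hUY.range_fromSpec]
    ext x'
    exact (hUYmem x').symm
  refine ⟨Γ(pullback f a, UY), p.appLE U₀ UY hUYle, eK.inv ≫ q.appLE ⊤ UY inf_le_right, hpush',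
    ⟨fun h => ?_, fun h => ?_⟩, fun g => ⟨?_, fun h => ?_⟩⟩
  · rw [hset, ← Set.image_univ]
    exact h.isPreirreducible_univ.image _ hUY.fromSpec.continuous.continuousOn
  · have h1 := h.preimage hUY.fromSpec.isOpenEmbedding
    rw [hset] at h1
    have h2 : hUY.fromSpec.base ⁻¹' Set.range hUY.fromSpec = Set.univ := by
      ext r
      simp only [Set.mem_preimage, Set.mem_univ, iff_true]
      exact ⟨r, rfl⟩
    rw [h2] at h1
    exact ⟨h1⟩
  · rintro ⟨x', hx'⟩ hnil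
    have hx'U : x' ∈ UY := (hUYmem x').mpr (X.basicOpen_le g hx')
    obtain ⟨r, rfl⟩ := exists_fromSpec_eq hUY x' hx'U
    change p (hUY.fromSpec r) ∈ X.basicOpen g at hx'
    rw [hpj, fromSpec_mem_basicOpen_iff] at hx'
    apply hx'
    change (p.appLE U₀ UY hUYle).hom g ∈ r.asIdeal
    obtain ⟨n, hn⟩ := hnil
    exact r.isPrime.mem_of_pow_mem n (by rw [hn]; exact r.asIdeal.zero_mem)
  · have h1 : PrimeSpectrum.basicOpen ((p.appLE U₀ UY hUYle).hom g) ≠ ⊥ := by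
      rw [Ne, PrimeSpectrum.basicOpen_eq_bot_iff]
      exact h
    obtain ⟨r, hr⟩ : ∃ r, r ∈ PrimeSpectrum.basicOpen ((p.appLE U₀ UY hUYle).hom g) := by
      by_contra hcon
      push Not at hcon
      exact h1 (by ext r; simpa using hcon r)
    refine ⟨hUY.fromSpec r, ?_⟩
    change p (hUY.fromSpec r) ∈ X.basicOpen g
    rw [hpj, fromSpec_mem_basicOpen_iff]
    exact hr

end Groth.Agent.Lib.Helper21.GIS
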