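import Mathlib

/-!
# Counting irreducible and connected components from a finite closed irreducible cover
-/

set_option autoImplicit false
set_option linter.style.haveILetI false
set_option linter.unusedSectionVars false
universe u

namespace Groth.Agent.Lib.Helper21.GIS

variable {P : Type*} [TopologicalSpace P] {J : Type*} [Finite J] (S : J → Set P)

/-- the number of irreducible components of a space covered by finitely many closed irreducible
subsets is the number of maximal members of the cover -/
theorem encard_irreducibleComponents_of_cover (hclosed : ∀ j, IsClosed (S j))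
    (hirr : ∀ j, IsIrreducible (S j)) (hcov : ∀ x, ∃ j, x ∈ S j) (le : J → J → Prop)
    (hle : ∀ i j, S i ⊆ S j ↔ le i j) (hanti : ∀ i j, le i j → le j i → i = j) :
    (irreducibleComponents P).encard = ENat.card {j : J // ∀ k, le j k → le k j} := by
  classical
  cases nonempty_fintype J
  have hsub : ∀ Z : Set P, IsIrreducible Z → ∃ k, Z ⊆ S k := by
    intro Z hZ
    obtain ⟨z, hz, hZz⟩ := isIrreducible_iff_sUnion_isClosed.mp hZ (Finset.univ.image S)
      (fun z hz => by
        obtain ⟨j, -, rfl⟩ := Finset.mem_image.mp hz
        exact hclosed j)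
      (fun x _ => by
        obtain ⟨j, hj⟩ := hcov x
        exact Set.mem_sUnion.mpr ⟨S j, Finset.mem_coe.mpr (Finset.mem_image_of_mem _
          (Finset.mem_univ j)), hj⟩)
    obtain ⟨k, -, rfl⟩ := Finset.mem_image.mp hz
    exact ⟨k, hZz⟩
  have hmem : ∀ j : {j : J // ∀ k, le j k → le k j}, S j.1 ∈ irreducibleComponents P := by
    rintro ⟨j, hj⟩
    refine ⟨hirr j, fun Z hZ hSZ => ?_⟩
    obtain ⟨k, hk⟩ := hsub Z hZ
    exact hk.trans ((hle k j).mpr (hj k ((hle j k).mp (hSZ.trans hk))))
  let F : {j : J // ∀ k, le j k → le k j} → irreducibleComponents P := fun j => ⟨S j.1, hmem j⟩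
  have hF : Function.Bijective F := by
    constructor
    · rintro ⟨i, hi⟩ ⟨j, hj⟩ hij
      have h1 : S i = S j := congrArg Subtype.val hij
      apply Subtype.ext
      exact hanti i j ((hle i j).mp h1.le) ((hle j i).mp h1.ge)
    · rintro ⟨Z, hZ⟩
      obtain ⟨k, hk⟩ := hsub Z hZ.1
      have hZk : Z = S k := subset_antisymm hk (hZ.2 (hirr k) hk)
      refine ⟨⟨k, fun l hkl => ?_⟩, Subtype.ext hZk.symm⟩
      have h1 : Z ⊆ S l := hk.trans ((hle k l).mpr hkl)
      have h2 : S l ⊆ Z := hZ.2 (hirr l) h1
      exact (hle l k).mp (h2.trans hk)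
  exact (ENat.card_congr (Equiv.ofBijective F hF)).symm

/-- the number of connected components of a space covered by finitely many closed connected
subsets is the number of connected components of the incidence graph -/
theorem card_connectedComponents_of_cover (hclosed : ∀ j, IsClosed (S j))
    (hconn : ∀ j, IsConnected (S j)) (hcov : ∀ x, ∃ j, x ∈ S j) (rel : J → J → Prop)
    (hrel : ∀ i j, (S i ∩ S j).Nonempty ↔ rel i j) :
    ENat.card (ConnectedComponents P) = ENat.card (Quot (Relation.ReflTransGen rel)) := by
  classical
  choose p hp using fun j => (hconn j).nonempty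
  have hstep : ∀ i j, rel i j → (p i : ConnectedComponents P) = p j := by
    intro i j hij
    rw [ConnectedComponents.coe_eq_coe']
    have hu : IsPreconnected (S i ∪ S j) :=
      IsPreconnected.union' ((hrel i j).mpr hij) (hconn i).isPreconnected (hconn j).isPreconnected
    exact hu.subset_connectedComponent (Or.inr (hp j)) (Or.inl (hp i))
  have hchain : ∀ i j, Relation.ReflTransGen rel i j → (p i : ConnectedComponents P) = p j := by
    intro i j h
    induction h with
    | refl => rfl
    | tail _ hbc ih => exact ih.trans (hstep _ _ hbc)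
  let F : Quot (Relation.ReflTransGen rel) → ConnectedComponents P :=
    Quot.lift (fun j => (p j : ConnectedComponents P)) hchain
  have hF : Function.Bijective F := by
    constructor
    · rintro ⟨i⟩ ⟨j⟩ hij
      apply Quot.sound
      have hij' : (p i : ConnectedComponents P) = p j := hij
      let I : Set J := {k | Relation.ReflTransGen rel i k}
      have hA : IsClosed (⋃ k ∈ I, S k) := (Set.toFinite I).isClosed_biUnion fun k _ => hclosed k
      have hB : IsClosed (⋃ k ∈ Iᶜ, S k) :=
        (Set.toFinite Iᶜ).isClosed_biUnion fun k _ => hclosed k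
      have hAB : (⋃ k ∈ I, S k)ᶜ = ⋃ k ∈ Iᶜ, S k := by
        ext x
        simp only [Set.mem_compl_iff, Set.mem_iUnion, exists_prop, not_exists, not_and]
        constructor
        · intro h
          obtain ⟨k, hk⟩ := hcov x
          exact ⟨k, fun hkI => h k hkI hk, hk⟩
        · rintro ⟨k, hkI, hk⟩ l hlI hl
          apply hkI
          exact Relation.ReflTransGen.tail hlI ((hrel l k).mp ⟨x, hl, hk⟩)
      have hclopen : IsClopen (⋃ k ∈ I, S k) :=
        ⟨hA, by rw [← isClosed_compl_iff, hAB]; exact hB⟩
      have hpi : p i ∈ ⋃ k ∈ I, S k :=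
        Set.mem_biUnion (Relation.ReflTransGen.refl : i ∈ I) (hp i)
      have hsub := hclopen.connectedComponent_subset hpi
      have hpj : p j ∈ connectedComponent (p i) := by
        rw [ConnectedComponents.coe_eq_coe] at hij'
        rw [hij']
        exact mem_connectedComponent
      have := hsub hpj
      simp only [Set.mem_iUnion, exists_prop] at this
      obtain ⟨k, hkI, hk⟩ := this
      exact Relation.ReflTransGen.tail hkI ((hrel k j).mp ⟨p j, hk, hp j⟩)
    · intro c
      obtain ⟨x, rfl⟩ := ConnectedComponents.surjective_coe c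
      obtain ⟨j, hj⟩ := hcov x
      refine ⟨Quot.mk _ j, ?_⟩
      change (p j : ConnectedComponents P) = x
      rw [ConnectedComponents.coe_eq_coe']
      exact (hconn j).isPreconnected.subset_connectedComponent hj (hp j)
  exact (ENat.card_congr (Equiv.ofBijective F hF)).symm

end Groth.Agent.Lib.Helper21.GIS
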