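import Mathlib
import Groth.Agent.Lib.Helper21.GIS1
import Groth.Agent.Lib.Helper21.GIR3

/-!
# Generic irreducibility of the geometric fibres: gluing the charts
-/

set_option autoImplicit false
set_option linter.style.haveILetI false
set_option linter.unusedSectionVars false
universe u

open AlgebraicGeometry CategoryTheory Limits TopologicalSpace

namespace Groth.Agent.Lib.Helper21.GIS

open Groth.Agent.Lib.Helper21.SecOpen Groth.Agent.Lib.Helper21.GIR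

/-- a space covered by preirreducible open subsets, the nonempty ones meeting pairwise, is
irreducible -/
theorem irreducibleSpace_of_cover {T : Type*} [TopologicalSpace T] {ι : Type*} (U : ι → Set T)
    (hopen : ∀ i, IsOpen (U i)) (hcov : ∀ x, ∃ i, x ∈ U i) (hpre : ∀ i, IsPreirreducible (U i))
    (hmeet : ∀ i j, (U i).Nonempty → (U j).Nonempty → (U i ∩ U j).Nonempty)
    (hne : ∃ i, (U i).Nonempty) : IrreducibleSpace T := by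
  obtain ⟨i₀, x₀, hx₀⟩ := hne
  haveI : Nonempty T := ⟨x₀⟩
  refine { isPreirreducible_univ := ?_, toNonempty := inferInstance }
  rintro O₁ O₂ hO₁ hO₂ ⟨x₁, -, hx₁⟩ ⟨x₂, -, hx₂⟩
  obtain ⟨i, hi⟩ := hcov x₁
  obtain ⟨j, hj⟩ := hcov x₂
  obtain ⟨z, hzi, hzj⟩ := hmeet i j ⟨x₁, hi⟩ ⟨x₂, hj⟩
  obtain ⟨w₁, hw₁i, hw₁O, hw₁j⟩ := hpre i O₁ (U j) hO₁ (hopen j) ⟨x₁, hi, hx₁⟩ ⟨z, hzi, hzj⟩
  obtain ⟨w₂, hw₂j, hw₂O₁, hw₂O₂⟩ := hpre j O₁ O₂ hO₁ hO₂ ⟨w₁, hw₁j, hw₁O⟩ ⟨x₂, hj, hx₂⟩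
  exact ⟨w₂, Set.mem_univ _, hw₂O₁, hw₂O₂⟩

variable {X Y : Scheme.{u}}

theorem map_fst_mem (f : X ⟶ Y) {V₀ : Y.Opens} (hV₀ : IsAffineOpen V₀) {K : Type u} [Field K]
    (ψ : Γ(Y, V₀) →+* K) (x : ↥(pullback f (pt hV₀ ψ))) :
    f (pullback.fst f (pt hV₀ ψ) x) ∈ V₀ := by
  have := congrArg (fun φ : pullback f (pt hV₀ ψ) ⟶ Y => φ x)
    (pullback.condition (f := f) (g := pt hV₀ ψ))
  simp only [Scheme.Hom.comp_apply] at this
  rw [this]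
  exact pt_mem hV₀ ψ _

set_option maxHeartbeats 1600000 in
/-- **generic irreducibility of the geometric fibres**, over the ring-level package -/
theorem exists_forall_irreducibleSpace_pullback (f : X ⟶ Y) [LocallyOfFiniteType f]
    {V₀ : Y.Opens} (hV₀ : IsAffineOpen V₀) (T : Finset X.affineOpens)
    (hT : ∀ W ∈ T, W.1 ≤ f ⁻¹ᵁ V₀) (hTcov : ∀ x : X, f x ∈ V₀ → ∃ W ∈ T, x ∈ W.1)
    (A' Ω : Type u) [CommRing A'] [IsDomain A'] [Field Ω] [IsAlgClosed Ω] [Algebra A' Ω]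
    [IsFractionRing A' Ω] [Algebra Γ(Y, V₀) A'] [Algebra Γ(Y, V₀) Ω]
    [IsScalarTower Γ(Y, V₀) A' Ω]
    [hΩ : IrreducibleSpace ↥(pullback f (pt hV₀ (algebraMap Γ(Y, V₀) Ω)))] :
    ∃ a' : A', a' ≠ 0 ∧ ∀ (L : Type u) [Field L] [Algebra A' L] [Algebra Γ(Y, V₀) L]
      [IsScalarTower Γ(Y, V₀) A' L], algebraMap A' L a' ≠ 0 →
      IrreducibleSpace ↥(pullback f (pt hV₀ (algebraMap Γ(Y, V₀) L))) := by
  classical
  let pΩ := pullback.fst f (pt hV₀ (algebraMap Γ(Y, V₀) Ω))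
  -- the functions cutting out the overlaps
  have hsel : ∀ W W' : X.affineOpens, ∃ g : Γ(X, W.1),
      ((pΩ.base ⁻¹' (W.1 : Set X) ∩ pΩ.base ⁻¹' (W'.1 : Set X)).Nonempty →
        X.basicOpen g ≤ W.1 ⊓ W'.1 ∧ (pΩ.base ⁻¹' (X.basicOpen g : Set X)).Nonempty) := by
    intro W W'
    by_cases h : (pΩ.base ⁻¹' (W.1 : Set X) ∩ pΩ.base ⁻¹' (W'.1 : Set X)).Nonempty
    · obtain ⟨x, hx, hx'⟩ := h
      obtain ⟨g, hg, hxg⟩ := W.2.exists_basicOpen_le (V := W.1 ⊓ W'.1) ⟨pΩ x, ⟨hx, hx'⟩⟩ hx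
      exact ⟨g, fun _ => ⟨hg, x, hxg⟩⟩
    · exact ⟨1, fun h' => absurd h' h⟩
  choose gsel hgsel using hsel
  let G : ∀ W : X.affineOpens, Finset Γ(X, W.1) := fun W => insert 1 (T.image (gsel W))
  -- the charts
  have hchart : ∀ W : X.affineOpens, W ∈ T → ∃ a' : A', a' ≠ 0 ∧ ∀ (L : Type u) [Field L]
      [Algebra A' L] [Algebra Γ(Y, V₀) L] [IsScalarTower Γ(Y, V₀) A' L],
      algebraMap A' L a' ≠ 0 →
      IsPreirreducible ((pullback.fst f (pt hV₀ (algebraMap Γ(Y, V₀) L))).base ⁻¹'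
        (W.1 : Set X)) ∧
      ∀ g ∈ G W, (((pullback.fst f (pt hV₀ (algebraMap Γ(Y, V₀) L))).base ⁻¹'
        (X.basicOpen g : Set X)).Nonempty ↔ (pΩ.base ⁻¹' (X.basicOpen g : Set X)).Nonempty) := by
    intro W hW
    obtain ⟨RΩ, βΩ, ωΩ, hpushΩ, hpreΩ, hnilΩ⟩ :=
      exists_chart f hV₀ (algebraMap Γ(Y, V₀) Ω) W.2 (hT W hW)
    letI : Algebra Γ(Y, V₀) Γ(X, W.1) := (f.appLE V₀ W.1 (hT W hW)).hom.toAlgebra
    haveI : Algebra.FiniteType Γ(Y, V₀) Γ(X, W.1) :=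
      HasRingHomProperty.appLE (P := @LocallyOfFiniteType) f inferInstance ⟨V₀, hV₀⟩ W (hT W hW)
    have hpre : PreirreducibleSpace (PrimeSpectrum RΩ) :=
      hpreΩ.mpr ((IrreducibleSpace.isIrreducible_univ _).isPreirreducible.open_subset
        (W.1.isOpen.preimage pΩ.continuous) (Set.subset_univ _))
    obtain ⟨a', ha', H⟩ := exists_generic_chart Γ(Y, V₀) A' Ω (G W) βΩ.hom ωΩ.hom hpushΩ hpre
    refine ⟨a', ha', fun L _ _ _ _ hL => ?_⟩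
    obtain ⟨R, β, ω, hpush, hpreL, hnilL⟩ :=
      exists_chart f hV₀ (algebraMap Γ(Y, V₀) L) W.2 (hT W hW)
    obtain ⟨h1, h2⟩ := H L hL R β.hom ω.hom hpush
    exact ⟨hpreL.mp h1, fun g hg => by rw [hnilL, hnilΩ, h2 g hg]⟩
  choose! aa haa0 haa using hchart
  refine ⟨∏ W ∈ T, aa W, Finset.prod_ne_zero_iff.mpr fun W hW => haa0 W hW,
    fun L _ _ _ _ hL => ?_⟩
  have hLW : ∀ W ∈ T, algebraMap A' L (aa W) ≠ 0 := by
    intro W hW h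
    apply hL
    rw [map_prod]
    exact Finset.prod_eq_zero hW h
  let pL := pullback.fst f (pt hV₀ (algebraMap Γ(Y, V₀) L))
  have hone : ∀ W ∈ T, ((pL.base ⁻¹' (W.1 : Set X)).Nonempty ↔
      (pΩ.base ⁻¹' (W.1 : Set X)).Nonempty) := by
    intro W hW
    have := (haa W hW L (hLW W hW)).2 1 (Finset.mem_insert_self _ _)
    rwa [Scheme.basicOpen_one] at this
  refine irreducibleSpace_of_cover (ι := {W : X.affineOpens // W ∈ T})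
    (fun W => pL.base ⁻¹' (W.1.1 : Set X)) (fun W => W.1.1.isOpen.preimage pL.continuous)
    (fun x => ?_) (fun W => (haa W.1 W.2 L (hLW W.1 W.2)).1) (fun W W' hW hW' => ?_) ?_
  · obtain ⟨W, hW, hxW⟩ := hTcov (pL x) (map_fst_mem f hV₀ _ x)
    exact ⟨⟨W, hW⟩, hxW⟩
  · have h1 := (hone W.1 W.2).mp hW
    have h2 := (hone W'.1 W'.2).mp hW'
    have h3 : (pΩ.base ⁻¹' (W.1.1 : Set X) ∩ pΩ.base ⁻¹' (W'.1.1 : Set X)).Nonempty :=
      nonempty_preirreducible_inter (W.1.1.isOpen.preimage pΩ.continuous)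
        (W'.1.1.isOpen.preimage pΩ.continuous) h1 h2
    obtain ⟨h4, h5⟩ := hgsel W.1 W'.1 h3
    have h6 : gsel W.1 W'.1 ∈ G W.1 :=
      Finset.mem_insert_of_mem (Finset.mem_image_of_mem _ W'.2)
    obtain ⟨x, hx⟩ := ((haa W.1 W.2 L (hLW W.1 W.2)).2 _ h6).mpr h5
    exact ⟨x, (h4 hx).1, (h4 hx).2⟩
  · obtain ⟨x₀⟩ : Nonempty ↥(pullback f (pt hV₀ (algebraMap Γ(Y, V₀) Ω))) := hΩ.toNonempty
    obtain ⟨W, hW, hxW⟩ := hTcov (pΩ x₀) (map_fst_mem f hV₀ _ x₀)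
    exact ⟨⟨W, hW⟩, (hone W hW).mpr ⟨x₀, hxW⟩⟩

end Groth.Agent.Lib.Helper21.GIS
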