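import Mathlib
import Groth.Agent.Lib.Helper21.GIS1

/-!
# Charts of the fibre over a field-valued point, in tensor form
-/

set_option autoImplicit false
set_option linter.style.haveILetI false
set_option linter.unusedSectionVars false
universe u

open AlgebraicGeometry CategoryTheory Limits TopologicalSpace TensorProduct

namespace Groth.Agent.Lib.Helper21.GIS

open Groth.Agent.Lib.Helper21.SecOpen

variable {X Y : Scheme.{u}}

/-- charts of the fibre over a field-valued point, with the parametrisation -/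
theorem exists_chart' (f : X ⟶ Y) {V₀ : Y.Opens} (hV₀ : IsAffineOpen V₀) {K : Type u} [Field K]
    (ψ : Γ(Y, V₀) →+* K) {U₀ : X.Opens} (hU₀ : IsAffineOpen U₀) (e : U₀ ≤ f ⁻¹ᵁ V₀) :
    ∃ (R : CommRingCat.{u}) (β : Γ(X, U₀) ⟶ R) (ω : CommRingCat.of K ⟶ R)
      (φ : PrimeSpectrum R → ↥(pullback f (pt hV₀ ψ))),
      IsPushout (f.appLE V₀ U₀ e) (CommRingCat.ofHom ψ) β ω ∧ Topology.IsOpenEmbedding φ ∧
      Set.range φ = (pullback.fst f (pt hV₀ ψ)).base ⁻¹' (U₀ : Set X) ∧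
      ∀ r, pullback.fst f (pt hV₀ ψ) (φ r) = hU₀.fromSpec (PrimeSpectrum.comap β.hom r) := by
  let a := pt hV₀ ψ
  let p := pullback.fst f a
  let q := pullback.snd f a
  have H : IsPullback p q f a := IsPullback.of_hasPullback f a
  let UY : (pullback f a).Opens := p ⁻¹ᵁ U₀ ⊓ q ⁻¹ᵁ ⊤
  have hUST := top_le_pt hV₀ ψ
  have hUY : IsAffineOpen UY :=
    Groth.Agent.Lib.Helper18.GFl.isAffineOpen_of_isPullback H hV₀ (isAffineOpen_top _) hU₀ hUST e rfl
  have hpush := Groth.Agent.Lib.Helper18.GFl.isPushout_appLE_of_isPullback H hV₀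
    (isAffineOpen_top _) hU₀ hUST e (rfl : UY = p ⁻¹ᵁ U₀ ⊓ q ⁻¹ᵁ ⊤)
  have hUYle : UY ≤ p ⁻¹ᵁ U₀ := inf_le_left
  have hUYmem : ∀ x' : ↥(pullback f a), x' ∈ UY ↔ p x' ∈ U₀ := by
    intro x'
    exact ⟨fun h => h.1, fun h => ⟨h, trivial⟩⟩
  let eK := Scheme.ΓSpecIso (CommRingCat.of K)
  have hpush' : IsPushout (f.appLE V₀ U₀ e) (a.appLE V₀ ⊤ hUST ≫ eK.hom)
      (p.appLE U₀ UY hUYle) (eK.inv ≫ q.appLE ⊤ UY inf_le_right) := by
    refine hpush.of_iso (Iso.refl _) (Iso.refl _) eK (Iso.refl _) ?_ ?_ ?_ ?_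
    · simp
    · simp
    · simp
    · simp
  rw [show a.appLE V₀ ⊤ hUST ≫ eK.hom = CommRingCat.ofHom ψ from pt_appLE hV₀ ψ] at hpush'
  refine ⟨Γ(pullback f a, UY), p.appLE U₀ UY hUYle, eK.inv ≫ q.appLE ⊤ UY inf_le_right,
    hUY.fromSpec, hpush', hUY.fromSpec.isOpenEmbedding, ?_, fun r => map_fromSpec p hUY hU₀ hUYle r⟩
  ext x'
  constructor
  · rintro ⟨r, rfl⟩
    exact (hUYmem _).mp (fromSpec_mem hUY r)
  · intro hx'
    obtain ⟨r, hr⟩ := exists_fromSpec_eq hUY x' ((hUYmem x').mpr hx')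
    exact ⟨r, hr⟩

/-- a pushout square of commutative rings computes a tensor product -/
theorem exists_ringEquiv_of_isPushout' {B C K R : Type u} [CommRing B] [CommRing C]
    [CommRing K] [CommRing R] [Algebra B C] [Algebra B K] (β : C →+* R) (ω : K →+* R)
    (hpush : IsPushout (CommRingCat.ofHom (algebraMap B C))
      (CommRingCat.ofHom (algebraMap B K)) (CommRingCat.ofHom β) (CommRingCat.ofHom ω)) :
    ∃ e : K ⊗[B] C ≃+* R, ∀ g : C, e ((1 : K) ⊗ₜ[B] g) = β g := by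
  letI := β.toAlgebra
  letI := ω.toAlgebra
  letI : Algebra B R := (β.comp (algebraMap B C)).toAlgebra
  haveI : IsScalarTower B C R := .of_algebraMap_eq' rfl
  have hw : β.comp (algebraMap B C) = ω.comp (algebraMap B K) :=
    congrArg CommRingCat.Hom.hom hpush.w
  haveI : IsScalarTower B K R := .of_algebraMap_eq' hw
  have hP : Algebra.IsPushout B C K R := CommRingCat.isPushout_iff_isPushout.mp hpush
  haveI : Algebra.IsPushout B K C R := hP.symm
  let e₂ : K ⊗[B] C ≃ₐ[K] R := Algebra.IsPushout.equiv B K C R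
  refine ⟨e₂.toRingEquiv, fun g => ?_⟩
  change e₂ _ = _
  rw [Algebra.IsPushout.equiv_tmul, map_one, one_mul]
  rfl

/-- **charts of the fibre over a field-valued point, in tensor form** -/
theorem exists_chart_tensor (f : X ⟶ Y) {V₀ : Y.Opens} (hV₀ : IsAffineOpen V₀) {K : Type u}
    [Field K] [Algebra Γ(Y, V₀) K] {U₀ : X.Opens} (hU₀ : IsAffineOpen U₀) (e : U₀ ≤ f ⁻¹ᵁ V₀)
    [Algebra Γ(Y, V₀) Γ(X, U₀)]
    (halg : algebraMap Γ(Y, V₀) Γ(X, U₀) = (f.appLE V₀ U₀ e).hom) :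
    ∃ φ : PrimeSpectrum (K ⊗[Γ(Y, V₀)] Γ(X, U₀)) →
        ↥(pullback f (pt hV₀ (algebraMap Γ(Y, V₀) K))),
      Topology.IsOpenEmbedding φ ∧
      Set.range φ = (pullback.fst f (pt hV₀ (algebraMap Γ(Y, V₀) K))).base ⁻¹' (U₀ : Set X) ∧
      ∀ r, pullback.fst f (pt hV₀ (algebraMap Γ(Y, V₀) K)) (φ r) =
        hU₀.fromSpec (PrimeSpectrum.comap (Algebra.TensorProduct.includeRight :
          Γ(X, U₀) →ₐ[Γ(Y, V₀)] K ⊗[Γ(Y, V₀)] Γ(X, U₀)).toRingHom r) := by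
  obtain ⟨R, β, ω, φ₀, hpush, hφ₀, hrange, hmap⟩ :=
    exists_chart' f hV₀ (algebraMap Γ(Y, V₀) K) hU₀ e
  have hpush' : IsPushout (CommRingCat.ofHom (algebraMap Γ(Y, V₀) Γ(X, U₀)))
      (CommRingCat.ofHom (algebraMap Γ(Y, V₀) K)) (CommRingCat.ofHom β.hom)
      (CommRingCat.ofHom ω.hom) := by
    rw [halg]
    exact hpush
  obtain ⟨eR, heR⟩ := exists_ringEquiv_of_isPushout' β.hom ω.hom hpush'
  let hom := PrimeSpectrum.homeomorphOfRingEquiv eR.symm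
  -- `hom : PrimeSpectrum R ≃ₜ PrimeSpectrum (K ⊗ C)`
  refine ⟨φ₀ ∘ hom.symm, hφ₀.comp hom.symm.isOpenEmbedding, ?_, fun r => ?_⟩
  · rw [Set.range_comp, hom.symm.surjective.range_eq, Set.image_univ, hrange]
  · rw [Function.comp_apply, hmap]
    congr 1
    apply PrimeSpectrum.ext
    ext c
    change β.hom c ∈ (hom.symm r).asIdeal ↔ (1 : K) ⊗ₜ[Γ(Y, V₀)] c ∈ r.asIdeal
    rw [← heR c]
    change eR.symm (eR _) ∈ r.asIdeal ↔ _
    rw [RingEquiv.symm_apply_apply]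

end Groth.Agent.Lib.Helper21.GIS
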