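import Mathlib
import Groth.Agent.Lib.Helper21.GIS5
import Groth.Agent.Lib.Helper21.GIR5

/-!
# Generic structure of the geometric fibres over a base whose ring of functions has an
algebraically closed fraction field: single charts
-/

set_option autoImplicit false
set_option linter.style.haveILetI false
set_option linter.unusedSectionVars false
universe u

open AlgebraicGeometry CategoryTheory Limits TopologicalSpace TensorProduct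

namespace Groth.Agent.Lib.Helper21.GIS

open Groth.Agent.Lib.Helper21.SecOpen Groth.Agent.Lib.Helper21.GIR

/-- a set covered by open subsets on which it is preirreducible, meeting pairwise, is
irreducible -/
theorem isIrreducible_of_cover {T : Type*} [TopologicalSpace T] (S : Set T) {ι : Type*}
    (U : ι → Set T) (hopen : ∀ i, IsOpen (U i)) (hcov : ∀ x ∈ S, ∃ i, x ∈ U i)
    (hpre : ∀ i, IsPreirreducible (S ∩ U i))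
    (hmeet : ∀ i j, (S ∩ U i).Nonempty → (S ∩ U j).Nonempty → (S ∩ (U i ∩ U j)).Nonempty)
    (hne : S.Nonempty) : IsIrreducible S := by
  refine ⟨hne, ?_⟩
  rintro O₁ O₂ hO₁ hO₂ ⟨x₁, hx₁S, hx₁⟩ ⟨x₂, hx₂S, hx₂⟩
  obtain ⟨i, hi⟩ := hcov x₁ hx₁S
  obtain ⟨j, hj⟩ := hcov x₂ hx₂S
  obtain ⟨z, hzS, hzi, hzj⟩ := hmeet i j ⟨x₁, hx₁S, hi⟩ ⟨x₂, hx₂S, hj⟩
  obtain ⟨w₁, ⟨hw₁S, hw₁i⟩, hw₁O, hw₁j⟩ := hpre i O₁ (U j) hO₁ (hopen j)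
    ⟨x₁, ⟨hx₁S, hi⟩, hx₁⟩ ⟨z, ⟨hzS, hzi⟩, hzj⟩
  obtain ⟨w₂, ⟨hw₂S, hw₂j⟩, hw₂O₁, hw₂O₂⟩ := hpre j O₁ O₂ hO₁ hO₂
    ⟨w₁, ⟨hw₁S, hw₁j⟩, hw₁O⟩ ⟨x₂, ⟨hx₂S, hj⟩, hx₂⟩
  exact ⟨w₂, hw₂S, hw₂O₁, hw₂O₂⟩

variable {X Y : Scheme.{u}}

/-- the generic point of an affine open whose ring of functions is a domain -/
noncomputable def gpt {V₀ : Y.Opens} (hV₀ : IsAffineOpen V₀) [IsDomain Γ(Y, V₀)] : Y :=
  hV₀.fromSpec ⟨⊥, Ideal.isPrime_bot⟩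

section chart

variable (f : X ⟶ Y) [LocallyOfFiniteType f] {V₀ : Y.Opens} (hV₀ : IsAffineOpen V₀)
  [IsDomain Γ(Y, V₀)] (Ω : Type u) [Field Ω] [IsAlgClosed Ω] [Algebra Γ(Y, V₀) Ω]
  [IsFractionRing Γ(Y, V₀) Ω] {W : X.Opens} (hW : IsAffineOpen W) (hle : W ≤ f ⁻¹ᵁ V₀)

theorem comap_eq_bot_iff (𝔷 : PrimeSpectrum Γ(X, W)) :
    f (hW.fromSpec 𝔷) = gpt hV₀ ↔ 𝔷.asIdeal.comap (f.appLE V₀ W hle).hom = ⊥ := by
  rw [map_fromSpec f hW hV₀ hle 𝔷]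
  unfold gpt
  constructor
  · intro h
    exact congrArg PrimeSpectrum.asIdeal (fromSpec_injective hV₀ h)
  · intro h
    congr 1
    exact PrimeSpectrum.ext h

include Ω hW hle in
/-- (A1) irreducibility on a chart -/
theorem exists_isPreirreducible_chart (ξ : X) (hξW : ξ ∈ W) (hξ : f ξ = gpt hV₀)
    (G : Finset Γ(X, W)) :
    ∃ a' : Γ(Y, V₀), a' ≠ 0 ∧ ∀ (L : Type u) [Field L] [Algebra Γ(Y, V₀) L],
      algebraMap Γ(Y, V₀) L a' ≠ 0 →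
      IsPreirreducible ((pullback.fst f (pt hV₀ (algebraMap Γ(Y, V₀) L))).base ⁻¹'
          (closure {ξ}) ∩
        (pullback.fst f (pt hV₀ (algebraMap Γ(Y, V₀) L))).base ⁻¹' (W : Set X)) ∧
      ∀ g ∈ G, ξ ∈ X.basicOpen g →
        ((pullback.fst f (pt hV₀ (algebraMap Γ(Y, V₀) L))).base ⁻¹' (closure {ξ}) ∩
          (pullback.fst f (pt hV₀ (algebraMap Γ(Y, V₀) L))).base ⁻¹'
            (X.basicOpen g : Set X)).Nonempty := by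
  classical
  letI : Algebra Γ(Y, V₀) Γ(X, W) := (f.appLE V₀ W hle).hom.toAlgebra
  haveI : Algebra.FiniteType Γ(Y, V₀) Γ(X, W) :=
    HasRingHomProperty.appLE (P := @LocallyOfFiniteType) f inferInstance ⟨V₀, hV₀⟩ ⟨W, hW⟩ hle
  obtain ⟨𝔮, h𝔮⟩ := exists_fromSpec_eq hW ξ hξW
  haveI : 𝔮.asIdeal.IsPrime := 𝔮.isPrime
  have hbot : 𝔮.asIdeal.comap (f.appLE V₀ W hle).hom = ⊥ :=
    (comap_eq_bot_iff f hV₀ hW hle 𝔮).mp (by rw [h𝔮, hξ])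
  haveI : FaithfulSMul Γ(Y, V₀) (Γ(X, W) ⧸ 𝔮.asIdeal) := by
    rw [faithfulSMul_iff_algebraMap_injective, injective_iff_map_eq_zero]
    intro b hb
    have h1 : algebraMap Γ(Y, V₀) Γ(X, W) b ∈ 𝔮.asIdeal := by
      rw [← Ideal.Quotient.eq_zero_iff_mem]
      exact hb
    have h2 : b ∈ 𝔮.asIdeal.comap (f.appLE V₀ W hle).hom := h1
    rw [hbot] at h2
    exact h2
  obtain ⟨a', ha', H⟩ := exists_isPreirreducible_zeroLocus Γ(Y, V₀) Ω Γ(X, W) 𝔮.asIdeal G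
  refine ⟨a', ha', fun L _ _ hL => ?_⟩
  obtain ⟨h1, h2⟩ := H L hL
  obtain ⟨φ, hφ, hrange, hmap⟩ := exists_chart_tensor f hV₀ (K := L) hW hle rfl
  -- the trace of `closure {ξ}` on the chart
  have hmem : ∀ r : PrimeSpectrum (L ⊗[Γ(Y, V₀)] Γ(X, W)),
      pullback.fst f (pt hV₀ (algebraMap Γ(Y, V₀) L)) (φ r) ∈ closure ({ξ} : Set X) ↔
      𝔮.asIdeal.map (Algebra.TensorProduct.includeRight :
        Γ(X, W) →ₐ[Γ(Y, V₀)] L ⊗[Γ(Y, V₀)] Γ(X, W)) ≤ r.asIdeal := by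
    intro r
    rw [← specializes_iff_mem_closure, hmap, ← h𝔮, fromSpec_specializes_iff,
      Ideal.map_le_iff_le_comap]
    rfl
  have hset : (pullback.fst f (pt hV₀ (algebraMap Γ(Y, V₀) L))).base ⁻¹' (closure {ξ}) ∩
      (pullback.fst f (pt hV₀ (algebraMap Γ(Y, V₀) L))).base ⁻¹' (W : Set X) =
      φ '' (PrimeSpectrum.zeroLocus ((𝔮.asIdeal.map (Algebra.TensorProduct.includeRight :
        Γ(X, W) →ₐ[Γ(Y, V₀)] L ⊗[Γ(Y, V₀)] Γ(X, W)) : Ideal _) :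
          Set (L ⊗[Γ(Y, V₀)] Γ(X, W)))) := by
    ext x
    constructor
    · rintro ⟨hx1, hx2⟩
      rw [← hrange] at hx2
      obtain ⟨r, rfl⟩ := hx2
      exact ⟨r, (hmem r).mp hx1, rfl⟩
    · rintro ⟨r, hr, rfl⟩
      refine ⟨(hmem r).mpr hr, ?_⟩
      rw [← hrange]
      exact ⟨r, rfl⟩
  refine ⟨?_, fun g hg hξg => ?_⟩
  · rw [hset]
    exact h1.image _ hφ.continuous.continuousOn
  · have hg𝔮 : g ∉ 𝔮.asIdeal := by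
      rw [← fromSpec_mem_basicOpen_iff hW g 𝔮, h𝔮]
      exact hξg
    obtain ⟨r, hr1, hr2⟩ := h2 g hg hg𝔮
    refine ⟨φ r, (hmem r).mpr hr1, ?_⟩
    change pullback.fst f (pt hV₀ (algebraMap Γ(Y, V₀) L)) (φ r) ∈ X.basicOpen g
    rw [hmap, fromSpec_mem_basicOpen_iff]
    exact hr2

include Ω hW hle in
/-- (B1) covering on a chart -/
theorem exists_cover_chart :
    ∃ Ξ : Finset X, (∀ ξ ∈ Ξ, f ξ = gpt hV₀) ∧ ∃ a' : Γ(Y, V₀), a' ≠ 0 ∧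
      ∀ (L : Type u) [Field L] [Algebra Γ(Y, V₀) L], algebraMap Γ(Y, V₀) L a' ≠ 0 →
      ∀ x : ↥(pullback f (pt hV₀ (algebraMap Γ(Y, V₀) L))),
        pullback.fst f (pt hV₀ (algebraMap Γ(Y, V₀) L)) x ∈ W →
        ∃ ξ ∈ Ξ, pullback.fst f (pt hV₀ (algebraMap Γ(Y, V₀) L)) x ∈ closure ({ξ} : Set X) := by
  classical
  letI : Algebra Γ(Y, V₀) Γ(X, W) := (f.appLE V₀ W hle).hom.toAlgebra
  haveI : Algebra.FiniteType Γ(Y, V₀) Γ(X, W) :=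
    HasRingHomProperty.appLE (P := @LocallyOfFiniteType) f inferInstance ⟨V₀, hV₀⟩ ⟨W, hW⟩ hle
  obtain ⟨M, hM, hnil⟩ := exists_finset_primes Γ(Y, V₀) Ω Γ(X, W)
  obtain ⟨a', ha', H⟩ := exists_forall_exists_map_le Γ(Y, V₀) Γ(X, W) M hnil
  refine ⟨M.attach.image (fun 𝔮 => hW.fromSpec ⟨𝔮.1, (hM 𝔮.1 𝔮.2).1⟩), ?_, a', ha',
    fun L _ _ hL x hx => ?_⟩
  · intro ξ hξ
    obtain ⟨𝔮, -, rfl⟩ := Finset.mem_image.mp hξ
    exact (comap_eq_bot_iff f hV₀ hW hle _).mpr (hM 𝔮.1 𝔮.2).2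
  · obtain ⟨φ, hφ, hrange, hmap⟩ := exists_chart_tensor f hV₀ (K := L) hW hle rfl
    have hx' : x ∈ Set.range φ := by rw [hrange]; exact hx
    obtain ⟨r, rfl⟩ := hx'
    obtain ⟨𝔮, h𝔮, hle𝔮⟩ := H L hL r
    refine ⟨hW.fromSpec ⟨𝔮, (hM 𝔮 h𝔮).1⟩, Finset.mem_image.mpr ⟨⟨𝔮, h𝔮⟩, Finset.mem_attach _ _, rfl⟩, ?_⟩
    rw [← specializes_iff_mem_closure, hmap, fromSpec_specializes_iff]
    rw [Ideal.map_le_iff_le_comap] at hle𝔮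
    exact hle𝔮

include hW hle in
/-- (C1) disjointness on a chart -/
theorem exists_disjoint_chart (ξ₁ ξ₂ : X)
    (hno : ¬ ∃ x : X, f x = gpt hV₀ ∧ ξ₁ ⤳ x ∧ ξ₂ ⤳ x) :
    ∃ a' : Γ(Y, V₀), a' ≠ 0 ∧ ∀ (L : Type u) [Field L] [Algebra Γ(Y, V₀) L],
      algebraMap Γ(Y, V₀) L a' ≠ 0 →
      ∀ x : ↥(pullback f (pt hV₀ (algebraMap Γ(Y, V₀) L))),
        pullback.fst f (pt hV₀ (algebraMap Γ(Y, V₀) L)) x ∈ W →
        ¬ (pullback.fst f (pt hV₀ (algebraMap Γ(Y, V₀) L)) x ∈ closure ({ξ₁} : Set X) ∧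
          pullback.fst f (pt hV₀ (algebraMap Γ(Y, V₀) L)) x ∈ closure ({ξ₂} : Set X)) := by
  classical
  by_cases hW12 : ξ₁ ∈ W ∧ ξ₂ ∈ W
  swap
  · refine ⟨1, one_ne_zero, fun L _ _ _ x hx hcon => ?_⟩
    apply hW12
    exact ⟨(specializes_iff_mem_closure.mpr hcon.1).mem_open W.isOpen hx,
      (specializes_iff_mem_closure.mpr hcon.2).mem_open W.isOpen hx⟩
  obtain ⟨hξ₁W, hξ₂W⟩ := hW12
  letI : Algebra Γ(Y, V₀) Γ(X, W) := (f.appLE V₀ W hle).hom.toAlgebra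
  haveI : Algebra.FiniteType Γ(Y, V₀) Γ(X, W) :=
    HasRingHomProperty.appLE (P := @LocallyOfFiniteType) f inferInstance ⟨V₀, hV₀⟩ ⟨W, hW⟩ hle
  obtain ⟨𝔮₁, h𝔮₁⟩ := exists_fromSpec_eq hW ξ₁ hξ₁W
  obtain ⟨𝔮₂, h𝔮₂⟩ := exists_fromSpec_eq hW ξ₂ hξ₂W
  obtain ⟨s, hs, hsI⟩ := exists_mem_of_forall_comap_ne_bot Γ(Y, V₀) Γ(X, W)
    (𝔮₁.asIdeal ⊔ 𝔮₂.asIdeal) (by
      intro 𝔯 h𝔯 hI hbot
      apply hno
      refine ⟨hW.fromSpec ⟨𝔯, h𝔯⟩, (comap_eq_bot_iff f hV₀ hW hle _).mpr hbot, ?_, ?_⟩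
      · rw [← h𝔮₁, fromSpec_specializes_iff]
        exact le_sup_left.trans hI
      · rw [← h𝔮₂, fromSpec_specializes_iff]
        exact le_sup_right.trans hI)
  refine ⟨s, hs, fun L _ _ hL x hx hcon => ?_⟩
  obtain ⟨φ, hφ, hrange, hmap⟩ := exists_chart_tensor f hV₀ (K := L) hW hle rfl
  have hx' : x ∈ Set.range φ := by rw [hrange]; exact hx
  obtain ⟨r, rfl⟩ := hx'
  apply not_map_le_of_mem Γ(Y, V₀) Γ(X, W) (𝔮₁.asIdeal ⊔ 𝔮₂.asIdeal) s hsI L hL r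
  rw [Ideal.map_sup, sup_le_iff, Ideal.map_le_iff_le_comap, Ideal.map_le_iff_le_comap]
  obtain ⟨h1, h2⟩ := hcon
  rw [← specializes_iff_mem_closure, hmap, ← h𝔮₁, fromSpec_specializes_iff] at h1
  rw [← specializes_iff_mem_closure, hmap, ← h𝔮₂, fromSpec_specializes_iff] at h2
  exact ⟨h1, h2⟩

end chart

end Groth.Agent.Lib.Helper21.GIS
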