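import Mathlib
import Groth.Agent.Lib.Helper21.GIS6
import Groth.Agent.Lib.Helper21.GIS3

/-!
# Generic structure of the geometric fibres over a base whose ring of functions has an
algebraically closed fraction field: gluing the charts
-/

set_option autoImplicit false
set_option linter.style.haveILetI false
set_option linter.unusedSectionVars false
universe u

open AlgebraicGeometry CategoryTheory Limits TopologicalSpace TensorProduct

namespace Groth.Agent.Lib.Helper21.GIS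

open Groth.Agent.Lib.Helper21.SecOpen Groth.Agent.Lib.Helper21.GIR

/-- connectedness of a space covered by finitely many closed connected subsets is decided by the
incidence graph -/
theorem connectedSpace_iff_of_cover {P : Type*} [TopologicalSpace P] {J : Type*} [Finite J]
    (S : J → Set P) (hclosed : ∀ j, IsClosed (S j)) (hconn : ∀ j, IsConnected (S j))
    (hcov : ∀ x, ∃ j, x ∈ S j) (rel : J → J → Prop)
    (hrel : ∀ i j, (S i ∩ S j).Nonempty ↔ rel i j) :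
    ConnectedSpace P ↔ Nonempty J ∧ ∀ i j, Relation.ReflTransGen rel i j := by
  constructor
  · intro hP
    obtain ⟨x₀⟩ : Nonempty P := hP.toNonempty
    obtain ⟨j₀, -⟩ := hcov x₀
    refine ⟨⟨j₀⟩, fun i j => ?_⟩
    let I : Set J := {k | Relation.ReflTransGen rel i k}
    have hA : IsClosed (⋃ k ∈ I, S k) := (Set.toFinite I).isClosed_biUnion fun k _ => hclosed k
    have hB : IsClosed (⋃ k ∈ Iᶜ, S k) := (Set.toFinite Iᶜ).isClosed_biUnion fun k _ => hclosed k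
    have hAB : (⋃ k ∈ I, S k)ᶜ = ⋃ k ∈ Iᶜ, S k := by
      ext x
      simp only [Set.mem_compl_iff, Set.mem_iUnion, exists_prop, not_exists, not_and]
      constructor
      · intro h
        obtain ⟨k, hk⟩ := hcov x
        exact ⟨k, fun hkI => h k hkI hk, hk⟩
      · rintro ⟨k, hkI, hk⟩ l hlI hl
        apply hkI
        exact Relation.ReflTransGen.tail hlI ((hrel l k).mp ⟨x, hl, hk⟩)
    have hclopen : IsClopen (⋃ k ∈ I, S k) := ⟨hA, by rw [← isClosed_compl_iff, hAB]; exact hB⟩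
    rcases isClopen_iff.mp hclopen with h | h
    · exfalso
      obtain ⟨x, hx⟩ := (hconn i).nonempty
      have : x ∈ ⋃ k ∈ I, S k := Set.mem_biUnion (Relation.ReflTransGen.refl : i ∈ I) hx
      rw [h] at this
      exact this
    · obtain ⟨x, hx⟩ := (hconn j).nonempty
      have : x ∈ ⋃ k ∈ I, S k := by rw [h]; exact Set.mem_univ x
      simp only [Set.mem_iUnion, exists_prop] at this
      obtain ⟨k, hkI, hk⟩ := this
      exact Relation.ReflTransGen.tail hkI ((hrel k j).mp ⟨x, hk, hx⟩)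
  · rintro ⟨⟨j₀⟩, h⟩
    obtain ⟨x₀, -⟩ := (hconn j₀).nonempty
    haveI : Nonempty P := ⟨x₀⟩
    refine { isPreconnected_univ := ?_, toNonempty := inferInstance }
    have huniv : (Set.univ : Set P) = ⋃ j, S j := by
      ext x
      simp only [Set.mem_univ, Set.mem_iUnion, true_iff]
      exact hcov x
    rw [huniv]
    refine IsPreconnected.iUnion_of_reflTransGen (fun j => (hconn j).isPreconnected) fun i j => ?_
    exact Relation.ReflTransGen.mono (fun a b hab => (hrel a b).mpr hab) i j (h i j)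

variable {X Y : Scheme.{u}}

theorem gpt_mem {V₀ : Y.Opens} (hV₀ : IsAffineOpen V₀) [IsDomain Γ(Y, V₀)] : gpt hV₀ ∈ V₀ :=
  fromSpec_mem hV₀ _

section assembly

variable (f : X ⟶ Y) [LocallyOfFiniteType f] {V₀ : Y.Opens} (hV₀ : IsAffineOpen V₀)
  [IsDomain Γ(Y, V₀)] (Ω : Type u) [Field Ω] [IsAlgClosed Ω] [Algebra Γ(Y, V₀) Ω]
  [IsFractionRing Γ(Y, V₀) Ω] (T : Finset X.affineOpens) (hT : ∀ W ∈ T, W.1 ≤ f ⁻¹ᵁ V₀)
  (hTcov : ∀ x : X, f x ∈ V₀ → ∃ W ∈ T, x ∈ W.1)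

include Ω hT hTcov in
/-- (A) the preimage of the closure of a point of the generic fibre is generically irreducible -/
theorem exists_isIrreducible_preimage_closure (ξ : X) (hξ : f ξ = gpt hV₀) :
    ∃ a' : Γ(Y, V₀), a' ≠ 0 ∧ ∀ (L : Type u) [Field L] [Algebra Γ(Y, V₀) L],
      algebraMap Γ(Y, V₀) L a' ≠ 0 →
      IsIrreducible ((pullback.fst f (pt hV₀ (algebraMap Γ(Y, V₀) L))).base ⁻¹'
        (closure {ξ})) := by
  classical
  have hsel : ∀ W W' : X.affineOpens, ∃ g : Γ(X, W.1),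
      (ξ ∈ W.1 → ξ ∈ W'.1 → ξ ∈ X.basicOpen g ∧ X.basicOpen g ≤ W.1 ⊓ W'.1) := by
    intro W W'
    by_cases h : ξ ∈ W.1 ∧ ξ ∈ W'.1
    · obtain ⟨g, hg, hξg⟩ := W.2.exists_basicOpen_le (V := W.1 ⊓ W'.1) ⟨ξ, h⟩ h.1
      exact ⟨g, fun _ _ => ⟨hξg, hg⟩⟩
    · exact ⟨1, fun h1 h2 => absurd ⟨h1, h2⟩ h⟩
  choose gsel hgsel using hsel
  have hchart : ∀ W : X.affineOpens, W ∈ T → ξ ∈ W.1 → ∃ a' : Γ(Y, V₀), a' ≠ 0 ∧
      ∀ (L : Type u) [Field L] [Algebra Γ(Y, V₀) L], algebraMap Γ(Y, V₀) L a' ≠ 0 →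
      IsPreirreducible ((pullback.fst f (pt hV₀ (algebraMap Γ(Y, V₀) L))).base ⁻¹'
          (closure {ξ}) ∩
        (pullback.fst f (pt hV₀ (algebraMap Γ(Y, V₀) L))).base ⁻¹' (W.1 : Set X)) ∧
      ∀ g ∈ T.image (gsel W), ξ ∈ X.basicOpen g →
        ((pullback.fst f (pt hV₀ (algebraMap Γ(Y, V₀) L))).base ⁻¹' (closure {ξ}) ∩
          (pullback.fst f (pt hV₀ (algebraMap Γ(Y, V₀) L))).base ⁻¹'
            (X.basicOpen g : Set X)).Nonempty :=
    fun W hW hξW => exists_isPreirreducible_chart f hV₀ Ω W.2 (hT W hW) ξ hξW hξ _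
  choose! aa haa0 haa using hchart
  refine ⟨∏ W ∈ T.filter (fun W => ξ ∈ W.1), aa W, Finset.prod_ne_zero_iff.mpr fun W hW =>
    haa0 W (Finset.mem_filter.mp hW).1 (Finset.mem_filter.mp hW).2, fun L _ _ hL => ?_⟩
  have hLW : ∀ W ∈ T, ξ ∈ W.1 → algebraMap Γ(Y, V₀) L (aa W) ≠ 0 := by
    intro W hW hξW h
    apply hL
    rw [map_prod]
    exact Finset.prod_eq_zero (Finset.mem_filter.mpr ⟨hW, hξW⟩) h
  let pL := pullback.fst f (pt hV₀ (algebraMap Γ(Y, V₀) L))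
  have hmeet : ∀ W ∈ T, ξ ∈ W.1 → ∀ W' ∈ T, ξ ∈ W'.1 →
      (pL.base ⁻¹' (closure {ξ}) ∩ (pL.base ⁻¹' (W.1 : Set X) ∩
        pL.base ⁻¹' (W'.1 : Set X))).Nonempty := by
    intro W hW hξW W' hW' hξW'
    obtain ⟨h1, h2⟩ := hgsel W W' hξW hξW'
    obtain ⟨x, hx1, hx2⟩ := (haa W hW hξW L (hLW W hW hξW)).2 (gsel W W')
      (Finset.mem_image_of_mem _ hW') h1
    exact ⟨x, hx1, (h2 hx2).1, (h2 hx2).2⟩
  obtain ⟨W₀, hW₀, hξW₀⟩ := hTcov ξ (by rw [hξ]; exact gpt_mem hV₀)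
  refine isIrreducible_of_cover _ (ι := {W : X.affineOpens // W ∈ T ∧ ξ ∈ W.1})
    (fun W => pL.base ⁻¹' (W.1.1 : Set X)) (fun W => W.1.1.isOpen.preimage pL.continuous)
    (fun x hx => ?_) (fun W => (haa W.1 W.2.1 W.2.2 L (hLW W.1 W.2.1 W.2.2)).1)
    (fun W W' _ _ => hmeet W.1 W.2.1 W.2.2 W'.1 W'.2.1 W'.2.2) ?_
  · obtain ⟨W, hW, hxW⟩ := hTcov (pL x) (map_fst_mem f hV₀ _ x)
    exact ⟨⟨W, hW, (specializes_iff_mem_closure.mpr hx).mem_open W.1.isOpen hxW⟩, hxW⟩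
  · obtain ⟨x, hx, -⟩ := hmeet W₀ hW₀ hξW₀ W₀ hW₀ hξW₀
    exact ⟨x, hx⟩

include Ω hT hTcov in
/-- (B) finitely many closures of points of the generic fibre cover generically -/
theorem exists_cover : ∃ Ξ : Finset X, (∀ ξ ∈ Ξ, f ξ = gpt hV₀) ∧ ∃ a' : Γ(Y, V₀), a' ≠ 0 ∧
    ∀ (L : Type u) [Field L] [Algebra Γ(Y, V₀) L], algebraMap Γ(Y, V₀) L a' ≠ 0 →
      ∀ x : ↥(pullback f (pt hV₀ (algebraMap Γ(Y, V₀) L))),
        ∃ ξ ∈ Ξ, pullback.fst f (pt hV₀ (algebraMap Γ(Y, V₀) L)) x ∈ closure ({ξ} : Set X) := by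
  classical
  have hchart : ∀ W : X.affineOpens, W ∈ T → ∃ Ξ : Finset X, (∀ ξ ∈ Ξ, f ξ = gpt hV₀) ∧
      ∃ a' : Γ(Y, V₀), a' ≠ 0 ∧
      ∀ (L : Type u) [Field L] [Algebra Γ(Y, V₀) L], algebraMap Γ(Y, V₀) L a' ≠ 0 →
      ∀ x : ↥(pullback f (pt hV₀ (algebraMap Γ(Y, V₀) L))),
        pullback.fst f (pt hV₀ (algebraMap Γ(Y, V₀) L)) x ∈ W.1 →
        ∃ ξ ∈ Ξ, pullback.fst f (pt hV₀ (algebraMap Γ(Y, V₀) L)) x ∈ closure ({ξ} : Set X) :=
    fun W hW => exists_cover_chart f hV₀ Ω W.2 (hT W hW)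
  choose! ΞW hΞW aa haa0 haa using hchart
  refine ⟨T.biUnion ΞW, ?_, ∏ W ∈ T, aa W, Finset.prod_ne_zero_iff.mpr fun W hW => haa0 W hW,
    fun L _ _ hL x => ?_⟩
  · intro ξ hξ
    obtain ⟨W, hW, hξW⟩ := Finset.mem_biUnion.mp hξ
    exact hΞW W hW ξ hξW
  · obtain ⟨W, hW, hxW⟩ := hTcov _ (map_fst_mem f hV₀ _ x)
    have hLW : algebraMap Γ(Y, V₀) L (aa W) ≠ 0 := by
      intro h
      apply hL
      rw [map_prod]
      exact Finset.prod_eq_zero hW h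
    obtain ⟨ξ, hξ, hxξ⟩ := haa W hW L hLW x hxW
    exact ⟨ξ, Finset.mem_biUnion.mpr ⟨W, hW, hξ⟩, hxξ⟩

include hT hTcov in
/-- (C) closures of points of the generic fibre which do not meet in the generic fibre have
generically disjoint preimages -/
theorem exists_disjoint (ξ₁ ξ₂ : X) (hno : ¬ ∃ x : X, f x = gpt hV₀ ∧ ξ₁ ⤳ x ∧ ξ₂ ⤳ x) :
    ∃ a' : Γ(Y, V₀), a' ≠ 0 ∧ ∀ (L : Type u) [Field L] [Algebra Γ(Y, V₀) L],
      algebraMap Γ(Y, V₀) L a' ≠ 0 →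
      ¬ ((pullback.fst f (pt hV₀ (algebraMap Γ(Y, V₀) L))).base ⁻¹' (closure {ξ₁}) ∩
        (pullback.fst f (pt hV₀ (algebraMap Γ(Y, V₀) L))).base ⁻¹' (closure {ξ₂})).Nonempty := by
  classical
  have hchart : ∀ W : X.affineOpens, W ∈ T → ∃ a' : Γ(Y, V₀), a' ≠ 0 ∧
      ∀ (L : Type u) [Field L] [Algebra Γ(Y, V₀) L], algebraMap Γ(Y, V₀) L a' ≠ 0 →
      ∀ x : ↥(pullback f (pt hV₀ (algebraMap Γ(Y, V₀) L))),
        pullback.fst f (pt hV₀ (algebraMap Γ(Y, V₀) L)) x ∈ W.1 →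
        ¬ (pullback.fst f (pt hV₀ (algebraMap Γ(Y, V₀) L)) x ∈ closure ({ξ₁} : Set X) ∧
          pullback.fst f (pt hV₀ (algebraMap Γ(Y, V₀) L)) x ∈ closure ({ξ₂} : Set X)) :=
    fun W hW => exists_disjoint_chart f hV₀ W.2 (hT W hW) ξ₁ ξ₂ hno
  choose! aa haa0 haa using hchart
  refine ⟨∏ W ∈ T, aa W, Finset.prod_ne_zero_iff.mpr fun W hW => haa0 W hW,
    fun L _ _ hL => ?_⟩
  rintro ⟨x, hx1, hx2⟩
  obtain ⟨W, hW, hxW⟩ := hTcov _ (map_fst_mem f hV₀ _ x)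
  have hLW : algebraMap Γ(Y, V₀) L (aa W) ≠ 0 := by
    intro h
    apply hL
    rw [map_prod]
    exact Finset.prod_eq_zero hW h
  exact haa W hW L hLW x hxW ⟨hx1, hx2⟩

end assembly

end Groth.Agent.Lib.Helper21.GIS
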