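import Mathlib
import Groth.Agent.Lib.Helper21.GIS7

/-!
# Generic structure of the geometric fibres over a base whose ring of functions has an
algebraically closed fraction field: the structure theorem and connectedness
-/

set_option autoImplicit false
set_option linter.style.haveILetI false
set_option linter.unusedSectionVars false
universe u

open AlgebraicGeometry CategoryTheory Limits TopologicalSpace TensorProduct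

namespace Groth.Agent.Lib.Helper21.GIS

open Groth.Agent.Lib.Helper21.SecOpen Groth.Agent.Lib.Helper21.GIR

variable {X Y : Scheme.{u}}

section

variable (f : X ⟶ Y) [LocallyOfFiniteType f] {V₀ : Y.Opens} (hV₀ : IsAffineOpen V₀)
  [IsDomain Γ(Y, V₀)] (Ω : Type u) [Field Ω] [IsAlgClosed Ω] [Algebra Γ(Y, V₀) Ω]
  [IsFractionRing Γ(Y, V₀) Ω] (T : Finset X.affineOpens) (hT : ∀ W ∈ T, W.1 ≤ f ⁻¹ᵁ V₀)
  (hTcov : ∀ x : X, f x ∈ V₀ → ∃ W ∈ T, x ∈ W.1)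

include Ω hT hTcov in
/-- **structure of the generic geometric fibres** -/
theorem exists_structure :
    ∃ (Ξ : Finset X) (a' : Γ(Y, V₀)), (∀ ξ ∈ Ξ, f ξ = gpt hV₀) ∧ a' ≠ 0 ∧
      ∀ (L : Type u) [Field L] [Algebra Γ(Y, V₀) L], algebraMap Γ(Y, V₀) L a' ≠ 0 →
      (∀ ξ ∈ Ξ, IsIrreducible ((pullback.fst f (pt hV₀ (algebraMap Γ(Y, V₀) L))).base ⁻¹'
        (closure {ξ}))) ∧
      (∀ x : ↥(pullback f (pt hV₀ (algebraMap Γ(Y, V₀) L))),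
        ∃ ξ ∈ Ξ, pullback.fst f (pt hV₀ (algebraMap Γ(Y, V₀) L)) x ∈ closure ({ξ} : Set X)) ∧
      ∀ ξ₁ ∈ Ξ, ∀ ξ₂ ∈ Ξ,
        (((pullback.fst f (pt hV₀ (algebraMap Γ(Y, V₀) L))).base ⁻¹' (closure {ξ₁}) ∩
          (pullback.fst f (pt hV₀ (algebraMap Γ(Y, V₀) L))).base ⁻¹' (closure {ξ₂})).Nonempty ↔
        ∃ x : X, f x = gpt hV₀ ∧ ξ₁ ⤳ x ∧ ξ₂ ⤳ x) := by
  classical
  obtain ⟨Ξ, hΞ, aB, haB, HB⟩ := exists_cover f hV₀ Ω T hT hTcov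
  have hA : ∀ ξ : X, f ξ = gpt hV₀ → ∃ a' : Γ(Y, V₀), a' ≠ 0 ∧
      ∀ (L : Type u) [Field L] [Algebra Γ(Y, V₀) L], algebraMap Γ(Y, V₀) L a' ≠ 0 →
      IsIrreducible ((pullback.fst f (pt hV₀ (algebraMap Γ(Y, V₀) L))).base ⁻¹'
        (closure {ξ})) := fun ξ hξ => exists_isIrreducible_preimage_closure f hV₀ Ω T hT hTcov ξ hξ
  choose! aA haA0 haA using hA
  have hC : ∀ ξ₁ ξ₂ : X, ∃ a' : Γ(Y, V₀), a' ≠ 0 ∧
      ∀ (L : Type u) [Field L] [Algebra Γ(Y, V₀) L], algebraMap Γ(Y, V₀) L a' ≠ 0 →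
      (((pullback.fst f (pt hV₀ (algebraMap Γ(Y, V₀) L))).base ⁻¹' (closure {ξ₁}) ∩
          (pullback.fst f (pt hV₀ (algebraMap Γ(Y, V₀) L))).base ⁻¹' (closure {ξ₂})).Nonempty ↔
        ∃ x : X, f x = gpt hV₀ ∧ ξ₁ ⤳ x ∧ ξ₂ ⤳ x) := by
    intro ξ₁ ξ₂
    by_cases h : ∃ x : X, f x = gpt hV₀ ∧ ξ₁ ⤳ x ∧ ξ₂ ⤳ x
    · obtain ⟨x, hx, h1, h2⟩ := h
      refine ⟨aA x, haA0 x hx, fun L _ _ hL => ⟨fun _ => ⟨x, hx, h1, h2⟩, fun _ => ?_⟩⟩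
      obtain ⟨z, hz⟩ := (haA x hx L hL).nonempty
      have hz' : pullback.fst f (pt hV₀ (algebraMap Γ(Y, V₀) L)) z ∈ closure ({x} : Set X) := hz
      exact ⟨z, closure_minimal (Set.singleton_subset_iff.mpr
          (specializes_iff_mem_closure.mp h1)) isClosed_closure hz',
        closure_minimal (Set.singleton_subset_iff.mpr
          (specializes_iff_mem_closure.mp h2)) isClosed_closure hz'⟩
    · obtain ⟨a', ha', H⟩ := exists_disjoint f hV₀ T hT hTcov ξ₁ ξ₂ h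
      exact ⟨a', ha', fun L _ _ hL => ⟨fun h' => absurd h' (H L hL), fun h' => absurd h' h⟩⟩
  choose aC haC0 haC using hC
  refine ⟨Ξ, aB * (∏ ξ ∈ Ξ, aA ξ) * ∏ p ∈ Ξ ×ˢ Ξ, aC p.1 p.2, hΞ,
    mul_ne_zero (mul_ne_zero haB (Finset.prod_ne_zero_iff.mpr fun ξ hξ => haA0 ξ (hΞ ξ hξ)))
      (Finset.prod_ne_zero_iff.mpr fun p _ => haC0 p.1 p.2), fun L _ _ hL => ?_⟩
  have hLB : algebraMap Γ(Y, V₀) L aB ≠ 0 := by
    intro h; apply hL; simp [map_mul, h]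
  have hLA : ∀ ξ ∈ Ξ, algebraMap Γ(Y, V₀) L (aA ξ) ≠ 0 := by
    intro ξ hξ h; apply hL
    rw [map_mul, map_mul, map_prod, Finset.prod_eq_zero hξ h]
    simp
  have hLC : ∀ ξ₁ ∈ Ξ, ∀ ξ₂ ∈ Ξ, algebraMap Γ(Y, V₀) L (aC ξ₁ ξ₂) ≠ 0 := by
    intro ξ₁ hξ₁ ξ₂ hξ₂ h; apply hL
    rw [map_mul, map_prod (algebraMap Γ(Y, V₀) L) _ (Ξ ×ˢ Ξ),
      Finset.prod_eq_zero (i := (ξ₁, ξ₂)) (Finset.mem_product.mpr ⟨hξ₁, hξ₂⟩) h]
    simp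
  exact ⟨fun ξ hξ => haA ξ (hΞ ξ hξ) L (hLA ξ hξ), HB L hLB,
    fun ξ₁ hξ₁ ξ₂ hξ₂ => haC ξ₁ ξ₂ L (hLC ξ₁ hξ₁ ξ₂ hξ₂)⟩

include Ω hT hTcov in
/-- connectedness of the geometric fibres is generically constant -/
theorem exists_connectedSpace_iff :
    ∃ (a' : Γ(Y, V₀)) (c : Prop), a' ≠ 0 ∧
      ∀ (L : Type u) [Field L] [Algebra Γ(Y, V₀) L], algebraMap Γ(Y, V₀) L a' ≠ 0 →
      (ConnectedSpace ↥(pullback f (pt hV₀ (algebraMap Γ(Y, V₀) L))) ↔ c) := by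
  obtain ⟨Ξ, a', hΞ, ha', H⟩ := exists_structure f hV₀ Ω T hT hTcov
  refine ⟨a', Nonempty {ξ // ξ ∈ Ξ} ∧ ∀ i j : {ξ // ξ ∈ Ξ}, Relation.ReflTransGen
    (fun i j : {ξ // ξ ∈ Ξ} => ∃ x : X, f x = gpt hV₀ ∧ i.1 ⤳ x ∧ j.1 ⤳ x) i j, ha',
    fun L _ _ hL => ?_⟩
  obtain ⟨h1, h2, h3⟩ := H L hL
  exact connectedSpace_iff_of_cover (J := {ξ // ξ ∈ Ξ})
    (fun ξ => (pullback.fst f (pt hV₀ (algebraMap Γ(Y, V₀) L))).base ⁻¹' (closure {ξ.1}))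
    (fun ξ => isClosed_closure.preimage (pullback.fst f _).continuous)
    (fun ξ => (h1 ξ.1 ξ.2).isConnected)
    (fun x => by
      obtain ⟨ξ, hξ, hx⟩ := h2 x
      exact ⟨⟨ξ, hξ⟩, hx⟩) _
    (fun i j => h3 i.1 i.2 j.1 j.2)

end

end Groth.Agent.Lib.Helper21.GIS
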