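import Mathlib
import Groth.Agent.Lib.Helper21.GIS8
import Groth.Agent.Lib.Helper21.GIS10

/-!
# Generic structure of the geometric fibres: numbers of components
-/

set_option autoImplicit false
set_option linter.style.haveILetI false
set_option linter.unusedSectionVars false
universe u

open AlgebraicGeometry CategoryTheory Limits TopologicalSpace TensorProduct

namespace Groth.Agent.Lib.Helper21.GIS

open Groth.Agent.Lib.Helper21.SecOpen Groth.Agent.Lib.Helper21.GIR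

variable {X Y : Scheme.{u}}

section

variable (f : X ⟶ Y) [LocallyOfFiniteType f] {V₀ : Y.Opens} (hV₀ : IsAffineOpen V₀)
  [IsDomain Γ(Y, V₀)] (Ω : Type u) [Field Ω] [IsAlgClosed Ω] [Algebra Γ(Y, V₀) Ω]
  [IsFractionRing Γ(Y, V₀) Ω] (T : Finset X.affineOpens) (hT : ∀ W ∈ T, W.1 ≤ f ⁻¹ᵁ V₀)
  (hTcov : ∀ x : X, f x ∈ V₀ → ∃ W ∈ T, x ∈ W.1)

include Ω hT hTcov in
/-- (D) non-inclusions between closures of points of the generic fibre persist generically -/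
theorem exists_not_subset (ξ₁ ξ₂ : X) (hξ₁ : f ξ₁ = gpt hV₀) (hns : ¬ ξ₂ ⤳ ξ₁) :
    ∃ a' : Γ(Y, V₀), a' ≠ 0 ∧ ∀ (L : Type u) [Field L] [Algebra Γ(Y, V₀) L],
      algebraMap Γ(Y, V₀) L a' ≠ 0 →
      ¬ ((pullback.fst f (pt hV₀ (algebraMap Γ(Y, V₀) L))).base ⁻¹' (closure {ξ₁}) ⊆
        (pullback.fst f (pt hV₀ (algebraMap Γ(Y, V₀) L))).base ⁻¹' (closure {ξ₂})) := by
  classical
  obtain ⟨W₀, hW₀, hξW₀⟩ := hTcov ξ₁ (by rw [hξ₁]; exact gpt_mem hV₀)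
  let U : X.Opens := ⟨(closure {ξ₂})ᶜ, isClosed_closure.isOpen_compl⟩
  have hξ₁U : ξ₁ ∈ U := fun h => hns (specializes_iff_mem_closure.mpr h)
  obtain ⟨g, hg, hξg⟩ := W₀.2.exists_basicOpen_le (V := W₀.1 ⊓ U) ⟨ξ₁, ⟨hξW₀, hξ₁U⟩⟩ hξW₀
  obtain ⟨a', ha', H⟩ := exists_isPreirreducible_chart f hV₀ Ω W₀.2 (hT W₀ hW₀) ξ₁ hξW₀ hξ₁ {g}
  refine ⟨a', ha', fun L _ _ hL hsub => ?_⟩
  obtain ⟨x, hx1, hx2⟩ := (H L hL).2 g (Finset.mem_singleton_self g) hξg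
  exact (hg hx2).2 (hsub hx1)

include Ω hT hTcov in
/-- **structure of the generic geometric fibres**, with the inclusions -/
theorem exists_structure' :
    ∃ (Ξ : Finset X) (a' : Γ(Y, V₀)), (∀ ξ ∈ Ξ, f ξ = gpt hV₀) ∧ a' ≠ 0 ∧
      ∀ (L : Type u) [Field L] [Algebra Γ(Y, V₀) L], algebraMap Γ(Y, V₀) L a' ≠ 0 →
      (∀ ξ ∈ Ξ, IsIrreducible ((pullback.fst f (pt hV₀ (algebraMap Γ(Y, V₀) L))).base ⁻¹'
        (closure {ξ}))) ∧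
      (∀ x : ↥(pullback f (pt hV₀ (algebraMap Γ(Y, V₀) L))),
        ∃ ξ ∈ Ξ, pullback.fst f (pt hV₀ (algebraMap Γ(Y, V₀) L)) x ∈ closure ({ξ} : Set X)) ∧
      (∀ ξ₁ ∈ Ξ, ∀ ξ₂ ∈ Ξ,
        (((pullback.fst f (pt hV₀ (algebraMap Γ(Y, V₀) L))).base ⁻¹' (closure {ξ₁}) ∩
          (pullback.fst f (pt hV₀ (algebraMap Γ(Y, V₀) L))).base ⁻¹' (closure {ξ₂})).Nonempty ↔
        ∃ x : X, f x = gpt hV₀ ∧ ξ₁ ⤳ x ∧ ξ₂ ⤳ x)) ∧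
      ∀ ξ₁ ∈ Ξ, ∀ ξ₂ ∈ Ξ,
        ((pullback.fst f (pt hV₀ (algebraMap Γ(Y, V₀) L))).base ⁻¹' (closure {ξ₁}) ⊆
          (pullback.fst f (pt hV₀ (algebraMap Γ(Y, V₀) L))).base ⁻¹' (closure {ξ₂}) ↔
        ξ₂ ⤳ ξ₁) := by
  classical
  obtain ⟨Ξ, a₁, hΞ, ha₁, H₁⟩ := exists_structure f hV₀ Ω T hT hTcov
  have hD : ∀ ξ₁ ξ₂ : X, f ξ₁ = gpt hV₀ → ∃ a' : Γ(Y, V₀), a' ≠ 0 ∧
      ∀ (L : Type u) [Field L] [Algebra Γ(Y, V₀) L], algebraMap Γ(Y, V₀) L a' ≠ 0 →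
      ((pullback.fst f (pt hV₀ (algebraMap Γ(Y, V₀) L))).base ⁻¹' (closure {ξ₁}) ⊆
          (pullback.fst f (pt hV₀ (algebraMap Γ(Y, V₀) L))).base ⁻¹' (closure {ξ₂}) ↔
        ξ₂ ⤳ ξ₁) := by
    intro ξ₁ ξ₂ hξ₁
    by_cases h : ξ₂ ⤳ ξ₁
    · refine ⟨1, one_ne_zero, fun L _ _ _ => ⟨fun _ => h, fun _ => ?_⟩⟩
      exact Set.preimage_mono (closure_minimal (Set.singleton_subset_iff.mpr
        (specializes_iff_mem_closure.mp h)) isClosed_closure)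
    · obtain ⟨a', ha', H⟩ := exists_not_subset f hV₀ Ω T hT hTcov ξ₁ ξ₂ hξ₁ h
      exact ⟨a', ha', fun L _ _ hL => ⟨fun h' => absurd h' (H L hL), fun h' => absurd h' h⟩⟩
  choose! aD haD0 haD using hD
  refine ⟨Ξ, a₁ * ∏ p ∈ Ξ ×ˢ Ξ, aD p.1 p.2, hΞ,
    mul_ne_zero ha₁ (Finset.prod_ne_zero_iff.mpr fun p hp =>
      haD0 p.1 p.2 (hΞ p.1 (Finset.mem_product.mp hp).1)), fun L _ _ hL => ?_⟩
  have hL₁ : algebraMap Γ(Y, V₀) L a₁ ≠ 0 := by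
    intro h; apply hL; simp [map_mul, h]
  have hLD : ∀ ξ₁ ∈ Ξ, ∀ ξ₂ ∈ Ξ, algebraMap Γ(Y, V₀) L (aD ξ₁ ξ₂) ≠ 0 := by
    intro ξ₁ hξ₁ ξ₂ hξ₂ h; apply hL
    rw [map_mul, map_prod (algebraMap Γ(Y, V₀) L) _ (Ξ ×ˢ Ξ),
      Finset.prod_eq_zero (i := (ξ₁, ξ₂)) (Finset.mem_product.mpr ⟨hξ₁, hξ₂⟩) h]
    simp
  obtain ⟨h1, h2, h3⟩ := H₁ L hL₁
  exact ⟨h1, h2, h3, fun ξ₁ hξ₁ ξ₂ hξ₂ => haD ξ₁ ξ₂ (hΞ ξ₁ hξ₁) L (hLD ξ₁ hξ₁ ξ₂ hξ₂)⟩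

include Ω hT hTcov in
/-- the numbers of irreducible and connected components of the geometric fibres are generically
constant -/
theorem exists_counts :
    ∃ (a' : Γ(Y, V₀)) (n m : ℕ∞), a' ≠ 0 ∧
      ∀ (L : Type u) [Field L] [Algebra Γ(Y, V₀) L], algebraMap Γ(Y, V₀) L a' ≠ 0 →
      (irreducibleComponents ↥(pullback f (pt hV₀ (algebraMap Γ(Y, V₀) L)))).encard = n ∧
      ENat.card (_root_.ConnectedComponents ↥(pullback f (pt hV₀ (algebraMap Γ(Y, V₀) L)))) = m := by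
  obtain ⟨Ξ, a', hΞ, ha', H⟩ := exists_structure' f hV₀ Ω T hT hTcov
  refine ⟨a', ENat.card {j : {ξ // ξ ∈ Ξ} // ∀ k : {ξ // ξ ∈ Ξ}, k.1 ⤳ j.1 → j.1 ⤳ k.1},
    ENat.card (Quot (Relation.ReflTransGen
      (fun i j : {ξ // ξ ∈ Ξ} => ∃ x : X, f x = gpt hV₀ ∧ i.1 ⤳ x ∧ j.1 ⤳ x))), ha',
    fun L _ _ hL => ?_⟩
  obtain ⟨h1, h2, h3, h4⟩ := H L hL
  constructor
  · exact encard_irreducibleComponents_of_cover (J := {ξ // ξ ∈ Ξ})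
      (fun ξ => (pullback.fst f (pt hV₀ (algebraMap Γ(Y, V₀) L))).base ⁻¹' (closure {ξ.1}))
      (fun ξ => isClosed_closure.preimage (pullback.fst f _).continuous)
      (fun ξ => h1 ξ.1 ξ.2)
      (fun x => by
        obtain ⟨ξ, hξ, hx⟩ := h2 x
        exact ⟨⟨ξ, hξ⟩, hx⟩) (fun i j => j.1 ⤳ i.1)
      (fun i j => h4 i.1 i.2 j.1 j.2)
      (fun i j hij hji => Subtype.ext (hji.antisymm hij).eq)
  · exact card_connectedComponents_of_cover (J := {ξ // ξ ∈ Ξ})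
      (fun ξ => (pullback.fst f (pt hV₀ (algebraMap Γ(Y, V₀) L))).base ⁻¹' (closure {ξ.1}))
      (fun ξ => isClosed_closure.preimage (pullback.fst f _).continuous)
      (fun ξ => (h1 ξ.1 ξ.2).isConnected)
      (fun x => by
        obtain ⟨ξ, hξ, hx⟩ := h2 x
        exact ⟨⟨ξ, hξ⟩, hx⟩) _
      (fun i j => h3 i.1 i.2 j.1 j.2)

end

end Groth.Agent.Lib.Helper21.GIS
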