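import Mathlib
import Groth.Agent.Lib.Helper21.GIS2
import Groth.Agent.Lib.Helper21.GIS3
import Groth.Agent.Lib.Helper21.GIR4

/-!
# Generic geometric irreducibility of the fibres of a morphism of finite type
-/

set_option autoImplicit false
set_option linter.style.haveILetI false
set_option linter.unusedSectionVars false
universe u

open AlgebraicGeometry CategoryTheory Limits TopologicalSpace

namespace Groth.Agent.Lib.Helper21.GIS

open Groth.Agent.Lib.Helper21.SecOpen Groth.Agent.Lib.Helper21.GIR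

variable {X Y : Scheme.{u}}

/-- finite affine cover of the preimage of an affine open under a quasi-compact morphism -/
theorem exists_finite_affine_cover (f : X ⟶ Y) [QuasiCompact f] {V₀ : Y.Opens}
    (hV₀ : IsAffineOpen V₀) :
    ∃ T : Finset X.affineOpens, (∀ W ∈ T, W.1 ≤ f ⁻¹ᵁ V₀) ∧
      ∀ x : X, f x ∈ V₀ → ∃ W ∈ T, x ∈ W.1 := by
  classical
  have hcomp : IsCompact ((f ⁻¹ᵁ V₀ : X.Opens) : Set X) := f.isCompact_preimage hV₀.isCompact
  obtain ⟨T₀, hfin, hT₀⟩ := isCompact_iff_finite_and_eq_biUnion_affineOpens.mp hcomp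
  refine ⟨hfin.toFinset, fun W hW => ?_, fun x hx => ?_⟩
  · rw [hT₀]
    exact le_iSup₂ (f := fun (i : X.affineOpens) (_ : i ∈ T₀) => (i : X.Opens)) W
      (hfin.mem_toFinset.mp hW)
  · have hx' : x ∈ f ⁻¹ᵁ V₀ := hx
    rw [hT₀] at hx'
    simp only [Opens.mem_iSup] at hx'
    obtain ⟨W, hW, hxW⟩ := hx'
    exact ⟨W, hfin.mem_toFinset.mpr hW, hxW⟩

/-- **EGA IV 9.7.7 (i), irreducible case**: the set of points with geometrically irreducible
fibre contains a neighbourhood of the generic point, as soon as it contains the generic point -/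
theorem exists_open_forall_geometricallyIrreducible_fiber (f : X ⟶ Y) [IrreducibleSpace Y]
    [LocallyOfFiniteType f] [QuasiCompact f]
    (h : GeometricallyIrreducible (f.fiberToSpecResidueField (genericPoint Y))) :
    ∃ V : Y.Opens, genericPoint Y ∈ V ∧
      ∀ s ∈ V, GeometricallyIrreducible (f.fiberToSpecResidueField s) := by
  classical
  obtain ⟨_, ⟨V₀, hV₀, rfl⟩, hηV₀, -⟩ := Y.isBasis_affineOpens.exists_subset_of_mem_open
    (Set.mem_univ (genericPoint Y)) isOpen_univ
  have hV₀' : IsAffineOpen V₀ := hV₀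
  obtain ⟨𝔭pt, h𝔭pt⟩ := exists_fromSpec_eq hV₀' (genericPoint Y) hηV₀
  haveI : 𝔭pt.asIdeal.IsPrime := 𝔭pt.isPrime
  obtain ⟨T, hT, hTcov⟩ := exists_finite_affine_cover f hV₀'
  obtain ⟨A', _, _, Ω, _, _, _, _, _, _, _, hker, HDS⟩ := exists_package 𝔭pt.asIdeal
  have hptΩ : ∀ s, pt hV₀' (algebraMap Γ(Y, V₀) Ω) s = genericPoint Y := by
    intro s
    rw [pt_apply, ← h𝔭pt]
    congr 1
    exact PrimeSpectrum.ext hker
  haveI hΩ : IrreducibleSpace ↥(pullback f (pt hV₀' (algebraMap Γ(Y, V₀) Ω))) :=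
    irreducibleSpace_of_isPullback f (genericPoint Y) _ (hptΩ _) _ _
      (IsPullback.of_hasPullback _ _)
  obtain ⟨a', ha', H⟩ := exists_forall_irreducibleSpace_pullback f hV₀' T hT hTcov A' Ω
  obtain ⟨a₀, ha₀, HL⟩ := HDS a' ha'
  refine ⟨Y.basicOpen a₀, ?_, fun s hs => ?_⟩
  · rw [← h𝔭pt]
    exact (fromSpec_mem_basicOpen_iff hV₀' a₀ _).mpr ha₀
  · have hsV₀ : s ∈ V₀ := Y.basicOpen_le a₀ hs
    obtain ⟨t₀, ht₀⟩ := exists_fromSpec_eq hV₀' s hsV₀
    have hat₀ : a₀ ∉ t₀.asIdeal := by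
      rw [← fromSpec_mem_basicOpen_iff hV₀' a₀ t₀, ht₀]
      exact hs
    have hle : 𝔭pt.asIdeal ≤ t₀.asIdeal := by
      rw [← fromSpec_specializes_iff hV₀', h𝔭pt, ht₀]
      exact genericPoint_specializes s
    obtain ⟨L, _, _, _, _, _, hL1, hL2⟩ := HL t₀.asIdeal t₀.isPrime hle hat₀
    haveI := H L hL1
    have hptL : pt hV₀' (algebraMap Γ(Y, V₀) L) (IsLocalRing.closedPoint L) = s := by
      rw [pt_apply, ← ht₀]
      congr 1
      exact PrimeSpectrum.ext hL2
    exact geometricallyIrreducible_fiber_of_irreducibleSpace f s _ hptL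

/-- **generic geometric irreducibility** -/
theorem exists_open_geometricallyIrreducible_restrict (f : X ⟶ Y) [IrreducibleSpace Y]
    [LocallyOfFiniteType f] [QuasiCompact f]
    (h : GeometricallyIrreducible (f.fiberToSpecResidueField (genericPoint Y))) :
    ∃ V : Y.Opens, (V : Set Y).Nonempty ∧ GeometricallyIrreducible (f ∣_ V) := by
  obtain ⟨V, hV, H⟩ := exists_open_forall_geometricallyIrreducible_fiber f h
  exact ⟨V, ⟨_, hV⟩, geometricallyIrreducible_restrict_of_forall_fiber f V H⟩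

end Groth.Agent.Lib.Helper21.GIS
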