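import Mathlib
import Groth.Agent.Lib.Helper21.GIS8
import Groth.Agent.Lib.Helper21.GIS4

/-!
# Generic geometric connectedness of the fibres of a morphism of finite type
-/

set_option autoImplicit false
set_option linter.style.haveILetI false
set_option linter.unusedSectionVars false
universe u

open AlgebraicGeometry CategoryTheory Limits TopologicalSpace TensorProduct

namespace Groth.Agent.Lib.Helper21.GIS

open Groth.Agent.Lib.Helper21.SecOpen Groth.Agent.Lib.Helper21.GIR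

variable {X Y : Scheme.{u}}

/-! ### connected analogues of the fibre lemmas -/

theorem connectedSpace_of_isPullback (f : X ⟶ Y) (s : Y)
    [h : GeometricallyConnected (f.fiberToSpecResidueField s)] {K : Type u} [Field K]
    (a : Spec (CommRingCat.of K) ⟶ Y) (hs : a (IsLocalRing.closedPoint K) = s)
    {Z : Scheme.{u}} (fst : Z ⟶ X) (snd : Z ⟶ Spec (CommRingCat.of K))
    (hp : IsPullback fst snd f a) : ConnectedSpace Z := by
  obtain ⟨φ, rfl⟩ := exists_factor a s hs
  haveI h1 : ConnectedSpace ↥(pullback (f.fiberToSpecResidueField s) (Spec.map φ)) :=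
    h.geometrically_connectedSpace _ _ _ (.of_hasPullback _ _)
  have e1 : pullback (f.fiberToSpecResidueField s) (Spec.map φ) ≅
      pullback f (Spec.map φ ≫ Y.fromSpecResidueField s) :=
    pullbackLeftPullbackSndIso f (Y.fromSpecResidueField s) (Spec.map φ)
  have e2 : Z ≅ pullback f (Spec.map φ ≫ Y.fromSpecResidueField s) := hp.isoPullback
  exact (e2 ≪≫ e1.symm).hom.homeomorph.connectedSpace_iff.mpr h1

theorem geometricallyConnected_fiber_of_connectedSpace (f : X ⟶ Y) (s : Y) {L : Type u}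
    [Field L] [IsSepClosed L] (a : Spec (CommRingCat.of L) ⟶ Y)
    (hs : a (IsLocalRing.closedPoint L) = s) [h : ConnectedSpace ↥(pullback f a)] :
    GeometricallyConnected (f.fiberToSpecResidueField s) := by
  obtain ⟨φ, rfl⟩ := exists_factor a s hs
  have e1 : pullback (f.fiberToSpecResidueField s) (Spec.map φ) ≅
      pullback f (Spec.map φ ≫ Y.fromSpecResidueField s) :=
    pullbackLeftPullbackSndIso f (Y.fromSpecResidueField s) (Spec.map φ)
  haveI : ConnectedSpace ↥(pullback (f.fiberToSpecResidueField s) (Spec.map φ)) :=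
    e1.hom.homeomorph.connectedSpace_iff.mpr h
  exact Groth.Agent.Lib.Helper1.GeomIrrSep.geometricallyConnected_of_sepClosed
    (k := Y.residueField s) (f.fiberToSpecResidueField s) (Spec.map φ)

theorem geometricallyConnected_restrict_of_forall_fiber (f : X ⟶ Y) (V : Y.Opens)
    (H : ∀ s ∈ V, GeometricallyConnected (f.fiberToSpecResidueField s)) :
    GeometricallyConnected (f ∣_ V) := by
  refine ⟨fun K _ y Z fst snd h => ?_⟩
  have hp : IsPullback (fst ≫ (f ⁻¹ᵁ V).ι) snd f (y ≫ V.ι) :=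
    h.paste_horiz (isPullback_morphismRestrict f V).flip
  have hs : ((y ≫ V.ι) (IsLocalRing.closedPoint K)) ∈ V := by
    rw [Scheme.Hom.comp_apply]
    exact (y (IsLocalRing.closedPoint K)).2
  haveI := H _ hs
  exact connectedSpace_of_isPullback f _ (y ≫ V.ι) rfl _ _ hp

/-! ### base change to the spectrum of a ring -/

theorem connectedSpace_pullback_congr (f : X ⟶ Y) {Z : Scheme.{u}} {a b : Z ⟶ Y} (h : a = b) :
    ConnectedSpace ↥(pullback f a) ↔ ConnectedSpace ↥(pullback f b) := by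
  subst h
  exact Iff.rfl

/-- the point of `Spec A'` defined by a ring map to a field, as a point of `Y` -/
theorem pt_top_comp {V₀ : Y.Opens} (hV₀ : IsAffineOpen V₀) {A' : Type u} [CommRing A']
    (χ : Γ(Y, V₀) →+* A') {L : Type u} [Field L] (ψ : A' →+* L) :
    pt (isAffineOpen_top (Spec (CommRingCat.of A')))
        (ψ.comp (Scheme.ΓSpecIso (CommRingCat.of A')).hom.hom) ≫
      (Spec.map (CommRingCat.ofHom χ) ≫ hV₀.fromSpec) = pt hV₀ (ψ.comp χ) := by
  unfold pt
  rw [IsAffineOpen.fromSpec_top, Scheme.isoSpec_Spec_inv, Category.assoc,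
    ← Category.assoc (Spec.map _) (Spec.map _), ← Spec.map_comp, ← Category.assoc,
    ← Spec.map_comp]
  congr 2
  ext x
  simp

set_option maxHeartbeats 1600000 in
/-- connectedness of the geometric fibres is generically constant, over the ring-level package -/
theorem exists_connectedSpace_iff_of_package (f : X ⟶ Y) [LocallyOfFiniteType f] [QuasiCompact f]
    {V₀ : Y.Opens} (hV₀ : IsAffineOpen V₀) (A' Ω : Type u) [CommRing A'] [IsDomain A'] [Field Ω]
    [IsAlgClosed Ω] [Algebra A' Ω] [IsFractionRing A' Ω] (χ : Γ(Y, V₀) →+* A') :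
    ∃ (a' : A') (c : Prop), a' ≠ 0 ∧ ∀ (L : Type u) [Field L] (ψ : A' →+* L), ψ a' ≠ 0 →
      (ConnectedSpace ↥(pullback f (pt hV₀ (ψ.comp χ))) ↔ c) := by
  let g : Spec (CommRingCat.of A') ⟶ Y := Spec.map (CommRingCat.ofHom χ) ≫ hV₀.fromSpec
  let f' := pullback.snd f g
  have hB := isAffineOpen_top (Spec (CommRingCat.of A'))
  let eB : Γ(Spec (CommRingCat.of A'), ⊤) ≃+* A' :=
    (Scheme.ΓSpecIso (CommRingCat.of A')).commRingCatIsoToRingEquiv
  haveI : IsDomain Γ(Spec (CommRingCat.of A'), ⊤) := eB.toMulEquiv.isDomain A'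
  letI : Algebra Γ(Spec (CommRingCat.of A'), ⊤) Ω :=
    ((algebraMap A' Ω).comp eB.symm.symm.toRingHom).toAlgebra
  haveI : IsFractionRing Γ(Spec (CommRingCat.of A'), ⊤) Ω :=
    (IsFractionRing.isFractionRing_iff_of_base_ringEquiv (R := A') (S := Ω) eB.symm).mp
      inferInstance
  obtain ⟨T', hT', hT'cov⟩ := exists_finite_affine_cover f' hB
  obtain ⟨a'B, c, ha'B, Hc⟩ := exists_connectedSpace_iff f' hB Ω T' hT' hT'cov
  refine ⟨eB a'B, c, fun h => ha'B (eB.injective (by rw [h, map_zero])), fun L _ ψ hψ => ?_⟩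
  letI : Algebra Γ(Spec (CommRingCat.of A'), ⊤) L := (ψ.comp eB.toRingHom).toAlgebra
  have h1 := Hc L hψ
  rw [← h1]
  have e1 : pullback f' (pt hB (algebraMap Γ(Spec (CommRingCat.of A'), ⊤) L)) ≅
      pullback f (pt hB (algebraMap Γ(Spec (CommRingCat.of A'), ⊤) L) ≫ g) :=
    pullbackLeftPullbackSndIso f g _
  have h2 : pt hB (algebraMap Γ(Spec (CommRingCat.of A'), ⊤) L) ≫ g = pt hV₀ (ψ.comp χ) :=
    pt_top_comp hV₀ χ ψ
  rw [← connectedSpace_pullback_congr f h2]
  exact e1.hom.homeomorph.connectedSpace_iff.symm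

/-- **generic constancy of the connectedness of the geometric fibres** -/
theorem exists_open_connectedSpace_iff (f : X ⟶ Y) [IrreducibleSpace Y] [LocallyOfFiniteType f]
    [QuasiCompact f] :
    ∃ (V₀ : Y.Opens) (hV₀ : IsAffineOpen V₀) (Ω : Type u) (_ : Field Ω) (_ : IsAlgClosed Ω)
      (ψΩ : Γ(Y, V₀) →+* Ω) (V : Y.Opens),
      genericPoint Y ∈ V ∧ pt hV₀ ψΩ (IsLocalRing.closedPoint Ω) = genericPoint Y ∧
      ∀ s ∈ V, ∃ (L : Type u) (_ : Field L) (_ : IsAlgClosed L) (ψL : Γ(Y, V₀) →+* L),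
        pt hV₀ ψL (IsLocalRing.closedPoint L) = s ∧
        (ConnectedSpace ↥(pullback f (pt hV₀ ψΩ)) ↔ ConnectedSpace ↥(pullback f (pt hV₀ ψL))) := by
  classical
  obtain ⟨_, ⟨V₀, hV₀, rfl⟩, hηV₀, -⟩ := Y.isBasis_affineOpens.exists_subset_of_mem_open
    (Set.mem_univ (genericPoint Y)) isOpen_univ
  have hV₀' : IsAffineOpen V₀ := hV₀
  obtain ⟨𝔭pt, h𝔭pt⟩ := exists_fromSpec_eq hV₀' (genericPoint Y) hηV₀
  haveI : 𝔭pt.asIdeal.IsPrime := 𝔭pt.isPrime
  obtain ⟨A', _, _, Ω, _, _, _, _, _, _, _, hker, HDS⟩ := exists_package 𝔭pt.asIdeal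
  obtain ⟨a', c, ha', Hc⟩ := exists_connectedSpace_iff_of_package f hV₀' A' Ω
    (algebraMap Γ(Y, V₀) A')
  obtain ⟨a₀, ha₀, HL⟩ := HDS a' ha'
  have hΩ : (algebraMap A' Ω).comp (algebraMap Γ(Y, V₀) A') = algebraMap Γ(Y, V₀) Ω :=
    (IsScalarTower.algebraMap_eq Γ(Y, V₀) A' Ω).symm
  have ha'Ω : algebraMap A' Ω a' ≠ 0 := fun h =>
    ha' ((IsFractionRing.injective A' Ω) (by rw [h, map_zero]))
  refine ⟨V₀, hV₀', Ω, inferInstance, inferInstance, algebraMap Γ(Y, V₀) Ω, Y.basicOpen a₀, ?_,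
    ?_, fun s hs => ?_⟩
  · rw [← h𝔭pt]
    exact (fromSpec_mem_basicOpen_iff hV₀' a₀ _).mpr ha₀
  · rw [pt_apply, ← h𝔭pt]
    congr 1
    exact PrimeSpectrum.ext hker
  · have hsV₀ : s ∈ V₀ := Y.basicOpen_le a₀ hs
    obtain ⟨t₀, ht₀⟩ := exists_fromSpec_eq hV₀' s hsV₀
    have hat₀ : a₀ ∉ t₀.asIdeal := by
      rw [← fromSpec_mem_basicOpen_iff hV₀' a₀ t₀, ht₀]
      exact hs
    have hle : 𝔭pt.asIdeal ≤ t₀.asIdeal := by
      rw [← fromSpec_specializes_iff hV₀', h𝔭pt, ht₀]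
      exact genericPoint_specializes s
    obtain ⟨L, _, _, _, _, _, hL1, hL2⟩ := HL t₀.asIdeal t₀.isPrime hle hat₀
    have hL : (algebraMap A' L).comp (algebraMap Γ(Y, V₀) A') = algebraMap Γ(Y, V₀) L :=
      (IsScalarTower.algebraMap_eq Γ(Y, V₀) A' L).symm
    refine ⟨L, inferInstance, inferInstance, algebraMap Γ(Y, V₀) L, ?_, ?_⟩
    · rw [pt_apply, ← ht₀]
      congr 1
      exact PrimeSpectrum.ext hL2
    · have h1 := Hc Ω (algebraMap A' Ω) ha'Ω
      have h2 := Hc L (algebraMap A' L) hL1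
      rw [hΩ] at h1
      rw [hL] at h2
      rw [h1, h2]

end Groth.Agent.Lib.Helper21.GIS
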