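import Mathlib
import Groth.Agent.Lib.Helper21.GIS9
import Groth.Agent.Lib.Helper21.GIS11
import Groth.Agent.Lib.Helper6.GC2

/-!
# Local constancy (in the closure of a point) of the numbers of geometric components
-/

set_option autoImplicit false
set_option linter.style.haveILetI false
set_option linter.unusedSectionVars false
universe u

open AlgebraicGeometry CategoryTheory Limits TopologicalSpace TensorProduct

namespace Groth.Agent.Lib.Helper21.GIS

open Groth.Agent.Lib.Helper21.SecOpen Groth.Agent.Lib.Helper21.GIR Groth.Agent.Lib.Helper6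

variable {X Y : Scheme.{u}}

theorem irr_congr (f : X ⟶ Y) {L : Type u} [Field L] {a b : Spec (CommRingCat.of L) ⟶ Y}
    (h : a = b) : GC.irr f a = GC.irr f b := by
  subst h; rfl

theorem conn_congr (f : X ⟶ Y) {L : Type u} [Field L] {a b : Spec (CommRingCat.of L) ⟶ Y}
    (h : a = b) : GC.conn f a = GC.conn f b := by
  subst h; rfl

set_option maxHeartbeats 1600000 in
/-- the numbers of components of the geometric fibres are generically constant, over the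
ring-level package -/
theorem exists_counts_of_package (f : X ⟶ Y) [LocallyOfFiniteType f] [QuasiCompact f]
    {V₀ : Y.Opens} (hV₀ : IsAffineOpen V₀) (A' Ω : Type u) [CommRing A'] [IsDomain A'] [Field Ω]
    [IsAlgClosed Ω] [Algebra A' Ω] [IsFractionRing A' Ω] (χ : Γ(Y, V₀) →+* A') :
    ∃ (a' : A') (n m : ℕ∞), a' ≠ 0 ∧ ∀ (L : Type u) [Field L] (ψ : A' →+* L), ψ a' ≠ 0 →
      GC.irr f (pt hV₀ (ψ.comp χ)) = n ∧ GC.conn f (pt hV₀ (ψ.comp χ)) = m := by
  let g : Spec (CommRingCat.of A') ⟶ Y := Spec.map (CommRingCat.ofHom χ) ≫ hV₀.fromSpec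
  let f' := pullback.snd f g
  have hB := isAffineOpen_top (Spec (CommRingCat.of A'))
  let eB : Γ(Spec (CommRingCat.of A'), ⊤) ≃+* A' :=
    (Scheme.ΓSpecIso (CommRingCat.of A')).commRingCatIsoToRingEquiv
  haveI : IsDomain Γ(Spec (CommRingCat.of A'), ⊤) := eB.toMulEquiv.isDomain A'
  letI : Algebra Γ(Spec (CommRingCat.of A'), ⊤) Ω :=
    ((algebraMap A' Ω).comp eB.symm.symm.toRingHom).toAlgebra
  haveI : IsFractionRing Γ(Spec (CommRingCat.of A'), ⊤) Ω :=
    (IsFractionRing.isFractionRing_iff_of_base_ringEquiv (R := A') (S := Ω) eB.symm).mp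
      inferInstance
  obtain ⟨T', hT', hT'cov⟩ := exists_finite_affine_cover f' hB
  obtain ⟨a'B, n, m, ha'B, Hc⟩ := exists_counts f' hB Ω T' hT' hT'cov
  refine ⟨eB a'B, n, m, fun h => ha'B (eB.injective (by rw [h, map_zero])), fun L _ ψ hψ => ?_⟩
  letI : Algebra Γ(Spec (CommRingCat.of A'), ⊤) L := (ψ.comp eB.toRingHom).toAlgebra
  have h1 := Hc L hψ
  have h2 : pt hB (algebraMap Γ(Spec (CommRingCat.of A'), ⊤) L) ≫ g = pt hV₀ (ψ.comp χ) :=
    pt_top_comp hV₀ χ ψ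
  have hc : IsPullback (pullback.fst f g) f' f g := IsPullback.of_hasPullback f g
  rw [← irr_congr f h2, ← conn_congr f h2, ← GC.irr_baseChange hc, ← GC.conn_baseChange hc]
  exact h1

/-- **local constancy of the numbers of geometric components in the closure of a point** -/
theorem exists_open_counts (f : X ⟶ Y) [LocallyOfFiniteType f] [QuasiCompact f] (y : Y) :
    ∃ U : Y.Opens, y ∈ U ∧ ∀ y' ∈ U, y ⤳ y' →
      MoreMor.nGeomIrredComp f y' = MoreMor.nGeomIrredComp f y ∧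
      MoreMor.nGeomConnComp f y' = MoreMor.nGeomConnComp f y := by
  classical
  obtain ⟨_, ⟨V₀, hV₀, rfl⟩, hyV₀, -⟩ := Y.isBasis_affineOpens.exists_subset_of_mem_open
    (Set.mem_univ y) isOpen_univ
  have hV₀' : IsAffineOpen V₀ := hV₀
  obtain ⟨𝔭pt, h𝔭pt⟩ := exists_fromSpec_eq hV₀' y hyV₀
  haveI : 𝔭pt.asIdeal.IsPrime := 𝔭pt.isPrime
  obtain ⟨A', _, _, Ω, _, _, _, _, _, _, _, hker, HDS⟩ := exists_package 𝔭pt.asIdeal
  obtain ⟨a', n, m, ha', Hc⟩ := exists_counts_of_package f hV₀' A' Ω (algebraMap Γ(Y, V₀) A')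
  obtain ⟨a₀, ha₀, HL⟩ := HDS a' ha'
  have hΩ : (algebraMap A' Ω).comp (algebraMap Γ(Y, V₀) A') = algebraMap Γ(Y, V₀) Ω :=
    (IsScalarTower.algebraMap_eq Γ(Y, V₀) A' Ω).symm
  have ha'Ω : algebraMap A' Ω a' ≠ 0 := fun h =>
    ha' ((IsFractionRing.injective A' Ω) (by rw [h, map_zero]))
  have hyΩ : pt hV₀' (algebraMap Γ(Y, V₀) Ω) (IsLocalRing.closedPoint Ω) = y := by
    rw [pt_apply, ← h𝔭pt]
    congr 1
    exact PrimeSpectrum.ext hker
  have hy1 := Hc Ω (algebraMap A' Ω) ha'Ω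
  rw [hΩ] at hy1
  have hy2 := GC.irr_conn_eq_sepPt f (pt hV₀' (algebraMap Γ(Y, V₀) Ω)) y hyΩ
  refine ⟨Y.basicOpen a₀, ?_, fun s hs hys => ?_⟩
  · rw [← h𝔭pt]
    exact (fromSpec_mem_basicOpen_iff hV₀' a₀ _).mpr ha₀
  · have hsV₀ : s ∈ V₀ := Y.basicOpen_le a₀ hs
    obtain ⟨t₀, ht₀⟩ := exists_fromSpec_eq hV₀' s hsV₀
    have hat₀ : a₀ ∉ t₀.asIdeal := by
      rw [← fromSpec_mem_basicOpen_iff hV₀' a₀ t₀, ht₀]
      exact hs
    have hle : 𝔭pt.asIdeal ≤ t₀.asIdeal := by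
      rw [← fromSpec_specializes_iff hV₀', h𝔭pt, ht₀]
      exact hys
    obtain ⟨L, _, _, _, _, _, hL1, hL2⟩ := HL t₀.asIdeal t₀.isPrime hle hat₀
    have hL : (algebraMap A' L).comp (algebraMap Γ(Y, V₀) A') = algebraMap Γ(Y, V₀) L :=
      (IsScalarTower.algebraMap_eq Γ(Y, V₀) A' L).symm
    have hsL : pt hV₀' (algebraMap Γ(Y, V₀) L) (IsLocalRing.closedPoint L) = s := by
      rw [pt_apply, ← ht₀]
      congr 1
      exact PrimeSpectrum.ext hL2
    have hs1 := Hc L (algebraMap A' L) hL1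
    rw [hL] at hs1
    have hs2 := GC.irr_conn_eq_sepPt f (pt hV₀' (algebraMap Γ(Y, V₀) L)) s hsL
    rw [GC.nGeomIrredComp_eq_irr, GC.nGeomIrredComp_eq_irr, GC.nGeomConnComp_eq_conn,
      GC.nGeomConnComp_eq_conn, ← hs2.1, ← hs2.2, ← hy2.1, ← hy2.2, hs1.1, hs1.2, hy1.1, hy1.2]
    exact ⟨rfl, rfl⟩

end Groth.Agent.Lib.Helper21.GIS
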