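import Mathlib
import Groth.Agent.Lib.Helper21.GIS12
import Groth.Agent.Lib.Helper12.ConstrTop

/-!
# Constructibility of the level sets of the numbers of geometric components (Noetherian base)
-/

set_option autoImplicit false
set_option linter.style.haveILetI false
set_option linter.unusedSectionVars false
universe u

open AlgebraicGeometry CategoryTheory Limits TopologicalSpace TensorProduct Topology

namespace Groth.Agent.Lib.Helper21.GIS

open Groth.Agent.Lib.Helper6

variable {X Y : Scheme.{u}}

/-! ### topology -/

theorem irreducibleSpace_iff_encard {Z : Type*} [TopologicalSpace Z] :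
    IrreducibleSpace Z ↔ (irreducibleComponents Z).encard = 1 := by
  constructor
  · intro h
    rw [irreducibleComponents_eq_singleton, Set.encard_singleton]
  · intro h
    obtain ⟨Z₀, hZ₀⟩ := Set.encard_eq_one.mp h
    have hmem : Z₀ ∈ irreducibleComponents Z := by rw [hZ₀]; exact Set.mem_singleton _
    have huniv : Z₀ = Set.univ := by
      ext x
      simp only [Set.mem_univ, iff_true]
      have hx : irreducibleComponent x ∈ irreducibleComponents Z :=
        irreducibleComponent_mem_irreducibleComponents x
      rw [hZ₀, Set.mem_singleton_iff] at hx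
      rw [← hx]
      exact mem_irreducibleComponent
    have hirr : IsIrreducible (Set.univ : Set Z) := huniv ▸ hmem.1
    exact (irreducibleSpace_def Z).mpr hirr

theorem connectedSpace_iff_card {Z : Type*} [TopologicalSpace Z] :
    ConnectedSpace Z ↔ ENat.card (_root_.ConnectedComponents Z) = 1 := by
  rw [ENat.card_eq_one_iff_unique, unique_iff_subsingleton_and_nonempty]
  constructor
  · intro h
    exact ⟨inferInstance, inferInstance⟩
  · rintro ⟨h1, h2⟩
    haveI : Nonempty Z := ConnectedComponents.nonempty_iff_nonempty.mp h2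
    haveI : PreconnectedSpace Z := by
      refine ⟨?_⟩
      obtain ⟨x⟩ := ‹Nonempty Z›
      have : connectedComponent x = Set.univ := by
        ext z
        simp only [Set.mem_univ, iff_true]
        have : (ConnectedComponents.mk z : _root_.ConnectedComponents Z) =
          ConnectedComponents.mk x := Subsingleton.elim _ _
        rw [ConnectedComponents.coe_eq_coe] at this
        rw [← this]
        exact mem_connectedComponent
      rw [← this]
      exact isPreconnected_connectedComponent
    exact { toPreconnectedSpace := inferInstance, toNonempty := inferInstance }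

/-! ### the loci -/

/-- the locus of points with geometrically irreducible fibre -/
def Eirr (f : X ⟶ Y) : Set Y := {y : Y | GeometricallyIrreducible (f.fiberToSpecResidueField y)}

/-- the locus of points with geometrically connected fibre -/
def Econn (f : X ⟶ Y) : Set Y := {y : Y | GeometricallyConnected (f.fiberToSpecResidueField y)}

theorem mem_Eirr_iff (f : X ⟶ Y) (y : Y) : y ∈ Eirr f ↔ MoreMor.nGeomIrredComp f y = 1 := by
  rw [GC.nGeomIrredComp_eq_irr]
  unfold GC.irr
  rw [← irreducibleSpace_iff_encard]
  constructor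
  · intro h
    haveI : GeometricallyIrreducible (f.fiberToSpecResidueField y) := h
    exact irreducibleSpace_of_isPullback f y (GN.sepPt Y y) (GN.sepPt_apply Y y _) _ _
      (IsPullback.of_hasPullback f (GN.sepPt Y y))
  · intro h
    exact geometricallyIrreducible_fiber_of_irreducibleSpace f y (GN.sepPt Y y)
      (GN.sepPt_apply Y y _)

theorem mem_Econn_iff (f : X ⟶ Y) (y : Y) : y ∈ Econn f ↔ MoreMor.nGeomConnComp f y = 1 := by
  rw [GC.nGeomConnComp_eq_conn]
  unfold GC.conn
  rw [← connectedSpace_iff_card]
  constructor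
  · intro h
    haveI : GeometricallyConnected (f.fiberToSpecResidueField y) := h
    exact connectedSpace_of_isPullback f y (GN.sepPt Y y) (GN.sepPt_apply Y y _) _ _
      (IsPullback.of_hasPullback f (GN.sepPt Y y))
  · intro h
    exact geometricallyConnected_fiber_of_connectedSpace f y (GN.sepPt Y y)
      (GN.sepPt_apply Y y _)

theorem Eirr_of_isPullback {X' Y' : Scheme.{u}} {f : X ⟶ Y} {f' : X' ⟶ Y'} {h : X' ⟶ X}
    {g : Y' ⟶ Y} (hc : IsPullback h f' f g) : Eirr f' = g ⁻¹' Eirr f := by
  ext y'
  rw [Set.mem_preimage, mem_Eirr_iff, mem_Eirr_iff, GC.nGeomIrredComp_baseChange hc]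

theorem Econn_of_isPullback {X' Y' : Scheme.{u}} {f : X ⟶ Y} {f' : X' ⟶ Y'} {h : X' ⟶ X}
    {g : Y' ⟶ Y} (hc : IsPullback h f' f g) : Econn f' = g ⁻¹' Econn f := by
  ext y'
  rw [Set.mem_preimage, mem_Econn_iff, mem_Econn_iff, GC.nGeomConnComp_baseChange hc]

theorem geometricallyIrreducible_iff_Eirr (f : X ⟶ Y) :
    GeometricallyIrreducible f ↔ Eirr f = Set.univ := by
  constructor
  · intro h
    ext y
    simp only [Set.mem_univ, iff_true]
    change GeometricallyIrreducible (f.fiberToSpecResidueField y)
    exact MorphismProperty.pullback_snd _ _ h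
  · intro h
    refine ⟨fun K _ y Z fst snd hp => ?_⟩
    have hy : y (IsLocalRing.closedPoint K) ∈ Eirr f := by rw [h]; trivial
    haveI : GeometricallyIrreducible (f.fiberToSpecResidueField (y (IsLocalRing.closedPoint K))) :=
      hy
    exact irreducibleSpace_of_isPullback f _ y rfl _ _ hp

theorem geometricallyConnected_iff_Econn (f : X ⟶ Y) :
    GeometricallyConnected f ↔ Econn f = Set.univ := by
  constructor
  · intro h
    ext y
    simp only [Set.mem_univ, iff_true]
    change GeometricallyConnected (f.fiberToSpecResidueField y)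
    exact MorphismProperty.pullback_snd _ _ h
  · intro h
    refine ⟨fun K _ y Z fst snd hp => ?_⟩
    have hy : y (IsLocalRing.closedPoint K) ∈ Econn f := by rw [h]; trivial
    haveI : GeometricallyConnected (f.fiberToSpecResidueField (y (IsLocalRing.closedPoint K))) :=
      hy
    exact connectedSpace_of_isPullback f _ y rfl _ _ hp

/-! ### Noetherian base -/

theorem isConstructible_counts_of_noetherianSpace [NoetherianSpace Y] (f : X ⟶ Y)
    [LocallyOfFiniteType f] [QuasiCompact f] :
    (∀ t : ℕ∞ × ℕ∞, IsConstructible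
      {y : Y | (MoreMor.nGeomIrredComp f y, MoreMor.nGeomConnComp f y) = t}) ∧
    (Set.range fun y : Y => (MoreMor.nGeomIrredComp f y, MoreMor.nGeomConnComp f y)).Finite := by
  refine Groth.Agent.Lib.Helper12.constructible_function_of_locally_constant
    (fun y : Y => (MoreMor.nGeomIrredComp f y, MoreMor.nGeomConnComp f y)) ?_
  intro Z hZ hZirr
  obtain ⟨y, hy⟩ := QuasiSober.sober hZirr hZ
  obtain ⟨U, hyU, H⟩ := exists_open_counts f y
  have hyZ : y ∈ Z := hy.mem
  refine ⟨U, U.2, ⟨y, hyU, hyZ⟩, ?_⟩
  have key : ∀ a ∈ (U : Set Y) ∩ Z, (MoreMor.nGeomIrredComp f a, MoreMor.nGeomConnComp f a) =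
      (MoreMor.nGeomIrredComp f y, MoreMor.nGeomConnComp f y) := by
    rintro a ⟨haU, haZ⟩
    have hya : y ⤳ a := by
      rw [specializes_iff_mem_closure, hy.def]
      exact haZ
    obtain ⟨h1, h2⟩ := H a haU hya
    rw [h1, h2]
  intro a ha b hb
  exact (key a ha).trans (key b hb).symm

theorem isConstructible_nGeomIrredComp_of_noetherianSpace [NoetherianSpace Y] (f : X ⟶ Y)
    [LocallyOfFiniteType f] [QuasiCompact f] (n : ℕ∞) :
    IsConstructible {y : Y | MoreMor.nGeomIrredComp f y = n} := by
  obtain ⟨h1, h2⟩ := isConstructible_counts_of_noetherianSpace f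
  have : {y : Y | MoreMor.nGeomIrredComp f y = n} =
      ⋃ t ∈ {t ∈ Set.range fun y : Y => (MoreMor.nGeomIrredComp f y, MoreMor.nGeomConnComp f y) |
        t.1 = n}, {y : Y | (MoreMor.nGeomIrredComp f y, MoreMor.nGeomConnComp f y) = t} := by
    ext y
    simp only [Set.mem_ofPred_eq, Set.mem_iUnion, exists_prop]
    constructor
    · intro h
      exact ⟨_, ⟨⟨y, rfl⟩, h⟩, rfl⟩
    · rintro ⟨t, ⟨-, ht⟩, rfl⟩
      exact ht
  rw [this]
  exact IsConstructible.biUnion (h2.subset (Set.sep_subset _ _)) fun t _ => h1 t

theorem isConstructible_nGeomConnComp_of_noetherianSpace [NoetherianSpace Y] (f : X ⟶ Y)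
    [LocallyOfFiniteType f] [QuasiCompact f] (n : ℕ∞) :
    IsConstructible {y : Y | MoreMor.nGeomConnComp f y = n} := by
  obtain ⟨h1, h2⟩ := isConstructible_counts_of_noetherianSpace f
  have : {y : Y | MoreMor.nGeomConnComp f y = n} =
      ⋃ t ∈ {t ∈ Set.range fun y : Y => (MoreMor.nGeomIrredComp f y, MoreMor.nGeomConnComp f y) |
        t.2 = n}, {y : Y | (MoreMor.nGeomIrredComp f y, MoreMor.nGeomConnComp f y) = t} := by
    ext y
    simp only [Set.mem_ofPred_eq, Set.mem_iUnion, exists_prop]
    constructor
    · intro h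
      exact ⟨_, ⟨⟨y, rfl⟩, h⟩, rfl⟩
    · rintro ⟨t, ⟨-, ht⟩, rfl⟩
      exact ht
  rw [this]
  exact IsConstructible.biUnion (h2.subset (Set.sep_subset _ _)) fun t _ => h1 t

theorem isConstructible_Eirr_of_noetherianSpace [NoetherianSpace Y] (f : X ⟶ Y)
    [LocallyOfFiniteType f] [QuasiCompact f] : IsConstructible (Eirr f) := by
  have : Eirr f = {y : Y | MoreMor.nGeomIrredComp f y = 1} := by
    ext y; exact mem_Eirr_iff f y
  rw [this]
  exact isConstructible_nGeomIrredComp_of_noetherianSpace f 1

theorem isConstructible_Econn_of_noetherianSpace [NoetherianSpace Y] (f : X ⟶ Y)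
    [LocallyOfFiniteType f] [QuasiCompact f] : IsConstructible (Econn f) := by
  have : Econn f = {y : Y | MoreMor.nGeomConnComp f y = 1} := by
    ext y; exact mem_Econn_iff f y
  rw [this]
  exact isConstructible_nGeomConnComp_of_noetherianSpace f 1

end Groth.Agent.Lib.Helper21.GIS
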