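import Mathlib
import Groth.Agent.S0590
import Groth.Agent.S0591
import Groth.Agent.Lib.Helper21.GIS13

/-!
# Noetherian models of morphisms of finite presentation, and local constructibility of the
level sets of the numbers of geometric components
-/

set_option autoImplicit false
set_option linter.style.haveILetI false
set_option linter.unusedSectionVars false
universe u

open AlgebraicGeometry CategoryTheory Limits TopologicalSpace Topology Set.Notation

namespace Groth.Agent.Lib.Helper21.GIS

open Groth.Agent.Lib.Helper6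

/-- **Noetherian model**: a morphism of finite presentation to a quasi-compact quasi-separated
scheme is the base change of a morphism of finite presentation to a Noetherian scheme. -/
theorem exists_noetherian_model {X S : Scheme.{u}} [CompactSpace S] [QuasiSeparatedSpace S]
    (f : X ⟶ S) [LocallyOfFinitePresentation f] [QuasiCompact f] [QuasiSeparated f] :
    ∃ (X₀ S₀ : Scheme.{u}) (f₀ : X₀ ⟶ S₀) (g : S ⟶ S₀) (g' : X ⟶ X₀),
      IsPullback g' f f₀ g ∧ AlgebraicGeometry.IsNoetherian S₀ ∧
      LocallyOfFinitePresentation f₀ ∧ QuasiCompact f₀ ∧ QuasiSeparated f₀ := by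
  obtain ⟨I, _, _, _, D, c, hc, hD1, hD2, ⟨e⟩⟩ := Groth.Agent.S0590.result S
  haveI : IsFiltered I := isFiltered_of_directed_le_nonempty I
  haveI : IsCofiltered Iᵒᵖ := inferInstance
  haveI : ∀ (i j : Iᵒᵖ) (a : i ⟶ j), IsAffineHom (D.map a) := hD1
  haveI : ∀ i, CompactSpace (D.obj i) := fun i => (hD2 i).1
  have hnoeth : ∀ i, IsLocallyNoetherian (D.obj i) := by
    intro i
    haveI := (hD2 i).2
    haveI : IsLocallyNoetherian (Spec (CommRingCat.of (ULift.{u} ℤ))) := by
      haveI : IsNoetherianRing (ULift.{u} ℤ) :=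
        isNoetherianRing_of_ringEquiv ℤ ULift.ringEquiv.symm
      infer_instance
    exact LocallyOfFiniteType.isLocallyNoetherian
      (Limits.IsTerminal.from specULiftZIsTerminal (D.obj i))
  haveI : ∀ i, QuasiSeparatedSpace (D.obj i) := fun i => by
    haveI := hnoeth i
    infer_instance
  let f' : X ⟶ c.pt := f ≫ e.inv
  haveI : LocallyOfFinitePresentation f' := inferInstance
  haveI : QuasiCompact f' := inferInstance
  haveI : QuasiSeparated f' := inferInstance
  obtain ⟨i, Xi, fi, g, h1, h2, h3, h4⟩ := Groth.Agent.S0591.result D c hc X f'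
  have hsq : IsPullback (𝟙 X) f f' e.inv := IsPullback.of_horiz_isIso ⟨by simp [f']⟩
  have hpaste := hsq.paste_horiz h4
  rw [Category.id_comp] at hpaste
  haveI := hnoeth i
  exact ⟨Xi, D.obj i, fi, e.inv ≫ c.π.app i, g, hpaste, { }, h1, h2, h3⟩

variable {X Y : Scheme.{u}}

theorem isLocallyConstructible_of_forall_affine (E : Set Y)
    (H : ∀ U : Y.Opens, IsAffineOpen U → IsConstructible ((U : Set Y) ↓∩ E)) :
    IsLocallyConstructible E := by
  intro y
  obtain ⟨_, ⟨U, hU, rfl⟩, hyU, -⟩ := Y.isBasis_affineOpens.exists_subset_of_mem_open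
    (Set.mem_univ y) isOpen_univ
  exact ⟨U, U.2.mem_nhds hyU, U.2, H U hU⟩

theorem isLocallyConstructible_nGeomIrredComp (f : X ⟶ Y) [LocallyOfFinitePresentation f]
    [QuasiCompact f] [QuasiSeparated f] (n : ℕ∞) :
    IsLocallyConstructible {y : Y | MoreMor.nGeomIrredComp f y = n} := by
  refine isLocallyConstructible_of_forall_affine _ fun U hU => ?_
  haveI : IsAffine U := hU
  obtain ⟨X₀, S₀, f₀, g, g', hpb, hS₀, h1, h2, h3⟩ := exists_noetherian_model (f ∣_ U)
  haveI : LocallyOfFiniteType f₀ := inferInstance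
  have hc := (isConstructible_nGeomIrredComp_of_noetherianSpace f₀ n)
  have hpre := g.isConstructible_preimage hc
  have key : ((U : Set Y) ↓∩ {y : Y | MoreMor.nGeomIrredComp f y = n}) =
      g ⁻¹' {s | MoreMor.nGeomIrredComp f₀ s = n} := by
    refine Set.ext fun u => ?_
    change MoreMor.nGeomIrredComp f (U.ι u) = n ↔ MoreMor.nGeomIrredComp f₀ (g u) = n
    rw [← GC.nGeomIrredComp_baseChange hpb,
      GC.nGeomIrredComp_baseChange (isPullback_morphismRestrict f U).flip]
  rw [key]
  exact hpre

theorem isLocallyConstructible_nGeomConnComp (f : X ⟶ Y) [LocallyOfFinitePresentation f]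
    [QuasiCompact f] [QuasiSeparated f] (n : ℕ∞) :
    IsLocallyConstructible {y : Y | MoreMor.nGeomConnComp f y = n} := by
  refine isLocallyConstructible_of_forall_affine _ fun U hU => ?_
  haveI : IsAffine U := hU
  obtain ⟨X₀, S₀, f₀, g, g', hpb, hS₀, h1, h2, h3⟩ := exists_noetherian_model (f ∣_ U)
  haveI : LocallyOfFiniteType f₀ := inferInstance
  have hc := (isConstructible_nGeomConnComp_of_noetherianSpace f₀ n)
  have hpre := g.isConstructible_preimage hc
  have key : ((U : Set Y) ↓∩ {y : Y | MoreMor.nGeomConnComp f y = n}) =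
      g ⁻¹' {s | MoreMor.nGeomConnComp f₀ s = n} := by
    refine Set.ext fun u => ?_
    change MoreMor.nGeomConnComp f (U.ι u) = n ↔ MoreMor.nGeomConnComp f₀ (g u) = n
    rw [← GC.nGeomConnComp_baseChange hpb,
      GC.nGeomConnComp_baseChange (isPullback_morphismRestrict f U).flip]
  rw [key]
  exact hpre

end Groth.Agent.Lib.Helper21.GIS
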