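import Mathlib

/-!
# Schemes all of whose local rings are domains
-/

set_option autoImplicit false
set_option linter.style.haveILetI false
universe u
open AlgebraicGeometry CategoryTheory Limits TopologicalSpace IsLocalRing

namespace Groth.Agent.Lib.Helper21.GPI

/-- distinct irreducible components are disjoint -/
def Disj (T : Type*) [TopologicalSpace T] : Prop :=
  ∀ z : T, ∀ C ∈ irreducibleComponents T, ∀ C' ∈ irreducibleComponents T, z ∈ C → z ∈ C' → C = C'

section top

variable {T : Type*} [TopologicalSpace T]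

/-- the connected component containing an irreducible component -/
noncomputable def compMap (C : ↥(irreducibleComponents T)) : _root_.ConnectedComponents T :=
  ConnectedComponents.mk C.2.1.nonempty.some

theorem compMap_eq (C : ↥(irreducibleComponents T)) (x : T) (hx : x ∈ C.1) :
    compMap C = ConnectedComponents.mk x := by
  unfold compMap
  rw [ConnectedComponents.coe_eq_coe']
  exact C.2.1.isPreirreducible.isPreconnected.subset_connectedComponent hx C.2.1.nonempty.some_mem

theorem compMap_surjective : Function.Surjective (compMap (T := T)) := by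
  intro c
  obtain ⟨z, rfl⟩ := ConnectedComponents.surjective_coe c
  exact ⟨⟨irreducibleComponent z, irreducibleComponent_mem_irreducibleComponents z⟩,
    compMap_eq _ z mem_irreducibleComponent⟩

theorem disj_of_compMap_injective (h : Function.Injective (compMap (T := T))) : Disj T := by
  intro z C hC C' hC' hz hz'
  have := h ((compMap_eq ⟨C, hC⟩ z hz).trans (compMap_eq ⟨C', hC'⟩ z hz').symm)
  exact congrArg Subtype.val this

theorem isOpen_of_disj [NoetherianSpace T] (h : Disj T) (C : Set T)
    (hC : C ∈ irreducibleComponents T) : IsOpen C := by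
  have hfin : (irreducibleComponents T).Finite := NoetherianSpace.finite_irreducibleComponents
  have hcompl : Cᶜ = ⋃₀ ((irreducibleComponents T) \ {C}) := by
    ext x
    constructor
    · intro hx
      refine ⟨irreducibleComponent x, ⟨irreducibleComponent_mem_irreducibleComponents x, ?_⟩,
        mem_irreducibleComponent⟩
      rintro (heq : irreducibleComponent x = C)
      exact hx (heq ▸ mem_irreducibleComponent)
    · rintro ⟨C', ⟨hC', hne⟩, hxC'⟩ hxC
      exact hne (h x C' hC' C hC hxC' hxC)
  rw [← isClosed_compl_iff, hcompl, Set.sUnion_eq_biUnion]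
  exact (hfin.subset Set.sdiff_subset).isClosed_biUnion
    (fun C' hC' => isClosed_of_mem_irreducibleComponents C' hC'.1)

theorem compMap_injective_of_disj [NoetherianSpace T] (h : Disj T) :
    Function.Injective (compMap (T := T)) := by
  rintro ⟨C, hC⟩ ⟨C', hC'⟩ heq
  obtain ⟨x, hx⟩ := hC.1.nonempty
  obtain ⟨x', hx'⟩ := hC'.1.nonempty
  rw [compMap_eq ⟨C, hC⟩ x hx, compMap_eq ⟨C', hC'⟩ x' hx', ConnectedComponents.coe_eq_coe'] at heq
  have hclopen : IsClopen C' := ⟨isClosed_of_mem_irreducibleComponents C' hC', isOpen_of_disj h C' hC'⟩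
  have h1 : x ∈ C' := hclopen.connectedComponent_subset hx' heq
  exact Subtype.ext (h x C hC C' hC' hx h1)

theorem disj_iff_encard_eq [NoetherianSpace T] :
    Disj T ↔ (irreducibleComponents T).encard = ENat.card (_root_.ConnectedComponents T) := by
  have hfin : (irreducibleComponents T).Finite := NoetherianSpace.finite_irreducibleComponents
  haveI : Finite ↥(irreducibleComponents T) := hfin.to_subtype
  haveI : Finite (_root_.ConnectedComponents T) := Finite.of_surjective _ compMap_surjective
  constructor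
  · intro h
    exact ENat.card_congr (Equiv.ofBijective _ ⟨compMap_injective_of_disj h, compMap_surjective⟩)
  · intro h
    have h1 : Nat.card ↥(irreducibleComponents T) = Nat.card (_root_.ConnectedComponents T) := by
      have h2 : ENat.card ↥(irreducibleComponents T) = ENat.card (_root_.ConnectedComponents T) := h
      rw [ENat.card_eq_coe_natCard, ENat.card_eq_coe_natCard] at h2
      exact_mod_cast h2
    obtain ⟨e⟩ := Finite.card_eq.mp h1
    exact disj_of_compMap_injective
      ((Finite.injective_iff_surjective_of_equiv e).mpr compMap_surjective)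

end top

/-- an irreducible component is the closure of its generic point -/
theorem closure_genericPoint_of_mem {T : Type*} [TopologicalSpace T] [QuasiSober T] {C : Set T}
    (hC : C ∈ irreducibleComponents T) : closure {hC.1.genericPoint} = C := by
  have h1 := hC.1.isGenericPoint_genericPoint_closure
  rw [(isClosed_of_mem_irreducibleComponents C hC).closure_eq] at h1
  exact h1

/-- an irreducible component contained in the closure of a point is that closure -/
theorem eq_closure_of_subset {T : Type*} [TopologicalSpace T] {C : Set T}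
    (hC : C ∈ irreducibleComponents T) (ζ : T) (h : C ⊆ closure {ζ}) : C = closure {ζ} :=
  le_antisymm h (hC.2 isIrreducible_singleton.closure h)

theorem disj_of_forall_isDomain {Z : Scheme.{u}} (H : ∀ z : Z, IsDomain (Z.presheaf.stalk z)) :
    Disj Z := by
  intro z C hC C' hC' hz hz'
  haveI := H z
  let ζ : Z := Z.fromSpecStalk z (⟨⊥, Ideal.isPrime_bot⟩ : PrimeSpectrum (Z.presheaf.stalk z))
  have key : ∀ D ∈ irreducibleComponents Z, z ∈ D → D = closure {ζ} := by
    intro D hD hzD
    apply eq_closure_of_subset hD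
    have hξz : hD.1.genericPoint ⤳ z := by
      rw [specializes_iff_mem_closure, closure_genericPoint_of_mem hD]
      exact hzD
    obtain ⟨p, hp⟩ : hD.1.genericPoint ∈ Set.range (Z.fromSpecStalk z) := by
      rw [Scheme.range_fromSpecStalk]
      exact hξz
    have h1 : (⟨⊥, Ideal.isPrime_bot⟩ : PrimeSpectrum (Z.presheaf.stalk z)) ⤳
        (show PrimeSpectrum (Z.presheaf.stalk z) from p) := by
      rw [← PrimeSpectrum.le_iff_specializes]
      exact bot_le (a := (show PrimeSpectrum (Z.presheaf.stalk z) from p).asIdeal)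
    have h2 : ζ ⤳ hD.1.genericPoint := by
      rw [← hp]
      exact h1.map (Z.fromSpecStalk z).continuous
    rw [← closure_genericPoint_of_mem hD]
    exact (specializes_iff_closure_subset.mp h2)
  rw [key C hC hz, key C' hC' hz']


theorem asIdeal_eq_of_minimal {Z : Scheme.{u}} (z : Z) (𝔭 : Ideal (Z.presheaf.stalk z))
    (h𝔭 : 𝔭 ∈ minimalPrimes (Z.presheaf.stalk z)) (C : Set Z) (hC : C ∈ irreducibleComponents Z)
    (hCeq : irreducibleComponent (Z.fromSpecStalk z (⟨𝔭, h𝔭.1.1⟩ :
      PrimeSpectrum (Z.presheaf.stalk z))) = C)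
    (𝔮 : PrimeSpectrum (Z.presheaf.stalk z)) (h𝔮 : Z.fromSpecStalk z 𝔮 = hC.1.genericPoint) :
    𝔮.asIdeal = 𝔭 := by
  have h1 : hC.1.genericPoint ⤳ Z.fromSpecStalk z (⟨𝔭, h𝔭.1.1⟩ :
      PrimeSpectrum (Z.presheaf.stalk z)) := by
    rw [specializes_iff_mem_closure, closure_genericPoint_of_mem hC, ← hCeq]
    exact mem_irreducibleComponent
  rw [← h𝔮, (Z.fromSpecStalk z).isEmbedding.isInducing.specializes_iff] at h1
  have h2 : 𝔮 ≤ (⟨𝔭, h𝔭.1.1⟩ : PrimeSpectrum (Z.presheaf.stalk z)) :=
    (PrimeSpectrum.le_iff_specializes _ _).mpr h1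
  exact le_antisymm h2 (h𝔭.2 ⟨𝔮.2, bot_le⟩ h2)

theorem exists_fromSpecStalk_eq_genericPoint {Z : Scheme.{u}} (z : Z) (C : Set Z)
    (hC : C ∈ irreducibleComponents Z) (hzC : z ∈ C) :
    ∃ 𝔮 : PrimeSpectrum (Z.presheaf.stalk z), Z.fromSpecStalk z 𝔮 = hC.1.genericPoint := by
  have hξz : hC.1.genericPoint ⤳ z := by
    rw [specializes_iff_mem_closure, closure_genericPoint_of_mem hC]
    exact hzC
  have : hC.1.genericPoint ∈ Set.range (Z.fromSpecStalk z) := by
    rw [Scheme.range_fromSpecStalk]
    exact hξz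
  exact this

theorem isDomain_stalk_of_disj {Z : Scheme.{u}} [IsReduced Z] (H : Disj Z) (z : Z) :
    IsDomain (Z.presheaf.stalk z) := by
  -- all minimal primes of the stalk coincide
  have huniq : ∀ 𝔭₁ ∈ minimalPrimes (Z.presheaf.stalk z), ∀ 𝔭₂ ∈ minimalPrimes (Z.presheaf.stalk z),
      𝔭₁ = 𝔭₂ := by
    intro 𝔭₁ h₁ 𝔭₂ h₂
    have hz : ∀ 𝔭 (h𝔭 : 𝔭 ∈ minimalPrimes (Z.presheaf.stalk z)),
        z ∈ irreducibleComponent (Z.fromSpecStalk z (⟨𝔭, h𝔭.1.1⟩ :
          PrimeSpectrum (Z.presheaf.stalk z))) := by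
      intro 𝔭 h𝔭
      have h1 : Z.fromSpecStalk z (⟨𝔭, h𝔭.1.1⟩ : PrimeSpectrum (Z.presheaf.stalk z)) ⤳ z := by
        have : Z.fromSpecStalk z (⟨𝔭, h𝔭.1.1⟩ : PrimeSpectrum (Z.presheaf.stalk z)) ∈
            Set.range (Z.fromSpecStalk z) := ⟨_, rfl⟩
        rw [Scheme.range_fromSpecStalk] at this
        exact this
      exact h1.mem_closed isClosed_irreducibleComponent mem_irreducibleComponent
    have hC₁ := irreducibleComponent_mem_irreducibleComponents
      (Z.fromSpecStalk z (⟨𝔭₁, h₁.1.1⟩ : PrimeSpectrum (Z.presheaf.stalk z)))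
    have hC₂ := irreducibleComponent_mem_irreducibleComponents
      (Z.fromSpecStalk z (⟨𝔭₂, h₂.1.1⟩ : PrimeSpectrum (Z.presheaf.stalk z)))
    have hCC := H z _ hC₁ _ hC₂ (hz 𝔭₁ h₁) (hz 𝔭₂ h₂)
    obtain ⟨𝔮, hq⟩ := exists_fromSpecStalk_eq_genericPoint z _ hC₁ (hz 𝔭₁ h₁)
    have e1 := asIdeal_eq_of_minimal z 𝔭₁ h₁ _ hC₁ rfl 𝔮 hq
    have e2 := asIdeal_eq_of_minimal z 𝔭₂ h₂ _ hC₁ hCC.symm 𝔮 hq
    rw [← e1, ← e2]
  obtain ⟨𝔭, h𝔭⟩ := Ideal.nonempty_minimalPrimes (R := Z.presheaf.stalk z) (I := ⊥) (by
    exact bot_ne_top)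
  have hmin : minimalPrimes (Z.presheaf.stalk z) = {𝔭} := by
    ext 𝔮
    constructor
    · intro h𝔮
      exact huniq 𝔮 h𝔮 𝔭 h𝔭
    · rintro rfl
      exact h𝔭
  have hbot : 𝔭 = ⊥ := by
    have h1 : sInf (minimalPrimes (Z.presheaf.stalk z)) = (⊥ : Ideal (Z.presheaf.stalk z)) := by
      rw [minimalPrimes, Ideal.sInf_minimalPrimes]
      exact nilradical_eq_zero _
    rw [hmin, sInf_singleton] at h1
    exact h1
  haveI : (⊥ : Ideal (Z.presheaf.stalk z)).IsPrime := hbot ▸ h𝔭.1.1
  exact IsDomain.of_bot_isPrime _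


/-- **local rings are domains iff reduced and the irreducible components are the connected
components** -/
theorem forall_isDomain_stalk_iff {Z : Scheme.{u}} [NoetherianSpace Z] :
    (∀ z : Z, IsDomain (Z.presheaf.stalk z)) ↔
      IsReduced Z ∧ (irreducibleComponents Z).encard = ENat.card (_root_.ConnectedComponents Z) := by
  constructor
  · intro H
    refine ⟨?_, disj_iff_encard_eq.mp (disj_of_forall_isDomain H)⟩
    haveI : ∀ z : Z, _root_.IsReduced (Z.presheaf.stalk z) := fun z => by
      haveI := H z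
      infer_instance
    exact isReduced_of_isReduced_stalk Z
  · rintro ⟨hred, hcard⟩ z
    exact isDomain_stalk_of_disj (disj_iff_encard_eq.mpr hcard) z

end Groth.Agent.Lib.Helper21.GPI
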