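import Mathlib

/-!
# Ring-theoretic lemmas: flatness over (localisations of) a discrete valuation ring
-/

set_option autoImplicit false
set_option linter.style.haveILetI false
set_option linter.unusedSectionVars false
universe u

open IsLocalRing

namespace Groth.Agent.Lib.Helper21.SCmp

/-- **Nakayama argument**: in a Noetherian local ring, if `t` lies in the maximal ideal, generates
a radical ideal and lies in no minimal prime, then the ring is reduced and `t` is regular. -/
theorem regular_of_isRadical_of_minimalPrimes {B : Type*} [CommRing B] [IsNoetherianRing B]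
    [IsLocalRing B] (t : B) (ht : t ∈ maximalIdeal B) (hrad : (Ideal.span {t}).IsRadical)
    (hmin : ∀ 𝔭 ∈ minimalPrimes B, t ∉ 𝔭) : ∀ b : B, t * b = 0 → b = 0 := by
  have hN : nilradical B = sInf (minimalPrimes B) := by
    rw [minimalPrimes, Ideal.sInf_minimalPrimes]
    rfl
  have hprime : ∀ 𝔭 ∈ minimalPrimes B, 𝔭.IsPrime := fun 𝔭 h𝔭 => h𝔭.1.1
  have hNle : nilradical B ≤ Ideal.span {t} := by
    have h1 : nilradical B ≤ (Ideal.span {t}).radical := Ideal.radical_mono bot_le
    rwa [hrad.radical] at h1
  have hstep : (nilradical B : Submodule B B) ≤ Ideal.span {t} • (nilradical B : Submodule B B) := by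
    intro b hb
    obtain ⟨c, rfl⟩ := Ideal.mem_span_singleton'.mp (hNle hb)
    have hc : c ∈ nilradical B := by
      rw [hN, Ideal.mem_sInf]
      intro 𝔭 h𝔭
      have h1 : c * t ∈ 𝔭 := by
        have : c * t ∈ sInf (minimalPrimes B) := hN ▸ hb
        exact (Ideal.mem_sInf.mp this) h𝔭
      exact ((hprime 𝔭 h𝔭).mem_or_mem h1).resolve_right (hmin 𝔭 h𝔭)
    rw [mul_comm]
    exact Submodule.smul_mem_smul (Ideal.mem_span_singleton_self t) hc
  have hbot : nilradical B = ⊥ := by
    have hfg : (nilradical B : Submodule B B).FG := IsNoetherian.noetherian _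
    refine Submodule.eq_bot_of_le_smul_of_le_jacobson_bot (Ideal.span {t}) _ hfg hstep ?_
    rw [IsLocalRing.jacobson_eq_maximalIdeal ⊥ bot_ne_top, Ideal.span_singleton_le_iff_mem]
    exact ht
  intro b hb
  have hb' : b ∈ nilradical B := by
    rw [hN, Ideal.mem_sInf]
    intro 𝔭 h𝔭
    have h1 : t * b ∈ 𝔭 := by rw [hb]; exact 𝔭.zero_mem
    exact ((hprime 𝔭 h𝔭).mem_or_mem h1).resolve_left (hmin 𝔭 h𝔭)
  rw [hbot] at hb'
  exact hb'

/-- **flatness over a localisation of a discrete valuation ring**: an algebra on which the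
uniformiser is regular is flat -/
theorem flat_of_regular {R : Type*} [CommRing R] [IsDomain R] [IsDiscreteValuationRing R]
    (π : R) (hπ : Irreducible π) (p : Ideal R) [p.IsPrime] (A : Type*) [CommRing A] [Algebra R A]
    [IsLocalization.AtPrime A p] (B : Type*) [CommRing B] [Algebra A B]
    (hreg : ∀ b : B, algebraMap A B (algebraMap R A π) * b = 0 → b = 0) : Module.Flat A B := by
  haveI : IsDomain A :=
    IsLocalization.isDomain_of_le_nonZeroDivisors A p.primeCompl_le_nonZeroDivisors
  haveI : IsDedekindDomain A := IsLocalization.AtPrime.isDedekindDomain R p A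
  rw [IsDedekindDomain.flat_iff_torsion_eq_bot, eq_bot_iff]
  intro b hb
  rw [Submodule.mem_torsion_iff] at hb
  obtain ⟨⟨a, ha⟩, hab⟩ := hb
  rw [Submodule.mem_bot]
  have ha0 : a ≠ 0 := nonZeroDivisors.ne_zero ha
  obtain ⟨r, s, hrs⟩ := IsLocalization.exists_mk'_eq p.primeCompl a
  have hr0 : r ≠ 0 := by
    rintro rfl
    rw [IsLocalization.mk'_zero] at hrs
    exact ha0 hrs.symm
  obtain ⟨n, u, hu⟩ := IsDiscreteValuationRing.associated_pow_irreducible hr0 hπ
  have h1 : algebraMap R A (s : R) * a = algebraMap R A r := by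
    rw [← hrs, IsLocalization.mk'_spec']
  have hab' : algebraMap A B a * b = 0 := by
    rw [← Algebra.smul_def]; exact hab
  have h2 : algebraMap A B (algebraMap R A r) * b = 0 := by
    rw [← h1, map_mul, mul_assoc, hab', mul_zero]
  have h3 : algebraMap A B (algebraMap R A (π ^ n)) * b = 0 := by
    rw [← hu, map_mul, map_mul, mul_right_comm, h2, zero_mul]
  have hpow : ∀ k : ℕ, algebraMap A B (algebraMap R A (π ^ k)) * b = 0 → b = 0 := by
    intro k
    induction k with
    | zero =>
      intro h
      simpa using h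
    | succ k ih =>
      intro h
      apply ih
      apply hreg
      rw [← mul_assoc, ← map_mul, ← map_mul, ← pow_succ']
      exact h
  exact hpow n h3

end Groth.Agent.Lib.Helper21.SCmp
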