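import Mathlib
import Groth.Agent.S9501
import Groth.Agent.Lib.Helper21.SCmp9
import Groth.Agent.Lib.Helper17.ProCons

/-!
# Flatness over a discrete valuation ring from openness and reducedness of the closed fibre
-/

set_option autoImplicit false
set_option linter.style.haveILetI false
set_option linter.unusedSectionVars false
universe u

open AlgebraicGeometry CategoryTheory Limits TopologicalSpace IsLocalRing

namespace Groth.Agent.Lib.Helper21.SCmp

/-- if the fibre through `x` is reduced at `x`, the maximal ideal of the local ring of the base is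
principal, and every generisation of `x` in the fibre has a generisation outside the fibre, then
the generator of the maximal ideal is a regular element of the local ring at `x` -/
theorem stalk_regular_of_reduced_fibre {P S : Scheme.{u}} [IsLocallyNoetherian P] (h : P ⟶ S)
    (s : S) (y : h.fiber s) (ϖ₀ : S.presheaf.stalk (h ((h.fiberι s) y)))
    (hprin : maximalIdeal (S.presheaf.stalk (h ((h.fiberι s) y))) = Ideal.span {ϖ₀})
    (hred : _root_.IsReduced ((h.fiber s).presheaf.stalk y))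
    (hgen : ∀ ξ : P, ξ ⤳ (h.fiberι s) y → h ξ = s → ∃ ξ' : P, ξ' ⤳ ξ ∧ h ξ' ≠ s) :
    ∀ b : P.presheaf.stalk ((h.fiberι s) y),
      (h.stalkMap ((h.fiberι s) y)).hom ϖ₀ * b = 0 → b = 0 := by
  have hp₀ : h ((h.fiberι s) y) = s := (h.fiberHomeo s y).2
  obtain ⟨hsurj, hker⟩ := Groth.Agent.S9501.result h s y
  let B := P.presheaf.stalk ((h.fiberι s) y)
  let σ : S.presheaf.stalk (h ((h.fiberι s) y)) →+* B := (h.stalkMap ((h.fiberι s) y)).hom
  let I : Ideal B := Ideal.map σ (maximalIdeal (S.presheaf.stalk (h ((h.fiberι s) y))))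
  have hIrad : I.IsRadical := by
    change (Ideal.map (h.stalkMap ((h.fiberι s) y)).hom
      (maximalIdeal (S.presheaf.stalk (h ((h.fiberι s) y))))).IsRadical
    rw [← hker]
    exact RingHom.ker_isRadical_iff_reduced_of_surjective hsurj |>.mpr hred
  have hI : I = Ideal.span {σ ϖ₀} := by
    change Ideal.map σ (maximalIdeal (S.presheaf.stalk (h ((h.fiberι s) y)))) = _
    rw [hprin, Ideal.map_span, Set.image_singleton]
  let φ := P.fromSpecStalk ((h.fiberι s) y)
  have hφemb : Topology.IsEmbedding φ.base := φ.isEmbedding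
  have hrange : ∀ z : P, z ⤳ (h.fiberι s) y → ∃ 𝔯 : PrimeSpectrum B, φ.base 𝔯 = z := by
    intro z hz
    have : z ∈ Set.range φ.base := by
      rw [Scheme.range_fromSpecStalk]
      exact hz
    exact this
  have hspec : ∀ 𝔯 : PrimeSpectrum B, φ.base 𝔯 ⤳ (h.fiberι s) y := by
    intro 𝔯
    have : φ.base 𝔯 ∈ Set.range φ.base := ⟨𝔯, rfl⟩
    rw [Scheme.range_fromSpecStalk] at this
    exact this
  have hle_iff : ∀ 𝔯₁ 𝔯₂ : PrimeSpectrum B, φ.base 𝔯₁ ⤳ φ.base 𝔯₂ ↔ 𝔯₁.asIdeal ≤ 𝔯₂.asIdeal := by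
    intro 𝔯₁ 𝔯₂
    have h1 : φ.base 𝔯₁ ⤳ φ.base 𝔯₂ ↔ 𝔯₁ ⤳ 𝔯₂ := hφemb.isInducing.specializes_iff
    have h2 : 𝔯₁ ⤳ 𝔯₂ ↔ 𝔯₁ ≤ 𝔯₂ := (PrimeSpectrum.le_iff_specializes 𝔯₁ 𝔯₂).symm
    exact h1.trans h2
  -- points of the fibre
  have hfib : ∀ 𝔯 : PrimeSpectrum B, h (φ.base 𝔯) = s ↔ I ≤ 𝔯.asIdeal := by
    intro 𝔯
    have hcomm : φ ≫ h = Spec.map (h.stalkMap ((h.fiberι s) y)) ≫
        S.fromSpecStalk (h ((h.fiberι s) y)) :=
      (Scheme.SpecMap_stalkMap_fromSpecStalk (f := h) (x := (h.fiberι s) y)).symm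
    have h1 : h (φ.base 𝔯) = (S.fromSpecStalk (h ((h.fiberι s) y))).base
        ((Spec.map (h.stalkMap ((h.fiberι s) y))).base 𝔯) := by
      rw [← Scheme.Hom.comp_apply, ← Scheme.Hom.comp_apply, hcomm]
    let 𝔫 : PrimeSpectrum (S.presheaf.stalk (h ((h.fiberι s) y))) :=
      (Spec.map (h.stalkMap ((h.fiberι s) y))).base 𝔯
    have h𝔫 : 𝔫.asIdeal = Ideal.comap σ 𝔯.asIdeal := rfl
    have hinj : Function.Injective (S.fromSpecStalk (h ((h.fiberι s) y))).base :=
      (S.fromSpecStalk (h ((h.fiberι s) y))).isEmbedding.injective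
    have hcl : (S.fromSpecStalk (h ((h.fiberι s) y))).base
        (closedPoint (S.presheaf.stalk (h ((h.fiberι s) y)))) = h ((h.fiberι s) y) :=
      Scheme.fromSpecStalk_closedPoint
    constructor
    · intro heq
      have heq' : (S.fromSpecStalk (h ((h.fiberι s) y))).base 𝔫 =
          (S.fromSpecStalk (h ((h.fiberι s) y))).base
            (closedPoint (S.presheaf.stalk (h ((h.fiberι s) y)))) :=
        (h1.symm.trans (heq.trans hp₀.symm)).trans hcl.symm
      have h2 : 𝔫 = closedPoint (S.presheaf.stalk (h ((h.fiberι s) y))) := hinj heq'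
      have h3 : 𝔫.asIdeal = maximalIdeal _ := by rw [h2]; rfl
      rw [h𝔫] at h3
      change Ideal.map σ _ ≤ _
      rw [Ideal.map_le_iff_le_comap, h3]
    · intro hle
      change Ideal.map σ _ ≤ _ at hle
      rw [Ideal.map_le_iff_le_comap, ← h𝔫] at hle
      have h3 : 𝔫.asIdeal = maximalIdeal _ :=
        ((IsLocalRing.maximalIdeal.isMaximal _).eq_of_le 𝔫.2.ne_top hle).symm
      have h2 : 𝔫 = closedPoint (S.presheaf.stalk (h ((h.fiberι s) y))) :=
        PrimeSpectrum.ext h3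
      have h4 : (S.fromSpecStalk (h ((h.fiberι s) y))).base 𝔫 = h ((h.fiberι s) y) := by
        rw [h2]; exact hcl
      exact (h1.trans h4).trans hp₀
  haveI : IsNoetherianRing B := inferInstance
  have hIne : I ≠ ⊤ := by
    intro htop
    have h1 : (1 : B) ∈ RingHom.ker ((h.fiberι s).stalkMap y).hom := by
      rw [hker]
      change (1 : B) ∈ I
      rw [htop]; trivial
    rw [RingHom.mem_ker, map_one] at h1
    exact one_ne_zero h1
  have ht : σ ϖ₀ ∈ maximalIdeal B := by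
    have h1 : I ≤ maximalIdeal B := IsLocalRing.le_maximalIdeal hIne
    apply h1
    rw [hI]
    exact Ideal.mem_span_singleton_self _
  refine regular_of_isRadical_of_minimalPrimes (σ ϖ₀) ht (hI ▸ hIrad) ?_
  intro 𝔭 h𝔭 hmem
  haveI : 𝔭.IsPrime := h𝔭.1.1
  let 𝔭' : PrimeSpectrum B := ⟨𝔭, inferInstance⟩
  have hI𝔭 : I ≤ 𝔭'.asIdeal := by
    rw [hI, Ideal.span_singleton_le_iff_mem]
    exact hmem
  obtain ⟨ξ', hξ'1, hξ'2⟩ := hgen (φ.base 𝔭') (hspec 𝔭') ((hfib 𝔭').mpr hI𝔭)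
  obtain ⟨𝔯, h𝔯⟩ := hrange ξ' (hξ'1.trans (hspec 𝔭'))
  have hle : 𝔯.asIdeal ≤ 𝔭 := by
    have := (hle_iff 𝔯 𝔭').mp (by rw [h𝔯]; exact hξ'1)
    exact this
  have hge : 𝔭 ≤ 𝔯.asIdeal := h𝔭.2 ⟨𝔯.2, bot_le⟩ hle
  apply hξ'2
  rw [← h𝔯]
  exact (hfib 𝔯).mpr (hI𝔭.trans hge)

end Groth.Agent.Lib.Helper21.SCmp
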