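import Mathlib
import Groth.Agent.Lib.Helper21.GIS11

/-!
# Section components: the generic structure (over a base with algebraically closed function field)
-/

set_option autoImplicit false
set_option linter.style.haveILetI false
set_option linter.unusedSectionVars false
universe u

open AlgebraicGeometry CategoryTheory Limits TopologicalSpace TensorProduct

namespace Groth.Agent.Lib.Helper21.SCmp

open Groth.Agent.Lib.Helper21.SecOpen Groth.Agent.Lib.Helper21.GIR Groth.Agent.Lib.Helper21.GIS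

/-! ### topology -/

/-- the connected component of a point in a subspace covered by finitely many closed pieces with
connected traces -/
theorem connectedComponentIn_eq_of_cover {P : Type*} [TopologicalSpace P] (F : Set P)
    {J : Type*} [Finite J] (S : J → Set P) (hclosed : ∀ j, IsClosed (S j))
    (hconn : ∀ j, IsPreconnected (S j ∩ F)) (hcov : F ⊆ ⋃ j, S j) (rel : J → J → Prop)
    (hrel : ∀ i j, (S i ∩ S j ∩ F).Nonempty ↔ rel i j) (j₀ : J) (x₀ : P) (hx₀ : x₀ ∈ S j₀ ∩ F) :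
    connectedComponentIn F x₀ = (⋃ j ∈ {j | Relation.ReflTransGen rel j₀ j}, S j) ∩ F := by
  classical
  set I : Set J := {j | Relation.ReflTransGen rel j₀ j} with hI
  apply Set.Subset.antisymm
  · -- the component is contained in the union
    have hA : IsClosed (⋃ k ∈ I, S k) := (Set.toFinite I).isClosed_biUnion fun k _ => hclosed k
    have hB : IsClosed (⋃ k ∈ Iᶜ, S k) := (Set.toFinite Iᶜ).isClosed_biUnion fun k _ => hclosed k
    have hC : IsPreconnected (connectedComponentIn F x₀) := isPreconnected_connectedComponentIn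
    have hCF : connectedComponentIn F x₀ ⊆ F := connectedComponentIn_subset F x₀
    have hx₀C : x₀ ∈ connectedComponentIn F x₀ := mem_connectedComponentIn hx₀.2
    have hsub : connectedComponentIn F x₀ ⊆ (⋃ k ∈ I, S k) ∪ ⋃ k ∈ Iᶜ, S k := by
      intro x hx
      obtain ⟨k, hk⟩ := Set.mem_iUnion.mp (hcov (hCF hx))
      by_cases hkI : k ∈ I
      · exact Or.inl (Set.mem_biUnion hkI hk)
      · exact Or.inr (Set.mem_biUnion (show k ∈ Iᶜ from hkI) hk)
    intro x hx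
    refine ⟨?_, hCF hx⟩
    by_contra hxA
    have hxB : x ∈ ⋃ k ∈ Iᶜ, S k := (hsub hx).resolve_left hxA
    obtain ⟨z, hzC, hzA, hzB⟩ := (isPreconnected_closed_iff.mp hC) _ _ hA hB hsub
      ⟨x₀, hx₀C, Set.mem_biUnion (Relation.ReflTransGen.refl : j₀ ∈ I) hx₀.1⟩ ⟨x, hx, hxB⟩
    simp only [Set.mem_iUnion, exists_prop] at hzA hzB
    obtain ⟨k, hkI, hk⟩ := hzA
    obtain ⟨l, hlI, hl⟩ := hzB
    exact hlI (Relation.ReflTransGen.tail hkI ((hrel k l).mp ⟨z, ⟨hk, hl⟩, hCF hzC⟩))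
  · -- the union is preconnected
    have hchain : ∀ j, Relation.ReflTransGen rel j₀ j →
        S j ∩ F ⊆ connectedComponentIn F x₀ := by
      intro j hj
      induction hj with
      | refl =>
        exact (hconn j₀).subset_connectedComponentIn hx₀ Set.inter_subset_right
      | @tail b c _ hbc ih =>
        obtain ⟨z, ⟨hzb, hzc⟩, hzF⟩ := (hrel b c).mpr hbc
        have hz : z ∈ connectedComponentIn F x₀ := ih ⟨hzb, hzF⟩
        have h1 : S c ∩ F ⊆ connectedComponentIn F z :=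
          (hconn c).subset_connectedComponentIn ⟨hzc, hzF⟩ Set.inter_subset_right
        rw [← connectedComponentIn_eq hz] at h1
        exact h1
    rintro x ⟨hx, hxF⟩
    simp only [Set.mem_iUnion, exists_prop] at hx
    obtain ⟨j, hj, hxj⟩ := hx
    exact hchain j hj ⟨hxj, hxF⟩

variable {X Y : Scheme.{u}}

/-- a field-valued point at a given point of an affine open -/
theorem exists_field_point {V₀ : Y.Opens} (hV₀ : IsAffineOpen V₀) (v : Y) (hv : v ∈ V₀) :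
    ∃ (L : Type u) (_ : Field L) (_ : Algebra Γ(Y, V₀) L),
      (∀ z, pt hV₀ (algebraMap Γ(Y, V₀) L) z = v) ∧
      ∀ a : Γ(Y, V₀), algebraMap Γ(Y, V₀) L a ≠ 0 ↔ v ∈ Y.basicOpen a := by
  obtain ⟨q, hq⟩ := exists_fromSpec_eq hV₀ v hv
  haveI := q.isPrime
  refine ⟨q.asIdeal.ResidueField, inferInstance, inferInstance, fun z => ?_, fun a => ?_⟩
  · rw [pt_apply, ← hq]
    congr 1
    apply PrimeSpectrum.ext
    exact Ideal.ker_algebraMap_residueField q.asIdeal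
  · rw [← hq, fromSpec_mem_basicOpen_iff hV₀ a q, Ne, ← RingHom.mem_ker,
      Ideal.ker_algebraMap_residueField]

theorem gpt_specializes {V₀ : Y.Opens} (hV₀ : IsAffineOpen V₀) [IsDomain Γ(Y, V₀)] (v : Y)
    (hv : v ∈ V₀) : gpt hV₀ ⤳ v := by
  obtain ⟨q, rfl⟩ := exists_fromSpec_eq hV₀ v hv
  unfold gpt
  rw [fromSpec_specializes_iff]
  exact bot_le

theorem range_fst_pt (f : X ⟶ Y) {V₀ : Y.Opens} (hV₀ : IsAffineOpen V₀) {L : Type u} [Field L]
    (ψ : Γ(Y, V₀) →+* L) (v : Y) (hv : ∀ z, pt hV₀ ψ z = v) :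
    Set.range (pullback.fst f (pt hV₀ ψ)) = f ⁻¹' {v} := by
  rw [Scheme.Pullback.range_fst]
  congr 1
  ext w
  simp only [Set.mem_range, Set.mem_singleton_iff]
  constructor
  · rintro ⟨z, rfl⟩
    exact hv z
  · rintro rfl
    exact ⟨IsLocalRing.closedPoint L, hv _⟩

section

variable (f : X ⟶ Y) [LocallyOfFiniteType f] {V₀ : Y.Opens} (hV₀ : IsAffineOpen V₀)
  [IsDomain Γ(Y, V₀)] (Ω : Type u) [Field Ω] [IsAlgClosed Ω] [Algebra Γ(Y, V₀) Ω]
  [IsFractionRing Γ(Y, V₀) Ω] (T : Finset X.affineOpens) (hT : ∀ W ∈ T, W.1 ≤ f ⁻¹ᵁ V₀)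
  (hTcov : ∀ x : X, f x ∈ V₀ → ∃ W ∈ T, x ∈ W.1)

include hV₀ Ω hT hTcov in
/-- over a base with algebraically closed function field, the section components are generically
cut out by a closed subset whose complement in the preimage is closed as well -/
theorem exists_closed_decomposition (s : Y ⟶ X) (hs : s ≫ f = 𝟙 Y) :
    ∃ (a' : Γ(Y, V₀)) (Z₁ Z₂ : Set X), a' ≠ 0 ∧ IsClosed Z₁ ∧ IsClosed Z₂ ∧
      ∀ v ∈ Y.basicOpen a', f ⁻¹' {v} ⊆ Z₁ ∪ Z₂ ∧ Z₁ ∩ Z₂ ∩ f ⁻¹' {v} = ∅ ∧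
        connectedComponentIn (f ⁻¹' {v}) (s v) = Z₁ ∩ f ⁻¹' {v} := by
  classical
  obtain ⟨Ξ, a', hΞ, ha', H⟩ := exists_structure' f hV₀ Ω T hT hTcov
  have hfs : ∀ v : Y, f (s v) = v := fun v => by
    rw [← Scheme.Hom.comp_apply, hs]; rfl
  let J := {ξ // ξ ∈ Ξ}
  let S : J → Set X := fun j => closure {j.1}
  let rel : J → J → Prop := fun i j => ∃ x : X, f x = gpt hV₀ ∧ i.1 ⤳ x ∧ j.1 ⤳ x
  -- the component of the section at the generic point
  obtain ⟨ξ₀, hξ₀⟩ : ∃ ξ₀ : J, s (gpt hV₀) ∈ closure ({ξ₀.1} : Set X) := by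
    have hΩ : algebraMap Γ(Y, V₀) Ω a' ≠ 0 := fun h =>
      ha' ((IsFractionRing.injective Γ(Y, V₀) Ω) (by rw [h, map_zero]))
    obtain ⟨-, h2, -, -⟩ := H Ω hΩ
    have hpt : ∀ z, pt hV₀ (algebraMap Γ(Y, V₀) Ω) z = gpt hV₀ := by
      intro z
      rw [pt_apply]
      unfold gpt
      congr 1
      apply PrimeSpectrum.ext
      exact (RingHom.injective_iff_ker_eq_bot _).mp (IsFractionRing.injective Γ(Y, V₀) Ω)
    have hmem : s (gpt hV₀) ∈ Set.range (pullback.fst f (pt hV₀ (algebraMap Γ(Y, V₀) Ω))) := by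
      rw [range_fst_pt f hV₀ _ _ hpt]
      exact hfs _
    obtain ⟨z, hz⟩ := hmem
    obtain ⟨ξ, hξ, hzξ⟩ := h2 z
    rw [hz] at hzξ
    exact ⟨⟨ξ, hξ⟩, hzξ⟩
  set I : Set J := {j | Relation.ReflTransGen rel ξ₀ j} with hI
  refine ⟨a', ⋃ j ∈ I, S j, ⋃ j ∈ Iᶜ, S j, ha',
    (Set.toFinite I).isClosed_biUnion fun k _ => isClosed_closure,
    (Set.toFinite Iᶜ).isClosed_biUnion fun k _ => isClosed_closure, fun v hv => ?_⟩
  have hvV₀ : v ∈ V₀ := Y.basicOpen_le a' hv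
  obtain ⟨L, _, _, hpt, hne⟩ := exists_field_point hV₀ v hvV₀
  obtain ⟨h1, h2, h3, -⟩ := H L ((hne a').mpr hv)
  have hrange := range_fst_pt f hV₀ (algebraMap Γ(Y, V₀) L) v hpt
  set pr := pullback.fst f (pt hV₀ (algebraMap Γ(Y, V₀) L)) with hpr
  have himage : ∀ j : J, S j ∩ f ⁻¹' {v} = pr '' (pr ⁻¹' (S j)) := by
    intro j
    rw [Set.image_preimage_eq_inter_range, hrange]
  have hconn : ∀ j : J, IsPreconnected (S j ∩ f ⁻¹' {v}) := by
    intro j
    rw [himage]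
    exact ((h1 j.1 j.2).image pr pr.continuous.continuousOn).isConnected.isPreconnected
  have hcov : f ⁻¹' {v} ⊆ ⋃ j, S j := by
    intro x hx
    rw [← hrange] at hx
    obtain ⟨z, rfl⟩ := hx
    obtain ⟨ξ, hξ, hzξ⟩ := h2 z
    exact Set.mem_iUnion.mpr ⟨⟨ξ, hξ⟩, hzξ⟩
  have hrel : ∀ i j : J, (S i ∩ S j ∩ f ⁻¹' {v}).Nonempty ↔ rel i j := by
    intro i j
    change _ ↔ ∃ x : X, f x = gpt hV₀ ∧ i.1 ⤳ x ∧ j.1 ⤳ x
    rw [← h3 i.1 i.2 j.1 j.2]
    constructor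
    · rintro ⟨x, ⟨hxi, hxj⟩, hxv⟩
      rw [← hrange] at hxv
      obtain ⟨z, rfl⟩ := hxv
      exact ⟨z, hxi, hxj⟩
    · rintro ⟨z, hzi, hzj⟩
      refine ⟨pr z, ⟨hzi, hzj⟩, ?_⟩
      rw [← hrange]
      exact ⟨z, rfl⟩
  have hsv : s v ∈ S ξ₀ ∩ f ⁻¹' {v} := by
    refine ⟨?_, hfs v⟩
    have h1 : s (gpt hV₀) ⤳ s v := (gpt_specializes hV₀ v hvV₀).map s.continuous
    exact closure_minimal (Set.singleton_subset_iff.mpr hξ₀) isClosed_closure
      (specializes_iff_mem_closure.mp h1)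
  have hcomp := connectedComponentIn_eq_of_cover (f ⁻¹' {v}) S (fun _ => isClosed_closure) hconn
    hcov rel hrel ξ₀ (s v) hsv
  refine ⟨?_, ?_, hcomp⟩
  · intro x hx
    obtain ⟨k, hk⟩ := Set.mem_iUnion.mp (hcov hx)
    by_cases hkI : k ∈ I
    · exact Or.inl (Set.mem_biUnion hkI hk)
    · exact Or.inr (Set.mem_biUnion (show k ∈ Iᶜ from hkI) hk)
  · rw [Set.eq_empty_iff_forall_notMem]
    rintro x ⟨⟨hx1, hx2⟩, hxv⟩
    simp only [Set.mem_iUnion, exists_prop] at hx1 hx2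
    obtain ⟨k, hkI, hk⟩ := hx1
    obtain ⟨l, hlI, hl⟩ := hx2
    exact hlI (Relation.ReflTransGen.tail hkI ((hrel k l).mp ⟨x, ⟨hk, hl⟩, hxv⟩))

end

end Groth.Agent.Lib.Helper21.SCmp
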