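import Mathlib
import Groth.Agent.Lib.Helper21.SCmp1
import Groth.Agent.Lib.Helper21.SCmp2
import Groth.Agent.Lib.Helper21.GIR6
import Groth.Agent.Lib.Helper21.GIS4

/-!
# Section components: local structure in the closure of a point (affine base)
-/

set_option autoImplicit false
set_option linter.style.haveILetI false
set_option linter.unusedSectionVars false
universe u

open AlgebraicGeometry CategoryTheory Limits TopologicalSpace TensorProduct

namespace Groth.Agent.Lib.Helper21.SCmp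

open Groth.Agent.Lib.Helper21.SecOpen Groth.Agent.Lib.Helper21.GIR Groth.Agent.Lib.Helper21.GIS

theorem appTop_fromSpec_top {Y : Scheme.{u}} [IsAffine Y] (A' : Type u) [CommRing A']
    (χ : Γ(Y, ⊤) →+* A') (r : Γ(Y, ⊤)) :
    (Scheme.ΓSpecIso (CommRingCat.of A')).hom.hom
      ((Spec.map (CommRingCat.ofHom χ) ≫ (isAffineOpen_top Y).fromSpec).appTop.hom r) = χ r := by
  have h1 : Y.isoSpec.inv.appTop ≫ (Scheme.ΓSpecIso Γ(Y, ⊤)).hom = 𝟙 _ := by
    rw [← Scheme.toSpecΓ_appTop]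
    change Y.isoSpec.inv.appTop ≫ Y.isoSpec.hom.appTop = 𝟙 _
    rw [← Scheme.Hom.comp_appTop, Iso.hom_inv_id]
    rfl
  have h2 : (Spec.map (CommRingCat.ofHom χ) ≫ (isAffineOpen_top Y).fromSpec).appTop ≫
      (Scheme.ΓSpecIso (CommRingCat.of A')).hom = CommRingCat.ofHom χ := by
    rw [IsAffineOpen.fromSpec_top, Scheme.Hom.comp_appTop, Category.assoc,
      Scheme.ΓSpecIso_naturality, ← Category.assoc]
    erw [h1]
    exact Category.id_comp _
  exact congrArg (fun t => t.hom r) h2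

set_option maxHeartbeats 1600000 in
/-- **affine base**: near `y` in the closure of `y`, the section components and their complement
are both traces of closed subsets -/
theorem exists_closed_pair_of_isAffine {X Y : Scheme.{u}} [IsAffine Y] (f : X ⟶ Y)
    [LocallyOfFiniteType f] [QuasiCompact f] (s : Y ⟶ X) (hs : s ≫ f = 𝟙 Y) (y : Y) :
    ∃ (U : Y.Opens) (K₁ K₂ : Set X), y ∈ U ∧ IsClosed K₁ ∧ IsClosed K₂ ∧
      ∀ x : X, f x ∈ closure ({y} : Set Y) → f x ∈ U →
        (x ∈ MoreMor.sectionComponents f s ↔ x ∈ K₁) ∧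
        (x ∉ MoreMor.sectionComponents f s ↔ x ∈ K₂) := by
  classical
  have hV₀ := isAffineOpen_top Y
  obtain ⟨𝔭pt, h𝔭pt⟩ := exists_fromSpec_eq hV₀ y trivial
  haveI : 𝔭pt.asIdeal.IsPrime := 𝔭pt.isPrime
  obtain ⟨A', _, _, Ω, _, _, _, _, _, hint, hker, Hdvd⟩ := exists_package_integral 𝔭pt.asIdeal
  let χ : Γ(Y, ⊤) →+* A' := algebraMap Γ(Y, ⊤) A'
  let g : Spec (CommRingCat.of A') ⟶ Y := Spec.map (CommRingCat.ofHom χ) ≫ hV₀.fromSpec
  haveI : IsIntegralHom (Spec.map (CommRingCat.ofHom χ)) := by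
    rw [IsIntegralHom.SpecMap_iff]
    exact algebraMap_isIntegral_iff.mpr hint
  haveI : IsIso hV₀.fromSpec := by
    rw [IsAffineOpen.fromSpec_top]
    infer_instance
  haveI : IsIntegralHom g := inferInstance
  let f' := pullback.snd f g
  let ρ := pullback.fst f g
  have hpb : IsPullback ρ f' f g := IsPullback.of_hasPullback f g
  let s' : Spec (CommRingCat.of A') ⟶ pullback f g :=
    pullback.lift (g ≫ s) (𝟙 _) (by rw [Category.assoc, hs]; simp)
  have hs' : s' ≫ f' = 𝟙 _ := pullback.lift_snd _ _ _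
  have hss : s' ≫ ρ = g ≫ s := pullback.lift_fst _ _ _
  have hB := isAffineOpen_top (Spec (CommRingCat.of A'))
  let eB : Γ(Spec (CommRingCat.of A'), ⊤) ≃+* A' :=
    (Scheme.ΓSpecIso (CommRingCat.of A')).commRingCatIsoToRingEquiv
  haveI : IsDomain Γ(Spec (CommRingCat.of A'), ⊤) := eB.toMulEquiv.isDomain A'
  letI : Algebra Γ(Spec (CommRingCat.of A'), ⊤) Ω :=
    ((algebraMap A' Ω).comp eB.symm.symm.toRingHom).toAlgebra
  haveI : IsFractionRing Γ(Spec (CommRingCat.of A'), ⊤) Ω :=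
    (IsFractionRing.isFractionRing_iff_of_base_ringEquiv (R := A') (S := Ω) eB.symm).mp
      inferInstance
  obtain ⟨T', hT', hT'cov⟩ := exists_finite_affine_cover f' hB
  obtain ⟨a'B, Z₁, Z₂, ha'B, hZ₁, hZ₂, HZ⟩ :=
    exists_closed_decomposition f' hB Ω T' hT' hT'cov s' hs'
  have ha' : eB a'B ≠ 0 := fun h => ha'B (eB.injective (by rw [h, map_zero]))
  obtain ⟨r, hr, b, hb⟩ := Hdvd (eB a'B) ha'
  -- the closed map
  have hρcl : IsClosedMap ρ := ρ.isClosedMap
  have hfρ : ∀ x' : ↥(pullback f g), f (ρ x') = g (f' x') := by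
    intro x'
    rw [← Scheme.Hom.comp_apply, hpb.w, Scheme.Hom.comp_apply]
  -- points over the basic open set lie in the nonvanishing locus of `a'B`
  have hkey : ∀ v' : Spec (CommRingCat.of A'), g v' ∈ Y.basicOpen r →
      v' ∈ (Spec (CommRingCat.of A')).basicOpen a'B := by
    intro v' hv'
    have h1 : v' ∈ g ⁻¹ᵁ Y.basicOpen r := hv'
    rw [Scheme.preimage_basicOpen_top] at h1
    have h2 : g.appTop.hom r = a'B * eB.symm b := by
      apply eB.injective
      rw [map_mul, RingEquiv.apply_symm_apply, ← hb]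
      exact appTop_fromSpec_top A' χ r
    have h3 : (Spec (CommRingCat.of A')).basicOpen (g.appTop.hom r) ≤
        (Spec (CommRingCat.of A')).basicOpen a'B := by
      rw [h2, Scheme.basicOpen_mul]
      exact inf_le_left
    exact h3 h1
  -- surjectivity onto the part over the closure of `y`
  have hsurj : ∀ x : X, f x ∈ closure ({y} : Set Y) → ∃ x' : ↥(pullback f g), ρ x' = x := by
    intro x hx
    obtain ⟨t₀, ht₀⟩ := exists_fromSpec_eq hV₀ (f x) trivial
    have hle : 𝔭pt.asIdeal ≤ t₀.asIdeal := by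
      rw [← fromSpec_specializes_iff hV₀, h𝔭pt, ht₀]
      exact specializes_iff_mem_closure.mpr hx
    haveI := t₀.isPrime
    obtain ⟨Q, -, hQ, hQt⟩ := Ideal.exists_ideal_over_prime_of_isIntegral t₀.asIdeal
      (⊥ : Ideal A') (by
        rw [← RingHom.ker_eq_comap_bot, hker]
        exact hle)
    let v' : Spec (CommRingCat.of A') := ⟨Q, hQ⟩
    have hgv' : g v' = f x := by
      change (Spec.map (CommRingCat.ofHom χ) ≫ hV₀.fromSpec) v' = f x
      rw [Scheme.Hom.comp_apply, ← ht₀]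
      congr 1
      exact PrimeSpectrum.ext hQt
    obtain ⟨x', hx'1, -⟩ := Scheme.Pullback.exists_preimage_pullback (f := f) (g := g) x v'
      hgv'.symm
    exact ⟨x', hx'1⟩
  have hSC : MoreMor.sectionComponents f' s' = ρ ⁻¹' MoreMor.sectionComponents f s :=
    sectionComponents_of_isPullback hpb s hs s' hs' hss
  -- membership in the section components upstairs
  have hup : ∀ x' : ↥(pullback f g), f (ρ x') ∈ Y.basicOpen r →
      (x' ∈ Z₁ ∪ Z₂) ∧ ¬ (x' ∈ Z₁ ∧ x' ∈ Z₂) ∧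
      (ρ x' ∈ MoreMor.sectionComponents f s ↔ x' ∈ Z₁) := by
    intro x' hx'
    rw [hfρ] at hx'
    obtain ⟨h1, h2, h3⟩ := HZ (f' x') (hkey _ hx')
    refine ⟨h1 rfl, fun h => ?_, ?_⟩
    · have : x' ∈ Z₁ ∩ Z₂ ∩ f' ⁻¹' {f' x'} := ⟨⟨h.1, h.2⟩, rfl⟩
      rw [h2] at this
      exact this
    · have : ρ x' ∈ MoreMor.sectionComponents f s ↔ x' ∈ MoreMor.sectionComponents f' s' := by
        rw [hSC]; rfl
      rw [this]
      change x' ∈ connectedComponentIn (f' ⁻¹' {f' x'}) (s' (f' x')) ↔ _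
      rw [h3]
      exact ⟨fun h => h.1, fun h => ⟨h, rfl⟩⟩
  refine ⟨Y.basicOpen r, ρ '' Z₁, ρ '' Z₂, ?_, hρcl _ hZ₁, hρcl _ hZ₂, fun x hx hxU => ?_⟩
  · rw [← h𝔭pt]
    exact (fromSpec_mem_basicOpen_iff hV₀ r _).mpr hr
  · obtain ⟨x', rfl⟩ := hsurj x hx
    obtain ⟨hcov, hdisj, hiff⟩ := hup x' hxU
    refine ⟨⟨fun h => ⟨x', hiff.mp h, rfl⟩, ?_⟩, ⟨fun h => ?_, ?_⟩⟩
    · rintro ⟨x'', hx''Z, hx''⟩
      have hx''U : f (ρ x'') ∈ Y.basicOpen r := by rw [hx'']; exact hxU
      obtain ⟨-, -, hiff''⟩ := hup x'' hx''U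
      rw [← hx'']
      exact hiff''.mpr hx''Z
    · refine ⟨x', ?_, rfl⟩
      rcases hcov with h1 | h2
      · exact absurd (hiff.mpr h1) h
      · exact h2
    · rintro ⟨x'', hx''Z, hx''⟩ hmem
      have hx''U : f (ρ x'') ∈ Y.basicOpen r := by rw [hx'']; exact hxU
      obtain ⟨-, hdisj'', hiff''⟩ := hup x'' hx''U
      rw [← hx''] at hmem
      exact hdisj'' ⟨hiff''.mp hmem, hx''Z⟩

end Groth.Agent.Lib.Helper21.SCmp
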