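import Mathlib
import Groth.Agent.Lib.Helper21.SCmp3

/-!
# Section components: local structure in the closure of a point (general base)
-/

set_option autoImplicit false
set_option linter.style.haveILetI false
set_option linter.unusedSectionVars false
universe u

open AlgebraicGeometry CategoryTheory Limits TopologicalSpace TensorProduct

namespace Groth.Agent.Lib.Helper21.SCmp

open Groth.Agent.Lib.Helper21.SecOpen Groth.Agent.Lib.Helper21.GIR Groth.Agent.Lib.Helper21.GIS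

/-- the restriction of a section to an open subscheme of the base -/
theorem exists_restrict_section {X Y : Scheme.{u}} (f : X ⟶ Y) (s : Y ⟶ X) (hs : s ≫ f = 𝟙 Y)
    (V : Y.Opens) :
    ∃ s₀ : V.toScheme ⟶ (f ⁻¹ᵁ V).toScheme, s₀ ≫ f ∣_ V = 𝟙 _ ∧
      s₀ ≫ (f ⁻¹ᵁ V).ι = V.ι ≫ s := by
  have hrange : Set.range (V.ι ≫ s) ⊆ Set.range (f ⁻¹ᵁ V).ι := by
    rintro _ ⟨v, rfl⟩
    rw [Scheme.Opens.range_ι]
    change f ((V.ι ≫ s) v) ∈ V
    rw [Scheme.Hom.comp_apply, section_apply f s hs]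
    exact v.2
  let s₀ : V.toScheme ⟶ (f ⁻¹ᵁ V).toScheme := IsOpenImmersion.lift (f ⁻¹ᵁ V).ι (V.ι ≫ s) hrange
  have h2 : s₀ ≫ (f ⁻¹ᵁ V).ι = V.ι ≫ s := IsOpenImmersion.lift_fac _ _ _
  refine ⟨s₀, ?_, h2⟩
  rw [← cancel_mono V.ι, Category.assoc, morphismRestrict_ι, ← Category.assoc, h2, Category.assoc,
    hs, Category.id_comp, Category.comp_id]

/-- **general base**: near `y` in the closure of `y`, the section components are open and closed
in the preimage -/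
theorem exists_isClopen_sectionComponents_aux {X Y : Scheme.{u}} (f : X ⟶ Y)
    [LocallyOfFiniteType f] [QuasiCompact f] (s : Y ⟶ X) (hs : s ≫ f = 𝟙 Y) (y : Y)
    (V₀ : Y.Opens) (hV₀' : IsAffineOpen V₀) (hyV₀ : y ∈ V₀) :
    ∃ U : Y.Opens, y ∈ U ∧
      IsClopen (Subtype.val ⁻¹' MoreMor.sectionComponents f s :
        Set ↑(f ⁻¹' (closure ({y} : Set Y) ∩ (U : Set Y)))) := by
  haveI : IsAffine V₀.toScheme := hV₀'
  obtain ⟨s₀, hs₀, hss⟩ := exists_restrict_section f s hs V₀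
  have hpb : IsPullback (f ⁻¹ᵁ V₀).ι (f ∣_ V₀) f V₀.ι := (isPullback_morphismRestrict f V₀).flip
  let y₀ : V₀.toScheme := ⟨y, hyV₀⟩
  obtain ⟨U₀, K₁, K₂, hy₀, hK₁, hK₂, H⟩ := exists_closed_pair_of_isAffine (f ∣_ V₀) s₀ hs₀ y₀
  have hSC : MoreMor.sectionComponents (f ∣_ V₀) s₀ =
      (f ⁻¹ᵁ V₀).ι ⁻¹' MoreMor.sectionComponents f s :=
    sectionComponents_of_isPullback hpb s hs s₀ hs₀ hss
  obtain ⟨K₁', hK₁', hK₁eq⟩ := (f ⁻¹ᵁ V₀).ι.isEmbedding.isInducing.isClosed_iff.mp hK₁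
  obtain ⟨K₂', hK₂', hK₂eq⟩ := (f ⁻¹ᵁ V₀).ι.isEmbedding.isInducing.isClosed_iff.mp hK₂
  refine ⟨V₀.ι ''ᵁ U₀, ⟨y₀, hy₀, rfl⟩, ?_⟩
  -- the key pointwise statement
  have hpt : ∀ x : X, f x ∈ closure ({y} : Set Y) → f x ∈ (V₀.ι ''ᵁ U₀ : Y.Opens) →
      (x ∈ MoreMor.sectionComponents f s ↔ x ∈ K₁') ∧
      (x ∉ MoreMor.sectionComponents f s ↔ x ∈ K₂') := by
    intro x hx1 hx2
    obtain ⟨u₀, hu₀, hu₀x⟩ := hx2
    replace hu₀x : V₀.ι u₀ = f x := hu₀x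
    have hxV₀ : x ∈ f ⁻¹ᵁ V₀ := by
      change f x ∈ V₀
      rw [← hu₀x]
      exact u₀.2
    let x₀ : (f ⁻¹ᵁ V₀).toScheme := ⟨x, hxV₀⟩
    have hx₀ : (f ⁻¹ᵁ V₀).ι x₀ = x := rfl
    have hf₀ : V₀.ι ((f ∣_ V₀) x₀) = f x := by
      rw [← Scheme.Hom.comp_apply, morphismRestrict_ι, Scheme.Hom.comp_apply]
      rfl
    have hf₀u : (f ∣_ V₀) x₀ = u₀ := V₀.ι.isEmbedding.injective (by rw [hf₀, hu₀x])
    have hcl : (f ∣_ V₀) x₀ ∈ closure ({y₀} : Set V₀.toScheme) := by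
      rw [V₀.ι.isEmbedding.isInducing.closure_eq_preimage_closure_image, Set.image_singleton]
      change V₀.ι ((f ∣_ V₀) x₀) ∈ closure {V₀.ι y₀}
      rw [hf₀]
      exact hx1
    obtain ⟨h1, h2⟩ := H x₀ hcl (by rw [hf₀u]; exact hu₀)
    have hmem : x₀ ∈ MoreMor.sectionComponents (f ∣_ V₀) s₀ ↔
        x ∈ MoreMor.sectionComponents f s := by
      rw [hSC]; rfl
    constructor
    · rw [← hmem, h1, ← hK₁eq]
      rfl
    · rw [← hmem, h2, ← hK₂eq]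
      rfl
  constructor
  · have : (Subtype.val ⁻¹' MoreMor.sectionComponents f s :
        Set ↑(f ⁻¹' (closure ({y} : Set Y) ∩ ((V₀.ι ''ᵁ U₀ : Y.Opens) : Set Y)))) =
        Subtype.val ⁻¹' K₁' := by
      ext ⟨x, hx⟩
      exact (hpt x hx.1 hx.2).1
    rw [this]
    exact hK₁'.preimage continuous_subtype_val
  · rw [← isClosed_compl_iff]
    have : (Subtype.val ⁻¹' MoreMor.sectionComponents f s :
        Set ↑(f ⁻¹' (closure ({y} : Set Y) ∩ ((V₀.ι ''ᵁ U₀ : Y.Opens) : Set Y))))ᶜ =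
        Subtype.val ⁻¹' K₂' := by
      ext ⟨x, hx⟩
      exact (hpt x hx.1 hx.2).2
    rw [this]
    exact hK₂'.preimage continuous_subtype_val

/-- **general base**: near `y` in the closure of `y`, the section components are open and closed
in the preimage -/
theorem exists_isClopen_sectionComponents {X Y : Scheme.{u}} (f : X ⟶ Y)
    [LocallyOfFiniteType f] [QuasiCompact f] (s : Y ⟶ X) (hs : s ≫ f = 𝟙 Y) (y : Y) :
    ∃ U : Y.Opens, y ∈ U ∧
      IsClopen (Subtype.val ⁻¹' MoreMor.sectionComponents f s :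
        Set ↑(f ⁻¹' (closure ({y} : Set Y) ∩ (U : Set Y)))) := by
  obtain ⟨_, ⟨V₀, hV₀, rfl⟩, hyV₀, -⟩ := Y.isBasis_affineOpens.exists_subset_of_mem_open
    (Set.mem_univ y) isOpen_univ
  exact exists_isClopen_sectionComponents_aux f s hs y V₀ hV₀ hyV₀

end Groth.Agent.Lib.Helper21.SCmp
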