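import Mathlib
import Groth.Agent.Lib.Helper21.SCmp4
import Groth.Agent.Lib.Helper21.GIS14
import Groth.Agent.Lib.Helper12.ConstrTop

/-!
# Section components are locally constructible
-/

set_option autoImplicit false
set_option linter.style.haveILetI false
set_option linter.unusedSectionVars false
universe u

open AlgebraicGeometry CategoryTheory Limits TopologicalSpace Topology Set.Notation

namespace Groth.Agent.Lib.Helper21.SCmp

open Groth.Agent.Lib.Helper21.GIS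

/-- **Noetherian case** -/
theorem isConstructible_sectionComponents_of_noetherianSpace {X Y : Scheme.{u}}
    [NoetherianSpace X] (f : X ⟶ Y) [LocallyOfFiniteType f] [QuasiCompact f] (s : Y ⟶ X)
    (hs : s ≫ f = 𝟙 Y) : IsConstructible (MoreMor.sectionComponents f s) := by
  have key := (Groth.Agent.Lib.Helper12.constructible_function_of_locally_constant
    (fun x : X => x ∈ MoreMor.sectionComponents f s) ?_).1 True
  · convert key using 1
    ext x
    simp
  intro T hT hTirr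
  obtain ⟨ξ, hξ⟩ := QuasiSober.sober hTirr hT
  obtain ⟨U, hyU, Hclopen⟩ := exists_isClopen_sectionComponents f s hs (f ξ)
  have hξT : ξ ∈ T := hξ.mem
  have hξU : ξ ∈ f ⁻¹ᵁ U := hyU
  refine ⟨f ⁻¹ᵁ U, (f ⁻¹ᵁ U).2, ⟨ξ, hξU, hξT⟩, ?_⟩
  set E : Set X := f ⁻¹' (closure ({f ξ} : Set Y) ∩ (U : Set Y)) with hE
  have hsubE : ((f ⁻¹ᵁ U : X.Opens) : Set X) ∩ T ⊆ E := by
    rintro x ⟨hxU, hxT⟩
    refine ⟨?_, hxU⟩
    have hξx : ξ ⤳ x := by
      rw [specializes_iff_mem_closure, hξ.def]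
      exact hxT
    exact specializes_iff_mem_closure.mp (hξx.map f.continuous)
  have hpre : _root_.IsPreconnected (((f ⁻¹ᵁ U : X.Opens) : Set X) ∩ T) := by
    have h1 : IsPreirreducible (((f ⁻¹ᵁ U : X.Opens) : Set X) ∩ T) := by
      rintro u v hu hv ⟨x, hx, hxu⟩ ⟨z, hz, hzv⟩
      obtain ⟨w, hwT, hw1, hw2⟩ := hTirr.isPreirreducible
        (((f ⁻¹ᵁ U : X.Opens) : Set X) ∩ u) (((f ⁻¹ᵁ U : X.Opens) : Set X) ∩ v)
        ((f ⁻¹ᵁ U).2.inter hu) ((f ⁻¹ᵁ U).2.inter hv) ⟨x, hx.2, hx.1, hxu⟩ ⟨z, hz.2, hz.1, hzv⟩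
      exact ⟨w, ⟨hw1.1, hwT⟩, hw1.2, hw2.2⟩
    exact h1.isPreconnected
  -- transfer to the subspace `E`
  have hpreE : _root_.IsPreconnected ((Subtype.val : E → X) ⁻¹' (((f ⁻¹ᵁ U : X.Opens) : Set X) ∩ T)) := by
    rw [← IsInducing.subtypeVal.isPreconnected_image, Subtype.image_preimage_coe,
      Set.inter_eq_right.mpr hsubE]
    exact hpre
  have hconst : ∀ a ∈ ((f ⁻¹ᵁ U : X.Opens) : Set X) ∩ T,
      ∀ b ∈ ((f ⁻¹ᵁ U : X.Opens) : Set X) ∩ T,
      a ∈ MoreMor.sectionComponents f s → b ∈ MoreMor.sectionComponents f s := by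
    intro a ha b hb hmem
    have hsub := hpreE.subset_isClopen Hclopen ⟨⟨a, hsubE ha⟩, ha, hmem⟩
    exact hsub (show (⟨b, hsubE hb⟩ : E) ∈ _ from hb)
  intro a ha b hb
  exact propext ⟨hconst a ha b hb, hconst b hb a ha⟩

/-- **quasi-compact quasi-separated base**, via a Noetherian model and the diagonal trick -/
theorem isConstructible_sectionComponents_of_qcqs {X Y : Scheme.{u}} [CompactSpace Y]
    [QuasiSeparatedSpace Y] (f : X ⟶ Y) [LocallyOfFinitePresentation f] [QuasiCompact f]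
    [QuasiSeparated f] (s : Y ⟶ X) (hs : s ≫ f = 𝟙 Y) :
    IsConstructible (MoreMor.sectionComponents f s) := by
  obtain ⟨X₀, S₀, f₀, g, g', hpb, hS₀, h1, h2, h3⟩ := exists_noetherian_model f
  haveI : LocallyOfFiniteType f₀ := inferInstance
  let σ : Y ⟶ X₀ := s ≫ g'
  have hσ : σ ≫ f₀ = g := by
    rw [Category.assoc, hpb.w, ← Category.assoc, hs, Category.id_comp]
  let pr₁ := pullback.fst f₀ f₀
  let pr₂ := pullback.snd f₀ f₀
  let Δ : X₀ ⟶ pullback f₀ f₀ := pullback.lift (𝟙 X₀) (𝟙 X₀) rfl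
  have hΔ : Δ ≫ pr₂ = 𝟙 X₀ := pullback.lift_snd _ _ _
  have hΔ1 : Δ ≫ pr₁ = 𝟙 X₀ := pullback.lift_fst _ _ _
  let ρ₁ : X ⟶ pullback f₀ f₀ := pullback.lift g' (f ≫ σ) (by rw [hpb.w, Category.assoc, hσ])
  have hρ1 : ρ₁ ≫ pr₁ = g' := pullback.lift_fst _ _ _
  have hρ2 : ρ₁ ≫ pr₂ = f ≫ σ := pullback.lift_snd _ _ _
  have hright : IsPullback pr₁ pr₂ f₀ f₀ := IsPullback.of_hasPullback f₀ f₀
  have hleft : IsPullback ρ₁ f pr₂ σ := by
    refine IsPullback.of_right ?_ hρ2 hright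
    rw [hρ1, hσ]
    exact hpb
  have hss : s ≫ ρ₁ = σ ≫ Δ := by
    apply pullback.hom_ext
    · rw [Category.assoc, Category.assoc]
      change s ≫ ρ₁ ≫ pr₁ = σ ≫ Δ ≫ pr₁
      rw [hρ1, hΔ1, Category.comp_id]
    · rw [Category.assoc, Category.assoc]
      change s ≫ ρ₁ ≫ pr₂ = σ ≫ Δ ≫ pr₂
      rw [hρ2, hΔ, Category.comp_id, ← Category.assoc, hs, Category.id_comp]
  haveI : LocallyOfFiniteType pr₂ := MorphismProperty.pullback_snd _ _ inferInstance
  haveI : QuasiCompact pr₂ := MorphismProperty.pullback_snd _ _ inferInstance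
  haveI : IsLocallyNoetherian X₀ := LocallyOfFiniteType.isLocallyNoetherian f₀
  haveI : CompactSpace X₀ := QuasiCompact.compactSpace_of_compactSpace f₀
  haveI : IsLocallyNoetherian (pullback f₀ f₀) := LocallyOfFiniteType.isLocallyNoetherian pr₂
  haveI : CompactSpace ↥(pullback f₀ f₀) := QuasiCompact.compactSpace_of_compactSpace pr₂
  haveI : AlgebraicGeometry.IsNoetherian (pullback f₀ f₀) := { }
  have hc := isConstructible_sectionComponents_of_noetherianSpace pr₂ Δ hΔ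
  rw [sectionComponents_of_isPullback hleft Δ hΔ s hs hss]
  exact ρ₁.isConstructible_preimage hc

/-- **section components are locally constructible** -/
theorem isLocallyConstructible_sectionComponents {X Y : Scheme.{u}} (f : X ⟶ Y)
    [LocallyOfFinitePresentation f] [QuasiCompact f] [QuasiSeparated f] (s : Y ⟶ X)
    (hs : s ≫ f = 𝟙 Y) : IsLocallyConstructible (MoreMor.sectionComponents f s) := by
  intro x
  obtain ⟨_, ⟨U, hU, rfl⟩, hxU, -⟩ := Y.isBasis_affineOpens.exists_subset_of_mem_open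
    (Set.mem_univ (f x)) isOpen_univ
  have key : ∀ (V : Y.Opens), IsAffineOpen V → f x ∈ V → ∃ W ∈ 𝓝 x, IsOpen W ∧
      IsConstructible (W ↓∩ MoreMor.sectionComponents f s) := by
    intro V hV hxV
    haveI : IsAffine V.toScheme := hV
    obtain ⟨s₀, hs₀, hss⟩ := exists_restrict_section f s hs V
    have hpb : IsPullback (f ⁻¹ᵁ V).ι (f ∣_ V) f V.ι := (isPullback_morphismRestrict f V).flip
    have hSC : MoreMor.sectionComponents (f ∣_ V) s₀ =
        (f ⁻¹ᵁ V).ι ⁻¹' MoreMor.sectionComponents f s :=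
      sectionComponents_of_isPullback hpb s hs s₀ hs₀ hss
    have hc := isConstructible_sectionComponents_of_qcqs (f ∣_ V) s₀ hs₀
    rw [hSC] at hc
    exact ⟨(f ⁻¹ᵁ V : X.Opens), (f ⁻¹ᵁ V).2.mem_nhds hxV, (f ⁻¹ᵁ V).2, hc⟩
  exact key U hU hxU

end Groth.Agent.Lib.Helper21.SCmp
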