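import Mathlib
import Groth.Agent.Lib.Helper21.SCmp5
import Groth.Agent.Lib.Helper21.DVRExt3
import Groth.Agent.Lib.Helper25.ConnDVR

/-!
# Section components: flat morphisms with geometrically reduced fibre (Noetherian base)
-/

set_option autoImplicit false
set_option linter.style.haveILetI false
set_option linter.unusedSectionVars false
universe u

open AlgebraicGeometry CategoryTheory Limits TopologicalSpace Topology

namespace Groth.Agent.Lib.Helper21.SCmp

open Groth.Agent.Lib.Helper21.GIS

/-- the generic point of the spectrum of a domain -/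
abbrev gen (R : Type u) [CommRing R] [IsDomain R] : Spec (CommRingCat.of R) :=
  (⟨⊥, Ideal.isPrime_bot⟩ : PrimeSpectrum R)

theorem gen_specializes (R : Type u) [CommRing R] [IsDomain R] [IsLocalRing R] :
    gen R ⤳ (IsLocalRing.closedPoint R : Spec (CommRingCat.of R)) := by
  change (⟨⊥, Ideal.isPrime_bot⟩ : PrimeSpectrum R) ⤳ IsLocalRing.closedPoint R
  rw [← PrimeSpectrum.le_iff_specializes]
  exact bot_le (a := (IsLocalRing.closedPoint R).asIdeal)

/-- **the discrete valuation ring lemma**: for a flat morphism to the spectrum of a discrete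
valuation ring with reduced closed fibre, two sections meeting the same connected component of
the closed fibre meet the same connected component of the generic fibre -/
theorem mem_connectedComponentIn_generic {R : Type u} [CommRing R] [IsDomain R]
    [IsDiscreteValuationRing R] {X : Scheme.{u}} (f : X ⟶ Spec (CommRingCat.of R))
    [LocallyOfFiniteType f] [Flat f] (hred : IsReduced (f.fiber (IsLocalRing.closedPoint R)))
    (s σ : Spec (CommRingCat.of R) ⟶ X) (hs : s ≫ f = 𝟙 _) (hσ : σ ≫ f = 𝟙 _)
    (hmem : σ (IsLocalRing.closedPoint R) ∈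
      connectedComponentIn (f ⁻¹' {(IsLocalRing.closedPoint R : Spec (CommRingCat.of R))})
        (s (IsLocalRing.closedPoint R))) :
    σ (gen R) ∈ connectedComponentIn (f ⁻¹' {gen R}) (s (gen R)) := by
  haveI : IsLocallyNoetherian (Spec (CommRingCat.of R)) := inferInstance
  haveI : IsLocallyNoetherian X := LocallyOfFiniteType.isLocallyNoetherian f
  haveI : LocallyConnectedSpace X := locallyConnectedSpace_of_isLocallyNoetherian X
  set m : Spec (CommRingCat.of R) := IsLocalRing.closedPoint R with hm
  let U : X.Opens := ⟨connectedComponent (s m), isOpen_connectedComponent⟩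
  haveI : ConnectedSpace U := isConnected_iff_connectedSpace.mp isConnected_connectedComponent
  let f'' := U.ι ≫ f
  -- the closed fibre of the open subscheme is reduced
  have hred'' : IsReduced (f''.fiber m) := by
    have e : pullback U.ι (pullback.fst f ((Spec (CommRingCat.of R)).fromSpecResidueField m)) ≅
        pullback (U.ι ≫ f) ((Spec (CommRingCat.of R)).fromSpecResidueField m) :=
      pullbackRightPullbackFstIso f _ U.ι
    haveI : IsReduced (pullback f ((Spec (CommRingCat.of R)).fromSpecResidueField m)) := hred
    haveI : IsReduced (pullback U.ι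
        (pullback.fst f ((Spec (CommRingCat.of R)).fromSpecResidueField m))) :=
      isReduced_of_isOpenImmersion (pullback.snd U.ι
        (pullback.fst f ((Spec (CommRingCat.of R)).fromSpecResidueField m)))
    exact isReduced_of_isOpenImmersion e.inv
  obtain ⟨π, hπ⟩ := IsDiscreteValuationRing.exists_irreducible R
  have hπ0 : π ∈ nonZeroDivisors R := mem_nonZeroDivisors_of_ne_zero hπ.ne_zero
  have hmax : IsLocalRing.maximalIdeal R = Ideal.span {π} := hπ.maximalIdeal_eq
  obtain ⟨hpre, -⟩ := Groth.Agent.Lib.Helper25.ConnDVR.isPreconnected_preimage_basicOpen f'' π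
    hπ0 hmax hred''
  -- the basic open set is the generic point
  have hbasic : ∀ z : Spec (CommRingCat.of R),
      z ∈ (PrimeSpectrum.basicOpen π : Set (PrimeSpectrum R)) ↔ z = gen R := by
    intro z
    constructor
    · intro hz
      by_contra hne
      have hzne : (show PrimeSpectrum R from z).asIdeal ≠ ⊥ := fun h => hne (PrimeSpectrum.ext h)
      haveI := (show PrimeSpectrum R from z).isPrime
      have hzmax : (show PrimeSpectrum R from z).asIdeal.IsMaximal :=
        Ring.DimensionLEOne.maximalOfPrime hzne inferInstance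
      have : (show PrimeSpectrum R from z).asIdeal = IsLocalRing.maximalIdeal R :=
        IsLocalRing.eq_maximalIdeal hzmax
      apply hz
      change π ∈ (show PrimeSpectrum R from z).asIdeal
      rw [this, hmax]
      exact Ideal.mem_span_singleton_self π
    · rintro rfl
      change π ∉ (⊥ : Ideal R)
      exact hπ.ne_zero
  have hfs : ∀ z, f (s z) = z := section_apply f s hs
  have hfσ : ∀ z, f (σ z) = z := section_apply f σ hσ
  have hsm : s m ∈ U := mem_connectedComponent
  have hσm : σ m ∈ U := by
    have hpre' : _root_.IsPreconnected (connectedComponentIn (f ⁻¹' {m}) (s m)) :=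
      isPreconnected_connectedComponentIn
    exact hpre'.subset_connectedComponent (mem_connectedComponentIn (hfs m)) hmem
  have hsη : s (gen R) ∈ U := ((gen_specializes R).map s.continuous).mem_open U.2 hsm
  have hση : σ (gen R) ∈ U := ((gen_specializes R).map σ.continuous).mem_open U.2 hσm
  have himg : _root_.IsPreconnected (U.ι '' (f'' ⁻¹' (PrimeSpectrum.basicOpen π : Set (PrimeSpectrum R)))) :=
    hpre.image _ U.ι.continuous.continuousOn
  have hsub : U.ι '' (f'' ⁻¹' (PrimeSpectrum.basicOpen π : Set (PrimeSpectrum R))) ⊆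
      f ⁻¹' {gen R} := by
    rintro _ ⟨z, hz, rfl⟩
    exact (hbasic _).mp hz
  have h1 : s (gen R) ∈ U.ι '' (f'' ⁻¹' (PrimeSpectrum.basicOpen π : Set (PrimeSpectrum R))) := by
    refine ⟨⟨s (gen R), hsη⟩, ?_, rfl⟩
    have h3 : f'' ⟨s (gen R), hsη⟩ = gen R := by
      change (U.ι ≫ f) ⟨s (gen R), hsη⟩ = gen R
      rw [Scheme.Hom.comp_apply]
      exact hfs _
    exact (hbasic _).mpr h3
  have h2 : σ (gen R) ∈ U.ι '' (f'' ⁻¹' (PrimeSpectrum.basicOpen π : Set (PrimeSpectrum R))) := by
    refine ⟨⟨σ (gen R), hση⟩, ?_, rfl⟩
    have h3 : f'' ⟨σ (gen R), hση⟩ = gen R := by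
      change (U.ι ≫ f) ⟨σ (gen R), hση⟩ = gen R
      rw [Scheme.Hom.comp_apply]
      exact hfσ _
    exact (hbasic _).mpr h3
  exact himg.subset_connectedComponentIn h1 hsub h2

/-- **generizations of points of the component of the section**: flat case -/
theorem mem_sectionComponents_of_specializes {X Y : Scheme.{u}} [IsLocallyNoetherian Y]
    (f : X ⟶ Y) [LocallyOfFiniteType f] [Flat f] (s : Y ⟶ X) (hs : s ≫ f = 𝟙 Y) (y : Y)
    (hy : GeometricallyReduced (f.fiberToSpecResidueField y)) (x : X)
    (hx : x ∈ connectedComponentIn (f ⁻¹' {y}) (s y)) (x' : X) (hx' : x' ⤳ x) :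
    x' ∈ MoreMor.sectionComponents f s := by
  have hfx0 : x ∈ f ⁻¹' {y} := connectedComponentIn_subset _ _ hx
  have hfx : f x = y := hfx0
  by_cases hne : x' = x
  · subst hne
    subst hfx
    exact hx
  haveI : IsLocallyNoetherian X := LocallyOfFiniteType.isLocallyNoetherian f
  obtain ⟨R, _, _, _, u, hu1, hu2⟩ := DVRExt.exists_dvr_of_specializes x' x hx' hne
  let v : Spec (CommRingCat.of R) ⟶ Y := u ≫ f
  let fR := pullback.snd f v
  let ρ := pullback.fst f v
  have hpb : IsPullback ρ fR f v := IsPullback.of_hasPullback f v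
  let sR : Spec (CommRingCat.of R) ⟶ pullback f v :=
    pullback.lift (v ≫ s) (𝟙 _) (by rw [Category.assoc, hs]; simp)
  have hsR : sR ≫ fR = 𝟙 _ := pullback.lift_snd _ _ _
  have hss : sR ≫ ρ = v ≫ s := pullback.lift_fst _ _ _
  let σR : Spec (CommRingCat.of R) ⟶ pullback f v := pullback.lift u (𝟙 _) (by simp [v])
  have hσR : σR ≫ fR = 𝟙 _ := pullback.lift_snd _ _ _
  have hσρ : σR ≫ ρ = u := pullback.lift_fst _ _ _
  set m : Spec (CommRingCat.of R) := IsLocalRing.closedPoint R with hm
  have hvm : v m = y := by
    change (u ≫ f) m = y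
    rw [Scheme.Hom.comp_apply, hu1, hfx]
  -- the closed fibre is reduced
  have hred : IsReduced (fR.fiber m) := by
    have h1 := isPullback_fiberToSpecResidueField_of_isPullback hpb m
    have hy' : GeometricallyReduced (f.fiberToSpecResidueField (v m)) := by
      rw [hvm]; exact hy
    exact hy'.geometrically_isReduced (K := (Spec (CommRingCat.of R)).residueField m)
      (Spec.map (v.residueFieldMap m)) _ _ h1
  -- the second section meets the component of the first in the closed fibre
  have hmem : σR m ∈ connectedComponentIn (fR ⁻¹' {m}) (sR m) := by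
    rw [connectedComponentIn_of_isPullback hpb s hs sR hsR hss m]
    refine ⟨?_, section_apply fR σR hσR m⟩
    have e1 : ρ (σR m) = x := by
      have e2 : (σR ≫ ρ) m = u m := by rw [hσρ]
      rw [Scheme.Hom.comp_apply] at e2
      rw [e2, hu1]
    have e3 : (v ≫ s) m = s y := by
      rw [Scheme.Hom.comp_apply, hvm]
    change ρ (σR m) ∈ connectedComponentIn (f ⁻¹' {v m}) ((v ≫ s) m)
    rw [e1, e3, hvm]
    exact hx
  have hgen := mem_connectedComponentIn_generic fR hred sR σR hsR hσR hmem
  have hSC : σR (gen R) ∈ MoreMor.sectionComponents fR sR := by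
    change σR (gen R) ∈ connectedComponentIn (fR ⁻¹' {fR (σR (gen R))}) (sR (fR (σR (gen R))))
    rw [section_apply fR σR hσR]
    exact hgen
  rw [sectionComponents_of_isPullback hpb s hs sR hsR hss] at hSC
  have e4 : ρ (σR (gen R)) = x' := by
    have e5 : (σR ≫ ρ) (gen R) = u (gen R) := by rw [hσρ]
    rw [Scheme.Hom.comp_apply] at e5
    rw [e5]
    exact hu2
  rw [← e4]
  exact hSC

/-- **Noetherian base**: for a flat morphism with geometrically reduced fibre over `y`, the section
components are a neighbourhood of the component of the section in the fibre over `y` -/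
theorem connectedComponentIn_subset_interior_of_noetherian {X Y : Scheme.{u}}
    [IsLocallyNoetherian Y] [NoetherianSpace X]
    (f : X ⟶ Y) [LocallyOfFiniteType f] [QuasiCompact f] [Flat f] (s : Y ⟶ X)
    (hs : s ≫ f = 𝟙 Y) (y : Y) (hy : GeometricallyReduced (f.fiberToSpecResidueField y)) :
    connectedComponentIn (f ⁻¹' {y}) (s y) ⊆ interior (MoreMor.sectionComponents f s) := by
  intro x hx
  rw [mem_interior_iff_mem_nhds]
  have hc := isConstructible_sectionComponents_of_noetherianSpace f s hs
  refine Groth.Agent.Lib.Helper12.mem_nhds_of_dense_on_irreducible_closed x hc ?_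
  intro T hT hTirr hxT
  obtain ⟨t, ht⟩ := QuasiSober.sober hTirr hT
  have htx : t ⤳ x := by
    rw [specializes_iff_mem_closure, ht.def]
    exact hxT
  have htSC := mem_sectionComponents_of_specializes f s hs y hy x hx t htx
  have htT : t ∈ T := ht.mem
  intro z hz
  rw [← ht.def] at hz
  have hsub : ({t} : Set X) ⊆ MoreMor.sectionComponents f s ∩ T :=
    Set.singleton_subset_iff.mpr ⟨htSC, htT⟩
  exact closure_mono hsub hz

end Groth.Agent.Lib.Helper21.SCmp
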