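import Mathlib
import Groth.Agent.Lib.Helper21.SCmp6
import Groth.Agent.Lib.Helper21.SCmp10

/-!
# Flatness over a discrete valuation ring from openness and reducedness of the closed fibre, II
-/

set_option autoImplicit false
set_option linter.style.haveILetI false
set_option linter.unusedSectionVars false
universe u

open AlgebraicGeometry CategoryTheory Limits TopologicalSpace IsLocalRing

namespace Groth.Agent.Lib.Helper21.SCmp

theorem gen_ne_closedPoint (R : Type u) [CommRing R] [IsDomain R] [IsDiscreteValuationRing R] :
    gen R ≠ (closedPoint R : Spec (CommRingCat.of R)) := by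
  intro h
  have h1 : (⊥ : Ideal R) = maximalIdeal R := congrArg PrimeSpectrum.asIdeal h
  exact IsDiscreteValuationRing.not_a_field R h1.symm

/-- **flatness over a discrete valuation ring**: a morphism locally of finite type to the
spectrum of a discrete valuation ring which is open at the points of the closed fibre, and whose
closed fibre is reduced, is flat -/
theorem flat_of_isOpenAt_of_reduced_fibre {R : Type u} [CommRing R] [IsDomain R]
    [IsDiscreteValuationRing R] {P : Scheme.{u}} (h : P ⟶ Spec (CommRingCat.of R))
    [LocallyOfFiniteType h]
    (hopen : ∀ ξ : P, h ξ = closedPoint R → EGA43.IsOpenAt h.base ξ)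
    (hred : ∀ z : h.fiber (closedPoint R),
      _root_.IsReduced ((h.fiber (closedPoint R)).presheaf.stalk z)) : Flat h := by
  haveI : IsLocallyNoetherian P := LocallyOfFiniteType.isLocallyNoetherian h
  rw [Flat.iff_flat_stalkMap]
  intro x
  obtain ⟨π, hπ⟩ := IsDiscreteValuationRing.exists_irreducible R
  have hmax : maximalIdeal R = Ideal.span {π} := hπ.maximalIdeal_eq
  have key : ∀ (q : PrimeSpectrum R) (hq : h x = q),
      (h.stalkMap x).hom.Flat := by
    intro q hq
    letI k : Algebra R ((Spec (CommRingCat.of R)).presheaf.stalk (h x)) :=
      StructureSheaf.stalkAlgebra R (h x)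
    haveI hloc : IsLocalization.AtPrime ((Spec (CommRingCat.of R)).presheaf.stalk (h x))
        (show PrimeSpectrum R from h x).asIdeal :=
      StructureSheaf.IsLocalization.to_stalk R (h x)
    letI alg : Algebra ((Spec (CommRingCat.of R)).presheaf.stalk (h x)) (P.presheaf.stalk x) :=
      (h.stalkMap x).hom.toAlgebra
    change Module.Flat ((Spec (CommRingCat.of R)).presheaf.stalk (h x)) (P.presheaf.stalk x)
    refine flat_of_regular π hπ (show PrimeSpectrum R from h x).asIdeal _ _ ?_
    intro b hb
    by_cases hx : h x = closedPoint R
    · obtain ⟨y, hy⟩ : x ∈ Set.range (h.fiberι (closedPoint R)) := by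
        rw [Scheme.Hom.range_fiberι]
        exact hx
      subst hy
      have hprin : maximalIdeal ((Spec (CommRingCat.of R)).presheaf.stalk
          (h ((h.fiberι (closedPoint R)) y))) = Ideal.span {algebraMap R _ π} := by
        rw [← IsLocalization.AtPrime.map_eq_maximalIdeal
          (show PrimeSpectrum R from h ((h.fiberι (closedPoint R)) y)).asIdeal]
        have : (show PrimeSpectrum R from h ((h.fiberι (closedPoint R)) y)).asIdeal =
            Ideal.span {π} := by
          rw [hx, ← hmax]; rfl
        rw [this, Ideal.map_span, Set.image_singleton]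
      refine stalk_regular_of_reduced_fibre h (closedPoint R) y _ hprin (hred y) ?_ b hb
      intro ξ hξ hhξ
      obtain ⟨ξ', h1, h2⟩ := Groth.Agent.Lib.Helper17.ProConsLib.exists_generization_lift h ξ
        (hopen ξ hhξ) (gen R) (by rw [hhξ]; exact gen_specializes R)
      refine ⟨ξ', h1, ?_⟩
      rw [h2]
      exact gen_ne_closedPoint R
    · have hπ' : π ∉ (show PrimeSpectrum R from h x).asIdeal := by
        intro hmem
        apply hx
        have h1 : maximalIdeal R ≤ (show PrimeSpectrum R from h x).asIdeal := by
          rw [hmax, Ideal.span_singleton_le_iff_mem]; exact hmem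
        have h2 : (show PrimeSpectrum R from h x).asIdeal = maximalIdeal R :=
          ((IsLocalRing.maximalIdeal.isMaximal R).eq_of_le
            (show PrimeSpectrum R from h x).2.ne_top h1).symm
        exact PrimeSpectrum.ext h2
      have hu : IsUnit (algebraMap R ((Spec (CommRingCat.of R)).presheaf.stalk (h x)) π) :=
        IsLocalization.map_units _
          (⟨π, hπ'⟩ : (show PrimeSpectrum R from h x).asIdeal.primeCompl)
      have hu' := hu.map (algebraMap ((Spec (CommRingCat.of R)).presheaf.stalk (h x))
        (P.presheaf.stalk x))
      exact (hu'.mul_right_eq_zero).mp hb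
  exact key _ rfl

end Groth.Agent.Lib.Helper21.SCmp
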