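import Mathlib
import Groth.Agent.Lib.Helper21.SCmp11

/-!
# The discrete valuation ring lemma without global flatness
-/

set_option autoImplicit false
set_option linter.style.haveILetI false
set_option linter.unusedSectionVars false
universe u

open AlgebraicGeometry CategoryTheory Limits TopologicalSpace Topology IsLocalRing

namespace Groth.Agent.Lib.Helper21.SCmp

/-- the fibre of the restriction to an open subscheme is an open subscheme of the fibre -/
theorem exists_fiber_openImmersion {U X Y : Scheme.{u}} (ι : U ⟶ X) [IsOpenImmersion ι]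
    (f : X ⟶ Y) (y : Y) :
    ∃ j : (ι ≫ f).fiber y ⟶ f.fiber y, IsOpenImmersion j ∧
      j ≫ f.fiberι y = (ι ≫ f).fiberι y ≫ ι ∧
      j ≫ f.fiberToSpecResidueField y = (ι ≫ f).fiberToSpecResidueField y := by
  haveI h1 : IsOpenImmersion (pullback.snd ι (pullback.fst f (Y.fromSpecResidueField y))) :=
    inferInstance
  haveI h2 : IsOpenImmersion (pullbackRightPullbackFstIso f (Y.fromSpecResidueField y) ι).inv :=
    inferInstance
  have hj : IsOpenImmersion ((pullbackRightPullbackFstIso f (Y.fromSpecResidueField y) ι).inv ≫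
    pullback.snd ι (pullback.fst f (Y.fromSpecResidueField y))) := inferInstance
  refine ⟨(pullbackRightPullbackFstIso f (Y.fromSpecResidueField y) ι).inv ≫
    pullback.snd ι (pullback.fst f (Y.fromSpecResidueField y)), hj, ?_, ?_⟩
  · rw [Category.assoc]
    exact pullbackRightPullbackFstIso_inv_snd_fst f (Y.fromSpecResidueField y) ι
  · rw [Category.assoc]
    exact pullbackRightPullbackFstIso_inv_snd_snd f (Y.fromSpecResidueField y) ι

/-- openness at a point passes to an open subscheme -/
theorem isOpenAt_ι_comp {X Y : Scheme.{u}} (f : X ⟶ Y) (W : X.Opens) (ξ : W)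
    (h : EGA43.IsOpenAt f.base (W.ι ξ)) : EGA43.IsOpenAt (W.ι ≫ f).base ξ := by
  intro N hN
  have h1 : W.ι '' N ∈ 𝓝 (W.ι ξ) := W.ι.isOpenEmbedding.image_mem_nhds.mpr hN
  have h2 := h _ h1
  have h3 : f.base '' (W.ι '' N) = (W.ι ≫ f).base '' N := by
    rw [Set.image_image]
    rfl
  rw [h3] at h2
  exact h2

/-- **the discrete valuation ring lemma**, without global flatness: it suffices that the
morphism be open at the points of the component of the section in the closed fibre and that
the closed fibre be reduced at these points -/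
theorem mem_connectedComponentIn_generic' {R : Type u} [CommRing R] [IsDomain R]
    [IsDiscreteValuationRing R] {X : Scheme.{u}} (f : X ⟶ Spec (CommRingCat.of R))
    [LocallyOfFiniteType f]
    (s σ : Spec (CommRingCat.of R) ⟶ X) (hs : s ≫ f = 𝟙 _) (hσ : σ ≫ f = 𝟙 _)
    (hopen : ∀ ξ ∈ connectedComponentIn
      (f ⁻¹' {(IsLocalRing.closedPoint R : Spec (CommRingCat.of R))})
        (s (IsLocalRing.closedPoint R)), EGA43.IsOpenAt f.base ξ)
    (hred : ∀ z : f.fiber (IsLocalRing.closedPoint R),
      f.fiberι (IsLocalRing.closedPoint R) z ∈ connectedComponentIn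
        (f ⁻¹' {(IsLocalRing.closedPoint R : Spec (CommRingCat.of R))})
        (s (IsLocalRing.closedPoint R)) →
      _root_.IsReduced ((f.fiber (IsLocalRing.closedPoint R)).presheaf.stalk z))
    (hmem : σ (IsLocalRing.closedPoint R) ∈
      connectedComponentIn (f ⁻¹' {(IsLocalRing.closedPoint R : Spec (CommRingCat.of R))})
        (s (IsLocalRing.closedPoint R))) :
    σ (gen R) ∈ connectedComponentIn (f ⁻¹' {gen R}) (s (gen R)) := by
  haveI : IsLocallyNoetherian (Spec (CommRingCat.of R)) := inferInstance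
  haveI : IsLocallyNoetherian X := LocallyOfFiniteType.isLocallyNoetherian f
  haveI : LocallyConnectedSpace X := locallyConnectedSpace_of_isLocallyNoetherian X
  set m : Spec (CommRingCat.of R) := IsLocalRing.closedPoint R with hm
  set C : Set X := connectedComponentIn (f ⁻¹' {m}) (s m) with hC
  have hfs : ∀ z, f (s z) = z := section_apply f s hs
  have hfσ : ∀ z, f (σ z) = z := section_apply f σ hσ
  have hCsub : C ⊆ f ⁻¹' {m} := connectedComponentIn_subset _ _
  have hsmC : s m ∈ C := mem_connectedComponentIn (hfs m)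
  -- an open subset of `X` cutting out `C` in the closed fibre
  obtain ⟨Uf, hUf, -⟩ := exists_opens_fiber f s hs m
  obtain ⟨O, hO, hOU0⟩ := (f.fiberι m).isEmbedding.isInducing.isOpen_iff.mp Uf.2
  have hOU : (f.fiberι m) ⁻¹' O = (Uf : Set (f.fiber m)) := hOU0
  have hmcl : IsClosed ({m} : Set (Spec (CommRingCat.of R))) :=
    IsLocalRing.isClosed_singleton_closedPoint R
  have hFcl : IsClosed (f ⁻¹' {m}) := hmcl.preimage f.continuous
  set U₁ : Set X := O ∪ (f ⁻¹' {m})ᶜ with hU₁
  have hU₁o : IsOpen U₁ := hO.union hFcl.isOpen_compl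
  have hrange : ∀ x : X, f x = m → ∃ z : f.fiber m, f.fiberι m z = x := by
    intro x hx
    have : x ∈ Set.range (f.fiberι m) := by
      rw [Scheme.Hom.range_fiberι]; exact hx
    exact this
  have hU₁C : U₁ ∩ f ⁻¹' {m} = C := by
    apply Set.Subset.antisymm
    · rintro x ⟨hx1 | hx1, hx2⟩
      · obtain ⟨z, rfl⟩ := hrange x hx2
        have hz : z ∈ (f.fiberι m) ⁻¹' O := hx1
        rw [hOU, hUf] at hz
        exact hz
      · exact absurd hx2 hx1
    · intro x hx
      refine ⟨Or.inl ?_, hCsub hx⟩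
      obtain ⟨z, rfl⟩ := hrange x (hCsub hx)
      have hz : z ∈ (Uf : Set (f.fiber m)) := by rw [hUf]; exact hx
      rw [← hOU] at hz
      exact hz
  have hCU₁ : C ⊆ U₁ := by
    rw [← hU₁C]; exact Set.inter_subset_left
  set W : Set X := connectedComponentIn U₁ (s m) with hW
  have hWo : IsOpen W := hU₁o.connectedComponentIn
  have hsmU₁ : s m ∈ U₁ := hCU₁ hsmC
  have hWconn : _root_.IsConnected W := isConnected_connectedComponentIn_iff.mpr hsmU₁
  have hCW : C ⊆ W :=
    (isPreconnected_connectedComponentIn (F := f ⁻¹' {m}) (x := s m)).subset_connectedComponentIn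
      hsmC hCU₁
  have hWC : W ∩ f ⁻¹' {m} ⊆ C := by
    rw [← hU₁C]
    exact Set.inter_subset_inter_left _ (connectedComponentIn_subset _ _)
  let Wo : X.Opens := ⟨W, hWo⟩
  haveI : ConnectedSpace Wo := isConnected_iff_connectedSpace.mp hWconn
  let f'' := Wo.ι ≫ f
  have hmemC : ∀ ξ : Wo, f'' ξ = m → Wo.ι ξ ∈ C := by
    intro ξ hξ
    refine hWC ⟨ξ.2, ?_⟩
    change (Wo.ι ≫ f) ξ = m at hξ
    rw [Scheme.Hom.comp_apply] at hξ
    exact hξ
  -- the stalks of the closed fibre of the open subscheme are reduced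
  obtain ⟨j, hj, hj1, hj2⟩ := exists_fiber_openImmersion Wo.ι f m
  have hredst : ∀ z : f''.fiber m, _root_.IsReduced ((f''.fiber m).presheaf.stalk z) := by
    intro z
    have h1 : (f.fiberι m) (j z) = Wo.ι ((f''.fiberι m) z) := by
      rw [← Scheme.Hom.comp_apply, hj1, Scheme.Hom.comp_apply]
    have h2 : f'' ((f''.fiberι m) z) = m := by
      have : (f''.fiberι m) z ∈ Set.range (f''.fiberι m) := ⟨z, rfl⟩
      rw [Scheme.Hom.range_fiberι] at this
      exact this
    have h3 : (f.fiberι m) (j z) ∈ C := by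
      rw [h1]; exact hmemC _ h2
    have hred' := hred (j z) h3
    haveI : IsIso (j.stalkMap z) := inferInstance
    have hinj : Function.Injective (inv (j.stalkMap z)).hom :=
      (ConcreteCategory.bijective_of_isIso (inv (j.stalkMap z))).1
    exact isReduced_of_injective (inv (j.stalkMap z)).hom hinj
  have hred'' : IsReduced (f''.fiber m) := by
    haveI := hredst
    exact isReduced_of_isReduced_stalk _
  haveI : Flat f'' := by
    refine flat_of_isOpenAt_of_reduced_fibre f'' ?_ hredst
    intro ξ hξ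
    exact isOpenAt_ι_comp f Wo ξ (hopen _ (hmemC ξ hξ))
  obtain ⟨π, hπ⟩ := IsDiscreteValuationRing.exists_irreducible R
  have hπ0 : π ∈ nonZeroDivisors R := mem_nonZeroDivisors_of_ne_zero hπ.ne_zero
  have hmax : IsLocalRing.maximalIdeal R = Ideal.span {π} := hπ.maximalIdeal_eq
  obtain ⟨hpre, -⟩ := Groth.Agent.Lib.Helper25.ConnDVR.isPreconnected_preimage_basicOpen f'' π
    hπ0 hmax hred''
  -- the basic open set is the generic point
  have hbasic : ∀ z : Spec (CommRingCat.of R),
      z ∈ (PrimeSpectrum.basicOpen π : Set (PrimeSpectrum R)) ↔ z = gen R := by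
    intro z
    constructor
    · intro hz
      by_contra hne
      have hzne : (show PrimeSpectrum R from z).asIdeal ≠ ⊥ := fun h => hne (PrimeSpectrum.ext h)
      haveI := (show PrimeSpectrum R from z).isPrime
      have hzmax : (show PrimeSpectrum R from z).asIdeal.IsMaximal :=
        Ring.DimensionLEOne.maximalOfPrime hzne inferInstance
      have : (show PrimeSpectrum R from z).asIdeal = IsLocalRing.maximalIdeal R :=
        IsLocalRing.eq_maximalIdeal hzmax
      apply hz
      change π ∈ (show PrimeSpectrum R from z).asIdeal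
      rw [this, hmax]
      exact Ideal.mem_span_singleton_self π
    · rintro rfl
      change π ∉ (⊥ : Ideal R)
      exact hπ.ne_zero
  have hsm : s m ∈ Wo := hCW hsmC
  have hσm : σ m ∈ Wo := hCW hmem
  have hsη : s (gen R) ∈ Wo := ((gen_specializes R).map s.continuous).mem_open Wo.2 hsm
  have hση : σ (gen R) ∈ Wo := ((gen_specializes R).map σ.continuous).mem_open Wo.2 hσm
  have himg : _root_.IsPreconnected
      (Wo.ι '' (f'' ⁻¹' (PrimeSpectrum.basicOpen π : Set (PrimeSpectrum R)))) :=
    hpre.image _ Wo.ι.continuous.continuousOn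
  have hsub : Wo.ι '' (f'' ⁻¹' (PrimeSpectrum.basicOpen π : Set (PrimeSpectrum R))) ⊆
      f ⁻¹' {gen R} := by
    rintro _ ⟨z, hz, rfl⟩
    exact (hbasic _).mp hz
  have h1 : s (gen R) ∈ Wo.ι '' (f'' ⁻¹' (PrimeSpectrum.basicOpen π : Set (PrimeSpectrum R))) := by
    refine ⟨⟨s (gen R), hsη⟩, ?_, rfl⟩
    have h3 : f'' ⟨s (gen R), hsη⟩ = gen R := by
      change (Wo.ι ≫ f) ⟨s (gen R), hsη⟩ = gen R
      rw [Scheme.Hom.comp_apply]
      exact hfs _
    exact (hbasic _).mpr h3
  have h2 : σ (gen R) ∈ Wo.ι '' (f'' ⁻¹' (PrimeSpectrum.basicOpen π : Set (PrimeSpectrum R))) := by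
    refine ⟨⟨σ (gen R), hση⟩, ?_, rfl⟩
    have h3 : f'' ⟨σ (gen R), hση⟩ = gen R := by
      change (Wo.ι ≫ f) ⟨σ (gen R), hση⟩ = gen R
      rw [Scheme.Hom.comp_apply]
      exact hfσ _
    exact (hbasic _).mpr h3
  exact himg.subset_connectedComponentIn h1 hsub h2

end Groth.Agent.Lib.Helper21.SCmp
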