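import Mathlib
import Groth.Agent.Lib.Helper21.SCmp12
import Groth.Agent.Lib.Helper21.SecBC4

/-!
# Section components: universally open morphisms with geometrically reduced fibres along the
component of the section (locally Noetherian base)
-/

set_option autoImplicit false
set_option linter.style.haveILetI false
set_option linter.unusedSectionVars false
universe u

open AlgebraicGeometry CategoryTheory Limits TopologicalSpace Topology IsLocalRing

namespace Groth.Agent.Lib.Helper21.SCmp

/-- **generizations of points of the component of the section**: universally open case -/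
theorem mem_sectionComponents_of_specializes' {X Y : Scheme.{u}} [IsLocallyNoetherian Y]
    (f : X ⟶ Y) [LocallyOfFiniteType f] (s : Y ⟶ X) (hs : s ≫ f = 𝟙 Y) (y : Y)
    (H : ∀ x ∈ connectedComponentIn (f ⁻¹' {y}) (s y), EGA43.IsUnivOpenAt f x ∧
      FBase.IsGeomReducedAt (f.fiberToSpecResidueField (f x)) (f.asFiber x))
    (x : X) (hx : x ∈ connectedComponentIn (f ⁻¹' {y}) (s y)) (x' : X) (hx' : x' ⤳ x) :
    x' ∈ MoreMor.sectionComponents f s := by
  have hfx0 : x ∈ f ⁻¹' {y} := connectedComponentIn_subset _ _ hx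
  have hfx : f x = y := hfx0
  by_cases hne : x' = x
  · subst hne
    subst hfx
    exact hx
  haveI : IsLocallyNoetherian X := LocallyOfFiniteType.isLocallyNoetherian f
  obtain ⟨R, _, _, _, u, hu1, hu2⟩ := DVRExt.exists_dvr_of_specializes x' x hx' hne
  let v : Spec (CommRingCat.of R) ⟶ Y := u ≫ f
  let fR := pullback.snd f v
  let ρ := pullback.fst f v
  have hpb : IsPullback ρ fR f v := IsPullback.of_hasPullback f v
  let sR : Spec (CommRingCat.of R) ⟶ pullback f v :=
    pullback.lift (v ≫ s) (𝟙 _) (by rw [Category.assoc, hs]; simp)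
  have hsR : sR ≫ fR = 𝟙 _ := pullback.lift_snd _ _ _
  have hss : sR ≫ ρ = v ≫ s := pullback.lift_fst _ _ _
  let σR : Spec (CommRingCat.of R) ⟶ pullback f v := pullback.lift u (𝟙 _) (by simp [v])
  have hσR : σR ≫ fR = 𝟙 _ := pullback.lift_snd _ _ _
  have hσρ : σR ≫ ρ = u := pullback.lift_fst _ _ _
  set m : Spec (CommRingCat.of R) := IsLocalRing.closedPoint R with hm
  have hvm : v m = y := by
    change (u ≫ f) m = y
    rw [Scheme.Hom.comp_apply, hu1, hfx]
  have hCR := connectedComponentIn_of_isPullback hpb s hs sR hsR hss m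
  have hρC : ∀ ξ ∈ connectedComponentIn (fR ⁻¹' {m}) (sR m),
      ρ ξ ∈ connectedComponentIn (f ⁻¹' {y}) (s y) := by
    intro ξ hξ
    rw [hCR] at hξ
    have h1 : ρ ξ ∈ connectedComponentIn (f ⁻¹' {v m}) (s (v m)) := hξ.1
    rw [hvm] at h1
    exact h1
  -- the second section meets the component of the first in the closed fibre
  have hmem : σR m ∈ connectedComponentIn (fR ⁻¹' {m}) (sR m) := by
    rw [hCR]
    refine ⟨?_, section_apply fR σR hσR m⟩
    have e1 : ρ (σR m) = x := by
      have e2 : (σR ≫ ρ) m = u m := by rw [hσρ]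
      rw [Scheme.Hom.comp_apply] at e2
      rw [e2, hu1]
    change ρ (σR m) ∈ connectedComponentIn (f ⁻¹' {v m}) (s (v m))
    rw [e1, hvm]
    exact hx
  have hopen : ∀ ξ ∈ connectedComponentIn (fR ⁻¹' {m}) (sR m), EGA43.IsOpenAt fR.base ξ := by
    intro ξ hξ
    exact (H _ (hρC ξ hξ)).1 _ v ξ rfl
  have hred : ∀ z : fR.fiber m, fR.fiberι m z ∈ connectedComponentIn (fR ⁻¹' {m}) (sR m) →
      _root_.IsReduced ((fR.fiber m).presheaf.stalk z) := by
    intro z hz
    exact Groth.Agent.Lib.Helper21.SecBC.isReduced_stalk_fiber_of_isGeomReducedAt f v ρ fR hpb m z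
      (H _ (hρC _ hz)).2
  have hgen := mem_connectedComponentIn_generic' fR sR σR hsR hσR hopen hred hmem
  have hSC : σR (gen R) ∈ MoreMor.sectionComponents fR sR := by
    change σR (gen R) ∈ connectedComponentIn (fR ⁻¹' {fR (σR (gen R))}) (sR (fR (σR (gen R))))
    rw [section_apply fR σR hσR]
    exact hgen
  rw [sectionComponents_of_isPullback hpb s hs sR hsR hss] at hSC
  have e4 : ρ (σR (gen R)) = x' := by
    have e5 : (σR ≫ ρ) (gen R) = u (gen R) := by rw [hσρ]
    rw [Scheme.Hom.comp_apply] at e5
    rw [e5]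
    exact hu2
  rw [← e4]
  exact hSC

/-- **Noetherian case**: if the morphism is universally open at the points of the component of
the section in the fibre over `y` and this fibre is geometrically reduced at these points, the
section components are a neighbourhood of this component -/
theorem connectedComponentIn_subset_interior_of_noetherian' {X Y : Scheme.{u}}
    [IsLocallyNoetherian Y] [NoetherianSpace X]
    (f : X ⟶ Y) [LocallyOfFiniteType f] [QuasiCompact f] (s : Y ⟶ X)
    (hs : s ≫ f = 𝟙 Y) (y : Y)
    (H : ∀ x ∈ connectedComponentIn (f ⁻¹' {y}) (s y), EGA43.IsUnivOpenAt f x ∧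
      FBase.IsGeomReducedAt (f.fiberToSpecResidueField (f x)) (f.asFiber x)) :
    connectedComponentIn (f ⁻¹' {y}) (s y) ⊆ interior (MoreMor.sectionComponents f s) := by
  intro x hx
  rw [mem_interior_iff_mem_nhds]
  have hc := isConstructible_sectionComponents_of_noetherianSpace f s hs
  refine Groth.Agent.Lib.Helper12.mem_nhds_of_dense_on_irreducible_closed x hc ?_
  intro T hT hTirr hxT
  obtain ⟨t, ht⟩ := QuasiSober.sober hTirr hT
  have htx : t ⤳ x := by
    rw [specializes_iff_mem_closure, ht.def]
    exact hxT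
  have htSC := mem_sectionComponents_of_specializes' f s hs y H x hx t htx
  have htT : t ∈ T := ht.mem
  intro z hz
  rw [← ht.def] at hz
  have hsub : ({t} : Set X) ⊆ MoreMor.sectionComponents f s ∩ T :=
    Set.singleton_subset_iff.mpr ⟨htSC, htT⟩
  exact closure_mono hsub hz

end Groth.Agent.Lib.Helper21.SCmp
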