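import Mathlib
import Groth.Agent.Lib.Helper21.SCmp13
import Groth.Agent.Lib.Helper21.BaseChg4
import Groth.Agent.Lib.Helper14.GeomRed2

/-!
# Geometric reducedness of a fibre at a point: base change and restriction to open subschemes
-/

set_option autoImplicit false
set_option linter.style.haveILetI false
set_option linter.unusedSectionVars false
universe u

open AlgebraicGeometry CategoryTheory Limits TopologicalSpace Topology IsLocalRing

namespace Groth.Agent.Lib.Helper21.SCmp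

open Groth.Agent.Lib.Helper21.BaseChg

/-- the fibre through `x` is geometrically reduced at `x` -/
def GRAt {X Y : Scheme.{u}} (f : X ⟶ Y) (x : X) : Prop :=
  FBase.IsGeomReducedAt (f.fiberToSpecResidueField (f x)) (f.asFiber x)

theorem gRAt_iff_of_fiberι {X Y : Scheme.{u}} (f : X ⟶ Y) (y : Y) (z : f.fiber y) :
    GRAt f (f.fiberι y z) ↔ FBase.IsGeomReducedAt (f.fiberToSpecResidueField y) z := by
  obtain ⟨x, hxdef⟩ : ∃ x, f.fiberι y z = x := ⟨_, rfl⟩
  have hx : f x = y := by rw [← hxdef]; exact (f.fiberHomeo y z).2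
  rw [hxdef]
  have key : ∀ (y₁ : Y) (h₁ : f x = y₁),
      FBase.IsGeomReducedAt (f.fiberToSpecResidueField y₁) ((f.fiberHomeo y₁).symm ⟨x, h₁⟩) ↔
        GRAt f x := by
    intro y₁ h₁
    subst h₁
    exact Iff.rfl
  rw [← key y hx]
  have hz : (f.fiberHomeo y).symm ⟨x, hx⟩ = z := by
    apply (f.fiberι y).isEmbedding.injective
    rw [f.fiberι_fiberHomeo_symm y ⟨x, hx⟩, hxdef]
  rw [hz]

/-- **geometric reducedness at a point is invariant under base change** (fibre form) -/
theorem isGeomReducedAt_iff_of_isPullback {X Y X' Y' : Scheme.{u}} {f : X ⟶ Y} {f' : X' ⟶ Y'}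
    {g : Y' ⟶ Y} (s' : Y') (z : f'.fiber s')
    (t : f'.fiber s' ⟶ f.fiber (g s'))
    (hpb : IsPullback t (f'.fiberToSpecResidueField s') (f.fiberToSpecResidueField (g s'))
      (Spec.map (g.residueFieldMap s'))) :
    FBase.IsGeomReducedAt (f'.fiberToSpecResidueField s') z ↔
      FBase.IsGeomReducedAt (f.fiberToSpecResidueField (g s')) (t z) := by
  letI alg : Algebra (IsLocalRing.ResidueField (Y.presheaf.stalk (g s'))) (Y'.residueField s') :=
    (g.residueFieldMap s').hom.toAlgebra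
  let φ := f.fiberToSpecResidueField (g s')
  have hpb' : IsPullback t (f'.fiberToSpecResidueField s') φ
      (Spec.map (CommRingCat.ofHom (algebraMap (IsLocalRing.ResidueField (Y.presheaf.stalk (g s')))
        (Y'.residueField s')))) := hpb
  let e : f'.fiber s' ≅ FBase.bc φ (Y'.residueField s') := hpb'.isoPullback
  have he1 : e.hom ≫ FBase.bcπ φ (Y'.residueField s') = t := hpb'.isoPullback_hom_fst
  have he2 : e.hom ≫ FBase.bcStr φ (Y'.residueField s') = f'.fiberToSpecResidueField s' :=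
    hpb'.isoPullback_hom_snd
  have h1 := Groth.Agent.Lib.Helper14.AS.isGeomReducedAt_comp_iff
    (FBase.bcStr φ (Y'.residueField s')) e.hom z
  rw [he2] at h1
  have h2 := Groth.Agent.Lib.Helper14.AS.isGeomReducedAt_iff_bcStr (Y'.residueField s') φ (e.hom z)
  have h3 : (FBase.bcπ φ (Y'.residueField s')) (e.hom z) = t z := by
    rw [← Scheme.Hom.comp_apply, he1]
  rw [h3] at h2
  exact h1.trans h2

/-- **geometric reducedness at a point is invariant under base change** -/
theorem gRAt_iff_of_isPullback {X Y X' Y' : Scheme.{u}} {f : X ⟶ Y} {f' : X' ⟶ Y'}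
    {g' : X' ⟶ X} {g : Y' ⟶ Y} (hsq : IsPullback g' f' f g) (x' : X') :
    GRAt f' x' ↔ GRAt f (g' x') := by
  obtain ⟨t, hpb, ht⟩ := exists_fiber_isPullback hsq (f' x')
  have h1 := isGeomReducedAt_iff_of_isPullback (f' x') (f'.asFiber x') t hpb
  have h2 := gRAt_iff_of_fiberι f (g (f' x')) (t (f'.asFiber x'))
  have hpt : f.fiberι (g (f' x')) (t (f'.asFiber x')) = g' x' := by
    have h3 := congrArg (fun φ : f'.fiber (f' x') ⟶ X => φ (f'.asFiber x')) ht
    simp only [Scheme.Hom.comp_apply] at h3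
    rw [h3, Scheme.Hom.fiberι_asFiber]
  rw [hpt] at h2
  exact h1.trans h2.symm

/-- **geometric reducedness at a point passes to open subschemes of the source** -/
theorem gRAt_ι_comp_iff {U X Y : Scheme.{u}} (ι : U ⟶ X) [IsOpenImmersion ι] (f : X ⟶ Y)
    (ξ : U) : GRAt (ι ≫ f) ξ ↔ GRAt f (ι ξ) := by
  obtain ⟨j, hj, hj1, hj2⟩ := exists_fiber_openImmersion ι f ((ι ≫ f) ξ)
  have h1 : FBase.IsGeomReducedAt ((ι ≫ f).fiberToSpecResidueField ((ι ≫ f) ξ))
      ((ι ≫ f).asFiber ξ) ↔ FBase.IsGeomReducedAt (f.fiberToSpecResidueField ((ι ≫ f) ξ))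
      (j ((ι ≫ f).asFiber ξ)) := by
    have h0 := Groth.Agent.Lib.Helper14.AS.isGeomReducedAt_comp_iff
      (f.fiberToSpecResidueField ((ι ≫ f) ξ)) j ((ι ≫ f).asFiber ξ)
    exact hj2 ▸ h0
  have h2 := gRAt_iff_of_fiberι f ((ι ≫ f) ξ) (j ((ι ≫ f).asFiber ξ))
  have hpt : f.fiberι ((ι ≫ f) ξ) (j ((ι ≫ f).asFiber ξ)) = ι ξ := by
    have h3 := congrArg (fun φ : (ι ≫ f).fiber ((ι ≫ f) ξ) ⟶ X => φ ((ι ≫ f).asFiber ξ)) hj1
    simp only [Scheme.Hom.comp_apply] at h3
    rw [h3, Scheme.Hom.fiberι_asFiber]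
  rw [hpt] at h2
  exact h1.trans h2.symm

end Groth.Agent.Lib.Helper21.SCmp
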