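import Mathlib
import Groth.Agent.Lib.Helper21.SCmp11
import Groth.Agent.Lib.Helper1.FPS1

/-!
# Reducedness of the local rings of a flat family over a discrete valuation ring
-/

set_option autoImplicit false
set_option linter.style.haveILetI false
set_option linter.unusedSectionVars false
universe u

open AlgebraicGeometry CategoryTheory Limits TopologicalSpace IsLocalRing

namespace Groth.Agent.Lib.Helper21.SCmp

/-- a Noetherian local ring with a regular element `t` of the maximal ideal such that `(t)` is a
radical ideal is reduced -/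
theorem isReduced_of_regular_of_isRadical {B : Type*} [CommRing B] [IsNoetherianRing B]
    [IsLocalRing B] (t : B) (ht : t ∈ maximalIdeal B) (hreg : ∀ b : B, t * b = 0 → b = 0)
    (hrad : (Ideal.span {t} : Ideal B).IsRadical) : _root_.IsReduced B := by
  have hregpow : ∀ (n : ℕ) (b : B), t ^ n * b = 0 → b = 0 := by
    intro n
    induction n with
    | zero => intro b hb; simpa using hb
    | succ n ih =>
      intro b hb
      apply ih
      apply hreg
      rw [← mul_assoc, ← pow_succ']
      exact hb
  have hne : (Ideal.span {t} : Ideal B) ≠ ⊤ := by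
    intro htop
    have h1 : (Ideal.span {t} : Ideal B) ≤ maximalIdeal B := by
      rw [Ideal.span_singleton_le_iff_mem]; exact ht
    rw [htop] at h1
    exact (IsLocalRing.maximalIdeal.isMaximal B).ne_top (top_le_iff.mp h1)
  have hkrull := Ideal.iInf_pow_eq_bot_of_isLocalRing (Ideal.span {t} : Ideal B) hne
  constructor
  intro b hb
  have key : ∀ n : ℕ, b ∈ (Ideal.span {t} : Ideal B) ^ n := by
    intro n
    induction n with
    | zero => simp
    | succ n ih =>
      rw [Ideal.span_singleton_pow, Ideal.mem_span_singleton'] at ih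
      obtain ⟨c, hc⟩ := ih
      have hcnil : IsNilpotent c := by
        obtain ⟨k, hk⟩ := hb
        refine ⟨k, ?_⟩
        apply hregpow (n * k)
        rw [pow_mul, ← mul_pow, mul_comm, hc, hk]
      have hcmem : c ∈ (Ideal.span {t} : Ideal B) := by
        obtain ⟨k, hk⟩ := hcnil
        apply hrad
        exact ⟨k, by rw [hk]; exact Ideal.zero_mem _⟩
      rw [Ideal.mem_span_singleton'] at hcmem
      obtain ⟨d, hd⟩ := hcmem
      rw [Ideal.span_singleton_pow, Ideal.mem_span_singleton']
      refine ⟨d, ?_⟩
      rw [← hc, ← hd, pow_succ]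
      ring
  have : b ∈ (⊥ : Ideal B) := by
    rw [← hkrull]
    simp only [Ideal.mem_iInf]
    exact key
  simpa using this


/-- reducedness of local rings passes to generisations -/
theorem isReduced_stalk_of_specializes {X : Scheme.{u}} {t s : X} (hts : t ⤳ s)
    (hs : _root_.IsReduced (X.presheaf.stalk s)) : _root_.IsReduced (X.presheaf.stalk t) := by
  let φ := X.fromSpecStalk s
  haveI : Flat φ := Groth.Agent.Lib.Helper10.FibreProductStalk.flat_fromSpecStalk X s
  haveI : IsPreimmersion φ := inferInstanceAs (IsPreimmersion (X.fromSpecStalk s))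
  have hmem : t ∈ Set.range φ.base := by
    rw [Scheme.range_fromSpecStalk]
    exact hts
  obtain ⟨𝔯, rfl⟩ := hmem
  haveI : IsReduced (Spec (X.presheaf.stalk s)) := (affine_isReduced_iff _).mpr hs
  have hinj := (Groth.Agent.Lib.Helper1.FPS.stalkMap_bijective φ 𝔯).1
  exact isReduced_of_injective (φ.stalkMap 𝔯).hom hinj

/-- **reducedness over a discrete valuation ring**: for a flat morphism locally of finite type
to the spectrum of a discrete valuation ring, the local ring of the total space at a point of the
closed fibre at which the closed fibre is reduced is reduced -/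
theorem isReduced_stalk_of_reduced_fibre {R : Type u} [CommRing R] [IsDomain R]
    [IsDiscreteValuationRing R] {P : Scheme.{u}} (h : P ⟶ Spec (CommRingCat.of R))
    [LocallyOfFiniteType h] [Flat h] (y : h.fiber (closedPoint R))
    (hred : _root_.IsReduced ((h.fiber (closedPoint R)).presheaf.stalk y)) :
    _root_.IsReduced (P.presheaf.stalk (h.fiberι (closedPoint R) y)) := by
  haveI : IsLocallyNoetherian P := LocallyOfFiniteType.isLocallyNoetherian h
  obtain ⟨π, hπ⟩ := IsDiscreteValuationRing.exists_irreducible R
  have hmax : maximalIdeal R = Ideal.span {π} := hπ.maximalIdeal_eq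
  have hx : h ((h.fiberι (closedPoint R)) y) = closedPoint R := (h.fiberHomeo (closedPoint R) y).2
  letI k : Algebra R ((Spec (CommRingCat.of R)).presheaf.stalk
      (h ((h.fiberι (closedPoint R)) y))) :=
    StructureSheaf.stalkAlgebra R (h ((h.fiberι (closedPoint R)) y))
  haveI hloc : IsLocalization.AtPrime ((Spec (CommRingCat.of R)).presheaf.stalk
      (h ((h.fiberι (closedPoint R)) y)))
      (show PrimeSpectrum R from h ((h.fiberι (closedPoint R)) y)).asIdeal :=
    StructureSheaf.IsLocalization.to_stalk R (h ((h.fiberι (closedPoint R)) y))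
  have hprin : maximalIdeal ((Spec (CommRingCat.of R)).presheaf.stalk
      (h ((h.fiberι (closedPoint R)) y))) = Ideal.span {algebraMap R _ π} := by
    rw [← IsLocalization.AtPrime.map_eq_maximalIdeal
      (show PrimeSpectrum R from h ((h.fiberι (closedPoint R)) y)).asIdeal]
    have : (show PrimeSpectrum R from h ((h.fiberι (closedPoint R)) y)).asIdeal =
        Ideal.span {π} := by
      rw [hx, ← hmax]; rfl
    rw [this, Ideal.map_span, Set.image_singleton]
  have hgen : ∀ ξ : P, ξ ⤳ (h.fiberι (closedPoint R)) y → h ξ = closedPoint R →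
      ∃ ξ' : P, ξ' ⤳ ξ ∧ h ξ' ≠ closedPoint R := by
    intro ξ _ hhξ
    have hG : GeneralizingMap h.base := Flat.generalizingMap h
    obtain ⟨ξ', h1, h2⟩ := hG (show gen R ⤳ h ξ by rw [hhξ]; exact gen_specializes R)
    refine ⟨ξ', h1, ?_⟩
    have h2' : h ξ' = gen R := h2
    rw [h2']
    exact gen_ne_closedPoint R
  have hreg := stalk_regular_of_reduced_fibre h (closedPoint R) y _ hprin hred hgen
  obtain ⟨hsurj, hker⟩ := Groth.Agent.S9501.result h (closedPoint R) y
  set B := P.presheaf.stalk ((h.fiberι (closedPoint R)) y) with hB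
  set t : B := (h.stalkMap ((h.fiberι (closedPoint R)) y)).hom (algebraMap R _ π) with ht
  have hI : Ideal.map (h.stalkMap ((h.fiberι (closedPoint R)) y)).hom
      (maximalIdeal ((Spec (CommRingCat.of R)).presheaf.stalk
        (h ((h.fiberι (closedPoint R)) y)))) = Ideal.span {t} := by
    rw [hprin, Ideal.map_span, Set.image_singleton]
  have hrad : (Ideal.span {t} : Ideal B).IsRadical := by
    rw [← hI, ← hker]
    exact RingHom.ker_isRadical_iff_reduced_of_surjective hsurj |>.mpr hred
  have htm : t ∈ maximalIdeal B := by
    have hne : (Ideal.span {t} : Ideal B) ≠ ⊤ := by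
      intro htop
      have h1 : (1 : B) ∈ RingHom.ker ((h.fiberι (closedPoint R)).stalkMap y).hom := by
        rw [hker, hI, htop]; trivial
      rw [RingHom.mem_ker, map_one] at h1
      exact one_ne_zero h1
    have h1 : (Ideal.span {t} : Ideal B) ≤ maximalIdeal B := IsLocalRing.le_maximalIdeal hne
    exact h1 (Ideal.mem_span_singleton_self _)
  exact isReduced_of_regular_of_isRadical t htm hreg hrad

end Groth.Agent.Lib.Helper21.SCmp
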