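import Mathlib
import Groth.Agent.Lib.Helper21.FibDim1

/-!
# Points of a fibre product over a point with trivial residue field extension
-/

set_option autoImplicit false
set_option linter.style.haveILetI false
set_option linter.unusedSectionVars false
universe u

open AlgebraicGeometry CategoryTheory Limits TopologicalSpace IsLocalRing

namespace Groth.Agent.Lib.Helper21.SCmp

/-- the residue field extension at a point of the image of a section is trivial -/
theorem residueFieldMap_surjective_of_section' {P S : Scheme.{u}} (h : P ⟶ S) (σ : S ⟶ P)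
    (hσ : σ ≫ h = 𝟙 S) (s : S) : Function.Surjective (h.residueFieldMap (σ s)).hom := by
  haveI : SurjectiveOnStalks (σ ≫ h) := by rw [hσ]; infer_instance
  have h1 := Groth.Agent.Lib.Helper21.FibDim.residueFieldMap_surjective (σ ≫ h) s
  rw [Scheme.residueFieldMap_comp] at h1
  intro z
  obtain ⟨t, ht⟩ := h1 ((σ.residueFieldMap s).hom z)
  refine ⟨t, ?_⟩
  have hinj : Function.Injective (σ.residueFieldMap s).hom :=
    (σ.residueFieldMap s).hom.injective
  apply hinj
  rw [← ht]
  rfl

theorem residueFieldMap_surjective_congr {P S : Scheme.{u}} (h : P ⟶ S) {a b : P} (hab : a = b)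
    (ha : Function.Surjective (h.residueFieldMap a).hom) :
    Function.Surjective (h.residueFieldMap b).hom := by
  subst hab
  exact ha

/-- the tensor product of residue fields at a triplet with trivial residue field extension on
the left has a single prime -/
theorem subsingleton_spec_tensor {X Y S : Scheme.{u}} {f : X ⟶ S} {g : Y ⟶ S}
    (T : Scheme.Pullback.Triplet f g)
    (hs : Function.Surjective (f.residueFieldMap T.x).hom) : Subsingleton (Spec T.tensor) := by
  haveI : IsIso (f.residueFieldMap T.x) := by
    rw [ConcreteCategory.isIso_iff_bijective]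
    exact ⟨(f.residueFieldMap T.x).hom.injective, hs⟩
  haveI h0 : IsIso ((S.residueFieldCongr T.hx).inv ≫ f.residueFieldMap T.x) := inferInstance
  have hiso : IsIso T.tensorInr := by
    unfold Scheme.Pullback.Triplet.tensorInr
    exact pushout_inr_iso_of_left_iso _ _
  haveI : IsIso (Spec.map T.tensorInr) := inferInstance
  have hinj : Function.Injective (Spec.map T.tensorInr).base :=
    (Scheme.homeoOfIso (asIso (Spec.map T.tensorInr))).injective
  constructor
  intro a b
  apply hinj
  exact Subsingleton.elim (α := PrimeSpectrum (Y.residueField T.y)) _ _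

/-- **uniqueness of points of a fibre product**: two points of `X ×[S] Y` with the same
projections to `X` and `Y` agree as soon as the residue field extension of `X ⟶ S` at the
projection is trivial -/
theorem pullback_point_ext {X Y S : Scheme.{u}} (f : X ⟶ S) (g : Y ⟶ S)
    (z₁ z₂ : ↑(pullback f g)) (h1 : pullback.fst f g z₁ = pullback.fst f g z₂)
    (h2 : pullback.snd f g z₁ = pullback.snd f g z₂)
    (hs : Function.Surjective (f.residueFieldMap (pullback.fst f g z₂)).hom) : z₁ = z₂ := by
  apply Scheme.Pullback.carrierEquiv.injective
  rw [Scheme.Pullback.carrierEquiv_eq_iff]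
  have e : Scheme.Pullback.Triplet.ofPoint z₁ = Scheme.Pullback.Triplet.ofPoint z₂ :=
    Scheme.Pullback.Triplet.ext h1 h2
  refine ⟨e, ?_⟩
  haveI : Subsingleton (Spec (Scheme.Pullback.Triplet.ofPoint z₂).tensor) :=
    subsingleton_spec_tensor (Scheme.Pullback.Triplet.ofPoint z₂) hs
  exact Subsingleton.elim (α := Spec (Scheme.Pullback.Triplet.ofPoint z₂).tensor) _ _

end Groth.Agent.Lib.Helper21.SCmp
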