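import Mathlib
import Groth.Agent.Lib.Helper21.KA8

/-!
# Discrete valuation rings inside finite extensions of the residue field of the generic point
-/

set_option autoImplicit false
set_option linter.style.haveILetI false
set_option linter.unusedSectionVars false
universe u

open AlgebraicGeometry CategoryTheory Limits TopologicalSpace IsLocalRing

namespace Groth.Agent.Lib.Helper21.SCmp

/-- the canonical homomorphism from a ring to the residue field of a point of its spectrum -/
noncomputable def toResidueField (R : Type u) [CommRing R] (p : Spec (CommRingCat.of R)) :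
    R →+* (Spec (CommRingCat.of R)).residueField p :=
  ((Scheme.ΓSpecIso (CommRingCat.of R)).inv ≫ (Spec (CommRingCat.of R)).presheaf.germ ⊤ p trivial ≫
    (Spec (CommRingCat.of R)).residue p).hom

theorem specMap_toResidueField (R : Type u) [CommRing R] (p : Spec (CommRingCat.of R)) :
    Spec.map (CommRingCat.ofHom (toResidueField R p)) =
      (Spec (CommRingCat.of R)).fromSpecResidueField p := by
  simp only [Scheme.fromSpecResidueField, Spec.fromSpecStalk_eq, ← Spec.map_comp]
  rfl

theorem ker_toResidueField (R : Type u) [CommRing R] (p : Spec (CommRingCat.of R)) :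
    RingHom.ker (toResidueField R p) = (show PrimeSpectrum R from p).asIdeal := by
  have h1 : (Spec.map (CommRingCat.ofHom (toResidueField R p)))
      (⊥ : PrimeSpectrum ((Spec (CommRingCat.of R)).residueField p)) = p := by
    rw [specMap_toResidueField]
    exact Scheme.fromSpecResidueField_apply _ _
  have h2 := congrArg PrimeSpectrum.asIdeal h1
  rw [← h2]
  ext a
  change (toResidueField R p) a = 0 ↔
    a ∈ Ideal.comap (toResidueField R p) (⊥ : Ideal ((Spec (CommRingCat.of R)).residueField p))
  rw [Ideal.mem_comap, Ideal.mem_bot]

/-- the residue field at a point of `Spec R` is generated, as a field, by the image of `R` -/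
theorem closure_range_toResidueField (R : Type u) [CommRing R] (p : Spec (CommRingCat.of R)) :
    Subfield.closure (Set.range (toResidueField R p)) = ⊤ := by
  rw [eq_top_iff]
  intro z _
  let e := Scheme.Spec.residueFieldIso (CommRingCat.of R) p
  have he : ∀ a : R, e.inv.hom (algebraMap R (show PrimeSpectrum R from p).asIdeal.ResidueField a) =
      toResidueField R p a := by
    intro a
    have := Scheme.Spec.algebraMap_residueFieldIso_inv (CommRingCat.of R) p
    exact congrArg (fun φ => φ.hom a) this
  have hz : z = e.inv.hom (e.hom.hom z) := by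
    have : e.hom ≫ e.inv = 𝟙 _ := e.hom_inv_id
    exact (congrArg (fun φ => φ.hom z) this).symm
  obtain ⟨a', s', hs', hy⟩ := IsFractionRing.div_surjective
    (A := R ⧸ (show PrimeSpectrum R from p).asIdeal) (e.hom.hom z)
  obtain ⟨a, rfl⟩ := Ideal.Quotient.mk_surjective a'
  obtain ⟨s, rfl⟩ := Ideal.Quotient.mk_surjective s'
  rw [hz, ← hy, map_div₀]
  have h1 : algebraMap (R ⧸ (show PrimeSpectrum R from p).asIdeal)
      (show PrimeSpectrum R from p).asIdeal.ResidueField (Ideal.Quotient.mk _ a) =
      algebraMap R _ a := rfl
  have h2 : algebraMap (R ⧸ (show PrimeSpectrum R from p).asIdeal)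
      (show PrimeSpectrum R from p).asIdeal.ResidueField (Ideal.Quotient.mk _ s) =
      algebraMap R _ s := rfl
  rw [h1, h2, he, he]
  exact div_mem (Subfield.subset_closure ⟨a, rfl⟩) (Subfield.subset_closure ⟨s, rfl⟩)

/-- **discrete valuation rings in finitely generated extensions**: a discrete valuation ring `R`
mapping injectively to a field `L` generated by the image and finitely many elements is dominated
by a discrete valuation ring with fraction field `L` -/
theorem exists_dvr_in_field (R : Type u) [CommRing R] [IsDomain R] [IsDiscreteValuationRing R]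
    (L : Type u) [Field L] (ψ : R →+* L) (hψ : Function.Injective ψ)
    (S : Finset L) (hS : Subfield.closure (Set.range ψ ∪ (S : Set L)) = ⊤) :
    ∃ (R' : Type u) (_ : CommRing R') (_ : IsDomain R') (_ : IsDiscreteValuationRing R')
      (_ : Algebra R' L) (_ : IsFractionRing R' L) (ι : R →+* R'),
      (algebraMap R' L).comp ι = ψ ∧ IsLocalHom ι := by
  letI : Algebra R L := ψ.toAlgebra
  have hne : maximalIdeal R ≠ ⊥ := IsDiscreteValuationRing.not_a_field R
  obtain ⟨O, hO, hmem, hval⟩ := Groth.Agent.Lib.Helper21.KA.exists_dvr_of_closure_eq_top R L hψ S hS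
    (maximalIdeal R) hne
  let ι : R →+* O := RingHom.codRestrict ψ O.toSubring hmem
  refine ⟨O, inferInstance, inferInstance, hO, inferInstance, inferInstance, ι, ?_, ?_⟩
  · ext a
    rfl
  · constructor
    intro a ha
    by_contra hna
    have hmemm : a ∈ maximalIdeal R := (IsLocalRing.mem_maximalIdeal a).mpr hna
    have h1 : O.valuation (algebraMap R L a) < 1 := (hval a).mpr hmemm
    have h2 : O.valuation ((ι a : O) : L) = 1 := (O.valuation_eq_one_iff (ι a)).mp ha
    have h3 : ((ι a : O) : L) = algebraMap R L a := rfl
    rw [h3] at h2
    exact absurd h2 h1.ne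

end Groth.Agent.Lib.Helper21.SCmp
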