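import Mathlib
import Groth.Agent.Lib.Helper21.SCmp14
import Groth.Agent.Lib.Helper21.SCmp22
import Groth.Agent.Lib.Helper21.SCmp23
import Groth.Agent.Lib.Helper21.SCmp24
import Groth.Agent.Lib.Helper12.GROpen3

/-!
# Geometric reducedness at the generic point of a section over a discrete valuation ring
-/

set_option autoImplicit false
set_option linter.style.haveILetI false
set_option linter.unusedSectionVars false
universe u

open AlgebraicGeometry CategoryTheory Limits TopologicalSpace IsLocalRing

attribute [local instance] Curv2.stalkAlgebra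

namespace Groth.Agent.Lib.Helper21.SCmp

/-- geometric reducedness at a point can be tested on finite purely inseparable extensions -/
theorem isGeomReducedAt_of_forall_purelyInseparable {k : Type u} [Field k] {Q : Scheme.{u}}
    (φ : Q ⟶ Spec (CommRingCat.of k)) (ξ : Q)
    (H : ∀ (k' : Type u) [Field k'] [Algebra k k'] [FiniteDimensional k k']
      [IsPurelyInseparable k k'] (x' : ↥(FBase.bc φ k')), (FBase.bcπ φ k').base x' = ξ →
      _root_.IsReduced ((FBase.bc φ k').presheaf.stalk x')) : FBase.IsGeomReducedAt φ ξ := by
  letI : Q.Over (Spec (CommRingCat.of k)) := ⟨φ⟩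
  refine (Groth.Agent.Lib.Helper12.H12GROpen.isGeomReducedAt_iff φ ξ).mpr ?_
  exact Groth.Agent.Lib.Helper1.FPS.isGeometricallyReduced_stalk_of_forall_purelyInseparable k Q ξ
    (fun k' _ _ _ _ x' hx' => H k' x' hx')

/-- at a point of geometric reducedness the local ring is reduced -/
theorem isReduced_stalk_of_isGeomReducedAt {k : Type u} [Field k] {Q : Scheme.{u}}
    (φ : Q ⟶ Spec (CommRingCat.of k)) (ξ : Q) (h : FBase.IsGeomReducedAt φ ξ) :
    _root_.IsReduced (Q.presheaf.stalk ξ) := by
  letI : Q.Over (Spec (CommRingCat.of k)) := ⟨φ⟩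
  haveI : Algebra.IsGeometricallyReduced k (Q.presheaf.stalk ξ) :=
    (Groth.Agent.Lib.Helper12.H12GROpen.isGeomReducedAt_iff φ ξ).mp h
  exact Algebra.isReduced_of_isGeometricallyReduced k


theorem gen_asIdeal (R : Type u) [CommRing R] [IsDomain R] :
    (show PrimeSpectrum R from gen R).asIdeal = ⊥ := rfl

/-- the image of the generic point under the map of spectra induced by an injective homomorphism
of domains -/
theorem specMap_gen {A B : Type u} [CommRing A] [CommRing B] [IsDomain A] [IsDomain B]
    (ι : A →+* B) (hι : Function.Injective ι) :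
    (Spec.map (CommRingCat.ofHom ι)) (gen B) = gen A := by
  apply PrimeSpectrum.ext
  change Ideal.comap ι (⊥ : Ideal B) = ⊥
  rw [← RingHom.ker_eq_comap_bot]
  exact (RingHom.injective_iff_ker_eq_bot ι).mp hι

/-- the unique point of the spectrum of a field maps to the generic point -/
theorem specMap_field_apply {A L : Type u} [CommRing A] [IsDomain A] [Field L]
    (ι : A →+* L) (hι : Function.Injective ι) (t : Spec (CommRingCat.of L)) :
    (Spec.map (CommRingCat.ofHom ι)) t = gen A := by
  have ht : t = gen L := Subsingleton.elim (α := PrimeSpectrum L) _ _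
  rw [ht]
  exact specMap_gen ι hι

/-- a finite field extension of a field generated by the image of a ring is generated by the
image of the ring and finitely many elements -/
theorem exists_finset_closure_eq_top {R k k' : Type u} [CommRing R] [Field k] [Field k']
    [Algebra k k'] [FiniteDimensional k k'] (φ₀ : R →+* k)
    (hφ₀ : Subfield.closure (Set.range φ₀) = ⊤) :
    ∃ S : Finset k', Subfield.closure
      (Set.range ((algebraMap k k').comp φ₀) ∪ (S : Set k')) = ⊤ := by
  obtain ⟨S, hS⟩ := (Module.Finite.fg_top : (⊤ : Submodule k k').FG)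
  refine ⟨S, ?_⟩
  set F := Subfield.closure (Set.range ((algebraMap k k').comp φ₀) ∪ (S : Set k')) with hF
  have h1 : ∀ c : k, algebraMap k k' c ∈ F := by
    intro c
    have hle : Subfield.closure (Set.range φ₀) ≤ F.comap (algebraMap k k') := by
      rw [Subfield.closure_le]
      rintro _ ⟨a, rfl⟩
      exact Subfield.subset_closure (Or.inl ⟨a, rfl⟩)
    have : c ∈ Subfield.closure (Set.range φ₀) := by rw [hφ₀]; trivial
    exact hle this
  rw [eq_top_iff]
  intro z _
  have hz : z ∈ Submodule.span k (S : Set k') := by rw [hS]; trivial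
  clear * - hz h1
  induction hz using Submodule.span_induction with
  | mem x hx => exact Subfield.subset_closure (Or.inr hx)
  | zero => exact zero_mem F
  | add x y _ _ hx hy => exact add_mem hx hy
  | smul c x _ hx =>
    rw [Algebra.smul_def]
    exact mul_mem (h1 c) hx

/-- **generisation along a section over a discrete valuation ring**: if the closed fibre of a flat
morphism locally of finite type to the spectrum of a discrete valuation ring is geometrically
reduced at the closed point of a section, then the generic fibre is geometrically reduced at the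
generic point of the section -/
theorem gRAt_generic_of_section {R : Type u} [CommRing R] [IsDomain R] [IsDiscreteValuationRing R]
    {P : Scheme.{u}} (h : P ⟶ Spec (CommRingCat.of R)) [LocallyOfFiniteType h] [Flat h]
    (σ : Spec (CommRingCat.of R) ⟶ P) (hσ : σ ≫ h = 𝟙 _)
    (hs : GRAt h (σ (closedPoint R))) : GRAt h (σ (gen R)) := by
  set w := σ (gen R) with hwdef
  have hw : h w = gen R := section_apply h σ hσ (gen R)
  let k := (Spec (CommRingCat.of R)).residueField (h w)
  let φ : h.fiber (h w) ⟶ Spec (CommRingCat.of k) := h.fiberToSpecResidueField (h w)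
  change FBase.IsGeomReducedAt φ (h.asFiber w)
  refine isGeomReducedAt_of_forall_purelyInseparable φ (h.asFiber w) ?_
  intro k' _ _ _ _ x'' hx''
  let φ₀ : R →+* k := toResidueField R (h w)
  let ψ : R →+* k' := (algebraMap k k').comp φ₀
  have hφ₀inj : Function.Injective φ₀ := by
    rw [RingHom.injective_iff_ker_eq_bot, ker_toResidueField, hw]
  have hψ : Function.Injective ψ := (algebraMap k k').injective.comp hφ₀inj
  obtain ⟨S, hS⟩ := exists_finset_closure_eq_top (k' := k') φ₀ (closure_range_toResidueField R (h w))
  obtain ⟨R', _, _, _, algR'L, hfrac, ι, hι, hloc⟩ := exists_dvr_in_field R k' ψ hψ S hS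
  have hιinj : Function.Injective ι := by
    have : Function.Injective ((algebraMap R' k').comp ι) := by rw [hι]; exact hψ
    exact Function.Injective.of_comp this
  have hjinj : Function.Injective (algebraMap R' k') := IsFractionRing.injective R' k'
  let v' : Spec (CommRingCat.of R') ⟶ Spec (CommRingCat.of R) := Spec.map (CommRingCat.ofHom ι)
  let h' := pullback.snd h v'
  let ρ' := pullback.fst h v'
  have hpb : IsPullback ρ' h' h v' := IsPullback.of_hasPullback h v'
  let σ' : Spec (CommRingCat.of R') ⟶ pullback h v' :=
    pullback.lift (v' ≫ σ) (𝟙 _) (by rw [Category.assoc, hσ]; simp)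
  have hσ' : σ' ≫ h' = 𝟙 _ := pullback.lift_snd _ _ _
  have hσρ : σ' ≫ ρ' = v' ≫ σ := pullback.lift_fst _ _ _
  have hv'm : v' (closedPoint R') = closedPoint R := by
    haveI : IsLocalHom (CommRingCat.ofHom ι).hom := hloc
    exact Spec_closedPoint (f := CommRingCat.ofHom ι)
  have hv'g : v' (gen R') = gen R := specMap_gen ι hιinj
  have hρσ : ∀ t, ρ' (σ' t) = σ (v' t) := by
    intro t
    have := congrArg (fun φ : Spec (CommRingCat.of R') ⟶ P => φ t) hσρ
    simpa only [Scheme.Hom.comp_apply] using this
  haveI : Flat h' := inferInstance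
  haveI : LocallyOfFiniteType h' := inferInstance
  -- geometric reducedness at the closed point of the new section
  have hs' : GRAt h' (σ' (closedPoint R')) := by
    rw [gRAt_iff_of_isPullback hpb, hρσ, hv'm]
    exact hs
  -- the local ring at the closed point of the new section is reduced
  have hh'm : h' (σ' (closedPoint R')) = closedPoint R' := section_apply h' σ' hσ' _
  have hred' : _root_.IsReduced ((pullback h v').presheaf.stalk (σ' (closedPoint R'))) := by
    obtain ⟨y, hy⟩ : σ' (closedPoint R') ∈ Set.range (h'.fiberι (closedPoint R')) := by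
      rw [Scheme.Hom.range_fiberι]
      exact hh'm
    rw [← hy]
    apply isReduced_stalk_of_reduced_fibre h' y
    rw [← hy] at hs'
    have h1 := (gRAt_iff_of_fiberι h' (closedPoint R') y).mp hs'
    exact isReduced_stalk_of_isGeomReducedAt
      (k := (Spec (CommRingCat.of R')).residueField (closedPoint R'))
      (h'.fiberToSpecResidueField (closedPoint R')) y h1
  have hred'' : _root_.IsReduced ((pullback h v').presheaf.stalk (σ' (gen R'))) :=
    isReduced_stalk_of_specializes ((gen_specializes R').map σ'.continuous) hred'
  -- the comparison morphism from the base change of the fibre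
  let g₀ : Spec (CommRingCat.of k') ⟶ Spec (CommRingCat.of R') :=
    Spec.map (CommRingCat.ofHom (algebraMap R' k'))
  have hbot : Spec.map (CommRingCat.ofHom (algebraMap k k')) ≫
      (Spec (CommRingCat.of R)).fromSpecResidueField (h w) = g₀ ≫ v' := by
    rw [← specMap_toResidueField, ← Spec.map_comp, ← Spec.map_comp, ← CommRingCat.ofHom_comp,
      ← CommRingCat.ofHom_comp, hι]
  have hbig : IsPullback (FBase.bcπ φ k' ≫ h.fiberι (h w)) (FBase.bcStr φ k') h (g₀ ≫ v') := by
    have h1 : IsPullback (FBase.bcπ φ k') (FBase.bcStr φ k') φ
        (Spec.map (CommRingCat.ofHom (algebraMap k k'))) := IsPullback.of_hasPullback _ _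
    have h2 : IsPullback (h.fiberι (h w)) φ h
        ((Spec (CommRingCat.of R)).fromSpecResidueField (h w)) := IsPullback.of_hasPullback _ _
    have := h1.paste_horiz h2
    rwa [hbot] at this
  let j : FBase.bc φ k' ⟶ pullback h v' :=
    pullback.lift (FBase.bcπ φ k' ≫ h.fiberι (h w)) (FBase.bcStr φ k' ≫ g₀)
      (by rw [hbig.w, Category.assoc])
  have hj1 : j ≫ ρ' = FBase.bcπ φ k' ≫ h.fiberι (h w) := pullback.lift_fst _ _ _
  have hj2 : j ≫ h' = FBase.bcStr φ k' ≫ g₀ := pullback.lift_snd _ _ _
  have hjpb : IsPullback j (FBase.bcStr φ k') h' g₀ := by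
    refine IsPullback.of_right ?_ hj2 hpb
    rw [hj1]
    exact hbig
  haveI hg₀pre : IsPreimmersion g₀ := IsPreimmersion.of_isLocalization (nonZeroDivisors R')
  haveI hg₀flat : Flat g₀ := by
    rw [HasRingHomProperty.Spec_iff (P := @Flat)]
    change (algebraMap R' k').Flat
    rw [RingHom.flat_algebraMap_iff]
    exact IsLocalization.flat k' (nonZeroDivisors R')
  haveI : IsPreimmersion j := MorphismProperty.of_isPullback (P := @IsPreimmersion) hjpb.flip hg₀pre
  haveI : Flat j := MorphismProperty.of_isPullback (P := @Flat) hjpb.flip hg₀flat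
  -- the image of `x''` is the generic point of the new section
  have hjx : j x'' = σ' (gen R') := by
    apply pullback_point_ext h v'
    · change ρ' (j x'') = ρ' (σ' (gen R'))
      have e1 : ρ' (j x'') = w := by
        have := congrArg (fun ψ : FBase.bc φ k' ⟶ P => ψ x'') hj1
        simp only [Scheme.Hom.comp_apply] at this
        rw [this, hx'', Scheme.Hom.fiberι_asFiber]
      rw [e1, hρσ, hv'g]
    · change h' (j x'') = h' (σ' (gen R'))
      have e1 : h' (j x'') = gen R' := by
        have := congrArg (fun ψ : FBase.bc φ k' ⟶ Spec (CommRingCat.of R') => ψ x'') hj2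
        simp only [Scheme.Hom.comp_apply] at this
        rw [this]
        exact specMap_field_apply (algebraMap R' k') hjinj _
      rw [e1, section_apply h' σ' hσ']
    · refine residueFieldMap_surjective_congr h (hρσ (gen R')).symm ?_
      exact residueFieldMap_surjective_of_section' h σ hσ _
  have hbij := Groth.Agent.Lib.Helper1.FPS.stalkMap_bijective j x''
  rw [← hjx] at hred''
  let e := RingEquiv.ofBijective (j.stalkMap x'').hom hbij
  exact isReduced_of_injective e.symm.toRingHom e.symm.injective

end Groth.Agent.Lib.Helper21.SCmp
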