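import Mathlib
import Groth.Agent.Lib.Helper21.SCmp25
import Groth.Agent.Lib.Helper21.DVRExt3

/-!
# Geometric reducedness of the fibres at a point is stable under generisation (flat case)
-/

set_option autoImplicit false
set_option linter.style.haveILetI false
set_option linter.unusedSectionVars false
universe u

open AlgebraicGeometry CategoryTheory Limits TopologicalSpace IsLocalRing

namespace Groth.Agent.Lib.Helper21.SCmp

/-- **stability under generisation**: for a flat morphism locally of finite type to a locally
Noetherian scheme, if the fibre through `x` is geometrically reduced at `x`, then the fibre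
through any generisation `x'` of `x` is geometrically reduced at `x'` -/
theorem gRAt_of_specializes {X Y : Scheme.{u}} [IsLocallyNoetherian Y] (f : X ⟶ Y)
    [LocallyOfFiniteType f] [Flat f] (x x' : X) (hx' : x' ⤳ x) (hx : GRAt f x) : GRAt f x' := by
  by_cases hne : x' = x
  · subst hne
    exact hx
  haveI : IsLocallyNoetherian X := LocallyOfFiniteType.isLocallyNoetherian f
  obtain ⟨R, _, _, _, u, hu1, hu2⟩ := DVRExt.exists_dvr_of_specializes x' x hx' hne
  let v : Spec (CommRingCat.of R) ⟶ Y := u ≫ f
  let fR := pullback.snd f v
  let ρ := pullback.fst f v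
  have hpb : IsPullback ρ fR f v := IsPullback.of_hasPullback f v
  let σR : Spec (CommRingCat.of R) ⟶ pullback f v := pullback.lift u (𝟙 _) (by simp [v])
  have hσR : σR ≫ fR = 𝟙 _ := pullback.lift_snd _ _ _
  have hσρ : σR ≫ ρ = u := pullback.lift_fst _ _ _
  have hρσ : ∀ t, ρ (σR t) = u t := by
    intro t
    have := congrArg (fun φ : Spec (CommRingCat.of R) ⟶ X => φ t) hσρ
    simpa only [Scheme.Hom.comp_apply] using this
  haveI : Flat fR := inferInstance
  haveI : LocallyOfFiniteType fR := inferInstance
  have hs : GRAt fR (σR (closedPoint R)) := by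
    rw [gRAt_iff_of_isPullback hpb, hρσ, hu1]
    exact hx
  have hg := gRAt_generic_of_section fR σR hσR hs
  rw [gRAt_iff_of_isPullback hpb, hρσ] at hg
  have : u (gen R) = x' := hu2
  rw [this] at hg
  exact hg

end Groth.Agent.Lib.Helper21.SCmp
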