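import Mathlib
import Groth.Agent.Lib.Helper21.SCmp26
import Groth.Agent.Lib.Helper12.GeomRedNear
import Groth.Agent.Lib.Helper12.GROpen3

set_option autoImplicit false
set_option linter.style.haveILetI false
universe u
open AlgebraicGeometry CategoryTheory Limits TopologicalSpace IsLocalRing

namespace Groth.Agent.Lib.Helper21.SCmp

theorem geometricallyReduced_iff_forall {k : Type u} [Field k] {Q : Scheme.{u}}
    (φ : Q ⟶ Spec (CommRingCat.of k)) :
    GeometricallyReduced φ ↔ ∀ z : Q, FBase.IsGeomReducedAt φ z := by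
  rw [geometricallyReduced_iff, geometrically_iff_of_commRing_of_isClosedUnderIsomorphisms]
  constructor
  · intro H z K _ _ x' hx'
    haveI : IsReduced (FBase.bc φ K) := H K
    infer_instance
  · intro H K _ _
    show IsReduced (FBase.bc φ K)
    haveI : ∀ x : FBase.bc φ K, _root_.IsReduced ((FBase.bc φ K).presheaf.stalk x) :=
      fun x => H _ K x rfl
    exact isReduced_of_isReduced_stalk _

theorem gRAt_of_geometricallyReduced {X Y : Scheme.{u}} (f : X ⟶ Y) [GeometricallyReduced f]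
    (x : X) : GRAt f x := by
  have h : GeometricallyReduced (f.fiberToSpecResidueField (f x)) := inferInstance
  exact (geometricallyReduced_iff_forall _).mp h _

/-- the set of points of a fibre at which the fibre is geometrically reduced is open -/
theorem exists_open_gRAt_fibre {X S : Scheme.{u}} (g : X ⟶ S) [LocallyOfFiniteType g] (s : S) :
    ∃ W : X.Opens, ∀ x : X, g x = s → (x ∈ W ↔ GRAt g x) := by
  let φ := g.fiberToSpecResidueField s
  haveI : LocallyOfFiniteType φ := by unfold φ; infer_instance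
  haveI : IsLocallyNoetherian (g.fiber s) := LocallyOfFiniteType.isLocallyNoetherian φ
  have hO := Groth.Agent.Lib.Helper12.H12GROpen.isOpen_geomReduced φ
  obtain ⟨W₁, hW₁, hW₁O⟩ := (g.fiberι s).isEmbedding.isInducing.isOpen_iff.mp hO
  refine ⟨⟨W₁, hW₁⟩, ?_⟩
  intro x hx
  let xs : g.fiber s := (g.fiberHomeo s).symm ⟨x, hx⟩
  have hxs : g.fiberι s xs = x := g.fiberι_fiberHomeo_symm s ⟨x, hx⟩
  have h1 : x ∈ W₁ ↔ xs ∈ {w | FBase.IsGeomReducedAt φ w} := by
    rw [← hW₁O, Set.mem_preimage, hxs]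
  have h2 := gRAt_iff_of_fiberι g s xs
  rw [hxs] at h2
  exact h1.trans h2.symm


theorem exists_open_gRAt_of_generic {X S : Scheme.{u}} [IsAffine S] [IrreducibleSpace S]
    (g : X ⟶ S) [LocallyOfFiniteType g] (z : X) (hz : g z = genericPoint S) (h : GRAt g z) :
    ∃ W : X.Opens, z ∈ W ∧ ∀ w ∈ W, GRAt g w := by
  obtain ⟨W₁, hW₁⟩ := exists_open_gRAt_fibre g (genericPoint S)
  have hzW₁ : z ∈ W₁ := (hW₁ z hz).mpr h
  obtain ⟨_, ⟨(W₂ : X.Opens), hW₂aff, rfl⟩, hzW₂, hW₂W₁⟩ :=
    X.isBasis_affineOpens.exists_subset_of_mem_open hzW₁ W₁.2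
  have hW₂ : IsAffineOpen W₂ := hW₂aff
  let g₂ := W₂.ι ≫ g
  haveI : IsAffine W₂ := hW₂
  haveI : QuasiCompact g₂ := inferInstance
  haveI : LocallyOfFiniteType g₂ := inferInstance
  have hgen : GeometricallyReduced (g₂.fiberToSpecResidueField (genericPoint S)) := by
    refine (geometricallyReduced_iff_forall (k := S.residueField (genericPoint S)) _).mpr ?_
    intro w
    refine (gRAt_iff_of_fiberι g₂ _ w).mp ?_
    rw [gRAt_ι_comp_iff]
    have hx : g (W₂.ι (g₂.fiberι _ w)) = genericPoint S := by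
      rw [← Scheme.Hom.comp_apply]
      exact (g₂.fiberHomeo _ w).2
    refine (hW₁ _ hx).mp (hW₂W₁ ?_)
    exact (g₂.fiberι _ w).2
  obtain ⟨V', hV'ne, hV'⟩ := Groth.Agent.Lib.Helper12.H12GeomRedNear.main g₂ hgen
  have hsV' : genericPoint S ∈ V' := by
    refine ((genericPoint_spec S).mem_open_set_iff V'.2).mpr ?_
    simpa using hV'ne
  refine ⟨W₂.ι ''ᵁ (g₂ ⁻¹ᵁ V'), ?_, ?_⟩
  · refine ⟨⟨z, hzW₂⟩, ?_, rfl⟩
    show g₂ ⟨z, hzW₂⟩ ∈ V'
    have : g₂ ⟨z, hzW₂⟩ = g z := by
      rw [Scheme.Hom.comp_apply]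
      rfl
    rw [this, hz]
    exact hsV'
  · rintro w ⟨w₂, hw₂, rfl⟩
    refine (gRAt_ι_comp_iff W₂.ι g w₂).mp ?_
    have hpb := isPullback_morphismRestrict g₂ V'
    have h1 := gRAt_iff_of_isPullback hpb.flip ⟨w₂, hw₂⟩
    have h2 : (g₂ ⁻¹ᵁ V').ι ⟨w₂, hw₂⟩ = w₂ := rfl
    rw [h2] at h1
    exact h1.mp (gRAt_of_geometricallyReduced _ _)


theorem exists_open_gRAt_of_closure {X S : Scheme.{u}} [IsAffine S]
    (g : X ⟶ S) [LocallyOfFiniteType g] (z : X) (h : GRAt g z) :
    ∃ W : X.Opens, z ∈ W ∧ ∀ w ∈ W, g w ∈ closure {g z} → GRAt g w := by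
  let I := Scheme.IdealSheafData.vanishingIdeal ⟨closure {g z}, isClosed_closure⟩
  have hrange : Set.range I.subschemeι = closure {g z} := by
    rw [Scheme.IdealSheafData.range_subschemeι, Scheme.IdealSheafData.coe_support_vanishingIdeal]
    rfl
  let ι := I.subschemeι
  haveI : IrreducibleSpace I.subscheme := by
    haveI : IrreducibleSpace (Set.range ι) := by
      rw [hrange]
      exact Subtype.irreducibleSpace isIrreducible_singleton.closure
    exact (ι.isEmbedding.toHomeomorph.irreducibleSpace_iff).mpr inferInstance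
  haveI : IsAffine I.subscheme := isAffine_of_isAffineHom ι
  obtain ⟨t, ht⟩ : g z ∈ Set.range ι := by
    rw [hrange]
    exact subset_closure rfl
  have htgen : t = genericPoint I.subscheme := by
    have h1 : closure {t} = Set.univ := by
      rw [ι.isEmbedding.isInducing.closure_eq_preimage_closure_image, Set.image_singleton, ht,
        ← hrange]
      rw [Set.eq_univ_iff_forall]
      intro a
      exact Set.mem_range_self a
    have h2 : IsGenericPoint t (⊤ : Set I.subscheme) := h1
    exact ((genericPoint_spec I.subscheme).eq h2).symm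
  let gT := pullback.snd g ι
  let p := pullback.fst g ι
  have hpb : IsPullback p gT g ι := IsPullback.of_hasPullback g ι
  have hprange : Set.range p = g ⁻¹' closure {g z} := by
    rw [← hrange]
    exact Scheme.Pullback.range_fst g ι
  obtain ⟨zT, hzT⟩ : z ∈ Set.range p := by
    rw [hprange]
    exact subset_closure rfl
  have hcomm : ∀ a, ι (gT a) = g (p a) := by
    intro a
    have := congrArg (fun φ : pullback g ι ⟶ S => φ a) hpb.w
    simpa only [Scheme.Hom.comp_apply] using this.symm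
  have hgzT : gT zT = genericPoint I.subscheme := by
    rw [← htgen]
    apply ι.isEmbedding.injective
    rw [hcomm, hzT, ht]
  have hGR : GRAt gT zT := by
    rw [gRAt_iff_of_isPullback hpb, hzT]
    exact h
  obtain ⟨WT, hzWT, hWT⟩ := exists_open_gRAt_of_generic gT zT hgzT hGR
  obtain ⟨W, hW, hWWT⟩ := p.isEmbedding.isInducing.isOpen_iff.mp WT.2
  refine ⟨⟨W, hW⟩, ?_, ?_⟩
  · show z ∈ W
    rw [← hzT, ← Set.mem_preimage, hWWT]
    exact hzWT
  · intro w hw hgw
    obtain ⟨wT, rfl⟩ : w ∈ Set.range p := by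
      rw [hprange]
      exact hgw
    rw [← gRAt_iff_of_isPullback hpb]
    apply hWT
    have : wT ∈ p ⁻¹' W := hw
    rw [hWWT] at this
    exact this

end Groth.Agent.Lib.Helper21.SCmp
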