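import Mathlib
import Groth.Agent.Lib.Helper21.GPI1
import Groth.Agent.Lib.Helper21.SCmp27
import Groth.Agent.S4630
import Groth.Agent.S4631

set_option autoImplicit false
universe u
open CategoryTheory AlgebraicGeometry Limits TopologicalSpace

namespace Groth.Agent.Lib.Helper21.GPI

theorem bcπ_surjective {k K : Type u} [Field k] [Field K] [Algebra k K] {X : Scheme.{u}}
    (f : X ⟶ Spec (CommRingCat.of k)) : Function.Surjective (FBase.bcπ f K) := by
  set s := Spec.map (CommRingCat.ofHom (algebraMap k K)) with hs
  rw [← Set.range_eq_univ]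
  change Set.range (pullback.fst f s) = _
  rw [Scheme.Pullback.range_fst]
  have : Set.range s = Set.univ := by
    rw [Set.eq_univ_iff_forall]
    intro y
    obtain ⟨z⟩ : Nonempty (Spec (CommRingCat.of K)) := inferInstance
    exact ⟨z, Subsingleton.elim (α := PrimeSpectrum k) _ _⟩
  rw [this, Set.preimage_univ]

/-- **C1**: everywhere geometrically pointwise integral iff all the local rings of the base
change to ONE algebraically closed extension are domains. -/
theorem forall_gpi_iff_forall_isDomain {k Ω : Type u} [Field k] [Field Ω] [Algebra k Ω]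
    [IsAlgClosed Ω] {X : Scheme.{u}} (f : X ⟶ Spec (CommRingCat.of k)) :
    (∀ x : X, FBase.IsGeomPtIntegralAt f x) ↔
      ∀ w : ↥(FBase.bc f Ω), IsDomain ((FBase.bc f Ω).presheaf.stalk w) := by
  constructor
  · intro H w
    exact (Groth.Agent.S4631.result _ w).mp ((Groth.Agent.S4630.result f w).mp (H _))
  · intro H x
    obtain ⟨w, rfl⟩ := bcπ_surjective (K := Ω) f x
    exact (Groth.Agent.S4630.result f w).mpr ((Groth.Agent.S4631.result _ w).mpr (H w))

theorem noetherianSpace_bc {k K : Type u} [Field k] [Field K] [Algebra k K] {X : Scheme.{u}}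
    (f : X ⟶ Spec (CommRingCat.of k)) [LocallyOfFiniteType f] [QuasiCompact f] :
    NoetherianSpace ↥(FBase.bc f K) := by
  set s := Spec.map (CommRingCat.ofHom (algebraMap k K)) with hs
  have : LocallyOfFiniteType (pullback.snd f s) :=
    MorphismProperty.pullback_snd (P := @LocallyOfFiniteType) f s inferInstance
  have : QuasiCompact (pullback.snd f s) :=
    MorphismProperty.pullback_snd (P := @QuasiCompact) f s inferInstance
  have hn : IsLocallyNoetherian (pullback f s) :=
    LocallyOfFiniteType.isLocallyNoetherian (pullback.snd f s)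
  have : CompactSpace ↥(pullback f s) :=
    QuasiCompact.compactSpace_of_compactSpace (pullback.snd f s)
  have : IsNoetherian (pullback f s) := {}
  change NoetherianSpace ↥(pullback f s)
  infer_instance

theorem gRAt_of_gPI {k : Type u} [Field k] {X : Scheme.{u}}
    (f : X ⟶ Spec (CommRingCat.of k)) (x : X) (h : FBase.IsGeomPtIntegralAt f x) :
    FBase.IsGeomReducedAt f x := by
  intro K _ _ x' hx'
  have := h K x' hx'
  infer_instance

/-- **S4649** -/
theorem forall_gpi_iff_card {k Ω : Type u} [Field k] [Field Ω] [Algebra k Ω] [IsAlgClosed Ω]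
    {X : Scheme.{u}} (f : X ⟶ Spec (CommRingCat.of k)) [LocallyOfFiniteType f] [QuasiCompact f] :
    (∀ x : X, FBase.IsGeomPtIntegralAt f x) ↔
      (GeometricallyReduced f ∧
        Nat.card ↥(irreducibleComponents ↥(FBase.bc f Ω)) =
          Nat.card (_root_.ConnectedComponents ↥(FBase.bc f Ω))) := by
  have := noetherianSpace_bc (K := Ω) f
  have hfin1 : Finite ↥(irreducibleComponents ↥(FBase.bc f Ω)) :=
    (NoetherianSpace.finite_irreducibleComponents).to_subtype
  have hfin2 : Finite (_root_.ConnectedComponents ↥(FBase.bc f Ω)) :=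
    Finite.of_surjective _ compMap_surjective
  have hcard : (irreducibleComponents ↥(FBase.bc f Ω)).encard =
        ENat.card (_root_.ConnectedComponents ↥(FBase.bc f Ω)) ↔
      Nat.card ↥(irreducibleComponents ↥(FBase.bc f Ω)) =
        Nat.card (_root_.ConnectedComponents ↥(FBase.bc f Ω)) := by
    rw [Set.encard, ENat.card_eq_coe_natCard, ENat.card_eq_coe_natCard, Nat.cast_inj]
  constructor
  · intro H
    refine ⟨?_, ?_⟩
    · rw [Groth.Agent.Lib.Helper21.SCmp.geometricallyReduced_iff_forall]
      exact fun x => gRAt_of_gPI f x (H x)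
    · rw [forall_gpi_iff_forall_isDomain (Ω := Ω) f, forall_isDomain_stalk_iff, hcard] at H
      exact H.2
  · rintro ⟨hred, hc⟩
    rw [forall_gpi_iff_forall_isDomain (Ω := Ω) f, forall_isDomain_stalk_iff, hcard]
    refine ⟨?_, hc⟩
    exact GeometricallyReduced.geometrically_isReduced _ _ _ (.of_hasPullback _ _)

end Groth.Agent.Lib.Helper21.GPI
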