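import Mathlib
import Groth.Agent.Lib.Helper21.GPI3
import Groth.Agent.Lib.Helper21.GIS14
import Groth.Agent.Lib.Helper12.GeomRedConstr

/-!
# Fibres that are everywhere geometrically pointwise integral: numerical criterion, spreading out,
constructibility
-/

set_option autoImplicit false
set_option linter.style.haveILetI false
set_option linter.unusedSectionVars false
universe u

open AlgebraicGeometry CategoryTheory Limits TopologicalSpace Topology IsLocalRing Set.Notation

namespace Groth.Agent.Lib.Helper21.GPI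

open Groth.Agent.Lib.Helper6

theorem forall_gpi_iff_encard {k Ω : Type u} [Field k] [Field Ω] [Algebra k Ω] [IsAlgClosed Ω]
    {X : Scheme.{u}} (f : X ⟶ Spec (CommRingCat.of k)) [LocallyOfFiniteType f] [QuasiCompact f] :
    (∀ x : X, FBase.IsGeomPtIntegralAt f x) ↔
      (GeometricallyReduced f ∧
        (irreducibleComponents ↥(FBase.bc f Ω)).encard =
          ENat.card (_root_.ConnectedComponents ↥(FBase.bc f Ω))) := by
  have := noetherianSpace_bc (K := Ω) f
  constructor
  · intro H
    refine ⟨?_, ?_⟩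
    · rw [Groth.Agent.Lib.Helper21.SCmp.geometricallyReduced_iff_forall]
      exact fun x => gRAt_of_gPI f x (H x)
    · rw [forall_gpi_iff_forall_isDomain (Ω := Ω) f, forall_isDomain_stalk_iff] at H
      exact H.2
  · rintro ⟨hred, hc⟩
    rw [forall_gpi_iff_forall_isDomain (Ω := Ω) f, forall_isDomain_stalk_iff]
    refine ⟨?_, hc⟩
    exact GeometricallyReduced.geometrically_isReduced _ _ _ (.of_hasPullback _ _)

/-- **numerical criterion**: a fibre is everywhere geometrically pointwise integral iff it is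
geometrically reduced and its numbers of geometric irreducible and connected components agree -/
theorem forall_gPI_fiber_iff {X Y : Scheme.{u}} (f : X ⟶ Y) [LocallyOfFiniteType f]
    [QuasiCompact f] (y : Y) :
    (∀ x : ↥(f.fiber y), FBase.IsGeomPtIntegralAt (f.fiberToSpecResidueField y) x) ↔
      (GeometricallyReduced (f.fiberToSpecResidueField y) ∧
        MoreMor.nGeomIrredComp f y = MoreMor.nGeomConnComp f y) := by
  let k := Y.residueField y
  let Ω := AlgebraicClosure k
  let φ : f.fiber y ⟶ Spec (CommRingCat.of k) := f.fiberToSpecResidueField y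
  haveI : LocallyOfFiniteType φ :=
    MorphismProperty.pullback_snd (P := @LocallyOfFiniteType) _ _ inferInstance
  haveI : QuasiCompact φ := MorphismProperty.pullback_snd (P := @QuasiCompact) _ _ inferInstance
  let q : Spec (CommRingCat.of Ω) ⟶ Spec (CommRingCat.of k) :=
    Spec.map (CommRingCat.ofHom (algebraMap k Ω))
  let ξ : Spec (CommRingCat.of Ω) ⟶ Y := q ≫ Y.fromSpecResidueField y
  have hbig : IsPullback (FBase.bcπ φ Ω ≫ f.fiberι y) (FBase.bcStr φ Ω) f ξ := by
    have h1 : IsPullback (FBase.bcπ φ Ω) (FBase.bcStr φ Ω) φ q := IsPullback.of_hasPullback _ _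
    have h2 : IsPullback (f.fiberι y) φ f (Y.fromSpecResidueField y) :=
      IsPullback.of_hasPullback _ _
    exact h1.paste_horiz h2
  have hξ : ξ (closedPoint Ω) = y := by
    change (q ≫ Y.fromSpecResidueField y) (closedPoint Ω) = y
    rw [Scheme.Hom.comp_apply, Scheme.fromSpecResidueField_apply]
  have h1 := GC.irr_conn_eq_sepPt f ξ y hξ
  rw [← GC.nGeomIrredComp_eq_irr, ← GC.nGeomConnComp_eq_conn, GC.irr_eq_of_isPullback hbig,
    GC.conn_eq_of_isPullback hbig] at h1
  rw [← h1.1, ← h1.2]
  exact forall_gpi_iff_encard (Ω := Ω) φ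

/-- the locus of points whose fibre is everywhere geometrically pointwise integral -/
def EGPI {X Y : Scheme.{u}} (f : X ⟶ Y) : Set Y :=
  {y : Y | ∀ x : ↥(f.fiber y), FBase.IsGeomPtIntegralAt (f.fiberToSpecResidueField y) x}

theorem EGPI_eq {X Y : Scheme.{u}} (f : X ⟶ Y) [LocallyOfFiniteType f] [QuasiCompact f] :
    EGPI f = Groth.Agent.Lib.Helper12.H12GeomRedConstr.E f ∩
      {y : Y | MoreMor.nGeomIrredComp f y = MoreMor.nGeomConnComp f y} := by
  ext y
  exact forall_gPI_fiber_iff f y

/-- **spreading out**: if the generic fibre is everywhere geometrically pointwise integral, so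
are the fibres over a neighbourhood of the generic point -/
theorem exists_open_subset_EGPI {X Y : Scheme.{u}} [IrreducibleSpace Y] (f : X ⟶ Y)
    [LocallyOfFiniteType f] [QuasiCompact f] (h : genericPoint Y ∈ EGPI f) :
    ∃ V : Y.Opens, genericPoint Y ∈ V ∧ (V : Set Y) ⊆ EGPI f := by
  rw [EGPI_eq] at h ⊢
  obtain ⟨hred, hcnt⟩ := h
  obtain ⟨V', hV'ne, hV'⟩ := Groth.Agent.Lib.Helper12.H12GeomRedNear.main f hred
  have hsV' : genericPoint Y ∈ V' := by
    refine ((genericPoint_spec Y).mem_open_set_iff V'.2).mpr ?_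
    simpa using hV'ne
  obtain ⟨U, hU, HU⟩ := Groth.Agent.Lib.Helper21.GIS.exists_open_counts f (genericPoint Y)
  refine ⟨V' ⊓ U, ⟨hsV', hU⟩, ?_⟩
  rintro s ⟨hsV, hsU⟩
  constructor
  · have h1 : Groth.Agent.Lib.Helper12.H12GeomRedConstr.E (f ∣_ V') =
        V'.ι ⁻¹' Groth.Agent.Lib.Helper12.H12GeomRedConstr.E f :=
      Groth.Agent.Lib.Helper12.H12GeomRedConstr.E_of_isPullback f V'.ι (f ∣_ V') (f ⁻¹ᵁ V').ι
        (isPullback_morphismRestrict f V').flip
    have h2 : (⟨s, hsV⟩ : V') ∈ Groth.Agent.Lib.Helper12.H12GeomRedConstr.E (f ∣_ V') := by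
      change GeometricallyReduced ((f ∣_ V').fiberToSpecResidueField _)
      infer_instance
    rw [h1] at h2
    exact h2
  · have hsp : genericPoint Y ⤳ s := by
      rw [specializes_iff_mem_closure, (genericPoint_spec Y).def]
      trivial
    obtain ⟨e1, e2⟩ := HU s hsU hsp
    change MoreMor.nGeomIrredComp f s = MoreMor.nGeomConnComp f s
    rw [e1, e2]
    exact hcnt

theorem isConstructible_counts_eq_of_noetherianSpace {X Y : Scheme.{u}} [NoetherianSpace Y]
    (f : X ⟶ Y) [LocallyOfFiniteType f] [QuasiCompact f] :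
    IsConstructible {y : Y | MoreMor.nGeomIrredComp f y = MoreMor.nGeomConnComp f y} := by
  obtain ⟨h1, h2⟩ := Groth.Agent.Lib.Helper21.GIS.isConstructible_counts_of_noetherianSpace f
  have : {y : Y | MoreMor.nGeomIrredComp f y = MoreMor.nGeomConnComp f y} =
      ⋃ t ∈ {t ∈ Set.range fun y : Y => (MoreMor.nGeomIrredComp f y, MoreMor.nGeomConnComp f y) |
        t.1 = t.2}, {y : Y | (MoreMor.nGeomIrredComp f y, MoreMor.nGeomConnComp f y) = t} := by
    ext y
    simp only [Set.mem_ofPred_eq, Set.mem_iUnion, exists_prop]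
    constructor
    · intro h
      exact ⟨_, ⟨⟨y, rfl⟩, h⟩, rfl⟩
    · rintro ⟨t, ⟨-, ht⟩, rfl⟩
      exact ht
  rw [this]
  exact IsConstructible.biUnion (h2.subset (Set.sep_subset _ _)) fun t _ => h1 t

theorem isLocallyConstructible_counts_eq {X Y : Scheme.{u}} (f : X ⟶ Y)
    [LocallyOfFinitePresentation f] [QuasiCompact f] [QuasiSeparated f] :
    IsLocallyConstructible {y : Y | MoreMor.nGeomIrredComp f y = MoreMor.nGeomConnComp f y} := by
  refine Groth.Agent.Lib.Helper21.GIS.isLocallyConstructible_of_forall_affine _ fun U hU => ?_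
  haveI : IsAffine U := hU
  obtain ⟨X₀, S₀, f₀, g, g', hpb, hS₀, h1, h2, h3⟩ :=
    Groth.Agent.Lib.Helper21.GIS.exists_noetherian_model (f ∣_ U)
  haveI : LocallyOfFiniteType f₀ := inferInstance
  have hc := isConstructible_counts_eq_of_noetherianSpace f₀
  have hpre := g.isConstructible_preimage hc
  have key : ((U : Set Y) ↓∩ {y : Y | MoreMor.nGeomIrredComp f y = MoreMor.nGeomConnComp f y}) =
      g ⁻¹' {s | MoreMor.nGeomIrredComp f₀ s = MoreMor.nGeomConnComp f₀ s} := by
    refine Set.ext fun u => ?_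
    change MoreMor.nGeomIrredComp f (U.ι u) = MoreMor.nGeomConnComp f (U.ι u) ↔
      MoreMor.nGeomIrredComp f₀ (g u) = MoreMor.nGeomConnComp f₀ (g u)
    rw [← GC.nGeomIrredComp_baseChange hpb, ← GC.nGeomConnComp_baseChange hpb,
      GC.nGeomIrredComp_baseChange (isPullback_morphismRestrict f U).flip,
      GC.nGeomConnComp_baseChange (isPullback_morphismRestrict f U).flip]
  rw [key]
  exact hpre

/-- **S4838** -/
theorem isLocallyConstructible_EGPI {X Y : Scheme.{u}} (f : X ⟶ Y)
    [LocallyOfFinitePresentation f] [QuasiCompact f] [QuasiSeparated f] :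
    IsLocallyConstructible (EGPI f) := by
  rw [EGPI_eq]
  exact (Groth.Agent.Lib.Helper12.H12GeomRedConstr.main f).inter
    (isLocallyConstructible_counts_eq f)

end Groth.Agent.Lib.Helper21.GPI
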