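import Mathlib
import Groth.Agent.Lib.Helper21.GPI3
import Groth.Agent.Lib.Helper1.FPS6

/-!
# Ring-theoretic lemmas on domains: regular elements, directed unions, finite extensions
-/

set_option autoImplicit false
set_option linter.style.haveILetI false
set_option linter.unusedSectionVars false
universe u v w
open IsLocalRing TensorProduct AlgebraicGeometry CategoryTheory Limits

attribute [local instance] Curv2.stalkAlgebra

namespace Groth.Agent.Lib.Helper21.GPI


/-- a Noetherian local ring with a regular element `t` of the maximal ideal such that `(t)` is a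
prime ideal is a domain -/
theorem isDomain_of_regular_of_isPrime {B : Type*} [CommRing B] [IsNoetherianRing B]
    [IsLocalRing B] (t : B) (ht : t ∈ maximalIdeal B) (hreg : ∀ b : B, t * b = 0 → b = 0)
    (hprime : (Ideal.span {t} : Ideal B).IsPrime) : IsDomain B := by
  have hregpow : ∀ (n : ℕ) (b : B), t ^ n * b = 0 → b = 0 := by
    intro n
    induction n with
    | zero => intro b hb; simpa using hb
    | succ n ih =>
      intro b hb
      apply ih
      apply hreg
      rw [← mul_assoc, ← pow_succ']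
      exact hb
  have hne : (Ideal.span {t} : Ideal B) ≠ ⊤ := hprime.ne_top
  have hkrull := Ideal.iInf_pow_eq_bot_of_isLocalRing (Ideal.span {t} : Ideal B) hne
  have hdecomp : ∀ a : B, a ≠ 0 → ∃ (n : ℕ) (c : B), a = t ^ n * c ∧
      c ∉ (Ideal.span {t} : Ideal B) := by
    intro a ha
    by_contra hcon
    push_neg at hcon
    apply ha
    have key : ∀ n : ℕ, a ∈ (Ideal.span {t} : Ideal B) ^ n := by
      intro n
      induction n with
      | zero => simp
      | succ n ih =>
        rw [Ideal.span_singleton_pow, Ideal.mem_span_singleton'] at ih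
        obtain ⟨c, hc⟩ := ih
        have hcmem := hcon n c (by rw [← hc]; ring)
        rw [Ideal.mem_span_singleton'] at hcmem
        obtain ⟨d, hd⟩ := hcmem
        rw [Ideal.span_singleton_pow, Ideal.mem_span_singleton']
        refine ⟨d, ?_⟩
        rw [← hc, ← hd, pow_succ]
        ring
    have : a ∈ (⊥ : Ideal B) := by
      rw [← hkrull]
      simp only [Ideal.mem_iInf]
      exact key
    simpa using this
  haveI : NoZeroDivisors B := by
    refine ⟨fun {a b} hab => ?_⟩
    by_contra hcon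
    push_neg at hcon
    obtain ⟨n, c, hc, hcn⟩ := hdecomp a hcon.1
    obtain ⟨m, d, hd, hdn⟩ := hdecomp b hcon.2
    have h1 : t ^ (n + m) * (c * d) = 0 := by
      rw [← hab, hc, hd, pow_add]
      ring
    have h2 : c * d = 0 := hregpow _ _ h1
    have h3 : c * d ∈ (Ideal.span {t} : Ideal B) := by rw [h2]; exact Ideal.zero_mem _
    rcases hprime.mem_or_mem h3 with h | h
    · exact hcn h
    · exact hdn h
  exact NoZeroDivisors.to_isDomain B



/-- **directed-union criterion**: a localization of `T` at a prime is a domain as soon as `T` is a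
directed union of subrings `R i` whose localizations at the induced primes are domains -/
theorem isDomain_localization_of_directed {T : Type u} [CommRing T] (Q : PrimeSpectrum T)
    {ι : Type v} (R : ι → Type w) [∀ i, CommRing (R i)] (φ : ∀ i, R i →+* T)
    (hinj : ∀ i, Function.Injective (φ i))
    (hdir : ∀ a b c : T, ∃ (i : ι) (a' b' c' : R i), φ i a' = a ∧ φ i b' = b ∧ φ i c' = c)
    (H : ∀ i, IsDomain (Localization.AtPrime (Q.comap (φ i)).asIdeal)) :
    IsDomain (Localization.AtPrime Q.asIdeal) := by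
  haveI : NoZeroDivisors (Localization.AtPrime Q.asIdeal) := by
    refine ⟨fun {x y} hxy => ?_⟩
    obtain ⟨a, s, rfl⟩ := IsLocalization.exists_mk'_eq Q.asIdeal.primeCompl x
    obtain ⟨b, s', rfl⟩ := IsLocalization.exists_mk'_eq Q.asIdeal.primeCompl y
    rw [← IsLocalization.mk'_mul, IsLocalization.mk'_eq_zero_iff] at hxy
    obtain ⟨u, hu⟩ := hxy
    obtain ⟨i, a', b', u', ha', hb', hu'⟩ := hdir a b (u : T)
    haveI := H i
    set Q' := Q.comap (φ i) with hQ'
    have hu'mem : u' ∈ Q'.asIdeal.primeCompl := by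
      intro hmem
      have h2 : φ i u' ∈ Q.asIdeal := hmem
      rw [hu'] at h2
      exact u.2 h2
    have h0 : u' * (a' * b') = 0 := by
      apply hinj i
      rw [map_mul, map_mul, ha', hb', hu', map_zero]
      exact hu
    have h1 : algebraMap (R i) (Localization.AtPrime Q'.asIdeal) a' *
        algebraMap (R i) (Localization.AtPrime Q'.asIdeal) b' = 0 := by
      rw [← map_mul, IsLocalization.map_eq_zero_iff Q'.asIdeal.primeCompl]
      exact ⟨⟨u', hu'mem⟩, h0⟩
    have key : ∀ c' : R i, algebraMap (R i) (Localization.AtPrime Q'.asIdeal) c' = 0 →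
        ∀ t : Q.asIdeal.primeCompl,
          IsLocalization.mk' (Localization.AtPrime Q.asIdeal) (φ i c') t = 0 := by
      intro c' hc' t
      rw [IsLocalization.map_eq_zero_iff Q'.asIdeal.primeCompl] at hc'
      obtain ⟨v, hv⟩ := hc'
      rw [IsLocalization.mk'_eq_zero_iff]
      refine ⟨⟨φ i v, fun hmem => v.2 hmem⟩, ?_⟩
      change φ i v * φ i c' = 0
      rw [← map_mul, hv, map_zero]
    rcases mul_eq_zero.mp h1 with h | h
    · left
      rw [← ha']
      exact key a' h s
    · right
      rw [← hb']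
      exact key b' h s'
  exact NoZeroDivisors.to_isDomain _



section fin
variable (k C Ω : Type u) [Field k] [CommRing C] [Algebra k C] [Field Ω] [Algebra k Ω]

/-- the inclusion `C ⊗ F → C ⊗ Ω` for an intermediate field -/
noncomputable def incF (F : IntermediateField k Ω) : (C ⊗[k] F) →+* (C ⊗[k] Ω) :=
  (Algebra.TensorProduct.map (AlgHom.id C C) F.val).toRingHom

@[simp]
theorem incF_tmul (F : IntermediateField k Ω) (c : C) (ω : F) :
    incF k C Ω F (c ⊗ₜ ω) = c ⊗ₜ (ω : Ω) := by
  simp [incF]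

theorem incF_injective (F : IntermediateField k Ω) : Function.Injective (incF k C Ω F) := by
  have : ⇑(incF k C Ω F) = ⇑(LinearMap.lTensor C (F.val.toLinearMap)) := by
    ext x
    induction x using TensorProduct.induction_on with
    | zero => simp
    | tmul c ω => simp
    | add x y hx hy => simp only [map_add, hx, hy]
  rw [this]
  exact Module.Flat.lTensor_preserves_injective_linearMap _ F.val.injective

theorem incF_mono {F F' : IntermediateField k Ω} (h : F ≤ F') (x : C ⊗[k] F) :
    ∃ x' : C ⊗[k] F', incF k C Ω F' x' = incF k C Ω F x := by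
  refine ⟨Algebra.TensorProduct.map (AlgHom.id C C) (IntermediateField.inclusion h) x, ?_⟩
  induction x using TensorProduct.induction_on with
  | zero => simp
  | tmul c ω => simp
  | add x y hx hy => simp only [map_add, hx, hy]

variable [Algebra.IsAlgebraic k Ω]

theorem exists_finite_incF (x : C ⊗[k] Ω) :
    ∃ (F : IntermediateField k Ω), FiniteDimensional k F ∧ ∃ x' : C ⊗[k] F, incF k C Ω F x' = x := by
  induction x using TensorProduct.induction_on with
  | zero => exact ⟨⊥, inferInstance, 0, map_zero _⟩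
  | tmul c ω =>
    refine ⟨IntermediateField.adjoin k {ω}, ?_, c ⊗ₜ ⟨ω, IntermediateField.mem_adjoin_simple_self k ω⟩,
      ?_⟩
    · exact IntermediateField.adjoin.finiteDimensional (Algebra.IsIntegral.isIntegral ω)
    · simp
  | add x y hx hy =>
    obtain ⟨F₁, hF₁, x', hx'⟩ := hx
    obtain ⟨F₂, hF₂, y', hy'⟩ := hy
    obtain ⟨x'', hx''⟩ := incF_mono k C Ω (le_sup_left : F₁ ≤ F₁ ⊔ F₂) x'
    obtain ⟨y'', hy''⟩ := incF_mono k C Ω (le_sup_right : F₂ ≤ F₁ ⊔ F₂) y'
    refine ⟨F₁ ⊔ F₂, IntermediateField.finiteDimensional_sup F₁ F₂, x'' + y'', ?_⟩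
    rw [map_add, hx'', hy'', hx', hy']

theorem exists_finite_incF₃ (x y z : C ⊗[k] Ω) :
    ∃ (F : IntermediateField k Ω), FiniteDimensional k F ∧ ∃ x' y' z' : C ⊗[k] F,
      incF k C Ω F x' = x ∧ incF k C Ω F y' = y ∧ incF k C Ω F z' = z := by
  obtain ⟨F₁, hF₁, x', hx'⟩ := exists_finite_incF k C Ω x
  obtain ⟨F₂, hF₂, y', hy'⟩ := exists_finite_incF k C Ω y
  obtain ⟨F₃, hF₃, z', hz'⟩ := exists_finite_incF k C Ω z
  haveI := IntermediateField.finiteDimensional_sup F₁ F₂
  obtain ⟨x'', hx''⟩ := incF_mono k C Ω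
    (le_sup_left.trans le_sup_left : F₁ ≤ F₁ ⊔ F₂ ⊔ F₃) x'
  obtain ⟨y'', hy''⟩ := incF_mono k C Ω
    (le_sup_right.trans le_sup_left : F₂ ≤ F₁ ⊔ F₂ ⊔ F₃) y'
  obtain ⟨z'', hz''⟩ := incF_mono k C Ω (le_sup_right : F₃ ≤ F₁ ⊔ F₂ ⊔ F₃) z'
  refine ⟨F₁ ⊔ F₂ ⊔ F₃, IntermediateField.finiteDimensional_sup _ F₃, x'', y'', z'', ?_, ?_, ?_⟩
  · rw [hx'', hx']
  · rw [hy'', hy']
  · rw [hz'', hz']

end fin


/-- **geometric pointwise integrality can be tested on finite extensions** -/
theorem isGeomPtIntegralAt_of_forall_finite {k : Type u} [Field k] {Q : Scheme.{u}}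
    (φ : Q ⟶ Spec (CommRingCat.of k)) (ξ : Q)
    (H : ∀ (k' : Type u) [Field k'] [Algebra k k'] [FiniteDimensional k k']
      (x' : ↥(FBase.bc φ k')), (FBase.bcπ φ k').base x' = ξ →
      IsDomain ((FBase.bc φ k').presheaf.stalk x')) : FBase.IsGeomPtIntegralAt φ ξ := by
  letI : Q.Over (Spec (CommRingCat.of k)) := ⟨φ⟩
  let Ω := AlgebraicClosure k
  obtain ⟨w, hw⟩ := bcπ_surjective (K := Ω) φ ξ
  suffices hdom : IsDomain ((FBase.bc φ Ω).presheaf.stalk w) by
    rw [← hw]
    exact (Groth.Agent.S4630.result φ w).mpr ((Groth.Agent.S4631.result _ w).mpr hdom)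
  obtain ⟨𝔓, h𝔓, ⟨e⟩⟩ := Groth.Agent.Lib.Helper1.FPS.bc_exists_prime k Q ξ Ω w hw
  suffices hloc : IsDomain (Localization.AtPrime 𝔓.asIdeal) from
    e.toMulEquiv.isDomain_iff.mpr hloc
  set C := Q.presheaf.stalk ξ with hC
  refine isDomain_localization_of_directed 𝔓
    (ι := {F : IntermediateField k Ω // FiniteDimensional k F})
    (fun F => C ⊗[k] F.1) (fun F => incF k C Ω F.1) (fun F => incF_injective k C Ω F.1) ?_ ?_
  · intro a b c
    obtain ⟨F, hF, a', b', c', ha, hb, hc⟩ := exists_finite_incF₃ k C Ω a b c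
    exact ⟨⟨F, hF⟩, a', b', c', ha, hb, hc⟩
  · rintro ⟨F, hF⟩
    haveI := hF
    set Q' := PrimeSpectrum.comap (R := C ⊗[k] F) (incF k C Ω F) 𝔓 with hQ'
    have hQ'c : Q'.comap (Algebra.TensorProduct.includeLeftRingHom : C →+* C ⊗[k] F) =
        IsLocalRing.closedPoint C := by
      rw [← h𝔓, hQ', ← PrimeSpectrum.comap_comp_apply]
      congr 1
    obtain ⟨x', hx', ⟨e'⟩⟩ := Groth.Agent.Lib.Helper1.FPS.bc_exists_point k Q ξ F Q' hQ'c
    have hd : IsDomain ((Curv2.bc k Q F).presheaf.stalk x') := H F x' hx'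
    exact e'.toMulEquiv.isDomain_iff.mp hd

end Groth.Agent.Lib.Helper21.GPI
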