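import Mathlib
import Groth.Agent.Lib.Helper21.GPI5
import Groth.Agent.Lib.Helper21.SCmp26
import Groth.Agent.Lib.Helper21.DVRExt3

/-!
# Geometric pointwise integrality of the fibres at a point is stable under generisation (flat case)
-/

set_option autoImplicit false
set_option linter.style.haveILetI false
set_option linter.unusedSectionVars false
universe u

open AlgebraicGeometry CategoryTheory Limits TopologicalSpace IsLocalRing

attribute [local instance] Curv2.stalkAlgebra

namespace Groth.Agent.Lib.Helper21.GPI

open Groth.Agent.Lib.Helper21.SCmp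

/-- integrality of local rings passes to generisations -/
theorem isDomain_stalk_of_specializes {X : Scheme.{u}} {t s : X} (hts : t ⤳ s)
    (hs : IsDomain (X.presheaf.stalk s)) : IsDomain (X.presheaf.stalk t) := by
  let φ := X.fromSpecStalk s
  haveI : Flat φ := Groth.Agent.Lib.Helper10.FibreProductStalk.flat_fromSpecStalk X s
  haveI : IsPreimmersion φ := inferInstanceAs (IsPreimmersion (X.fromSpecStalk s))
  have hmem : t ∈ Set.range φ.base := by
    rw [Scheme.range_fromSpecStalk]
    exact hts
  obtain ⟨𝔯, rfl⟩ := hmem
  haveI : IsIntegral (Spec (X.presheaf.stalk s)) := by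
    rw [← affine_isIntegral_iff] at hs
    exact hs
  have hinj := (Groth.Agent.Lib.Helper1.FPS.stalkMap_bijective φ 𝔯).1
  haveI : IsDomain ((Spec (X.presheaf.stalk s)).presheaf.stalk 𝔯) := inferInstance
  exact Function.Injective.isDomain (φ.stalkMap 𝔯).hom hinj

/-- at a point of geometric pointwise integrality the local ring is a domain -/
theorem isDomain_stalk_of_isGeomPtIntegralAt {k : Type u} [Field k] {Q : Scheme.{u}}
    (φ : Q ⟶ Spec (CommRingCat.of k)) (ξ : Q) (h : FBase.IsGeomPtIntegralAt φ ξ) :
    IsDomain (Q.presheaf.stalk ξ) := by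
  obtain ⟨w, hw⟩ := bcπ_surjective (K := k) φ ξ
  have hdom := h k w hw
  have hiso : IsIso (FBase.bcπ φ k) := by
    have : IsIso (Spec.map (CommRingCat.ofHom (algebraMap k k))) := by
      have : CommRingCat.ofHom (algebraMap k k) = 𝟙 _ := rfl
      rw [this, Spec.map_id]
      infer_instance
    exact inferInstanceAs (IsIso (pullback.fst φ (Spec.map (CommRingCat.ofHom (algebraMap k k)))))
  rw [← hw]
  exact (isDomain_stalk_iff_of_isOpenImmersion (FBase.bcπ φ k) w).mp hdom

/-- **integrality over a discrete valuation ring**: for a flat morphism locally of finite type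
to the spectrum of a discrete valuation ring, the local ring of the total space at a point of the
closed fibre at which the local ring of the closed fibre is a domain is a domain -/
theorem isDomain_stalk_of_domain_fibre {R : Type u} [CommRing R] [IsDomain R]
    [IsDiscreteValuationRing R] {P : Scheme.{u}} (h : P ⟶ Spec (CommRingCat.of R))
    [LocallyOfFiniteType h] [Flat h] (y : h.fiber (closedPoint R))
    (hdom : IsDomain ((h.fiber (closedPoint R)).presheaf.stalk y)) :
    IsDomain (P.presheaf.stalk (h.fiberι (closedPoint R) y)) := by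
  haveI : IsLocallyNoetherian P := LocallyOfFiniteType.isLocallyNoetherian h
  have hred : _root_.IsReduced ((h.fiber (closedPoint R)).presheaf.stalk y) := inferInstance
  obtain ⟨π, hπ⟩ := IsDiscreteValuationRing.exists_irreducible R
  have hmax : maximalIdeal R = Ideal.span {π} := hπ.maximalIdeal_eq
  have hx : h ((h.fiberι (closedPoint R)) y) = closedPoint R := (h.fiberHomeo (closedPoint R) y).2
  letI k : Algebra R ((Spec (CommRingCat.of R)).presheaf.stalk
      (h ((h.fiberι (closedPoint R)) y))) :=
    StructureSheaf.stalkAlgebra R (h ((h.fiberι (closedPoint R)) y))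
  haveI hloc : IsLocalization.AtPrime ((Spec (CommRingCat.of R)).presheaf.stalk
      (h ((h.fiberι (closedPoint R)) y)))
      (show PrimeSpectrum R from h ((h.fiberι (closedPoint R)) y)).asIdeal :=
    StructureSheaf.IsLocalization.to_stalk R (h ((h.fiberι (closedPoint R)) y))
  have hprin : maximalIdeal ((Spec (CommRingCat.of R)).presheaf.stalk
      (h ((h.fiberι (closedPoint R)) y))) = Ideal.span {algebraMap R _ π} := by
    rw [← IsLocalization.AtPrime.map_eq_maximalIdeal
      (show PrimeSpectrum R from h ((h.fiberι (closedPoint R)) y)).asIdeal]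
    have : (show PrimeSpectrum R from h ((h.fiberι (closedPoint R)) y)).asIdeal =
        Ideal.span {π} := by
      rw [hx, ← hmax]; rfl
    rw [this, Ideal.map_span, Set.image_singleton]
  have hgen : ∀ ξ : P, ξ ⤳ (h.fiberι (closedPoint R)) y → h ξ = closedPoint R →
      ∃ ξ' : P, ξ' ⤳ ξ ∧ h ξ' ≠ closedPoint R := by
    intro ξ _ hhξ
    have hG : GeneralizingMap h.base := Flat.generalizingMap h
    obtain ⟨ξ', h1, h2⟩ := hG (show gen R ⤳ h ξ by rw [hhξ]; exact gen_specializes R)
    refine ⟨ξ', h1, ?_⟩
    have h2' : h ξ' = gen R := h2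
    rw [h2']
    exact gen_ne_closedPoint R
  have hreg := stalk_regular_of_reduced_fibre h (closedPoint R) y _ hprin hred hgen
  obtain ⟨hsurj, hker⟩ := Groth.Agent.S9501.result h (closedPoint R) y
  set B := P.presheaf.stalk ((h.fiberι (closedPoint R)) y) with hB
  set t : B := (h.stalkMap ((h.fiberι (closedPoint R)) y)).hom (algebraMap R _ π) with ht
  have hI : Ideal.map (h.stalkMap ((h.fiberι (closedPoint R)) y)).hom
      (maximalIdeal ((Spec (CommRingCat.of R)).presheaf.stalk
        (h ((h.fiberι (closedPoint R)) y)))) = Ideal.span {t} := by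
    rw [hprin, Ideal.map_span, Set.image_singleton]
  have hprime : (Ideal.span {t} : Ideal B).IsPrime := by
    rw [← hI, ← hker]
    exact RingHom.ker_isPrime _
  have htm : t ∈ maximalIdeal B := by
    have h1 : (Ideal.span {t} : Ideal B) ≤ maximalIdeal B :=
      IsLocalRing.le_maximalIdeal hprime.ne_top
    exact h1 (Ideal.mem_span_singleton_self _)
  exact isDomain_of_regular_of_isPrime t htm hreg hprime

/-- **generisation along a section over a discrete valuation ring**: if the closed fibre of a flat
morphism locally of finite type to the spectrum of a discrete valuation ring is geometrically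
pointwise integral at the closed point of a section, then the generic fibre is geometrically
pointwise integral at the generic point of the section -/
theorem gPIAt_generic_of_section {R : Type u} [CommRing R] [IsDomain R] [IsDiscreteValuationRing R]
    {P : Scheme.{u}} (h : P ⟶ Spec (CommRingCat.of R)) [LocallyOfFiniteType h] [Flat h]
    (σ : Spec (CommRingCat.of R) ⟶ P) (hσ : σ ≫ h = 𝟙 _)
    (hs : GPIAt h (σ (closedPoint R))) : GPIAt h (σ (gen R)) := by
  set w := σ (gen R) with hwdef
  have hw : h w = gen R := section_apply h σ hσ (gen R)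
  let k := (Spec (CommRingCat.of R)).residueField (h w)
  let φ : h.fiber (h w) ⟶ Spec (CommRingCat.of k) := h.fiberToSpecResidueField (h w)
  change FBase.IsGeomPtIntegralAt φ (h.asFiber w)
  refine isGeomPtIntegralAt_of_forall_finite φ (h.asFiber w) ?_
  intro k' _ _ _ x'' hx''
  let φ₀ : R →+* k := toResidueField R (h w)
  let ψ : R →+* k' := (algebraMap k k').comp φ₀
  have hφ₀inj : Function.Injective φ₀ := by
    rw [RingHom.injective_iff_ker_eq_bot, ker_toResidueField, hw]
  have hψ : Function.Injective ψ := (algebraMap k k').injective.comp hφ₀inj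
  obtain ⟨S, hS⟩ := exists_finset_closure_eq_top (k' := k') φ₀ (closure_range_toResidueField R (h w))
  obtain ⟨R', _, _, _, algR'L, hfrac, ι, hι, hloc⟩ := exists_dvr_in_field R k' ψ hψ S hS
  have hιinj : Function.Injective ι := by
    have : Function.Injective ((algebraMap R' k').comp ι) := by rw [hι]; exact hψ
    exact Function.Injective.of_comp this
  have hjinj : Function.Injective (algebraMap R' k') := IsFractionRing.injective R' k'
  let v' : Spec (CommRingCat.of R') ⟶ Spec (CommRingCat.of R) := Spec.map (CommRingCat.ofHom ι)
  let h' := pullback.snd h v'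
  let ρ' := pullback.fst h v'
  have hpb : IsPullback ρ' h' h v' := IsPullback.of_hasPullback h v'
  let σ' : Spec (CommRingCat.of R') ⟶ pullback h v' :=
    pullback.lift (v' ≫ σ) (𝟙 _) (by rw [Category.assoc, hσ]; simp)
  have hσ' : σ' ≫ h' = 𝟙 _ := pullback.lift_snd _ _ _
  have hσρ : σ' ≫ ρ' = v' ≫ σ := pullback.lift_fst _ _ _
  have hv'm : v' (closedPoint R') = closedPoint R := by
    haveI : IsLocalHom (CommRingCat.ofHom ι).hom := hloc
    exact Spec_closedPoint (f := CommRingCat.ofHom ι)
  have hv'g : v' (gen R') = gen R := specMap_gen ι hιinj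
  have hρσ : ∀ t, ρ' (σ' t) = σ (v' t) := by
    intro t
    have := congrArg (fun φ : Spec (CommRingCat.of R') ⟶ P => φ t) hσρ
    simpa only [Scheme.Hom.comp_apply] using this
  haveI : Flat h' := inferInstance
  haveI : LocallyOfFiniteType h' := inferInstance
  -- geometric reducedness at the closed point of the new section
  have hs' : GPIAt h' (σ' (closedPoint R')) := by
    rw [gPIAt_iff_of_isPullback hpb, hρσ, hv'm]
    exact hs
  -- the local ring at the closed point of the new section is reduced
  have hh'm : h' (σ' (closedPoint R')) = closedPoint R' := section_apply h' σ' hσ' _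
  have hred' : IsDomain ((pullback h v').presheaf.stalk (σ' (closedPoint R'))) := by
    obtain ⟨y, hy⟩ : σ' (closedPoint R') ∈ Set.range (h'.fiberι (closedPoint R')) := by
      rw [Scheme.Hom.range_fiberι]
      exact hh'm
    rw [← hy]
    apply isDomain_stalk_of_domain_fibre h' y
    rw [← hy] at hs'
    have h1 := (gPIAt_iff_of_fiberι h' (closedPoint R') y).mp hs'
    exact isDomain_stalk_of_isGeomPtIntegralAt
      (k := (Spec (CommRingCat.of R')).residueField (closedPoint R'))
      (h'.fiberToSpecResidueField (closedPoint R')) y h1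
  have hred'' : IsDomain ((pullback h v').presheaf.stalk (σ' (gen R'))) :=
    isDomain_stalk_of_specializes ((gen_specializes R').map σ'.continuous) hred'
  -- the comparison morphism from the base change of the fibre
  let g₀ : Spec (CommRingCat.of k') ⟶ Spec (CommRingCat.of R') :=
    Spec.map (CommRingCat.ofHom (algebraMap R' k'))
  have hbot : Spec.map (CommRingCat.ofHom (algebraMap k k')) ≫
      (Spec (CommRingCat.of R)).fromSpecResidueField (h w) = g₀ ≫ v' := by
    rw [← specMap_toResidueField, ← Spec.map_comp, ← Spec.map_comp, ← CommRingCat.ofHom_comp,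
      ← CommRingCat.ofHom_comp, hι]
  have hbig : IsPullback (FBase.bcπ φ k' ≫ h.fiberι (h w)) (FBase.bcStr φ k') h (g₀ ≫ v') := by
    have h1 : IsPullback (FBase.bcπ φ k') (FBase.bcStr φ k') φ
        (Spec.map (CommRingCat.ofHom (algebraMap k k'))) := IsPullback.of_hasPullback _ _
    have h2 : IsPullback (h.fiberι (h w)) φ h
        ((Spec (CommRingCat.of R)).fromSpecResidueField (h w)) := IsPullback.of_hasPullback _ _
    have := h1.paste_horiz h2
    rwa [hbot] at this
  let j : FBase.bc φ k' ⟶ pullback h v' :=
    pullback.lift (FBase.bcπ φ k' ≫ h.fiberι (h w)) (FBase.bcStr φ k' ≫ g₀)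
      (by rw [hbig.w, Category.assoc])
  have hj1 : j ≫ ρ' = FBase.bcπ φ k' ≫ h.fiberι (h w) := pullback.lift_fst _ _ _
  have hj2 : j ≫ h' = FBase.bcStr φ k' ≫ g₀ := pullback.lift_snd _ _ _
  have hjpb : IsPullback j (FBase.bcStr φ k') h' g₀ := by
    refine IsPullback.of_right ?_ hj2 hpb
    rw [hj1]
    exact hbig
  haveI hg₀pre : IsPreimmersion g₀ := IsPreimmersion.of_isLocalization (nonZeroDivisors R')
  haveI hg₀flat : Flat g₀ := by
    rw [HasRingHomProperty.Spec_iff (P := @Flat)]
    change (algebraMap R' k').Flat
    rw [RingHom.flat_algebraMap_iff]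
    exact IsLocalization.flat k' (nonZeroDivisors R')
  haveI : IsPreimmersion j := MorphismProperty.of_isPullback (P := @IsPreimmersion) hjpb.flip hg₀pre
  haveI : Flat j := MorphismProperty.of_isPullback (P := @Flat) hjpb.flip hg₀flat
  -- the image of `x''` is the generic point of the new section
  have hjx : j x'' = σ' (gen R') := by
    apply pullback_point_ext h v'
    · change ρ' (j x'') = ρ' (σ' (gen R'))
      have e1 : ρ' (j x'') = w := by
        have := congrArg (fun ψ : FBase.bc φ k' ⟶ P => ψ x'') hj1
        simp only [Scheme.Hom.comp_apply] at this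
        rw [this, hx'', Scheme.Hom.fiberι_asFiber]
      rw [e1, hρσ, hv'g]
    · change h' (j x'') = h' (σ' (gen R'))
      have e1 : h' (j x'') = gen R' := by
        have := congrArg (fun ψ : FBase.bc φ k' ⟶ Spec (CommRingCat.of R') => ψ x'') hj2
        simp only [Scheme.Hom.comp_apply] at this
        rw [this]
        exact specMap_field_apply (algebraMap R' k') hjinj _
      rw [e1, section_apply h' σ' hσ']
    · refine residueFieldMap_surjective_congr h (hρσ (gen R')).symm ?_
      exact residueFieldMap_surjective_of_section' h σ hσ _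
  have hbij := Groth.Agent.Lib.Helper1.FPS.stalkMap_bijective j x''
  rw [← hjx] at hred''
  let e := RingEquiv.ofBijective (j.stalkMap x'').hom hbij
  exact e.symm.toMulEquiv.isDomain_iff.mpr hred''


/-- **stability under generisation**: for a flat morphism locally of finite type to a locally
Noetherian scheme, if the fibre through `x` is geometrically pointwise integral at `x`, then the fibre
through any generisation `x'` of `x` is geometrically pointwise integral at `x'` -/
theorem gPIAt_of_specializes {X Y : Scheme.{u}} [IsLocallyNoetherian Y] (f : X ⟶ Y)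
    [LocallyOfFiniteType f] [Flat f] (x x' : X) (hx' : x' ⤳ x) (hx : GPIAt f x) : GPIAt f x' := by
  by_cases hne : x' = x
  · subst hne
    exact hx
  haveI : IsLocallyNoetherian X := LocallyOfFiniteType.isLocallyNoetherian f
  obtain ⟨R, _, _, _, u, hu1, hu2⟩ := DVRExt.exists_dvr_of_specializes x' x hx' hne
  let v : Spec (CommRingCat.of R) ⟶ Y := u ≫ f
  let fR := pullback.snd f v
  let ρ := pullback.fst f v
  have hpb : IsPullback ρ fR f v := IsPullback.of_hasPullback f v
  let σR : Spec (CommRingCat.of R) ⟶ pullback f v := pullback.lift u (𝟙 _) (by simp [v])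
  have hσR : σR ≫ fR = 𝟙 _ := pullback.lift_snd _ _ _
  have hσρ : σR ≫ ρ = u := pullback.lift_fst _ _ _
  have hρσ : ∀ t, ρ (σR t) = u t := by
    intro t
    have := congrArg (fun φ : Spec (CommRingCat.of R) ⟶ X => φ t) hσρ
    simpa only [Scheme.Hom.comp_apply] using this
  haveI : Flat fR := inferInstance
  haveI : LocallyOfFiniteType fR := inferInstance
  have hs : GPIAt fR (σR (closedPoint R)) := by
    rw [gPIAt_iff_of_isPullback hpb, hρσ, hu1]
    exact hx
  have hg := gPIAt_generic_of_section fR σR hσR hs
  rw [gPIAt_iff_of_isPullback hpb, hρσ] at hg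
  have : u (gen R) = x' := hu2
  rw [this] at hg
  exact hg


end Groth.Agent.Lib.Helper21.GPI
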