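import Mathlib
import Groth.Agent.S0590
import Groth.Agent.S0591
import Groth.Agent.S2075
import Groth.Agent.Lib.Helper21.SCmp6

/-!
# Flat Noetherian models
-/

set_option autoImplicit false
set_option linter.style.haveILetI false
set_option linter.unusedSectionVars false
universe u

open AlgebraicGeometry CategoryTheory Limits TopologicalSpace Topology Set.Notation

namespace Groth.Agent.Lib.Helper21.SCmp

/-- **flat Noetherian model**: a flat morphism of finite presentation to a quasi-compact
quasi-separated scheme is the base change of a flat morphism of finite presentation to a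
Noetherian scheme. -/
theorem exists_flat_noetherian_model {X S : Scheme.{u}} [CompactSpace S] [QuasiSeparatedSpace S]
    (f : X ⟶ S) [LocallyOfFinitePresentation f] [QuasiCompact f] [QuasiSeparated f] [Flat f] :
    ∃ (X₀ S₀ : Scheme.{u}) (f₀ : X₀ ⟶ S₀) (g : S ⟶ S₀) (g' : X ⟶ X₀),
      IsPullback g' f f₀ g ∧ AlgebraicGeometry.IsNoetherian S₀ ∧
      LocallyOfFinitePresentation f₀ ∧ QuasiCompact f₀ ∧ QuasiSeparated f₀ ∧ Flat f₀ := by
  obtain ⟨I, _, _, _, D, c, hc, hD1, hD2, ⟨e⟩⟩ := Groth.Agent.S0590.result S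
  haveI : IsFiltered I := isFiltered_of_directed_le_nonempty I
  haveI : IsCofiltered Iᵒᵖ := inferInstance
  haveI : ∀ (i j : Iᵒᵖ) (a : i ⟶ j), IsAffineHom (D.map a) := hD1
  haveI : ∀ i, CompactSpace (D.obj i) := fun i => (hD2 i).1
  have hnoeth : ∀ i, IsLocallyNoetherian (D.obj i) := by
    intro i
    haveI := (hD2 i).2
    haveI : IsLocallyNoetherian (Spec (CommRingCat.of (ULift.{u} ℤ))) := by
      haveI : IsNoetherianRing (ULift.{u} ℤ) :=
        isNoetherianRing_of_ringEquiv ℤ ULift.ringEquiv.symm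
      infer_instance
    exact LocallyOfFiniteType.isLocallyNoetherian
      (Limits.IsTerminal.from specULiftZIsTerminal (D.obj i))
  haveI : ∀ i, QuasiSeparatedSpace (D.obj i) := fun i => by
    haveI := hnoeth i
    infer_instance
  let f' : X ⟶ c.pt := f ≫ e.inv
  haveI : LocallyOfFinitePresentation f' := inferInstance
  haveI : QuasiCompact f' := inferInstance
  haveI : QuasiSeparated f' := inferInstance
  haveI : Flat f' := inferInstance
  obtain ⟨i₀, X₀, f₀, g, h1, h2, h3, h4⟩ := Groth.Agent.S0591.result D c hc X f'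
  haveI := h1
  haveI := h2
  haveI := h3
  haveI : CompactSpace X₀ := QuasiCompact.compactSpace_of_compactSpace f₀
  haveI : QuasiSeparatedSpace X₀ := quasiSeparatedSpace_of_quasiSeparated f₀
  have hY : IsPullback (c.π.app i₀) (𝟙 c.pt) (𝟙 (D.obj i₀)) (c.π.app i₀) :=
    IsPullback.id_vert (c.π.app i₀)
  obtain ⟨i, φ, Xi, Yi, fi, gi, pY, pX, hYi, hXi, hflat⟩ :=
    Groth.Agent.S2075.result D c hc i₀ f₀ (𝟙 _) f' (𝟙 _) (c.π.app i₀) g hY h4
  haveI : IsIso gi := hYi.isIso_snd_of_isIso
  have hright : IsPullback pX (fi ≫ gi) f₀ (D.map φ) := by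
    have := hXi.paste_vert hYi
    rwa [Category.comp_id] at this
  have hw : c.π.app i ≫ D.map φ = c.π.app i₀ := c.w φ
  let h₁₁ : X ⟶ Xi := hright.lift g (f' ≫ c.π.app i) (by
    rw [h4.w, ← hw]; simp only [Category.assoc])
  have hh1 : h₁₁ ≫ pX = g := hright.lift_fst _ _ _
  have hh2 : h₁₁ ≫ (fi ≫ gi) = f' ≫ c.π.app i := hright.lift_snd _ _ _
  have houter : IsPullback (h₁₁ ≫ pX) f' f₀ (c.π.app i ≫ D.map φ) := by
    rw [hh1, hw]; exact h4
  have hleft : IsPullback h₁₁ f' (fi ≫ gi) (c.π.app i) := IsPullback.of_right houter hh2 hright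
  have hsq : IsPullback (𝟙 X) f f' e.inv := IsPullback.of_horiz_isIso ⟨by simp [f']⟩
  have hpaste := hsq.paste_horiz hleft
  rw [Category.id_comp] at hpaste
  haveI := hnoeth i
  haveI : LocallyOfFinitePresentation fi :=
    MorphismProperty.of_isPullback (P := @LocallyOfFinitePresentation) hXi h1
  haveI : QuasiCompact fi := MorphismProperty.of_isPullback (P := @QuasiCompact) hXi h2
  haveI : QuasiSeparated fi := MorphismProperty.of_isPullback (P := @QuasiSeparated) hXi h3
  exact ⟨Xi, D.obj i, fi ≫ gi, e.inv ≫ c.π.app i, h₁₁, hpaste, { }, inferInstance, inferInstance,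
    inferInstance, inferInstance⟩

end Groth.Agent.Lib.Helper21.SCmp
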