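import Mathlib
import Groth.Agent.Lib.Helper21.SCmp27
import Groth.Agent.Lib.Helper21.SCmp7
import Groth.Agent.Lib.Helper12.ConstrTop

/-!
# Openness of the locus where the fibres are geometrically reduced (flat case)
-/

set_option autoImplicit false
set_option linter.style.haveILetI false
set_option linter.unusedSectionVars false
universe u
open AlgebraicGeometry CategoryTheory Limits TopologicalSpace IsLocalRing

namespace Groth.Agent.Lib.Helper21.SCmp

/-- affine Noetherian case -/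
theorem isOpen_gRAt_of_affine_noetherian {X Y : Scheme.{u}} [IsAffine X] [IsAffine Y]
    [IsLocallyNoetherian Y] (f : X ⟶ Y) [LocallyOfFiniteType f] [Flat f] :
    IsOpen {x : X | GRAt f x} := by
  haveI : IsLocallyNoetherian X := LocallyOfFiniteType.isLocallyNoetherian f
  haveI : AlgebraicGeometry.IsNoetherian X := { }
  haveI : NoetherianSpace X := inferInstance
  rw [Groth.Agent.Lib.Helper12.isOpen_iff_forall_irreducible_closed]
  rintro Z hZ hZirr ⟨e, he, heZ⟩
  have hgen : IsGenericPoint hZirr.genericPoint Z := by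
    have := hZirr.isGenericPoint_genericPoint_closure
    rwa [hZ.closure_eq] at this
  set η := hZirr.genericPoint with hη
  have hηe : η ⤳ e := by
    rw [specializes_iff_mem_closure, hgen.def]
    exact heZ
  have hηE : GRAt f η := gRAt_of_specializes f e η hηe he
  obtain ⟨W, hηW, hW⟩ := exists_open_gRAt_of_closure f η hηE
  refine ⟨W, W.2, ⟨η, hηW, ?_⟩, ?_⟩
  · rw [← hgen.def]
    exact subset_closure rfl
  · rintro w ⟨hwW, hwZ⟩
    refine hW w hwW ?_
    have hηw : η ⤳ w := by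
      rw [specializes_iff_mem_closure, hgen.def]
      exact hwZ
    exact (specializes_iff_mem_closure.mp (hηw.map f.continuous))


/-- reduction to affine source and target -/
theorem isOpen_gRAt_of_affine_case {X Y : Scheme.{u}} (f : X ⟶ Y)
    (H : ∀ (V : Y.Opens) (_ : IsAffineOpen V) (U : (f ⁻¹ᵁ V).toScheme.Opens) (_ : IsAffineOpen U),
      IsOpen {ξ : U.toScheme | GRAt (U.ι ≫ f ∣_ V) ξ}) :
    IsOpen {x : X | GRAt f x} := by
  rw [isOpen_iff_forall_mem_open]
  intro x hx
  obtain ⟨_, ⟨(V : Y.Opens), hV, rfl⟩, hxV, -⟩ := Y.isBasis_affineOpens.exists_subset_of_mem_open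
    (Set.mem_univ (f x)) isOpen_univ
  let x₀ : (f ⁻¹ᵁ V).toScheme := ⟨x, hxV⟩
  obtain ⟨_, ⟨(U : (f ⁻¹ᵁ V).toScheme.Opens), hU, rfl⟩, hxU, -⟩ :=
    (f ⁻¹ᵁ V).toScheme.isBasis_affineOpens.exists_subset_of_mem_open
    (Set.mem_univ x₀) isOpen_univ
  have hopen := H V hV U hU
  have hpb : IsPullback (f ⁻¹ᵁ V).ι (f ∣_ V) f V.ι := (isPullback_morphismRestrict f V).flip
  have hiff : ∀ ξ : U.toScheme, GRAt (U.ι ≫ f ∣_ V) ξ ↔ GRAt f ((f ⁻¹ᵁ V).ι (U.ι ξ)) := by
    intro ξ
    rw [gRAt_ι_comp_iff, gRAt_iff_of_isPullback hpb]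
  let j : U.toScheme ⟶ X := U.ι ≫ (f ⁻¹ᵁ V).ι
  refine ⟨j '' {ξ : U.toScheme | GRAt (U.ι ≫ f ∣_ V) ξ}, ?_, ?_, ?_⟩
  · rintro _ ⟨ξ, hξ, rfl⟩
    exact (hiff ξ).mp hξ
  · exact j.isOpenEmbedding.isOpenMap _ hopen
  · refine ⟨⟨x₀, hxU⟩, ?_, rfl⟩
    exact (hiff _).mpr hx

/-- locally Noetherian case -/
theorem isOpen_gRAt_of_isLocallyNoetherian {X Y : Scheme.{u}} [IsLocallyNoetherian Y] (f : X ⟶ Y)
    [LocallyOfFiniteType f] [Flat f] : IsOpen {x : X | GRAt f x} := by
  apply isOpen_gRAt_of_affine_case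
  intro V hV U hU
  haveI : IsAffine V.toScheme := hV
  haveI : IsAffine U.toScheme := hU
  exact isOpen_gRAt_of_affine_noetherian _

/-- **openness of the locus where the fibres are geometrically reduced**, flat morphisms locally
of finite presentation -/
theorem isOpen_gRAt {X Y : Scheme.{u}} (f : X ⟶ Y) [LocallyOfFinitePresentation f] [Flat f] :
    IsOpen {x : X | GRAt f x} := by
  apply isOpen_gRAt_of_affine_case
  intro V hV U hU
  haveI : IsAffine V.toScheme := hV
  haveI : IsAffine U.toScheme := hU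
  let g := U.ι ≫ f ∣_ V
  haveI : LocallyOfFinitePresentation g := inferInstance
  haveI : Flat g := inferInstance
  obtain ⟨X₀, S₀, g₀, h, h', hpb, hS₀, h1, h2, h3, h4⟩ := exists_flat_noetherian_model g
  haveI : LocallyOfFiniteType g₀ := inferInstance
  have hopen := isOpen_gRAt_of_isLocallyNoetherian g₀
  have : {ξ : U.toScheme | GRAt g ξ} = h' ⁻¹' {x | GRAt g₀ x} := by
    ext ξ
    exact gRAt_iff_of_isPullback hpb ξ
  show IsOpen {ξ : U.toScheme | GRAt g ξ}
  rw [this]
  exact hopen.preimage h'.continuous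

end Groth.Agent.Lib.Helper21.SCmp
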