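import Mathlib
import Groth.Agent.Lib.Helper21.GPI4
import Groth.Agent.Lib.Helper21.GPI6
import Groth.Agent.Lib.Helper21.SCmp28
import Groth.Agent.Lib.Helper12.DomLocus2

/-!
# Openness of the locus where the fibres are geometrically pointwise integral (flat case)
-/

set_option autoImplicit false
set_option linter.style.haveILetI false
set_option linter.unusedSectionVars false
universe u
open AlgebraicGeometry CategoryTheory Limits TopologicalSpace IsLocalRing

namespace Groth.Agent.Lib.Helper21.GPI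

open Groth.Agent.Lib.Helper21.SCmp

/-- the set of points of a fibre at which the fibre is geometrically pointwise integral is open -/
theorem exists_open_gPIAt_fibre {X S : Scheme.{u}} (g : X ⟶ S) [LocallyOfFiniteType g] (s : S) :
    ∃ W : X.Opens, ∀ x : X, g x = s → (x ∈ W ↔ GPIAt g x) := by
  let φ := g.fiberToSpecResidueField s
  have hlft : LocallyOfFiniteType φ :=
    MorphismProperty.pullback_snd (P := @LocallyOfFiniteType) _ _ inferInstance
  have hO := @Groth.Agent.Lib.Helper12.H12DomLocus.isOpen_geomPtIntegral (S.residueField s) _ _ φ hlft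
  obtain ⟨W₁, hW₁, hW₁O⟩ := (g.fiberι s).isEmbedding.isInducing.isOpen_iff.mp hO
  refine ⟨⟨W₁, hW₁⟩, ?_⟩
  intro x hx
  let xs : g.fiber s := (g.fiberHomeo s).symm ⟨x, hx⟩
  have hxs : g.fiberι s xs = x := g.fiberι_fiberHomeo_symm s ⟨x, hx⟩
  have h1 : x ∈ W₁ ↔ FBase.IsGeomPtIntegralAt (g.fiberToSpecResidueField s) xs := by
    have h0 := Set.ext_iff.mp hW₁O xs
    rw [Set.mem_preimage, hxs] at h0
    exact h0
  have h2 := gPIAt_iff_of_fiberι g s xs
  rw [hxs] at h2
  exact h1.trans h2.symm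

theorem exists_open_gPIAt_of_generic {X S : Scheme.{u}} [IsAffine S] [IrreducibleSpace S]
    (g : X ⟶ S) [LocallyOfFiniteType g] (z : X) (hz : g z = genericPoint S) (h : GPIAt g z) :
    ∃ W : X.Opens, z ∈ W ∧ ∀ w ∈ W, GPIAt g w := by
  obtain ⟨W₁, hW₁⟩ := exists_open_gPIAt_fibre g (genericPoint S)
  have hzW₁ : z ∈ W₁ := (hW₁ z hz).mpr h
  obtain ⟨_, ⟨(W₂ : X.Opens), hW₂aff, rfl⟩, hzW₂, hW₂W₁⟩ :=
    X.isBasis_affineOpens.exists_subset_of_mem_open hzW₁ W₁.2
  have hW₂ : IsAffineOpen W₂ := hW₂aff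
  let g₂ := W₂.ι ≫ g
  haveI : IsAffine W₂ := hW₂
  haveI : QuasiCompact g₂ := inferInstance
  haveI : LocallyOfFiniteType g₂ := inferInstance
  have hgen : genericPoint S ∈ EGPI g₂ := by
    intro w
    refine (gPIAt_iff_of_fiberι g₂ _ w).mp ?_
    rw [gPIAt_ι_comp_iff]
    have hx : g (W₂.ι (g₂.fiberι _ w)) = genericPoint S := by
      rw [← Scheme.Hom.comp_apply]
      exact (g₂.fiberHomeo _ w).2
    refine (hW₁ _ hx).mp (hW₂W₁ ?_)
    exact (g₂.fiberι _ w).2
  obtain ⟨V', hsV', hV'⟩ := exists_open_subset_EGPI g₂ hgen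
  refine ⟨W₂.ι ''ᵁ (g₂ ⁻¹ᵁ V'), ?_, ?_⟩
  · refine ⟨⟨z, hzW₂⟩, ?_, rfl⟩
    show g₂ ⟨z, hzW₂⟩ ∈ V'
    have : g₂ ⟨z, hzW₂⟩ = g z := by
      rw [Scheme.Hom.comp_apply]
      rfl
    rw [this, hz]
    exact hsV'
  · rintro w ⟨w₂, hw₂, rfl⟩
    refine (gPIAt_ι_comp_iff W₂.ι g w₂).mp ?_
    exact hV' hw₂ (g₂.asFiber w₂)

theorem exists_open_gPIAt_of_closure {X S : Scheme.{u}} [IsAffine S]
    (g : X ⟶ S) [LocallyOfFiniteType g] (z : X) (h : GPIAt g z) :
    ∃ W : X.Opens, z ∈ W ∧ ∀ w ∈ W, g w ∈ closure {g z} → GPIAt g w := by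
  let I := Scheme.IdealSheafData.vanishingIdeal ⟨closure {g z}, isClosed_closure⟩
  have hrange : Set.range I.subschemeι = closure {g z} := by
    rw [Scheme.IdealSheafData.range_subschemeι, Scheme.IdealSheafData.coe_support_vanishingIdeal]
    rfl
  let ι := I.subschemeι
  haveI : IrreducibleSpace I.subscheme := by
    haveI : IrreducibleSpace (Set.range ι) := by
      rw [hrange]
      exact Subtype.irreducibleSpace isIrreducible_singleton.closure
    exact (ι.isEmbedding.toHomeomorph.irreducibleSpace_iff).mpr inferInstance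
  haveI : IsAffine I.subscheme := isAffine_of_isAffineHom ι
  obtain ⟨t, ht⟩ : g z ∈ Set.range ι := by
    rw [hrange]
    exact subset_closure rfl
  have htgen : t = genericPoint I.subscheme := by
    have h1 : closure {t} = Set.univ := by
      rw [ι.isEmbedding.isInducing.closure_eq_preimage_closure_image, Set.image_singleton, ht,
        ← hrange]
      rw [Set.eq_univ_iff_forall]
      intro a
      exact Set.mem_range_self a
    have h2 : IsGenericPoint t (⊤ : Set I.subscheme) := h1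
    exact ((genericPoint_spec I.subscheme).eq h2).symm
  let gT := pullback.snd g ι
  let p := pullback.fst g ι
  have hpb : IsPullback p gT g ι := IsPullback.of_hasPullback g ι
  have hprange : Set.range p = g ⁻¹' closure {g z} := by
    rw [← hrange]
    exact Scheme.Pullback.range_fst g ι
  obtain ⟨zT, hzT⟩ : z ∈ Set.range p := by
    rw [hprange]
    exact subset_closure rfl
  have hcomm : ∀ a, ι (gT a) = g (p a) := by
    intro a
    have := congrArg (fun φ : pullback g ι ⟶ S => φ a) hpb.w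
    simpa only [Scheme.Hom.comp_apply] using this.symm
  have hgzT : gT zT = genericPoint I.subscheme := by
    rw [← htgen]
    apply ι.isEmbedding.injective
    rw [hcomm, hzT, ht]
  have hGR : GPIAt gT zT := by
    rw [gPIAt_iff_of_isPullback hpb, hzT]
    exact h
  obtain ⟨WT, hzWT, hWT⟩ := exists_open_gPIAt_of_generic gT zT hgzT hGR
  obtain ⟨W, hW, hWWT⟩ := p.isEmbedding.isInducing.isOpen_iff.mp WT.2
  refine ⟨⟨W, hW⟩, ?_, ?_⟩
  · show z ∈ W
    rw [← hzT, ← Set.mem_preimage, hWWT]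
    exact hzWT
  · intro w hw hgw
    obtain ⟨wT, rfl⟩ : w ∈ Set.range p := by
      rw [hprange]
      exact hgw
    rw [← gPIAt_iff_of_isPullback hpb]
    apply hWT
    have : wT ∈ p ⁻¹' W := hw
    rw [hWWT] at this
    exact this


/-- affine Noetherian case -/
theorem isOpen_gPIAt_of_affine_noetherian {X Y : Scheme.{u}} [IsAffine X] [IsAffine Y]
    [IsLocallyNoetherian Y] (f : X ⟶ Y) [LocallyOfFiniteType f] [Flat f] :
    IsOpen {x : X | GPIAt f x} := by
  haveI : IsLocallyNoetherian X := LocallyOfFiniteType.isLocallyNoetherian f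
  haveI : AlgebraicGeometry.IsNoetherian X := { }
  haveI : NoetherianSpace X := inferInstance
  rw [Groth.Agent.Lib.Helper12.isOpen_iff_forall_irreducible_closed]
  rintro Z hZ hZirr ⟨e, he, heZ⟩
  have hgen : IsGenericPoint hZirr.genericPoint Z := by
    have := hZirr.isGenericPoint_genericPoint_closure
    rwa [hZ.closure_eq] at this
  set η := hZirr.genericPoint with hη
  have hηe : η ⤳ e := by
    rw [specializes_iff_mem_closure, hgen.def]
    exact heZ
  have hηE : GPIAt f η := gPIAt_of_specializes f e η hηe he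
  obtain ⟨W, hηW, hW⟩ := exists_open_gPIAt_of_closure f η hηE
  refine ⟨W, W.2, ⟨η, hηW, ?_⟩, ?_⟩
  · rw [← hgen.def]
    exact subset_closure rfl
  · rintro w ⟨hwW, hwZ⟩
    refine hW w hwW ?_
    have hηw : η ⤳ w := by
      rw [specializes_iff_mem_closure, hgen.def]
      exact hwZ
    exact (specializes_iff_mem_closure.mp (hηw.map f.continuous))


/-- reduction to affine source and target -/
theorem isOpen_gPIAt_of_affine_case {X Y : Scheme.{u}} (f : X ⟶ Y)
    (H : ∀ (V : Y.Opens) (_ : IsAffineOpen V) (U : (f ⁻¹ᵁ V).toScheme.Opens) (_ : IsAffineOpen U),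
      IsOpen {ξ : U.toScheme | GPIAt (U.ι ≫ f ∣_ V) ξ}) :
    IsOpen {x : X | GPIAt f x} := by
  rw [isOpen_iff_forall_mem_open]
  intro x hx
  obtain ⟨_, ⟨(V : Y.Opens), hV, rfl⟩, hxV, -⟩ := Y.isBasis_affineOpens.exists_subset_of_mem_open
    (Set.mem_univ (f x)) isOpen_univ
  let x₀ : (f ⁻¹ᵁ V).toScheme := ⟨x, hxV⟩
  obtain ⟨_, ⟨(U : (f ⁻¹ᵁ V).toScheme.Opens), hU, rfl⟩, hxU, -⟩ :=
    (f ⁻¹ᵁ V).toScheme.isBasis_affineOpens.exists_subset_of_mem_open
    (Set.mem_univ x₀) isOpen_univ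
  have hopen := H V hV U hU
  have hpb : IsPullback (f ⁻¹ᵁ V).ι (f ∣_ V) f V.ι := (isPullback_morphismRestrict f V).flip
  have hiff : ∀ ξ : U.toScheme, GPIAt (U.ι ≫ f ∣_ V) ξ ↔ GPIAt f ((f ⁻¹ᵁ V).ι (U.ι ξ)) := by
    intro ξ
    rw [gPIAt_ι_comp_iff, gPIAt_iff_of_isPullback hpb]
  let j : U.toScheme ⟶ X := U.ι ≫ (f ⁻¹ᵁ V).ι
  refine ⟨j '' {ξ : U.toScheme | GPIAt (U.ι ≫ f ∣_ V) ξ}, ?_, ?_, ?_⟩
  · rintro _ ⟨ξ, hξ, rfl⟩
    exact (hiff ξ).mp hξ
  · exact j.isOpenEmbedding.isOpenMap _ hopen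
  · refine ⟨⟨x₀, hxU⟩, ?_, rfl⟩
    exact (hiff _).mpr hx

/-- locally Noetherian case -/
theorem isOpen_gPIAt_of_isLocallyNoetherian {X Y : Scheme.{u}} [IsLocallyNoetherian Y] (f : X ⟶ Y)
    [LocallyOfFiniteType f] [Flat f] : IsOpen {x : X | GPIAt f x} := by
  apply isOpen_gPIAt_of_affine_case
  intro V hV U hU
  haveI : IsAffine V.toScheme := hV
  haveI : IsAffine U.toScheme := hU
  exact isOpen_gPIAt_of_affine_noetherian _

/-- **openness of the locus where the fibres are geometrically pointwise integral**, flat morphisms locally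
of finite presentation -/
theorem isOpen_gPIAt {X Y : Scheme.{u}} (f : X ⟶ Y) [LocallyOfFinitePresentation f] [Flat f] :
    IsOpen {x : X | GPIAt f x} := by
  apply isOpen_gPIAt_of_affine_case
  intro V hV U hU
  haveI : IsAffine V.toScheme := hV
  haveI : IsAffine U.toScheme := hU
  let g := U.ι ≫ f ∣_ V
  haveI : LocallyOfFinitePresentation g := inferInstance
  haveI : Flat g := inferInstance
  obtain ⟨X₀, S₀, g₀, h, h', hpb, hS₀, h1, h2, h3, h4⟩ := exists_flat_noetherian_model g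
  haveI : LocallyOfFiniteType g₀ := inferInstance
  have hopen := isOpen_gPIAt_of_isLocallyNoetherian g₀
  have : {ξ : U.toScheme | GPIAt g ξ} = h' ⁻¹' {x | GPIAt g₀ x} := by
    ext ξ
    exact gPIAt_iff_of_isPullback hpb ξ
  show IsOpen {ξ : U.toScheme | GPIAt g ξ}
  rw [this]
  exact hopen.preimage h'.continuous


end Groth.Agent.Lib.Helper21.GPI
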