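import Mathlib
import Groth.Agent.Lib.Helper21.GPI7
import Groth.Agent.Lib.Helper21.GIS13

/-!
# Proper flat families over a discrete valuation ring with integral closed fibre
-/

set_option autoImplicit false
set_option linter.style.haveILetI false
set_option linter.unusedSectionVars false
universe u
open AlgebraicGeometry CategoryTheory Limits TopologicalSpace IsLocalRing

namespace Groth.Agent.Lib.Helper21.GInt

open Groth.Agent.Lib.Helper21.GPI Groth.Agent.Lib.Helper21.SCmp Groth.Agent.Lib.Helper21.GIS

/-- a closed map with a connected fibre over a point lying in every nonempty closed subset has a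
connected source -/
theorem connectedSpace_of_isClosedMap {P S : Type*} [TopologicalSpace P] [TopologicalSpace S]
    (h : P → S) (hcl : IsClosedMap h) (s₀ : S)
    (hs₀ : ∀ Z : Set S, IsClosed Z → Z.Nonempty → s₀ ∈ Z) (hF : IsConnected (h ⁻¹' {s₀})) :
    ConnectedSpace P := by
  haveI : Nonempty P := hF.nonempty.to_subtype.map Subtype.val
  refine { toPreconnectedSpace := ⟨?_⟩, toNonempty := inferInstance }
  rw [isPreconnected_closed_iff]
  intro t t' ht ht' hcov hne hne'
  have h1 : s₀ ∈ h '' t := hs₀ _ (hcl t ht) (by
    obtain ⟨x, -, hx⟩ := hne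
    exact ⟨h x, x, hx, rfl⟩)
  have h2 : s₀ ∈ h '' t' := hs₀ _ (hcl t' ht') (by
    obtain ⟨x, -, hx⟩ := hne'
    exact ⟨h x, x, hx, rfl⟩)
  obtain ⟨a, hat, ha⟩ := h1
  obtain ⟨b, hbt, hb⟩ := h2
  have hpre := isPreconnected_closed_iff.mp hF.isPreconnected t t' ht ht'
    (fun x _ => hcov (Set.mem_univ x)) ⟨a, ha, hat⟩ ⟨b, hb, hbt⟩
  obtain ⟨x, -, hx⟩ := hpre
  exact ⟨x, Set.mem_univ x, hx⟩

/-- a connected Noetherian space whose irreducible components are pairwise disjoint is
irreducible -/
theorem irreducibleSpace_of_disj {T : Type*} [TopologicalSpace T] [NoetherianSpace T]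
    [ConnectedSpace T] (hT : Disj T) : IrreducibleSpace T := by
  rw [irreducibleSpace_iff_encard, disj_iff_encard_eq.mp hT]
  have hsub : Subsingleton (_root_.ConnectedComponents T) := by
    refine ⟨fun a b => ?_⟩
    obtain ⟨x, rfl⟩ := ConnectedComponents.surjective_coe a
    obtain ⟨y, rfl⟩ := ConnectedComponents.surjective_coe b
    rw [ConnectedComponents.coe_eq_coe']
    have := PreconnectedSpace.connectedComponent_eq_univ y
    rw [this]
    trivial
  have hne : Nonempty (_root_.ConnectedComponents T) :=
    ⟨ConnectedComponents.mk (Classical.arbitrary T)⟩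
  rw [ENat.card_eq_one_iff_unique]
  exact ⟨@Unique.mk' _ (Classical.inhabited_of_nonempty hne) hsub⟩

/-- over a local ring every point of the source of a closed map specialises to a point of the
closed fibre -/
theorem exists_specializes_closed_fibre {R : Type u} [CommRing R] [IsLocalRing R] {P : Scheme.{u}}
    (h : P ⟶ Spec (CommRingCat.of R)) (hcl : IsClosedMap h) (x : P) :
    ∃ x₀ : P, x ⤳ x₀ ∧ h x₀ = closedPoint R := by
  have h1 : IsClosed (h '' closure {x}) := hcl _ isClosed_closure
  have h2 : h x ∈ h '' closure {x} := ⟨x, subset_closure rfl, rfl⟩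
  have h3 : (show PrimeSpectrum R from h x) ⤳ closedPoint R := specializes_closedPoint _
  have h4 : closedPoint R ∈ h '' closure {x} := h3.mem_closed h1 h2
  obtain ⟨x₀, hx₀, hx₀'⟩ := h4
  exact ⟨x₀, specializes_iff_mem_closure.mpr hx₀, hx₀'⟩

/-- the local rings of the total space of a flat closed family over a discrete valuation ring
are domains if those of the closed fibre are -/
theorem forall_isDomain_stalk_of_dvr {R : Type u} [CommRing R] [IsDomain R]
    [IsDiscreteValuationRing R] {P : Scheme.{u}} (h : P ⟶ Spec (CommRingCat.of R))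
    [LocallyOfFiniteType h] [Flat h] (hcl : IsClosedMap h)
    (hF : ∀ y : h.fiber (closedPoint R), IsDomain ((h.fiber (closedPoint R)).presheaf.stalk y))
    (x : P) : IsDomain (P.presheaf.stalk x) := by
  obtain ⟨x₀, hsp, hx₀⟩ := exists_specializes_closed_fibre h hcl x
  obtain ⟨y, rfl⟩ : x₀ ∈ Set.range (h.fiberι (closedPoint R)) := by
    rw [Scheme.Hom.range_fiberι]
    exact hx₀
  exact isDomain_stalk_of_specializes hsp (isDomain_stalk_of_domain_fibre h y (hF y))

/-- the total space of a flat closed family over a discrete valuation ring with connected closed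
fibre all of whose local rings are domains is irreducible -/
theorem irreducibleSpace_of_dvr {R : Type u} [CommRing R] [IsDomain R]
    [IsDiscreteValuationRing R] {P : Scheme.{u}} (h : P ⟶ Spec (CommRingCat.of R))
    [LocallyOfFiniteType h] [QuasiCompact h] [Flat h] (hcl : IsClosedMap h)
    (hF : ∀ y : h.fiber (closedPoint R), IsDomain ((h.fiber (closedPoint R)).presheaf.stalk y))
    [hconn : ConnectedSpace (h.fiber (closedPoint R))] : IrreducibleSpace P := by
  haveI : IsLocallyNoetherian P := LocallyOfFiniteType.isLocallyNoetherian h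
  haveI : CompactSpace P := QuasiCompact.compactSpace_of_compactSpace h
  haveI : AlgebraicGeometry.IsNoetherian P := { }
  haveI : NoetherianSpace P := inferInstance
  have hdisj : Disj P := disj_of_forall_isDomain (forall_isDomain_stalk_of_dvr h hcl hF)
  haveI : ConnectedSpace P := by
    refine connectedSpace_of_isClosedMap h hcl (closedPoint R) ?_ ?_
    · intro Z hZ ⟨z, hz⟩
      exact (specializes_closedPoint (R := R) z).mem_closed hZ hz
    · rw [isConnected_iff_connectedSpace]
      exact (h.fiberHomeo (closedPoint R)).connectedSpace_iff.mp hconn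
  exact irreducibleSpace_of_disj hdisj

end Groth.Agent.Lib.Helper21.GInt
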