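import Mathlib
import Groth.Agent.Lib.Helper21.GInt1
import Groth.Agent.S1539

/-!
# Geometric integrality of the generic fibre of a proper flat family over a DVR
-/

set_option autoImplicit false
set_option linter.style.haveILetI false
set_option linter.unusedSectionVars false
universe u
open AlgebraicGeometry CategoryTheory Limits TopologicalSpace IsLocalRing

attribute [local instance] Curv2.stalkAlgebra

namespace Groth.Agent.Lib.Helper21.GInt

open Groth.Agent.Lib.Helper21.GPI Groth.Agent.Lib.Helper21.SCmp Groth.Agent.Lib.Helper21.GIS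

/-- a geometrically integral fibre: all its base changes to field-valued points are integral -/
theorem isIntegral_of_isPullback {X Y : Scheme.{u}} (f : X ⟶ Y) (s : Y)
    [h : GeometricallyIntegral (f.fiberToSpecResidueField s)] {K : Type u} [Field K]
    (a : Spec (CommRingCat.of K) ⟶ Y) (hs : a (IsLocalRing.closedPoint K) = s)
    {Z : Scheme.{u}} (fst : Z ⟶ X) (snd : Z ⟶ Spec (CommRingCat.of K))
    (hp : IsPullback fst snd f a) : IsIntegral Z := by
  obtain ⟨φ, rfl⟩ := exists_factor a s hs
  haveI h1 : IsIntegral (pullback (f.fiberToSpecResidueField s) (Spec.map φ)) :=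
    h.geometrically_isIntegral _ _ _ (.of_hasPullback _ _)
  have e1 : pullback (f.fiberToSpecResidueField s) (Spec.map φ) ≅
      pullback f (Spec.map φ ≫ Y.fromSpecResidueField s) :=
    pullbackLeftPullbackSndIso f (Y.fromSpecResidueField s) (Spec.map φ)
  have e2 : Z ≅ pullback f (Spec.map φ ≫ Y.fromSpecResidueField s) := hp.isoPullback
  exact IsIntegral.of_isIso (e2 ≪≫ e1.symm).inv

/-- the generic point of the spectrum of a discrete valuation ring is open -/
theorem isOpen_singleton_gen (R : Type u) [CommRing R] [IsDomain R] [IsDiscreteValuationRing R] :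
    IsOpen ({gen R} : Set (Spec (CommRingCat.of R))) := by
  have hcl : IsClosed ({closedPoint R} : Set (PrimeSpectrum R)) :=
    (PrimeSpectrum.isClosed_singleton_iff_isMaximal _).mpr (IsLocalRing.maximalIdeal.isMaximal R)
  have heq : ({gen R} : Set (Spec (CommRingCat.of R))) = ({closedPoint R} : Set (PrimeSpectrum R))ᶜ := by
    ext p
    simp only [Set.mem_singleton_iff, Set.mem_compl_iff]
    change p = gen R ↔ ¬ (p = closedPoint R)
    constructor
    · rintro rfl
      exact gen_ne_closedPoint R
    · intro hp
      by_contra hne
      apply hp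
      have h0 : (show PrimeSpectrum R from p).asIdeal ≠ ⊥ := by
        intro h0
        exact hne (PrimeSpectrum.ext h0)
      have hmax : (show PrimeSpectrum R from p).asIdeal.IsMaximal :=
        Ring.DimensionLEOne.maximalOfPrime h0 (show PrimeSpectrum R from p).isPrime
      exact PrimeSpectrum.ext (IsLocalRing.eq_maximalIdeal hmax)
  rw [heq]
  exact hcl.isOpen_compl

/-- geometric reducedness of the generic fibre -/
theorem geometricallyReduced_generic_of_dvr {R : Type u} [CommRing R] [IsDomain R]
    [IsDiscreteValuationRing R] {P : Scheme.{u}} (h : P ⟶ Spec (CommRingCat.of R))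
    [LocallyOfFiniteType h] [Flat h] (hcl : IsClosedMap h)
    [hs : GeometricallyReduced (h.fiberToSpecResidueField (closedPoint R))] :
    GeometricallyReduced (h.fiberToSpecResidueField (gen R)) := by
  refine (geometricallyReduced_iff_forall
    (k := (Spec (CommRingCat.of R)).residueField (gen R)) _).mpr fun z => ?_
  refine (gRAt_iff_of_fiberι h (gen R) z).mp ?_
  obtain ⟨x₀, hsp, hx₀⟩ := exists_specializes_closed_fibre h hcl (h.fiberι (gen R) z)
  obtain ⟨y, rfl⟩ : x₀ ∈ Set.range (h.fiberι (closedPoint R)) := by
    rw [Scheme.Hom.range_fiberι]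
    exact hx₀
  have h1 : GRAt h (h.fiberι (closedPoint R) y) :=
    (gRAt_iff_of_fiberι h (closedPoint R) y).mpr ((geometricallyReduced_iff_forall
      (k := (Spec (CommRingCat.of R)).residueField (closedPoint R)) _).mp hs y)
  exact gRAt_of_specializes h _ _ hsp h1

/-- **irreducibility of the finite base changes of the generic fibre** -/
theorem irreducibleSpace_bc_generic_of_dvr {R : Type u} [CommRing R] [IsDomain R]
    [IsDiscreteValuationRing R] {P : Scheme.{u}} (h : P ⟶ Spec (CommRingCat.of R))
    [IsProper h] [Flat h]
    [hs : GeometricallyIntegral (h.fiberToSpecResidueField (closedPoint R))]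
    (k' : Type u) [Field k'] [Algebra ((Spec (CommRingCat.of R)).residueField (gen R)) k']
    [FiniteDimensional ((Spec (CommRingCat.of R)).residueField (gen R)) k'] :
    IrreducibleSpace ↥(FBase.bc (k := (Spec (CommRingCat.of R)).residueField (gen R))
      (h.fiberToSpecResidueField (gen R)) k') := by
  let k := (Spec (CommRingCat.of R)).residueField (gen R)
  let φ : h.fiber (gen R) ⟶ Spec (CommRingCat.of k) := h.fiberToSpecResidueField (gen R)
  let φ₀ : R →+* k := toResidueField R (gen R)
  let ψ : R →+* k' := (algebraMap k k').comp φ₀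
  have hφ₀inj : Function.Injective φ₀ := by
    rw [RingHom.injective_iff_ker_eq_bot, ker_toResidueField]
  have hψ : Function.Injective ψ := (algebraMap k k').injective.comp hφ₀inj
  obtain ⟨S, hS⟩ := exists_finset_closure_eq_top (k' := k') φ₀
    (closure_range_toResidueField R (gen R))
  obtain ⟨R', _, _, _, algR'L, hfrac, ι, hι, hloc⟩ := exists_dvr_in_field R k' ψ hψ S hS
  have hιinj : Function.Injective ι := by
    have : Function.Injective ((algebraMap R' k').comp ι) := by rw [hι]; exact hψ
    exact Function.Injective.of_comp this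
  have hjinj : Function.Injective (algebraMap R' k') := IsFractionRing.injective R' k'
  let v' : Spec (CommRingCat.of R') ⟶ Spec (CommRingCat.of R) := Spec.map (CommRingCat.ofHom ι)
  let h' := pullback.snd h v'
  let ρ' := pullback.fst h v'
  have hpb : IsPullback ρ' h' h v' := IsPullback.of_hasPullback h v'
  have hv'm : v' (closedPoint R') = closedPoint R := by
    haveI : IsLocalHom (CommRingCat.ofHom ι).hom := hloc
    exact Spec_closedPoint (f := CommRingCat.ofHom ι)
  haveI : Flat h' := inferInstance
  haveI : IsProper h' := inferInstance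
  haveI : LocallyOfFiniteType h' := inferInstance
  haveI : QuasiCompact h' := inferInstance
  -- the closed fibre of the base change is integral
  haveI hint : IsIntegral (h'.fiber (closedPoint R')) := by
    refine isIntegral_of_isPullback h (closedPoint R)
      ((Spec (CommRingCat.of R')).fromSpecResidueField (closedPoint R') ≫ v') ?_
      (h'.fiberι (closedPoint R') ≫ ρ') (h'.fiberToSpecResidueField (closedPoint R')) ?_
    · rw [Scheme.Hom.comp_apply]
      erw [Scheme.fromSpecResidueField_apply]
      exact hv'm
    · exact (IsPullback.of_hasPullback h'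
        ((Spec (CommRingCat.of R')).fromSpecResidueField (closedPoint R'))).paste_horiz hpb
  haveI : IrreducibleSpace (pullback h v' : Scheme.{u}) :=
    irreducibleSpace_of_dvr h' h'.isClosedMap (fun y => inferInstance)
  -- the comparison morphism from the base change of the fibre
  let g₀ : Spec (CommRingCat.of k') ⟶ Spec (CommRingCat.of R') :=
    Spec.map (CommRingCat.ofHom (algebraMap R' k'))
  have hbot : Spec.map (CommRingCat.ofHom (algebraMap k k')) ≫
      (Spec (CommRingCat.of R)).fromSpecResidueField (gen R) = g₀ ≫ v' := by
    rw [← specMap_toResidueField, ← Spec.map_comp, ← Spec.map_comp, ← CommRingCat.ofHom_comp,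
      ← CommRingCat.ofHom_comp, hι]
  have hbig : IsPullback (FBase.bcπ φ k' ≫ h.fiberι (gen R)) (FBase.bcStr φ k') h (g₀ ≫ v') := by
    have h1 : IsPullback (FBase.bcπ φ k') (FBase.bcStr φ k') φ
        (Spec.map (CommRingCat.ofHom (algebraMap k k'))) := IsPullback.of_hasPullback _ _
    have h2 : IsPullback (h.fiberι (gen R)) φ h
        ((Spec (CommRingCat.of R)).fromSpecResidueField (gen R)) := IsPullback.of_hasPullback _ _
    have := h1.paste_horiz h2
    rwa [hbot] at this
  let j : FBase.bc φ k' ⟶ pullback h v' :=
    pullback.lift (FBase.bcπ φ k' ≫ h.fiberι (gen R)) (FBase.bcStr φ k' ≫ g₀)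
      (by rw [hbig.w, Category.assoc])
  have hj1 : j ≫ ρ' = FBase.bcπ φ k' ≫ h.fiberι (gen R) := pullback.lift_fst _ _ _
  have hj2 : j ≫ h' = FBase.bcStr φ k' ≫ g₀ := pullback.lift_snd _ _ _
  have hjpb : IsPullback j (FBase.bcStr φ k') h' g₀ := by
    refine IsPullback.of_right ?_ hj2 hpb
    rw [hj1]
    exact hbig
  haveI hg₀pre : IsPreimmersion g₀ := IsPreimmersion.of_isLocalization (nonZeroDivisors R')
  haveI : IsPreimmersion j := MorphismProperty.of_isPullback (P := @IsPreimmersion) hjpb.flip hg₀pre
  -- the range of `j` is the generic fibre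
  have hrange : Set.range j = h' ⁻¹' {gen R'} := by
    have e : Set.range j = h' ⁻¹' Set.range g₀ := by
      have h1 := Scheme.Pullback.range_fst h' g₀
      have h2 : j = hjpb.isoPullback.hom ≫ pullback.fst h' g₀ := by
        rw [hjpb.isoPullback_hom_fst]
      have h3 : Set.range hjpb.isoPullback.hom = Set.univ :=
        Set.range_eq_univ.mpr hjpb.isoPullback.hom.homeomorph.surjective
      rw [h2, Scheme.Hom.comp_base, TopCat.coe_comp, Set.range_comp, h3, Set.image_univ]
      exact h1
    rw [e]
    congr 1
    ext p
    constructor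
    · rintro ⟨t, rfl⟩
      exact specMap_field_apply (algebraMap R' k') hjinj t
    · rintro rfl
      obtain ⟨t⟩ : Nonempty (Spec (CommRingCat.of k')) := inferInstance
      exact ⟨t, specMap_field_apply (algebraMap R' k') hjinj t⟩
  have hopen : IsOpen (h' ⁻¹' {gen R'}) := (isOpen_singleton_gen R').preimage h'.continuous
  have hne : (h' ⁻¹' {gen R'}).Nonempty := by
    obtain ⟨y₀⟩ : Nonempty (h'.fiber (closedPoint R')) := inferInstance
    have hG : GeneralizingMap h'.base := Flat.generalizingMap h'
    have hy₀ : h' (h'.fiberι (closedPoint R') y₀) = closedPoint R' :=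
      (h'.fiberHomeo (closedPoint R') y₀).2
    obtain ⟨ξ', -, h2⟩ := hG (show gen R' ⤳ h' (h'.fiberι (closedPoint R') y₀) by
      rw [hy₀]; exact gen_specializes R')
    exact ⟨ξ', h2⟩
  have hirr : IsIrreducible (h' ⁻¹' {gen R'}) :=
    ⟨hne, (IrreducibleSpace.isIrreducible_univ _).isPreirreducible.open_subset hopen
      (Set.subset_univ _)⟩
  haveI : IrreducibleSpace (Set.range j) := by
    rw [hrange]
    exact Subtype.irreducibleSpace hirr
  exact (j.isEmbedding.toHomeomorph.irreducibleSpace_iff).mpr inferInstance

/-- **generisation over a discrete valuation ring**: if the closed fibre of a proper flat family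
over a discrete valuation ring is geometrically integral, so is the generic fibre -/
theorem geometricallyIntegral_generic_of_dvr {R : Type u} [CommRing R] [IsDomain R]
    [IsDiscreteValuationRing R] {P : Scheme.{u}} (h : P ⟶ Spec (CommRingCat.of R))
    [IsProper h] [Flat h]
    [hs : GeometricallyIntegral (h.fiberToSpecResidueField (closedPoint R))] :
    GeometricallyIntegral (h.fiberToSpecResidueField (gen R)) := by
  haveI : GeometricallyReduced (h.fiberToSpecResidueField (gen R)) :=
    geometricallyReduced_generic_of_dvr h h.isClosedMap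
  haveI : GeometricallyIrreducible (h.fiberToSpecResidueField (gen R)) := by
    let k := (Spec (CommRingCat.of R)).residueField (gen R)
    let φ : h.fiber (gen R) ⟶ Spec (CommRingCat.of k) := h.fiberToSpecResidueField (gen R)
    letI : (h.fiber (gen R)).Over (Spec (CommRingCat.of k)) := ⟨φ⟩
    exact Groth.Agent.S1539.result k (h.fiber (gen R))
      (fun k' _ _ _ _ => irreducibleSpace_bc_generic_of_dvr h k')
  exact GeometricallyIntegral.of_geometricallyReduced_of_geometricallyIrreducible _

end Groth.Agent.Lib.Helper21.GInt
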