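import Mathlib
import Groth.Agent.Lib.Helper21.GInt2
import Groth.Agent.Lib.Helper21.DVRExt3
import Groth.Agent.Lib.Helper12.GeomRedConstr

/-!
# The locus of geometrically integral fibres of a proper flat morphism: Noetherian case
-/

set_option autoImplicit false
set_option linter.style.haveILetI false
set_option linter.unusedSectionVars false
universe u
open AlgebraicGeometry CategoryTheory Limits TopologicalSpace IsLocalRing Topology

namespace Groth.Agent.Lib.Helper21.GInt

open Groth.Agent.Lib.Helper21.GPI Groth.Agent.Lib.Helper21.SCmp Groth.Agent.Lib.Helper21.GIS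
open Groth.Agent.Lib.Helper12.H12GeomRedConstr

variable {X Y : Scheme.{u}}

/-- the locus of points with geometrically integral fibre -/
def Eint (f : X ⟶ Y) : Set Y := {y : Y | GeometricallyIntegral (f.fiberToSpecResidueField y)}

theorem Eint_eq (f : X ⟶ Y) : Eint f = E f ∩ Eirr f := by
  ext y
  constructor
  · intro h
    haveI : GeometricallyIntegral (f.fiberToSpecResidueField y) := h
    exact ⟨(inferInstance : GeometricallyReduced (f.fiberToSpecResidueField y)),
      (inferInstance : GeometricallyIrreducible (f.fiberToSpecResidueField y))⟩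
  · rintro ⟨h1, h2⟩
    haveI : GeometricallyReduced (f.fiberToSpecResidueField y) := h1
    haveI : GeometricallyIrreducible (f.fiberToSpecResidueField y) := h2
    exact GeometricallyIntegral.of_geometricallyReduced_of_geometricallyIrreducible _

theorem Eint_of_isPullback {X' Y' : Scheme.{u}} {f : X ⟶ Y} {f' : X' ⟶ Y'} {h : X' ⟶ X}
    {g : Y' ⟶ Y} (hc : IsPullback h f' f g) : Eint f' = g ⁻¹' Eint f := by
  rw [Eint_eq, Eint_eq, Set.preimage_inter, E_of_isPullback f g f' h hc, Eirr_of_isPullback hc]

/-- **stability under generisation** -/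
theorem mem_Eint_of_specializes [IsLocallyNoetherian Y] (f : X ⟶ Y) [IsProper f] [Flat f]
    (y y' : Y) (hsp : y' ⤳ y) (hy : y ∈ Eint f) : y' ∈ Eint f := by
  by_cases hne : y' = y
  · subst hne
    exact hy
  obtain ⟨R, _, _, _, u, hu1, hu2⟩ := DVRExt.exists_dvr_of_specializes y' y hsp hne
  let h := pullback.snd f u
  have hpb : IsPullback (pullback.fst f u) h f u := IsPullback.of_hasPullback f u
  have hE := Eint_of_isPullback hpb
  haveI : IsProper h := inferInstance
  haveI : Flat h := inferInstance
  have h1 : (closedPoint R : Spec (CommRingCat.of R)) ∈ Eint h := by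
    rw [hE]
    change u (closedPoint R) ∈ Eint f
    rw [hu1]
    exact hy
  haveI : GeometricallyIntegral (h.fiberToSpecResidueField (closedPoint R)) := h1
  have h2 : gen R ∈ Eint h := geometricallyIntegral_generic_of_dvr h
  rw [hE] at h2
  have h3 : u (gen R) ∈ Eint f := h2
  have : u (gen R) = y' := hu2
  rw [this] at h3
  exact h3

/-- **Noetherian case** -/
theorem isOpen_Eint_of_noetherian [IsLocallyNoetherian Y] [NoetherianSpace Y] (f : X ⟶ Y)
    [IsProper f] [Flat f] : IsOpen (Eint f) := by
  have hc : IsConstructible (Eint f) := by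
    rw [Eint_eq]
    exact (isConstructible_E_of_noetherianSpace f).inter (isConstructible_Eirr_of_noetherianSpace f)
  rw [isOpen_iff_mem_nhds]
  intro y hy
  refine Groth.Agent.Lib.Helper12.mem_nhds_of_dense_on_irreducible_closed y hc ?_
  intro Z hZ hZirr hyZ
  obtain ⟨η, hη⟩ := QuasiSober.sober hZirr hZ
  have hsp : η ⤳ y := by
    rw [specializes_iff_mem_closure, hη.def]
    exact hyZ
  have hηE : η ∈ Eint f := mem_Eint_of_specializes f y η hsp hy
  intro z hz
  rw [← hη.def] at hz
  have hsub : ({η} : Set Y) ⊆ Eint f ∩ Z := Set.singleton_subset_iff.mpr ⟨hηE, hη.mem⟩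
  exact closure_mono hsub hz

end Groth.Agent.Lib.Helper21.GInt
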