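import Mathlib
import Groth.Agent.Lib.Helper21.GInt3
import Groth.Agent.Lib.Helper21.SCmp7
import Groth.Agent.S2074

/-!
# Proper flat Noetherian models and the openness of the locus of geometrically integral fibres
-/

set_option autoImplicit false
set_option linter.style.haveILetI false
set_option linter.unusedSectionVars false
universe u
open AlgebraicGeometry CategoryTheory Limits TopologicalSpace IsLocalRing Topology

namespace Groth.Agent.Lib.Helper21.GInt

/-- **proper flat Noetherian model** -/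
theorem exists_proper_flat_noetherian_model {X S : Scheme.{u}} [CompactSpace S]
    [QuasiSeparatedSpace S] (f : X ⟶ S) [LocallyOfFinitePresentation f] [IsProper f] [Flat f] :
    ∃ (X₀ S₀ : Scheme.{u}) (f₀ : X₀ ⟶ S₀) (g : S ⟶ S₀) (g' : X ⟶ X₀),
      IsPullback g' f f₀ g ∧ AlgebraicGeometry.IsNoetherian S₀ ∧
      LocallyOfFinitePresentation f₀ ∧ IsProper f₀ ∧ Flat f₀ := by
  obtain ⟨I, _, _, _, D, c, hc, hD1, hD2, ⟨e⟩⟩ := Groth.Agent.S0590.result S
  haveI : IsFiltered I := isFiltered_of_directed_le_nonempty I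
  haveI : IsCofiltered Iᵒᵖ := inferInstance
  haveI : ∀ (i j : Iᵒᵖ) (a : i ⟶ j), IsAffineHom (D.map a) := hD1
  haveI : ∀ i, CompactSpace (D.obj i) := fun i => (hD2 i).1
  have hnoeth : ∀ i, IsLocallyNoetherian (D.obj i) := by
    intro i
    haveI := (hD2 i).2
    haveI : IsLocallyNoetherian (Spec (CommRingCat.of (ULift.{u} ℤ))) := by
      haveI : IsNoetherianRing (ULift.{u} ℤ) :=
        isNoetherianRing_of_ringEquiv ℤ ULift.ringEquiv.symm
      infer_instance
    exact LocallyOfFiniteType.isLocallyNoetherian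
      (Limits.IsTerminal.from specULiftZIsTerminal (D.obj i))
  haveI : ∀ i, QuasiSeparatedSpace (D.obj i) := fun i => by
    haveI := hnoeth i
    infer_instance
  let f' : X ⟶ c.pt := f ≫ e.inv
  haveI : LocallyOfFinitePresentation f' := inferInstance
  haveI : QuasiCompact f' := inferInstance
  haveI : QuasiSeparated f' := inferInstance
  haveI : Flat f' := inferInstance
  haveI : IsProper f' := inferInstance
  obtain ⟨i₀, X₀, f₀, g, h1, h2, h3, h4⟩ := Groth.Agent.S0591.result D c hc X f'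
  haveI := h1
  haveI := h2
  haveI := h3
  haveI : CompactSpace X₀ := QuasiCompact.compactSpace_of_compactSpace f₀
  haveI : QuasiSeparatedSpace X₀ := quasiSeparatedSpace_of_quasiSeparated f₀
  haveI : LocallyOfFiniteType f₀ := inferInstance
  have hY : IsPullback (c.π.app i₀) (𝟙 c.pt) (𝟙 (D.obj i₀)) (c.π.app i₀) :=
    IsPullback.id_vert (c.π.app i₀)
  obtain ⟨i, φ, Xi, Yi, fi, gi, pY, pX, hYi, hXi, hflat⟩ :=
    Groth.Agent.S2075.result D c hc i₀ f₀ (𝟙 _) f' (𝟙 _) (c.π.app i₀) g hY h4
  obtain ⟨i', φ', Xi', Yi', fi', gi', pY', pX', hYi', hXi', hproper⟩ :=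
    Groth.Agent.S2074.result D c hc i₀ f₀ (𝟙 _) f' (𝟙 _) (c.π.app i₀) g hY h4
  haveI : IsIso gi := hYi.isIso_snd_of_isIso
  haveI : IsIso gi' := hYi'.isIso_snd_of_isIso
  have hright : IsPullback pX (fi ≫ gi) f₀ (D.map φ) := by
    have := hXi.paste_vert hYi
    rwa [Category.comp_id] at this
  have hright' : IsPullback pX' (fi' ≫ gi') f₀ (D.map φ') := by
    have := hXi'.paste_vert hYi'
    rwa [Category.comp_id] at this
  let i'' := IsCofiltered.min i i'
  let a : i'' ⟶ i := IsCofiltered.minToLeft i i'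
  let b : i'' ⟶ i' := IsCofiltered.minToRight i i'
  have hab : a ≫ φ = b ≫ φ' := Subsingleton.elim _ _
  let ψ : i'' ⟶ i₀ := a ≫ φ
  let f'' := pullback.snd f₀ (D.map ψ)
  have hpb'' : IsPullback (pullback.fst f₀ (D.map ψ)) f'' f₀ (D.map ψ) :=
    IsPullback.of_hasPullback _ _
  -- flatness
  haveI : Flat f'' := by
    have hψ : D.map ψ = D.map a ≫ D.map φ := D.map_comp a φ
    let l : pullback f₀ (D.map ψ) ⟶ Xi := hright.lift (pullback.fst f₀ (D.map ψ))
      (f'' ≫ D.map a) (by rw [hpb''.w, Category.assoc]; exact congrArg (f'' ≫ ·) hψ)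
    have hl1 : l ≫ pX = pullback.fst f₀ (D.map ψ) := hright.lift_fst _ _ _
    have hl2 : l ≫ (fi ≫ gi) = f'' ≫ D.map a := hright.lift_snd _ _ _
    have hleft : IsPullback l f'' (fi ≫ gi) (D.map a) := by
      refine IsPullback.of_right ?_ hl2 hright
      rw [hl1, ← hψ]
      exact hpb''
    haveI : Flat (fi ≫ gi) := inferInstance
    exact MorphismProperty.of_isPullback (P := @Flat) hleft inferInstance
  -- properness
  haveI : IsProper f'' := by
    have hψ : D.map ψ = D.map b ≫ D.map φ' := by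
      change D.map (a ≫ φ) = _
      rw [hab]
      exact D.map_comp b φ'
    let l : pullback f₀ (D.map ψ) ⟶ Xi' := hright'.lift (pullback.fst f₀ (D.map ψ))
      (f'' ≫ D.map b) (by rw [hpb''.w, Category.assoc]; exact congrArg (f'' ≫ ·) hψ)
    have hl1 : l ≫ pX' = pullback.fst f₀ (D.map ψ) := hright'.lift_fst _ _ _
    have hl2 : l ≫ (fi' ≫ gi') = f'' ≫ D.map b := hright'.lift_snd _ _ _
    have hleft : IsPullback l f'' (fi' ≫ gi') (D.map b) := by
      refine IsPullback.of_right ?_ hl2 hright'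
      rw [hl1, ← hψ]
      exact hpb''
    haveI : IsProper (fi' ≫ gi') := inferInstance
    exact MorphismProperty.of_isPullback (P := @IsProper) hleft inferInstance
  haveI : LocallyOfFinitePresentation f'' :=
    MorphismProperty.of_isPullback (P := @LocallyOfFinitePresentation) hpb'' h1
  -- the pullback square with the limit
  have hw : c.π.app i'' ≫ D.map ψ = c.π.app i₀ := c.w ψ
  let h₁₁ : X ⟶ pullback f₀ (D.map ψ) := hpb''.lift g (f' ≫ c.π.app i'') (by
    rw [h4.w, ← hw]; simp only [Category.assoc])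
  have hh1 : h₁₁ ≫ pullback.fst f₀ (D.map ψ) = g := hpb''.lift_fst _ _ _
  have hh2 : h₁₁ ≫ f'' = f' ≫ c.π.app i'' := hpb''.lift_snd _ _ _
  have houter : IsPullback (h₁₁ ≫ pullback.fst f₀ (D.map ψ)) f' f₀ (c.π.app i'' ≫ D.map ψ) := by
    rw [hh1, hw]; exact h4
  have hleft : IsPullback h₁₁ f' f'' (c.π.app i'') := IsPullback.of_right houter hh2 hpb''
  have hsq : IsPullback (𝟙 X) f f' e.inv := IsPullback.of_horiz_isIso ⟨by simp [f']⟩
  have hpaste := hsq.paste_horiz hleft
  rw [Category.id_comp] at hpaste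
  haveI := hnoeth i''
  exact ⟨pullback f₀ (D.map ψ), D.obj i'', f'', e.inv ≫ c.π.app i'', h₁₁, hpaste, { },
    inferInstance, inferInstance, inferInstance⟩

/-- **S2553**: for a proper flat morphism of finite presentation the locus of points with
geometrically integral fibre is open -/
theorem isOpen_Eint {X Y : Scheme.{u}} (f : X ⟶ Y) [IsProper f] [Flat f]
    [LocallyOfFinitePresentation f] : IsOpen (Eint f) := by
  rw [isOpen_iff_forall_mem_open]
  intro y hy
  obtain ⟨_, ⟨(V : Y.Opens), hV, rfl⟩, hyV, -⟩ := Y.isBasis_affineOpens.exists_subset_of_mem_open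
    (Set.mem_univ y) isOpen_univ
  haveI : IsAffine V.toScheme := hV
  let fV := f ∣_ V
  haveI : IsProper fV := inferInstance
  haveI : Flat fV := inferInstance
  haveI : LocallyOfFinitePresentation fV := inferInstance
  obtain ⟨X₀, S₀, f₀, g, g', hpb, hS₀, h1, h2, h3⟩ := exists_proper_flat_noetherian_model fV
  haveI : IsLocallyNoetherian S₀ := inferInstance
  haveI : NoetherianSpace S₀ := inferInstance
  have hopen₀ := isOpen_Eint_of_noetherian f₀
  have hE1 : Eint fV = g ⁻¹' Eint f₀ := Eint_of_isPullback hpb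
  have hE2 : Eint fV = V.ι ⁻¹' Eint f :=
    Eint_of_isPullback (isPullback_morphismRestrict f V).flip
  have hopenV : IsOpen (Eint fV) := by
    rw [hE1]
    exact hopen₀.preimage g.continuous
  refine ⟨V.ι '' Eint fV, ?_, V.ι.isOpenEmbedding.isOpenMap _ hopenV, ?_⟩
  · rintro _ ⟨v, hv, rfl⟩
    rw [hE2] at hv
    exact hv
  · refine ⟨⟨y, hyV⟩, ?_, rfl⟩
    rw [hE2]
    exact hy

end Groth.Agent.Lib.Helper21.GInt
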