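import Mathlib

/-!
# Field theory for geometric point counts

* `mem_range_of_normal`: images of embeddings into a bigger field land in a normal extension.
* `exists_normal_finite_extension`: a finite normal extension receiving a finite family of finite
  extensions.
-/

universe u v
set_option linter.style.haveILetI false
open Polynomial

namespace Groth.Agent.Lib.Helper21.GPC

/-- Let `L/K` be normal, `E/K` an extension with a `K`-embedding `e : E → L`, `ι : L → Ω` a field
embedding and `τ : E → Ω` another `K`-embedding.  Then `τ` lands in `ι(L)`. -/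
theorem mem_range_of_normal {K L E Ω : Type*} [Field K] [Field L] [Field E] [Field Ω]
    [Algebra K L] [Normal K L] [Algebra K E] (e : E →ₐ[K] L) (ι : L →+* Ω) (τ : E →+* Ω)
    (hτ : τ.comp (algebraMap K E) = ι.comp (algebraMap K L)) (α : E) : τ α ∈ ι.range := by
  have hmin : minpoly K (e α) = minpoly K α := minpoly.algHom_eq e e.injective α
  have hsp : ((minpoly K (e α)).map (algebraMap K L)).Splits := Normal.splits inferInstance (e α)
  have hint : IsIntegral K (e α) := Normal.isIntegral inferInstance (e α)
  have hne : (minpoly K (e α)).map (algebraMap K L) ≠ 0 :=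
    Polynomial.map_ne_zero (minpoly.ne_zero hint)
  refine hsp.mem_range_of_isRoot hne (i := ι) (x := τ α) ?_
  rw [Polynomial.IsRoot.def, Polynomial.map_map, ← hτ, hmin, ← Polynomial.map_map,
    Polynomial.eval_map, Polynomial.eval₂_hom, Polynomial.eval_map_algebraMap, minpoly.aeval,
    map_zero]

/-- Factorisation form of `mem_range_of_normal`. -/
theorem exists_factor_of_normal {K L E Ω : Type*} [Field K] [Field L] [Field E] [Field Ω]
    [Algebra K L] [Normal K L] [Algebra K E] (e : E →ₐ[K] L) (ι : L →+* Ω) (τ : E →+* Ω)
    (hτ : τ.comp (algebraMap K E) = ι.comp (algebraMap K L)) :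
    ∃ σ : E →+* L, ι.comp σ = τ ∧ σ.comp (algebraMap K E) = algebraMap K L := by
  have hr : ∀ α : E, τ α ∈ ι.range := mem_range_of_normal e ι τ hτ
  let ι' : L ≃+* ι.range := RingEquiv.ofBijective ι.rangeRestrict
    ⟨fun a b h => ι.injective (congrArg Subtype.val h), ι.rangeRestrict_surjective⟩
  let τ' : E →+* ι.range := τ.codRestrict ι.range hr
  let σ : E →+* L := ι'.symm.toRingHom.comp τ'
  have hσ : ∀ α, ι (σ α) = τ α := by
    intro α
    have h1 : ι' (σ α) = τ' α := ι'.apply_symm_apply (τ' α)
    exact congrArg Subtype.val h1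
  refine ⟨σ, RingHom.ext hσ, ?_⟩
  ext a
  apply ι.injective
  rw [RingHom.comp_apply, hσ]
  exact congrFun (congrArg DFunLike.coe hτ) a

/-- A finite family of finite extensions of `K` embeds in a common finite normal extension. -/
theorem exists_normal_finite_extension (K : Type u) [Field K] {ι : Type v} [Finite ι]
    (E : ι → Type u) [∀ i, Field (E i)] (a : ∀ i, K →+* E i) (hfin : ∀ i, (a i).Finite) :
    ∃ (L : Type u) (_ : Field L) (_ : Algebra K L), FiniteDimensional K L ∧ Normal K L ∧
      ∀ i, ∃ e : E i →+* L, e.comp (a i) = algebraMap K L := by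
  classical
  letI alg : ∀ i, Algebra K (E i) := fun i => (a i).toAlgebra
  haveI fd : ∀ i, FiniteDimensional K (E i) := fun i => hfin i
  let Ω := AlgebraicClosure K
  let lift : ∀ i, E i →ₐ[K] Ω := fun i => IsAlgClosed.lift
  let F : IntermediateField K Ω := ⨆ i, (lift i).fieldRange
  haveI : ∀ i, FiniteDimensional K (lift i).fieldRange := fun i => by
    let g : E i →ₐ[K] (lift i).fieldRange :=
      (lift i).codRestrict (lift i).fieldRange.toSubalgebra (fun x => ⟨x, rfl⟩)
    refine Module.Finite.of_surjective g.toLinearMap ?_
    rintro ⟨_, ⟨x, rfl⟩⟩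
    exact ⟨x, Subtype.ext rfl⟩
  haveI : FiniteDimensional K F := IntermediateField.finiteDimensional_iSup_of_finite
  let L : IntermediateField K Ω := IntermediateField.normalClosure K F Ω
  haveI : Normal K L := normalClosure.normal K F Ω
  haveI : FiniteDimensional K L := normalClosure.is_finiteDimensional K F Ω
  refine ⟨L, inferInstance, inferInstance, inferInstance, inferInstance, fun i => ?_⟩
  have hmem : ∀ x : E i, lift i x ∈ L := fun x =>
    (IntermediateField.le_normalClosure F) ((le_iSup (fun i => (lift i).fieldRange) i) ⟨x, rfl⟩)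
  let e : E i →ₐ[K] L := (lift i).codRestrict L.toSubalgebra hmem
  refine ⟨e.toRingHom, ?_⟩
  ext k
  exact congrArg Subtype.val (e.commutes k)

end Groth.Agent.Lib.Helper21.GPC
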