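import Mathlib
import Groth.Agent.Lib.Helper18.Nag5
import Groth.Agent.Lib.Helper12.HensInt
import Groth.Agent.Lib.Helper12.IntegralDim
import Groth.Agent.Lib.Helper21.NagDvr1
import Groth.Agent.Lib.Helper4.HzsBC1

/-!
# Normalisation of a complete discrete valuation ring in a finite extension of its fraction field
-/

set_option autoImplicit false
set_option linter.style.haveILetI false
set_option linter.unusedSectionVars false
universe u

namespace Groth.Agent.Lib.Helper21.GPC

open IsLocalRing

/-- The integral closure of a complete discrete valuation ring in a finite extension of its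
fraction field is a discrete valuation ring, finite over the base. -/
theorem exists_dvr_in_extension (A : Type u) [CommRing A] [IsDomain A] [IsDiscreteValuationRing A]
    [IsAdicComplete (maximalIdeal A) A] (L : Type u) [Field L] [Algebra A L]
    [Algebra (FractionRing A) L] [IsScalarTower A (FractionRing A) L]
    [FiniteDimensional (FractionRing A) L] :
    ∃ (B : Type u) (_ : CommRing B) (_ : IsDomain B) (_ : IsDiscreteValuationRing B)
      (_ : Algebra A B) (_ : Algebra B L) (_ : IsScalarTower A B L),
      Module.Finite A B ∧ IsFractionRing B L ∧ Function.Injective (algebraMap A B) := by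
  have hN2 : CAlg.IsN2 A := Groth.Agent.Lib.Helper18.Nag.isN2_of_isAdicComplete_of_isDomain A
  let B := integralClosure A L
  haveI hfinAB : Module.Finite A B := hN2 L inferInstance
  haveI : IsFractionRing B L :=
    integralClosure.isFractionRing_of_finite_extension (FractionRing A) L
  have hinjAL : Function.Injective (algebraMap A L) := by
    rw [IsScalarTower.algebraMap_eq A (FractionRing A) L]
    exact (algebraMap (FractionRing A) L).injective.comp (IsFractionRing.injective A _)
  have hinjAB : Function.Injective (algebraMap A B) := by
    intro a b hab
    apply hinjAL
    have := congrArg (algebraMap B L) hab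
    simpa [← IsScalarTower.algebraMap_apply] using this
  haveI : IsIntegrallyClosed B :=
    integralClosure.isIntegrallyClosedOfFiniteExtension (R := A) (FractionRing A) (L := L)
  haveI : IsNoetherianRing B := IsNoetherianRing.of_finite A B
  haveI : HenselianRing A (maximalIdeal A) := inferInstance
  haveI : HenselianLocalRing A :=
    Groth.Agent.Lib.Helper12.HensInt.henselianLocalRing_of_henselianRing_maximalIdeal A
  haveI hloc : IsLocalRing B :=
    Groth.Agent.Lib.Helper12.HensInt.isLocalRing_of_isDomain_of_finite A B
  haveI : Algebra.IsIntegral A B := Algebra.IsIntegral.of_finite A B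
  have hdim : ringKrullDim B = 1 := by
    rw [← Groth.Agent.Lib.Helper12.ringKrullDim_eq_of_isIntegral_of_injective A B hinjAB]
    exact IsDiscreteValuationRing.ringKrullDim_eq_one A
  have hdvr : IsDiscreteValuationRing B :=
    Groth.Agent.Lib.Helper21.NagDvr.isDiscreteValuationRing_of_normal_dim_one B hdim
  exact ⟨B, inferInstance, inferInstance, hdvr, inferInstance, inferInstance, inferInstance,
    hfinAB, inferInstance, hinjAB⟩

/-- A local ring finite over a local ring with algebraically closed residue field has an
algebraically closed residue field. -/
theorem isAlgClosed_residueField_of_finite (A B : Type u) [CommRing A] [IsLocalRing A]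
    [CommRing B] [IsLocalRing B] [Algebra A B] [Module.Finite A B]
    (hinj : Function.Injective (algebraMap A B)) [IsAlgClosed (ResidueField A)] :
    IsAlgClosed (ResidueField B) := by
  haveI : Algebra.IsIntegral A B := Algebra.IsIntegral.of_finite A B
  haveI : FaithfulSMul A B := (faithfulSMul_iff_algebraMap_injective A B).mpr hinj
  haveI : IsLocalHom (algebraMap A B) := Algebra.IsIntegral.isLocalHom A B
  haveI : Algebra.IsIntegral (ResidueField A) (ResidueField B) :=
    Groth.Agent.Lib.Helper4.Hzs.isIntegral_residueField_of_isIntegral A B
  have hb : Function.Bijective (algebraMap (ResidueField A) (ResidueField B)) :=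
    IsAlgClosed.algebraMap_bijective_of_isIntegral
  exact IsAlgClosed.of_ringEquiv (ResidueField A) (ResidueField B)
    (RingEquiv.ofBijective _ hb)

end Groth.Agent.Lib.Helper21.GPC
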