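import Mathlib
import Groth.Agent.Lib.Helper21.GPC1
import Groth.Agent.Lib.Helper21.DvrCrit1

/-!
# Rational points of generic fibres after a normal extension

* `toRes h x : A →+* κ(x)` for `h : X ⟶ Spec A`.
* `surjective_residueFieldMap_of_point`: the image of a `Frac A`-point of `X` over `Spec A`
  has residue field `Frac A`.
* `exists_point_of_normal`: after base change to a domain whose fraction field is normal over
  that of the base and receives all residue fields of the generic fibre, all points of the
  generic fibre are rational.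
-/

set_option autoImplicit false
set_option linter.style.haveILetI false
set_option linter.unusedSectionVars false
universe u
open AlgebraicGeometry CategoryTheory Limits

namespace Groth.Agent.Lib.Helper21.GPC

open Groth.Agent.Lib.Helper21.DvrCrit

section toRes

variable {X : Scheme.{u}} {A : Type u} [CommRing A]

/-- The ring map `A → κ(x)` attached to `h : X ⟶ Spec A`. -/
noncomputable def toRes (h : X ⟶ Spec (CommRingCat.of A)) (x : X) : A →+* X.residueField x :=
  (Spec.preimage (X.fromSpecResidueField x ≫ h)).hom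

theorem spec_map_toRes (h : X ⟶ Spec (CommRingCat.of A)) (x : X) :
    Spec.map (CommRingCat.ofHom (toRes h x)) = X.fromSpecResidueField x ≫ h :=
  Spec.map_preimage _

theorem ker_toRes (h : X ⟶ Spec (CommRingCat.of A)) (x : X) :
    RingHom.ker (toRes h x) = (h x).asIdeal := by
  have h1 : (X.fromSpecResidueField x ≫ h) (IsLocalRing.closedPoint (X.residueField x)) = h x := by
    rw [Scheme.Hom.comp_apply, Scheme.fromSpecResidueField_apply]
  rw [← spec_map_toRes] at h1
  rw [← h1]
  change RingHom.ker (toRes h x) =
    Ideal.comap (toRes h x) (IsLocalRing.maximalIdeal (X.residueField x))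
  rw [IsLocalRing.maximalIdeal_eq_bot, RingHom.ker_eq_comap_bot]

theorem toRes_injective [IsDomain A] (h : X ⟶ Spec (CommRingCat.of A)) (x : X)
    (hx : h x = genPt A) : Function.Injective (toRes h x) := by
  rw [RingHom.injective_iff_ker_eq_bot, ker_toRes, hx]
  rfl

theorem toRes_comp_specMap {B : Type u} [CommRing B] (h : X ⟶ Spec (CommRingCat.of A))
    (φ : B →+* A) (x : X) :
    toRes (h ≫ Spec.map (CommRingCat.ofHom φ)) x = (toRes h x).comp φ := by
  have h1 : Spec.map (CommRingCat.ofHom (toRes (h ≫ Spec.map (CommRingCat.ofHom φ)) x)) =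
      Spec.map (CommRingCat.ofHom ((toRes h x).comp φ)) := by
    rw [spec_map_toRes, CommRingCat.ofHom_comp, Spec.map_comp, spec_map_toRes, Category.assoc]
  have h2 := Spec.map_injective h1
  exact congrArg CommRingCat.Hom.hom h2

theorem toRes_comp {X' : Scheme.{u}} (g : X' ⟶ X) (h : X ⟶ Spec (CommRingCat.of A)) (x' : X') :
    toRes (g ≫ h) x' = (g.residueFieldMap x').hom.comp (toRes h (g x')) := by
  have h1 : Spec.map (CommRingCat.ofHom (toRes (g ≫ h) x')) =
      Spec.map (CommRingCat.ofHom ((g.residueFieldMap x').hom.comp (toRes h (g x')))) := by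
    rw [spec_map_toRes, CommRingCat.ofHom_comp, Spec.map_comp, spec_map_toRes,
      CommRingCat.ofHom_hom,
      Scheme.Hom.SpecMap_residueFieldMap_fromSpecResidueField_assoc]
  have h2 := Spec.map_injective h1
  exact congrArg CommRingCat.Hom.hom h2

end toRes

section points

variable {A : Type u} [CommRing A] [IsDomain A]

/-- The image of a `Frac A`-point of `P` over `Spec A` has residue field `Frac A`. -/
theorem surjective_residueFieldMap_of_point {P : Scheme.{u}} (L : Type u) [Field L] [Algebra A L]
    [IsFractionRing A L] (h : P ⟶ Spec (CommRingCat.of A))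
    (p : Spec (CommRingCat.of L) ⟶ P)
    (hp : p ≫ h = Spec.map (CommRingCat.ofHom (algebraMap A L))) :
    Function.Surjective (h.residueFieldMap (p (IsLocalRing.closedPoint L))).hom := by
  obtain ⟨x, hx⟩ : ∃ x, p (IsLocalRing.closedPoint L) = x := ⟨_, rfl⟩
  let χ : P.residueField (p (IsLocalRing.closedPoint L)) ⟶ CommRingCat.of L :=
    Scheme.descResidueField (Scheme.stalkClosedPointTo p)
  have hχ : Spec.map χ ≫ P.fromSpecResidueField (p (IsLocalRing.closedPoint L)) = p :=
    Scheme.descResidueField_stalkClosedPointTo_fromSpecResidueField L P p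
  let r := h.residueFieldMap (p (IsLocalRing.closedPoint L))
  let c := toRes (𝟙 (Spec (CommRingCat.of A))) (h (p (IsLocalRing.closedPoint L)))
  have hc : χ.hom.comp (r.hom.comp c) = algebraMap A L := by
    have h1 : Spec.map (CommRingCat.ofHom (χ.hom.comp (r.hom.comp c))) =
        Spec.map (CommRingCat.ofHom (algebraMap A L)) := by
      rw [CommRingCat.ofHom_comp, CommRingCat.ofHom_comp, Spec.map_comp, Spec.map_comp,
        spec_map_toRes, Category.comp_id, CommRingCat.ofHom_hom, CommRingCat.ofHom_hom,
        Scheme.Hom.SpecMap_residueFieldMap_fromSpecResidueField, ← Category.assoc, hχ, hp]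
    exact congrArg CommRingCat.Hom.hom (Spec.map_injective h1)
  have hc' : ∀ a, χ.hom (r.hom (c a)) = algebraMap A L a := fun a =>
    congrFun (congrArg DFunLike.coe hc) a
  intro z
  obtain ⟨a, b, hb, hab⟩ := IsFractionRing.div_surjective (A := A) (χ.hom z)
  have hb0 : algebraMap A L b ≠ 0 := by
    intro h0
    exact (nonZeroDivisors.ne_zero hb) ((IsFractionRing.injective A L) (by rw [h0, map_zero]))
  have hcb : c b ≠ 0 := by
    intro h0
    apply hb0
    rw [← hc', h0, map_zero, map_zero]
  refine ⟨c a / c b, ?_⟩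
  apply χ.hom.injective
  rw [map_div₀, map_div₀, hc', hc', hab]

end points

section normal

variable {A₁ A : Type u} [CommRing A₁] [IsDomain A₁] [CommRing A] [IsDomain A] [Algebra A₁ A]

/-- After base change to a domain `A` whose fraction field `L` is normal over `Frac A₁` and
receives all residue fields of the generic fibre of `f₁`, every point of the generic fibre of
the base change is the image of an `L`-point. -/
theorem exists_point_of_normal {X₁ P : Scheme.{u}} (L : Type u) [Field L] [Algebra A L]
    [IsFractionRing A L] [Algebra A₁ L] [IsScalarTower A₁ A L]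
    [Algebra (FractionRing A₁) L] [IsScalarTower A₁ (FractionRing A₁) L]
    [Normal (FractionRing A₁) L]
    (f₁ : X₁ ⟶ Spec (CommRingCat.of A₁)) (fst : P ⟶ X₁) (snd : P ⟶ Spec (CommRingCat.of A))
    (hsq : IsPullback fst snd f₁ (Spec.map (CommRingCat.ofHom (algebraMap A₁ A))))
    (hE : ∀ x' : X₁, f₁ x' = genPt A₁ →
      ∃ e : X₁.residueField x' →+* L, e.comp (toRes f₁ x') = algebraMap A₁ L)
    (x'' : P) (hx'' : snd x'' = genPt A) :
    ∃ p : Spec (CommRingCat.of L) ⟶ P,
      p ≫ snd = Spec.map (CommRingCat.ofHom (algebraMap A L)) ∧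
      p (IsLocalRing.closedPoint L) = x'' := by
  have hinjAL : Function.Injective (algebraMap A L) := IsFractionRing.injective A L
  have hinjA₁L : Function.Injective (algebraMap A₁ L) := by
    rw [IsScalarTower.algebraMap_eq A₁ (FractionRing A₁) L]
    exact (algebraMap (FractionRing A₁) L).injective.comp (IsFractionRing.injective A₁ _)
  have hinjA₁A : Function.Injective (algebraMap A₁ A) := by
    rw [IsScalarTower.algebraMap_eq A₁ A L] at hinjA₁L
    exact Function.Injective.of_comp hinjA₁L
  obtain ⟨x', hx'def⟩ : ∃ x', fst x'' = x' := ⟨_, rfl⟩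
  have hx' : f₁ x' = genPt A₁ := by
    have h1 : f₁ (fst x'') = (Spec.map (CommRingCat.ofHom (algebraMap A₁ A))) (snd x'') := by
      rw [← Scheme.Hom.comp_apply, ← Scheme.Hom.comp_apply, hsq.w]
    rw [← hx'def, h1, hx'']
    apply PrimeSpectrum.ext
    change Ideal.comap (algebraMap A₁ A) ⊥ = ⊥
    exact Ideal.comap_bot_of_injective _ hinjA₁A
  subst hx'def
  -- the ring maps
  let a'' : A →+* P.residueField x'' := toRes snd x''
  let a' : A₁ →+* X₁.residueField (fst x'') := toRes f₁ (fst x'')
  have ha''inj : Function.Injective a'' := toRes_injective snd x'' hx''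
  have ha'inj : Function.Injective a' := toRes_injective f₁ (fst x'') hx'
  let r : X₁.residueField (fst x'') →+* P.residueField x'' := (fst.residueFieldMap x'').hom
  have hcompat : r.comp a' = a''.comp (algebraMap A₁ A) := by
    have h1 : toRes (fst ≫ f₁) x'' = r.comp a' := toRes_comp fst f₁ x''
    have h2 : toRes (snd ≫ Spec.map (CommRingCat.ofHom (algebraMap A₁ A))) x'' =
        a''.comp (algebraMap A₁ A) := toRes_comp_specMap snd _ x''
    rw [← h1, ← h2, hsq.w]
  let Ω := AlgebraicClosure (P.residueField x'')
  let j : P.residueField x'' →+* Ω := algebraMap _ _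
  have hjinj : Function.Injective (j.comp a'') := j.injective.comp ha''inj
  let ι : L →+* Ω := IsFractionRing.lift hjinj
  have hι : ∀ a : A, ι (algebraMap A L a) = j (a'' a) := fun a =>
    IsFractionRing.lift_algebraMap hjinj a
  let τ : X₁.residueField (fst x'') →+* Ω := j.comp r
  letI algE : Algebra (FractionRing A₁) (X₁.residueField (fst x'')) :=
    (IsFractionRing.lift ha'inj).toAlgebra
  have halgE : ∀ a : A₁, algebraMap (FractionRing A₁) (X₁.residueField (fst x''))
      (algebraMap A₁ (FractionRing A₁) a) = a' a := fun a =>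
    IsFractionRing.lift_algebraMap ha'inj a
  obtain ⟨e, he⟩ := hE (fst x'') hx'
  have he' : e.comp (algebraMap (FractionRing A₁) (X₁.residueField (fst x''))) =
      algebraMap (FractionRing A₁) L := by
    apply IsLocalization.ringHom_ext (nonZeroDivisors A₁)
    ext a
    rw [RingHom.comp_apply, RingHom.comp_apply, halgE, RingHom.comp_apply,
      ← IsScalarTower.algebraMap_apply]
    exact congrFun (congrArg DFunLike.coe he) a
  let eAlg : X₁.residueField (fst x'') →ₐ[FractionRing A₁] L :=
    { e with commutes' := fun k => congrFun (congrArg DFunLike.coe he') k }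
  have hτ : τ.comp (algebraMap (FractionRing A₁) (X₁.residueField (fst x''))) =
      ι.comp (algebraMap (FractionRing A₁) L) := by
    apply IsLocalization.ringHom_ext (nonZeroDivisors A₁)
    ext a
    change τ (algebraMap (FractionRing A₁) _ (algebraMap A₁ (FractionRing A₁) a)) =
      ι (algebraMap (FractionRing A₁) L (algebraMap A₁ (FractionRing A₁) a))
    rw [halgE, ← IsScalarTower.algebraMap_apply A₁ (FractionRing A₁) L,
      IsScalarTower.algebraMap_apply A₁ A L, hι]
    change j (r (a' a)) = j (a'' (algebraMap A₁ A a))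
    rw [show r (a' a) = a'' (algebraMap A₁ A a) from congrFun (congrArg DFunLike.coe hcompat) a]
  obtain ⟨σ, hσ1, hσ2⟩ := exists_factor_of_normal eAlg ι τ hτ
  have hσa : σ.comp a' = algebraMap A₁ L := by
    ext a
    rw [RingHom.comp_apply, ← halgE, IsScalarTower.algebraMap_apply A₁ (FractionRing A₁) L]
    exact congrFun (congrArg DFunLike.coe hσ2) _
  -- the point
  let p₁ : Spec (CommRingCat.of L) ⟶ X₁ :=
    Spec.map (CommRingCat.ofHom σ) ≫ X₁.fromSpecResidueField (fst x'')
  let p₂ : Spec (CommRingCat.of L) ⟶ Spec (CommRingCat.of A) :=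
    Spec.map (CommRingCat.ofHom (algebraMap A L))
  have hp12 : p₁ ≫ f₁ = p₂ ≫ Spec.map (CommRingCat.ofHom (algebraMap A₁ A)) := by
    change (Spec.map (CommRingCat.ofHom σ) ≫ X₁.fromSpecResidueField (fst x'')) ≫ f₁ =
      Spec.map (CommRingCat.ofHom (algebraMap A L)) ≫
        Spec.map (CommRingCat.ofHom (algebraMap A₁ A))
    rw [Category.assoc, ← spec_map_toRes, ← Spec.map_comp, ← Spec.map_comp,
      ← CommRingCat.ofHom_comp, ← CommRingCat.ofHom_comp]
    change Spec.map (CommRingCat.ofHom (σ.comp a')) = _
    rw [hσa, IsScalarTower.algebraMap_eq A₁ A L]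
  let p : Spec (CommRingCat.of L) ⟶ P := hsq.lift p₁ p₂ hp12
  have hp1 : p ≫ fst = p₁ := hsq.lift_fst _ _ _
  have hp2 : p ≫ snd = p₂ := hsq.lift_snd _ _ _
  have hkey : Spec.map (CommRingCat.ofHom ι) ≫ p =
      Spec.map (CommRingCat.ofHom j) ≫ P.fromSpecResidueField x'' := by
    apply hsq.hom_ext
    · rw [Category.assoc, hp1, Category.assoc]
      change Spec.map (CommRingCat.ofHom ι) ≫ Spec.map (CommRingCat.ofHom σ) ≫
        X₁.fromSpecResidueField (fst x'') = _
      rw [← Scheme.Hom.SpecMap_residueFieldMap_fromSpecResidueField, ← Spec.map_comp_assoc,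
        ← Spec.map_comp_assoc, ← CommRingCat.ofHom_comp]
      congr 2
      rw [hσ1]
      rfl
    · rw [Category.assoc, hp2, Category.assoc, ← spec_map_toRes]
      change Spec.map (CommRingCat.ofHom ι) ≫ Spec.map (CommRingCat.ofHom (algebraMap A L)) =
        Spec.map (CommRingCat.ofHom j) ≫ Spec.map (CommRingCat.ofHom a'')
      rw [← Spec.map_comp, ← Spec.map_comp, ← CommRingCat.ofHom_comp, ← CommRingCat.ofHom_comp]
      congr 2
      ext a
      exact hι a
  refine ⟨p, hp2, ?_⟩
  have hpt : IsLocalRing.closedPoint L =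
      (Spec.map (CommRingCat.ofHom ι)) (IsLocalRing.closedPoint Ω) :=
    Subsingleton.elim (α := PrimeSpectrum L) _ _
  rw [hpt, ← Scheme.Hom.comp_apply, hkey, Scheme.Hom.comp_apply,
    Scheme.fromSpecResidueField_apply]

end normal

end Groth.Agent.Lib.Helper21.GPC
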