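import Mathlib
import Groth.Agent.Lib.Helper21.GPC3
import Groth.Agent.Lib.Helper6.GN1

/-!
# Residue fields of `Spec A` at the generic and the closed point
-/

set_option autoImplicit false
set_option linter.style.haveILetI false
set_option linter.unusedSectionVars false
universe u
open AlgebraicGeometry CategoryTheory Limits

namespace Groth.Agent.Lib.Helper21.GPC

open Groth.Agent.Lib.Helper21.DvrCrit

section

variable {A : Type u} [CommRing A]

theorem toRes_id_eq (s : Spec (CommRingCat.of A)) :
    toRes (𝟙 (Spec (CommRingCat.of A))) s =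
      (Scheme.Spec.residueFieldIso (CommRingCat.of A) s).inv.hom.comp
        (algebraMap A s.asIdeal.ResidueField) := by
  have h1 : Spec.map (CommRingCat.ofHom (toRes (𝟙 (Spec (CommRingCat.of A))) s)) =
      Spec.map (CommRingCat.ofHom ((Scheme.Spec.residueFieldIso (CommRingCat.of A) s).inv.hom.comp
        (algebraMap A s.asIdeal.ResidueField))) := by
    rw [spec_map_toRes, Category.comp_id, CommRingCat.ofHom_comp, Spec.map_comp,
      CommRingCat.ofHom_hom]
    exact (Scheme.Spec.map_residueFieldIso_inv_eq_fromSpecResidueField (CommRingCat.of A) s).symm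
  exact congrArg CommRingCat.Hom.hom (Spec.map_injective h1)

/-- every element of the residue field of `Spec A` at `s` is a quotient of images of elements
of `A`. -/
theorem exists_div_eq (s : Spec (CommRingCat.of A)) (z : (Spec (CommRingCat.of A)).residueField s) :
    ∃ a b : A, b ∉ s.asIdeal ∧ toRes (𝟙 (Spec (CommRingCat.of A))) s b ≠ 0 ∧
      z = toRes (𝟙 (Spec (CommRingCat.of A))) s a / toRes (𝟙 (Spec (CommRingCat.of A))) s b := by
  let iso := Scheme.Spec.residueFieldIso (CommRingCat.of A) s
  obtain ⟨q₁, q₂, hq₂, hq⟩ := IsFractionRing.div_surjective (A := A ⧸ s.asIdeal) (iso.hom.hom z)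
  obtain ⟨a, rfl⟩ := Ideal.Quotient.mk_surjective q₁
  obtain ⟨b, rfl⟩ := Ideal.Quotient.mk_surjective q₂
  have hb : b ∉ s.asIdeal := by
    intro hb
    have : (Ideal.Quotient.mk s.asIdeal b) = 0 := Ideal.Quotient.eq_zero_iff_mem.mpr hb
    exact nonZeroDivisors.ne_zero hq₂ this
  have hsc : ∀ a : A, algebraMap (A ⧸ s.asIdeal) s.asIdeal.ResidueField
      (Ideal.Quotient.mk s.asIdeal a) = algebraMap A s.asIdeal.ResidueField a := fun a => by
    rw [← Ideal.Quotient.algebraMap_eq, ← IsScalarTower.algebraMap_apply]
  rw [hsc, hsc] at hq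
  have hz : z = iso.inv.hom (iso.hom.hom z) := by
    have := congrArg (fun φ => φ.hom z) iso.hom_inv_id
    exact this.symm
  have hne : algebraMap A s.asIdeal.ResidueField b ≠ 0 := by
    intro h0
    rw [← hsc] at h0
    have := (IsFractionRing.injective (A ⧸ s.asIdeal) s.asIdeal.ResidueField)
      (h0.trans (map_zero _).symm)
    exact nonZeroDivisors.ne_zero hq₂ this
  refine ⟨a, b, hb, ?_, ?_⟩
  · rw [toRes_id_eq, RingHom.comp_apply]
    intro h0
    exact hne (iso.inv.hom.injective (h0.trans (map_zero _).symm))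
  · rw [hz, ← hq, map_div₀, toRes_id_eq, RingHom.comp_apply, RingHom.comp_apply]

variable [IsDomain A]

theorem lift_toRes_surjective (s : Spec (CommRingCat.of A)) (hs : s = genPt A) :
    Function.Surjective (IsFractionRing.lift (K := FractionRing A)
      (toRes_injective (𝟙 (Spec (CommRingCat.of A))) s hs)) := by
  intro z
  obtain ⟨a, b, hb, hb0, hz⟩ := exists_div_eq s z
  refine ⟨algebraMap A (FractionRing A) a / algebraMap A (FractionRing A) b, ?_⟩
  rw [map_div₀, IsFractionRing.lift_algebraMap, IsFractionRing.lift_algebraMap, hz]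

/-- the residue field of a point of the generic fibre of a locally quasi-finite morphism to
`Spec A₁` is finite over the fraction field of `A₁`. -/
theorem finite_lift_toRes {X₁ : Scheme.{u}} (f₁ : X₁ ⟶ Spec (CommRingCat.of A))
    [LocallyQuasiFinite f₁] (x' : X₁) (hx' : f₁ x' = genPt A) :
    (IsFractionRing.lift (K := FractionRing A) (toRes_injective f₁ x' hx')).Finite := by
  let ℓ : FractionRing A →+* (Spec (CommRingCat.of A)).residueField (f₁ x') :=
    IsFractionRing.lift (toRes_injective (𝟙 (Spec (CommRingCat.of A))) (f₁ x') hx')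
  let r₁ := (f₁.residueFieldMap x').hom
  have hcomp : toRes f₁ x' = r₁.comp (toRes (𝟙 (Spec (CommRingCat.of A))) (f₁ x')) := by
    have := toRes_comp f₁ (𝟙 (Spec (CommRingCat.of A))) x'
    rwa [Category.comp_id] at this
  have heq : IsFractionRing.lift (K := FractionRing A) (toRes_injective f₁ x' hx') =
      r₁.comp ℓ := by
    apply IsLocalization.ringHom_ext (nonZeroDivisors A)
    ext a
    rw [RingHom.comp_apply, IsFractionRing.lift_algebraMap, RingHom.comp_apply,
      RingHom.comp_apply, IsFractionRing.lift_algebraMap, hcomp]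
    rfl
  rw [heq]
  have h1 : r₁.Finite :=
    Groth.Agent.Lib.Helper6.EtLoc.finite_residueField_of_quasiFiniteAt f₁ x' (f₁.quasiFiniteAt x')
  have h2 : ℓ.Finite := RingHom.Finite.of_surjective ℓ (lift_toRes_surjective (f₁ x') hx')
  exact h1.comp h2

end

end Groth.Agent.Lib.Helper21.GPC
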