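import Mathlib
import Groth.Agent.Lib.Helper21.GPC2
import Groth.Agent.Lib.Helper21.GPC4
import Groth.Agent.Lib.Helper21.DVRExt3
import Groth.Agent.Lib.Helper21.DvrFin5
import Groth.Agent.Lib.Helper21.DvrFin6
import Groth.Agent.Lib.Helper6.GN2

/-!
# A trait realising the geometric numbers of points of two fibres (EGA IV 15.5.?)
-/

set_option autoImplicit false
set_option linter.style.haveILetI false
set_option linter.unusedSectionVars false
universe u
open AlgebraicGeometry CategoryTheory Limits IsLocalRing

namespace Groth.Agent.Lib.Helper21.GPC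

open Groth.Agent.Lib.Helper21.DvrCrit Groth.Agent.Lib.Helper6

theorem isSepClosed_residueField_closedPoint (B : Type u) [CommRing B] [IsLocalRing B]
    [IsSepClosed (ResidueField B)] (s : Spec (CommRingCat.of B)) (hs : s = closedPoint B) :
    IsSepClosed ((Spec (CommRingCat.of B)).residueField s) := by
  subst hs
  let e : ResidueField ((Spec (CommRingCat.of B)).presheaf.stalk (closedPoint B)) ≃+*
      ResidueField B :=
    IsLocalRing.ResidueField.mapEquiv (stalkClosedPointIso (CommRingCat.of B)).commRingCatIsoToRingEquiv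
  exact GN.isSepClosed_of_ringEquiv e.symm

theorem genericPoint_eq_genPt (B : Type u) [CommRing B] [IsDomain B]
    [IrreducibleSpace ↥(Spec (CommRingCat.of B))] :
    genericPoint ↥(Spec (CommRingCat.of B)) = genPt B := by
  have h1 : IsGenericPoint (genericPoint ↥(Spec (CommRingCat.of B))) ⊤ := genericPoint_spec _
  have h2 : IsGenericPoint (genPt B) (⊤ : Set ↥(Spec (CommRingCat.of B))) := by
    rw [isGenericPoint_def]
    apply Set.eq_univ_of_forall
    intro s
    exact (genPt_specializes B s).mem_closure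
  exact h1.eq h2

/-- card of fibre scheme equals card of set-theoretic fibre -/
theorem card_fiber_eq {X Y : Scheme.{u}} (f : X ⟶ Y) (y : Y) :
    ENat.card ↥(f.fiber y) = ENat.card (f ⁻¹' {y}) :=
  ENat.card_congr (f.fiberHomeo y).toEquiv

/-- **EGA IV 15.5.?**: a trait through a nontrivial specialisation realising the geometric
numbers of points of the two fibres of a quasi-finite morphism. -/
theorem exists_dvr_realizing {X Y : Scheme.{u}} [IsLocallyNoetherian Y] (f : X ⟶ Y)
    [LocallyQuasiFinite f] [QuasiCompact f] (y y' : Y) (hne : y' ≠ y) (hgen : y' ⤳ y) :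
    ∃ (A : Type u) (_ : CommRing A) (_ : IsDomain A) (_ : IsDiscreteValuationRing A)
      (g : Spec (CommRingCat.of A) ⟶ Y),
      g (closedPoint A) = y ∧ g (genPt A) = y' ∧
      MoreMor.nGeomConnComp f y = ENat.card ↥((pullback.snd f g).fiber (closedPoint A)) ∧
      MoreMor.nGeomConnComp f y' = ENat.card ↥((pullback.snd f g).fiber (genPt A)) := by
  obtain ⟨A₀, _, _, _, g₀, hg₀c, hg₀g⟩ :=
    Groth.Agent.Lib.Helper21.DVRExt.exists_dvr_of_specializes y' y hgen hne
  obtain ⟨A₁, _, _, _, _, hcompl, hloc, hinj₀, e, he⟩ :=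
    Groth.Agent.Lib.Helper21.DvrFin.exists_complete_dvr_gonflement A₀
      (AlgebraicClosure (ResidueField A₀))
  haveI := hcompl
  haveI := hloc
  haveI : IsAlgClosed (ResidueField A₁) :=
    IsAlgClosed.of_ringEquiv (k := AlgebraicClosure (ResidueField A₀)) (ResidueField A₁) e.symm
  let g₁ : Spec (CommRingCat.of A₁) ⟶ Y :=
    Spec.map (CommRingCat.ofHom (algebraMap A₀ A₁)) ≫ g₀
  have hg₁c : g₁ (closedPoint A₁) = y := by
    have h : (Spec.map (CommRingCat.ofHom (algebraMap A₀ A₁))) (closedPoint A₁) = closedPoint A₀ :=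
      IsLocalRing.comap_closedPoint (algebraMap A₀ A₁)
    rw [Scheme.Hom.comp_apply, h, hg₀c]
  have hg₁g : g₁ (genPt A₁) = y' := by
    have h := Groth.Agent.Lib.Helper21.DvrFin.map_genPt_of_injective (algebraMap A₀ A₁) hinj₀
    rw [Scheme.Hom.comp_apply]
    change g₀ ((Spec.map (CommRingCat.ofHom (algebraMap A₀ A₁))).base (genPt A₁)) = y'
    rw [h]
    exact hg₀g
  let f₁ : pullback f g₁ ⟶ Spec (CommRingCat.of A₁) := pullback.snd f g₁
  have hFfin : (f₁ ⁻¹' {genPt A₁}).Finite := f₁.finite_preimage_singleton _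
  haveI : Finite ↥(f₁ ⁻¹' {genPt A₁}) := hFfin.to_subtype
  obtain ⟨L, _, _, hfd, hnorm, hemb⟩ := exists_normal_finite_extension (FractionRing A₁)
    (ι := ↥(f₁ ⁻¹' {genPt A₁})) (fun i => (pullback f g₁).residueField i.1)
    (fun i => IsFractionRing.lift (toRes_injective f₁ i.1 i.2))
    (fun i => finite_lift_toRes f₁ i.1 i.2)
  letI : Algebra A₁ L :=
    ((algebraMap (FractionRing A₁) L).comp (algebraMap A₁ (FractionRing A₁))).toAlgebra
  haveI : IsScalarTower A₁ (FractionRing A₁) L := IsScalarTower.of_algebraMap_eq (fun _ => rfl)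
  obtain ⟨B, _, _, _, _, _, _, hfinB, hfrac, hinjB⟩ := exists_dvr_in_extension A₁ L
  haveI := hfinB
  haveI := hfrac
  haveI : IsAlgClosed (ResidueField B) := isAlgClosed_residueField_of_finite A₁ B hinjB
  haveI : Algebra.IsIntegral A₁ B := Algebra.IsIntegral.of_finite A₁ B
  haveI : FaithfulSMul A₁ B := (faithfulSMul_iff_algebraMap_injective A₁ B).mpr hinjB
  haveI : IsLocalHom (algebraMap A₁ B) := Algebra.IsIntegral.isLocalHom A₁ B
  let φ := Spec.map (CommRingCat.ofHom (algebraMap A₁ B))
  let g : Spec (CommRingCat.of B) ⟶ Y := φ ≫ g₁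
  have hgc : g (closedPoint B) = y := by
    have h : φ (closedPoint B) = closedPoint A₁ := IsLocalRing.comap_closedPoint (algebraMap A₁ B)
    rw [Scheme.Hom.comp_apply, h, hg₁c]
  have hgg : g (genPt B) = y' := by
    have h := Groth.Agent.Lib.Helper21.DvrFin.map_genPt_of_injective (algebraMap A₁ B) hinjB
    rw [Scheme.Hom.comp_apply]
    change g₁ (φ.base (genPt B)) = y'
    rw [h]
    exact hg₁g
  -- the square
  let snd := pullback.snd f g
  let fst' : pullback f g ⟶ pullback f g₁ :=
    pullback.lift (pullback.fst f g) (pullback.snd f g ≫ φ)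
      (by rw [Category.assoc, pullback.condition])
  have hfst1 : fst' ≫ pullback.fst f g₁ = pullback.fst f g := pullback.lift_fst _ _ _
  have hfst2 : fst' ≫ f₁ = snd ≫ φ := pullback.lift_snd _ _ _
  have hsq : IsPullback fst' snd f₁ φ := by
    refine IsPullback.of_right ?_ hfst2 (IsPullback.of_hasPullback f g₁)
    rw [hfst1]
    exact IsPullback.of_hasPullback f g
  haveI : LocallyQuasiFinite snd := inferInstanceAs (LocallyQuasiFinite (pullback.snd f g))
  have hbc : ∀ s, MoreMor.nGeomConnComp snd s = MoreMor.nGeomConnComp f (g s) := fun s =>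
    GN.nGeomConnComp_baseChange (IsPullback.of_hasPullback f g) s
  refine ⟨B, inferInstance, inferInstance, inferInstance, g, hgc, hgg, ?_, ?_⟩
  · rw [card_fiber_eq, ← hgc, ← hbc]
    refine GN.nGeomConnComp_eq_card_fibre snd _ (fun x'' hx'' => ?_)
    letI := (snd.residueFieldMap x'').hom.toAlgebra
    haveI : IsSepClosed ((Spec (CommRingCat.of B)).residueField (snd x'')) :=
      isSepClosed_residueField_closedPoint B _ hx''
    haveI := Wt.isAlgebraic_residueField snd x''
    exact (inferInstance : IsPurelyInseparable ((Spec (CommRingCat.of B)).residueField (snd x''))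
      ((pullback f g).residueField x''))
  · rw [card_fiber_eq, ← hgg, ← hbc]
    refine GN.nGeomConnComp_eq_card_fibre snd _ (fun x'' hx'' => ?_)
    obtain ⟨p, hp1, hp2⟩ := exists_point_of_normal (A₁ := A₁) (A := B) L f₁ fst' snd hsq
      (fun x' hx' => by
        obtain ⟨e', he'⟩ := hemb ⟨x', hx'⟩
        refine ⟨e', ?_⟩
        ext a
        have h1 := congrFun (congrArg DFunLike.coe he') (algebraMap A₁ (FractionRing A₁) a)
        rw [RingHom.comp_apply, IsFractionRing.lift_algebraMap] at h1
        exact h1) x'' hx''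
    have hsurj := surjective_residueFieldMap_of_point L snd p hp1
    rw [hp2] at hsurj
    letI := (snd.residueFieldMap x'').hom.toAlgebra
    change IsPurelyInseparable ((Spec (CommRingCat.of B)).residueField (snd x''))
      ((pullback f g).residueField x'')
    rw [isPurelyInseparable_iff]
    intro z
    obtain ⟨w, hw⟩ := hsurj z
    have hz : z = algebraMap ((Spec (CommRingCat.of B)).residueField (snd x''))
      ((pullback f g).residueField x'') w := hw.symm
    rw [hz]
    exact ⟨isIntegral_algebraMap, fun _ => ⟨w, rfl⟩⟩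

end Groth.Agent.Lib.Helper21.GPC
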