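import Mathlib
import Groth.Agent.Lib.Helper21.GPI7
import Groth.Agent.Lib.Helper16.ReducedSub
import Groth.Agent.S0414
import Groth.Agent.Lib.Helper21.GIS14
import Groth.Agent.Lib.Helper12.ConstrTop

/-!
# Local constructibility of the locus where the fibres are geometrically pointwise integral
-/

set_option autoImplicit false
set_option linter.style.haveILetI false
set_option linter.unusedSectionVars false
universe u
open AlgebraicGeometry CategoryTheory Limits TopologicalSpace IsLocalRing Topology Set.Notation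

namespace Groth.Agent.Lib.Helper21.GPI

open Groth.Agent.Lib.Helper21.SCmp

/-- **local constancy along the closure of a point**: geometric pointwise integrality of the
fibres is constant on a neighbourhood of `ξ` in the closure of `ξ` -/
theorem exists_open_const_gPIAt {X S : Scheme.{u}} (f : X ⟶ S) [LocallyOfFiniteType f]
    [QuasiCompact f] (ξ : X) :
    ∃ U : X.Opens, ξ ∈ U ∧ ∀ x ∈ U, ξ ⤳ x → (GPIAt f x ↔ GPIAt f ξ) := by
  let I := Scheme.IdealSheafData.vanishingIdeal ⟨closure {f ξ}, isClosed_closure⟩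
  have hrange : Set.range I.subschemeι = closure {f ξ} := by
    rw [Scheme.IdealSheafData.range_subschemeι, Scheme.IdealSheafData.coe_support_vanishingIdeal]
    rfl
  let ι := I.subschemeι
  haveI : IrreducibleSpace I.subscheme := by
    haveI : IrreducibleSpace (Set.range ι) := by
      rw [hrange]
      exact Subtype.irreducibleSpace isIrreducible_singleton.closure
    exact (ι.isEmbedding.toHomeomorph.irreducibleSpace_iff).mpr inferInstance
  haveI : IsReduced I.subscheme := Groth.Agent.Lib.Helper16.isReduced_subscheme_vanishingIdeal _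
  obtain ⟨t, ht⟩ : f ξ ∈ Set.range ι := by
    rw [hrange]
    exact subset_closure rfl
  have htgen : t = genericPoint I.subscheme := by
    have h1 : closure {t} = Set.univ := by
      rw [ι.isEmbedding.isInducing.closure_eq_preimage_closure_image, Set.image_singleton, ht,
        ← hrange]
      rw [Set.eq_univ_iff_forall]
      intro a
      exact Set.mem_range_self a
    have h2 : IsGenericPoint t (⊤ : Set I.subscheme) := h1
    exact ((genericPoint_spec I.subscheme).eq h2).symm
  let fT := pullback.snd f ι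
  let p := pullback.fst f ι
  have hpb : IsPullback p fT f ι := IsPullback.of_hasPullback f ι
  have hprange : Set.range p = f ⁻¹' closure {f ξ} := by
    rw [← hrange]
    exact Scheme.Pullback.range_fst f ι
  obtain ⟨ξT, hξT⟩ : ξ ∈ Set.range p := by
    rw [hprange]
    exact subset_closure rfl
  have hcomm : ∀ a, ι (fT a) = f (p a) := by
    intro a
    have := congrArg (fun φ : pullback f ι ⟶ S => φ a) hpb.w
    simpa only [Scheme.Hom.comp_apply] using this.symm
  have hfξT : fT ξT = genericPoint I.subscheme := by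
    rw [← htgen]
    apply ι.isEmbedding.injective
    rw [hcomm, hξT, ht]
  haveI : LocallyOfFiniteType fT := inferInstance
  haveI : QuasiCompact fT := inferInstance
  obtain ⟨V, hVdense, hVflat, hVfp⟩ := Groth.Agent.S0414.result fT
  have hηV : genericPoint I.subscheme ∈ V := by
    refine ((genericPoint_spec I.subscheme).mem_open_set_iff V.2).mpr ?_
    obtain ⟨v, hv⟩ := hVdense.nonempty
    exact ⟨v, trivial, hv⟩
  have hopen := isOpen_gPIAt (fT ∣_ V)
  -- the open subset of `X_T` of points over `V` at which the fibres are g.p.i.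
  let OT : Set (pullback f ι : Scheme.{u}) :=
    (fT ⁻¹ᵁ V).ι '' {x' | GPIAt (fT ∣_ V) x'}
  have hOTopen : IsOpen OT := (fT ⁻¹ᵁ V).ι.isOpenEmbedding.isOpenMap _ hopen
  have hOT : ∀ x' : (pullback f ι : Scheme.{u}), x' ∈ OT ↔ (fT x' ∈ V ∧ GPIAt f (p x')) := by
    intro x'
    constructor
    · rintro ⟨x'', hx'', rfl⟩
      refine ⟨x''.2, ?_⟩
      rw [← gPIAt_iff_of_isPullback hpb,
        ← gPIAt_iff_of_isPullback (isPullback_morphismRestrict fT V).flip]
      exact hx''
    · rintro ⟨h1, h2⟩
      refine ⟨⟨x', h1⟩, ?_, rfl⟩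
      change GPIAt (fT ∣_ V) ⟨x', h1⟩
      rw [gPIAt_iff_of_isPullback (isPullback_morphismRestrict fT V).flip,
        gPIAt_iff_of_isPullback hpb]
      exact h2
  have hlift : ∀ x : X, ξ ⤳ x → ∃ xT, p xT = x ∧ ξT ⤳ xT := by
    intro x hx
    obtain ⟨xT, rfl⟩ : x ∈ Set.range p := by
      rw [hprange]
      exact specializes_iff_mem_closure.mp (hx.map f.continuous)
    refine ⟨xT, rfl, ?_⟩
    rw [← hξT] at hx
    exact p.isEmbedding.isInducing.specializes_iff.mp hx
  by_cases hξ : GPIAt f ξ
  · obtain ⟨U, hU, hUOT⟩ := p.isEmbedding.isInducing.isOpen_iff.mp hOTopen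
    refine ⟨⟨U, hU⟩, ?_, ?_⟩
    · show ξ ∈ U
      rw [← hξT, ← Set.mem_preimage, hUOT, hOT, hfξT, hξT]
      exact ⟨hηV, hξ⟩
    · intro x hxU hx
      obtain ⟨xT, rfl, -⟩ := hlift x hx
      have : xT ∈ p ⁻¹' U := hxU
      rw [hUOT, hOT] at this
      exact ⟨fun _ => hξ, fun _ => this.2⟩
  · obtain ⟨U, hU, hUV⟩ := p.isEmbedding.isInducing.isOpen_iff.mp (fT ⁻¹ᵁ V).2
    refine ⟨⟨U, hU⟩, ?_, ?_⟩
    · show ξ ∈ U
      rw [← hξT, ← Set.mem_preimage, hUV]
      show fT ξT ∈ V
      rw [hfξT]
      exact hηV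
    · intro x hxU hx
      obtain ⟨xT, rfl, hsp⟩ := hlift x hx
      have hxV : xT ∈ p ⁻¹' U := hxU
      rw [hUV] at hxV
      refine ⟨fun h => ?_, fun h => absurd h hξ⟩
      exfalso
      have h1 : xT ∈ OT := (hOT xT).mpr ⟨hxV, h⟩
      have h2 : ξT ∈ OT := hsp.mem_open hOTopen h1
      rw [hOT, hξT] at h2
      exact hξ h2.2

/-- Noetherian case -/
theorem isConstructible_gPIAt_of_noetherianSpace {X S : Scheme.{u}} [NoetherianSpace X]
    (f : X ⟶ S) [LocallyOfFiniteType f] [QuasiCompact f] :
    IsConstructible {x : X | GPIAt f x} := by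
  have key := (Groth.Agent.Lib.Helper12.constructible_function_of_locally_constant
    (fun x : X => GPIAt f x) ?_).1 True
  · convert key using 1
    ext y
    simp
  intro Z hZ hZirr
  obtain ⟨ξ, hξ⟩ := QuasiSober.sober hZirr hZ
  obtain ⟨U, hξU, HU⟩ := exists_open_const_gPIAt f ξ
  refine ⟨U, U.2, ⟨ξ, hξU, hξ.mem⟩, ?_⟩
  have hc : ∀ a ∈ (U : Set X) ∩ Z, GPIAt f a = GPIAt f ξ := by
    rintro a ⟨haU, haZ⟩
    have hsp : ξ ⤳ a := by
      rw [specializes_iff_mem_closure, hξ.def]
      exact haZ
    exact propext (HU a haU hsp)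
  intro a ha b hb
  exact (hc a ha).trans (hc b hb).symm

/-- affine case -/
theorem isConstructible_gPIAt_of_isAffine {X S : Scheme.{u}} [IsAffine X] [IsAffine S]
    (f : X ⟶ S) [LocallyOfFinitePresentation f] :
    IsConstructible {x : X | GPIAt f x} := by
  haveI : QuasiCompact f := inferInstance
  haveI : QuasiSeparated f := inferInstance
  obtain ⟨X₀, S₀, f₀, g, g', hpb, hS₀, h1, h2, h3⟩ :=
    Groth.Agent.Lib.Helper21.GIS.exists_noetherian_model f
  haveI : LocallyOfFiniteType f₀ := inferInstance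
  haveI : IsLocallyNoetherian X₀ := LocallyOfFiniteType.isLocallyNoetherian f₀
  haveI : CompactSpace X₀ := QuasiCompact.compactSpace_of_compactSpace f₀
  haveI : AlgebraicGeometry.IsNoetherian X₀ := { }
  haveI : NoetherianSpace X₀ := inferInstance
  have hc := isConstructible_gPIAt_of_noetherianSpace f₀
  have hpre := g'.isConstructible_preimage hc
  have : {x : X | GPIAt f x} = g' ⁻¹' {x | GPIAt f₀ x} := by
    ext x
    exact gPIAt_iff_of_isPullback hpb x
  rw [this]
  exact hpre

/-- affine target -/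
theorem isLocallyConstructible_gPIAt_of_isAffine {X S : Scheme.{u}} [IsAffine S]
    (f : X ⟶ S) [LocallyOfFinitePresentation f] :
    IsLocallyConstructible {x : X | GPIAt f x} := by
  refine IsLocallyConstructible.of_isOpenCover (U := fun U : X.affineOpens => U.1)
    (iSup_affineOpens_eq_top X) ?_
  intro U
  haveI : IsAffine U.1.toScheme := U.2
  have hc := isConstructible_gPIAt_of_isAffine (U.1.ι ≫ f)
  have : ((U.1 : Set X) ↓∩ {x : X | GPIAt f x}) = {ξ : U.1.toScheme | GPIAt (U.1.ι ≫ f) ξ} := by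
    ext ξ
    exact (gPIAt_ι_comp_iff U.1.ι f ξ).symm
  rw [this]
  exact hc.isLocallyConstructible

/-- **S3452** -/
theorem isLocallyConstructible_gPIAt {X S : Scheme.{u}} (f : X ⟶ S)
    [LocallyOfFinitePresentation f] : IsLocallyConstructible {x : X | GPIAt f x} := by
  refine IsLocallyConstructible.of_isOpenCover (U := fun V : S.affineOpens => f ⁻¹ᵁ V.1) ?_ ?_
  · rw [IsOpenCover, ← Scheme.Hom.preimage_iSup, iSup_affineOpens_eq_top]
    rfl
  intro V
  haveI : IsAffine V.1.toScheme := V.2
  have hc := isLocallyConstructible_gPIAt_of_isAffine (f ∣_ V.1)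
  have : (((f ⁻¹ᵁ V.1 : X.Opens) : Set X) ↓∩ {x : X | GPIAt f x}) =
      {ξ : (f ⁻¹ᵁ V.1).toScheme | GPIAt (f ∣_ V.1) ξ} := by
    ext ξ
    exact (gPIAt_iff_of_isPullback (isPullback_morphismRestrict f V.1).flip ξ).symm
  rw [this]
  exact hc

end Groth.Agent.Lib.Helper21.GPI
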