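import Groth.Agent.Lib.Helper21.DSPts
import Groth.Agent.S12181
import Mathlib.AlgebraicGeometry.Properties
import Mathlib.AlgebraicGeometry.ResidueField

/-!
# Homomorphisms from `𝔾_a` to diagonalisable groups over a reduced base are trivial (helper21)
-/

set_option autoImplicit false
universe u
open CategoryTheory MonoidalCategory CartesianMonoidalCategory MonObj GrpObj AlgebraicGeometry CategoryTheory.Limits
open scoped TensorProduct

namespace Groth.Agent.Lib.Helper21.GaPts

/-- A global function on a reduced scheme which vanishes at all points is zero. -/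
theorem eq_zero_of_forall_fromSpecResidueField {X : Scheme.{u}} [IsReduced X] (w : Γ(X, ⊤))
    (h : ∀ x : X, (X.fromSpecResidueField x).appTop w = 0) : w = 0 := by
  apply eq_zero_of_basicOpen_eq_bot
  rw [eq_bot_iff]
  intro x hx
  have h1 := Scheme.preimage_basicOpen_top (X.fromSpecResidueField x) w
  rw [h x, Scheme.basicOpen_zero] at h1
  obtain ⟨pt⟩ : Nonempty (Spec (X.residueField x)) := inferInstance
  have h2 : pt ∈ (X.fromSpecResidueField x) ⁻¹ᵁ X.basicOpen w := by
    change X.fromSpecResidueField x pt ∈ X.basicOpen w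
    rw [Scheme.fromSpecResidueField_apply]
    exact hx
  rw [h1] at h2
  exact h2.elim

/-- `𝔾_{a,S}` is reduced when `S` is. -/
theorem isReduced_Ga (S : Scheme.{u}) [IsReduced S] : IsReduced (Red.Ga S).left := by
  obtain ⟨e, -, -⟩ := Groth.Agent.S12181.result 2 S
  have h1 : IsIso e.inv.left := inferInstanceAs (IsIso ((Over.forget S).map e.inv))
  have h2 : IsReduced (WittGrp.W 2 1 S).left := by
    change IsReduced (𝔸(ULift.{u} (Fin 1); S))
    infer_instance
  exact isReduced_of_isOpenImmersion e.inv.left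


section GaToDS

open Polynomial

variable {S : Scheme.{u}} {M : Type} [AddCommGroup M]

/-- The value of a character of a homomorphism `𝔾_a ⟶ D_S(M)` at a field-valued point is `1`:
units of `K[x]` are constants. -/
theorem dsFn_comp_eq_one_of_field (φ : Red.Ga S ⟶ Red.DS S M) (hφ : (1 : Red.Ga S ⟶ Red.Ga S) ≫ φ = 1)
    (m : M) {K : Type u} [Field K] (b : Spec (CommRingCat.of K) ⟶ S)
    (x : Over.mk b ⟶ Red.Ga S) : dsFn m (x ≫ φ) = 1 := by
  -- the affine line over `K`
  let Y : Over S := Over.mk (Spec.map (CommRingCat.ofHom (C : K →+* K[X])) ≫ b)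
  let P : Y ⟶ Red.Ga S := gaPt ((Scheme.ΓSpecIso (CommRingCat.of K[X])).inv.hom X)
  let v : Γ(Y.left, ⊤) := dsFn m (P ≫ φ)
  let v' : K[X] := (Scheme.ΓSpecIso (CommRingCat.of K[X])).hom.hom v
  have hv' : IsUnit v' := (isUnit_dsFn m (P ≫ φ)).map _
  obtain ⟨c, -, hc⟩ := Polynomial.isUnit_iff.mp hv'
  -- evaluation morphisms
  have key : ∀ (t : K), ∃ ev : Over.mk b ⟶ Y,
      Red.gaFn (ev ≫ P) = (Scheme.ΓSpecIso (CommRingCat.of K)).inv.hom t ∧
      dsFn m (ev ≫ P ≫ φ) = (Scheme.ΓSpecIso (CommRingCat.of K)).inv.hom c := by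
    intro t
    have hw : Spec.map (CommRingCat.ofHom (evalRingHom t)) ≫ Y.hom = b := by
      change Spec.map (CommRingCat.ofHom (evalRingHom t)) ≫ Spec.map (CommRingCat.ofHom (C : K →+* K[X])) ≫ b = b
      rw [← Category.assoc, ← Spec.map_comp, ← CommRingCat.ofHom_comp]
      have : (evalRingHom t).comp (C : K →+* K[X]) = RingHom.id K := by
        ext a; simp
      rw [this]
      simp
    let ev : Over.mk b ⟶ Y := Over.homMk (Spec.map (CommRingCat.ofHom (evalRingHom t))) hw
    have hnat : ∀ z : Γ(Y.left, ⊤), ev.left.appTop z =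
        (Scheme.ΓSpecIso (CommRingCat.of K)).inv.hom
          (evalRingHom t ((Scheme.ΓSpecIso (CommRingCat.of K[X])).hom.hom z)) := by
      intro z
      have h1 := Scheme.ΓSpecIso_naturality (CommRingCat.ofHom (evalRingHom t))
      have h2 := congrArg (fun f => (Scheme.ΓSpecIso (CommRingCat.of K)).inv.hom (f.hom z)) h1
      simp only [CommRingCat.hom_comp, RingHom.comp_apply] at h2
      have h3 : (Scheme.ΓSpecIso (CommRingCat.of K)).inv.hom
          ((Scheme.ΓSpecIso (CommRingCat.of K)).hom.hom
            ((Spec.map (CommRingCat.ofHom (evalRingHom t))).appTop.hom z)) =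
          (Spec.map (CommRingCat.ofHom (evalRingHom t))).appTop.hom z := by
        have := (Scheme.ΓSpecIso (CommRingCat.of K)).hom_inv_id
        exact congrArg (fun f => f.hom ((Spec.map (CommRingCat.ofHom (evalRingHom t))).appTop.hom z)) this
      rw [h3] at h2
      exact h2
    refine ⟨ev, ?_, ?_⟩
    · rw [gaFn_comp, gaFn_gaPt, hnat]
      congr 1
      have : (Scheme.ΓSpecIso (CommRingCat.of K[X])).hom.hom
          ((Scheme.ΓSpecIso (CommRingCat.of K[X])).inv.hom X) = X := by
        have := (Scheme.ΓSpecIso (CommRingCat.of K[X])).inv_hom_id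
        exact congrArg (fun f => f.hom (X : K[X])) this
      rw [this]
      simp
    · rw [dsFn_comp, hnat]
      congr 1
      change evalRingHom t v' = c
      rw [← hc]
      simp
  -- the given point and the zero point
  obtain ⟨ev, hev1, hev2⟩ := key ((Scheme.ΓSpecIso (CommRingCat.of K)).hom.hom (Red.gaFn x))
  obtain ⟨ev0, hev01, hev02⟩ := key 0
  have hx : ev ≫ P = x := by
    apply gaFn_injective
    rw [hev1]
    have := (Scheme.ΓSpecIso (CommRingCat.of K)).hom_inv_id
    exact congrArg (fun f => f.hom (Red.gaFn x)) this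
  have h0 : ev0 ≫ P = 1 := by
    apply gaFn_injective
    rw [hev01, map_zero, gaFn_one]
  rw [← hx, Category.assoc, hev2, ← hev02, ← Category.assoc, h0]
  have h1 : (1 : Over.mk b ⟶ Red.Ga S) ≫ φ = 1 := by
    rw [← MonObj.comp_one (toUnit _ ≫ η[Red.Ga S]) , Category.assoc, hφ, MonObj.comp_one]
  rw [h1, dsFn_one]

end GaToDS


section GaToDSReduced

variable {S : Scheme.{u}} {M : Type} [AddCommGroup M]

/-- Over a reduced base every unit-preserving morphism (in particular every homomorphism) from `𝔾_a` to a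
diagonalisable group is trivial. -/
theorem hom_Ga_DS_eq_one [IsReduced S] (φ : Red.Ga S ⟶ Red.DS S M)
    (hφ : (1 : Red.Ga S ⟶ Red.Ga S) ≫ φ = 1) : φ = 1 := by
  apply dsFn_injective
  intro m
  rw [dsFn_one]
  have := isReduced_Ga S
  have h := eq_zero_of_forall_fromSpecResidueField (X := (Red.Ga S).left) (dsFn m φ - 1) ?_
  · exact sub_eq_zero.mp h
  intro g
  rw [map_sub, map_one, sub_eq_zero]
  let a := (Red.Ga S).left.fromSpecResidueField g
  let x : Over.mk (a ≫ (Red.Ga S).hom) ⟶ Red.Ga S := Over.homMk a rfl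
  have h1 := dsFn_comp_eq_one_of_field φ hφ m (K := (Red.Ga S).left.residueField g) (a ≫ (Red.Ga S).hom) x
  rw [dsFn_comp] at h1
  exact h1

end GaToDSReduced

end Groth.Agent.Lib.Helper21.GaPts
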