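import Groth.Agent.Lib.Helper21.BasePt

/-!
# Weierstrass gaps at a point of a smooth proper curve
-/

set_option autoImplicit false
set_option linter.style.haveILetI false
set_option linter.unusedSectionVars false
universe u
open CategoryTheory CategoryTheory.Limits AlgebraicGeometry TopologicalSpace Opposite

namespace Groth.Agent.Lib.Helper21.Gaps

open Groth.Agent.Lib.Helper29.QCoh Groth.Agent.Lib.Lead.LinLES Groth.Agent.Lib.Lead.TwistExact
  Groth.Agent.Lib.Helper21.CDeg Groth.Agent.Lib.Helper25.HypTwist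
  Groth.Agent.Lib.Helper21.TwistDown

/-- counting the gaps of a sequence growing by at most one at each step -/
theorem gaps_card (a : ℕ → ℕ) (g : ℕ) (hstep : ∀ n, a n ≤ a (n + 1) ∧ a (n + 1) ≤ a n + 1)
    (h0 : a 0 = 1) (hlarge : ∀ n, 2 * g ≤ n + 1 → a n + g = n + 1) :
    {n : ℕ | 1 ≤ n ∧ a n = a (n - 1)}.Finite ∧
      {n : ℕ | 1 ≤ n ∧ a n = a (n - 1)}.ncard = g := by
  classical
  have hset : {n : ℕ | 1 ≤ n ∧ a n = a (n - 1)} =
      ↑((Finset.Icc 1 (2 * g)).filter (fun n => a n = a (n - 1))) := by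
    ext n
    simp only [Set.mem_setOf_eq, Finset.coe_filter, Finset.mem_Icc]
    constructor
    · rintro ⟨h1, h2⟩
      refine ⟨⟨h1, ?_⟩, h2⟩
      by_contra hn
      push Not at hn
      have e1 := hlarge n (by omega)
      have e2 := hlarge (n - 1) (by omega)
      omega
    · rintro ⟨⟨h1, _⟩, h2⟩
      exact ⟨h1, h2⟩
  rw [hset]
  refine ⟨Finset.finite_toSet _, ?_⟩
  rw [Set.ncard_coe_finset]
  have key : ∀ N, a N + ((Finset.Icc 1 N).filter (fun n => a n = a (n - 1))).card = a 0 + N := by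
    intro N
    induction N with
    | zero => simp
    | succ N ih =>
      rw [← Finset.insert_Icc_right_eq_Icc_add_one (by omega : 1 ≤ N + 1), Finset.filter_insert]
      have hnm : N + 1 ∉ (Finset.Icc 1 N).filter (fun n => a n = a (n - 1)) := by
        intro h
        have := (Finset.mem_Icc.mp (Finset.mem_filter.mp h).1).2
        omega
      obtain ⟨hs1, hs2⟩ := hstep N
      by_cases hgap : a (N + 1) = a (N + 1 - 1)
      · rw [if_pos hgap, Finset.card_insert_of_notMem hnm]
        rw [Nat.add_sub_cancel] at hgap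
        omega
      · rw [if_neg hgap]
        rw [Nat.add_sub_cancel] at hgap
        omega
  have h1 := key (2 * g)
  have h2 := hlarge (2 * g) (by omega)
  omega

section Main

variable (k : Type u) [Field k] [IsAlgClosed k] (X : Scheme.{u}) [X.Over (Spec (CommRingCat.of k))]
  [IsIntegral X] [IsProper (X ↘ (Spec (CommRingCat.of k)))]

/-- twisting by the ideal of a closed Cartier point lowers `h⁰` by at most one -/
theorem finrank_ideal_twist (q : X) (hq : IsClosed ({q} : Set X)) (N : X.Modules) (hN : PicF.IsInvertible N) :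
    Module.finrank k (Coh.HH X (CohB1.tensorMod
        (ClSub.idealMod (Scheme.IdealSheafData.vanishingIdeal ⟨{q}, hq⟩)) N) 0) ≤
      Module.finrank k (Coh.HH X N 0) ∧
    Module.finrank k (Coh.HH X N 0) ≤ Module.finrank k (Coh.HH X (CohB1.tensorMod
        (ClSub.idealMod (Scheme.IdealSheafData.vanishingIdeal ⟨{q}, hq⟩)) N) 0) + 1 := by
  haveI : IsLocallyNoetherian X :=
    LocallyOfFiniteType.isLocallyNoetherian (X ↘ Spec (CommRingCat.of k))
  have hQ0 := Groth.Agent.Lib.Helper21.RegPt.finrank_HH_zero_quotMod_point k X q hq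
  have hQst : ∀ x, x ∉ ({q} : Set X) → Subsingleton ((ClSub.quotMod
      (Scheme.IdealSheafData.vanishingIdeal ⟨{q}, hq⟩)).presheaf.stalk x) :=
    fun x hx => Groth.Agent.Lib.Helper21.RegPt.subsingleton_stalk_quotMod_point X q hq x hx
  generalize Scheme.IdealSheafData.vanishingIdeal ⟨{q}, hq⟩ = D at hQ0 hQst
  have hS := shortExact_idealSeq D
  have hS' := shortExact_map_tensorRight (isFlat_of_isInvertible hN) _ hS
  have cO : Coh.IsCoh (unitM X) := Groth.Agent.Lib.Helper12.H12Dev.isCoh_unitM X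
  have cQ : Coh.IsCoh (ClSub.quotMod D) :=
    Groth.Agent.Lib.Helper17.ExtTorsionGeom.isCoh_pushforward_unit D.subschemeι
  have cJ : Coh.IsCoh (ClSub.idealMod D) :=
    Groth.Agent.Lib.Helper12.H12Dev.isCoh_kernel _ cO cQ
  have cN : Coh.IsCoh N := ⟨isQuasicoherent_of_isInvertible hN, isFiniteType_of_isInvertible hN⟩
  have hZ : ∀ T : Set X, T ⊆ ({q} : Set X) → IsClosed T := by
    intro T hT
    rcases Set.subset_singleton_iff_eq.mp hT with h | h
    · rw [h]; exact isClosed_empty
    · rw [h]; exact hq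
  haveI : (ClSub.quotMod D).IsQuasicoherent := cQ.1
  obtain ⟨Ψ⟩ := nonempty_linearEquiv_HH_zero_tensorMod k (ClSub.quotMod D) N hN {q} hZ hQst
  have hQN0 : Module.finrank k (Coh.HH X (CohB1.tensorMod (ClSub.quotMod D) N) 0) = 1 := by
    rw [← Ψ.finrank_eq]; exact hQ0
  let g : CohB1.tensorMod (unitM X) N ⟶ CohB1.tensorMod (ClSub.quotMod D) N :=
    ((idealSeq D).map (tensorRight N)).g
  let f : CohB1.tensorMod (ClSub.idealMod D) N ⟶ CohB1.tensorMod (unitM X) N :=
    ((idealSeq D).map (tensorRight N)).f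
  haveI hfmono : Mono f := hS'.mono_f
  have cJN := Groth.Agent.Lib.Helper12.H12Fin.isCoh_tensorMod' cJ cN
  have cON := Groth.Agent.Lib.Helper12.H12Fin.isCoh_tensorMod' cO cN
  have cQN := Groth.Agent.Lib.Helper12.H12Fin.isCoh_tensorMod' cQ cN
  haveI : Module.Finite k (Coh.HH X (CohB1.tensorMod (unitM X) N) 0) :=
    Groth.Agent.S0002.result k X _ cON 0
  haveI : Module.Finite k (Coh.HH X (CohB1.tensorMod (ClSub.idealMod D) N) 0) :=
    Groth.Agent.S0002.result k X _ cJN 0
  haveI : Module.Finite k (Coh.HH X (CohB1.tensorMod (ClSub.quotMod D) N) 0) :=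
    Groth.Agent.S0002.result k X _ cQN 0
  have hinj0 : Function.Injective (Canon.HHlin k f 0) := by
    have happ := (mono_iff_app_injective f).mp hfmono ⊤
    intro x y hxy
    apply (hh0 _).injective
    apply happ
    rw [← hh0_map k f, ← hh0_map k f, hxy]
  have hON : Module.finrank k (Coh.HH X (CohB1.tensorMod (unitM X) N) 0) =
      Module.finrank k (Coh.HH X N 0) := (HHlinEquiv k (tensorUnitL N) 0).finrank_eq
  have hex : Function.Exact (Canon.HHlin k f 0) (Canon.HHlin k g 0) := exact₂ k _ hS' 0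
  have hker : LinearMap.ker (Canon.HHlin k g 0) = LinearMap.range (Canon.HHlin k f 0) :=
    (LinearMap.exact_iff.mp hex)
  have hrn := LinearMap.finrank_range_add_finrank_ker (Canon.HHlin k g 0)
  have hr1 : Module.finrank k (LinearMap.range (Canon.HHlin k g 0)) ≤ 1 := by
    rw [← hQN0]
    exact Submodule.finrank_le _
  have hk1 : Module.finrank k (LinearMap.ker (Canon.HHlin k g 0)) =
      Module.finrank k (Coh.HH X (CohB1.tensorMod (ClSub.idealMod D) N) 0) := by
    rw [hker]
    exact LinearMap.finrank_range_of_inj hinj0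
  constructor
  · rw [← hON]
    exact LinearMap.finrank_le_finrank_of_injective hinj0
  · rw [← hON, ← hrn, hk1]
    omega

end Main

section Main2

variable (k : Type u) [Field k] [IsAlgClosed k] (X : Scheme.{u}) [X.Over (Spec (CommRingCat.of k))]
  [IsIntegral X] [IsProper (X ↘ (Spec (CommRingCat.of k)))]
  [Smooth (X ↘ (Spec (CommRingCat.of k)))]

/-- the degree of `O(p)` is one -/
theorem deg_inverse_ideal (hdim : topologicalKrullDim X = 1) (p : X) (hp : IsClosed ({p} : Set X))
    (L : X.Modules) (hL : PicF.IsInvertible L)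
    (e₀ : CohB1.tensorMod L (ClSub.idealMod (Scheme.IdealSheafData.vanishingIdeal ⟨{p}, hp⟩)) ≅
      Coh.structureModule X) :
    Curv2.deg k X L 1 = 1 := by
  haveI : IsLocallyNoetherian X :=
    LocallyOfFiniteType.isLocallyNoetherian (X ↘ Spec (CommRingCat.of k))
  have hD := Groth.Agent.Lib.Helper21.BasePt.isEffCartier_of_smooth k X hdim p hp
  have hQ0 := Groth.Agent.Lib.Helper21.RegPt.finrank_HH_zero_quotMod_point k X p hp
  have hQst : ∀ x, x ∉ ({p} : Set X) → Subsingleton ((ClSub.quotMod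
      (Scheme.IdealSheafData.vanishingIdeal ⟨{p}, hp⟩)).presheaf.stalk x) :=
    fun x hx => Groth.Agent.Lib.Helper21.RegPt.subsingleton_stalk_quotMod_point X p hp x hx
  generalize Scheme.IdealSheafData.vanishingIdeal ⟨{p}, hp⟩ = D at hD hQ0 hQst e₀
  have hJ : PicF.IsInvertible (ClSub.idealMod D) := isInvertible_idealMod D hD
  have hS := shortExact_idealSeq D
  have cO : Coh.IsCoh (unitM X) := Groth.Agent.Lib.Helper12.H12Dev.isCoh_unitM X
  have cQ : Coh.IsCoh (ClSub.quotMod D) :=
    Groth.Agent.Lib.Helper17.ExtTorsionGeom.isCoh_pushforward_unit D.subschemeι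
  have cJ : Coh.IsCoh (ClSub.idealMod D) :=
    Groth.Agent.Lib.Helper12.H12Dev.isCoh_kernel _ cO cQ
  have hZ : ∀ T : Set X, T ⊆ ({p} : Set X) → IsClosed T := by
    intro T hT
    rcases Set.subset_singleton_iff_eq.mp hT with h | h
    · rw [h]; exact isClosed_empty
    · rw [h]; exact hp
  have hsuppQ : CohB1.support (ClSub.quotMod D) ⊆ ({p} : Set X) := by
    intro x hx
    by_contra hxp
    exact hx (hQst x hxp)
  have hQ1 : Subsingleton (Coh.HH X (ClSub.quotMod D) 1) :=
    subsingleton_HH_succ_of_support_hereditarily_closed _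
      (fun T hT => hZ T (hT.trans hsuppQ)) 0
  have z1 : Module.finrank k (Coh.HH X (ClSub.quotMod D) 1) = 0 := by
    haveI := hQ1; exact Module.finrank_zero_of_subsingleton
  have hadd := Groth.Agent.S1524.result k X _ hS cJ cO cQ
  change Curv2.euler k X (unitM X) = Curv2.euler k X (ClSub.idealMod D) +
    Curv2.euler k X (ClSub.quotMod D) at hadd
  rw [euler_eq_sub k X hdim.le (ClSub.quotMod D), z1, hQ0] at hadd
  have dJ : Curv2.deg k X (ClSub.idealMod D) 1 = -1 := by
    unfold Curv2.deg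
    change Curv2.euler k X (ClSub.idealMod D) - ((1 : ℕ) : ℤ) * Curv2.euler k X (unitM X) = -1
    rw [hadd]
    push_cast
    ring
  have h1 := deg_tensorMod k X hdim.le hL hJ
  rw [deg_of_iso k e₀ 1, deg_structureModule, dJ] at h1
  linarith

/-- `h⁰(O(np)) = n + 1 - g` for `n ≥ 2g - 1` -/
theorem finrank_tensorPow_large (hdim : topologicalKrullDim X = 1) (L : X.Modules)
    (hL : PicF.IsInvertible L) (hd : Curv2.deg k X L 1 = 1) (n : ℕ)
    (hn : 2 * Curv2.genus k X ≤ n + 1) :
    Module.finrank k (Coh.HH X (CohB1.tensorPow L n) 0) + Curv2.genus k X = n + 1 := by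
  have hLn := isInvertible_tensorPow hL n
  have hdn := deg_tensorPow k X hdim.le hL n
  rw [hd, mul_one] at hdn
  have hv := h1_vanish k X hdim (CohB1.tensorPow L n) hLn (by rw [hdn]; omega)
  have z1 : Module.finrank k (Coh.HH X (CohB1.tensorPow L n) 1) = 0 := by
    haveI := hv; exact Module.finrank_zero_of_subsingleton
  have hO := finrank_HH_zero_unit k X
  unfold Curv2.deg at hdn
  rw [euler_eq_sub k X hdim.le (CohB1.tensorPow L n),
    euler_eq_sub k X hdim.le (Coh.structureModule X), z1, hO] at hdn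
  have hg : (Module.finrank k (Coh.HH X (Coh.structureModule X) 1) : ℤ) = Curv2.genus k X := rfl
  rw [hg] at hdn
  push_cast at hdn
  omega

/-- **the Weierstrass gap theorem** -/
theorem gaps (hdim : topologicalKrullDim X = 1) (p : X) (hp : IsClosed ({p} : Set X))
    (L : X.Modules) (hL : PicF.IsInvertible L)
    (hLp : ClSub.IsInverseOf L (ClSub.idealMod
      (Scheme.IdealSheafData.vanishingIdeal (⟨{p}, hp⟩ : TopologicalSpace.Closeds X)))) :
    {n : ℕ | 1 ≤ n ∧ Module.finrank k (Coh.HH X (CohB1.tensorPow L n) 0) =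
        Module.finrank k (Coh.HH X (CohB1.tensorPow L (n - 1)) 0)}.Finite ∧
      {n : ℕ | 1 ≤ n ∧ Module.finrank k (Coh.HH X (CohB1.tensorPow L n) 0) =
        Module.finrank k (Coh.HH X (CohB1.tensorPow L (n - 1)) 0)}.ncard = Curv2.genus k X := by
  obtain ⟨e₀⟩ := hLp
  have hd := deg_inverse_ideal k X hdim p hp L hL e₀
  refine gaps_card (fun n => Module.finrank k (Coh.HH X (CohB1.tensorPow L n) 0))
    (Curv2.genus k X) (fun n => ?_) (finrank_HH_zero_unit k X)
    (fun n hn => finrank_tensorPow_large k X hdim L hL hd n hn)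
  -- the step
  have hLn := isInvertible_tensorPow hL n
  have hN : PicF.IsInvertible (CohB1.tensorMod (CohB1.tensorPow L n) L) :=
    isInvertible_tensorMod hLn hL
  obtain ⟨h1, h2⟩ := finrank_ideal_twist k X p hp _ hN
  let J := ClSub.idealMod (Scheme.IdealSheafData.vanishingIdeal (⟨{p}, hp⟩ : Closeds X))
  let e : CohB1.tensorMod J (CohB1.tensorMod (CohB1.tensorPow L n) L) ≅ CohB1.tensorPow L n :=
    tensorBraid _ _ ≪≫ tensorAssoc (CohB1.tensorPow L n) L J ≪≫
      tensorCongr (Iso.refl _) e₀ ≪≫ tensorUnitR _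
  have he := (HHlinEquiv k e 0).finrank_eq
  change Module.finrank k (Coh.HH X (CohB1.tensorPow L n) 0) ≤
      Module.finrank k (Coh.HH X (CohB1.tensorMod (CohB1.tensorPow L n) L) 0) ∧
    Module.finrank k (Coh.HH X (CohB1.tensorMod (CohB1.tensorPow L n) L) 0) ≤
      Module.finrank k (Coh.HH X (CohB1.tensorPow L n) 0) + 1
  rw [← he]
  exact ⟨h1, h2⟩

end Main2

end Groth.Agent.Lib.Helper21.Gaps
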