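import Mathlib

/-!
# Generic finiteness (ring version)

A finite type algebraic extension of domains becomes finite after inverting one nonzero element
of the base.
-/

set_option autoImplicit false
universe u

namespace Groth.Agent.Lib.Helper21.GenFin

open Polynomial

theorem exists_away_map_finite {R S : Type u} [CommRing R] [CommRing S] [IsDomain R]
    (φ : R →+* S) (hφ : φ.FiniteType)
    (halg : @Algebra.IsAlgebraic R S _ _ φ.toAlgebra) :
    ∃ a : R, a ≠ 0 ∧ ∀ (R' S' : Type u) [CommRing R'] [CommRing S'] [Algebra R R'] [Algebra S S']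
      [IsLocalization.Away a R'] [IsLocalization.Away (φ a) S'],
      (IsLocalization.Away.map R' S' φ a).Finite := by
  let _ := φ.toAlgebra
  have hft : Algebra.FiniteType R S := hφ
  obtain ⟨s, hs⟩ := hft.out
  obtain ⟨a, ha0, hint⟩ := Algebra.IsAlgebraic.exists_integral_multiples R s
  refine ⟨a, ha0, ?_⟩
  intro R' S' _ _ _ _ _ _
  rw [RingHom.finite_iff_isIntegral_and_finiteType]
  refine ⟨?_, RingHom.localization_away_map_finiteType R S R' S' φ a hφ⟩
  set ψ := IsLocalization.Away.map R' S' φ a with hψ
  have hcomm : ∀ r : R, ψ (algebraMap R R' r) = algebraMap S S' (φ r) := fun r =>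
    IsLocalization.map_eq _ r
  have hinv : ψ (IsLocalization.Away.invSelf a) * algebraMap S S' (φ a) = 1 := by
    rw [← hcomm, ← map_mul, mul_comm, IsLocalization.Away.mul_invSelf, map_one]
  -- images of integral elements
  have himg : ∀ x : S, φ.IsIntegralElem x → ψ.IsIntegralElem (algebraMap S S' x) := by
    rintro x ⟨p, hp, hpx⟩
    refine ⟨p.map (algebraMap R R'), hp.map _, ?_⟩
    rw [eval₂_map]
    have hc : ψ.comp (algebraMap R R') = (algebraMap S S').comp φ := RingHom.ext hcomm
    rw [hc, ← hom_eval₂, hpx, map_zero]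
  have hmem : ∀ x : S, ψ.IsIntegralElem (algebraMap S S' x) := by
    intro x
    have hx : x ∈ Algebra.adjoin R (s : Set S) := by rw [hs]; trivial
    induction hx using Algebra.adjoin_induction with
    | mem z hz =>
      have h1 : φ.IsIntegralElem (φ a * z) := by
        have := hint z hz
        rwa [Algebra.smul_def] at this
      have h2 := himg _ h1
      have h3 : algebraMap S S' z =
          ψ (IsLocalization.Away.invSelf a) * algebraMap S S' (φ a * z) := by
        rw [map_mul, ← mul_assoc, hinv, one_mul]
      rw [h3]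
      exact RingHom.IsIntegralElem.mul ψ ψ.isIntegralElem_map h2
    | algebraMap r =>
      change ψ.IsIntegralElem (algebraMap S S' (φ r))
      rw [← hcomm]
      exact ψ.isIntegralElem_map
    | add x y _ _ hx hy =>
      rw [map_add]
      exact RingHom.IsIntegralElem.add ψ hx hy
    | mul x y _ _ hx hy =>
      rw [map_mul]
      exact RingHom.IsIntegralElem.mul ψ hx hy
  intro y
  obtain ⟨x, ⟨_, n, rfl⟩, rfl⟩ := IsLocalization.exists_mk'_eq (Submonoid.powers (φ a)) y
  have h4 : IsLocalization.mk' S' x (⟨φ a ^ n, n, rfl⟩ : Submonoid.powers (φ a)) =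
      algebraMap S S' x * ψ (IsLocalization.Away.invSelf a) ^ n := by
    have h5 := IsLocalization.mk'_spec S' x (⟨φ a ^ n, n, rfl⟩ : Submonoid.powers (φ a))
    have h6 : algebraMap S S' (φ a ^ n) * ψ (IsLocalization.Away.invSelf a) ^ n = 1 := by
      rw [map_pow, ← mul_pow, mul_comm, hinv, one_pow]
    calc IsLocalization.mk' S' x (⟨φ a ^ n, n, rfl⟩ : Submonoid.powers (φ a))
        = IsLocalization.mk' S' x (⟨φ a ^ n, n, rfl⟩ : Submonoid.powers (φ a)) *
          (algebraMap S S' (φ a ^ n) * ψ (IsLocalization.Away.invSelf a) ^ n) := by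
            rw [h6, mul_one]
      _ = algebraMap S S' x * ψ (IsLocalization.Away.invSelf a) ^ n := by
            rw [← mul_assoc, h5]
  rw [h4]
  rw [← map_pow]
  exact RingHom.IsIntegralElem.mul ψ (hmem x) ψ.isIntegralElem_map

end Groth.Agent.Lib.Helper21.GenFin
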