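import Groth.Agent.Lib.Helper21.QfCodim3
import Groth.Agent.Lib.Helper21.NagFin7
import Groth.Agent.Lib.Helper14.SchemeDim
import Mathlib.AlgebraicGeometry.Artinian

/-!
# Quasi-finiteness over points of codimension at most one
-/

set_option autoImplicit false
set_option linter.style.haveILetI false
set_option linter.unusedSectionVars false
universe u
open AlgebraicGeometry CategoryTheory Limits TopologicalSpace

namespace Groth.Agent.Lib.Helper21.QfCodim

variable {X Y : Scheme.{u}}

/-- A point at which `f` is quasi-finite has no proper specialisation in its fibre. -/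
theorem eq_of_quasiFiniteAt_of_specializes (f : X ⟶ Y) [LocallyOfFiniteType f] {η w : X}
    (hη : f.QuasiFiniteAt η) (h : η ⤳ w) (hf : f w = f η) : w = η := by
  have hcl : IsClosed ({f.asFiber η} : Set (f.fiber (f η))) := hη.isClopen_singleton_asFiber.1
  let a : f.fiber (f η) := (f.fiberHomeo (f η)).symm ⟨w, hf⟩
  have hspec : f.asFiber η ⤳ a := by
    have h0 : (⟨η, rfl⟩ : f ⁻¹' {f η}) ⤳ ⟨w, hf⟩ := (subtype_specializes_iff _ _).mpr h
    exact h0.map (f.fiberHomeo (f η)).symm.continuous
  have ha : a ∈ ({f.asFiber η} : Set (f.fiber (f η))) := by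
    have := hspec.mem_closed hcl (Set.mem_singleton _)
    exact this
  have ha' : a = f.asFiber η := ha
  have h2 : (⟨w, hf⟩ : f ⁻¹' {f η}) = ⟨η, rfl⟩ := (f.fiberHomeo (f η)).symm.injective ha'
  exact congrArg Subtype.val h2

/-- If `f` is quasi-finite at all generic points of irreducible components, the fibre over a
point of codimension at most one has no nontrivial specialisations. -/
theorem eq_of_specializes_in_fibre (f : X ⟶ Y) [LocallyOfFiniteType f]
    (hgen : ∀ Z ∈ irreducibleComponents (X : Type u), ∀ η : X, IsGenericPoint η Z →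
      f.QuasiFiniteAt η)
    (y : Y) [IsNoetherianRing (Y.presheaf.stalk y)] (hdim : ringKrullDim (Y.presheaf.stalk y) ≤ 1)
    {w' w : X} (h : w' ⤳ w) (hw : f w = y) (hw' : f w' = y) : w' = w := by
  subst hw
  obtain ⟨η, hηc, hηw'⟩ := Groth.Agent.Lib.Helper21.NagFin.exists_generic_specializes w'
  have hη : f.QuasiFiniteAt η := hgen (closure {η}) hηc η rfl
  rcases eq_or_eq_of_specializes_of_quasiFiniteAt f hηw' h hdim hη with h' | h'
  · subst h'
    exact (eq_of_quasiFiniteAt_of_specializes f hη h hw'.symm).symm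
  · exact h'

/-- **Quasi-finiteness over codimension one**. -/
theorem quasiFiniteAt_of_fibre (f : X ⟶ Y) [LocallyOfFiniteType f]
    (hgen : ∀ Z ∈ irreducibleComponents (X : Type u), ∀ η : X, IsGenericPoint η Z →
      f.QuasiFiniteAt η)
    (x : X) [IsNoetherianRing (Y.presheaf.stalk (f x))]
    (hdim : ringKrullDim (Y.presheaf.stalk (f x)) ≤ 1) : f.QuasiFiniteAt x := by
  rw [Scheme.Hom.quasiFiniteAt_iff_isOpen_singleton_asFiber]
  haveI : LocallyOfFiniteType (f.fiberToSpecResidueField (f x)) :=
    MorphismProperty.pullback_snd _ _ inferInstance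
  haveI : IsLocallyNoetherian (f.fiber (f x)) :=
    LocallyOfFiniteType.isLocallyNoetherian (f.fiberToSpecResidueField (f x))
  have hdim0 : topologicalKrullDim (f.fiber (f x)) ≤ 0 := by
    rw [Groth.Agent.Lib.Helper14.AS.topologicalKrullDim_eq_iSup_stalk]
    refine iSup_le fun z => ?_
    rw [ringKrullDim_stalk_eq_coheight]
    have hmax : IsMax z := by
      intro z' hz'
      have hsp : z' ⤳ z := hz'
      have h1 : f.fiberι (f x) z' ⤳ f.fiberι (f x) z := hsp.map (f.fiberι (f x)).continuous
      have h2 : f.fiberι (f x) z' = f.fiberι (f x) z :=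
        eq_of_specializes_in_fibre f hgen (f x) hdim h1 (f.fiberHomeo (f x) z).2
          (f.fiberHomeo (f x) z').2
      have h3 : z' = z := (f.fiberHomeo (f x)).injective (Subtype.ext h2)
      rw [h3]
    rw [Order.coheight_eq_zero.mpr hmax]
    rfl
  haveI : IsLocallyArtinian (f.fiber (f x)) := IsLocallyArtinian.of_topologicalKrullDim_le_zero hdim0
  exact isOpen_discrete _

end Groth.Agent.Lib.Helper21.QfCodim
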