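import Groth.Agent.Lib.Helper21.GenFin2
import Groth.Agent.Lib.Helper21.BirRad1
import Groth.Agent.Lib.Helper21.QfCodim4

/-!
# Finite function field extensions: equivalent conditions (EGA-style)
-/

set_option autoImplicit false
set_option linter.style.haveILetI false
set_option linter.unusedSectionVars false
universe u
open AlgebraicGeometry CategoryTheory Limits TopologicalSpace

namespace Groth.Agent.Lib.Helper21.GenFin

variable {X Y : Scheme.{u}} [IsIntegral X] [IsIntegral Y] (f : X ⟶ Y) [IsDominant f]

/-- Finite function field extension implies quasi-finite at the generic point. -/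
theorem quasiFiniteAt_genericPoint_of_finite
    (hfin : letI := (f.residueFieldMap (genericPoint X)).hom.toAlgebra
      Module.Finite (Y.residueField (f (genericPoint X))) (X.residueField (genericPoint X))) :
    f.QuasiFiniteAt (genericPoint X) := by
  have hfξ : f (genericPoint X) = genericPoint Y := map_genericPoint f
  have hbX := Groth.Agent.Lib.Helper21.BirRad.residue_bijective_of_eq_genericPoint
    (genericPoint X) rfl
  have hbY := Groth.Agent.Lib.Helper21.BirRad.residue_bijective_of_eq_genericPoint
    (f (genericPoint X)) hfξ
  have sq := Scheme.residue_residueFieldMap f (genericPoint X)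
  let eX : X.presheaf.stalk (genericPoint X) ≃+* X.residueField (genericPoint X) :=
    RingEquiv.ofBijective (X.residue (genericPoint X)).hom hbX
  have hfinres : (f.residueFieldMap (genericPoint X)).hom.Finite := hfin
  have h1 : ((f.residueFieldMap (genericPoint X)).hom.comp
      (Y.residue (f (genericPoint X))).hom).Finite :=
    hfinres.comp (RingHom.Finite.of_surjective _ hbY.2)
  have h2 : (f.stalkMap (genericPoint X)).hom =
      (eX.symm : X.residueField (genericPoint X) →+* X.presheaf.stalk (genericPoint X)).comp
        ((f.residueFieldMap (genericPoint X)).hom.comp (Y.residue (f (genericPoint X))).hom) := by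
    ext t
    simp only [RingHom.comp_apply, RingEquiv.coe_toRingHom]
    rw [RingEquiv.eq_symm_apply]
    have := congrArg (fun g => g.hom t) sq
    simp only [CommRingCat.hom_comp, RingHom.comp_apply] at this
    exact this.symm
  have h3 : (f.stalkMap (genericPoint X)).hom.Finite := by
    rw [h2]
    exact (RingHom.Finite.of_surjective _ eX.symm.surjective).comp h1
  exact RingHom.QuasiFinite.of_finite h3

variable [LocallyOfFiniteType f]

theorem finite_iff_quasiFiniteAt_genericPoint :
    (letI := (f.residueFieldMap (genericPoint X)).hom.toAlgebra;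
      Module.Finite (Y.residueField (f (genericPoint X))) (X.residueField (genericPoint X))) ↔
    f.QuasiFiniteAt (genericPoint X) :=
  ⟨quasiFiniteAt_genericPoint_of_finite f,
    Groth.Agent.Lib.Helper6.EtLoc.finite_residueField_of_quasiFiniteAt f (genericPoint X)⟩

/-- quasi-finite at the generic point iff the generic fibre is a single point. -/
theorem quasiFiniteAt_genericPoint_iff_forall :
    f.QuasiFiniteAt (genericPoint X) ↔ ∀ x : X, f x = genericPoint Y → x = genericPoint X := by
  have hfξ : f (genericPoint X) = genericPoint Y := map_genericPoint f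
  constructor
  · intro h x hx
    exact Groth.Agent.Lib.Helper21.QfCodim.eq_of_quasiFiniteAt_of_specializes f h
      (genericPoint_specializes x) (hx.trans hfξ.symm)
  · intro h
    rw [Scheme.Hom.quasiFiniteAt_iff_isOpen_singleton_asFiber]
    have huniv : ({f.asFiber (genericPoint X)} : Set (f.fiber (f (genericPoint X)))) = Set.univ := by
      rw [Set.eq_univ_iff_forall]
      intro z
      have hz : f (f.fiberι _ z) = f (genericPoint X) := (f.fiberHomeo _ z).2
      have h1 : f.fiberι _ z = genericPoint X := h _ (hz.trans hfξ)
      have h2 : f.fiberHomeo _ z = f.fiberHomeo _ (f.asFiber (genericPoint X)) := by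
        apply Subtype.ext
        rw [Scheme.Hom.fiberHomeo_apply, Scheme.Hom.fiberHomeo_apply, h1,
          Scheme.Hom.fiberι_asFiber]
      exact (f.fiberHomeo _).injective h2
    rw [huniv]
    exact isOpen_univ

/-- A finite restriction over nonempty affine opens gives quasi-finiteness at the generic
point. -/
theorem quasiFiniteAt_genericPoint_of_isFinite_resLE (U : X.Opens) (V : Y.Opens)
    (hUV : U ≤ f ⁻¹ᵁ V) (hne : Nonempty ↥U) (hfin : IsFinite (f.resLE V U hUV)) :
    f.QuasiFiniteAt (genericPoint X) := by
  have hξU : genericPoint X ∈ U := by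
    obtain ⟨⟨z, hz⟩⟩ := hne
    exact (genericPoint_specializes z).mem_open U.isOpen hz
  have h1 : (f.resLE V U hUV).QuasiFiniteAt ⟨genericPoint X, hξU⟩ :=
    Scheme.Hom.quasiFiniteAt _ _
  exact (RingHom.QuasiFinite.respectsIso.arrow_mk_iso_iff
    (Scheme.Hom.resLEStalkMap f hUV ⟨genericPoint X, hξU⟩)).mp h1

end Groth.Agent.Lib.Helper21.GenFin
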