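import Groth.Agent.Lib.Helper21.GenFin3

/-!
# Finite function field extensions: the condition on a full preimage
-/

set_option autoImplicit false
set_option linter.style.haveILetI false
set_option linter.unusedSectionVars false
universe u
open AlgebraicGeometry CategoryTheory Limits TopologicalSpace

namespace Groth.Agent.Lib.Helper21.GenFin

variable {X Y : Scheme.{u}} [IsIntegral X] [IsIntegral Y] (f : X ⟶ Y) [IsDominant f]
  [LocallyOfFiniteType f]

theorem genericPoint_mem_of_nonempty {Z : Scheme.{u}} [IrreducibleSpace Z] (V : Z.Opens)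
    (hne : Nonempty ↥V) : genericPoint Z ∈ V := by
  obtain ⟨⟨z, hz⟩⟩ := hne
  exact (genericPoint_specializes z).mem_open V.isOpen hz

/-- If `f⁻¹(V) ⟶ V` is finite for some nonempty open `V`, then `f` is quasi-finite at the
generic point. -/
theorem quasiFiniteAt_genericPoint_of_isFinite_morphismRestrict (V : Y.Opens)
    (hne : Nonempty ↥V) (hfin : IsFinite (f ∣_ V)) :
    f.QuasiFiniteAt (genericPoint X) := by
  have hfξ : f (genericPoint X) = genericPoint Y := map_genericPoint f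
  have hηV : genericPoint Y ∈ V := genericPoint_mem_of_nonempty V hne
  have hξ : genericPoint X ∈ f ⁻¹ᵁ V := by
    change f (genericPoint X) ∈ V
    rw [hfξ]; exact hηV
  have h1 : IsFinite (f.resLE V (f ⁻¹ᵁ V) le_rfl) := by
    rw [Scheme.Hom.resLE_eq_morphismRestrict]; exact hfin
  exact quasiFiniteAt_genericPoint_of_isFinite_resLE f (f ⁻¹ᵁ V) V le_rfl ⟨⟨_, hξ⟩⟩ h1

/-- Separated case: a finite `U ⟶ V` with `U` nonempty forces `U = f⁻¹ V`. -/
theorem eq_preimage_of_isFinite_resLE [IsSeparated f] (U : X.Opens) (V : Y.Opens)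
    (hUV : U ≤ f ⁻¹ᵁ V) (hne : Nonempty ↥U) (hfin : IsFinite (f.resLE V U hUV)) :
    U = f ⁻¹ᵁ V := by
  have hξU : genericPoint X ∈ U := genericPoint_mem_of_nonempty U hne
  have hcomp : X.homOfLE hUV ≫ f ∣_ V = f.resLE V U hUV := rfl
  haveI : UniversallyClosed (X.homOfLE hUV ≫ f ∣_ V) := by
    rw [hcomp]; infer_instance
  haveI : UniversallyClosed (X.homOfLE hUV) :=
    UniversallyClosed.of_comp_of_isSeparated (X.homOfLE hUV) (f ∣_ V)
  have hclosed : IsClosed (Set.range (X.homOfLE hUV)) :=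
    (X.homOfLE hUV).isClosedMap.isClosed_range
  apply le_antisymm hUV
  intro x hx
  have hspec : (⟨genericPoint X, hUV hξU⟩ : ↥(f ⁻¹ᵁ V)) ⤳ ⟨x, hx⟩ :=
    (subtype_specializes_iff _ _).mpr (genericPoint_specializes x)
  have hmem : (⟨genericPoint X, hUV hξU⟩ : ↥(f ⁻¹ᵁ V)) ∈ Set.range (X.homOfLE hUV) :=
    ⟨⟨genericPoint X, hξU⟩, by
      apply Subtype.ext
      simp⟩
  obtain ⟨⟨u, hu⟩, hu'⟩ := hspec.mem_closed hclosed hmem
  have : u = x := by
    have := congrArg Subtype.val hu'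
    simpa using this
  exact this ▸ hu

theorem exists_isFinite_morphismRestrict_of_isSeparated [IsSeparated f]
    (hB : ∃ (U : X.Opens) (V : Y.Opens) (hUV : U ≤ f ⁻¹ᵁ V), IsAffineOpen U ∧ IsAffineOpen V ∧
      Nonempty ↥U ∧ IsFinite (f.resLE V U hUV)) :
    ∃ V : Y.Opens, IsAffineOpen V ∧ Nonempty ↥V ∧ IsFinite (f ∣_ V) := by
  obtain ⟨U, V, hUV, hU, hV, hne, hfin⟩ := hB
  have hUeq := eq_preimage_of_isFinite_resLE f U V hUV hne hfin
  obtain ⟨⟨u, hu⟩⟩ := hne
  refine ⟨V, hV, ⟨⟨f u, hUV hu⟩⟩, ?_⟩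
  rw [← Scheme.Hom.resLE_eq_morphismRestrict]
  exact (Scheme.Hom.resLE_congr f hUV rfl hUeq @IsFinite).mp hfin

end Groth.Agent.Lib.Helper21.GenFin
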