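import Mathlib

/-!
# Algebras integral over a field whose base changes have connected spectrum
-/

set_option autoImplicit false
set_option linter.style.haveILetI false
set_option linter.unusedSectionVars false
universe u

open TensorProduct

namespace Groth.Agent.Lib.Helper21.GeomConnAlg

/-- a ring integral over a field with preconnected spectrum has at most one prime -/
theorem subsingleton_primeSpectrum_of_isIntegral (F S : Type*) [Field F] [CommRing S] [Algebra F S]
    [Algebra.IsIntegral F S] [PreconnectedSpace (PrimeSpectrum S)] :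
    Subsingleton (PrimeSpectrum S) := by
  refine ⟨fun p q => ?_⟩
  by_contra hpq
  -- all primes are maximal
  have hmax : ∀ P : PrimeSpectrum S, P.asIdeal.IsMaximal := by
    intro P
    haveI := P.2
    have hc : (P.asIdeal.comap (algebraMap F S)).IsMaximal := by
      have : P.asIdeal.comap (algebraMap F S) = ⊥ :=
        ((Ideal.bot_isMaximal (K := F)).eq_of_le (Ideal.comap_ne_top _ P.2.ne_top) bot_le).symm
      rw [this]
      exact Ideal.bot_isMaximal
    exact Ideal.isMaximal_of_isIntegral_of_isMaximal_comap (R := F) P.asIdeal hc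
  have hnle : ¬ p.asIdeal ≤ q.asIdeal := by
    intro hle
    exact hpq (PrimeSpectrum.ext ((hmax p).eq_of_le q.2.ne_top hle))
  obtain ⟨a, hap, haq⟩ := Set.not_subset.mp hnle
  let A := Algebra.adjoin F {a}
  have hint : IsIntegral F a := Algebra.IsIntegral.isIntegral a
  haveI : Module.Finite F A := Module.Finite.iff_fg.mpr hint.fg_adjoin_singleton
  haveI : IsArtinianRing A := IsArtinianRing.of_finite F A
  haveI : PreconnectedSpace (PrimeSpectrum A) := by
    haveI : Algebra.IsIntegral A S := Algebra.IsIntegral.tower_top (R := F)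
    haveI : FaithfulSMul A S :=
      (faithfulSMul_iff_algebraMap_injective A S).mpr Subtype.val_injective
    have hsurj := Algebra.IsIntegral.comap_surjective A S
    exact hsurj.denseRange.preconnectedSpace (PrimeSpectrum.continuous_comap (algebraMap A S))
  haveI : Subsingleton (PrimeSpectrum A) := PreconnectedSpace.trivial_of_discrete
  have h := Subsingleton.elim (PrimeSpectrum.comap (algebraMap A S) p)
    (PrimeSpectrum.comap (algebraMap A S) q)
  have h1 : (⟨a, Algebra.self_mem_adjoin_singleton F a⟩ : A) ∈
      (PrimeSpectrum.comap (algebraMap A S) p).asIdeal := hap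
  rw [h] at h1
  exact haq h1

/-- if all field base changes of a local `k`-algebra `R`, integral over `k`, have preconnected
spectrum, the residue field of `R` is purely inseparable over `k` -/
theorem isPurelyInseparable_residueField (k R : Type u) [Field k] [CommRing R] [Algebra k R]
    [Algebra.IsIntegral k R] [IsLocalRing R]
    (h : ∀ (Ω : Type u) [Field Ω] [Algebra k Ω], PreconnectedSpace (PrimeSpectrum (Ω ⊗[k] R))) :
    IsPurelyInseparable k (IsLocalRing.ResidueField R) := by
  rw [isPurelyInseparable_iff_subsingleton_emb]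
  refine ⟨fun σ τ => ?_⟩
  let L := IsLocalRing.ResidueField R
  let Ω := AlgebraicClosure L
  haveI := h Ω
  haveI : Subsingleton (PrimeSpectrum (Ω ⊗[k] R)) :=
    subsingleton_primeSpectrum_of_isIntegral Ω (Ω ⊗[k] R)
  let res : R →ₐ[k] L := IsScalarTower.toAlgHom k R L
  let σ' : Ω ⊗[k] R →ₐ[Ω] Ω :=
    Algebra.TensorProduct.lift (Algebra.ofId Ω Ω) (σ.comp res) (fun _ _ => Commute.all _ _)
  let τ' : Ω ⊗[k] R →ₐ[Ω] Ω :=
    Algebra.TensorProduct.lift (Algebra.ofId Ω Ω) (τ.comp res) (fun _ _ => Commute.all _ _)
  have hker : RingHom.ker σ'.toRingHom = RingHom.ker τ'.toRingHom := by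
    have h1 : (RingHom.ker σ'.toRingHom).IsPrime := RingHom.ker_isPrime _
    have h2 : (RingHom.ker τ'.toRingHom).IsPrime := RingHom.ker_isPrime _
    exact congrArg PrimeSpectrum.asIdeal
      (Subsingleton.elim (⟨_, h1⟩ : PrimeSpectrum (Ω ⊗[k] R)) ⟨_, h2⟩)
  apply AlgHom.ext
  intro x
  obtain ⟨r, rfl⟩ := IsLocalRing.residue_surjective x
  have hmem : ((1 : Ω) ⊗ₜ[k] r - (σ (IsLocalRing.residue R r)) ⊗ₜ[k] (1 : R)) ∈
      RingHom.ker σ'.toRingHom := by
    rw [RingHom.mem_ker]
    have : algebraMap R L r = IsLocalRing.residue R r := rfl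
    simp [σ', res, this]
  rw [hker, RingHom.mem_ker] at hmem
  have h3 : τ (IsLocalRing.residue R r) - σ (IsLocalRing.residue R r) = 0 := by
    have : algebraMap R L r = IsLocalRing.residue R r := rfl
    simpa [τ', res, this] using hmem
  exact (sub_eq_zero.mp h3).symm

/-- a zero-dimensional local `k`-algebra with purely inseparable residue field has a single prime
after every field base change -/
theorem subsingleton_primeSpectrum_tensor (k R K : Type u) [Field k] [CommRing R] [Algebra k R]
    [IsLocalRing R] [Ring.KrullDimLE 0 R] [IsPurelyInseparable k (IsLocalRing.ResidueField R)]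
    [Field K] [Algebra k K] : Subsingleton (PrimeSpectrum (K ⊗[k] R)) := by
  let L := IsLocalRing.ResidueField R
  let res : R →ₐ[k] L := IsScalarTower.toAlgHom k R L
  have hres : Function.Surjective res := IsLocalRing.residue_surjective
  let π : K ⊗[k] R →ₐ[K] K ⊗[k] L := Algebra.TensorProduct.map (AlgHom.id K K) res
  have hπ : Function.Surjective π := by
    have : (π : K ⊗[k] R → K ⊗[k] L) = (res.toLinearMap.lTensor K) := by
      funext x
      rfl
    rw [this]
    exact LinearMap.lTensor_surjective K hres
  have hker : RingHom.ker π.toRingHom ≤ nilradical (K ⊗[k] R) := by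
    have h1 := Algebra.TensorProduct.lTensor_ker (A := K) res hres
    have h2 : RingHom.ker π.toRingHom = (RingHom.ker res).map
        (Algebra.TensorProduct.includeRight : R →ₐ[k] K ⊗[k] R) := h1
    rw [h2, Ideal.map_le_iff_le_comap]
    intro r hr
    rw [Ideal.mem_comap, mem_nilradical]
    have hr' : r ∈ IsLocalRing.maximalIdeal R := by
      rw [RingHom.mem_ker] at hr
      exact (IsLocalRing.residue_eq_zero_iff r).mp hr
    have : IsNilpotent r := Ring.KrullDimLE.isNilpotent_iff_mem_maximalIdeal.mpr hr'
    exact this.map _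
  have hhom := PrimeSpectrum.isHomeomorph_comap π.toRingHom
    (fun x => ⟨1, one_pos, by
      obtain ⟨y, hy⟩ := hπ x
      exact ⟨y, by simpa using hy⟩⟩) hker
  have hL := PrimeSpectrum.isHomeomorph_comap_of_isPurelyInseparable k L K
  haveI : Subsingleton (PrimeSpectrum (K ⊗[k] L)) := hL.injective.subsingleton
  exact ⟨fun p q => by
    obtain ⟨p', rfl⟩ := hhom.surjective p
    obtain ⟨q', rfl⟩ := hhom.surjective q
    rw [Subsingleton.elim p' q']⟩

end Groth.Agent.Lib.Helper21.GeomConnAlg
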