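import Mathlib
import Groth.Agent.Lib.Helper28.GeomConnIdem
import Groth.Agent.Lib.Helper21.PropH0
import Groth.Agent.Lib.Helper21.GeomConnAlg

/-!
# Geometric connectedness of a quasi-compact quasi-separated scheme over a field via `Γ`
-/

set_option autoImplicit false
set_option linter.style.haveILetI false
set_option linter.unusedSectionVars false
universe u

open TensorProduct AlgebraicGeometry CategoryTheory Limits Opposite

namespace Groth.Agent.Lib.Helper21.GeomConnSch

open Groth.Agent.Lib.Helper21.PropH0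

/-- if `Spec Γ(Z, O_Z)` is preconnected, then so is `Z` -/
theorem preconnectedSpace_of_primeSpectrum_Γ (Z : Scheme.{u})
    [PreconnectedSpace (PrimeSpectrum Γ(Z, ⊤))] : PreconnectedSpace Z := by
  rw [preconnectedSpace_iff_clopen]
  intro s hs
  let U : Z.Opens := ⟨s, hs.isOpen⟩
  let V : Z.Opens := ⟨sᶜ, hs.isClosed.isOpen_compl⟩
  have hUV : U ⊔ V = ⊤ := by
    ext x
    simp [U, V, em]
  have hinf : U ⊓ V = ⊥ := by
    ext x
    simp [U, V]
  haveI : Subsingleton Γ(Z, U ⊓ V) := by
    rw [hinf]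
    infer_instance
  let x : RingHom.eqLocus
      (RingHom.comp (Z.sheaf.obj.map (homOfLE inf_le_left : U ⊓ V ⟶ U).op).hom
        (RingHom.fst (Z.sheaf.obj.obj <| op U) (Z.sheaf.obj.obj <| op V)))
      (RingHom.comp (Z.sheaf.obj.map (homOfLE inf_le_right : U ⊓ V ⟶ V).op).hom
        (RingHom.snd (Z.sheaf.obj.obj <| op U) (Z.sheaf.obj.obj <| op V))) :=
    ⟨((1 : Γ(Z, U)), (0 : Γ(Z, V))), Subsingleton.elim (α := Γ(Z, U ⊓ V)) _ _⟩
  let e0 : Γ(Z, U ⊔ V) := (Z.sheaf.objSupIsoProdEqLocus U V).inv x
  have h1 : Z.presheaf.map (homOfLE le_sup_left : U ⟶ U ⊔ V).op e0 = 1 :=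
    TopCat.Sheaf.objSupIsoProdEqLocus_inv_fst Z.sheaf U V x
  have h2 : Z.presheaf.map (homOfLE le_sup_right : V ⟶ U ⊔ V).op e0 = 0 :=
    TopCat.Sheaf.objSupIsoProdEqLocus_inv_snd Z.sheaf U V x
  haveI : PreconnectedSpace (PrimeSpectrum Γ(Z, U ⊔ V)) := by
    rw [hUV]
    infer_instance
  have hidem : IsIdempotentElem e0 := by
    have hx : IsIdempotentElem x := by
      apply Subtype.ext
      apply Prod.ext
      · show (1 : Γ(Z, U)) * 1 = 1
        rw [mul_one]
      · show (0 : Γ(Z, V)) * 0 = 0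
        rw [mul_zero]
    exact hx.map (Z.sheaf.objSupIsoProdEqLocus U V).inv.hom
  rcases Groth.Agent.Lib.Helper28.idem_eq_zero_or_one_of_preconnected hidem with h | h
  · left
    rw [h, map_zero] at h1
    by_contra hne
    obtain ⟨z, hz⟩ := Set.nonempty_iff_ne_empty.mpr hne
    haveI : Nonempty U := ⟨⟨z, hz⟩⟩
    exact zero_ne_one (α := Γ(Z, U)) h1
  · right
    rw [h, map_one] at h2
    by_contra hne
    have : (sᶜ : Set Z).Nonempty := by
      rw [Set.nonempty_compl]
      exact hne
    obtain ⟨z, hz⟩ := this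
    haveI : Nonempty V := ⟨⟨z, hz⟩⟩
    exact one_ne_zero (α := Γ(Z, V)) h2

/-- flat base change of global sections along a field extension: `Γ(X_K) ≃ K ⊗[k] Γ(X)` -/
theorem nonempty_ringEquiv_tensor (k K : Type u) [Field k] [Field K] [Algebra k K]
    {X Z : Scheme.{u}} (f : X ⟶ Spec (CommRingCat.of k)) [QuasiCompact f] [QuasiSeparated f]
    (fst : Z ⟶ X) (snd : Z ⟶ Spec (CommRingCat.of K))
    (H : IsPullback fst snd f (Spec.map (CommRingCat.ofHom (algebraMap k K))))
    [Algebra k Γ(X, ⊤)]
    (halg : algebraMap k Γ(X, ⊤) = ((Scheme.ΓSpecIso (CommRingCat.of k)).inv ≫ f.appTop).hom) :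
    Nonempty (K ⊗[k] Γ(X, ⊤) ≃+* Γ(Z, ⊤)) := by
  let φ : CommRingCat.of k ⟶ CommRingCat.of K := CommRingCat.ofHom (algebraMap k K)
  let y : Spec (CommRingCat.of K) ⟶ Spec (CommRingCat.of k) := Spec.map φ
  haveI : CompactSpace X := (quasiCompact_iff_compactSpace f).mp inferInstance
  haveI : QuasiSeparatedSpace X := (quasiSeparated_iff_quasiSeparatedSpace f).mp inferInstance
  haveI : Flat y := by
    haveI : Subsingleton ↥(Spec (CommRingCat.of k)) :=
      inferInstanceAs (Subsingleton (PrimeSpectrum k))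
    infer_instance
  have h1 := isIso_pushoutSection_of_isQuasiSeparated_of_flat_right H
    (US := ⊤) (UT := ⊤) (UX := ⊤) (UY := ⊤) le_top le_top (by simp)
    (isAffineOpen_top _) (isAffineOpen_top _) isCompact_univ isQuasiSeparated_univ
  rw [isIso_pushoutSection_iff] at h1
  simp only [appLE_top_top] at h1
  have h2 : IsPushout (CommRingCat.ofHom (algebraMap k Γ(X, ⊤))) φ fst.appTop
      ((Scheme.ΓSpecIso (CommRingCat.of K)).inv ≫ snd.appTop) := by
    refine h1.of_iso (Scheme.ΓSpecIso (CommRingCat.of k)) (Iso.refl _)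
      (Scheme.ΓSpecIso (CommRingCat.of K)) (Iso.refl _) ?_ ?_ ?_ ?_
    · rw [halg]
      simp
    · exact Scheme.ΓSpecIso_naturality φ
    · simp
    · simp
  exact ⟨((CommRingCat.isPushout_tensorProduct k K Γ(X, ⊤)).isoIsPushout _ _
    h2.flip).commRingCatIsoToRingEquiv⟩

/-- **Geometric connectedness via global sections**: a qcqs scheme over a field `k` is geometrically
connected iff it is nonempty and `Spec (K ⊗[k] Γ(X, O_X))` is connected for all fields `K/k`. -/
theorem geometricallyConnected_iff (k : Type u) [Field k] {X : Scheme.{u}}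
    (f : X ⟶ Spec (CommRingCat.of k)) [QuasiCompact f] [QuasiSeparated f]
    [Algebra k Γ(X, ⊤)]
    (halg : algebraMap k Γ(X, ⊤) = ((Scheme.ΓSpecIso (CommRingCat.of k)).inv ≫ f.appTop).hom) :
    GeometricallyConnected f ↔ Nonempty X ∧ ∀ (K : Type u) [Field K] [Algebra k K],
      PreconnectedSpace (PrimeSpectrum (K ⊗[k] Γ(X, ⊤))) := by
  constructor
  · intro hgc
    refine ⟨?_, fun K _ _ => ?_⟩
    · haveI : Surjective f := inferInstance
      obtain ⟨x, -⟩ := f.surjective (Nonempty.some (inferInstanceAs (Nonempty (PrimeSpectrum k))))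
      exact ⟨x⟩
    · let y : Spec (CommRingCat.of K) ⟶ Spec (CommRingCat.of k) :=
        Spec.map (CommRingCat.ofHom (algebraMap k K))
      have H := IsPullback.of_hasPullback f y
      haveI : ConnectedSpace ↥(pullback f y) :=
        GeometricallyConnected.geometrically_connectedSpace (f := f) y _ _ H
      haveI : CompactSpace ↥(pullback f y) :=
        (quasiCompact_iff_compactSpace (pullback.snd f y)).mp inferInstance
      obtain ⟨e⟩ := nonempty_ringEquiv_tensor k K f _ _ H halg
      haveI := preconnectedSpace_primeSpectrum_Γ (pullback f y)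
      exact Groth.Agent.Lib.Helper28.preconnectedSpace_of_surjective
        (PrimeSpectrum.homeomorphOfRingEquiv e).symm.surjective
        (PrimeSpectrum.homeomorphOfRingEquiv e).symm.continuous
  · rintro ⟨hne, hK⟩
    refine ⟨fun K _ y Z fst snd H => ?_⟩
    letI : Algebra k K := (Spec.preimage y).hom.toAlgebra
    have hy : y = Spec.map (CommRingCat.ofHom (algebraMap k K)) := (Spec.map_preimage y).symm
    rw [hy] at H
    obtain ⟨e⟩ := nonempty_ringEquiv_tensor k K f fst snd H halg
    haveI := hK K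
    haveI : PreconnectedSpace (PrimeSpectrum Γ(Z, ⊤)) :=
      Groth.Agent.Lib.Helper28.preconnectedSpace_of_surjective
        (PrimeSpectrum.homeomorphOfRingEquiv e).surjective
        (PrimeSpectrum.homeomorphOfRingEquiv e).continuous
    haveI := preconnectedSpace_of_primeSpectrum_Γ Z
    haveI : Surjective (Spec.map (CommRingCat.ofHom (algebraMap k K))) := by
      refine ⟨fun p => ?_⟩
      haveI : Subsingleton ↥(Spec (CommRingCat.of k)) :=
        inferInstanceAs (Subsingleton (PrimeSpectrum k))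
      exact ⟨Nonempty.some (inferInstanceAs (Nonempty (PrimeSpectrum K))), Subsingleton.elim _ _⟩
    haveI : Surjective fst := MorphismProperty.of_isPullback H.flip inferInstance
    obtain ⟨x⟩ := hne
    obtain ⟨z, -⟩ := fst.surjective x
    exact { toPreconnectedSpace := inferInstance, toNonempty := ⟨z⟩ }

end Groth.Agent.Lib.Helper21.GeomConnSch
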