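import Groth.Agent.Lib.Helper21.KA8
import Mathlib.RingTheory.KrullDimension.NonZeroDivisors
import Mathlib.RingTheory.HopkinsLevitzki
import Mathlib.RingTheory.Jacobson.Ideal
import Mathlib.RingTheory.Artinian.Ring

/-!
# Glueing a one-dimensional semi-local domain and a discrete valuation ring (Stacks 09N?)

Auxiliary algebra: powers of a non-unit of a discrete valuation ring, powers of an element of the
Jacobson radical of a one-dimensional Noetherian domain.
-/

set_option autoImplicit false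
universe u

namespace Groth.Agent.Lib.Helper21.Glue

variable {K : Type u} [Field K]

/-- Multiplying by a high power of a non-unit of a discrete valuation ring lands in the ring. -/
theorem exists_forall_mul_pow_mem (B : ValuationSubring K) [IsDiscreteValuationRing B] (t : K)
    (htB : t ∈ B) (ht : B.valuation t < 1) (x : K) : ∃ n : ℕ, ∀ m, n ≤ m → x * t ^ m ∈ B := by
  obtain ⟨b₁, b₂, hb₂, rfl⟩ := IsFractionRing.div_surjective (A := B) x
  have hb₂0 : b₂ ≠ 0 := nonZeroDivisors.ne_zero hb₂
  obtain ⟨ϖ, hϖ⟩ := IsDiscreteValuationRing.exists_irreducible B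
  obtain ⟨k, u, hu⟩ := IsDiscreteValuationRing.eq_unit_mul_pow_irreducible hb₂0 hϖ
  let tB : B := ⟨t, htB⟩
  have h1 : tB ∈ IsLocalRing.maximalIdeal B := (B.valuation_lt_one_iff tB).mpr ht
  rw [hϖ.maximalIdeal_eq, Ideal.mem_span_singleton'] at h1
  obtain ⟨c, hc⟩ := h1
  refine ⟨k, fun m hm => ?_⟩
  obtain ⟨j, rfl⟩ := Nat.exists_eq_add_of_le hm
  have hϖ0 : (ϖ : K) ≠ 0 := by
    intro h0
    exact hϖ.ne_zero (Subtype.ext h0)
  have hυ : ((u : B) : K) * ((↑u⁻¹ : B) : K) = 1 := by
    have : (u : B) * (↑u⁻¹ : B) = 1 := Units.mul_inv u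
    exact_mod_cast congrArg (Subtype.val : B → K) this
  have hυ0 : ((u : B) : K) ≠ 0 := left_ne_zero_of_mul_eq_one hυ
  have ht' : t = (c : K) * (ϖ : K) := (congrArg (Subtype.val : B → K) hc).symm
  have hb₂' : (b₂ : K) = ((u : B) : K) * (ϖ : K) ^ k := by
    have := congrArg (Subtype.val : B → K) hu
    simpa using this
  have key : algebraMap B K b₁ / algebraMap B K b₂ * t ^ (k + j) =
      ((b₁ * ↑u⁻¹ * c ^ k * tB ^ j : B) : K) := by
    change (b₁ : K) / (b₂ : K) * t ^ (k + j) = _
    have hne : (b₂ : K) ≠ 0 := by rw [hb₂']; exact mul_ne_zero hυ0 (pow_ne_zero _ hϖ0)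
    rw [div_mul_eq_mul_div, div_eq_iff hne, hb₂']
    push_cast
    change (b₁ : K) * t ^ (k + j) = (b₁ : K) * ((↑u⁻¹ : B) : K) * (c : K) ^ k * t ^ j *
      (((u : B) : K) * (ϖ : K) ^ k)
    rw [pow_add, ht', mul_pow]
    linear_combination (-((b₁ : K) * (c : K) ^ k * (ϖ : K) ^ k * ((c : K) * (ϖ : K)) ^ j)) * hυ
  rw [key]
  exact Subtype.mem _

/-- The quotient of a one-dimensional Noetherian domain by a nonzero element is Artinian. -/
theorem isArtinianRing_quot {R : Type u} [CommRing R] [IsDomain R] [IsNoetherianRing R]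
    (hdim : ringKrullDim R ≤ 1) (a : R) (ha : a ≠ 0) :
    IsArtinianRing (R ⧸ Ideal.span ({a} : Set R)) := by
  have h1 := (ringKrullDim_quotient_succ_le_of_nonZeroDivisor
    (mem_nonZeroDivisors_of_ne_zero ha)).trans hdim
  have h0 : ringKrullDim (R ⧸ Ideal.span ({a} : Set R)) ≤ 0 := by
    generalize ringKrullDim (R ⧸ Ideal.span ({a} : Set R)) = x at h1
    induction x with
    | bot => exact bot_le
    | coe n =>
      induction n with
      | top => exact absurd h1 (by decide)
      | coe k =>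
        have : k + 1 ≤ 1 := by exact_mod_cast h1
        have hk : k = 0 := by omega
        subst hk
        exact le_rfl
  have hK : Ring.KrullDimLE 0 (R ⧸ Ideal.span ({a} : Set R)) := by
    rw [Ring.krullDimLE_iff]; exact_mod_cast h0
  exact isArtinianRing_iff_krullDimLE_zero.mpr hK

/-- Multiplying by a high power of an element of the Jacobson radical of a one-dimensional
Noetherian domain lands in the ring. -/
theorem exists_forall_mul_pow_mem_of_mem_jacobson (A : Subring K) [IsFractionRing A K]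
    [IsNoetherianRing A] (hdim : ringKrullDim A ≤ 1) (s : A)
    (hs : s ∈ (⊥ : Ideal A).jacobson) (x : K) : ∃ n : ℕ, ∀ m, n ≤ m → x * (s : K) ^ m ∈ A := by
  obtain ⟨p, q, hq, rfl⟩ := IsFractionRing.div_surjective (A := A) x
  have hq0 : q ≠ 0 := nonZeroDivisors.ne_zero hq
  have hart : IsArtinianRing (A ⧸ Ideal.span ({q} : Set A)) := isArtinianRing_quot hdim q hq0
  set J : Ideal A := Ideal.span ({q} : Set A) with hJ
  have h1 : s ∈ J.jacobson := Ideal.jacobson_mono bot_le hs
  have h2 : Ideal.Quotient.mk J s ∈ Ideal.map (Ideal.Quotient.mk J) J.jacobson :=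
    Ideal.mem_map_of_mem _ h1
  rw [Ideal.map_jacobson_of_surjective Ideal.Quotient.mk_surjective (by rw [Ideal.mk_ker]),
    Ideal.map_quotient_self] at h2
  obtain ⟨N, hN⟩ := IsArtinianRing.isNilpotent_jacobson_bot (R := A ⧸ J)
  have h3 : (Ideal.Quotient.mk J s) ^ N ∈ ((⊥ : Ideal (A ⧸ J)).jacobson) ^ N :=
    Ideal.pow_mem_pow h2 N
  rw [hN, Ideal.zero_eq_bot, Ideal.mem_bot, ← map_pow, Ideal.Quotient.eq_zero_iff_mem] at h3
  refine ⟨N, fun m hm => ?_⟩
  have h4 : s ^ m ∈ J := by
    obtain ⟨k, rfl⟩ := Nat.exists_eq_add_of_le hm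
    rw [pow_add]
    exact J.mul_mem_right _ h3
  rw [hJ, Ideal.mem_span_singleton'] at h4
  obtain ⟨c, hc⟩ := h4
  have hq0' : (q : K) ≠ 0 := fun h0 => hq0 (Subtype.ext h0)
  have key : algebraMap A K p / algebraMap A K q * (s : K) ^ m = ((p * c : A) : K) := by
    change (p : K) / (q : K) * (s : K) ^ m = _
    have hc' : (c : K) * (q : K) = (s : K) ^ m := by
      have := congrArg (Subtype.val : A → K) hc
      simpa using this
    rw [div_mul_eq_mul_div, div_eq_iff hq0', ← hc']
    push_cast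
    ring
  rw [key]
  exact Subtype.mem _

end Groth.Agent.Lib.Helper21.Glue
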