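import Groth.Agent.Lib.Helper21.Glue1
import Mathlib.AlgebraicGeometry.OpenImmersion
import Mathlib.Algebra.Category.Ring.Constructions
import Mathlib.RingTheory.Ideal.Quotient.Operations
import Mathlib.RingTheory.KrullDimension.Basic
import Mathlib.RingTheory.KrullDimension.Field

/-!
# Glueing a one-dimensional semi-local domain and a discrete valuation ring: the dichotomy
-/

set_option autoImplicit false
universe u
open AlgebraicGeometry CategoryTheory Limits

namespace Groth.Agent.Lib.Helper21.Glue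

variable {K : Type u} [Field K]

/-- A criterion for a ring extension to be a localization away from an element. -/
theorem isLocalization_away_aux {R S : Type*} [CommRing R] [CommRing S] [Algebra R S]
    (hinj : Function.Injective (algebraMap R S)) (t : R) (ht : IsUnit (algebraMap R S t))
    (hsurj : ∀ z : S, ∃ n : ℕ, ∃ r : R, z * (algebraMap R S t) ^ n = algebraMap R S r) :
    IsLocalization.Away t S := by
  refine (isLocalization_iff _ _).mpr ⟨?_, ?_, ?_⟩
  · rintro ⟨y, n, rfl⟩
    rw [map_pow]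
    exact ht.pow n
  · intro z
    obtain ⟨n, r, hr⟩ := hsurj z
    exact ⟨(r, ⟨t ^ n, n, rfl⟩), by rw [← hr, map_pow]⟩
  · intro x y hxy
    exact ⟨1, by rw [hinj hxy]⟩

section partB

/-- If all units of the semi-local ring `A` lie in the valuation ring `B`, then `A ⊆ B`. -/
theorem le_of_units_mem (A : Subring K) (B : ValuationSubring K) [Finite (MaximalSpectrum A)]
    (H : ∀ u : A, IsUnit u → (u : K) ∈ B) : A ≤ B.toSubring := by
  classical
  intro a ha
  by_contra hnB
  let a' : A := ⟨a, ha⟩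
  have hI : Pairwise (Function.onFun IsCoprime fun m : MaximalSpectrum A => m.asIdeal) := by
    intro m₁ m₂ hne
    have h1 : m₁.asIdeal.IsMaximal := m₁.isMaximal
    have h2 : m₂.asIdeal.IsMaximal := m₂.isMaximal
    exact Ideal.isCoprime_of_isMaximal (fun h => hne (MaximalSpectrum.ext h))
  obtain ⟨e, he⟩ := Ideal.exists_forall_sub_mem_ideal hI
    (fun m => if a' ∈ m.asIdeal then (1 : A) else 0)
  have hunit : ∀ n : ℕ, n ≠ 0 → IsUnit (a' ^ n + e) := by
    intro n hn
    by_contra hnu
    obtain ⟨M, hM, hmem⟩ := exists_max_ideal_of_mem_nonunits (mem_nonunits_iff.mpr hnu)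
    have hem := he ⟨M, hM⟩
    by_cases haM : a' ∈ M
    · simp only [if_pos haM] at hem
      have h1 : e ∈ M := by
        have := M.sub_mem hmem (M.pow_mem_of_mem haM n (Nat.pos_of_ne_zero hn))
        simpa using this
      have h2 : (1 : A) ∈ M := by
        have := M.sub_mem h1 hem
        simpa using this
      exact hM.ne_top ((Ideal.eq_top_iff_one M).mpr h2)
    · simp only [if_neg haM, sub_zero] at hem
      have h1 : a' ^ n ∈ M := by
        have := M.sub_mem hmem hem
        simpa using this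
      exact haM (hM.isPrime.mem_of_pow_mem n h1)
  have h1 : (a + (e : K)) ∈ B := by
    have := H _ (hunit 1 one_ne_zero)
    simpa [a'] using this
  have h2 : (a ^ 2 + (e : K)) ∈ B := by
    have := H _ (hunit 2 two_ne_zero)
    simpa [a'] using this
  have hva : 1 < B.valuation a := not_le.mp fun hle => hnB ((B.valuation_le_one_iff a).mp hle)
  have hv1 : B.valuation (a + (e : K)) ≤ 1 := (B.valuation_le_one_iff _).mpr h1
  have hv2 : B.valuation (a ^ 2 + (e : K)) ≤ 1 := (B.valuation_le_one_iff _).mpr h2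
  have hve : B.valuation (e : K) = B.valuation a := by
    have h3 : (e : K) = (a + (e : K)) - a := by ring
    rw [h3]
    exact Valuation.map_sub_eq_of_lt_right _ (lt_of_le_of_lt hv1 hva)
  have hlt : B.valuation (e : K) < B.valuation (a ^ 2) := by
    rw [hve, map_pow, sq]
    have hpos : 0 < B.valuation a := lt_trans zero_lt_one hva
    calc B.valuation a = B.valuation a * 1 := (mul_one _).symm
      _ < B.valuation a * B.valuation a := by
        exact mul_lt_mul_of_pos_left hva hpos
  have h4 : B.valuation (a ^ 2 + (e : K)) = B.valuation (a ^ 2) :=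
    Valuation.map_add_eq_of_lt_left _ hlt
  rw [h4, map_pow] at hv2
  exact absurd hv2 (not_le.mpr (one_lt_pow₀ hva two_ne_zero))

/-- **Part (b).** If all units of `A` lie in `B`, then `B` dominates a localization of `A` at a
maximal ideal, and `A` and `B` do not generate `K`. -/
theorem partB (A : Subring K) [IsFractionRing A K] [IsNoetherianRing A]
    (hdim : ringKrullDim A = 1) [Finite (MaximalSpectrum A)]
    (B : ValuationSubring K) [IsDiscreteValuationRing B]
    (H : ∀ u : A, IsUnit u → (u : K) ∈ B) :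
    (∃ h : A ≤ B.toSubring,
      (Ideal.comap (Subring.inclusion h) (IsLocalRing.maximalIdeal B)).IsMaximal) ∧
      A ⊔ B.toSubring ≠ ⊤ := by
  have hAB : A ≤ B.toSubring := le_of_units_mem A B H
  have hKD : Ring.KrullDimLE 1 A := Ring.krullDimLE_iff.mpr (le_of_eq hdim)
  have hBnf : ¬ IsField B := IsDiscreteValuationRing.not_isField B
  refine ⟨⟨hAB, ?_⟩, ?_⟩
  · have hprime : (Ideal.comap (Subring.inclusion hAB) (IsLocalRing.maximalIdeal B)).IsPrime :=
      Ideal.comap_isPrime _ _
    refine hprime.isMaximal_of_ne_bot ?_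
    -- a nonzero element of `A` in the maximal ideal of `B`
    have hm0 : IsLocalRing.maximalIdeal B ≠ ⊥ := IsDiscreteValuationRing.not_a_field B
    obtain ⟨b, hb, hb0⟩ := Submodule.exists_mem_ne_zero_of_ne_bot hm0
    obtain ⟨p, q, hq, hpq⟩ := IsFractionRing.div_surjective (A := A) (b : K)
    have hq0 : (q : K) ≠ 0 := fun h0 => nonZeroDivisors.ne_zero hq (Subtype.ext h0)
    have hb0' : (b : K) ≠ 0 := fun h0 => hb0 (Subtype.ext h0)
    have hp : (p : K) = (b : K) * (q : K) := by
      change (p : K) / (q : K) = (b : K) at hpq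
      rw [← hpq, div_mul_cancel₀ _ hq0]
    intro hbot
    have h1 : p ∈ Ideal.comap (Subring.inclusion hAB) (IsLocalRing.maximalIdeal B) := by
      rw [Ideal.mem_comap]
      have h2 : Subring.inclusion hAB p = b * ⟨(q : K), hAB q.2⟩ := Subtype.ext hp
      rw [h2]
      exact Ideal.mul_mem_right _ _ hb
    rw [hbot, Ideal.mem_bot] at h1
    have : (p : K) = 0 := congrArg Subtype.val h1
    rw [hp] at this
    exact (mul_ne_zero hb0' hq0) this
  · rw [sup_eq_right.mpr hAB]
    intro htop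
    apply hBnf
    refine ⟨⟨0, 1, zero_ne_one⟩, mul_comm, ?_⟩
    intro a ha
    have ha0 : (a : K) ≠ 0 := fun h0 => ha (Subtype.ext h0)
    have hmem : (a : K)⁻¹ ∈ B.toSubring := by rw [htop]; exact Subring.mem_top _
    exact ⟨⟨(a : K)⁻¹, hmem⟩, Subtype.ext (mul_inv_cancel₀ ha0)⟩

end partB

section partA

/-- A nonzero element of the Jacobson radical of a semi-local domain which is not a field. -/
theorem exists_ne_zero_mem_jacobson (A : Type u) [CommRing A] [IsDomain A]
    [Finite (MaximalSpectrum A)] (hnf : ¬ IsField A) :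
    ∃ r : A, r ≠ 0 ∧ r ∈ (⊥ : Ideal A).jacobson := by
  classical
  have := Fintype.ofFinite (MaximalSpectrum A)
  have hex : ∀ m : MaximalSpectrum A, ∃ x : A, x ∈ m.asIdeal ∧ x ≠ 0 := fun m =>
    Submodule.exists_mem_ne_zero_of_ne_bot
      (Ring.ne_bot_of_isMaximal_of_not_isField m.isMaximal hnf)
  choose x hx hx0 using hex
  refine ⟨∏ m, x m, Finset.prod_ne_zero_iff.mpr fun m _ => hx0 m, ?_⟩
  rw [Ideal.jacobson, Ideal.mem_sInf]
  rintro M ⟨-, hM⟩
  have hdvd : x ⟨M, hM⟩ ∣ ∏ m, x m := Finset.dvd_prod_of_mem x (Finset.mem_univ _)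
  exact Ideal.mem_of_dvd M hdvd (hx ⟨M, hM⟩)

variable (A : Subring K) [IsFractionRing A K] [IsNoetherianRing A]
  (B : ValuationSubring K) [IsDiscreteValuationRing B]

/-- The data of part (a): elements `t, s` of `A ∩ B` with `t` a unit of `A` in the maximal ideal
of `B`, `s` a unit of `B` in the Jacobson radical of `A`, generating the unit ideal. -/
theorem exists_elements (hdim : ringKrullDim A = 1) [Finite (MaximalSpectrum A)]
    (u : A) (hu : IsUnit u) (huB : (u : K) ∉ B) :
    ∃ t s w : K, t ∈ A ∧ t ∈ B ∧ s ∈ A ∧ s ∈ B ∧ w ∈ A ∧ w ∈ B ∧ t⁻¹ ∈ A ∧ s⁻¹ ∈ B ∧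
      t ≠ 0 ∧ s ≠ 0 ∧ B.valuation t < 1 ∧ (∀ hs : s ∈ A, (⟨s, hs⟩ : A) ∈ (⊥ : Ideal A).jacobson) ∧
      w * t + w * s = 1 := by
  have hu0 : (u : K) ≠ 0 := fun h0 => huB (h0 ▸ zero_mem B)
  obtain ⟨u', huu'⟩ := hu.exists_right_inv
  have huu'K : (u : K) * (u' : K) = 1 := congrArg Subtype.val huu'
  have hu'eq : (u' : K) = (u : K)⁻¹ := eq_inv_of_mul_eq_one_right huu'K
  set t : K := (u : K)⁻¹ with ht
  have htA : t ∈ A := by rw [← hu'eq]; exact u'.2
  have ht0 : t ≠ 0 := inv_ne_zero hu0
  have hvu : 1 < B.valuation (u : K) :=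
    not_le.mp fun hle => huB ((B.valuation_le_one_iff _).mp hle)
  have hvt : B.valuation t < 1 := by
    rw [ht, map_inv₀]
    exact inv_lt_one_of_one_lt₀ hvu
  have htB : t ∈ B := (B.valuation_le_one_iff t).mp hvt.le
  have htinv : t⁻¹ ∈ A := by rw [ht, inv_inv]; exact u.2
  -- a nonzero element of the Jacobson radical
  have hnf : ¬ IsField A := by
    intro hf
    have := ringKrullDim_eq_zero_of_isField hf
    rw [hdim] at this
    exact one_ne_zero this
  obtain ⟨r, hr0, hrJ⟩ := exists_ne_zero_mem_jacobson A hnf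
  have hr0' : (r : K) ≠ 0 := fun h0 => hr0 (Subtype.ext h0)
  -- the exponent
  obtain ⟨n, hn⟩ := exists_forall_mul_pow_mem B t htB hvt (r : K)⁻¹
  set y : K := (r : K)⁻¹ * t ^ (n + 1) with hy
  have hyB' : (r : K)⁻¹ * t ^ n ∈ B := hn n le_rfl
  have hvy : B.valuation y < 1 := by
    have h1 : y = t * ((r : K)⁻¹ * t ^ n) := by rw [hy, pow_succ]; ring
    rw [h1, map_mul]
    calc B.valuation t * B.valuation ((r : K)⁻¹ * t ^ n) ≤ B.valuation t * 1 := by
          exact mul_le_mul' le_rfl ((B.valuation_le_one_iff _).mpr hyB')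
      _ = B.valuation t := mul_one _
      _ < 1 := hvt
  -- `z = r + t ^ (n+1)` is a unit of `A`
  have hzunit : IsUnit (r * u ^ (n + 1) + 1) := (Ideal.mem_jacobson_bot.mp hrJ) (u ^ (n + 1))
  obtain ⟨z', hz'⟩ := hzunit.exists_right_inv
  have hz'K : ((r : K) * (u : K) ^ (n + 1) + 1) * (z' : K) = 1 := by
    have := congrArg (Subtype.val : A → K) hz'
    simpa using this
  have htu : t * (u : K) = 1 := by rw [ht]; exact inv_mul_cancel₀ hu0
  have htun : t ^ (n + 1) * (u : K) ^ (n + 1) = 1 := by rw [← mul_pow, htu, one_pow]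
  set z : K := (r : K) + t ^ (n + 1) with hz
  have hzeq : z = t ^ (n + 1) * ((r : K) * (u : K) ^ (n + 1) + 1) := by
    rw [hz, mul_add, mul_one, mul_comm (t ^ (n + 1)), mul_assoc, mul_comm ((u : K) ^ (n + 1)),
      htun, mul_one]
  have hz0 : z ≠ 0 := by
    rw [hzeq]
    exact mul_ne_zero (pow_ne_zero _ ht0) (left_ne_zero_of_mul_eq_one hz'K)
  have hzinvA : z⁻¹ ∈ A := by
    have h1 : z⁻¹ = (u : K) ^ (n + 1) * (z' : K) := by
      rw [hzeq]
      apply inv_eq_of_mul_eq_one_right
      calc (t ^ (n + 1) * ((r : K) * (u : K) ^ (n + 1) + 1)) * ((u : K) ^ (n + 1) * (z' : K))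
          = (t ^ (n + 1) * (u : K) ^ (n + 1)) * (((r : K) * (u : K) ^ (n + 1) + 1) * (z' : K)) := by
            ring
        _ = 1 := by rw [htun, hz'K, one_mul]
    rw [h1]
    exact A.mul_mem (A.pow_mem u.2 _) z'.2
  -- the element `s`
  set s : K := (r : K) * z⁻¹ with hs
  have hsA : s ∈ A := A.mul_mem r.2 hzinvA
  have hs0 : s ≠ 0 := mul_ne_zero hr0' (inv_ne_zero hz0)
  have hsinv : s⁻¹ = 1 + y := by
    rw [hs, mul_inv, inv_inv, hz, hy]
    field_simp
  have hvsinv : B.valuation s⁻¹ = 1 := by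
    rw [hsinv]
    exact Valuation.map_one_add_of_lt _ hvy
  have hvs : B.valuation s = 1 := by
    have := hvsinv
    rw [map_inv₀, inv_eq_one] at this
    exact this
  have hsB : s ∈ B := (B.valuation_le_one_iff s).mp hvs.le
  have hsinvB : s⁻¹ ∈ B := (B.valuation_le_one_iff _).mp hvsinv.le
  have hsJ : ∀ hs' : s ∈ A, (⟨s, hs'⟩ : A) ∈ (⊥ : Ideal A).jacobson := by
    intro hs'
    have : (⟨s, hs'⟩ : A) = r * ⟨z⁻¹, hzinvA⟩ := Subtype.ext rfl
    rw [this]
    exact Ideal.mul_mem_right _ _ hrJ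
  -- the element `w = (t + s)⁻¹`
  have hvts : B.valuation (s + t) = 1 := by
    rw [← hvs]
    exact Valuation.map_add_eq_of_lt_left _ (by rw [hvs]; exact hvt)
  have hts0 : s + t ≠ 0 := by
    intro h0
    rw [h0, map_zero] at hvts
    exact zero_ne_one hvts
  have htsunit : IsUnit ((⟨s, hsA⟩ : A) * u + 1) := (Ideal.mem_jacobson_bot.mp (hsJ hsA)) u
  obtain ⟨w', hw'⟩ := htsunit.exists_right_inv
  have hw'K : (s * (u : K) + 1) * (w' : K) = 1 := by
    have := congrArg (Subtype.val : A → K) hw'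
    simpa using this
  have hwinv : (s + t)⁻¹ = (u : K) * (w' : K) := by
    apply inv_eq_of_mul_eq_one_right
    calc (s + t) * ((u : K) * (w' : K)) = (s * (u : K) + t * (u : K)) * (w' : K) := by ring
      _ = 1 := by rw [htu, hw'K]
  have hwA : (s + t)⁻¹ ∈ A := by rw [hwinv]; exact A.mul_mem u.2 w'.2
  have hwB : (s + t)⁻¹ ∈ B := by
    apply (B.valuation_le_one_iff _).mp
    rw [map_inv₀, hvts, inv_one]
  refine ⟨t, s, (s + t)⁻¹, htA, htB, hsA, hsB, hwA, hwB, htinv, hsinvB, ht0, hs0, hvt, hsJ, ?_⟩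
  rw [← mul_add, add_comm t s, inv_mul_cancel₀ hts0]

/-- **Part (a).** If some unit of `A` does not lie in `B`, then `Spec A` and `Spec B` form an open
cover of `Spec (A ∩ B)` and `A ⊗_{A ∩ B} B = K`. -/
theorem partA (hdim : ringKrullDim A = 1) [Finite (MaximalSpectrum A)]
    (u : A) (hu : IsUnit u) (huB : (u : K) ∉ B) :
    IsOpenImmersion (Spec.map (CommRingCat.ofHom
      (Subring.inclusion (inf_le_left : A ⊓ B.toSubring ≤ A)))) ∧
    IsOpenImmersion (Spec.map (CommRingCat.ofHom
      (Subring.inclusion (inf_le_right : A ⊓ B.toSubring ≤ B.toSubring)))) ∧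
    Set.range (Spec.map (CommRingCat.ofHom
      (Subring.inclusion (inf_le_left : A ⊓ B.toSubring ≤ A)))).base ∪
      Set.range (Spec.map (CommRingCat.ofHom
        (Subring.inclusion (inf_le_right : A ⊓ B.toSubring ≤ B.toSubring)))).base = Set.univ ∧
    IsPushout (CommRingCat.ofHom (Subring.inclusion (inf_le_left : A ⊓ B.toSubring ≤ A)))
      (CommRingCat.ofHom (Subring.inclusion (inf_le_right : A ⊓ B.toSubring ≤ B.toSubring)))
      (CommRingCat.ofHom A.subtype) (CommRingCat.ofHom B.toSubring.subtype) := by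
  obtain ⟨t, s, w, htA, htB, hsA, hsB, hwA, hwB, htinv, hsinvB, ht0, hs0, hvt, hsJ, hw⟩ :=
    exists_elements A B hdim u hu huB
  let R : Subring K := A ⊓ B.toSubring
  let iA : R →+* A := Subring.inclusion (inf_le_left : A ⊓ B.toSubring ≤ A)
  let iB : R →+* B.toSubring := Subring.inclusion (inf_le_right : A ⊓ B.toSubring ≤ B.toSubring)
  let tR : R := ⟨t, ⟨htA, htB⟩⟩
  let sR : R := ⟨s, ⟨hsA, hsB⟩⟩
  let wR : R := ⟨w, ⟨hwA, hwB⟩⟩
  have hwR : wR * tR + wR * sR = 1 := Subtype.ext hw
  let algA : Algebra R A := iA.toAlgebra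
  let algB : Algebra R B.toSubring := iB.toAlgebra
  have locA : IsLocalization.Away tR A := by
    refine isLocalization_away_aux (Subring.inclusion_injective _) tR ?_ ?_
    · refine ⟨⟨⟨t, htA⟩, ⟨t⁻¹, htinv⟩, Subtype.ext (mul_inv_cancel₀ ht0),
        Subtype.ext (inv_mul_cancel₀ ht0)⟩, rfl⟩
    · intro a
      obtain ⟨n, hn⟩ := exists_forall_mul_pow_mem B t htB hvt (a : K)
      refine ⟨n, ⟨(a : K) * t ^ n, ⟨A.mul_mem a.2 (A.pow_mem htA n), hn n le_rfl⟩⟩, ?_⟩
      apply Subtype.ext
      change (a : K) * ((algebraMap R A tR ^ n : A) : K) = (a : K) * t ^ n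
      rw [Subring.coe_pow]
      rfl
  have locB : IsLocalization.Away sR B.toSubring := by
    refine isLocalization_away_aux (Subring.inclusion_injective _) sR ?_ ?_
    · refine ⟨⟨⟨s, hsB⟩, ⟨s⁻¹, hsinvB⟩, Subtype.ext (mul_inv_cancel₀ hs0),
        Subtype.ext (inv_mul_cancel₀ hs0)⟩, rfl⟩
    · intro b
      obtain ⟨n, hn⟩ := exists_forall_mul_pow_mem_of_mem_jacobson A hdim.le ⟨s, hsA⟩ (hsJ hsA)
        (b : K)
      refine ⟨n, ⟨(b : K) * s ^ n, ⟨hn n le_rfl, mul_mem b.2 (pow_mem hsB n)⟩⟩, ?_⟩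
      apply Subtype.ext
      change (b : K) * ((algebraMap R B.toSubring sR ^ n : B.toSubring) : K) = (b : K) * s ^ n
      rw [Subring.coe_pow]
      rfl
  have locK : IsLocalization.Away (iB tR) K := by
    refine isLocalization_away_aux Subtype.val_injective (iB tR) ?_ ?_
    · exact IsUnit.mk0 _ ht0
    · intro x
      obtain ⟨n, hn⟩ := exists_forall_mul_pow_mem B t htB hvt x
      exact ⟨n, ⟨x * t ^ n, hn n le_rfl⟩, rfl⟩
  have hrA : Set.range (Spec.map (CommRingCat.ofHom iA)).base =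
      ((PrimeSpectrum.basicOpen tR : TopologicalSpace.Opens (PrimeSpectrum R)) :
        Set (PrimeSpectrum R)) :=
    PrimeSpectrum.localization_away_comap_range A tR
  have hrB : Set.range (Spec.map (CommRingCat.ofHom iB)).base =
      ((PrimeSpectrum.basicOpen sR : TopologicalSpace.Opens (PrimeSpectrum R)) :
        Set (PrimeSpectrum R)) :=
    PrimeSpectrum.localization_away_comap_range B.toSubring sR
  refine ⟨IsOpenImmersion.of_isLocalization tR, IsOpenImmersion.of_isLocalization sR, ?_, ?_⟩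
  · rw [hrA, hrB, Set.eq_univ_iff_forall]
    intro p
    by_contra hp
    rw [Set.mem_union, not_or] at hp
    have h1 : tR ∈ p.asIdeal := by
      by_contra h; exact hp.1 h
    have h2 : sR ∈ p.asIdeal := by
      by_contra h; exact hp.2 h
    have h3 : (1 : R) ∈ p.asIdeal := by
      rw [← hwR]
      exact p.asIdeal.add_mem (p.asIdeal.mul_mem_left _ h1) (p.asIdeal.mul_mem_left _ h2)
    exact p.isPrime.ne_top ((Ideal.eq_top_iff_one _).mpr h3)
  · have locK' : IsLocalization ((Submonoid.powers tR).map iB) K := by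
      rw [Submonoid.map_powers]; exact locK
    have H : (A.subtype).comp (algebraMap R A) = (algebraMap B.toSubring K).comp iB := by
      ext x; rfl
    exact (CommRingCat.isPushout_of_isLocalization iB A.subtype H (Submonoid.powers tR)).flip

end partA

end Groth.Agent.Lib.Helper21.Glue
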