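import Groth.Agent.Lib.Helper21.KA3
import Mathlib.RingTheory.Localization.Integral
import Mathlib.RingTheory.Algebraic.Integral
import Mathlib.RingTheory.Artinian.Ring

/-!
# Krull–Akizuki (Stacks 00PG)

`R` a Noetherian domain of dimension `≤ 1` with fraction field `K`, `L/K` finite, `A` a ring with
`R → A ↪ L`. Then `A` is Noetherian of dimension `≤ 1`, and `A/I` has finite length over `R` for
every nonzero ideal `I`.
-/

set_option autoImplicit false
universe u

namespace Groth.Agent.Lib.Helper21.KA

variable (R : Type*) [CommRing R] [IsDomain R] [IsNoetherianRing R] [Ring.KrullDimLE 1 R]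
  (K L : Type*) [Field K] [Field L] [Algebra R K] [IsFractionRing R K] [Algebra K L]
  [FiniteDimensional K L] [Algebra R L] [IsScalarTower R K L]
  (A : Type*) [CommRing A] [Algebra R A] [Algebra A L] [IsScalarTower R A L]

include K L in
theorem exists_ne_zero_dvd_algebraMap (hA : Function.Injective (algebraMap A L)) (a : A)
    (ha : a ≠ 0) : ∃ r : R, r ≠ 0 ∧ a ∣ algebraMap R A r := by
  have hdomA : IsDomain A := hA.isDomain (algebraMap A L)
  have halgKL : Algebra.IsAlgebraic K L := Algebra.IsAlgebraic.of_finite K L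
  have halgRL : Algebra.IsAlgebraic R L := (IsFractionRing.comap_isAlgebraic_iff (A := R)
    (K := K) (C := L)).mpr halgKL
  have hal : IsAlgebraic R a :=
    (isAlgebraic_algebraMap_iff hA).mp (Algebra.IsAlgebraic.isAlgebraic (algebraMap A L a))
  exact hal.exists_nonzero_dvd (mem_nonZeroDivisors_of_ne_zero ha)

include K in
/-- `A/xA` has finite length over `R` for nonzero `x ∈ R`. -/
theorem length_quotient_span_algebraMap_ne_top (hA : Function.Injective (algebraMap A L))
    (x : R) (hx : x ≠ 0) :
    Module.length R (A ⧸ Ideal.span {algebraMap R A x}) ≠ ⊤ := by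
  have hfl : ∀ y : R, y ≠ 0 → Module.length R (R ⧸ Ideal.span {y}) ≠ ⊤ := fun y hy =>
    length_quotient_span_singleton_ne_top y hy
  let j : A →ₗ[R] L := (IsScalarTower.toAlgHom R A L).toLinearMap
  have hj : Function.Injective j := hA
  have h1 := length_quotient_smul_le (K := K) (V := L) hfl j hj x hx
  have heq : LinearMap.range (LinearMap.lsmul R A x) =
      (Ideal.span {algebraMap R A x} : Ideal A).restrictScalars R := by
    ext a
    rw [LinearMap.mem_range, Submodule.restrictScalars_mem, Ideal.mem_span_singleton']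
    constructor
    · rintro ⟨a', rfl⟩
      exact ⟨a', by rw [mul_comm, ← Algebra.smul_def]; rfl⟩
    · rintro ⟨a', rfl⟩
      exact ⟨a', by rw [mul_comm, ← Algebra.smul_def]; rfl⟩
  rw [heq, (Submodule.Quotient.restrictScalarsEquiv R
    (Ideal.span {algebraMap R A x} : Ideal A)).length_eq] at h1
  intro htop
  rw [htop, top_le_iff] at h1
  exact WithTop.mul_ne_top (ENat.natCast_ne_top _) (hfl x hx) h1

include R K L in
/-- **Krull–Akizuki**: `A` is Noetherian. -/
theorem isNoetherianRing_of_injective (hA : Function.Injective (algebraMap A L)) :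
    IsNoetherianRing A := by
  rw [isNoetherianRing_iff_ideal_fg]
  intro I
  by_cases hI : I = ⊥
  · rw [hI]; exact Submodule.fg_bot
  obtain ⟨a, haI, ha0⟩ := Submodule.exists_mem_ne_zero_of_ne_bot hI
  obtain ⟨x, hx0, hxa⟩ := exists_ne_zero_dvd_algebraMap R K L A hA a ha0
  let J : Ideal A := Ideal.span {algebraMap R A x}
  have hJI : J ≤ I := by
    rw [Ideal.span_singleton_le_iff_mem]
    exact Ideal.mem_of_dvd I hxa haI
  have hlen := length_quotient_span_algebraMap_ne_top R K L A hA x hx0
  have hfin : IsFiniteLength R (A ⧸ J) := Module.length_ne_top_iff.mp hlen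
  have hnoeth : IsNoetherian R (A ⧸ J) := (isFiniteLength_iff_isNoetherian_isArtinian.mp hfin).1
  have hnoethA : IsNoetherian A (A ⧸ J) := isNoetherian_of_tower R hnoeth
  refine Submodule.fg_of_fg_map_of_fg_inf_ker J.mkQ (IsNoetherian.noetherian _) ?_
  rw [Submodule.ker_mkQ, inf_eq_right.mpr hJI]
  exact Submodule.fg_span_singleton _

include R K L in
/-- **Krull–Akizuki**: `A` has dimension `≤ 1`. -/
theorem krullDimLE_one_of_injective (hA : Function.Injective (algebraMap A L)) :
    Ring.KrullDimLE 1 A := by
  have hdomA : IsDomain A := hA.isDomain (algebraMap A L)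
  rw [Ring.krullDimLE_one_iff_of_noZeroDivisors]
  intro P hP0 hP
  obtain ⟨a, haP, ha0⟩ := Submodule.exists_mem_ne_zero_of_ne_bot hP0
  obtain ⟨x, hx0, hxa⟩ := exists_ne_zero_dvd_algebraMap R K L A hA a ha0
  let J : Ideal A := Ideal.span {algebraMap R A x}
  have hJP : J ≤ P := by
    rw [Ideal.span_singleton_le_iff_mem]
    exact Ideal.mem_of_dvd P hxa haP
  have hlen := length_quotient_span_algebraMap_ne_top R K L A hA x hx0
  have hfin : IsFiniteLength R (A ⧸ J) := Module.length_ne_top_iff.mp hlen
  have hart : IsArtinian R (A ⧸ J) := (isFiniteLength_iff_isNoetherian_isArtinian.mp hfin).2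
  have hartA : IsArtinian A (A ⧸ J) := isArtinian_of_tower R hart
  have hartring : IsArtinianRing (A ⧸ J) :=
    isArtinian_of_tower A (inferInstance : IsArtinian A (A ⧸ J))
  have hPmap : (P.map (Ideal.Quotient.mk J)).IsPrime :=
    Ideal.map_isPrime_of_surjective Ideal.Quotient.mk_surjective (by rwa [Ideal.mk_ker])
  have hmax : (P.map (Ideal.Quotient.mk J)).IsMaximal := IsArtinianRing.isMaximal_of_isPrime _
  have hcomap : (P.map (Ideal.Quotient.mk J)).comap (Ideal.Quotient.mk J) = P := by
    rw [Ideal.comap_map_of_surjective _ Ideal.Quotient.mk_surjective, ← RingHom.ker_eq_comap_bot,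
      Ideal.mk_ker, sup_eq_left.mpr hJP]
  rw [← hcomap]
  exact Ideal.comap_isMaximal_of_surjective _ Ideal.Quotient.mk_surjective

end Groth.Agent.Lib.Helper21.KA
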