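import Groth.Agent.Lib.Helper21.KA10
import Groth.Agent.S6370

/-!
# Semi-local one-dimensional Noetherian domains and their normalization
-/

set_option autoImplicit false
universe u
open scoped WithZero
open IsDedekindDomain

namespace Groth.Agent.Lib.Helper21.KA

section SL

variable (B : Type u) [CommRing B] [IsDomain B] [IsNoetherianRing B]
  (K : Type u) [Field K] [Algebra B K] [IsFractionRing B K]

/-- The normalization of a one-dimensional Noetherian domain is a Dedekind domain which is not a
field, and has finitely many maximal ideals if the domain does. -/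
theorem normalization_facts (hdim : ringKrullDim B = 1) :
    IsDedekindDomain (integralClosure B K) ∧ ¬ IsField (integralClosure B K) ∧
      (Finite (MaximalSpectrum B) → Finite (MaximalSpectrum (integralClosure B K))) := by
  classical
  let B' := integralClosure B K
  obtain ⟨hDed, -, hfib, -⟩ := Groth.Agent.S6370.result B K K B' hdim
  have hint : Algebra.IsIntegral B B' := inferInstance
  have hinjBB' : Function.Injective (algebraMap B B') := by
    have h1 : Function.Injective (algebraMap B K) := IsFractionRing.injective B K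
    rw [IsScalarTower.algebraMap_eq B B' K, RingHom.coe_comp] at h1
    exact Function.Injective.of_comp h1
  refine ⟨hDed, ?_, ?_⟩
  · intro hf
    have hBf : IsField B := isField_of_isIntegral_of_isField hinjBB' hf
    have := ringKrullDim_eq_zero_of_isField hBf
    rw [hdim] at this
    exact one_ne_zero this
  · intro hsl
    let T : Set (PrimeSpectrum B') :=
      ⋃ m : MaximalSpectrum B, PrimeSpectrum.comap (algebraMap B B') ⁻¹' {m.toPrimeSpectrum}
    have hT : T.Finite := Set.finite_iUnion fun m => hfib m.toPrimeSpectrum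
    have hmem : ∀ 𝔑 : MaximalSpectrum B', 𝔑.toPrimeSpectrum ∈ T := by
      intro 𝔑
      have hmax : (𝔑.asIdeal.comap (algebraMap B B')).IsMaximal :=
        Ideal.isMaximal_comap_of_isIntegral_of_isMaximal 𝔑.asIdeal
      rw [Set.mem_iUnion]
      exact ⟨⟨𝔑.asIdeal.comap (algebraMap B B'), hmax⟩, rfl⟩
    have hTfin : Finite T := hT
    exact Finite.of_injective (fun 𝔑 : MaximalSpectrum B' => (⟨𝔑.toPrimeSpectrum, hmem 𝔑⟩ : T))
      (fun a b hab => MaximalSpectrum.toPrimeSpectrum_injective (congrArg Subtype.val hab))

end SL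

section Ded

variable (R : Type u) [CommRing R] [IsDedekindDomain R] (K : Type u) [Field K] [Algebra R K]
  [IsFractionRing R K]

theorem finite_heightOneSpectrum_of_finite_maximalSpectrum [Finite (MaximalSpectrum R)] :
    Finite (HeightOneSpectrum R) :=
  Finite.of_injective (fun v : HeightOneSpectrum R => (⟨v.asIdeal, v.isMaximal⟩ : MaximalSpectrum R))
    (fun a b hab => HeightOneSpectrum.ext (congrArg MaximalSpectrum.asIdeal hab))

/-- An element of `K` with all valuations `< 1` is integral and lies in every maximal ideal. -/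
theorem mem_maximal_of_valuation_lt_one (hnf : ¬ IsField R) (b : K)
    (hb : ∀ v : HeightOneSpectrum R, v.valuation K b < 1) :
    ∃ b' : R, algebraMap R K b' = b ∧ ∀ 𝔑 : Ideal R, 𝔑.IsMaximal → b' ∈ 𝔑 := by
  obtain ⟨b', hb'⟩ := HeightOneSpectrum.mem_integers_of_valuation_le_one K b
    (fun v => (hb v).le)
  refine ⟨b', hb', ?_⟩
  intro 𝔑 h𝔑
  have h𝔑0 : 𝔑 ≠ ⊥ := Ring.ne_bot_of_isMaximal_of_not_isField h𝔑 hnf
  let v : HeightOneSpectrum R := ⟨𝔑, h𝔑.isPrime, h𝔑0⟩
  have := hb v
  rw [← hb'] at this
  exact (v.valuation_lt_one_iff_mem b').mp this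

/-- If a subring `A` of `K` together with `R` generates `K`, then `A` is not contained in the
valuation ring of any height one prime of `R`. -/
theorem exists_one_lt_valuation_of_sup_eq_top (A : Subring K)
    (hgen : A ⊔ (algebraMap R K).range = ⊤) (v : HeightOneSpectrum R) :
    ∃ a ∈ A, 1 < v.valuation K a := by
  by_contra hcon
  push_neg at hcon
  have hle : A ⊔ (algebraMap R K).range ≤ (v.valuation K).integer := by
    refine sup_le (fun a ha => hcon a ha) ?_
    rintro _ ⟨r, rfl⟩
    exact v.valuation_le_one r
  rw [hgen] at hle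
  obtain ⟨π, hπ, hπ0⟩ := Submodule.exists_mem_ne_zero_of_ne_bot v.ne_bot
  have h1 : v.valuation K (algebraMap R K π) < 1 := (v.valuation_lt_one_iff_mem π).mpr hπ
  have h0 : algebraMap R K π ≠ 0 := by
    rw [Ne, FaithfulSMul.algebraMap_eq_zero_iff]; exact hπ0
  have h2 : v.valuation K (algebraMap R K π)⁻¹ ≤ 1 := hle (Subring.mem_top _)
  rw [map_inv₀] at h2
  have h3 : v.valuation K (algebraMap R K π) ≠ 0 := (Valuation.ne_zero_iff _).mpr h0
  have h4 : 1 ≤ v.valuation K (algebraMap R K π) := (inv_le_one₀ (zero_lt_iff.mpr h3)).mp h2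
  exact absurd h1 (not_lt.mpr h4)

end Ded

end Groth.Agent.Lib.Helper21.KA
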