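import Groth.Agent.Lib.Helper21.Glue2
import Groth.Agent.S1640

/-!
# Glueing two one-dimensional semi-local domains (Stacks 09NB-type statement)
-/

set_option autoImplicit false
universe u
open AlgebraicGeometry CategoryTheory Limits

namespace Groth.Agent.Lib.Helper21.Glue

variable {K : Type u} [Field K]

/-- The general assembly: two subrings `A`, `B` of a field and elements `t, s` of `A ∩ B` with
`t + s = 1`, `A = (A ∩ B)[1/t]`, `B = (A ∩ B)[1/s]`, `K = B[1/t]`. -/
theorem glue_two (A B : Subring K) (t s : K) (htA : t ∈ A) (htB : t ∈ B) (hsA : s ∈ A)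
    (hsB : s ∈ B) (htinv : t⁻¹ ∈ A) (hsinv : s⁻¹ ∈ B) (ht0 : t ≠ 0) (hs0 : s ≠ 0)
    (hts : t + s = 1)
    (hA : ∀ a ∈ A, ∃ n : ℕ, a * t ^ n ∈ B) (hB : ∀ b ∈ B, ∃ n : ℕ, b * s ^ n ∈ A)
    (hK : ∀ x : K, ∃ n : ℕ, x * t ^ n ∈ B) :
    IsOpenImmersion (Spec.map (CommRingCat.ofHom
      (Subring.inclusion (inf_le_left : A ⊓ B ≤ A)))) ∧
    IsOpenImmersion (Spec.map (CommRingCat.ofHom
      (Subring.inclusion (inf_le_right : A ⊓ B ≤ B)))) ∧
    Set.range (Spec.map (CommRingCat.ofHom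
      (Subring.inclusion (inf_le_left : A ⊓ B ≤ A)))).base ∪
      Set.range (Spec.map (CommRingCat.ofHom
        (Subring.inclusion (inf_le_right : A ⊓ B ≤ B)))).base = Set.univ ∧
    IsPushout (CommRingCat.ofHom (Subring.inclusion (inf_le_left : A ⊓ B ≤ A)))
      (CommRingCat.ofHom (Subring.inclusion (inf_le_right : A ⊓ B ≤ B)))
      (CommRingCat.ofHom A.subtype) (CommRingCat.ofHom B.subtype) := by
  let R : Subring K := A ⊓ B
  let iA : R →+* A := Subring.inclusion (inf_le_left : A ⊓ B ≤ A)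
  let iB : R →+* B := Subring.inclusion (inf_le_right : A ⊓ B ≤ B)
  let tR : R := ⟨t, ⟨htA, htB⟩⟩
  let sR : R := ⟨s, ⟨hsA, hsB⟩⟩
  have hwR : tR + sR = 1 := Subtype.ext hts
  let algA : Algebra R A := iA.toAlgebra
  let algB : Algebra R B := iB.toAlgebra
  have locA : IsLocalization.Away tR A := by
    refine isLocalization_away_aux (Subring.inclusion_injective _) tR ?_ ?_
    · refine ⟨⟨⟨t, htA⟩, ⟨t⁻¹, htinv⟩, Subtype.ext (mul_inv_cancel₀ ht0),
        Subtype.ext (inv_mul_cancel₀ ht0)⟩, rfl⟩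
    · intro a
      obtain ⟨n, hn⟩ := hA a a.2
      refine ⟨n, ⟨(a : K) * t ^ n, ⟨A.mul_mem a.2 (A.pow_mem htA n), hn⟩⟩, ?_⟩
      apply Subtype.ext
      change (a : K) * ((algebraMap R A tR ^ n : A) : K) = (a : K) * t ^ n
      rw [Subring.coe_pow]
      rfl
  have locB : IsLocalization.Away sR B := by
    refine isLocalization_away_aux (Subring.inclusion_injective _) sR ?_ ?_
    · refine ⟨⟨⟨s, hsB⟩, ⟨s⁻¹, hsinv⟩, Subtype.ext (mul_inv_cancel₀ hs0),
        Subtype.ext (inv_mul_cancel₀ hs0)⟩, rfl⟩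
    · intro b
      obtain ⟨n, hn⟩ := hB b b.2
      refine ⟨n, ⟨(b : K) * s ^ n, ⟨hn, B.mul_mem b.2 (B.pow_mem hsB n)⟩⟩, ?_⟩
      apply Subtype.ext
      change (b : K) * ((algebraMap R B sR ^ n : B) : K) = (b : K) * s ^ n
      rw [Subring.coe_pow]
      rfl
  have locK : IsLocalization.Away (iB tR) K := by
    refine isLocalization_away_aux Subtype.val_injective (iB tR) ?_ ?_
    · exact IsUnit.mk0 _ ht0
    · intro x
      obtain ⟨n, hn⟩ := hK x
      exact ⟨n, ⟨x * t ^ n, hn⟩, rfl⟩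
  have hrA : Set.range (Spec.map (CommRingCat.ofHom iA)).base =
      ((PrimeSpectrum.basicOpen tR : TopologicalSpace.Opens (PrimeSpectrum R)) :
        Set (PrimeSpectrum R)) :=
    PrimeSpectrum.localization_away_comap_range A tR
  have hrB : Set.range (Spec.map (CommRingCat.ofHom iB)).base =
      ((PrimeSpectrum.basicOpen sR : TopologicalSpace.Opens (PrimeSpectrum R)) :
        Set (PrimeSpectrum R)) :=
    PrimeSpectrum.localization_away_comap_range B sR
  refine ⟨IsOpenImmersion.of_isLocalization tR, IsOpenImmersion.of_isLocalization sR, ?_, ?_⟩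
  · rw [hrA, hrB, Set.eq_univ_iff_forall]
    intro p
    by_contra hp
    rw [Set.mem_union, not_or] at hp
    have h1 : tR ∈ p.asIdeal := by
      by_contra h; exact hp.1 h
    have h2 : sR ∈ p.asIdeal := by
      by_contra h; exact hp.2 h
    have h3 : (1 : R) ∈ p.asIdeal := by
      rw [← hwR]
      exact p.asIdeal.add_mem h1 h2
    exact p.isPrime.ne_top ((Ideal.eq_top_iff_one _).mpr h3)
  · have locK' : IsLocalization ((Submonoid.powers tR).map iB) K := by
      rw [Submonoid.map_powers]; exact locK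
    have H : (A.subtype).comp (algebraMap R A) = (algebraMap B K).comp iB := by
      ext x; rfl
    exact (CommRingCat.isPushout_of_isLocalization iB A.subtype H (Submonoid.powers tR)).flip

/-- **Glueing two one-dimensional Noetherian semi-local domains generating `K`.** -/
theorem glue_two_semilocal (A : Subring K) [IsFractionRing A K] (B : Subring K)
    [IsFractionRing B K] [IsNoetherianRing A] [IsNoetherianRing B]
    (hdimA : ringKrullDim A = 1) (hdimB : ringKrullDim B = 1)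
    (hslA : Finite (MaximalSpectrum A)) (hslB : Finite (MaximalSpectrum B)) (hgen : A ⊔ B = ⊤) :
    IsOpenImmersion (Spec.map (CommRingCat.ofHom
      (Subring.inclusion (inf_le_left : A ⊓ B ≤ A)))) ∧
    IsOpenImmersion (Spec.map (CommRingCat.ofHom
      (Subring.inclusion (inf_le_right : A ⊓ B ≤ B)))) ∧
    Set.range (Spec.map (CommRingCat.ofHom
      (Subring.inclusion (inf_le_left : A ⊓ B ≤ A)))).base ∪
      Set.range (Spec.map (CommRingCat.ofHom
        (Subring.inclusion (inf_le_right : A ⊓ B ≤ B)))).base = Set.univ ∧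
    IsPushout (CommRingCat.ofHom (Subring.inclusion (inf_le_left : A ⊓ B ≤ A)))
      (CommRingCat.ofHom (Subring.inclusion (inf_le_right : A ⊓ B ≤ B)))
      (CommRingCat.ofHom A.subtype) (CommRingCat.ofHom B.subtype) := by
  obtain ⟨x, hxA, hx0, hx⟩ := Groth.Agent.S1640.result K A 1 (fun _ => B)
    (fun _ => hdimB) (fun _ => hslB) (fun _ => hgen)
  obtain ⟨hxinvB, hxJ⟩ := hx 0
  obtain ⟨y, hyB, hy0, hy⟩ := Groth.Agent.S1640.result K B 1 (fun _ => A)
    (fun _ => hdimA) (fun _ => hslA) (fun _ => by rw [sup_comm]; exact hgen)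
  obtain ⟨hyinvA, hyJ⟩ := hy 0
  -- `α = x / y ∈ rad A`, `β = y / x ∈ rad B`
  let αA : A := ⟨x, hxA⟩ * ⟨y⁻¹, hyinvA⟩
  have hαJ : αA ∈ (⊥ : Ideal A).jacobson := Ideal.mul_mem_left _ _ hyJ
  let βB : B := ⟨y, hyB⟩ * ⟨x⁻¹, hxinvB⟩
  have hβJ : βB ∈ (⊥ : Ideal B).jacobson := Ideal.mul_mem_left _ _ hxJ
  have hαu : IsUnit (αA * 1 + 1) := Ideal.mem_jacobson_bot.mp hαJ 1
  have hβu : IsUnit (βB * 1 + 1) := Ideal.mem_jacobson_bot.mp hβJ 1
  obtain ⟨tA, htA'⟩ := hαu.exists_right_inv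
  obtain ⟨sB, hsB'⟩ := hβu.exists_right_inv
  have htK : (x * y⁻¹ + 1) * (tA : K) = 1 := by
    have := congrArg (Subtype.val : A → K) htA'
    simpa [αA] using this
  have hsK : (y * x⁻¹ + 1) * (sB : K) = 1 := by
    have := congrArg (Subtype.val : B → K) hsB'
    simpa [βB] using this
  have h1 : x * y⁻¹ + 1 ≠ 0 := left_ne_zero_of_mul_eq_one htK
  have h2 : y * x⁻¹ + 1 ≠ 0 := left_ne_zero_of_mul_eq_one hsK
  have htval : (tA : K) = (x * y⁻¹ + 1)⁻¹ := eq_inv_of_mul_eq_one_right htK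
  have hsval : (sB : K) = (y * x⁻¹ + 1)⁻¹ := eq_inv_of_mul_eq_one_right hsK
  set t : K := (tA : K) with ht
  set s : K := (sB : K) with hs
  have hxy : x + y ≠ 0 := by
    intro h0
    apply h1
    have : x * y⁻¹ + 1 = (x + y) * y⁻¹ := by field_simp
    rw [this, h0, zero_mul]
  have htval' : t = y / (x + y) := by
    rw [htval]
    have : x * y⁻¹ + 1 = (x + y) / y := by
      rw [add_div, div_self hy0, div_eq_mul_inv]
    rw [this, inv_div]
  have hsval' : s = x / (x + y) := by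
    rw [hsval]
    have : y * x⁻¹ + 1 = (x + y) / x := by
      rw [add_div, div_self hx0, div_eq_mul_inv, add_comm]
    rw [this, inv_div]
  have hst : s = (x * y⁻¹) * t := by
    rw [htval', hsval']
    field_simp
  have hts' : t = (y * x⁻¹) * s := by
    rw [htval', hsval']
    field_simp
  have hsum : t + s = 1 := by
    rw [htval', hsval', ← add_div, add_comm y x, div_self hxy]
  have htA : t ∈ A := tA.2
  have hsB : s ∈ B := sB.2
  have hsA : s ∈ A := by rw [hst]; exact A.mul_mem αA.2 htA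
  have htB : t ∈ B := by rw [hts']; exact B.mul_mem βB.2 hsB
  have ht0 : t ≠ 0 := right_ne_zero_of_mul_eq_one htK
  have hs0 : s ≠ 0 := right_ne_zero_of_mul_eq_one hsK
  have htinv : t⁻¹ ∈ A := by
    rw [htval, inv_inv]
    exact (αA * 1 + 1).2 |> fun h => by simpa [αA] using h
  have hsinv : s⁻¹ ∈ B := by
    rw [hsval, inv_inv]
    exact (βB * 1 + 1).2 |> fun h => by simpa [βB] using h
  have hsJA : (⟨s, hsA⟩ : A) ∈ (⊥ : Ideal A).jacobson := by
    have : (⟨s, hsA⟩ : A) = αA * tA := Subtype.ext hst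
    rw [this]
    exact Ideal.mul_mem_right _ _ hαJ
  have htJB : (⟨t, htB⟩ : B) ∈ (⊥ : Ideal B).jacobson := by
    have : (⟨t, htB⟩ : B) = βB * sB := Subtype.ext hts'
    rw [this]
    exact Ideal.mul_mem_right _ _ hβJ
  refine glue_two A B t s htA htB hsA hsB htinv hsinv ht0 hs0 hsum ?_ ?_ ?_
  · intro a _
    obtain ⟨n, hn⟩ := exists_forall_mul_pow_mem_of_mem_jacobson B hdimB.le ⟨t, htB⟩ htJB a
    exact ⟨n, hn n le_rfl⟩
  · intro b _
    obtain ⟨n, hn⟩ := exists_forall_mul_pow_mem_of_mem_jacobson A hdimA.le ⟨s, hsA⟩ hsJA b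
    exact ⟨n, hn n le_rfl⟩
  · intro z
    obtain ⟨n, hn⟩ := exists_forall_mul_pow_mem_of_mem_jacobson B hdimB.le ⟨t, htB⟩ htJB z
    exact ⟨n, hn n le_rfl⟩

end Groth.Agent.Lib.Helper21.Glue
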