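import Groth.Agent.Lib.Helper21.Glue3
import Mathlib.AlgebraicGeometry.Noetherian

/-!
# Glueing finitely many one-dimensional semi-local domains (Stacks 09NC-type statement)
-/

set_option autoImplicit false
universe u
open AlgebraicGeometry CategoryTheory Limits

namespace Groth.Agent.Lib.Helper21.Glue

variable {K : Type u} [Field K]

/-- A "partition of unity": elements `t i` of the intersection, with `t i` a unit of `A i`, lying
in the Jacobson radical of `A j` for `j ≠ i`, and summing to `1`. -/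
theorem exists_partition (r : ℕ)
    (A : Fin (r + 1) → Subring K) [∀ i, IsNoetherianRing (A i)] [∀ i, IsFractionRing (A i) K]
    (hdim : ∀ i, ringKrullDim (A i) = 1) (hsl : ∀ i, Finite (MaximalSpectrum (A i)))
    (hgen : ∀ i j, i ≠ j → A i ⊔ A j = ⊤) :
    ∃ t : Fin (r + 1) → K, (∀ i, t i ≠ 0) ∧ (∀ i j, t i ∈ A j) ∧ (∀ i, (t i)⁻¹ ∈ A i) ∧
      (∀ i j, i ≠ j → ∀ h : t i ∈ A j, (⟨t i, h⟩ : A j) ∈ (⊥ : Ideal (A j)).jacobson) ∧
      ∑ i, t i = 1 := by
  classical
  -- the elements `x i`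
  have hx : ∀ i : Fin (r + 1), ∃ x : K, x ∈ A i ∧ x ≠ 0 ∧ ∀ j, j ≠ i →
      ∃ hx : x⁻¹ ∈ A j, (⟨x⁻¹, hx⟩ : A j) ∈ (⊥ : Ideal (A j)).jacobson := by
    intro i
    obtain ⟨x, hxA, hx0, hx⟩ := Groth.Agent.S1640.result K (A i) r
      (fun k => A (i.succAbove k)) (fun k => hdim _) (fun k => hsl _)
      (fun k => hgen i (i.succAbove k) (Fin.succAbove_ne i k).symm)
    refine ⟨x, hxA, hx0, fun j hj => ?_⟩
    obtain ⟨k, rfl⟩ := Fin.exists_succAbove_eq hj
    exact hx k
  choose x hxA hx0 hxJ using hx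
  let z : Fin (r + 1) → K := fun i => (x i)⁻¹
  let D : K := ∑ k, z k
  -- `D * x j = 1 + ρ j` with `ρ j ∈ rad (A j)`
  let ρ : ∀ j : Fin (r + 1), A j := fun j =>
    ∑ k ∈ (Finset.univ.erase j).attach,
      (⟨z k, (hxJ k j (Finset.ne_of_mem_erase k.2).symm).1⟩ : A j) * ⟨x j, hxA j⟩
  have hρJ : ∀ j, ρ j ∈ (⊥ : Ideal (A j)).jacobson := by
    intro j
    refine Ideal.sum_mem _ fun k _ => ?_
    exact Ideal.mul_mem_right _ _ (hxJ k j (Finset.ne_of_mem_erase k.2).symm).2
  have hρval : ∀ j, ((ρ j : A j) : K) = ∑ k ∈ Finset.univ.erase j, z k * x j := by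
    intro j
    simp only [ρ]
    rw [← Finset.sum_attach (Finset.univ.erase j) (fun k => z k * x j)]
    push_cast
    rfl
  have hDx : ∀ j, D * x j = 1 + ((ρ j : A j) : K) := by
    intro j
    rw [hρval j]
    simp only [D]
    rw [Finset.sum_mul, ← Finset.add_sum_erase Finset.univ (fun k => z k * x j)
      (Finset.mem_univ j)]
    congr 1
    exact inv_mul_cancel₀ (hx0 j)
  have hunit : ∀ j, IsUnit (ρ j * 1 + 1) := fun j => Ideal.mem_jacobson_bot.mp (hρJ j) 1
  have hν : ∀ j, ∃ ν : A j, (1 + ((ρ j : A j) : K)) * (ν : K) = 1 := by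
    intro j
    obtain ⟨ν, hν⟩ := (hunit j).exists_right_inv
    refine ⟨ν, ?_⟩
    have := congrArg (Subtype.val : A j → K) hν
    simpa [add_comm] using this
  choose ν hν using hν
  have hDx0 : ∀ j, D * x j ≠ 0 := fun j => by
    rw [hDx j]; exact left_ne_zero_of_mul_eq_one (hν j)
  have hD0 : D ≠ 0 := left_ne_zero_of_mul_eq_one
    (show D * (x 0 * (ν 0 : K)) = 1 by rw [← mul_assoc, hDx 0]; exact hν 0)
  have hνval : ∀ j, (ν j : K) = (D * x j)⁻¹ := fun j => by
    rw [hDx j]; exact eq_inv_of_mul_eq_one_right (hν j)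
  -- the elements `t i = z i / D`
  let t : Fin (r + 1) → K := fun i => z i / D
  have ht_eq : ∀ i j, t i = (z i * x j) * (ν j : K) := by
    intro i j
    simp only [t]
    rw [hνval j, mul_inv, div_eq_mul_inv]
    have := hx0 j
    field_simp
  have ht_self : ∀ i, t i = (ν i : K) := by
    intro i
    rw [ht_eq i i]
    simp only [z]
    rw [inv_mul_cancel₀ (hx0 i), one_mul]
  have htmem : ∀ i j, t i ∈ A j := by
    intro i j
    by_cases hij : i = j
    · subst hij; rw [ht_self i]; exact (ν i).2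
    · rw [ht_eq i j]
      exact (A j).mul_mem ((A j).mul_mem (hxJ i j (Ne.symm hij)).1 (hxA j)) (ν j).2
  refine ⟨t, ?_, htmem, ?_, ?_, ?_⟩
  · intro i
    exact div_ne_zero (inv_ne_zero (hx0 i)) hD0
  · intro i
    rw [ht_self i, hνval i, inv_inv, hDx i]
    exact (A i).add_mem (A i).one_mem (ρ i).2
  · intro i j hij h
    have : (⟨t i, h⟩ : A j) =
        (⟨z i, (hxJ i j (Ne.symm hij)).1⟩ : A j) * (⟨x j, hxA j⟩ * ν j) := by
      apply Subtype.ext
      change t i = z i * (x j * (ν j : K))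
      rw [ht_eq i j, mul_assoc]
    rw [this]
    exact Ideal.mul_mem_right _ _ (hxJ i j (Ne.symm hij)).2
  · simp only [t]
    simp only [div_eq_mul_inv]
    rw [← Finset.sum_mul]
    exact mul_inv_cancel₀ hD0

end Groth.Agent.Lib.Helper21.Glue
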