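import Groth.Agent.Lib.Helper21.DVRExt1
import Mathlib.AlgebraicGeometry.Morphisms.Separated

/-!
# Gluing a family of morphisms defined on opens; agreement on dense opens
-/

set_option autoImplicit false
universe u
open AlgebraicGeometry CategoryTheory Limits TopologicalSpace

namespace Groth.Agent.Lib.Helper21.DVRExt

variable {X Y : Scheme.{u}}

/-- Glue a family of morphisms on opens `W i` agreeing on the pairwise intersections. -/
theorem exists_glue_family {ι : Type u} (W : ι → X.Opens) (h : ∀ i, (W i : Scheme.{u}) ⟶ Y)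
    (hcompat : ∀ i j, X.homOfLE (inf_le_left : W i ⊓ W j ≤ W i) ≫ h i =
      X.homOfLE (inf_le_right : W i ⊓ W j ≤ W j) ≫ h j) :
    ∃ k : ((⨆ i, W i : X.Opens) : Scheme.{u}) ⟶ Y,
      (∀ i, X.homOfLE (le_iSup W i) ≫ k = h i) ∧
      ∀ {Z : Scheme.{u}} (a b : ((⨆ i, W i : X.Opens) : Scheme.{u}) ⟶ Z),
        (∀ i, X.homOfLE (le_iSup W i) ≫ a = X.homOfLE (le_iSup W i) ≫ b) → a = b := by
  let 𝒰 := Scheme.Opens.iSupOpenCover W
  have hc : ∀ i j : ι, pullback.fst (𝒰.f i) (𝒰.f j) ≫ h i =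
      pullback.snd (𝒰.f i) (𝒰.f j) ≫ h j := by
    intro i j
    exact pullback_fst_comp_eq_of_homOfLE (⨆ i, W i) (W i) (W j) (W i ⊓ W j) (le_iSup W i)
      (le_iSup W j) inf_le_left inf_le_right le_rfl (h i) (h j) (hcompat i j)
  refine ⟨𝒰.glueMorphisms h hc, fun i => 𝒰.ι_glueMorphisms h hc i, ?_⟩
  intro Z a b hab
  exact 𝒰.hom_ext a b hab

/-- The inclusion of a dense open into a bigger open is dominant. -/
theorem isDominant_homOfLE {D W : X.Opens} (hDW : D ≤ W) (hD : Dense (D : Set X)) :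
    IsDominant (X.homOfLE hDW) := by
  constructor
  rw [DenseRange, dense_iff_inter_open]
  intro O hO hOne
  obtain ⟨w, hw⟩ := hOne
  -- the image of `O` in `X` is open and nonempty
  have hO' : IsOpen (W.ι '' O) := W.ι.isOpenEmbedding.isOpenMap O hO
  obtain ⟨z, hzO, hzD⟩ := hD.inter_open_nonempty _ hO' ⟨W.ι w, w, hw, rfl⟩
  obtain ⟨w', hw'O, rfl⟩ := hzO
  refine ⟨w', hw'O, ⟨⟨W.ι w', hzD⟩, ?_⟩⟩
  apply W.ι.isOpenEmbedding.injective
  rw [← Scheme.Hom.comp_apply, Scheme.homOfLE_ι]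
  rfl

/-- Two morphisms on a reduced open agreeing on a dense open, with the same composite to a
target over which `Z` is separated, are equal. -/
theorem eq_of_eq_on_dense {Z T : Scheme.{u}} {D W : X.Opens} (hDW : D ≤ W)
    (hD : Dense (D : Set X)) [IsReduced (W : Scheme.{u})] (a b : (W : Scheme.{u}) ⟶ Z)
    (s : Z ⟶ T) [IsSeparated s] (hab : a ≫ s = b ≫ s)
    (h : X.homOfLE hDW ≫ a = X.homOfLE hDW ≫ b) : a = b := by
  have := isDominant_homOfLE hDW hD
  exact ext_of_isDominant_of_isSeparated s hab (X.homOfLE hDW) h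

end Groth.Agent.Lib.Helper21.DVRExt
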