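import Groth.Prelude.Def_W4c6equivkfinstabCyc
import Groth.Agent.Lib.Helper21.Cyclo
import Mathlib.GroupTheory.OrderOfElement
import Mathlib.GroupTheory.SpecificGroups.Cyclic.Basic

/-!
# helper21: group rings `Λ[M]` and their cyclotomic quotients — basics
-/

set_option autoImplicit false

namespace Groth.Agent.Lib.Helper21.GA

open W4c6equivkfinstab AddMonoidAlgebra Polynomial

variable (Λ : Type*) [CommRing Λ] (M : Type*) [AddCommGroup M]

theorem quotMap_single (B : AddSubgroup M) (m : M) (r : Λ) :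
    quotMap Λ M B (single m r) = single (QuotientAddGroup.mk m : M ⧸ B) r := by
  unfold quotMap
  rw [mapDomainRingHom_apply, mapDomain_single]
  rfl

theorem quotMap_surjective (B : AddSubgroup M) : Function.Surjective (quotMap Λ M B) := by
  intro y
  induction y using AddMonoidAlgebra.induction_linear with
  | zero => exact ⟨0, map_zero _⟩
  | add x y hx hy =>
    obtain ⟨x', rfl⟩ := hx
    obtain ⟨y', rfl⟩ := hy
    exact ⟨x' + y', map_add _ _ _⟩
  | single c r =>
    obtain ⟨m, rfl⟩ := QuotientAddGroup.mk_surjective c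
    exact ⟨single m r, quotMap_single Λ M B m r⟩

theorem cycQuotMap_surjective (B : AddSubgroup M) : Function.Surjective (cycQuotMap Λ M B) := by
  unfold cycQuotMap
  exact Ideal.Quotient.mk_surjective.comp (quotMap_surjective Λ M B)

theorem cycQuotMap_apply (B : AddSubgroup M) (x : AddMonoidAlgebra Λ M) :
    cycQuotMap Λ M B x = Ideal.Quotient.mk (cycIdeal Λ (M ⧸ B)) (quotMap Λ M B x) := rfl

theorem quotMap_single_sub_one_of_mem (B : AddSubgroup M) (b : M) (hb : b ∈ B) :
    quotMap Λ M B (single b 1 - 1) = 0 := by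
  rw [map_sub, map_one, quotMap_single, (QuotientAddGroup.eq_zero_iff b).mpr hb, ← one_def,
    sub_self]

/-- The kernel of `Λ[M] → Λ[M/B]` is generated by the `[b] - 1`, `b ∈ B`. -/
theorem ker_quotMap_le (B : AddSubgroup M) :
    RingHom.ker (quotMap Λ M B) ≤
      Ideal.span {x | ∃ b ∈ B, x = (single b 1 - 1 : AddMonoidAlgebra Λ M)} := by
  classical
  set J := Ideal.span {x | ∃ b ∈ B, x = (single b 1 - 1 : AddMonoidAlgebra Λ M)} with hJ
  let σ : M ⧸ B → M := fun c => Quotient.out c
  have hσ : ∀ m : M, m - σ (QuotientAddGroup.mk m) ∈ B := by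
    intro m
    rw [← QuotientAddGroup.eq_zero_iff, QuotientAddGroup.mk_sub, sub_eq_zero]
    exact (Quotient.out_eq' _).symm
  have key : ∀ z : AddMonoidAlgebra Λ M,
      z - mapDomain σ (quotMap Λ M B z) ∈ J := by
    intro z
    induction z using AddMonoidAlgebra.induction_linear with
    | zero => simp
    | add x y hx hy =>
      rw [map_add, mapDomain_add]
      have : x + y - (mapDomain σ (quotMap Λ M B x) + mapDomain σ (quotMap Λ M B y)) =
          (x - mapDomain σ (quotMap Λ M B x)) + (y - mapDomain σ (quotMap Λ M B y)) := by ring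
      rw [this]
      exact J.add_mem hx hy
    | single m r =>
      rw [quotMap_single, mapDomain_single]
      have h1 : (single m r : AddMonoidAlgebra Λ M) - single (σ (QuotientAddGroup.mk m)) r =
          single (σ (QuotientAddGroup.mk m)) r *
            (single (m - σ (QuotientAddGroup.mk m)) 1 - 1) := by
        rw [mul_sub, mul_one, single_mul_single, mul_one, add_sub_cancel]
      rw [h1]
      exact J.mul_mem_left _ (Ideal.subset_span ⟨_, hσ m, rfl⟩)
  intro z hz
  rw [RingHom.mem_ker] at hz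
  have := key z
  rwa [hz, mapDomain_zero, sub_zero] at this

section Unit

variable {Λ M}

theorem aeval_single_cyclotomic {C : Type*} [AddCommGroup C] (g : C) (d : ℕ) :
    aeval (single g (1 : Λ)) (cyclotomic d Λ) =
      eval (single g (1 : Λ)) (cyclotomic d (AddMonoidAlgebra Λ C)) := by
  rw [← map_cyclotomic d (algebraMap Λ (AddMonoidAlgebra Λ C)), eval_map_algebraMap]

/-- In `CycQuot Λ (M/B)`, `[m] - 1` is a unit for `m ∉ B`. -/
theorem isUnit_cycQuotMap_single_sub_one (B : AddSubgroup M) [B.FiniteIndex]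
    [IsAddCyclic (M ⧸ B)] (hu : IsUnit ((B.index : ℕ) : Λ)) (m : M) (hm : m ∉ B) :
    IsUnit (cycQuotMap Λ M B (single m 1 - 1)) := by
  classical
  have : Finite (M ⧸ B) := AddSubgroup.finite_quotient_of_finiteIndex
  have : Fintype (M ⧸ B) := Fintype.ofFinite _
  obtain ⟨g, hg⟩ := IsAddCyclic.exists_generator (α := M ⧸ B)
  have hgtop : AddSubgroup.zmultiples g = ⊤ := (AddSubgroup.eq_top_iff' _).mpr hg
  set d := Nat.card (M ⧸ B) with hd
  have hdi : B.index = d := AddSubgroup.index_eq_card B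
  set t : CycQuot Λ (M ⧸ B) := Ideal.Quotient.mk (cycIdeal Λ (M ⧸ B)) (single g 1) with ht
  have hΦ : eval t (cyclotomic d (CycQuot Λ (M ⧸ B))) = 0 := by
    rw [ht, Cyclo.eval_cyclotomic_map, ← aeval_single_cyclotomic, Ideal.Quotient.eq_zero_iff_mem]
    exact Ideal.subset_span ⟨g, hgtop, rfl⟩
  have hmem : (QuotientAddGroup.mk m : M ⧸ B) ∈ AddSubmonoid.multiples g := by
    rw [(isOfFinAddOrder_of_finite g).mem_multiples_iff_mem_zmultiples]
    exact hg _
  obtain ⟨k, hk⟩ := (AddSubmonoid.mem_multiples_iff _ _).mp hmem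
  have hkd : ¬ d ∣ k := by
    rintro ⟨k', rfl⟩
    apply hm
    rw [← QuotientAddGroup.eq_zero_iff, ← hk, mul_smul, hd, Nat.card_eq_fintype_card,
      card_nsmul_eq_zero]
  have hunit : IsUnit ((d : ℕ) : CycQuot Λ (M ⧸ B)) := by
    have := hu.map (algebraMap Λ (CycQuot Λ (M ⧸ B)))
    rwa [map_natCast, hdi] at this
  have := Cyclo.isUnit_pow_sub_one d hunit t hΦ k hkd
  rw [cycQuotMap_apply, map_sub, map_one, quotMap_single, ← hk]
  rw [ht, ← map_pow, single_pow, one_pow] at this
  rw [map_sub, map_one]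
  exact this

/-- Separating element: for `m ∉ B` there is `w` with `w * ([m] - 1) ↦ 1` in `CycQuot Λ (M/B)`. -/
theorem exists_mul_single_sub_one (B : AddSubgroup M) [B.FiniteIndex]
    [IsAddCyclic (M ⧸ B)] (hu : IsUnit ((B.index : ℕ) : Λ)) (m : M) (hm : m ∉ B) :
    ∃ w : AddMonoidAlgebra Λ M, cycQuotMap Λ M B (w * (single m 1 - 1)) = 1 := by
  obtain ⟨v, hv⟩ := (isUnit_cycQuotMap_single_sub_one B hu m hm).exists_left_inv
  obtain ⟨w, rfl⟩ := cycQuotMap_surjective Λ M B v
  exact ⟨w, by rw [map_mul, hv]⟩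

end Unit

end Groth.Agent.Lib.Helper21.GA
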