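import Groth.Agent.Lib.Helper21.GrpAlg1
import Mathlib.RingTheory.IntegralDomain
import Mathlib.RingTheory.Ideal.Colon
import Mathlib.RingTheory.Ideal.Maximal
import Mathlib.Algebra.MonoidAlgebra.Lift
import Mathlib.Algebra.Module.LocalizedModule.Basic

/-!
# helper21: decomposition of group rings into cyclotomic quotients (core lemmas)
-/

set_option autoImplicit false

namespace Groth.Agent.Lib.Helper21.GA

open W4c6equivkfinstab AddMonoidAlgebra Polynomial

section Pure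

variable {R : Type*} [CommRing R]

/-- closure of "purity modulo `K`" under sums. -/
theorem pure_of_span (S : Set R) (I K : Ideal R)
    (h : ∀ s ∈ S, ∃ e ∈ I, (1 - e) * s ∈ K) :
    ∀ x ∈ Ideal.span S, ∃ e ∈ I, (1 - e) * x ∈ K := by
  intro x hx
  induction hx using Submodule.span_induction with
  | mem s hs => exact h s hs
  | zero => exact ⟨0, I.zero_mem, by simp⟩
  | add x y _ _ hx hy =>
    obtain ⟨e₁, he₁, h₁⟩ := hx
    obtain ⟨e₂, he₂, h₂⟩ := hy
    refine ⟨e₁ + e₂ - e₁ * e₂, I.sub_mem (I.add_mem he₁ he₂) (I.mul_mem_left _ he₂), ?_⟩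
    have : (1 - (e₁ + e₂ - e₁ * e₂)) * (x + y) =
        (1 - e₂) * ((1 - e₁) * x) + (1 - e₁) * ((1 - e₂) * y) := by ring
    rw [this]
    exact K.add_mem (K.mul_mem_left _ h₁) (K.mul_mem_left _ h₂)
  | smul a x _ hx =>
    obtain ⟨e, he, h₁⟩ := hx
    refine ⟨e, he, ?_⟩
    have : (1 - e) * (a • x) = a * ((1 - e) * x) := by rw [smul_eq_mul]; ring
    rw [this]
    exact K.mul_mem_left _ h₁

end Pure

variable {Λ : Type*} [CommRing Λ] {M : Type*} [AddCommGroup M]

/-- `cycIdeal Λ C` is a pure ideal when `|C|` is invertible. -/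
theorem cycIdeal_pure {C : Type*} [AddCommGroup C] [Finite C]
    (hu : IsUnit ((Nat.card C : ℕ) : Λ)) :
    ∀ y ∈ cycIdeal Λ C, ∃ ε ∈ cycIdeal Λ C, (1 - ε) * y = 0 := by
  have : Fintype C := Fintype.ofFinite C
  have key := pure_of_span
    {x | ∃ g : C, AddSubgroup.zmultiples g = ⊤ ∧
      x = Polynomial.aeval (AddMonoidAlgebra.single g (1 : Λ))
        (Polynomial.cyclotomic (Nat.card C) Λ)}
    (cycIdeal Λ C) ⊥ ?_
  · intro y hy
    obtain ⟨ε, hε, h⟩ := key y hy
    exact ⟨ε, hε, by simpa using h⟩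
  · rintro s ⟨g, hg, rfl⟩
    have hunit : IsUnit ((Nat.card C : ℕ) : AddMonoidAlgebra Λ C) := by
      have := hu.map (algebraMap Λ (AddMonoidAlgebra Λ C))
      rwa [map_natCast] at this
    have ht : (single g (1 : Λ)) ^ (Nat.card C) = 1 := by
      rw [single_pow, one_pow, Nat.card_eq_fintype_card, card_nsmul_eq_zero, one_def]
    obtain ⟨ε, hε, h⟩ := Cyclo.exists_idempotent_mul (Nat.card C) hunit _ ht
    rw [← aeval_single_cyclotomic] at hε h
    refine ⟨ε, ?_, ?_⟩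
    · refine (Ideal.span_le.mpr ?_) hε
      rintro _ rfl
      exact Ideal.subset_span ⟨g, hg, rfl⟩
    · rw [Ideal.mem_bot, sub_mul, one_mul, h, sub_self]

/-- `ker (Λ[M] → Λ[M/B])` is pure modulo `ker (Λ[M] → Λ[M/B₀])` for `B₀ ≤ B`, `[M:B₀]` invertible. -/
theorem ker_quotMap_pure (B₀ B : AddSubgroup M) [B₀.FiniteIndex] (hle : B₀ ≤ B)
    (hu : IsUnit ((B₀.index : ℕ) : Λ)) :
    ∀ z ∈ RingHom.ker (quotMap Λ M B), ∃ f ∈ RingHom.ker (quotMap Λ M B),
      (1 - f) * z ∈ RingHom.ker (quotMap Λ M B₀) := by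
  classical
  have : Finite (M ⧸ B₀) := AddSubgroup.finite_quotient_of_finiteIndex
  have : Fintype (M ⧸ B₀) := Fintype.ofFinite _
  intro z hz
  refine pure_of_span _ _ _ ?_ z (ker_quotMap_le Λ M B hz)
  rintro s ⟨b, hb, rfl⟩
  obtain ⟨v, hv⟩ := hu.exists_left_inv
  set n₀ := B₀.index with hn₀
  set E : AddMonoidAlgebra Λ M :=
    single 0 v * ∑ j ∈ Finset.range n₀, (single b (1 : Λ)) ^ j with hE
  have hn₀b : n₀ • b ∈ B₀ := by
    rw [← QuotientAddGroup.eq_zero_iff, QuotientAddGroup.mk_nsmul, hn₀,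
      AddSubgroup.index_eq_card, Nat.card_eq_fintype_card, card_nsmul_eq_zero]
  refine ⟨1 - E, ?_, ?_⟩
  · rw [RingHom.mem_ker, map_sub, map_one, hE, map_mul, map_sum, quotMap_single]
    have h1 : ∀ j ∈ Finset.range n₀, quotMap Λ M B (single b (1 : Λ) ^ j) = 1 := by
      intro j _
      rw [map_pow, quotMap_single, (QuotientAddGroup.eq_zero_iff b).mpr hb, ← one_def, one_pow]
    rw [Finset.sum_congr rfl h1, Finset.sum_const, Finset.card_range, nsmul_eq_mul, mul_one,
      QuotientAddGroup.mk_zero]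
    have h2 : (single (0 : M ⧸ B) v : AddMonoidAlgebra Λ (M ⧸ B)) * (n₀ : ℕ) = 1 := by
      have : ((n₀ : ℕ) : AddMonoidAlgebra Λ (M ⧸ B)) = single 0 ((n₀ : ℕ) : Λ) := by
        rw [← map_natCast (singleZeroRingHom (R := Λ) (M := M ⧸ B))]
        rfl
      rw [this, single_mul_single, add_zero, hv, one_def]
    rw [h2, sub_self]
  · rw [sub_sub_cancel, hE, mul_assoc, geom_sum_mul, single_pow, one_pow, RingHom.mem_ker,
      map_mul, quotMap_single_sub_one_of_mem Λ M B₀ _ hn₀b, mul_zero]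

end Groth.Agent.Lib.Helper21.GA
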