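import Groth.Agent.Lib.Helper21.GrpAlg2

/-!
# helper21: decomposition of group rings into cyclotomic quotients (kernel and CRT)
-/

set_option autoImplicit false

namespace Groth.Agent.Lib.Helper21.GA

open W4c6equivkfinstab AddMonoidAlgebra Polynomial

variable {Λ : Type*} [CommRing Λ] {M : Type*} [AddCommGroup M]

/-- separating elements for two distinct subgroups with cyclic quotients. -/
theorem exists_sep (B B' : AddSubgroup M) [B.FiniteIndex] [B'.FiniteIndex]
    [IsAddCyclic (M ⧸ B)] [IsAddCyclic (M ⧸ B')] (hne : B ≠ B')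
    (huB : IsUnit ((B.index : ℕ) : Λ)) (huB' : IsUnit ((B'.index : ℕ) : Λ)) :
    ∃ s : AddMonoidAlgebra Λ M, cycQuotMap Λ M B' s = 1 ∧ cycQuotMap Λ M B s = 0 := by
  by_cases hle : B ≤ B'
  · have hle' : ¬ B' ≤ B := fun h => hne (le_antisymm hle h)
    obtain ⟨b, hb', hb⟩ := SetLike.not_le_iff_exists.mp hle'
    obtain ⟨w, hw⟩ := exists_mul_single_sub_one B huB b hb
    refine ⟨1 - w * (single b 1 - 1), ?_, ?_⟩
    · rw [map_sub, map_one, cycQuotMap_apply, map_mul,
        quotMap_single_sub_one_of_mem Λ M B' b hb', mul_zero, map_zero, sub_zero]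
    · rw [map_sub, map_one, hw, sub_self]
  · obtain ⟨b, hb, hb'⟩ := SetLike.not_le_iff_exists.mp hle
    obtain ⟨w, hw⟩ := exists_mul_single_sub_one B' huB' b hb'
    refine ⟨w * (single b 1 - 1), hw, ?_⟩
    rw [cycQuotMap_apply, map_mul, quotMap_single_sub_one_of_mem Λ M B b hb, mul_zero, map_zero]

/-- CRT: simultaneous lifting to finitely many distinct cyclotomic quotients. -/
theorem exists_cycQuotMap_eq {ι : Type*} [Finite ι] (B : ι → AddSubgroup M)
    (hinj : Function.Injective B) [∀ i, (B i).FiniteIndex] [∀ i, IsAddCyclic (M ⧸ B i)]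
    (hu : ∀ i, IsUnit (((B i).index : ℕ) : Λ)) (y : ∀ i, CycQuot Λ (M ⧸ B i)) :
    ∃ x : AddMonoidAlgebra Λ M, ∀ i, cycQuotMap Λ M (B i) x = y i := by
  have hcop : Pairwise (Function.onFun IsCoprime fun i => RingHom.ker (cycQuotMap Λ M (B i))) := by
    intro i j hij
    obtain ⟨s, hs1, hs0⟩ := exists_sep (B i) (B j) (fun h => hij (hinj h)) (hu i) (hu j)
    exact Ideal.isCoprime_iff_exists.mpr
      ⟨s, hs0, 1 - s, by rw [RingHom.mem_ker, map_sub, map_one, hs1, sub_self], by ring⟩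
  choose x₀ hx₀ using fun i => cycQuotMap_surjective Λ M (B i) (y i)
  obtain ⟨r, hr⟩ := Ideal.pi_quotient_surjective hcop fun i => Ideal.Quotient.mk _ (x₀ i)
  refine ⟨r, fun i => ?_⟩
  have := (Ideal.Quotient.eq.mp (hr i))
  rw [RingHom.mem_ker, map_sub, sub_eq_zero] at this
  rw [this, hx₀]

/-- The kernel of `Λ[M] → ∏_B CycQuot Λ (M/B)` (over `B ⊇ B₀` with cyclic quotient) is the kernel of
`Λ[M] → Λ[M/B₀]`, when `[M:B₀]` is invertible in `Λ`. -/
theorem quotMap_eq_zero_of_forall (B₀ : AddSubgroup M) [B₀.FiniteIndex]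
    (hu : IsUnit ((B₀.index : ℕ) : Λ)) (x : AddMonoidAlgebra Λ M)
    (hx : ∀ B : AddSubgroup M, B₀ ≤ B → IsAddCyclic (M ⧸ B) → cycQuotMap Λ M B x = 0) :
    quotMap Λ M B₀ x = 0 := by
  classical
  by_contra hne
  set K₀ := RingHom.ker (quotMap Λ M B₀) with hK₀
  set 𝔞 : Ideal (AddMonoidAlgebra Λ M) := K₀.colon {x} with h𝔞def
  have h𝔞 : ∀ r, r ∈ 𝔞 ↔ r * x ∈ K₀ := fun r => Submodule.mem_colon_singleton
  have hne_top : 𝔞 ≠ ⊤ := by
    intro h
    have h1 : (1 : AddMonoidAlgebra Λ M) ∈ 𝔞 := h ▸ Submodule.mem_top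
    rw [h𝔞, one_mul] at h1
    exact hne h1
  obtain ⟨𝔪, hmax, hle⟩ := Ideal.exists_le_maximal 𝔞 hne_top
  have hK₀le : K₀ ≤ 𝔪 := fun r hr => hle ((h𝔞 r).mpr (K₀.mul_mem_right _ hr))
  let _ := Ideal.Quotient.field 𝔪
  set χ := Ideal.Quotient.mk 𝔪 with hχ
  -- the character
  let ψ : M →+ Additive (AddMonoidAlgebra Λ M ⧸ 𝔪) :=
    { toFun := fun m => Additive.ofMul (χ (single m 1))
      map_zero' := by rw [← one_def, map_one]; rfl
      map_add' := fun a b => by
        rw [← ofMul_mul, ← map_mul, single_mul_single, mul_one] }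
  set B : AddSubgroup M := ψ.ker with hB
  have hmemB : ∀ m, m ∈ B ↔ χ (single m 1) = 1 := fun m => Iff.rfl
  have hB₀B : B₀ ≤ B := by
    intro b hb
    rw [hmemB, ← sub_eq_zero, ← map_one χ, ← map_sub, hχ, Ideal.Quotient.eq_zero_iff_mem]
    apply hK₀le
    rw [hK₀, RingHom.mem_ker]
    exact quotMap_single_sub_one_of_mem Λ M B₀ b hb
  have : B.FiniteIndex := AddSubgroup.finiteIndex_of_le hB₀B
  have huB : IsUnit ((B.index : ℕ) : Λ) := by
    obtain ⟨c, hc⟩ := AddSubgroup.index_dvd_of_le hB₀B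
    rw [hc, Nat.cast_mul] at hu
    exact isUnit_of_mul_isUnit_left hu
  have : Finite (M ⧸ B) := AddSubgroup.finite_quotient_of_finiteIndex
  let ψ' : M ⧸ B →+ Additive (AddMonoidAlgebra Λ M ⧸ 𝔪) := QuotientAddGroup.lift B ψ le_rfl
  let f : Multiplicative (M ⧸ B) →* (AddMonoidAlgebra Λ M ⧸ 𝔪) :=
    AddMonoidHom.toMultiplicativeLeft ψ'
  have hf_apply : ∀ m : M, f (Multiplicative.ofAdd (QuotientAddGroup.mk m)) = χ (single m 1) :=
    fun m => rfl
  have hf : Function.Injective f := by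
    rw [injective_iff_map_eq_one]
    intro a ha
    obtain ⟨m, rfl⟩ := QuotientAddGroup.mk_surjective (Multiplicative.toAdd a)
    have h1 : f (Multiplicative.ofAdd (QuotientAddGroup.mk m)) = 1 := ha
    rw [hf_apply] at h1
    have h2 : (QuotientAddGroup.mk m : M ⧸ B) = 0 := (QuotientAddGroup.eq_zero_iff m).mpr
      ((hmemB m).mpr h1)
    change Multiplicative.ofAdd (QuotientAddGroup.mk m : M ⧸ B) = 1
    rw [h2]
    rfl
  have hcyc : IsAddCyclic (M ⧸ B) :=
    isCyclic_multiplicative_iff.mp (isCyclic_of_injective_ringHom f hf)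
  -- the factorisation of χ through Λ[M/B]
  let ψR : AddMonoidAlgebra Λ (M ⧸ B) →+* (AddMonoidAlgebra Λ M ⧸ 𝔪) :=
    liftNCRingHom (χ.comp singleZeroRingHom) f (fun _ _ => Commute.all _ _)
  have hψR : ∀ z, ψR (quotMap Λ M B z) = χ z := by
    intro z
    have : ψR.comp (quotMap Λ M B) = χ := by
      apply AddMonoidAlgebra.ringHom_ext
      · intro r
        rw [RingHom.comp_apply, quotMap_single, liftNCRingHom_single, hf_apply, ← one_def,
          map_one, mul_one]
        rfl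
      · intro m
        rw [RingHom.comp_apply, quotMap_single, liftNCRingHom_single, hf_apply,
          RingHom.comp_apply]
        have : (singleZeroRingHom (R := Λ) (M := M)) 1 = 1 := map_one _
        rw [this, map_one, one_mul]
    rw [← this]
    rfl
  have hψRcyc : ∀ y ∈ cycIdeal Λ (M ⧸ B), ψR y = 0 := by
    intro y hy
    have hle' : cycIdeal Λ (M ⧸ B) ≤ RingHom.ker ψR := by
      refine Ideal.span_le.mpr ?_
      rintro _ ⟨g, hg, rfl⟩
      rw [SetLike.mem_coe, RingHom.mem_ker, aeval_single_cyclotomic, ← Cyclo.eval_cyclotomic_map]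
      have hgen : ∀ c : M ⧸ B, c ∈ AddSubgroup.zmultiples g := fun c => hg ▸ AddSubgroup.mem_top c
      have h1 : ψR (single g 1) = f (Multiplicative.ofAdd g) := by
        rw [liftNCRingHom_single, RingHom.comp_apply]
        have : (singleZeroRingHom (R := Λ) (M := M)) 1 = 1 := map_one _
        rw [this, map_one, one_mul]
      rw [h1]
      have hord : orderOf (f (Multiplicative.ofAdd g)) = Nat.card (M ⧸ B) := by
        rw [orderOf_injective f hf, orderOf_ofAdd_eq_addOrderOf,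
          addOrderOf_eq_card_of_forall_mem_zmultiples hgen]
      have hprim : IsPrimitiveRoot (f (Multiplicative.ofAdd g)) (Nat.card (M ⧸ B)) := by
        rw [← hord]
        exact IsPrimitiveRoot.orderOf _
      exact hprim.isRoot_cyclotomic Nat.card_pos
    exact hle' hy
  have hkerle : RingHom.ker (cycQuotMap Λ M B) ≤ 𝔪 := by
    intro r hr
    rw [RingHom.mem_ker, cycQuotMap_apply, Ideal.Quotient.eq_zero_iff_mem] at hr
    rw [← Ideal.Quotient.eq_zero_iff_mem, ← hχ, ← hψR]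
    exact hψRcyc _ hr
  -- purity
  have hxB : quotMap Λ M B x ∈ cycIdeal Λ (M ⧸ B) := by
    have := hx B hB₀B hcyc
    rwa [cycQuotMap_apply, Ideal.Quotient.eq_zero_iff_mem] at this
  have hcard : IsUnit ((Nat.card (M ⧸ B) : ℕ) : Λ) := by
    rwa [← AddSubgroup.index_eq_card]
  obtain ⟨ε, hε, hεx⟩ := cycIdeal_pure hcard _ hxB
  obtain ⟨ε', rfl⟩ := quotMap_surjective Λ M B ε
  have hz : (1 - ε') * x ∈ RingHom.ker (quotMap Λ M B) := by
    rw [RingHom.mem_ker, map_mul, map_sub, map_one, hεx]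
  obtain ⟨f', hf', hf'z⟩ := ker_quotMap_pure B₀ B hB₀B hu _ hz
  have hr : (1 - f') * (1 - ε') ∈ 𝔪 := by
    apply hle
    rw [h𝔞, mul_assoc]
    exact hf'z
  have he : f' + ε' - f' * ε' ∈ 𝔪 := by
    apply hkerle
    rw [RingHom.mem_ker, cycQuotMap_apply, Ideal.Quotient.eq_zero_iff_mem, map_sub, map_add,
      map_mul, (RingHom.mem_ker).mp hf', zero_add, zero_mul, sub_zero]
    exact hε
  have h1 : (1 : AddMonoidAlgebra Λ M) ∈ 𝔪 := by
    have : (1 : AddMonoidAlgebra Λ M) = (f' + ε' - f' * ε') + (1 - f') * (1 - ε') := by ring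
    rw [this]
    exact 𝔪.add_mem he hr
  exact hmax.ne_top ((Ideal.eq_top_iff_one _).mpr h1)

end Groth.Agent.Lib.Helper21.GA
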