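import Groth.Agent.Lib.Helper21.GrpAlg3

/-!
# helper21: a module is the product of its localizations at a complete system of
"orthogonal idempotents modulo the annihilator"
-/

set_option autoImplicit false

namespace Groth.Agent.Lib.Helper21.GA

theorem bijective_pi_mkLinearMap {R : Type*} [CommRing R] {N : Type*} [AddCommGroup N]
    [Module R N] {J : Type*} [Fintype J] (S : J → Submonoid R) (e : J → R)
    (h1' : ∀ n : N, (∑ j, e j) • n = n)
    (h2 : ∀ j, e j ∈ S j)
    (h3 : ∀ j j', j ≠ j' → ∀ n : N, (e j * e j') • n = 0)
    (h4 : ∀ j, ∀ s ∈ S j, ∀ n : N, (s * e j) • n = e j • n) :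
    Function.Bijective (LinearMap.pi fun j => LocalizedModule.mkLinearMap (S j) N) := by
  classical
  have hsum : ∀ n : N, ∑ j, e j • n = n := by
    intro n
    rw [← Finset.sum_smul]
    exact h1' n
  have hidem : ∀ j (n : N), (e j * e j) • n = e j • n := by
    intro j n
    have := congrArg (fun x => e j • x) (hsum n)
    simp only [Finset.smul_sum, smul_smul] at this
    rw [Finset.sum_eq_single j (fun j' _ hj' => h3 j j' (Ne.symm hj') n)
      (fun h => absurd (Finset.mem_univ j) h)] at this
    exact this
  constructor
  · rw [injective_iff_map_eq_zero]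
    intro n hn
    have hz : ∀ j, e j • n = 0 := by
      intro j
      have h0 : LocalizedModule.mkLinearMap (S j) N n = 0 := congrFun hn j
      obtain ⟨s, hs, hsn⟩ := LocalizedModule.mem_ker_mkLinearMap_iff.mp h0
      rw [← h4 j s hs n, mul_comm, mul_smul, hsn, smul_zero]
    rw [← hsum n]
    exact Finset.sum_eq_zero fun j _ => hz j
  · intro y
    have hy : ∀ j, ∃ (m : N) (s : S j), y j = LocalizedModule.mk m s := by
      intro j
      induction y j using LocalizedModule.induction_on with
      | h m s => exact ⟨m, s, rfl⟩
    choose m s hms using hy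
    refine ⟨∑ j, e j • m j, ?_⟩
    funext j
    rw [LinearMap.pi_apply, LocalizedModule.mkLinearMap_apply, hms j, LocalizedModule.mk_eq]
    refine ⟨⟨e j, h2 j⟩, ?_⟩
    rw [Submonoid.smul_def, Submonoid.smul_def, Submonoid.smul_def, Submonoid.smul_def,
      Submonoid.coe_one, one_smul]
    change e j • (s j : R) • ∑ j', e j' • m j' = e j • m j
    rw [Finset.smul_sum, Finset.smul_sum]
    rw [Finset.sum_eq_single j]
    · rw [smul_smul, mul_smul, ← mul_smul (↑(s j) : R), h4 j _ (s j).2, smul_smul, hidem]
    · intro j' _ hj'
      rw [smul_smul, smul_smul]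
      have : e j * (s j : R) * e j' = (s j : R) * (e j * e j') := by ring
      rw [this, mul_smul, h3 j j' (Ne.symm hj'), smul_zero]
    · intro h
      exact absurd (Finset.mem_univ j) h

end Groth.Agent.Lib.Helper21.GA
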