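import Groth.Agent.Lib.Helper2.DegAdd.KerIm
import Groth.Agent.Lib.Lead.TwistExact

/-!
# Twisted endomorphisms restrict to kernels and images of compatible maps

For an exact twisting functor `- ⊗ N` (with `N` flat): if `f : E → F` intertwines `φ : E → E ⊗ N` and
`ψ : F → F ⊗ N`, then `φ` restricts to `ker f` and `ψ` restricts to `im f`.
-/

universe u

open CategoryTheory CategoryTheory.Limits AlgebraicGeometry
open Groth.Agent.Lib.Lead.TwistExact

namespace Groth.Agent.Lib.Helper21.HiggsInv

variable {X : Scheme.{u}}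

/-- a twisted endomorphism `ρ` of `F` with `ker g → F → F ⊗ N → Q ⊗ N` zero restricts to `ker g` -/
theorem exists_restrict_kernel (N : X.Modules) [PreservesFiniteLimits (tensorRight N)]
    {F Q : X.Modules} (g : F ⟶ Q) (ρ : F ⟶ (tensorRight N).obj F)
    (h : (kernel.ι g ≫ ρ) ≫ (tensorRight N).map g = 0) :
    ∃ χ : kernel g ⟶ (tensorRight N).obj (kernel g),
      χ ≫ (tensorRight N).map (kernel.ι g) = kernel.ι g ≫ ρ := by
  refine ⟨kernel.lift ((tensorRight N).map g) (kernel.ι g ≫ ρ) h ≫
    (PreservesKernel.iso (tensorRight N) g).inv, ?_⟩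
  have h1 : (PreservesKernel.iso (tensorRight N) g).inv ≫ (tensorRight N).map (kernel.ι g) =
      kernel.ι ((tensorRight N).map g) := by
    rw [Iso.inv_comp_eq, PreservesKernel.iso_hom, kernelComparison_comp_ι]
  rw [Category.assoc, h1, kernel.lift_ι]

/-- `φ` restricts to the kernel of a compatible map -/
theorem exists_restrict_ker (N : X.Modules) [PreservesFiniteLimits (tensorRight N)]
    {E F : X.Modules} (f : E ⟶ F) (φ : E ⟶ (tensorRight N).obj E) (ψ : F ⟶ (tensorRight N).obj F)
    (hf : f ≫ ψ = φ ≫ (tensorRight N).map f) :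
    ∃ χ : kernel f ⟶ (tensorRight N).obj (kernel f),
      χ ≫ (tensorRight N).map (kernel.ι f) = kernel.ι f ≫ φ := by
  apply exists_restrict_kernel N f φ
  rw [Category.assoc, ← hf, ← Category.assoc, kernel.condition, zero_comp]

/-- `ψ` restricts to the image of a compatible map -/
theorem exists_restrict_image (N : X.Modules) [PreservesFiniteLimits (tensorRight N)]
    {E F : X.Modules} (f : E ⟶ F) (φ : E ⟶ (tensorRight N).obj E) (ψ : F ⟶ (tensorRight N).obj F)
    (hf : f ≫ ψ = φ ≫ (tensorRight N).map f) :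
    ∃ χ : Abelian.image f ⟶ (tensorRight N).obj (Abelian.image f),
      χ ≫ (tensorRight N).map (Abelian.image.ι f) = Abelian.image.ι f ≫ ψ := by
  apply exists_restrict_kernel N (cokernel.π f) ψ
  rw [← cancel_epi (Abelian.factorThruImage f), comp_zero]
  have h1 : Abelian.factorThruImage f ≫ kernel.ι (cokernel.π f) = f := Abelian.image.fac f
  have h2 : (tensorRight N).map f ≫ (tensorRight N).map (cokernel.π f) = 0 := by
    rw [← Functor.map_comp, cokernel.condition, Functor.map_zero]
  calc Abelian.factorThruImage f ≫ (kernel.ι (cokernel.π f) ≫ ψ) ≫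
        (tensorRight N).map (cokernel.π f)
      = ((Abelian.factorThruImage f ≫ kernel.ι (cokernel.π f)) ≫ ψ) ≫
        (tensorRight N).map (cokernel.π f) := by simp only [Category.assoc]
    _ = (f ≫ ψ) ≫ (tensorRight N).map (cokernel.π f) := by rw [h1]
    _ = φ ≫ (tensorRight N).map f ≫ (tensorRight N).map (cokernel.π f) := by
        rw [hf, Category.assoc]
    _ = 0 := by rw [h2, comp_zero]

end Groth.Agent.Lib.Helper21.HiggsInv
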