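import Groth.Agent.Lib.Helper21.HiggsTwist
import Groth.Agent.Lib.Helper2.DegAdd.HN1

/-!
# A semistable pair twisted by a degree zero invertible module has a semistable underlying bundle
-/

set_option autoImplicit false
set_option linter.style.haveILetI false
set_option linter.unusedSectionVars false
universe u
open CategoryTheory CategoryTheory.Limits AlgebraicGeometry

namespace Groth.Agent.Lib.Helper21.HiggsSS

open Groth.Agent.Lib.Helper29.QCoh Groth.Agent.Lib.Lead.TwistExact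
  Groth.Agent.Lib.Helper21.CDeg Groth.Agent.Lib.Helper21.EulerLF

variable (k : Type u) [Field k] [IsAlgClosed k] (X : Scheme.{u}) [X.Over (Spec (CommRingCat.of k))]
  [IsIntegral X] [IsProper (X ↘ (Spec (CommRingCat.of k)))]
  [Smooth (X ↘ (Spec (CommRingCat.of k)))]

include k in
/-- a semistable `L`-twisted pair with `deg L = 0` has a slope-semistable underlying bundle -/
theorem semistable_of_pair (hdim : topologicalKrullDim X = 1) (L : X.Modules)
    (hL : PicF.IsInvertible L) (hL0 : Curv2.deg k X L 1 = 0)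
    (r : ℕ) (hr : 0 < r) (E : X.Modules) (hE : FlatMod.IsFinLocFreeOfRank r E)
    (φ : E ⟶ (tensorRight L).obj E)
    (hss : ∀ (G : X.Modules) (n : ℕ) (j : G ⟶ E) (χ : G ⟶ (tensorRight L).obj G), Mono j → 0 < n →
      FlatMod.IsFinLocFreeOfRank n G → χ ≫ (tensorRight L).map j = j ≫ φ →
      Curv2.deg k X G n * (r : ℤ) ≤ Curv2.deg k X E r * (n : ℤ)) :
    ∀ (G : X.Modules) (n : ℕ) (j : G ⟶ E), Mono j → 0 < n → FlatMod.IsFinLocFreeOfRank n G →
      Curv2.deg k X G n * (r : ℤ) ≤ Curv2.deg k X E r * (n : ℤ) := by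
  haveI : IsLocallyNoetherian X :=
    LocallyOfFiniteType.isLocallyNoetherian (X ↘ Spec (CommRingCat.of k))
  obtain ⟨D, hD, ⟨eD⟩⟩ := Groth.Agent.Lib.Helper29.QCoh.Dual.exists_inverse hL
  have hL1 := (isInvertible_iff_isFinLocFreeOfRank_one L).mp hL
  have hD1 := (isInvertible_iff_isFinLocFreeOfRank_one D).mp hD
  haveI hpL := preservesFiniteLimits_tensorRight_of_isFlat (isFlat_of_isInvertible hL)
  haveI hpD := preservesFiniteLimits_tensorRight_of_isFlat (isFlat_of_isInvertible hD)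
  obtain ⟨η, -⟩ : ∃ _ : tensorRight L ⋙ tensorRight D ≅ 𝟭 X.Modules, True :=
    ⟨Groth.Agent.Lib.Lead.SD.untwistNatIso L D (tensorBraid L D ≪≫ eD), trivial⟩
  have hDL : Curv2.deg k X D 1 + Curv2.deg k X L 1 = 0 := by
    rw [← deg_tensorMod k X hdim.le hD hL, deg_of_iso k eD 1]
    change Curv2.euler k X (Coh.structureModule X) -
      ((1 : ℕ) : ℤ) * Curv2.euler k X (Coh.structureModule X) = 0
    push_cast
    ring
  have hD0 : Curv2.deg k X D 1 = 0 := by linarith
  -- the maximal destabilizing subbundle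
  obtain ⟨E₁, r₁, i₁, hi₁, hr₁, hE₁, h1, h2⟩ :=
    Groth.Agent.Lib.Helper2.DegAdd.exists_maxSlope_sub k hdim.le r hr E hE
  haveI := hi₁
  obtain ⟨c, hC⟩ :=
    Groth.Agent.Lib.Helper2.DegAdd.cokernel_locFree_of_maxSlope k hdim.le r r₁ hE i₁ hr₁ hE₁ h1
  have hlt := Groth.Agent.Lib.Helper2.DegAdd.quot_slope_lt k hdim.le r r₁ hE i₁ hr₁ hE₁ h1 h2
  have hr₁' : (0 : ℤ) < (r₁ : ℤ) := by exact_mod_cast hr₁
  -- `E₁ → E → E ⊗ L → (E / E₁) ⊗ L` vanishes
  have hg : i₁ ≫ φ ≫ (tensorRight L).map (cokernel.π i₁) = 0 := by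
    by_contra hgne
    obtain ⟨g, hgdef⟩ : ∃ g : E₁ ⟶ (tensorRight L).obj (cokernel i₁),
        g = i₁ ≫ φ ≫ (tensorRight L).map (cokernel.π i₁) := ⟨_, rfl⟩
    rw [← hgdef] at hgne
    have hCL : FlatMod.IsFinLocFreeOfRank c ((tensorRight L).obj (cokernel i₁)) :=
      Groth.Agent.Lib.Helper21.G1Even.isFinLocFreeOfRank_tensor (cokernel i₁) L hC hL1
    obtain ⟨a, b, ha, hb, hab, hdeg⟩ :=
      Groth.Agent.Lib.Helper2.DegAdd.exists_ker_im_decomp k hdim.le r₁ c hE₁ hCL g
    have hb0 : 0 < b := by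
      rcases Nat.eq_zero_or_pos b with hb0 | h
      · exfalso
        subst hb0
        have hz := Groth.Agent.Lib.Helper2.DegAdd.isZero_of_rank_zero hb
        have h0 : Abelian.factorThruImage g = 0 := hz.eq_of_tgt _ _
        apply hgne
        rw [← Abelian.image.fac g, h0, zero_comp]
      · exact h
    have hQ : FlatMod.IsFinLocFreeOfRank b ((tensorRight D).obj (Abelian.image g)) :=
      Groth.Agent.Lib.Helper21.G1Even.isFinLocFreeOfRank_tensor (Abelian.image g) D hb hD1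
    haveI hm1 : Mono ((tensorRight D).map (Abelian.image.ι g)) := inferInstance
    have hjm : Mono ((tensorRight D).map (Abelian.image.ι g) ≫ η.hom.app (cokernel i₁)) :=
      mono_comp _ _
    have hQlt := hlt ((tensorRight D).obj (Abelian.image g)) b _ hjm hb0 hQ
    have hdQ : Curv2.deg k X ((tensorRight D).obj (Abelian.image g)) b =
        Curv2.deg k X (Abelian.image g) b + (b : ℤ) * Curv2.deg k X D 1 := by
      have h1' : Curv2.euler k X ((tensorRight D).obj (Abelian.image g)) =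
          Curv2.euler k X (Abelian.image g) + (b : ℤ) * Curv2.deg k X D 1 :=
        (euler_of_iso k (tensorBraid (Abelian.image g) D)).trans
          (euler_tensorMod_invertible k X hdim.le hD b hb)
      change Curv2.euler k X ((tensorRight D).obj (Abelian.image g)) -
          (b : ℤ) * Curv2.euler k X (Coh.structureModule X) =
        (Curv2.euler k X (Abelian.image g) - (b : ℤ) * Curv2.euler k X (Coh.structureModule X)) +
          (b : ℤ) * Curv2.deg k X D 1
      rw [h1']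
      ring
    rw [hdQ, hD0, mul_zero, add_zero] at hQlt
    have hK : Curv2.deg k X (kernel g) a * (r₁ : ℤ) ≤ Curv2.deg k X E₁ r₁ * (a : ℤ) := by
      rcases Nat.eq_zero_or_pos a with ha0 | ha0
      · subst ha0
        have hz := Groth.Agent.Lib.Helper2.DegAdd.isZero_of_rank_zero ha
        rw [Groth.Agent.Lib.Helper2.DegAdd.deg_eq_zero_of_isZero k hz]
        simp
      · exact h1 (kernel g) a (kernel.ι g ≫ i₁) (mono_comp _ _) ha0 ha
    have hrab : (r₁ : ℤ) = (a : ℤ) + (b : ℤ) := by exact_mod_cast hab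
    generalize Curv2.deg k X (kernel g) a = dk at hK hdeg
    generalize Curv2.deg k X (Abelian.image g) b = di at hQlt hdeg
    generalize Curv2.deg k X E₁ r₁ = dE₁ at hK hQlt hdeg
    have h3 : dE₁ * (r₁ : ℤ) = dk * (r₁ : ℤ) + di * (r₁ : ℤ) := by rw [hdeg]; ring
    have h4 : dE₁ * (r₁ : ℤ) = dE₁ * (a : ℤ) + dE₁ * (b : ℤ) := by rw [hrab]; ring
    linarith
  -- hence `E₁` is `φ`-invariant
  have hker : (kernel.ι (cokernel.π i₁) ≫ φ) ≫ (tensorRight L).map (cokernel.π i₁) = 0 := by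
    rw [← cancel_epi (Abelian.factorThruImage i₁), comp_zero, Category.assoc]
    have hfac : Abelian.factorThruImage i₁ ≫ kernel.ι (cokernel.π i₁) = i₁ := Abelian.image.fac i₁
    rw [← Category.assoc, hfac]
    exact hg
  obtain ⟨χ, hχ⟩ := Groth.Agent.Lib.Helper21.HiggsInv.exists_restrict_kernel L (cokernel.π i₁) φ hker
  have hfac : Abelian.factorThruImage i₁ ≫ kernel.ι (cokernel.π i₁) = i₁ := Abelian.image.fac i₁
  have hfac' : inv (Abelian.factorThruImage i₁) ≫ i₁ = kernel.ι (cokernel.π i₁) := by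
    rw [IsIso.inv_comp_eq, hfac]
  have hχ' : (Abelian.factorThruImage i₁ ≫ χ ≫
      (tensorRight L).map (inv (Abelian.factorThruImage i₁))) ≫ (tensorRight L).map i₁ =
      i₁ ≫ φ := by
    rw [Category.assoc, Category.assoc, ← Functor.map_comp, hfac', hχ, ← Category.assoc, hfac]
  have hE₁ss := hss E₁ r₁ i₁ _ hi₁ hr₁ hE₁ hχ'
  intro G n j hj hn hG
  have hG1 := h1 G n j hj hn hG
  have hn' : (0 : ℤ) ≤ (n : ℤ) := Int.natCast_nonneg n
  have hr' : (0 : ℤ) ≤ (r : ℤ) := Int.natCast_nonneg r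
  generalize Curv2.deg k X G n = dG at hG1 ⊢
  generalize Curv2.deg k X E₁ r₁ = dE₁ at hG1 hE₁ss
  generalize Curv2.deg k X E r = dE at hE₁ss ⊢
  have h5 : dG * (r : ℤ) * (r₁ : ℤ) ≤ dE * (n : ℤ) * (r₁ : ℤ) := by
    calc dG * (r : ℤ) * (r₁ : ℤ) = (dG * (r₁ : ℤ)) * (r : ℤ) := by ring
      _ ≤ (dE₁ * (n : ℤ)) * (r : ℤ) := mul_le_mul_of_nonneg_right hG1 hr'
      _ = (dE₁ * (r : ℤ)) * (n : ℤ) := by ring
      _ ≤ (dE * (r₁ : ℤ)) * (n : ℤ) := mul_le_mul_of_nonneg_right hE₁ss hn'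
      _ = dE * (n : ℤ) * (r₁ : ℤ) := by ring
  exact le_of_mul_le_mul_right h5 hr₁'

end Groth.Agent.Lib.Helper21.HiggsSS
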