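import Groth.Agent.Lib.Helper21.HiggsInv
import Groth.Agent.Lib.Helper21.G1Even
import Groth.Agent.Lib.Helper29.Dual3

/-!
# A semistable twisted pair with non-zero twisted endomorphism has a twisting module of degree ≥ 0
-/

set_option autoImplicit false
set_option linter.style.haveILetI false
set_option linter.unusedSectionVars false
universe u
open CategoryTheory CategoryTheory.Limits AlgebraicGeometry

namespace Groth.Agent.Lib.Helper21.HiggsTwist

open Groth.Agent.Lib.Helper29.QCoh Groth.Agent.Lib.Lead.TwistExact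
  Groth.Agent.Lib.Helper21.CDeg Groth.Agent.Lib.Helper21.EulerLF

section Gen
variable {X : Scheme.{u}}

/-- tensoring with a module that has a tensor inverse is faithful -/
theorem eq_zero_of_map_tensorRight_eq_zero (D L : X.Modules)
    (e : CohB1.tensorMod D L ≅ unitM X)
    {A B : X.Modules} (x : A ⟶ B) (hx : (tensorRight D).map x = 0) : x = 0 := by
  have hnat := (Groth.Agent.Lib.Lead.SD.untwistNatIso D L e).hom.naturality x
  have h0 : (tensorRight D ⋙ tensorRight L).map x = 0 := by
    change (tensorRight L).map ((tensorRight D).map x) = 0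
    rw [hx, Functor.map_zero]
  rw [h0, zero_comp] at hnat
  exact (cancel_epi ((Groth.Agent.Lib.Lead.SD.untwistNatIso D L e).hom.app A)).mp
    (hnat.symm.trans comp_zero.symm)

end Gen

variable (k : Type u) [Field k] [IsAlgClosed k] (X : Scheme.{u}) [X.Over (Spec (CommRingCat.of k))]
  [IsIntegral X] [IsProper (X ↘ (Spec (CommRingCat.of k)))]
  [Smooth (X ↘ (Spec (CommRingCat.of k)))]

include k in
/-- a semistable `L`-twisted pair `(E, φ)` with `φ ≠ 0` has `deg L ≥ 0` -/
theorem deg_nonneg (hdim : topologicalKrullDim X = 1) (L : X.Modules) (hL : PicF.IsInvertible L)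
    (r : ℕ) (hr : 0 < r) (E : X.Modules) (hE : FlatMod.IsFinLocFreeOfRank r E)
    (φ : E ⟶ (tensorRight L).obj E)
    (hss : ∀ (G : X.Modules) (n : ℕ) (j : G ⟶ E) (χ : G ⟶ (tensorRight L).obj G), Mono j → 0 < n →
      FlatMod.IsFinLocFreeOfRank n G → χ ≫ (tensorRight L).map j = j ≫ φ →
      Curv2.deg k X G n * (r : ℤ) ≤ Curv2.deg k X E r * (n : ℤ))
    (hφ : φ ≠ 0) : 0 ≤ Curv2.deg k X L 1 := by
  haveI : IsLocallyNoetherian X :=
    LocallyOfFiniteType.isLocallyNoetherian (X ↘ Spec (CommRingCat.of k))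
  obtain ⟨D, hD, ⟨eD⟩⟩ := Groth.Agent.Lib.Helper29.QCoh.Dual.exists_inverse hL
  have hL1 := (isInvertible_iff_isFinLocFreeOfRank_one L).mp hL
  have hD1 := (isInvertible_iff_isFinLocFreeOfRank_one D).mp hD
  haveI hpL := preservesFiniteLimits_tensorRight_of_isFlat (isFlat_of_isInvertible hL)
  haveI hpD := preservesFiniteLimits_tensorRight_of_isFlat (isFlat_of_isInvertible hD)
  obtain ⟨η, -⟩ : ∃ _ : tensorRight L ⋙ tensorRight D ≅ 𝟭 X.Modules, True :=
    ⟨Groth.Agent.Lib.Lead.SD.untwistNatIso L D (tensorBraid L D ≪≫ eD), trivial⟩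
  obtain ⟨f', hf'⟩ : ∃ f' : (tensorRight D).obj E ⟶ E,
      f' = (tensorRight D).map φ ≫ η.hom.app E := ⟨_, rfl⟩
  have hf'ne : f' ≠ 0 := by
    intro h0
    apply hφ
    apply eq_zero_of_map_tensorRight_eq_zero D L eD
    have h1 : (tensorRight D).map φ = f' ≫ η.inv.app E := by
      rw [hf', Category.assoc]
      exact ((congrArg (fun t => (tensorRight D).map φ ≫ t) (η.hom_inv_id_app E)).trans
        (Category.comp_id _)).symm
    rw [h1, h0, zero_comp]
  -- the image of `f'` is `φ`-invariant
  have hφc : φ ≫ (tensorRight L).map (cokernel.π f') = 0 := by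
    apply eq_zero_of_map_tensorRight_eq_zero D L eD
    have hnat : (tensorRight D).map ((tensorRight L).map (cokernel.π f')) ≫
        η.hom.app (cokernel f') = η.hom.app E ≫ cokernel.π f' := η.hom.naturality (cokernel.π f')
    have h1 : (tensorRight D).map (φ ≫ (tensorRight L).map (cokernel.π f')) ≫
        η.hom.app (cokernel f') = 0 := by
      rw [Functor.map_comp, Category.assoc, hnat]
      have h2 : (tensorRight D).map φ ≫ η.hom.app E ≫ cokernel.π f' = f' ≫ cokernel.π f' := by
        rw [hf', Category.assoc]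
      exact h2.trans (cokernel.condition f')
    exact (cancel_mono (η.hom.app (cokernel f'))).mp (h1.trans zero_comp.symm)
  obtain ⟨χ, hχ⟩ := Groth.Agent.Lib.Helper21.HiggsInv.exists_restrict_kernel L (cokernel.π f') φ
    (by rw [Category.assoc, hφc, comp_zero])
  -- kernel / image decomposition of `f'`
  have hE' : FlatMod.IsFinLocFreeOfRank r ((tensorRight D).obj E) :=
    Groth.Agent.Lib.Helper21.G1Even.isFinLocFreeOfRank_tensor E D hE hD1
  obtain ⟨a, b, ha, hb, hab, hdeg⟩ :=
    Groth.Agent.Lib.Helper2.DegAdd.exists_ker_im_decomp k hdim.le r r hE' hE f'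
  have hb0 : 0 < b := by
    rcases Nat.eq_zero_or_pos b with hb0 | h
    · exfalso
      subst hb0
      have hz := Groth.Agent.Lib.Helper2.DegAdd.isZero_of_rank_zero hb
      have h0 : Abelian.factorThruImage f' = 0 := hz.eq_of_tgt _ _
      apply hf'ne
      rw [← Abelian.image.fac f', h0, zero_comp]
    · exact h
  have hI := hss (Abelian.image f') b (Abelian.image.ι f') χ inferInstance hb0 hb hχ
  -- kernel / image decomposition of `φ`
  have hEL : FlatMod.IsFinLocFreeOfRank r ((tensorRight L).obj E) :=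
    Groth.Agent.Lib.Helper21.G1Even.isFinLocFreeOfRank_tensor E L hE hL1
  obtain ⟨a₀, b₀, ha₀, -, -, -⟩ :=
    Groth.Agent.Lib.Helper2.DegAdd.exists_ker_im_decomp k hdim.le r r hE hEL φ
  have eK : kernel f' ≅ (tensorRight D).obj (kernel φ) := by
    subst hf'
    exact kernelCompMono _ _ ≪≫ (PreservesKernel.iso (tensorRight D) φ).symm
  have haT : FlatMod.IsFinLocFreeOfRank a₀ ((tensorRight D).obj (kernel φ)) :=
    Groth.Agent.Lib.Helper21.G1Even.isFinLocFreeOfRank_tensor (kernel φ) D ha₀ hD1
  have haa : a = a₀ := by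
    rw [← Groth.Agent.Lib.Helper21.EulerLF.grank_of_isFinLocFreeOfRank ha,
      Groth.Agent.Lib.Helper21.EulerLF.grank_of_iso eK,
      Groth.Agent.Lib.Helper21.EulerLF.grank_of_isFinLocFreeOfRank haT]
  subst haa
  -- semistability for the kernel of `φ`
  have hK : Curv2.deg k X (kernel φ) a * (r : ℤ) ≤ Curv2.deg k X E r * (a : ℤ) := by
    rcases Nat.eq_zero_or_pos a with ha0 | ha0
    · subst ha0
      have hz := Groth.Agent.Lib.Helper2.DegAdd.isZero_of_rank_zero ha₀
      rw [Groth.Agent.Lib.Helper2.DegAdd.deg_eq_zero_of_isZero k hz]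
      simp
    · exact hss (kernel φ) a (kernel.ι φ) 0 inferInstance ha0 ha₀
        (by rw [zero_comp, kernel.condition])
  -- degrees
  have hdk : Curv2.deg k X (kernel f') a =
      Curv2.deg k X (kernel φ) a + (a : ℤ) * Curv2.deg k X D 1 := by
    have h1 : Curv2.euler k X ((tensorRight D).obj (kernel φ)) =
        Curv2.euler k X (kernel φ) + (a : ℤ) * Curv2.deg k X D 1 :=
      (euler_of_iso k (tensorBraid (kernel φ) D)).trans
        (euler_tensorMod_invertible k X hdim.le hD a ha₀)
    rw [deg_of_iso k eK a]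
    change Curv2.euler k X ((tensorRight D).obj (kernel φ)) -
        (a : ℤ) * Curv2.euler k X (Coh.structureModule X) =
      (Curv2.euler k X (kernel φ) - (a : ℤ) * Curv2.euler k X (Coh.structureModule X)) +
        (a : ℤ) * Curv2.deg k X D 1
    rw [h1]
    ring
  have hdE' : Curv2.deg k X ((tensorRight D).obj E) r =
      Curv2.deg k X E r + (r : ℤ) * Curv2.deg k X D 1 := by
    have h1 : Curv2.euler k X ((tensorRight D).obj E) =
        Curv2.euler k X E + (r : ℤ) * Curv2.deg k X D 1 :=
      (euler_of_iso k (tensorBraid E D)).trans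
        (euler_tensorMod_invertible k X hdim.le hD r hE)
    change Curv2.euler k X ((tensorRight D).obj E) -
        (r : ℤ) * Curv2.euler k X (Coh.structureModule X) =
      (Curv2.euler k X E - (r : ℤ) * Curv2.euler k X (Coh.structureModule X)) +
        (r : ℤ) * Curv2.deg k X D 1
    rw [h1]
    ring
  have hDL : Curv2.deg k X D 1 + Curv2.deg k X L 1 = 0 := by
    rw [← deg_tensorMod k X hdim.le hD hL, deg_of_iso k eD 1]
    change Curv2.euler k X (Coh.structureModule X) -
      ((1 : ℕ) : ℤ) * Curv2.euler k X (Coh.structureModule X) = 0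
    push_cast
    ring
  -- arithmetic
  rw [hdE', hdk] at hdeg
  have hrab : (r : ℤ) = (a : ℤ) + (b : ℤ) := by exact_mod_cast hab
  have hb' : (0 : ℤ) < (b : ℤ) := by exact_mod_cast hb0
  have hr' : (0 : ℤ) < (r : ℤ) := by exact_mod_cast hr
  generalize Curv2.deg k X (kernel φ) a = dk at hK hdeg
  generalize Curv2.deg k X (Abelian.image f') b = di at hI hdeg
  generalize Curv2.deg k X E r = dE at hK hI hdeg
  generalize Curv2.deg k X D 1 = dD at hdeg hDL
  generalize Curv2.deg k X L 1 = dL at hDL ⊢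
  have e1 : di = dE - dk + (b : ℤ) * dD := by
    rw [hrab] at hdeg
    linarith
  rw [e1] at hI
  have key : (b : ℤ) * (r : ℤ) * dD ≤ 0 := by
    have h3 : (dE - dk + (b : ℤ) * dD) * (r : ℤ) =
        dE * (r : ℤ) - dk * (r : ℤ) + (b : ℤ) * (r : ℤ) * dD := by ring
    have h4 : dE * (r : ℤ) = dE * (a : ℤ) + dE * (b : ℤ) := by rw [hrab]; ring
    rw [h3] at hI
    linarith
  have hbr : (0 : ℤ) < (b : ℤ) * (r : ℤ) := mul_pos hb' hr'
  have hdD : dD ≤ 0 := by
    by_contra hcon
    have := mul_pos hbr (not_le.mp hcon)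
    linarith
  linarith

end Groth.Agent.Lib.Helper21.HiggsTwist
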