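import Groth.Agent.Lib.Helper21.Gaps

/-!
# Nonzero ideal sheaves on a regular curve are effective Cartier divisors

On an integral locally noetherian scheme all of whose local rings are principal ideal rings, every
nonzero quasi-coherent ideal is locally generated by a nonzerodivisor; its degree on a proper
curve is minus its colength.
-/

set_option autoImplicit false
set_option linter.style.haveILetI false
set_option linter.unusedSectionVars false
universe u
open CategoryTheory CategoryTheory.Limits AlgebraicGeometry TopologicalSpace Opposite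

namespace Groth.Agent.Lib.Helper21.IdealCart

open Groth.Agent.Lib.Helper29.QCoh Groth.Agent.Lib.Lead.LinLES Groth.Agent.Lib.Lead.TwistExact
  Groth.Agent.Lib.Helper21.CDeg Groth.Agent.Lib.Helper25.HypTwist
  Groth.Agent.Lib.Helper21.TwistDown Groth.Agent.Lib.Helper21.RegPt

section Alg

/-- in a local domain, if the extension of an ideal is principal, it is generated by the image
of one of its elements -/
theorem exists_generator_of_map_eq_span {A B : Type*} [CommRing A] [CommRing B] [IsDomain B]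
    [IsLocalRing B] (φ : A →+* B) (I : Ideal A) (t : B) (ht : t ≠ 0)
    (hI : I.map φ = Ideal.span {t}) :
    ∃ x ∈ I, ∃ c : B, IsUnit c ∧ φ x = t * c := by
  set T : Set B := {c | ∃ x ∈ I, φ x = t * c} with hT
  have h1 : I.map φ ≤ Ideal.span {t} * Ideal.span T := by
    rw [Ideal.map, Ideal.span_le]
    rintro _ ⟨x, hx, rfl⟩
    have : φ x ∈ Ideal.span {t} := hI ▸ Ideal.mem_map_of_mem φ hx
    obtain ⟨c, hc⟩ := Ideal.mem_span_singleton'.1 this
    have hc' : φ x = t * c := by rw [← hc, mul_comm]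
    rw [hc']
    exact Ideal.mul_mem_mul (Ideal.mem_span_singleton_self t) (Ideal.subset_span ⟨x, hx, hc'⟩)
  have h2 : t ∈ Ideal.span {t} * Ideal.span T := h1 (hI ▸ Ideal.mem_span_singleton_self t)
  obtain ⟨d, hd, hfd⟩ := Ideal.mem_span_singleton_mul.1 h2
  have hd1 : d = 1 := by
    have h3 : t * (d - 1) = 0 := by rw [mul_sub, hfd, mul_one, sub_self]
    rcases mul_eq_zero.mp h3 with h | h
    · exact absurd h ht
    · exact sub_eq_zero.1 h
  have h3 : (1 : B) ∈ Ideal.span T := hd1 ▸ hd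
  by_contra hcon
  push Not at hcon
  have h4 : Ideal.span T ≤ IsLocalRing.maximalIdeal B := by
    rw [Ideal.span_le]
    rintro c ⟨x, hx, hc⟩
    change c ∈ IsLocalRing.maximalIdeal B
    rw [IsLocalRing.mem_maximalIdeal, mem_nonunits_iff]
    exact fun hu => hcon x hx c hu hc
  exact (IsLocalRing.maximalIdeal.isMaximal B).ne_top ((Ideal.eq_top_iff_one _).2 (h4 h3))

end Alg

section Cartier

variable {X : Scheme.{u}}

/-- a nonzero ideal sheaf on an integral scheme is nonzero on every nonempty affine open -/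
theorem ideal_ne_bot [IsIntegral X] (I : X.IdealSheafData) (hI : I ≠ ⊥) (U : X.affineOpens)
    (hU : (U.1 : Set X).Nonempty) : I.ideal U ≠ ⊥ := by
  intro h
  apply hI
  rw [← Scheme.IdealSheafData.support_eq_top_iff]
  have hsub : (U.1 : Set X) ⊆ I.support := by
    intro y hy
    rw [SetLike.mem_coe, Scheme.IdealSheafData.mem_support_iff_of_mem (U := U) hy, h,
      Scheme.mem_zeroLocus_iff]
    intro f hf
    have hf0 : f = 0 := hf
    rw [hf0, Scheme.basicOpen_zero]
    exact fun h => h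
  have hdense : Dense (U.1 : Set X) := U.1.2.dense hU
  have hcl : closure (U.1 : Set X) ⊆ I.support := I.support.isClosed.closure_subset_iff.mpr hsub
  ext y
  simp only [SetLike.mem_coe]
  constructor
  · intro _; trivial
  · intro _; exact hcl (hdense y)

/-- **a nonzero ideal sheaf is principal near a point whose local ring is a principal ideal
ring** -/
theorem exists_principal_of_pid [IsIntegral X] [IsLocallyNoetherian X] (I : X.IdealSheafData)
    (hI : I ≠ ⊥) (x : X) (hpid : IsPrincipalIdealRing (X.presheaf.stalk x)) :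
    ∃ U : X.affineOpens, x ∈ U.1 ∧
      ∃ f : Γ(X, U.1), f ∈ nonZeroDivisors Γ(X, U.1) ∧ I.ideal U = Ideal.span {f} := by
  obtain ⟨_, ⟨U₀, hU₀, rfl⟩, hxU₀, -⟩ :=
    X.isBasis_affineOpens.exists_subset_of_mem_open (Set.mem_univ x) isOpen_univ
  haveI : IsNoetherianRing Γ(X, U₀) := IsLocallyNoetherian.component_noetherian ⟨U₀, hU₀⟩
  obtain ⟨S, hS⟩ : (I.ideal ⟨U₀, hU₀⟩).FG := (isNoetherianRing_iff_ideal_fg _).mp inferInstance _
  set φ : Γ(X, U₀) →+* X.presheaf.stalk x := (X.presheaf.germ U₀ x hxU₀).hom with hφ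
  have hφinj : Function.Injective φ := germ_injective_of_isIntegral X x hxU₀
  obtain ⟨t, ht⟩ :=
    (IsPrincipalIdealRing.principal (Ideal.map φ (I.ideal ⟨U₀, hU₀⟩))).principal
  have ht' : Ideal.map φ (I.ideal ⟨U₀, hU₀⟩) = Ideal.span {t} := ht
  have hne := ideal_ne_bot I hI ⟨U₀, hU₀⟩ ⟨x, hxU₀⟩
  have ht0 : t ≠ 0 := by
    rintro rfl
    apply hne
    rw [eq_bot_iff]
    intro a ha
    have h1 : φ a ∈ Ideal.map φ (I.ideal ⟨U₀, hU₀⟩) := Ideal.mem_map_of_mem φ ha
    rw [ht', Ideal.span_singleton_zero] at h1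
    have h2 : φ a = 0 := h1
    rw [Ideal.mem_bot]
    exact hφinj (by rw [h2, map_zero])
  obtain ⟨a₀, ha₀, c, hc, hac⟩ :=
    exists_generator_of_map_eq_span φ (I.ideal ⟨U₀, hU₀⟩) t ht0 ht'
  obtain ⟨cinv, hcinv⟩ := hc.exists_left_inv
  have hS' : ∀ a ∈ S, ∃ (Wa : X.Opens) (hxWa : x ∈ Wa) (d : Γ(X, Wa)),
      X.presheaf.germ Wa x hxWa d * φ a₀ = φ a := by
    intro a ha
    have haD : a ∈ I.ideal ⟨U₀, hU₀⟩ := by rw [← hS]; exact Ideal.subset_span ha
    have hmem : φ a ∈ Ideal.span {t} := ht' ▸ Ideal.mem_map_of_mem φ haD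
    obtain ⟨y, hy⟩ := Ideal.mem_span_singleton'.mp hmem
    obtain ⟨Wa, -, hxWa, -, d, hd⟩ := exists_affine_germ_eq x U₀ hxU₀ (y * cinv)
    refine ⟨Wa, hxWa, d, ?_⟩
    rw [hd, hac, ← hy]
    calc y * cinv * (t * c) = y * t * (cinv * c) := by ring
      _ = y * t := by rw [hcinv, mul_one]
  choose! Wa hxWa d hd using hS'
  have hTopen : IsOpen ((U₀ : Set X) ∩ ⋂ a ∈ S, (Wa a : Set X)) :=
    U₀.2.inter (isOpen_biInter_finset (fun a _ => (Wa a).2))
  have hxT : x ∈ (U₀ : Set X) ∩ ⋂ a ∈ S, (Wa a : Set X) :=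
    ⟨hxU₀, Set.mem_iInter₂.mpr (fun a ha => hxWa a ha)⟩
  obtain ⟨_, ⟨W', hW', rfl⟩, hxW', hW'T⟩ :=
    X.isBasis_affineOpens.exists_subset_of_mem_open hxT hTopen
  have hW'U : W' ≤ U₀ := fun y hy => (hW'T hy).1
  have hW'Wa : ∀ a ∈ S, W' ≤ Wa a := fun a ha y hy => Set.mem_iInter₂.mp (hW'T hy).2 a ha
  have hgermf : X.presheaf.germ W' x hxW' (X.presheaf.map (homOfLE hW'U).op a₀) = φ a₀ :=
    TopCat.Presheaf.germ_res_apply X.presheaf (homOfLE hW'U) x hxW' a₀
  have hmap := I.map_ideal (U := ⟨W', hW'⟩) (V := ⟨U₀, hU₀⟩) hW'U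
  refine ⟨⟨W', hW'⟩, hxW', X.presheaf.map (homOfLE hW'U).op a₀, ?_, ?_⟩
  · haveI : Nonempty W' := ⟨⟨x, hxW'⟩⟩
    apply mem_nonZeroDivisors_of_ne_zero
    intro h0
    have h1 : φ a₀ = 0 := by rw [← hgermf, h0, map_zero]
    rw [hac] at h1
    rcases mul_eq_zero.mp h1 with h | h
    · exact ht0 h
    · exact hc.ne_zero h
  · apply le_antisymm
    · rw [← hmap, ← hS, Ideal.map_span, Ideal.span_le]
      rintro _ ⟨a, ha, rfl⟩
      rw [SetLike.mem_coe, Ideal.mem_span_singleton']
      refine ⟨X.presheaf.map (homOfLE (hW'Wa a ha)).op (d a), ?_⟩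
      apply germ_injective_of_isIntegral X x hxW'
      rw [map_mul, hgermf,
        TopCat.Presheaf.germ_res_apply X.presheaf (homOfLE (hW'Wa a ha)) x hxW' (d a),
        hd a ha]
      exact (TopCat.Presheaf.germ_res_apply X.presheaf (homOfLE hW'U) x hxW' a).symm
    · rw [Ideal.span_le, Set.singleton_subset_iff, SetLike.mem_coe, ← hmap]
      exact Ideal.mem_map_of_mem _ ha₀

theorem isEffCartierIdeal_of_forall_pid [IsIntegral X] [IsLocallyNoetherian X]
    (I : X.IdealSheafData) (hI : I ≠ ⊥)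
    (hpid : ∀ x : X, IsPrincipalIdealRing (X.presheaf.stalk x)) :
    BlowUp.IsEffCartierIdeal I := fun x => exists_principal_of_pid I hI x (hpid x)

end Cartier

section Zero

variable {X : Scheme.{u}}

theorem ifun_zero (I : X.IdealSheafData) (W : X.Opens) :
    ifun I (0 : Γ(ClSub.idealMod I, W)) = 0 := by
  unfold ifun
  rw [map_zero]
  rfl

/-- the ideal module of the zero ideal is zero -/
theorem isZero_idealMod_bot : IsZero (ClSub.idealMod (⊥ : X.IdealSheafData)) := by
  rw [IsZero.iff_id_eq_zero]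
  apply Scheme.Modules.hom_ext
  intro W
  ext t
  change t = 0
  have hloc : ∀ x : W, ∃ V : X.Opens, IsAffineOpen V ∧ (x : X) ∈ V ∧ V ≤ W := fun x => by
    obtain ⟨_, ⟨V, hV, rfl⟩, hxV, hVW⟩ :=
      X.isBasis_affineOpens.exists_subset_of_mem_open x.2 W.2
    exact ⟨V, hV, hxV, hVW⟩
  choose V hV hxV hVW using hloc
  refine eq_zero_of_res_cover_eq_zero _ V hVW
    (fun y hy => Opens.mem_iSup.mpr ⟨⟨y, hy⟩, hxV _⟩) t (fun x => ?_)
  apply ifun_injective ⊥ (V x)
  have h1 := ifun_mem ⊥ ⟨V x, hV x⟩ (res _ (hVW x) t)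
  rw [ifun_zero]
  exact h1

/-- the inclusion of a nonzero ideal is nonzero -/
theorem idealSeq_f_ne_zero (I : X.IdealSheafData) (hI : I ≠ ⊥) : (idealSeq I).f ≠ 0 := by
  intro h0
  apply hI
  ext U : 2
  rw [Scheme.IdealSheafData.ideal_bot, Pi.bot_apply, eq_bot_iff]
  intro a ha
  obtain ⟨t, rfl⟩ := exists_ifun_eq I U a ha
  rw [Ideal.mem_bot]
  unfold ifun
  have h1 : (ClSub.idealModι I).app U.1 t = 0 := by
    have h2 : ClSub.idealModι I = 0 := h0
    rw [h2]
    rfl
  rw [h1]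
  rfl

end Zero

section Deg

variable (k : Type u) [Field k] [IsAlgClosed k] (X : Scheme.{u}) [X.Over (Spec (CommRingCat.of k))]
  [IsIntegral X] [IsProper (X ↘ (Spec (CommRingCat.of k)))]

/-- `h⁰(O_X/0) = 1` -/
theorem finrank_quotMod_bot :
    Module.finrank k (Coh.HH X (ClSub.quotMod (⊥ : X.IdealSheafData)) 0) = 1 := by
  have hS := shortExact_idealSeq (⊥ : X.IdealSheafData)
  haveI : IsIso (idealSeq (⊥ : X.IdealSheafData)).g := hS.isIso_g_iff.mpr isZero_idealMod_bot
  rw [← (HHlinEquiv k (asIso (idealSeq (⊥ : X.IdealSheafData)).g) 0).finrank_eq]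
  exact Groth.Agent.Lib.Helper21.TwistDown.finrank_HH_zero_unit k X

/-- **the degree of an invertible ideal is minus its colength** -/
theorem deg_idealMod (hdim : topologicalKrullDim X ≤ 1) (I : X.IdealSheafData)
    (hcart : BlowUp.IsEffCartierIdeal I) (hI : I ≠ ⊥) :
    Curv2.deg k X (ClSub.idealMod I) 1 =
      -(Module.finrank k (Coh.HH X (ClSub.quotMod I) 0) : ℤ) := by
  have hJ : PicF.IsInvertible (ClSub.idealMod I) := isInvertible_idealMod I hcart
  have hS := shortExact_idealSeq I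
  haveI := hS.epi_g
  have h1 := (deg_eq_add_finrank k X hdim hJ (isInvertible_unit X) (idealSeq I).f
    (idealSeq_f_ne_zero I hI)).1
  have e : cokernel (idealSeq I).f ≅ ClSub.quotMod I :=
    IsColimit.coconePointUniqueUpToIso (cokernelIsCokernel (idealSeq I).f) hS.exact.gIsCokernel
  rw [(HHlinEquiv k e 0).finrank_eq] at h1
  have h2 : Curv2.deg k X (unitM X) 1 = 0 := deg_structureModule k X
  rw [h2] at h1
  linarith

end Deg

end Groth.Agent.Lib.Helper21.IdealCart
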