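import Groth.Agent.Lib.Helper21.CondT5

/-!
# Dimension of closed subsets of fibres via residue transcendence degrees; residue
transcendence degrees across a base change
-/

set_option autoImplicit false
set_option linter.style.haveILetI false
set_option linter.unusedSectionVars false
universe u

open AlgebraicGeometry CategoryTheory Limits TopologicalSpace IsLocalRing

namespace Groth.Agent.Lib.Helper21.ImgDim

open Groth.Agent.Lib.Helper21.FibDim Groth.Agent.Lib.Helper21.EquiSub
  Groth.Agent.Lib.Helper21.FourCond Groth.Agent.Lib.Helper21.OpenAt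

variable {X S : Scheme.{u}}

/-- a point of a subset `Z` of a fibre, closed in the fibre, bounds `dim Z` from below by its
residue transcendence degree -/
theorem trdeg_le_topologicalKrullDim (f : X ⟶ S) [LocallyOfFiniteType f] (t : S) (Z : Set X)
    (hZt : Z ⊆ f.base ⁻¹' {t}) (hZc : f.base ⁻¹' {t} ∩ closure Z ⊆ Z) (z : X) (hz : z ∈ Z) (n : ℕ)
    (hn : @Algebra.trdeg (S.residueField (f z)) (X.residueField z) _ _
      (f.residueFieldMap z).hom.toAlgebra = n) :
    (n : WithBot ℕ∞) ≤ topologicalKrullDim ↥Z := by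
  rw [← topologicalKrullDim_closure_inter_fiber f z n hn]
  apply topologicalKrullDim_mono_subset
  rintro x ⟨hx1, hx2⟩
  have hfz : f.base z = t := hZt hz
  apply hZc
  refine ⟨?_, closure_mono (Set.singleton_subset_iff.mpr hz) hx1⟩
  show f.base x = t
  rw [← hfz]
  exact hx2

/-- the dimension of a subset `Z` of a fibre, closed in the fibre, is bounded by the residue
transcendence degrees of its points -/
theorem topologicalKrullDim_le_of_forall_trdeg_le (f : X ⟶ S) [LocallyOfFiniteType f] (t : S)
    (Z : Set X) (hZt : Z ⊆ f.base ⁻¹' {t}) (hZc : f.base ⁻¹' {t} ∩ closure Z ⊆ Z)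
    (D : WithBot ℕ∞)
    (h : ∀ z ∈ Z, ∀ n : ℕ, @Algebra.trdeg (S.residueField (f z)) (X.residueField z) _ _
      (f.residueFieldMap z).hom.toAlgebra = n → (n : WithBot ℕ∞) ≤ D) :
    topologicalKrullDim ↥Z ≤ D := by
  haveI : QuasiSober ↥(f.base ⁻¹' {t}) :=
    (f.fiberHomeo t).symm.isClosedEmbedding.quasiSober
  have hcl : Topology.IsClosedEmbedding (Set.inclusion hZt) := by
    refine ⟨Topology.IsEmbedding.inclusion hZt, ?_⟩
    have : Set.range (Set.inclusion hZt) = Subtype.val ⁻¹' closure Z := by
      ext ⟨x, hx⟩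
      simp only [Set.range_inclusion, Set.mem_ofPred_eq, Set.mem_preimage]
      exact ⟨fun hxZ => subset_closure hxZ, fun hxc => hZc ⟨hx, hxc⟩⟩
    rw [this]
    exact isClosed_closure.preimage continuous_subtype_val
  haveI : QuasiSober ↥Z := hcl.quasiSober
  apply Groth.Agent.Lib.Helper21.EquiDim.topologicalKrullDim_le_of_components
  intro W hW
  obtain ⟨c, hc⟩ := exists_isGenericPoint_of_mem_irreducibleComponents W hW
  obtain ⟨n, hn⟩ := exists_nat_trdeg_residueFieldMap f c.1
  refine le_trans ?_ (h c.1 c.2 n hn)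
  rw [← topologicalKrullDim_closure_inter_fiber f c.1 n hn]
  have hfc : f.base c.1 = t := hZt c.2
  -- `W` embeds into `closure {c} ∩ f⁻¹(f c)`
  let φ : ↥W → ↥(closure ({c.1} : Set X) ∩ f.base ⁻¹' {f c.1}) := fun w =>
    ⟨w.1.1, by
      have h1 : w.1 ∈ closure ({c} : Set ↥Z) := by rw [hc.def]; exact w.2
      have h2 := (specializes_iff_mem_closure.mpr h1).map continuous_subtype_val
      exact specializes_iff_mem_closure.mp h2, by
      show f.base w.1.1 = f.base c.1
      rw [hfc]
      exact hZt w.1.2⟩
  have hφ : Topology.IsEmbedding φ := by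
    have h1 : Topology.IsEmbedding (fun w : ↥W => w.1.1) :=
      Topology.IsEmbedding.subtypeVal.comp Topology.IsEmbedding.subtypeVal
    exact Topology.IsEmbedding.of_comp (h1.continuous.subtype_mk _) continuous_subtype_val h1
  exact hφ.isInducing.topologicalKrullDim_le

end Groth.Agent.Lib.Helper21.ImgDim
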