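import Groth.Agent.Lib.Helper21.ImgDim1

/-!
# Residue transcendence degrees across a base change
-/

set_option autoImplicit false
set_option linter.style.haveILetI false
set_option linter.unusedSectionVars false
universe u

open AlgebraicGeometry CategoryTheory Limits TopologicalSpace IsLocalRing

namespace Groth.Agent.Lib.Helper21.ImgDim

open Groth.Agent.Lib.Helper21.FibDim Groth.Agent.Lib.Helper21.EquiSub
  Groth.Agent.Lib.Helper21.FourCond Groth.Agent.Lib.Helper21.OpenAt

variable {X S V : Scheme.{u}}

/-- the reduced closed subscheme on the closure of a point -/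
theorem exists_closedSubscheme_closure (x : X) :
    ∃ (W : Scheme.{u}) (ι : W ⟶ X) (w : W), IsClosedImmersion ι ∧
      Set.range ι.base = closure ({x} : Set X) ∧ ι.base w = x ∧ ∀ u : W, w ⤳ u := by
  let C : TopologicalSpace.Closeds X := ⟨closure {x}, isClosed_closure⟩
  have hr := Groth.Agent.Lib.Helper21.CondT.range_subschemeι_vanishingIdeal C
  have hemb : Topology.IsEmbedding (Scheme.IdealSheafData.vanishingIdeal C).subschemeι.base :=
    (Scheme.IdealSheafData.vanishingIdeal C).subschemeι.isEmbedding
  obtain ⟨w, hw⟩ : x ∈ Set.range (Scheme.IdealSheafData.vanishingIdeal C).subschemeι.base := by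
    rw [hr]; exact subset_closure rfl
  refine ⟨_, (Scheme.IdealSheafData.vanishingIdeal C).subschemeι, w, inferInstance, hr, hw, ?_⟩
  intro u
  rw [← hemb.isInducing.specializes_iff, specializes_iff_mem_closure, hw]
  have : (Scheme.IdealSheafData.vanishingIdeal C).subschemeι.base u ∈
      Set.range (Scheme.IdealSheafData.vanishingIdeal C).subschemeι.base := ⟨u, rfl⟩
  rw [hr] at this
  exact this

variable (f : X ⟶ S) [LocallyOfFiniteType f] (a : V ⟶ S)

/-- residue transcendence degrees do not increase under base change -/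
theorem trdeg_pullback_le (u : ↥(pullback f a)) (n m : ℕ)
    (hn : @Algebra.trdeg (V.residueField ((pullback.snd f a) u)) ((pullback f a).residueField u) _ _
      ((pullback.snd f a).residueFieldMap u).hom.toAlgebra = n)
    (hm : @Algebra.trdeg (S.residueField (f ((pullback.fst f a) u)))
      (X.residueField ((pullback.fst f a) u)) _ _
      (f.residueFieldMap ((pullback.fst f a) u)).hom.toAlgebra = m) : n ≤ m := by
  obtain ⟨W, ι, w, hι, hr, hw, hgen⟩ := exists_closedSubscheme_closure ((pullback.fst f a) u)
  haveI := hι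
  have hsq : IsPullback (pullback.fst f a) (pullback.snd f a) f a := IsPullback.of_hasPullback f a
  have hsq1 : IsPullback (pullback.fst ι (pullback.fst f a)) (pullback.snd ι (pullback.fst f a)) ι
      (pullback.fst f a) := IsPullback.of_hasPullback _ _
  have hsq' := hsq1.paste_vert hsq
  haveI : LocallyOfFiniteType (pullback.snd f a) :=
    MorphismProperty.pullback_snd (P := @LocallyOfFiniteType) _ _ inferInstance
  -- `u` lies in the range of the closed immersion
  obtain ⟨c, hc⟩ : u ∈ Set.range (pullback.snd ι (pullback.fst f a)).base := by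
    rw [Scheme.Pullback.range_snd, hr]
    exact subset_closure rfl
  have hfc : pullback.fst ι (pullback.fst f a) c = w := by
    apply ι.isEmbedding.injective
    have h1 : ι (pullback.fst ι (pullback.fst f a) c) =
        (pullback.fst f a) (pullback.snd ι (pullback.fst f a) c) := by
      have := congrArg (fun φ : pullback ι (pullback.fst f a) ⟶ X => φ c) pullback.condition
      simpa only [Scheme.Hom.comp_apply] using this
    rw [h1]
    have h2 : pullback.snd ι (pullback.fst f a) c = u := hc
    rw [h2]
    exact hw.symm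
  have hn' := Groth.Agent.Lib.Helper21.IrrFib.trdeg_comp_of_surjectiveOnStalks
    (pullback.snd ι (pullback.fst f a)) (pullback.snd f a) c n
    (trdeg_eq_of_eq (pullback.snd f a) hc.symm n hn)
  have hm' := Groth.Agent.Lib.Helper21.IrrFib.trdeg_comp_of_surjectiveOnStalks ι f w m
    (trdeg_eq_of_eq f hw.symm m hm)
  have h1 := le_fibreDimAt_of_specializes (pullback.snd ι (pullback.fst f a) ≫ pullback.snd f a)
    (specializes_refl c) n hn'
  rw [Groth.Agent.Lib.Helper21.BaseChg.fibreDimAt_eq_of_isPullback hsq' c, hfc,
    fibreDimAt_eq_trdeg_of_maximal (ι ≫ f) w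
      (fun τ hτ _ => ((hgen τ).antisymm hτ).eq.symm) m hm'] at h1
  exact_mod_cast h1

/-- a point of the base change over given points with the same residue transcendence degree -/
theorem exists_trdeg_pullback_eq (z : X) (v : V) (hzv : f z = a v) (N : ℕ)
    (hN : @Algebra.trdeg (S.residueField (f z)) (X.residueField z) _ _
      (f.residueFieldMap z).hom.toAlgebra = N) :
    ∃ u : ↥(pullback f a), (pullback.fst f a) u = z ∧ (pullback.snd f a) u = v ∧
      @Algebra.trdeg (V.residueField ((pullback.snd f a) u)) ((pullback f a).residueField u) _ _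
        ((pullback.snd f a).residueFieldMap u).hom.toAlgebra = N := by
  obtain ⟨W, ι, w, hι, hr, hw, hgen⟩ := exists_closedSubscheme_closure z
  haveI := hι
  have hsq : IsPullback (pullback.fst f a) (pullback.snd f a) f a := IsPullback.of_hasPullback f a
  have hsq1 : IsPullback (pullback.fst ι (pullback.fst f a)) (pullback.snd ι (pullback.fst f a)) ι
      (pullback.fst f a) := IsPullback.of_hasPullback _ _
  have hsq' := hsq1.paste_vert hsq
  haveI : LocallyOfFiniteType (pullback.snd f a) :=
    MorphismProperty.pullback_snd (P := @LocallyOfFiniteType) _ _ inferInstance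
  obtain ⟨u₀, hu₀1, hu₀2⟩ := Scheme.Pullback.exists_preimage_pullback (f := f) (g := a) z v hzv
  obtain ⟨c₀, hc₀1, hc₀2⟩ := Scheme.Pullback.exists_preimage_pullback (f := ι)
    (g := pullback.fst f a) w u₀ (hw.trans hu₀1.symm)
  have hN' := Groth.Agent.Lib.Helper21.IrrFib.trdeg_comp_of_surjectiveOnStalks ι f w N
    (trdeg_eq_of_eq f hw.symm N hN)
  have hF₀ : FlatMor.fibreDimAt
      (pullback.snd ι (pullback.fst f a) ≫ pullback.snd f a) c₀ = N := by
    rw [Groth.Agent.Lib.Helper21.BaseChg.fibreDimAt_eq_of_isPullback hsq' c₀, hc₀1]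
    exact fibreDimAt_eq_trdeg_of_maximal (ι ≫ f) w
      (fun τ hτ _ => ((hgen τ).antisymm hτ).eq.symm) N hN'
  obtain ⟨c₁, N', hc₁c₀, hqc₁, -, hc₁N, hF₀'⟩ := exists_maximal_generization_fibreDimAt
    (pullback.snd ι (pullback.fst f a) ≫ pullback.snd f a) c₀
  have hNN : N' = N := by
    rw [hF₀] at hF₀'
    exact_mod_cast hF₀'.symm
  rw [hNN] at hc₁N
  have hfc₁ : pullback.fst ι (pullback.fst f a) c₁ = w :=
    ((hgen _).antisymm (by
      rw [← hc₀1]
      exact hc₁c₀.map (pullback.fst ι (pullback.fst f a)).continuous)).eq.symm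
  refine ⟨pullback.snd ι (pullback.fst f a) c₁, ?_, ?_, ?_⟩
  · have h1 : ι (pullback.fst ι (pullback.fst f a) c₁) =
        (pullback.fst f a) (pullback.snd ι (pullback.fst f a) c₁) := by
      have := congrArg (fun φ : pullback ι (pullback.fst f a) ⟶ X => φ c₁) pullback.condition
      simpa only [Scheme.Hom.comp_apply] using this
    rw [← h1, hfc₁]
    exact hw
  · have h1 : (pullback.snd ι (pullback.fst f a) ≫ pullback.snd f a) c₁ =
        (pullback.snd ι (pullback.fst f a) ≫ pullback.snd f a) c₀ := hqc₁
    rw [Scheme.Hom.comp_apply, Scheme.Hom.comp_apply, hc₀2, hu₀2] at h1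
    exact h1
  · exact trdeg_of_comp_of_surjectiveOnStalks (pullback.snd ι (pullback.fst f a))
      (pullback.snd f a) c₁ N hc₁N

end Groth.Agent.Lib.Helper21.ImgDim
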