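import Groth.Agent.Lib.Helper21.ImgDim2

/-!
# EGA IV 14.3.?: the dimension of the closure, in the fibres, of the images of universally open
morphisms can only go up under generisation
-/

set_option autoImplicit false
set_option linter.style.haveILetI false
set_option linter.unusedSectionVars false
universe u

open AlgebraicGeometry CategoryTheory Limits TopologicalSpace IsLocalRing

namespace Groth.Agent.Lib.Helper21.ImgDim

open Groth.Agent.Lib.Helper21.FibDim Groth.Agent.Lib.Helper21.EquiSub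
  Groth.Agent.Lib.Helper21.FourCond Groth.Agent.Lib.Helper21.OpenAt

variable {X S V : Scheme.{u}}

/-- points of the base change lying over the image of a universally open `S`-scheme generise
inside the preimage of that image -/
theorem exists_generization_mem_range (f : X ⟶ S) (a : V ⟶ S) {Yi : Scheme.{u}} (gi : Yi ⟶ S)
    [UniversallyOpen gi] (vi : Yi ⟶ X) (hvi : vi ≫ f = gi) (x : ↥(pullback f a))
    (hx : (pullback.fst f a) x ∈ Set.range vi.base) (η : V) (hη : η ⤳ (pullback.snd f a) x) :
    ∃ x' : ↥(pullback f a), x' ⤳ x ∧ (pullback.snd f a) x' = η ∧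
      (pullback.fst f a) x' ∈ Set.range vi.base := by
  obtain ⟨y, hy⟩ := hx
  have hsq : IsPullback (pullback.fst f a) (pullback.snd f a) f a := IsPullback.of_hasPullback f a
  have hsq1 : IsPullback (pullback.fst vi (pullback.fst f a)) (pullback.snd vi (pullback.fst f a))
      vi (pullback.fst f a) := IsPullback.of_hasPullback _ _
  have hsq' := hsq1.paste_vert hsq
  haveI : UniversallyOpen (vi ≫ f) := by rw [hvi]; infer_instance
  haveI : UniversallyOpen (pullback.snd vi (pullback.fst f a) ≫ pullback.snd f a) :=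
    MorphismProperty.of_isPullback hsq' (inferInstance : UniversallyOpen (vi ≫ f))
  obtain ⟨y₀, hy₀1, hy₀2⟩ := Scheme.Pullback.exists_preimage_pullback (f := vi)
    (g := pullback.fst f a) y x hy
  have hη' : η ⤳ (pullback.snd vi (pullback.fst f a) ≫ pullback.snd f a) y₀ := by
    rw [Scheme.Hom.comp_apply, hy₀2]
    exact hη
  obtain ⟨y₁, hy₁y₀, hy₁η⟩ :=
    Groth.Agent.Lib.Helper17.ProConsLib.exists_generization_lift
      (pullback.snd vi (pullback.fst f a) ≫ pullback.snd f a) y₀
      (fun U hU => (pullback.snd vi (pullback.fst f a) ≫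
        pullback.snd f a).isOpenMap.image_mem_nhds hU) _ hη'
  refine ⟨pullback.snd vi (pullback.fst f a) y₁, ?_, ?_, ?_⟩
  · rw [← hy₀2]
    exact hy₁y₀.map (pullback.snd vi (pullback.fst f a)).continuous
  · rw [← hy₁η, Scheme.Hom.comp_apply]
  · refine ⟨pullback.fst vi (pullback.fst f a) y₁, ?_⟩
    have := congrArg (fun φ : pullback vi (pullback.fst f a) ⟶ X => φ y₁) pullback.condition
    simpa only [Scheme.Hom.comp_apply] using this

/-- the projection from a base change is open on the fibres: closure in the fibre commutes with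
preimage -/
theorem mem_closure_preimage_inter_fiber' (f : X ⟶ S) (a : V ⟶ S) {P : Scheme.{u}} (p : P ⟶ X)
    (q : P ⟶ V) (hsq : IsPullback p q f a) (T' : Set X) (u : P)
    (hu : p u ∈ closure (T' ∩ f.base ⁻¹' {a (q u)})) :
    u ∈ closure (p.base ⁻¹' T' ∩ q.base ⁻¹' {q u}) := by
  obtain ⟨t, hpb, ht⟩ := Groth.Agent.Lib.Helper21.BaseChg.exists_fiber_isPullback hsq (q u)
  haveI : UniversallyOpen t :=
    Groth.Agent.Lib.Helper21.BaseChg.universallyOpen_of_isPullback_field
      (S.residueField (a (q u))) (V.residueField (q u))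
      (f.fiberToSpecResidueField _) (Spec.map (a.residueFieldMap (q u))) t
      (q.fiberToSpecResidueField (q u)) hpb
  rw [mem_closure_iff]
  intro O hO huO
  have hut : q.fiberι (q u) (q.asFiber u) = u := Scheme.Hom.fiberι_asFiber q u
  have hO' : IsOpen ((q.fiberι (q u)).base ⁻¹' O) := hO.preimage (q.fiberι (q u)).continuous
  have htO : IsOpen (t.base '' ((q.fiberι (q u)).base ⁻¹' O)) := t.isOpenMap _ hO'
  obtain ⟨O'', hO''o, hO''⟩ :=
    (f.fiberι (a (q u))).isEmbedding.isInducing.isOpen_iff.mp htO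
  have htpt : ∀ w : ↥(q.fiber (q u)), f.fiberι (a (q u)) (t w) = p (q.fiberι (q u) w) := by
    intro w
    have := congrArg (fun φ : q.fiber (q u) ⟶ X => φ w) ht
    simpa only [Scheme.Hom.comp_apply] using this
  have hpuO'' : p u ∈ O'' := by
    have h1 : t (q.asFiber u) ∈ (f.fiberι (a (q u))).base ⁻¹' O'' := by
      rw [hO'']
      exact ⟨q.asFiber u, by show q.fiberι (q u) (q.asFiber u) ∈ O; rw [hut]; exact huO, rfl⟩
    have h2 : f.fiberι (a (q u)) (t (q.asFiber u)) ∈ O'' := h1
    rw [htpt, hut] at h2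
    exact h2
  obtain ⟨x₁, hx₁O, hx₁T, hx₁f⟩ := mem_closure_iff.mp hu O'' hO''o hpuO''
  obtain ⟨xt, rfl⟩ : x₁ ∈ Set.range (f.fiberι (a (q u))) := by
    rw [Scheme.Hom.range_fiberι]
    exact hx₁f
  have h3 : xt ∈ (f.fiberι (a (q u))).base ⁻¹' O'' := hx₁O
  rw [hO''] at h3
  obtain ⟨ot, hotO, rfl⟩ := h3
  refine ⟨q.fiberι (q u) ot, hotO, ?_, ?_⟩
  · show p (q.fiberι (q u) ot) ∈ T'
    rw [← htpt]
    exact hx₁T
  · exact (q.fiberHomeo (q u) ot).2

theorem mem_closure_preimage_inter_fiber (f : X ⟶ S) (a : V ⟶ S) (T' : Set X)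
    (u : ↥(pullback f a))
    (hu : (pullback.fst f a) u ∈
      closure (T' ∩ f.base ⁻¹' {a ((pullback.snd f a) u)})) :
    u ∈ closure ((pullback.fst f a).base ⁻¹' T' ∩
      (pullback.snd f a).base ⁻¹' {(pullback.snd f a) u}) :=
  mem_closure_preimage_inter_fiber' f a _ _ (IsPullback.of_hasPullback f a) T' u hu

/-- a point of the closure of a subset of a fibre is a specialisation of a point of that
closure lying in the fibre -/
theorem exists_generization_mem_closure {P : Scheme.{u}} (q : P ⟶ V) (A : Set P) (η : V)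
    (hA : A ⊆ q.base ⁻¹' {η}) (z : P) (hz : z ∈ closure A) :
    ∃ ζ ∈ closure A, q ζ = η ∧ ζ ⤳ z := by
  let D : TopologicalSpace.Closeds P := ⟨closure A, isClosed_closure⟩
  have hr := Groth.Agent.Lib.Helper21.CondT.range_subschemeι_vanishingIdeal D
  have hemb : Topology.IsEmbedding (Scheme.IdealSheafData.vanishingIdeal D).subschemeι.base :=
    (Scheme.IdealSheafData.vanishingIdeal D).subschemeι.isEmbedding
  obtain ⟨dz, hdz⟩ : z ∈ Set.range (Scheme.IdealSheafData.vanishingIdeal D).subschemeι.base := by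
    rw [hr]; exact hz
  by_contra hcon
  push Not at hcon
  obtain ⟨O, hdzO, hO⟩ :=
    Groth.Agent.Lib.Helper21.CondT.exists_open_forall_ne_of_forall_generization_ne
      ((Scheme.IdealSheafData.vanishingIdeal D).subschemeι ≫ q) dz η (by
        intro ξ hξ hqξ
        have h1 : (Scheme.IdealSheafData.vanishingIdeal D).subschemeι.base ξ ∈ closure A := by
          have : (Scheme.IdealSheafData.vanishingIdeal D).subschemeι.base ξ ∈
            Set.range (Scheme.IdealSheafData.vanishingIdeal D).subschemeι.base := ⟨ξ, rfl⟩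
          rw [hr] at this
          exact this
        refine hcon _ h1 hqξ ?_
        rw [← hdz]
        exact hξ.map (Scheme.IdealSheafData.vanishingIdeal D).subschemeι.continuous)
  obtain ⟨O₁, hO₁o, hO₁⟩ := hemb.isInducing.isOpen_iff.mp O.2
  have hzO₁ : z ∈ O₁ := by
    have : dz ∈ (Scheme.IdealSheafData.vanishingIdeal D).subschemeι.base ⁻¹' O₁ := by
      rw [hO₁]; exact hdzO
    rw [← hdz]
    exact this
  obtain ⟨a₁, ha₁O, ha₁A⟩ := mem_closure_iff.mp hz O₁ hO₁o hzO₁
  obtain ⟨d₁, hd₁⟩ : a₁ ∈ Set.range (Scheme.IdealSheafData.vanishingIdeal D).subschemeι.base := by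
    rw [hr]; exact subset_closure ha₁A
  have hd₁O : d₁ ∈ O := by
    have : d₁ ∈ (Scheme.IdealSheafData.vanishingIdeal D).subschemeι.base ⁻¹' O₁ := by
      show (Scheme.IdealSheafData.vanishingIdeal D).subschemeι.base d₁ ∈ O₁
      rw [hd₁]; exact ha₁O
    rw [hO₁] at this
    exact this
  apply hO d₁ hd₁O
  show q ((Scheme.IdealSheafData.vanishingIdeal D).subschemeι.base d₁) = η
  rw [hd₁]
  exact hA ha₁A

/-- **EGA IV 14.3.?** -/
theorem dim_closure_images_le (f : X ⟶ S) [LocallyOfFiniteType f] {ι : Type u}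
    (Y : ι → Scheme.{u}) (g : ∀ i, Y i ⟶ S) [∀ i, UniversallyOpen (g i)]
    (v : ∀ i, Y i ⟶ X) (hv : ∀ i, v i ≫ f = g i) (s s' : S) (hs : s' ⤳ s) :
    topologicalKrullDim
        ↥(f.base ⁻¹' {s} ∩ closure ((⋃ i, Set.range (v i).base) ∩ f.base ⁻¹' {s})) ≤
      topologicalKrullDim
        ↥(f.base ⁻¹' {s'} ∩ closure ((⋃ i, Set.range (v i).base) ∩ f.base ⁻¹' {s'})) := by
  set T : Set X := ⋃ i, Set.range (v i).base with hT
  have hZc : ∀ t : S, f.base ⁻¹' {t} ∩ closure (f.base ⁻¹' {t} ∩ closure (T ∩ f.base ⁻¹' {t})) ⊆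
      f.base ⁻¹' {t} ∩ closure (T ∩ f.base ⁻¹' {t}) := by
    intro t x hx
    refine ⟨hx.1, ?_⟩
    exact closure_minimal Set.inter_subset_right isClosed_closure hx.2
  apply topologicalKrullDim_le_of_forall_trdeg_le f s _ Set.inter_subset_left (hZc s)
  intro z hz N hN
  obtain ⟨A, hAd, hAv, a, hagen, hacl⟩ :=
    Groth.Agent.Lib.Helper10.ValSpec.exists_valuationRing_of_specializes hs
  haveI : IsDomain A := hAd
  haveI : ValuationRing A := hAv
  haveI : LocallyOfFiniteType (pullback.snd f a) :=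
    MorphismProperty.pullback_snd (P := @LocallyOfFiniteType) _ _ inferInstance
  have hfz : f z = s := hz.1
  have hcond : ∀ w : ↥(pullback f a), f ((pullback.fst f a) w) = a ((pullback.snd f a) w) := by
    intro w
    have := congrArg (fun φ : pullback f a ⟶ S => φ w) pullback.condition
    simpa only [Scheme.Hom.comp_apply] using this
  obtain ⟨u, hu1, hu2, hu3⟩ := exists_trdeg_pullback_eq f a z (closedPoint A)
    (hfz.trans hacl.symm) N hN
  -- `u` lies in the closure of the trace of `p⁻¹ T` on the closed fibre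
  have hucl := mem_closure_preimage_inter_fiber f a T u (by
    rw [hu1, hu2, hacl]
    exact hz.2)
  -- hence in the closure of its trace on the generic fibre
  set Aη : Set ↥(pullback f a) := (pullback.fst f a).base ⁻¹' T ∩
    (pullback.snd f a).base ⁻¹' {Groth.Agent.Lib.Helper10.ValSpec.genericPt A} with hAη
  have hsub : (pullback.fst f a).base ⁻¹' T ∩
      (pullback.snd f a).base ⁻¹' {(pullback.snd f a) u} ⊆ closure Aη := by
    rintro x ⟨hxT, hxq⟩
    obtain ⟨i, hi⟩ := Set.mem_iUnion.mp hxT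
    obtain ⟨x', hx'x, hx'η, hx'r⟩ := exists_generization_mem_range f a (g i) (v i) (hv i) x hi
      (Groth.Agent.Lib.Helper10.ValSpec.genericPt A)
      (Groth.Agent.Lib.Helper10.ValSpec.genericPt_specializes A _)
    have hx'A : x' ∈ Aη := ⟨Set.mem_iUnion.mpr ⟨i, hx'r⟩, hx'η⟩
    exact (closure_mono (Set.singleton_subset_iff.mpr hx'A))
      (specializes_iff_mem_closure.mp hx'x)
  have hu' : u ∈ closure Aη := closure_minimal hsub isClosed_closure hucl
  obtain ⟨ζ, hζA, hζη, hζu⟩ := exists_generization_mem_closure (pullback.snd f a) Aη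
    (Groth.Agent.Lib.Helper10.ValSpec.genericPt A) Set.inter_subset_right u hu'
  obtain ⟨M, hM⟩ := exists_nat_trdeg_residueFieldMap (pullback.snd f a) ζ
  obtain ⟨m, hm⟩ := exists_nat_trdeg_residueFieldMap f ((pullback.fst f a) ζ)
  have hle := Groth.Agent.Lib.Helper21.FlatGen.trdeg_le_of_specializes_of_isBezout (A : Type u)
    (pullback.snd f a) hζu
  rw [hu3, hM] at hle
  have hNM : N ≤ M := by exact_mod_cast hle
  have hMm : M ≤ m := trdeg_pullback_le f a ζ M m hM hm
  -- the image of `ζ` lies in `Z(s')`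
  have hfζ : f ((pullback.fst f a) ζ) = s' := by rw [hcond, hζη, hagen]
  have hpζ : (pullback.fst f a) ζ ∈ f.base ⁻¹' {s'} ∩ closure (T ∩ f.base ⁻¹' {s'}) := by
    refine ⟨hfζ, ?_⟩
    have h1 : (pullback.fst f a).base '' closure Aη ⊆ closure ((pullback.fst f a).base '' Aη) :=
      image_closure_subset_closure_image (pullback.fst f a).continuous
    refine closure_mono ?_ (h1 ⟨ζ, hζA, rfl⟩)
    rintro _ ⟨w, ⟨hwT, hwη⟩, rfl⟩
    refine ⟨hwT, ?_⟩
    show f ((pullback.fst f a) w) = s'
    have hwη' : (pullback.snd f a) w = Groth.Agent.Lib.Helper10.ValSpec.genericPt A := hwη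
    rw [hcond, hwη', hagen]
  have hfin := trdeg_le_topologicalKrullDim f s' _ Set.inter_subset_left (hZc s')
    ((pullback.fst f a) ζ) hpζ m hm
  refine le_trans ?_ hfin
  have : N ≤ m := hNM.trans hMm
  exact_mod_cast this

end Groth.Agent.Lib.Helper21.ImgDim
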