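import Groth.Agent.Lib.Helper21.GlueFam
import Groth.Agent.Lib.Helper21.VE1
import Groth.Agent.Lib.Helper20.DimTrdeg
import Groth.Agent.Lib.Helper24.EtaleNormal
import Groth.Prelude.Def_Pi1

/-!
# Rational sections of integral morphisms over normal integral schemes extend
-/

set_option autoImplicit false
universe u
open AlgebraicGeometry CategoryTheory Limits TopologicalSpace

namespace Groth.Agent.Lib.Helper21.IntSec

open Groth.Agent.Lib.Helper21.DVRExt

variable {X X' : Scheme.{u}}

/-- A morphism from the spectrum of the residue field at the generic point to a nonempty open,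
through the canonical morphism, is dominant. -/
theorem isDominant_of_generic [IsIntegral X] {W : X.Opens}
    (j : Spec (X.residueField (genericPoint X)) ⟶ (W : Scheme.{u}))
    (hj : j ≫ W.ι = X.fromSpecResidueField (genericPoint X)) : IsDominant j := by
  constructor
  rw [DenseRange, dense_iff_inter_open]
  intro O hO hOne
  obtain ⟨w, hw⟩ := hOne
  have hO' : IsOpen (W.ι '' O) := W.ι.isOpenEmbedding.isOpenMap O hO
  have hη : genericPoint X ∈ W.ι '' O :=
    ((genericPoint_spec X).mem_open_set_iff hO').mpr ⟨W.ι w, trivial, w, hw, rfl⟩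
  obtain ⟨w', hw'O, hw'⟩ := hη
  let pt : Spec (X.residueField (genericPoint X)) :=
    (⟨⊥, Ideal.isPrime_bot⟩ : PrimeSpectrum (X.residueField (genericPoint X)))
  refine ⟨w', hw'O, ⟨pt, ?_⟩⟩
  apply W.ι.isOpenEmbedding.injective
  rw [← Scheme.Hom.comp_apply, hj, Scheme.fromSpecResidueField_apply, hw']

/-- Two morphisms from an open of an integral scheme, over a separated morphism, agreeing at the
generic point, are equal. -/
theorem eq_of_generic [IsIntegral X] {Z T : Scheme.{u}} {W : X.Opens}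
    (a b : (W : Scheme.{u}) ⟶ Z) (s : Z ⟶ T) [IsSeparated s] (hab : a ≫ s = b ≫ s)
    (j : Spec (X.residueField (genericPoint X)) ⟶ (W : Scheme.{u}))
    (hj : j ≫ W.ι = X.fromSpecResidueField (genericPoint X)) (h : j ≫ a = j ≫ b) : a = b := by
  have := isDominant_of_generic j hj
  exact ext_of_isDominant_of_isSeparated s hab j h

/-- The generic point factors through any open containing it. -/
theorem exists_generic_lift [IsIntegral X] (W : X.Opens) (hηW : genericPoint X ∈ W) :
    ∃ j : Spec (X.residueField (genericPoint X)) ⟶ (W : Scheme.{u}),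
      j ≫ W.ι = X.fromSpecResidueField (genericPoint X) := by
  have hr : Set.range (X.fromSpecResidueField (genericPoint X)) ⊆ Set.range W.ι := by
    rintro _ ⟨p, rfl⟩
    rw [Scheme.Opens.range_ι, Scheme.fromSpecResidueField_apply]
    exact hηW
  exact ⟨IsOpenImmersion.lift W.ι _ hr, IsOpenImmersion.lift_fac _ _ _⟩

/-- The local construction over an affine open. -/
theorem exists_local_section [IsIntegral X] (hX : Pi1.IsNormalScheme X) (g : X' ⟶ X)
    [IsIntegralHom g] (W : X.Opens) (hW : IsAffineOpen W) (hηW : genericPoint X ∈ W)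
    (t : Spec (X.residueField (genericPoint X)) ⟶ X')
    (ht : t ≫ g = X.fromSpecResidueField (genericPoint X)) :
    ∃ k : (W : Scheme.{u}) ⟶ X', k ≫ g = W.ι ∧
      ∀ j : Spec (X.residueField (genericPoint X)) ⟶ (W : Scheme.{u}),
        j ≫ W.ι = X.fromSpecResidueField (genericPoint X) → j ≫ k = t := by
  have hW' : IsAffineOpen (g ⁻¹ᵁ W) := hW.preimage g
  have htW' : t (IsLocalRing.closedPoint (X.residueField (genericPoint X))) ∈ g ⁻¹ᵁ W := by
    change g (t _) ∈ W
    rw [← Scheme.Hom.comp_apply, ht, Scheme.fromSpecResidueField_apply]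
    exact hηW
  obtain ⟨φ, hφ⟩ := exists_factor_fromSpec t hW' htW'
  let α : Γ(X, W) ⟶ Γ(X', g ⁻¹ᵁ W) := g.app W
  have hαint : α.hom.IsIntegral := IsIntegralHom.isIntegral_app g W hW
  have hα : Spec.map α ≫ hW.fromSpec = hW'.fromSpec ≫ g := by
    have := IsAffineOpen.SpecMap_appLE_fromSpec g hW hW' le_rfl
    rwa [Scheme.Hom.appLE_eq_app] at this
  let ev : Γ(X, W) ⟶ X.residueField (genericPoint X) := X.evaluation W (genericPoint X) hηW
  have hαφ : α ≫ φ = ev := by
    apply specMap_fromSpec_cancel hW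
    rw [Spec.map_comp, Category.assoc, hα, ← Category.assoc, hφ, ht,
      fromSpecResidueField_eq_evaluation hW (genericPoint X) hηW]
  have hαφ' : ∀ a, φ.hom (α.hom a) = ev.hom a := fun a => congrArg (fun z => z.hom a) hαφ
  let algev : Algebra Γ(X, W) (X.residueField (genericPoint X)) := ev.hom.toAlgebra
  have hfr : IsFractionRing Γ(X, W) (X.residueField (genericPoint X)) :=
    Groth.Agent.Lib.Helper20.DimTrdeg.isFractionRing_evη W hW hηW
  have hne : Nonempty W := ⟨⟨_, hηW⟩⟩
  have hic : IsIntegrallyClosed Γ(X, W) :=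
    Groth.Agent.Lib.Helper24.ENorm.isIntegrallyClosed_of_isAffineOpen (fun x => (hX x).2) hW
  have hrange : ∀ b : Γ(X', g ⁻¹ᵁ W), ∃ a : Γ(X, W), ev.hom a = φ.hom b := by
    intro b
    have hb : IsIntegral Γ(X, W) (φ.hom b) := by
      obtain ⟨p, hp, hpb⟩ := hαint b
      refine ⟨p, hp, ?_⟩
      have h1 := congrArg φ.hom hpb
      rw [Polynomial.hom_eval₂, map_zero] at h1
      have h2 : (φ.hom.comp α.hom) = algebraMap Γ(X, W) (X.residueField (genericPoint X)) := by
        ext a; exact hαφ' a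
      rw [h2] at h1
      exact h1
    exact (IsIntegrallyClosed.isIntegral_iff (R := Γ(X, W))
      (K := X.residueField (genericPoint X))).mp hb
  choose ρf hρf using hrange
  have hinj : Function.Injective ev.hom :=
    IsFractionRing.injective Γ(X, W) (X.residueField (genericPoint X))
  let ρ : Γ(X', g ⁻¹ᵁ W) →+* Γ(X, W) :=
    { toFun := ρf
      map_one' := hinj (by rw [hρf, map_one, map_one])
      map_mul' := fun a b => hinj (by rw [hρf, map_mul, map_mul, hρf, hρf])
      map_zero' := hinj (by rw [hρf, map_zero, map_zero])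
      map_add' := fun a b => hinj (by rw [hρf, map_add, map_add, hρf, hρf]) }
  have hαρ : α ≫ CommRingCat.ofHom ρ = 𝟙 _ := by
    ext a
    apply hinj
    change ev.hom (ρf (α.hom a)) = ev.hom a
    rw [hρf, hαφ']
  have hρev : CommRingCat.ofHom ρ ≫ ev = φ := by
    ext b
    exact hρf b
  refine ⟨hW.isoSpec.hom ≫ Spec.map (CommRingCat.ofHom ρ) ≫ hW'.fromSpec, ?_, ?_⟩
  · rw [Category.assoc, Category.assoc, ← hα, ← Category.assoc (Spec.map _), ← Spec.map_comp,
      hαρ, Spec.map_id, Category.id_comp, IsAffineOpen.isoSpec_hom_fromSpec]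
  · intro j hj
    have h1 : j ≫ hW.isoSpec.hom = Spec.map ev := by
      rw [← cancel_mono hW.fromSpec, Category.assoc, IsAffineOpen.isoSpec_hom_fromSpec, hj,
        fromSpecResidueField_eq_evaluation hW (genericPoint X) hηW]
    rw [← Category.assoc, h1, ← Category.assoc, ← Spec.map_comp, hρev, hφ]

/-- **A rational section of an integral morphism over a normal integral scheme extends to a
section.** -/
theorem exists_section_of_isIntegralHom [IsIntegral X] (hX : Pi1.IsNormalScheme X) (g : X' ⟶ X)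
    [IsIntegralHom g] (U : X.Opens) (hU : Dense (U : Set X)) (s : (U : Scheme.{u}) ⟶ X')
    (hs : s ≫ g = U.ι) : ∃ s' : X ⟶ X', s' ≫ g = 𝟙 X ∧ U.ι ≫ s' = s := by
  have hηU : genericPoint X ∈ U :=
    ((genericPoint_spec X).mem_open_set_iff U.isOpen).mpr (by
      obtain ⟨z, hz⟩ := hU.nonempty
      exact ⟨z, trivial, hz⟩)
  obtain ⟨jU, hjU⟩ := exists_generic_lift U hηU
  let t : Spec (X.residueField (genericPoint X)) ⟶ X' := jU ≫ s
  have ht : t ≫ g = X.fromSpecResidueField (genericPoint X) := by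
    change (jU ≫ s) ≫ g = _
    rw [Category.assoc, hs, hjU]
  -- the family of all good pairs
  let I : Type u := {p : Σ W : X.Opens, ((W : Scheme.{u}) ⟶ X') //
    genericPoint X ∈ p.1 ∧ p.2 ≫ g = p.1.ι ∧
      ∀ j : Spec (X.residueField (genericPoint X)) ⟶ (p.1 : Scheme.{u}),
        j ≫ p.1.ι = X.fromSpecResidueField (genericPoint X) → j ≫ p.2 = t}
  let W : I → X.Opens := fun i => i.1.1
  let h : ∀ i : I, (W i : Scheme.{u}) ⟶ X' := fun i => i.1.2
  have hcompat : ∀ i j : I, X.homOfLE (inf_le_left : W i ⊓ W j ≤ W i) ≫ h i =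
      X.homOfLE (inf_le_right : W i ⊓ W j ≤ W j) ≫ h j := by
    intro i j
    obtain ⟨j₁₂, hj₁₂⟩ := exists_generic_lift (W i ⊓ W j) ⟨i.2.1, j.2.1⟩
    refine eq_of_generic _ _ g ?_ j₁₂ hj₁₂ ?_
    · rw [Category.assoc, Category.assoc, i.2.2.1, j.2.2.1, Scheme.homOfLE_ι, Scheme.homOfLE_ι]
    · rw [← Category.assoc, ← Category.assoc,
        i.2.2.2 (j₁₂ ≫ X.homOfLE inf_le_left) (by rw [Category.assoc, Scheme.homOfLE_ι, hj₁₂]),
        j.2.2.2 (j₁₂ ≫ X.homOfLE inf_le_right) (by rw [Category.assoc, Scheme.homOfLE_ι, hj₁₂])]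
  obtain ⟨k, hk, hkext⟩ := exists_glue_family W h hcompat
  -- the family covers `X`
  have hcover : (⨆ i, W i) = ⊤ := by
    rw [eq_top_iff]
    intro x _
    obtain ⟨V, hV, hxV, -⟩ := Opens.isBasis_iff_nbhd.mp X.isBasis_affineOpens
      (show x ∈ (⊤ : X.Opens) from trivial)
    have hηV : genericPoint X ∈ V :=
      ((genericPoint_spec X).mem_open_set_iff V.isOpen).mpr ⟨x, trivial, hxV⟩
    obtain ⟨kV, hkV1, hkV2⟩ := exists_local_section hX g V hV hηV t ht
    exact Opens.mem_iSup.mpr ⟨⟨⟨V, kV⟩, hηV, hkV1, hkV2⟩, hxV⟩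
  -- `(U, s)` is a member
  let iU : I := ⟨⟨U, s⟩, hηU, hs, fun j hj => by
    have : j = jU := by
      rw [← cancel_mono U.ι, hj, hjU]
    rw [this]⟩
  have hkg : k ≫ g = (⨆ i, W i).ι := by
    apply hkext
    intro i
    rw [← Category.assoc, hk i, Scheme.homOfLE_ι]
    exact i.2.2.1
  refine ⟨X.topIso.inv ≫ X.homOfLE (le_of_eq hcover.symm) ≫ k, ?_, ?_⟩
  · rw [Category.assoc, Category.assoc, hkg, Scheme.homOfLE_ι]
    exact X.topIso.inv_hom_id
  · have h1 : U.ι ≫ X.topIso.inv = X.homOfLE (le_top : U ≤ ⊤) := by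
      rw [← cancel_mono X.topIso.hom, Category.assoc, Iso.inv_hom_id, Category.comp_id]
      exact (Scheme.homOfLE_ι X le_top).symm
    rw [← Category.assoc, h1, ← Category.assoc, Scheme.homOfLE_homOfLE]
    exact hk iU

end Groth.Agent.Lib.Helper21.IntSec
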