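import Groth.Agent.Lib.Helper21.IrrFib1
import Groth.Agent.Lib.Helper12.ConstrTop

/-!
# Morphisms with irreducible equidimensional fibres over closed points, II
-/

set_option autoImplicit false
set_option linter.style.haveILetI false
set_option linter.unusedSectionVars false
universe u

open AlgebraicGeometry CategoryTheory Limits TopologicalSpace

namespace Groth.Agent.Lib.Helper21.IrrFib

open Groth.Agent.Lib.Helper21.FibDim

section Main

variable {X Y : Scheme.{u}} (f : X ⟶ Y) [LocallyOfFiniteType f] [JacobsonSpace Y] (d : ℕ)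
  (hirr : ∀ y : Y, IsClosed ({y} : Set Y) → IsIrreducible (f.base ⁻¹' {y}))
  (hdim : ∀ y : Y, IsClosed ({y} : Set Y) → topologicalKrullDim ↥(f.base ⁻¹' {y}) = d)

include hirr hdim

/-- every nonempty open subset of `X` contains the generic point of a fibre over a closed point -/
theorem exists_generic_mem_open (U : Set X) (hU : IsOpen U) (hne : U.Nonempty) :
    ∃ θ : X, θ ∈ U ∧ IsClosed ({f θ} : Set Y) ∧
      @Algebra.trdeg (Y.residueField (f θ)) (X.residueField θ) _ _
        (f.residueFieldMap θ).hom.toAlgebra = d := by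
  have : JacobsonSpace X := LocallyOfFiniteType.jacobsonSpace f
  obtain ⟨x, hxU, hx⟩ := nonempty_inter_closedPoints hne hU.isLocallyClosed
  have hy : IsClosed ({f x} : Set Y) := f.closePoints_subset_preimage_closedPoints hx
  obtain ⟨θ, hθ1, hθ2, hθ3⟩ := exists_generic_fibre f (f x) d (hirr _ hy) (hdim _ hy)
  refine ⟨θ, (hθ2 x rfl).mem_open hU hxU, ?_, hθ3⟩
  rw [hθ1]; exact hy

/-- residue transcendence degrees are at most `d` -/
theorem trdeg_le (ζ : X) (n : ℕ)
    (hn : @Algebra.trdeg (Y.residueField (f ζ)) (X.residueField ζ) _ _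
      (f.residueFieldMap ζ).hom.toAlgebra = n) : n ≤ d := by
  have : JacobsonSpace X := LocallyOfFiniteType.jacobsonSpace f
  obtain ⟨x, hxcl, hx⟩ := nonempty_inter_closedPoints
    (Z := closure ({ζ} : Set X)) ⟨ζ, subset_closure rfl⟩ isClosed_closure.isLocallyClosed
  have hsp : ζ ⤳ x := specializes_iff_mem_closure.mpr hxcl
  have hy : IsClosed ({f x} : Set Y) := f.closePoints_subset_preimage_closedPoints hx
  obtain ⟨N, hN, -, hall⟩ := exists_fibreDimAt_eq_trdeg f ζ
  have h1 := hall ζ specializes_rfl rfl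
  rw [hn] at h1
  have h1' : n ≤ N := by exact_mod_cast h1
  have h2 := fibreDimAt_le_of_specializes f hsp
  have h3 := fibreDimAt_le_topologicalKrullDim_fiber f x
  rw [(f.fiberHomeo (f x)).isHomeomorph.topologicalKrullDim_eq, hdim _ hy] at h3
  have h4 := h2.trans h3
  rw [hN] at h4
  have h5 : N ≤ d := by exact_mod_cast h4
  omega

/-- maximal points have residue transcendence degree exactly `d` -/
theorem trdeg_eq_of_maximal (ξ : X) (hmax : ∀ ξ' : X, ξ' ⤳ ξ → ξ' = ξ) :
    @Algebra.trdeg (Y.residueField (f ξ)) (X.residueField ξ) _ _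
      (f.residueFieldMap ξ).hom.toAlgebra = d := by
  obtain ⟨e, he1, he2⟩ := fibreDimAt_eq_trdeg_of_maximal' f ξ hmax
  have hed := trdeg_le f d hirr hdim ξ e he2
  have hopen := isOpen_setOf_fibreDimAt_le f e
  have hξ : ξ ∈ {x : X | FlatMor.fibreDimAt f x ≤ (e : ℕ)} := by
    change FlatMor.fibreDimAt f ξ ≤ (e : ℕ)
    rw [he1]
  obtain ⟨θ, hθU, -, hθ⟩ := exists_generic_mem_open f d hirr hdim _ hopen ⟨ξ, hξ⟩
  obtain ⟨N, hN, -, hall⟩ := exists_fibreDimAt_eq_trdeg f θ
  have h1 := hall θ specializes_rfl rfl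
  rw [hθ] at h1
  have h1' : d ≤ N := by exact_mod_cast h1
  have h2 : FlatMor.fibreDimAt f θ ≤ (e : ℕ) := hθU
  rw [hN] at h2
  have h2' : N ≤ e := by exact_mod_cast h2
  have : e = d := by omega
  rw [he2, this]

/-- an irreducible component meeting the fibre over a closed point contains it -/
theorem specializes_of_maximal (ξ : X) (hmax : ∀ ξ' : X, ξ' ⤳ ξ → ξ' = ξ) (x : X)
    (hy : IsClosed ({f x} : Set Y)) (hx : ξ ⤳ x) (x' : X) (hx' : f x' = f x) : ξ ⤳ x' := by
  have hd := trdeg_eq_of_maximal f d hirr hdim ξ hmax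
  obtain ⟨τ, m, h1, h2, h3, h4, h5⟩ := exists_fibre_generization f hx d hd
  obtain ⟨θ, hθ1, hθ2, hθ3⟩ := exists_generic_fibre f (f x) d (hirr _ hy) (hdim _ hy)
  have hθτ : θ ⤳ τ := hθ2 τ h3
  have heq : θ = τ := by
    by_contra hne
    have := trdeg_lt_of_specializes_of_ne f hθτ hne (hθ1.trans h3.symm)
    rw [h5, hθ3] at this
    have : m < d := by exact_mod_cast this
    omega
  subst heq
  exact h1.trans (hθ2 x' hx')

end Main

end Groth.Agent.Lib.Helper21.IrrFib
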