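import Groth.Agent.Lib.Helper21.IrrFib2

/-!
# Morphisms with irreducible equidimensional fibres over closed points, III
-/

set_option autoImplicit false
set_option linter.style.haveILetI false
set_option linter.unusedSectionVars false
universe u

open AlgebraicGeometry CategoryTheory Limits TopologicalSpace Topology

namespace Groth.Agent.Lib.Helper21.IrrFib

open Groth.Agent.Lib.Helper21.FibDim

section Main

variable {X Y : Scheme.{u}} (f : X ⟶ Y) [LocallyOfFiniteType f] [JacobsonSpace Y] (d : ℕ)
  (hirr : ∀ y : Y, IsClosed ({y} : Set Y) → IsIrreducible (f.base ⁻¹' {y}))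
  (hdim : ∀ y : Y, IsClosed ({y} : Set Y) → topologicalKrullDim ↥(f.base ⁻¹' {y}) = d)

include hirr in
/-- some maximal point of `X` lies over the generic point of `Y` -/
theorem exists_maximal_over_generic [IsNoetherian X] [IrreducibleSpace Y] :
    ∃ ξ : X, (∀ ξ' : X, ξ' ⤳ ξ → ξ' = ξ) ∧ f ξ = genericPoint Y := by
  have hη : genericPoint Y ∈ closure (f '' (Set.univ : Set X)) := by
    have hsub : closedPoints Y ⊆ f '' (Set.univ : Set X) := by
      intro y hy
      obtain ⟨x, hx⟩ := (hirr y hy).nonempty
      exact ⟨x, trivial, hx⟩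
    have := closure_mono hsub
    rw [closure_closedPoints] at this
    exact this (Set.mem_univ _)
  obtain ⟨x₀, -, hx₀⟩ := Groth.Agent.Lib.Helper21.Img.exists_specializes_of_mem_closure_image
    f f.continuous Set.univ isClosed_univ (genericPoint Y) hη
  have hx₀η : f x₀ = genericPoint Y := (hx₀.antisymm (genericPoint_specializes _)).eq
  obtain ⟨ξ, hmax, hξ⟩ := Groth.Agent.Lib.Helper21.DimFun.exists_maximal_specializes x₀
  refine ⟨ξ, hmax, ?_⟩
  have h1 : f ξ ⤳ f x₀ := hξ.map f.continuous
  rw [hx₀η] at h1
  exact (h1.antisymm (genericPoint_specializes _)).eq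

include hirr hdim in
/-- at most one maximal point of `X` lies over the generic point of `Y` -/
theorem eq_of_maximal_over_generic [IsNoetherian X] [IsNoetherian Y] [IrreducibleSpace Y]
    (ξ ξ' : X) (hmax : ∀ z : X, z ⤳ ξ → z = ξ) (hmax' : ∀ z : X, z ⤳ ξ' → z = ξ')
    (hξ : f ξ = genericPoint Y) (hξ' : f ξ' = genericPoint Y) : ξ = ξ' := by
  by_contra hne
  have : JacobsonSpace X := LocallyOfFiniteType.jacobsonSpace f
  have : LocallyOfFinitePresentation f := inferInstance
  have : QuasiCompact f := inferInstance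
  have hnot : ξ ∉ closure ({ξ'} : Set X) := by
    intro h
    exact hne (hmax ξ' (specializes_iff_mem_closure.mpr h)).symm
  have hE : IsConstructible (f '' closure ({ξ'} : Set X)) :=
    f.isConstructible_image (Groth.Agent.Lib.Helper12.isConstructible_of_isClosed isClosed_closure)
  have hdense : (Set.univ : Set Y) ⊆ closure (f '' closure ({ξ'} : Set X) ∩ Set.univ) := by
    rw [Set.inter_univ, ← (genericPoint_spec Y).def, ← hξ']
    exact closure_mono (Set.singleton_subset_iff.mpr ⟨ξ', subset_closure rfl, rfl⟩)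
  obtain ⟨V, hVo, hVne, hVsub⟩ := Groth.Agent.Lib.Helper12.exists_open_subset_of_dense hE
    (IrreducibleSpace.isIrreducible_univ Y) hdense
  rw [Set.inter_univ] at hVne hVsub
  have hηV : genericPoint Y ∈ V := by
    rw [(genericPoint_spec Y).mem_open_set_iff hVo, Set.univ_inter]
    exact hVne
  have hUo : IsOpen (f ⁻¹' V ∩ (closure ({ξ'} : Set X))ᶜ) :=
    (hVo.preimage f.continuous).inter isClosed_closure.isOpen_compl
  have hUne : (f ⁻¹' V ∩ (closure ({ξ'} : Set X))ᶜ).Nonempty :=
    ⟨ξ, by rw [Set.mem_preimage, hξ]; exact hηV, hnot⟩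
  obtain ⟨x, ⟨hxV, hxn⟩, hx⟩ := nonempty_inter_closedPoints hUne hUo.isLocallyClosed
  have hy : IsClosed ({f x} : Set Y) := f.closePoints_subset_preimage_closedPoints hx
  obtain ⟨x'', hx''1, hx''2⟩ := hVsub hxV
  have := specializes_of_maximal f d hirr hdim ξ' hmax' x'' (by rw [hx''2]; exact hy)
    (specializes_iff_mem_closure.mpr hx''1) x hx''2.symm
  exact hxn (specializes_iff_mem_closure.mp this)

end Main


section OverField

variable (k : Type u) [Field k] (X Y : Scheme.{u}) [X.Over (Spec (CommRingCat.of k))]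
  [Y.Over (Spec (CommRingCat.of k))] [LocallyOfFiniteType (X ↘ Spec (CommRingCat.of k))]
  [LocallyOfFiniteType (Y ↘ Spec (CommRingCat.of k))]

/-- dimension of the closure of a point versus the closure of its image -/
theorem topologicalKrullDim_closure_eq_add (f : X ⟶ Y)
    (hf : f ≫ (Y ↘ Spec (CommRingCat.of k)) = X ↘ Spec (CommRingCat.of k)) (ξ : X) (d : ℕ)
    (hd : @Algebra.trdeg (Y.residueField (f ξ)) (X.residueField ξ) _ _
      (f.residueFieldMap ξ).hom.toAlgebra = d) :
    topologicalKrullDim ↥(closure ({ξ} : Set X)) =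
      d + topologicalKrullDim ↥(closure (f.base '' closure ({ξ} : Set X))) := by
  obtain ⟨b, hb⟩ := exists_nat_trdeg k Y (f ξ)
  have hbc := trdeg_add_of_comp k X Y f hf ξ b d hb hd
  have hdX := topologicalKrullDim_closure_singleton k X ξ (b + d) hbc
  have hdY := topologicalKrullDim_closure_singleton k Y (f ξ) b hb
  have hcl : closure (f.base '' closure ({ξ} : Set X)) = closure ({f ξ} : Set Y) := by
    apply subset_antisymm
    · refine closure_minimal ?_ isClosed_closure
      refine (image_closure_subset_closure_image f.continuous).trans ?_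
      rw [Set.image_singleton]
    · exact closure_mono (Set.singleton_subset_iff.mpr ⟨ξ, subset_closure rfl, rfl⟩)
  rw [hcl, hdX, hdY]
  push_cast
  exact add_comm _ _

end OverField

end Groth.Agent.Lib.Helper21.IrrFib
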