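import Mathlib.RingTheory.Length
import Mathlib.LinearAlgebra.Quotient.Pi
import Mathlib.LinearAlgebra.Finsupp.LinearCombination
import Mathlib.RingTheory.Ideal.Span

/-!
# Krull–Akizuki, part 1: length lemmas
-/

set_option autoImplicit false
universe u

namespace Groth.Agent.Lib.Helper21.KA

variable {R : Type*} [CommRing R]

/-- A module generated by `n` elements and killed by `y` has length at most `n · ℓ(R/yR)`. -/
theorem length_le_of_span_of_smul_eq_zero {Q : Type*} [AddCommGroup Q] [Module R Q] (y : R)
    {n : ℕ} (b : Fin n → Q) (hb : Submodule.span R (Set.range b) = ⊤)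
    (hy : ∀ q : Q, y • q = 0) :
    Module.length R Q ≤ n * Module.length R (R ⧸ Ideal.span {y}) := by
  classical
  let g : (Fin n → R) →ₗ[R] Q := Fintype.linearCombination R b
  have hg : Function.Surjective g := by
    rw [← LinearMap.range_eq_top, Fintype.range_linearCombination, hb]
  let p : Submodule R (Fin n → R) := Submodule.pi Set.univ (fun _ : Fin n => Ideal.span {y})
  have hp : p ≤ LinearMap.ker g := by
    intro c hc
    rw [LinearMap.mem_ker, Fintype.linearCombination_apply]
    refine Finset.sum_eq_zero fun i _ => ?_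
    have hci : c i ∈ Ideal.span {y} := hc i (Set.mem_univ i)
    obtain ⟨d, hd⟩ := Ideal.mem_span_singleton'.mp hci
    rw [← hd, mul_smul, hy, smul_zero]
  let gbar : ((Fin n → R) ⧸ p) →ₗ[R] Q := p.liftQ g hp
  have hgbar : Function.Surjective gbar := by
    intro q
    obtain ⟨c, rfl⟩ := hg q
    exact ⟨Submodule.Quotient.mk c, rfl⟩
  have h1 := Module.length_le_of_surjective gbar hgbar
  have e : ((Fin n → R) ⧸ p) ≃ₗ[R] (∀ _ : Fin n, R ⧸ Ideal.span {y}) :=
    Submodule.quotientPi (fun _ : Fin n => (Ideal.span {y} : Submodule R R))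
  rw [e.length_eq, Module.length_pi] at h1
  simpa using h1

/-- For an endomorphism with finite-length range, the kernel and cokernel have the same length. -/
theorem length_ker_eq_length_coker {N : Type*} [AddCommGroup N] [Module R N] (φ : N →ₗ[R] N)
    (h : Module.length R (LinearMap.range φ) ≠ ⊤) :
    Module.length R (LinearMap.ker φ) = Module.length R (N ⧸ LinearMap.range φ) := by
  have h1 : Module.length R N = Module.length R (LinearMap.ker φ) +
      Module.length R (LinearMap.range φ) :=
    Module.length_eq_add_of_exact (LinearMap.ker φ).subtype φ.rangeRestrict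
      (Submodule.subtype_injective _) φ.surjective_rangeRestrict (by
        rw [LinearMap.exact_iff, LinearMap.ker_rangeRestrict, Submodule.range_subtype])
  have h2 : Module.length R N = Module.length R (LinearMap.range φ) +
      Module.length R (N ⧸ LinearMap.range φ) :=
    Module.length_eq_add_of_exact (LinearMap.range φ).subtype (LinearMap.range φ).mkQ
      (Submodule.subtype_injective _) (Submodule.mkQ_surjective _)
      (LinearMap.exact_subtype_mkQ _)
  rw [h1, add_comm] at h2
  exact ENat.add_right_injective_of_ne_top h h2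

/-- Submodule version: the span of `n` elements killed by `y` has length at most `n · ℓ(R/yR)`. -/
theorem length_span_le_of_smul_eq_zero {N : Type*} [AddCommGroup N] [Module R N] (y : R)
    {n : ℕ} (b : Fin n → N) (hy : ∀ i, y • b i = 0) :
    Module.length R (Submodule.span R (Set.range b)) ≤
      n * Module.length R (R ⧸ Ideal.span {y}) := by
  let G := Submodule.span R (Set.range b)
  let b' : Fin n → G := fun i => ⟨b i, Submodule.subset_span ⟨i, rfl⟩⟩
  refine length_le_of_span_of_smul_eq_zero (Q := G) y b' ?_ ?_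
  · rw [eq_top_iff]
    rintro ⟨q, hq⟩ -
    induction hq using Submodule.span_induction with
    | mem q h =>
      obtain ⟨i, rfl⟩ := h
      exact Submodule.subset_span ⟨i, rfl⟩
    | zero => exact Submodule.zero_mem _
    | add q₁ q₂ h₁ h₂ ih₁ ih₂ => exact Submodule.add_mem _ ih₁ ih₂
    | smul a q₁ h₁ ih₁ => exact Submodule.smul_mem _ a ih₁
  · rintro ⟨q, hq⟩
    apply Subtype.ext
    change y • q = 0
    induction hq using Submodule.span_induction with
    | mem q h =>
      obtain ⟨i, rfl⟩ := h
      exact hy i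
    | zero => exact smul_zero y
    | add q₁ q₂ h₁ h₂ ih₁ ih₂ => rw [smul_add, ih₁, ih₂, add_zero]
    | smul a q₁ h₁ ih₁ => rw [smul_comm, ih₁, smul_zero]

/-- Core of Krull–Akizuki for a finite module: if `x` is injective on `Mt`, `Mt` is finite,
and `y • Mt` lies in the span of `s` elements with `ℓ(R/yR) < ∞`, then
`ℓ(Mt/xMt) ≤ s · ℓ(R/xR)`. -/
theorem length_quotient_smul_le_of_fg {Mt : Type*} [AddCommGroup Mt] [Module R Mt]
    [Module.Finite R Mt] (x y : R) (hx : ∀ m : Mt, x • m = 0 → m = 0)
    (hy : Module.length R (R ⧸ Ideal.span {y}) ≠ ⊤) {s : ℕ} (b' : Fin s → Mt)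
    (hyb : ∀ m : Mt, y • m ∈ Submodule.span R (Set.range b')) :
    Module.length R (Mt ⧸ LinearMap.range (LinearMap.lsmul R Mt x)) ≤
      s * Module.length R (R ⧸ Ideal.span {x}) := by
  classical
  let F' : Submodule R Mt := Submodule.span R (Set.range b')
  let xF : Submodule R Mt := F'.map (LinearMap.lsmul R Mt x)
  let N := Mt ⧸ xF
  let π : Mt →ₗ[R] N := xF.mkQ
  let φ : N →ₗ[R] N := LinearMap.lsmul R N x
  -- (i) the range of `φ` has finite length
  have hMF : Module.length R (Mt ⧸ F') ≠ ⊤ := by
    obtain ⟨k, c, hc⟩ := Module.Finite.exists_fin (R := R) (M := Mt)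
    have h1 := length_le_of_span_of_smul_eq_zero (Q := Mt ⧸ F') y (fun i => F'.mkQ (c i)) ?_ ?_
    · intro htop
      rw [htop, top_le_iff] at h1
      exact (WithTop.mul_ne_top (ENat.natCast_ne_top k) hy) h1
    · have : Set.range (fun i => F'.mkQ (c i)) = F'.mkQ '' Set.range c := by
        rw [← Set.range_comp]; rfl
      rw [this, ← Submodule.map_span, hc, Submodule.map_top, Submodule.range_mkQ]
    · intro q
      obtain ⟨m, rfl⟩ := F'.mkQ_surjective q
      rw [← map_smul, Submodule.mkQ_apply, Submodule.Quotient.mk_eq_zero]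
      exact hyb m
  have hrange : Module.length R (LinearMap.range φ) ≠ ⊤ := by
    -- `range φ` is a quotient of `Mt ⧸ F'`
    let ρ : Mt →ₗ[R] N := φ.comp π
    have hρ : F' ≤ LinearMap.ker ρ := by
      intro f hf
      rw [LinearMap.mem_ker]
      change x • π f = 0
      rw [← map_smul, Submodule.mkQ_apply, Submodule.Quotient.mk_eq_zero]
      exact ⟨f, hf, rfl⟩
    let ρbar : (Mt ⧸ F') →ₗ[R] N := F'.liftQ ρ hρ
    have hρr : LinearMap.range ρbar = LinearMap.range φ := by
      rw [Submodule.range_liftQ, LinearMap.range_comp, Submodule.range_mkQ, Submodule.map_top]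
    have h2 := Module.length_le_of_surjective ρbar.rangeRestrict ρbar.surjective_rangeRestrict
    rw [hρr] at h2
    exact fun htop => hMF (top_le_iff.mp (htop ▸ h2))
  have hkc := length_ker_eq_length_coker φ hrange
  -- (ii) the kernel of `φ` is contained in the image of `F'`
  let b'' : Fin s → N := fun i => π (b' i)
  have hker : LinearMap.ker φ ≤ Submodule.span R (Set.range b'') := by
    intro n hn
    obtain ⟨m, rfl⟩ := xF.mkQ_surjective n
    rw [LinearMap.mem_ker] at hn
    change x • π m = 0 at hn
    rw [← map_smul, Submodule.mkQ_apply, Submodule.Quotient.mk_eq_zero] at hn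
    obtain ⟨f, hf, hfm⟩ := hn
    have hfm' : x • (f - m) = 0 := by
      rw [smul_sub, sub_eq_zero]; exact hfm
    have : m = f := (sub_eq_zero.mp (hx _ hfm')).symm
    have hrb : Set.range b'' = π '' Set.range b' := by
      rw [← Set.range_comp]; rfl
    rw [hrb, ← Submodule.map_span]
    exact ⟨f, hf, by rw [this]⟩
  have hkerlen : Module.length R (LinearMap.ker φ) ≤ s * Module.length R (R ⧸ Ideal.span {x}) := by
    refine (Module.length_le_of_injective (Submodule.inclusion hker)
      (Submodule.inclusion_injective hker)).trans ?_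
    refine length_span_le_of_smul_eq_zero x b'' ?_
    intro i
    change x • π (b' i) = 0
    rw [← map_smul, Submodule.mkQ_apply, Submodule.Quotient.mk_eq_zero]
    exact ⟨b' i, Submodule.subset_span ⟨i, rfl⟩, rfl⟩
  -- (iii) `Mt/xMt` is a quotient of `N/φ(N)`
  let xM : Submodule R Mt := LinearMap.range (LinearMap.lsmul R Mt x)
  have hxF : xF ≤ LinearMap.ker xM.mkQ := by
    rintro _ ⟨f, -, rfl⟩
    rw [LinearMap.mem_ker, Submodule.mkQ_apply, Submodule.Quotient.mk_eq_zero]
    exact ⟨f, rfl⟩
  let σ : N →ₗ[R] (Mt ⧸ xM) := xF.liftQ xM.mkQ hxF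
  have hσ : LinearMap.range φ ≤ LinearMap.ker σ := by
    rintro _ ⟨n, rfl⟩
    obtain ⟨m, rfl⟩ := xF.mkQ_surjective n
    rw [LinearMap.mem_ker]
    change σ (x • xF.mkQ m) = 0
    rw [map_smul]
    change x • xM.mkQ m = 0
    rw [← map_smul, Submodule.mkQ_apply, Submodule.Quotient.mk_eq_zero]
    exact ⟨m, rfl⟩
  let σbar : (N ⧸ LinearMap.range φ) →ₗ[R] (Mt ⧸ xM) := (LinearMap.range φ).liftQ σ hσ
  have hσbar : Function.Surjective σbar := by
    intro q
    obtain ⟨m, rfl⟩ := xM.mkQ_surjective q
    exact ⟨(LinearMap.range φ).mkQ (xF.mkQ m), rfl⟩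
  calc Module.length R (Mt ⧸ xM) ≤ Module.length R (N ⧸ LinearMap.range φ) :=
        Module.length_le_of_surjective σbar hσbar
    _ = Module.length R (LinearMap.ker φ) := hkc.symm
    _ ≤ _ := hkerlen

end Groth.Agent.Lib.Helper21.KA
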