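import Groth.Agent.Lib.Helper21.KA9
import Mathlib.RingTheory.DedekindDomain.AdicValuation

/-!
# Simultaneous avoidance of finitely many discrete valuation rings

`A` a subring of a field `K` and finitely many `ℤᵐ⁰`-valued valuations `w j` of `K`, none of whose
valuation rings contains `A`. Then some `x ∈ A` has `1 < w j x` for all `j`.
-/

set_option autoImplicit false
universe u
open scoped WithZero

namespace Groth.Agent.Lib.Helper21.KA

theorem exists_forall_lt_pow (γ δ : ℤᵐ⁰) (hγ : 1 < γ) : ∃ N : ℕ, ∀ n, N ≤ n → δ < γ ^ n := by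
  obtain ⟨n, hn⟩ := MulArchimedean.arch δ hγ
  refine ⟨n + 1, fun m hm => ?_⟩
  calc δ ≤ γ ^ n := hn
    _ < γ ^ (n + 1) := pow_lt_pow_right₀ hγ (Nat.lt_succ_self n)
    _ ≤ γ ^ m := pow_le_pow_right₀ hγ.le hm

theorem exists_forall_one_lt_valuation {K : Type*} [Field K] (A : Subring K) {ι : Type*}
    (s : Finset ι) (w : ι → Valuation K ℤᵐ⁰) (h : ∀ j ∈ s, ∃ a ∈ A, 1 < w j a) :
    ∃ x ∈ A, x ≠ 0 ∧ ∀ j ∈ s, 1 < w j x := by
  classical
  induction s using Finset.induction_on with
  | empty => exact ⟨1, A.one_mem, one_ne_zero, by simp⟩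
  | insert n s' hn ih =>
    obtain ⟨x, hxA, hx0, hx⟩ := ih (fun j hj => h j (Finset.mem_insert_of_mem hj))
    obtain ⟨a, haA, ha⟩ := h n (Finset.mem_insert_self n s')
    by_cases hxn : 1 < w n x
    · refine ⟨x, hxA, hx0, ?_⟩
      intro j hj
      rcases Finset.mem_insert.mp hj with rfl | hj'
      · exact hxn
      · exact hx j hj'
    · have hxn' : w n x ≤ 1 := not_lt.mp hxn
      have hN : ∀ j : s', ∃ N : ℕ, ∀ m, N ≤ m → w j a < (w j x) ^ m := fun j =>
        exists_forall_lt_pow (w j x) (w j a) (hx j j.2)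
      choose Nf hNf using hN
      let N : ℕ := (Finset.univ.sup Nf) + 1
      have hNle : ∀ j : s', Nf j ≤ N := fun j =>
        (Finset.le_sup (f := Nf) (Finset.mem_univ j)).trans (Nat.le_succ _)
      have hN0 : N ≠ 0 := Nat.succ_ne_zero _
      let x' : K := x ^ N + a
      have hx'n : w n x' = w n a := by
        apply Valuation.map_add_eq_of_lt_right
        rw [map_pow]
        exact lt_of_le_of_lt (pow_le_one₀ zero_le' hxn') ha
      have hx'j : ∀ j ∈ s', w j x' = (w j x) ^ N := by
        intro j hj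
        have h1 : w j a < w j (x ^ N) := by
          rw [map_pow]
          exact hNf ⟨j, hj⟩ N (hNle ⟨j, hj⟩)
        rw [← map_pow]
        exact Valuation.map_add_eq_of_lt_left _ h1
      refine ⟨x', A.add_mem (A.pow_mem hxA N) haA, ?_, ?_⟩
      · intro h0
        rw [h0, map_zero] at hx'n
        rw [← hx'n] at ha
        exact absurd ha (not_lt.mpr zero_le')
      · intro j hj
        rcases Finset.mem_insert.mp hj with rfl | hj'
        · rw [hx'n]; exact ha
        · rw [hx'j j hj']
          exact one_lt_pow₀ (hx j hj') hN0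

end Groth.Agent.Lib.Helper21.KA
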