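import Groth.Agent.Lib.Helper21.KA1
import Mathlib.RingTheory.Localization.FractionRing
import Mathlib.LinearAlgebra.Dimension.Finite
import Mathlib.LinearAlgebra.LinearIndependent.Lemmas
import Mathlib.Order.KrullDimension

/-!
# Krull–Akizuki, part 2: the length inequality `ℓ(M/xM) ≤ r · ℓ(R/xR)`
for torsion-free modules of rank `≤ r` (Stacks 00PF, without the local hypothesis).
-/

set_option autoImplicit false
universe u

namespace Groth.Agent.Lib.Helper21.KA

variable {R : Type*} [CommRing R]

/-- If every finitely generated submodule has length `≤ n`, so does the module. -/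
theorem length_le_of_forall_fg {P : Type*} [AddCommGroup P] [Module R P] (n : ℕ∞)
    (h : ∀ P' : Submodule R P, P'.FG → Module.length R P' ≤ n) : Module.length R P ≤ n := by
  classical
  by_contra hcon
  rw [not_le] at hcon
  obtain ⟨k, rfl⟩ := ENat.ne_top_iff_exists.mp (ne_top_of_lt hcon)
  have h1 : ((k + 1 : ℕ) : WithBot ℕ∞) ≤ Order.krullDim (Submodule R P) := by
    rw [← Module.coe_length]
    have : ((k + 1 : ℕ) : ℕ∞) ≤ Module.length R P := by
      rw [Nat.cast_add, Nat.cast_one]
      exact Order.add_one_le_of_lt hcon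
    exact_mod_cast this
  obtain ⟨l, hl⟩ := Order.le_krullDim_iff.mp h1
  have hex : ∀ i : Fin l.length, ∃ p : P, p ∈ l i.succ ∧ p ∉ l i.castSucc := fun i =>
    SetLike.exists_of_lt (l.strictMono (Fin.castSucc_lt_succ))
  choose p hp1 hp2 using hex
  let P' : Submodule R P := Submodule.span R (Set.range p)
  have hP' : P'.FG := Submodule.fg_span (Set.finite_range p)
  let l' : LTSeries (Submodule R P') :=
    LTSeries.mk l.length (fun j => (l j).comap P'.subtype) (by
      rw [Fin.strictMono_iff_lt_succ]
      intro i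
      refine lt_of_le_of_ne (Submodule.comap_mono (l.strictMono (Fin.castSucc_lt_succ)).le) ?_
      intro heq
      have hmem : (⟨p i, Submodule.subset_span ⟨i, rfl⟩⟩ : P') ∈
          (l i.succ).comap P'.subtype := hp1 i
      rw [← heq] at hmem
      exact hp2 i hmem)
  have h2 : ((k + 1 : ℕ) : WithBot ℕ∞) ≤ Order.krullDim (Submodule R P') :=
    Order.le_krullDim_iff.mpr ⟨l', hl⟩
  rw [← Module.coe_length] at h2
  have h3 : ((k + 1 : ℕ) : ℕ∞) ≤ Module.length R P' := by exact_mod_cast h2
  have h4 := h3.trans (h P' hP')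
  rw [Nat.cast_add, Nat.cast_one] at h4
  exact absurd h4 (not_le.mpr (ENat.lt_add_one_iff (ENat.natCast_ne_top k) |>.mpr le_rfl))

section VectorSpace

variable [IsDomain R] {K : Type*} [Field K] [Algebra R K] [IsFractionRing R K]
  {V : Type*} [AddCommGroup V] [Module K V] [Module R V] [IsScalarTower R K V]

omit [IsDomain R] [IsFractionRing R K] in
theorem smul_eq_zero_of_injective [FaithfulSMul R K] {Mt : Type*} [AddCommGroup Mt]
    [Module R Mt]
    (j : Mt →ₗ[R] V) (hj : Function.Injective j) (x : R) (hx : x ≠ 0) (m : Mt)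
    (h : x • m = 0) : m = 0 := by
  apply hj
  rw [map_zero]
  have h1 : x • j m = 0 := by rw [← map_smul, h, map_zero]
  rw [← algebraMap_smul K x (j m), smul_eq_zero] at h1
  rcases h1 with h1 | h1
  · exact absurd ((FaithfulSMul.algebraMap_eq_zero_iff R K).mp h1) hx
  · exact h1

/-- Clearing denominators: a `K`-combination of a set becomes an `R`-combination after
multiplying by a nonzero element of `R`. -/
theorem exists_smul_mem_span (b : Set V) (v : V) (hv : v ∈ Submodule.span K b) :
    ∃ y : R, y ≠ 0 ∧ y • v ∈ Submodule.span R b := by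
  induction hv using Submodule.span_induction with
  | mem v h => exact ⟨1, one_ne_zero, by rw [one_smul]; exact Submodule.subset_span h⟩
  | zero => exact ⟨1, one_ne_zero, by rw [smul_zero]; exact Submodule.zero_mem _⟩
  | add u v _ _ ihu ihv =>
    obtain ⟨y₁, hy₁, h₁⟩ := ihu
    obtain ⟨y₂, hy₂, h₂⟩ := ihv
    refine ⟨y₁ * y₂, mul_ne_zero hy₁ hy₂, ?_⟩
    rw [smul_add]
    refine Submodule.add_mem _ ?_ ?_
    · rw [mul_comm, mul_smul]; exact Submodule.smul_mem _ _ h₁
    · rw [mul_smul]; exact Submodule.smul_mem _ _ h₂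
  | smul c v _ ihv =>
    obtain ⟨y, hy, h⟩ := ihv
    obtain ⟨a, d, rfl⟩ := IsLocalization.exists_mk'_eq (nonZeroDivisors R) c
    refine ⟨d * y, mul_ne_zero (nonZeroDivisors.ne_zero d.2) hy, ?_⟩
    have h1 : ((d : R) * y) • (IsLocalization.mk' K a d • v) = a • (y • v) := by
      rw [mul_comm, mul_smul, ← algebraMap_smul K (d : R) (IsLocalization.mk' K a d • v),
        ← mul_smul, IsLocalization.mk'_spec', algebraMap_smul, smul_comm]
    rw [h1]
    exact Submodule.smul_mem _ _ h

variable [Module.Finite K V]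

/-- Finitely generated case of the Krull–Akizuki length inequality. -/
theorem length_quotient_smul_le_of_finite
    (hfl : ∀ y : R, y ≠ 0 → Module.length R (R ⧸ Ideal.span {y}) ≠ ⊤)
    {Mt : Type*} [AddCommGroup Mt] [Module R Mt] [Module.Finite R Mt]
    (j : Mt →ₗ[R] V) (hj : Function.Injective j) (x : R) (hx : x ≠ 0) :
    Module.length R (Mt ⧸ LinearMap.range (LinearMap.lsmul R Mt x)) ≤
      Module.finrank K V * Module.length R (R ⧸ Ideal.span {x}) := by
  classical
  obtain ⟨b, hbM, hbspan, hbli⟩ := exists_linearIndependent K (Set.range j)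
  have hbfin : b.Finite := hbli.setFinite
  have : Fintype b := hbfin.fintype
  let s := Fintype.card b
  have hs : s ≤ Module.finrank K V := hbli.fintype_card_le_finrank
  let e : Fin s ≃ b := (Fintype.equivFin b).symm
  have hpre : ∀ i : Fin s, ∃ m : Mt, j m = (e i : V) := fun i => hbM (e i).2
  choose b' hb' using hpre
  have hrange : j '' Set.range b' = b := by
    ext v
    constructor
    · rintro ⟨_, ⟨i, rfl⟩, rfl⟩
      rw [hb']; exact (e i).2
    · intro hv
      refine ⟨b' (e.symm ⟨v, hv⟩), ⟨_, rfl⟩, ?_⟩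
      rw [hb', Equiv.apply_symm_apply]
  -- pointwise denominators
  have hpt : ∀ m : Mt, ∃ y : R, y ≠ 0 ∧ y • m ∈ Submodule.span R (Set.range b') := by
    intro m
    have hm : j m ∈ Submodule.span K b := by
      rw [hbspan]; exact Submodule.subset_span ⟨m, rfl⟩
    obtain ⟨y, hy, hym⟩ := exists_smul_mem_span (R := R) b (j m) hm
    refine ⟨y, hy, ?_⟩
    rw [← hrange, ← Submodule.map_span] at hym
    obtain ⟨f, hf, hfm⟩ := hym
    rw [← map_smul] at hfm
    rw [← hj hfm]; exact hf
  -- uniform denominator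
  obtain ⟨k, c, hc⟩ := Module.Finite.exists_fin (R := R) (M := Mt)
  choose yc hyc0 hyc using fun i => hpt (c i)
  let y : R := ∏ i, yc i
  have hy0 : y ≠ 0 := Finset.prod_ne_zero_iff.mpr fun i _ => hyc0 i
  have hyall : ∀ m : Mt, y • m ∈ Submodule.span R (Set.range b') := by
    intro m
    have hm : m ∈ Submodule.span R (Set.range c) := by rw [hc]; exact Submodule.mem_top
    induction hm using Submodule.span_induction with
    | mem m h =>
      obtain ⟨i, rfl⟩ := h
      have : y = (∏ i' ∈ Finset.univ.erase i, yc i') * yc i :=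
        (Finset.prod_erase_mul _ _ (Finset.mem_univ i)).symm
      rw [this, mul_smul]
      exact Submodule.smul_mem _ _ (hyc i)
    | zero => rw [smul_zero]; exact Submodule.zero_mem _
    | add m₁ m₂ _ _ ih₁ ih₂ => rw [smul_add]; exact Submodule.add_mem _ ih₁ ih₂
    | smul a m₁ _ ih₁ => rw [smul_comm]; exact Submodule.smul_mem _ _ ih₁
  have htf : ∀ m : Mt, x • m = 0 → m = 0 := smul_eq_zero_of_injective (K := K) j hj x hx
  refine (length_quotient_smul_le_of_fg x y htf (hfl y hy0) b' hyall).trans ?_
  exact mul_le_mul_left (by exact_mod_cast hs) _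

/-- **Krull–Akizuki length inequality** (Stacks 00PF, no local hypothesis): for an `R`-module
`Mt` embedded in a finite dimensional `K`-vector space `V`, `ℓ(Mt/xMt) ≤ dim V · ℓ(R/xR)`. -/
theorem length_quotient_smul_le
    (hfl : ∀ y : R, y ≠ 0 → Module.length R (R ⧸ Ideal.span {y}) ≠ ⊤)
    {Mt : Type*} [AddCommGroup Mt] [Module R Mt]
    (j : Mt →ₗ[R] V) (hj : Function.Injective j) (x : R) (hx : x ≠ 0) :
    Module.length R (Mt ⧸ LinearMap.range (LinearMap.lsmul R Mt x)) ≤
      Module.finrank K V * Module.length R (R ⧸ Ideal.span {x}) := by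
  classical
  apply length_le_of_forall_fg
  intro P' hP'
  let xM : Submodule R Mt := LinearMap.range (LinearMap.lsmul R Mt x)
  obtain ⟨t', ht'⟩ := hP'
  let lift : (Mt ⧸ xM) → Mt := Function.surjInv xM.mkQ_surjective
  have hlift : ∀ q, xM.mkQ (lift q) = q := Function.surjInv_eq xM.mkQ_surjective
  let T : Finset Mt := t'.image lift
  let M'' : Submodule R Mt := Submodule.span R (T : Set Mt)
  have hfin : Module.Finite R M'' := Module.Finite.iff_fg.mpr (Submodule.fg_span T.finite_toSet)
  let τ : M'' →ₗ[R] (Mt ⧸ xM) := xM.mkQ.comp M''.subtype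
  have hτrange : LinearMap.range τ = P' := by
    rw [LinearMap.range_comp, Submodule.range_subtype, Submodule.map_span, ← ht']
    congr 1
    ext q
    simp only [T, Finset.coe_image, Set.mem_image, Finset.mem_coe]
    constructor
    · rintro ⟨_, ⟨q', hq', rfl⟩, rfl⟩
      rw [hlift]; exact hq'
    · intro hq
      exact ⟨lift q, ⟨q, hq, rfl⟩, hlift q⟩
  have hτker : LinearMap.range (LinearMap.lsmul R M'' x) ≤ LinearMap.ker τ := by
    rintro _ ⟨m, rfl⟩
    rw [LinearMap.mem_ker]
    change τ (x • m) = 0
    rw [map_smul]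
    change x • xM.mkQ (m : Mt) = 0
    rw [← map_smul, Submodule.mkQ_apply, Submodule.Quotient.mk_eq_zero]
    exact ⟨m, rfl⟩
  let τbar := (LinearMap.range (LinearMap.lsmul R M'' x)).liftQ τ hτker
  have hτbar : LinearMap.range τbar = P' := by
    rw [Submodule.range_liftQ, hτrange]
  have h1 := Module.length_le_of_surjective τbar.rangeRestrict τbar.surjective_rangeRestrict
  rw [hτbar] at h1
  refine h1.trans ?_
  exact length_quotient_smul_le_of_finite (K := K) hfl (j.comp M''.subtype)
    (hj.comp (Submodule.subtype_injective _)) x hx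

end VectorSpace

end Groth.Agent.Lib.Helper21.KA
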