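import Groth.Agent.Lib.Helper21.KA2
import Mathlib.RingTheory.HopkinsLevitzki
import Mathlib.RingTheory.KrullDimension.Basic
import Mathlib.RingTheory.Ideal.Quotient.Operations
import Mathlib.RingTheory.Ideal.Quotient.Noetherian

/-!
# Krull–Akizuki, part 3: one-dimensional Noetherian domains
-/

set_option autoImplicit false
universe u

namespace Groth.Agent.Lib.Helper21.KA

variable {R : Type*} [CommRing R] [IsDomain R] [IsNoetherianRing R]

/-- In a Noetherian domain of dimension `≤ 1`, `R/yR` has finite length for `y ≠ 0`. -/
theorem length_quotient_span_singleton_ne_top [Ring.KrullDimLE 1 R] (y : R) (hy : y ≠ 0) :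
    Module.length R (R ⧸ Ideal.span {y}) ≠ ⊤ := by
  let I : Ideal R := Ideal.span {y}
  have hdim0 : Ring.KrullDimLE 0 (R ⧸ I) := by
    rw [Ring.krullDimLE_zero_iff]
    intro P hP
    have hcomap : (P.comap (Ideal.Quotient.mk I)).IsPrime := Ideal.comap_isPrime _ _
    have hne : P.comap (Ideal.Quotient.mk I) ≠ ⊥ := by
      intro h0
      have : y ∈ P.comap (Ideal.Quotient.mk I) := by
        rw [Ideal.mem_comap]
        have : Ideal.Quotient.mk I y = 0 :=
          Ideal.Quotient.eq_zero_iff_mem.mpr (Ideal.mem_span_singleton_self y)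
        rw [this]; exact zero_mem _
      rw [h0] at this
      exact hy this
    have hmax : (P.comap (Ideal.Quotient.mk I)).IsMaximal := hcomap.isMaximal_of_ne_bot hne
    have := Ideal.map_eq_top_or_isMaximal_of_surjective (Ideal.Quotient.mk I)
      Ideal.Quotient.mk_surjective hmax
    rw [Ideal.map_comap_of_surjective _ Ideal.Quotient.mk_surjective] at this
    rcases this with h | h
    · exact absurd h hP.ne_top
    · exact h
  have hart : IsArtinianRing (R ⧸ I) := isArtinianRing_iff_krullDimLE_zero.mpr hdim0
  rw [Module.length_eq_of_surjective (S := R) (R := R ⧸ I) (M := R ⧸ I)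
    Ideal.Quotient.mk_surjective]
  exact Module.length_ne_top

end Groth.Agent.Lib.Helper21.KA
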