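import Groth.Agent.Lib.Helper21.KA4
import Mathlib.RingTheory.DedekindDomain.Dvr
import Mathlib.RingTheory.IntegralClosure.IntegrallyClosed
import Mathlib.RingTheory.Ideal.GoingUp

/-!
# A DVR dominating a one-dimensional Noetherian local domain (via Krull–Akizuki)
-/

set_option autoImplicit false
universe u

namespace Groth.Agent.Lib.Helper21.KA

/-- A one-dimensional Noetherian local domain is dominated by a DVR with the same fraction
field. -/
theorem exists_dvr_dominating_of_krullDimLE_one (R' : Type u) [CommRing R'] [IsDomain R']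
    [IsNoetherianRing R'] [IsLocalRing R'] [Ring.KrullDimLE 1 R'] (hR' : ¬ IsField R')
    (K : Type u) [Field K] [Algebra R' K] [IsFractionRing R' K] :
    ∃ (R : Type u) (_ : CommRing R) (_ : IsDomain R) (_ : IsDiscreteValuationRing R)
      (_ : Algebra R' R) (_ : Algebra R K) (_ : IsScalarTower R' R K),
      IsFractionRing R K ∧ IsLocalHom (algebraMap R' R) := by
  classical
  let A' : Subalgebra R' K := integralClosure R' K
  have hinj : Function.Injective (algebraMap A' K) := Subtype.val_injective
  have hN : IsNoetherianRing A' := isNoetherianRing_of_injective R' K K A' hinj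
  have hD : Ring.KrullDimLE 1 A' := krullDimLE_one_of_injective R' K K A' hinj
  have hIC : IsIntegrallyClosed A' := integralClosure.isIntegrallyClosedOfFiniteExtension K
  have hFr : IsFractionRing A' K := integralClosure.isFractionRing_of_finite_extension K K
  have hDed : IsDedekindDomain A' := (isDedekindDomain_iff (A := A') K).mpr
    ⟨inferInstance, hN, ⟨fun hp hpp =>
      (Ring.krullDimLE_one_iff_of_noZeroDivisors.mp hD) _ hp hpp⟩,
      fun hx => (isIntegrallyClosed_iff K).mp hIC hx⟩
  have hint : Algebra.IsIntegral R' A' := inferInstance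
  have hinjRA : Function.Injective (algebraMap R' A') := by
    intro a b hab
    apply IsFractionRing.injective R' K
    have := congrArg (algebraMap A' K) hab
    rwa [← IsScalarTower.algebraMap_apply, ← IsScalarTower.algebraMap_apply] at this
  have hA'nf : ¬ IsField A' := fun h => hR' (isField_of_isIntegral_of_isField hinjRA h)
  obtain ⟨𝔫, h𝔫⟩ := Ideal.exists_maximal A'
  have h𝔫0 : 𝔫 ≠ ⊥ := Ring.ne_bot_of_isMaximal_of_not_isField h𝔫 hA'nf
  have h𝔫p : 𝔫.IsPrime := h𝔫.isPrime
  let R := Localization.AtPrime 𝔫
  have hRdom : IsDomain R :=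
    IsLocalization.isDomain_localization 𝔫.primeCompl_le_nonZeroDivisors
  have hDVR : IsDiscreteValuationRing R :=
    IsLocalization.AtPrime.isDiscreteValuationRing_of_dedekind_domain A' h𝔫0 R
  have hunits : ∀ y : 𝔫.primeCompl, IsUnit (algebraMap A' K y) := by
    intro y
    refine IsUnit.mk0 _ ?_
    rw [Ne, FaithfulSMul.algebraMap_eq_zero_iff]
    intro h0
    exact y.2 (h0 ▸ zero_mem 𝔫)
  let algRK : Algebra R K :=
    (IsLocalization.lift (M := 𝔫.primeCompl) (S := R) hunits).toAlgebra
  have towA'RK : IsScalarTower A' R K := IsScalarTower.of_algebraMap_eq fun t =>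
    (IsLocalization.lift_eq (M := 𝔫.primeCompl) (S := R) hunits t).symm
  have towR'RK : IsScalarTower R' R K := IsScalarTower.of_algebraMap_eq fun t => by
    rw [IsScalarTower.algebraMap_apply R' A' R, ← IsScalarTower.algebraMap_apply A' R K,
      ← IsScalarTower.algebraMap_apply R' A' K]
  refine ⟨R, inferInstance, hRdom, hDVR, inferInstance, algRK, towR'RK, ?_, ?_⟩
  · exact IsFractionRing.isFractionRing_of_isDomain_of_isLocalization 𝔫.primeCompl R K
  · constructor
    intro a ha
    by_contra hna
    have ham : a ∈ IsLocalRing.maximalIdeal R' := (IsLocalRing.mem_maximalIdeal a).mpr hna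
    have hmax : (𝔫.comap (algebraMap R' A')).IsMaximal :=
      Ideal.isMaximal_comap_of_isIntegral_of_isMaximal 𝔫
    have heq : 𝔫.comap (algebraMap R' A') = IsLocalRing.maximalIdeal R' :=
      IsLocalRing.eq_maximalIdeal hmax
    have han : algebraMap R' A' a ∈ 𝔫 := by
      rw [← Ideal.mem_comap, heq]; exact ham
    rw [IsScalarTower.algebraMap_apply R' A' R] at ha
    exact ((IsLocalization.AtPrime.isUnit_to_map_iff R 𝔫 _).mp ha) han

end Groth.Agent.Lib.Helper21.KA
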