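import Groth.Agent.Lib.Helper21.KA4
import Mathlib.RingTheory.Jacobson.Ideal
import Mathlib.RingTheory.Artinian.Ring
import Mathlib.RingTheory.Localization.Integer

/-!
# Powers of elements of the Jacobson radical of the normalization (dimension one)

`B` a one-dimensional Noetherian domain with fraction field `K`, `B'` its integral closure.
If `x ∈ B'` lies in every maximal ideal of `B'` and `y ∈ B'`, then `x ^ n * y ∈ B` for some `n`.
-/

set_option autoImplicit false
universe u

namespace Groth.Agent.Lib.Helper21.KA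

theorem exists_forall_pow_mul_mem_range (B : Type u) [CommRing B] [IsDomain B]
    [IsNoetherianRing B]
    [Ring.KrullDimLE 1 B] (K : Type u) [Field K] [Algebra B K] [IsFractionRing B K]
    (x y : K) (hx : IsIntegral B x) (hy : IsIntegral B y)
    (hxJ : ∀ 𝔑 : Ideal (integralClosure B K), 𝔑.IsMaximal →
      (⟨x, hx⟩ : integralClosure B K) ∈ 𝔑) :
    ∃ n : ℕ, ∀ m, n ≤ m → x ^ m * y ∈ (algebraMap B K).range := by
  classical
  let C : Subalgebra B K := Algebra.adjoin B {x, y}
  have hxC : x ∈ C := Algebra.subset_adjoin (Set.mem_insert x {y})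
  have hyC : y ∈ C := Algebra.subset_adjoin (Set.mem_insert_of_mem x rfl)
  have hCfg : C.toSubmodule.FG := by
    refine fg_adjoin_of_finite (Set.toFinite {x, y}) ?_
    rintro z (rfl | rfl)
    · exact hx
    · exact hy
  obtain ⟨gens, hgens⟩ := hCfg
  obtain ⟨d, hd⟩ := IsLocalization.exist_integer_multiples_of_finset (nonZeroDivisors B) gens
  have hd0 : (d : B) ≠ 0 := nonZeroDivisors.ne_zero d.2
  have hdC : ∀ c ∈ C, ∃ b : B, algebraMap B K b = algebraMap B K d * c := by
    intro c hc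
    have hc' : c ∈ Submodule.span B (gens : Set K) := by rw [hgens]; exact hc
    induction hc' using Submodule.span_induction with
    | mem g hg =>
      obtain ⟨b, hb⟩ := hd g hg
      exact ⟨b, by rw [hb, Algebra.smul_def]⟩
    | zero => exact ⟨0, by rw [map_zero, mul_zero]⟩
    | add c₁ c₂ h₁ h₂ ih₁ ih₂ =>
      have h₁' : c₁ ∈ C := by rw [← Subalgebra.mem_toSubmodule, ← hgens]; exact h₁
      have h₂' : c₂ ∈ C := by rw [← Subalgebra.mem_toSubmodule, ← hgens]; exact h₂
      obtain ⟨b₁, hb₁⟩ := ih₁ h₁'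
      obtain ⟨b₂, hb₂⟩ := ih₂ h₂'
      exact ⟨b₁ + b₂, by rw [map_add, hb₁, hb₂, mul_add]⟩
    | smul b' c₁ h₁ ih₁ =>
      have h₁' : c₁ ∈ C := by rw [← Subalgebra.mem_toSubmodule, ← hgens]; exact h₁
      obtain ⟨b₁, hb₁⟩ := ih₁ h₁'
      exact ⟨b' * b₁, by rw [map_mul, hb₁, Algebra.smul_def]; ring⟩
  have hinjC : Function.Injective (algebraMap C K) := Subtype.val_injective
  let J : Ideal C := Ideal.span {algebraMap B C d}
  have hlen := length_quotient_span_algebraMap_ne_top B K K C hinjC d hd0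
  have hfin : IsFiniteLength B (C ⧸ J) := Module.length_ne_top_iff.mp hlen
  have hart : IsArtinian B (C ⧸ J) := (isFiniteLength_iff_isNoetherian_isArtinian.mp hfin).2
  have hartC : IsArtinian C (C ⧸ J) := isArtinian_of_tower B hart
  have hartring : IsArtinianRing (C ⧸ J) :=
    isArtinian_of_tower C (inferInstance : IsArtinian C (C ⧸ J))
  -- `x` lies in the Jacobson radical of `C`
  let B' := integralClosure B K
  have hCB' : C ≤ B' := Algebra.adjoin_le (by
    rintro z (rfl | rfl)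
    · exact hx
    · exact hy)
  let xC : C := ⟨x, hxC⟩
  let yC : C := ⟨y, hyC⟩
  let algCB' : Algebra C B' := (Subalgebra.inclusion hCB').toRingHom.toAlgebra
  have towBCB' : IsScalarTower B C B' := IsScalarTower.of_algebraMap_eq fun _ => rfl
  have hintB' : Algebra.IsIntegral B B' := inferInstance
  have hintCB' : Algebra.IsIntegral C B' := Algebra.IsIntegral.tower_top (R := B)
  have hinjCB' : Function.Injective (algebraMap C B') := Subalgebra.inclusion_injective hCB'
  have hxJC : xC ∈ (⊥ : Ideal C).jacobson := by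
    rw [Ideal.jacobson, Ideal.mem_sInf]
    rintro 𝔫 ⟨-, h𝔫⟩
    have hker : RingHom.ker (algebraMap C B') ≤ 𝔫 := by
      rw [(RingHom.injective_iff_ker_eq_bot _).mp hinjCB']; exact bot_le
    obtain ⟨𝔑, h𝔑max, h𝔑⟩ := Ideal.exists_ideal_over_maximal_of_isIntegral 𝔫 hker
    have h1 := hxJ 𝔑 h𝔑max
    rw [← h𝔑]
    exact h1
  have h1 : xC ∈ J.jacobson := Ideal.jacobson_mono bot_le hxJC
  have h2 : Ideal.Quotient.mk J xC ∈ Ideal.map (Ideal.Quotient.mk J) J.jacobson :=
    Ideal.mem_map_of_mem _ h1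
  rw [Ideal.map_jacobson_of_surjective Ideal.Quotient.mk_surjective (by rw [Ideal.mk_ker]),
    Ideal.map_quotient_self] at h2
  obtain ⟨N, hN⟩ := IsArtinianRing.isNilpotent_jacobson_bot (R := C ⧸ J)
  have h3 : (Ideal.Quotient.mk J xC) ^ N ∈ ((⊥ : Ideal (C ⧸ J)).jacobson) ^ N :=
    Ideal.pow_mem_pow h2 N
  rw [hN, Ideal.zero_eq_bot, Ideal.mem_bot, ← map_pow, Ideal.Quotient.eq_zero_iff_mem] at h3
  refine ⟨N, fun m hm => ?_⟩
  have h4 : xC ^ m ∈ J := by
    obtain ⟨k, rfl⟩ := Nat.exists_eq_add_of_le hm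
    rw [pow_add]
    exact J.mul_mem_right _ h3
  rw [Ideal.mem_span_singleton'] at h4
  obtain ⟨c, hc⟩ := h4
  obtain ⟨b, hb⟩ := hdC ((c * yC : C) : K) (c * yC).2
  refine ⟨b, ?_⟩
  rw [hb]
  have hc' : (c : K) * algebraMap B K d = x ^ m := by
    have := congrArg (Subtype.val : C → K) hc
    simpa using this
  rw [← hc']
  change algebraMap B K d * ((c : K) * y) = (c : K) * algebraMap B K d * y
  ring

theorem exists_pow_mul_mem_range (B : Type u) [CommRing B] [IsDomain B] [IsNoetherianRing B]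
    [Ring.KrullDimLE 1 B] (K : Type u) [Field K] [Algebra B K] [IsFractionRing B K]
    (x y : K) (hx : IsIntegral B x) (hy : IsIntegral B y)
    (hxJ : ∀ 𝔑 : Ideal (integralClosure B K), 𝔑.IsMaximal →
      (⟨x, hx⟩ : integralClosure B K) ∈ 𝔑) :
    ∃ n : ℕ, x ^ n * y ∈ (algebraMap B K).range := by
  obtain ⟨n, hn⟩ := exists_forall_pow_mul_mem_range B K x y hx hy hxJ
  exact ⟨n, hn n le_rfl⟩

end Groth.Agent.Lib.Helper21.KA
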