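import Mathlib
import Groth.Prelude.Def_W4c2quivmodsheafKron

/-!
# Kronecker modules: elementary (semi)stability results
-/

set_option linter.unusedSectionVars false

open KronMod Module

namespace Groth.Agent.Lib.Helper21.Kron

variable {K : Type*} [Field K] {V W : Type*} [AddCommGroup V] [Module K V]
  [AddCommGroup W] [Module K W] {n : ℕ}

/-- The sum map `Vⁿ → W`. -/
def sigma (f : Fin n → (V →ₗ[K] W)) : (Fin n → V) →ₗ[K] W := ∑ j, f j ∘ₗ LinearMap.proj j

lemma sigma_apply (f : Fin n → (V →ₗ[K] W)) (v : Fin n → V) : sigma f v = ∑ j, f j (v j) := by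
  simp [sigma]

lemma coe_sigma (f : Fin n → (V →ₗ[K] W)) :
    (fun v : Fin n → V => ∑ j, f j (v j)) = ⇑(sigma f) := by
  funext v
  rw [sigma_apply]

lemma sigma_single (f : Fin n → (V →ₗ[K] W)) (j : Fin n) (v : V) :
    sigma f (Pi.single j v) = f j v := by
  rw [sigma_apply, Finset.sum_eq_single j]
  · simp
  · intro i _ hi
    simp [Pi.single_eq_of_ne hi]
  · simp

/-- The product map `V → Wⁿ`. -/
def pimap (f : Fin n → (V →ₗ[K] W)) : V →ₗ[K] (Fin n → W) := LinearMap.pi f

lemma pimap_apply (f : Fin n → (V →ₗ[K] W)) (v : V) (j : Fin n) : pimap f v j = f j v := rfl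

lemma coe_pimap (f : Fin n → (V →ₗ[K] W)) :
    (fun v : V => fun j : Fin n => f j v) = ⇑(pimap f) := rfl

lemma isSubrep_top_range_sigma (f : Fin n → (V →ₗ[K] W)) :
    IsSubrep f ⊤ (LinearMap.range (sigma f)) := by
  intro j w hw
  obtain ⟨v, -, rfl⟩ := hw
  exact ⟨Pi.single j v, sigma_single f j v⟩

lemma isSubrep_ker_pimap_bot (f : Fin n → (V →ₗ[K] W)) :
    IsSubrep f (LinearMap.ker (pimap f)) ⊥ := by
  intro j w hw
  obtain ⟨v, hv, rfl⟩ := hw
  rw [Submodule.mem_bot]
  exact congrFun (LinearMap.mem_ker.1 hv) j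

lemma sigma_mem {f : Fin n → (V →ₗ[K] W)} {V' : Submodule K V} {W' : Submodule K W}
    (h : IsSubrep f V' W') (v : Fin n → V) (hv : ∀ j, v j ∈ V') : sigma f v ∈ W' := by
  rw [sigma_apply]
  exact Submodule.sum_mem _ fun j _ => h j ⟨v j, hv j, rfl⟩

variable [FiniteDimensional K V] [FiniteDimensional K W]

lemma finrank_fun (X : Type*) [AddCommGroup X] [Module K X] [FiniteDimensional K X] :
    finrank K (Fin n → X) = n * finrank K X := by
  rw [finrank_pi_fintype]
  simp

lemma mul_finrank_le_of_sigma_injective {f : Fin n → (V →ₗ[K] W)}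
    (hinj : Function.Injective (sigma f)) {V' : Submodule K V} {W' : Submodule K W}
    (h : IsSubrep f V' W') : n * finrank K V' ≤ finrank K W' := by
  let ι : (Fin n → V') →ₗ[K] (Fin n → V) := LinearMap.pi fun j => V'.subtype ∘ₗ LinearMap.proj j
  have hι : Function.Injective ι := by
    intro x y hxy
    funext j
    exact Subtype.ext (congrFun hxy j)
  have h1 : finrank K (LinearMap.range (sigma f ∘ₗ ι)) = finrank K (Fin n → V') :=
    LinearMap.finrank_range_of_inj (hinj.comp hι)
  have h2 : LinearMap.range (sigma f ∘ₗ ι) ≤ W' := by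
    rintro _ ⟨x, rfl⟩
    exact sigma_mem h _ (fun j => (x j).2)
  have h3 := Submodule.finrank_mono h2
  rwa [h1, finrank_fun] at h3

lemma finrank_le_mul_of_pimap_injective {f : Fin n → (V →ₗ[K] W)}
    (hinj : Function.Injective (pimap f)) {V' : Submodule K V} {W' : Submodule K W}
    (h : IsSubrep f V' W') : finrank K V' ≤ n * finrank K W' := by
  let τ : V' →ₗ[K] (Fin n → W') :=
    LinearMap.pi fun j => (f j).restrict (fun x hx => h j ⟨x, hx, rfl⟩)
  have hτ : Function.Injective τ := by
    intro x y hxy
    apply Subtype.ext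
    apply hinj
    funext j
    exact congrArg Subtype.val (congrFun hxy j)
  have := LinearMap.finrank_le_finrank_of_injective hτ
  rwa [finrank_fun] at this

lemma top_ne_bot_of_finrank_pos {X : Type*} [AddCommGroup X] [Module K X]
    (h : 0 < finrank K X) : (⊤ : Submodule K X) ≠ ⊥ := by
  intro h'
  have h1 : finrank K (⊤ : Submodule K X) = 0 := by rw [h', finrank_bot]
  rw [finrank_top] at h1
  omega

lemma sigma_surjective_of_isSemistable {f : Fin n → (V →ₗ[K] W)} (hs : IsSemistable f)
    (hV : 0 < finrank K V) : Function.Surjective (sigma f) := by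
  by_contra hns
  have hne : LinearMap.range (sigma f) ≠ ⊤ := fun h => hns (LinearMap.range_eq_top.1 h)
  have h1 := hs.2 ⊤ (LinearMap.range (sigma f)) (isSubrep_top_range_sigma f)
    (fun h => top_ne_bot_of_finrank_pos hV h.1) (fun h => hne h.2)
  rw [finrank_top] at h1
  have h2 : finrank K (LinearMap.range (sigma f)) ≤ finrank K W := Submodule.finrank_le _
  have h3 : finrank K W ≤ finrank K (LinearMap.range (sigma f)) := by
    rw [mul_comm] at h1
    exact Nat.le_of_mul_le_mul_left h1 hV
  exact hne (Submodule.eq_top_of_finrank_eq (le_antisymm h2 h3))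

lemma pimap_injective_of_isSemistable {f : Fin n → (V →ₗ[K] W)} (hs : IsSemistable f)
    (hW : 0 < finrank K W) : Function.Injective (pimap f) := by
  rw [← LinearMap.ker_eq_bot]
  by_contra hne
  have h1 := hs.2 (LinearMap.ker (pimap f)) ⊥ (isSubrep_ker_pimap_bot f)
    (fun h => hne h.1) (fun h => top_ne_bot_of_finrank_pos hW h.2.symm)
  rw [finrank_bot, mul_zero, Nat.le_zero, mul_eq_zero] at h1
  rcases h1 with h1 | h1
  · omega
  · exact hne (Submodule.finrank_eq_zero.1 h1)

/-- S15560. -/
theorem not_isSemistable_of_dim (f : Fin n → (V →ₗ[K] W))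
    (hV : 0 < finrank K V) (hW : 0 < finrank K W)
    (h : n * finrank K V < finrank K W ∨ n * finrank K W < finrank K V) :
    ¬ IsSemistable f := by
  intro hs
  rcases h with h | h
  · have h1 := sigma_surjective_of_isSemistable hs hV
    have h2 := LinearMap.finrank_range_le (sigma f)
    rw [LinearMap.range_eq_top.2 h1, finrank_top, finrank_fun] at h2
    omega
  · have h1 := pimap_injective_of_isSemistable hs hW
    have h2 := LinearMap.finrank_le_finrank_of_injective h1
    rw [finrank_fun] at h2
    omega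

/-- S15561. -/
theorem isSemistable_iff_sigma_bijective (f : Fin n → (V →ₗ[K] W))
    (hV : 0 < finrank K V) (hW : finrank K W = n * finrank K V) :
    IsSemistable f ↔ Function.Bijective (sigma f) := by
  have hdim : finrank K (Fin n → V) = finrank K W := by rw [finrank_fun, hW]
  constructor
  · intro hs
    have h1 := sigma_surjective_of_isSemistable hs hV
    exact ⟨(LinearMap.injective_iff_surjective_of_finrank_eq_finrank hdim).2 h1, h1⟩
  · intro hb
    refine ⟨by omega, fun V' W' hsub _ _ => ?_⟩
    have h1 := mul_finrank_le_of_sigma_injective hb.1 hsub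
    calc finrank K W * finrank K V' = finrank K V * (n * finrank K V') := by rw [hW]; ring
      _ ≤ finrank K V * finrank K W' := Nat.mul_le_mul_left _ h1

/-- S15572. -/
theorem isSemistable_iff_pimap_bijective (f : Fin n → (V →ₗ[K] W))
    (hW : 0 < finrank K W) (hV : finrank K V = n * finrank K W) :
    IsSemistable f ↔ Function.Bijective (pimap f) := by
  have hdim : finrank K V = finrank K (Fin n → W) := by rw [finrank_fun, hV]
  constructor
  · intro hs
    have h1 := pimap_injective_of_isSemistable hs hW
    exact ⟨h1, (LinearMap.injective_iff_surjective_of_finrank_eq_finrank hdim).1 h1⟩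
  · intro hb
    refine ⟨by omega, fun V' W' hsub _ _ => ?_⟩
    have h1 := finrank_le_mul_of_pimap_injective hb.1 hsub
    calc finrank K W * finrank K V' ≤ finrank K W * (n * finrank K W') :=
          Nat.mul_le_mul_left _ h1
      _ = finrank K V * finrank K W' := by rw [hV]; ring

/-- S15562. -/
theorem exists_unique_sigma (hV : 0 < finrank K V) (hW : finrank K W = n * finrank K V) :
    (∃ f : Fin n → (V →ₗ[K] W), IsSemistable f) ∧
    ∀ f f' : Fin n → (V →ₗ[K] W), IsSemistable f → IsSemistable f' → AreIso f f' := by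
  classical
  constructor
  · have hdim : finrank K (Fin n → V) = finrank K W := by rw [finrank_fun, hW]
    let e : (Fin n → V) ≃ₗ[K] W := LinearEquiv.ofFinrankEq _ _ hdim
    refine ⟨fun j => e.toLinearMap ∘ₗ LinearMap.single K (fun _ => V) j, ?_⟩
    rw [isSemistable_iff_sigma_bijective _ hV hW]
    have : sigma (fun j => e.toLinearMap ∘ₗ LinearMap.single K (fun _ => V) j) = e.toLinearMap := by
      refine LinearMap.ext fun v => ?_
      rw [sigma_apply]
      simp only [LinearMap.comp_apply, LinearEquiv.coe_coe, LinearMap.coe_single]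
      rw [← map_sum, Finset.univ_sum_single]
    rw [this]
    exact e.bijective
  · intro f f' hf hf'
    rw [isSemistable_iff_sigma_bijective _ hV hW] at hf hf'
    let σ := LinearEquiv.ofBijective (sigma f) hf
    let σ' := LinearEquiv.ofBijective (sigma f') hf'
    refine ⟨LinearEquiv.refl K V, σ.symm.trans σ', fun j => ?_⟩
    ext v
    have h1 : σ.symm (f j v) = Pi.single j v := by
      rw [LinearEquiv.symm_apply_eq]
      exact (sigma_single f j v).symm
    simp only [LinearMap.comp_apply, LinearEquiv.coe_coe, LinearEquiv.trans_apply, h1,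
      LinearEquiv.refl_apply]
    exact sigma_single f' j v

/-- S15569. -/
theorem exists_unique_pimap (hW : 0 < finrank K W) (hV : finrank K V = n * finrank K W) :
    (∃ f : Fin n → (V →ₗ[K] W), IsSemistable f) ∧
    ∀ f f' : Fin n → (V →ₗ[K] W), IsSemistable f → IsSemistable f' → AreIso f f' := by
  constructor
  · have hdim : finrank K V = finrank K (Fin n → W) := by rw [finrank_fun, hV]
    let e : V ≃ₗ[K] (Fin n → W) := LinearEquiv.ofFinrankEq _ _ hdim
    refine ⟨fun j => LinearMap.proj j ∘ₗ e.toLinearMap, ?_⟩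
    rw [isSemistable_iff_pimap_bijective _ hW hV]
    have : pimap (fun j => LinearMap.proj j ∘ₗ e.toLinearMap) = e.toLinearMap := by
      ext v j
      rfl
    rw [this]
    exact e.bijective
  · intro f f' hf hf'
    rw [isSemistable_iff_pimap_bijective _ hW hV] at hf hf'
    let π := LinearEquiv.ofBijective (pimap f) hf
    let π' := LinearEquiv.ofBijective (pimap f') hf'
    refine ⟨π.trans π'.symm, LinearEquiv.refl K W, fun j => ?_⟩
    ext v
    simp only [LinearMap.comp_apply, LinearEquiv.coe_coe, LinearEquiv.trans_apply,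
      LinearEquiv.refl_apply]
    have h1 : pimap f' (π'.symm (π v)) = π v := π'.apply_symm_apply (π v)
    have h2 := congrFun h1 j
    rw [pimap_apply] at h2
    rw [h2]
    rfl

/-- S15571. -/
theorem isSemistable_of_bijective_combination (f : Fin n → (V →ₗ[K] W)) (k : ℕ) (hk : 1 ≤ k)
    (hV : finrank K V = k) (hW : finrank K W = k) (z : Fin n → K)
    (hz : Function.Bijective ((∑ j, z j • f j : V →ₗ[K] W) : V → W)) : IsSemistable f := by
  refine ⟨by omega, fun V' W' hsub _ _ => ?_⟩
  rw [hV, hW]
  refine Nat.mul_le_mul_left _ ?_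
  have h1 : V'.map (∑ j, z j • f j : V →ₗ[K] W) ≤ W' := by
    rintro _ ⟨v, hv, rfl⟩
    rw [LinearMap.sum_apply]
    refine Submodule.sum_mem _ fun j _ => ?_
    rw [LinearMap.smul_apply]
    exact Submodule.smul_mem _ _ (hsub j ⟨v, hv, rfl⟩)
  have h2 : finrank K (V'.map (∑ j, z j • f j : V →ₗ[K] W)) = finrank K V' :=
    (LinearEquiv.ofBijective _ hz).finrank_map_eq V'
  rw [← h2]
  exact Submodule.finrank_mono h1

end Groth.Agent.Lib.Helper21.Kron
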