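import Mathlib
import Groth.Agent.Lib.Helper21.Kron

/-!
# Kronecker modules: stability, duality, small dimension vectors
-/

set_option linter.unusedSectionVars false

open KronMod Module

namespace Groth.Agent.Lib.Helper21.Kron

variable {K : Type*} [Field K] {V W : Type*} [AddCommGroup V] [Module K V]
  [AddCommGroup W] [Module K W] {n : ℕ}

lemma isSemistable_of_isStable {f : Fin n → (V →ₗ[K] W)} (h : IsStable f) : IsSemistable f :=
  ⟨h.1, fun V' W' hsub h1 h2 => (h.2 V' W' hsub h1 h2).le⟩

/-- The subrepresentation generated by a vector. -/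
lemma isSubrep_span_singleton (f : Fin n → (V →ₗ[K] W)) (v : V) :
    IsSubrep f (K ∙ v) (Submodule.span K (Set.range fun j => f j v)) := by
  intro j
  rw [Submodule.map_span, Set.image_singleton, Submodule.span_le, Set.singleton_subset_iff]
  exact Submodule.subset_span ⟨j, rfl⟩

variable [FiniteDimensional K V] [FiniteDimensional K W]

/-- S15563. -/
theorem isStable_iff_sigma (f : Fin n → (V →ₗ[K] W))
    (hV : 0 < finrank K V) (hW : finrank K W = n * finrank K V) :
    IsStable f ↔ (IsSemistable f ∧ finrank K V = 1) := by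
  constructor
  · intro hst
    refine ⟨isSemistable_of_isStable hst, ?_⟩
    by_contra hne
    have h2 : 2 ≤ finrank K V := by omega
    obtain ⟨v, hv⟩ := Module.finrank_pos_iff_exists_ne_zero.1 hV
    have h1 := hst.2 _ _ (isSubrep_span_singleton f v)
      (fun h => by
        have : v ∈ (K ∙ v) := Submodule.mem_span_singleton_self v
        rw [h.1, Submodule.mem_bot] at this
        exact hv this)
      (fun h => by
        have := finrank_span_singleton (K := K) hv
        rw [h.1, finrank_top] at this
        omega)
    rw [finrank_span_singleton hv, mul_one] at h1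
    have h3 : finrank K (Submodule.span K (Set.range fun j => f j v)) ≤ n := by
      have := finrank_range_le_card (R := K) (fun j => f j v)
      rw [Fintype.card_fin] at this
      exact this
    have h4 : finrank K V * finrank K (Submodule.span K (Set.range fun j => f j v)) ≤
        finrank K V * n := Nat.mul_le_mul_left _ h3
    rw [hW, mul_comm n] at h1
    omega
  · rintro ⟨hs, h1⟩
    refine ⟨hs.1, fun V' W' hsub hb ht => ?_⟩
    have hsurj := sigma_surjective_of_isSemistable hs hV
    have hV' : finrank K V' ≤ 1 := h1 ▸ Submodule.finrank_le V'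
    rcases Nat.le_one_iff_eq_zero_or_eq_one.1 hV' with h0 | h0
    · have hVb : V' = ⊥ := Submodule.finrank_eq_zero.1 h0
      have hWb : W' ≠ ⊥ := fun h => hb ⟨hVb, h⟩
      have : finrank K W' ≠ 0 := fun h => hWb (Submodule.finrank_eq_zero.1 h)
      rw [h0, h1]
      omega
    · exfalso
      have hVt : V' = ⊤ := Submodule.eq_top_of_finrank_eq (by rw [h0, h1])
      apply ht
      refine ⟨hVt, ?_⟩
      rw [eq_top_iff]
      intro w _
      obtain ⟨v, rfl⟩ := hsurj w
      exact sigma_mem hsub v (fun j => by rw [hVt]; exact Submodule.mem_top)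

/-- S15564. -/
theorem dim_one_one (f : Fin n → (V →ₗ[K] W)) (hV : finrank K V = 1) (hW : finrank K W = 1) :
    (IsSemistable f ↔ f ≠ 0) ∧ (IsStable f ↔ f ≠ 0) := by
  have hss : IsSemistable f → f ≠ 0 := by
    rintro hs rfl
    have h1 := hs.2 ⊤ ⊥ (fun j => by simp)
      (fun h => top_ne_bot_of_finrank_pos (by omega) h.1)
      (fun h => top_ne_bot_of_finrank_pos (K := K) (X := W) (by omega) h.2.symm)
    rw [finrank_top, finrank_bot, hV, hW] at h1
    omega
  have hst : f ≠ 0 → IsStable f := by
    intro hf
    have : ∃ j v, f j v ≠ 0 := by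
      by_contra hcon
      push Not at hcon
      apply hf
      funext j
      ext v
      exact hcon j v
    obtain ⟨j, v, hjv⟩ := this
    refine ⟨by omega, fun V' W' hsub hb ht => ?_⟩
    rw [hV, hW, one_mul, one_mul]
    have hV' : finrank K V' ≤ 1 := hV ▸ Submodule.finrank_le V'
    have hW' : finrank K W' ≤ 1 := hW ▸ Submodule.finrank_le W'
    by_contra hlt
    push Not at hlt
    rcases Nat.le_one_iff_eq_zero_or_eq_one.1 hV' with h0 | h0
    · have hWb : finrank K W' = 0 := by omega
      exact hb ⟨Submodule.finrank_eq_zero.1 h0, Submodule.finrank_eq_zero.1 hWb⟩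
    · have hVt : V' = ⊤ := Submodule.eq_top_of_finrank_eq (by rw [h0, hV])
      rcases Nat.le_one_iff_eq_zero_or_eq_one.1 hW' with h0' | h0'
      · have hWb : W' = ⊥ := Submodule.finrank_eq_zero.1 h0'
        have : f j v ∈ W' := hsub j ⟨v, by rw [hVt]; exact Submodule.mem_top, rfl⟩
        rw [hWb, Submodule.mem_bot] at this
        exact hjv this
      · exact ht ⟨hVt, Submodule.eq_top_of_finrank_eq (by rw [h0', hW])⟩
  exact ⟨⟨hss, fun h => isSemistable_of_isStable (hst h)⟩,
    ⟨fun h => hss (isSemistable_of_isStable h), hst⟩⟩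

/-- S15565. -/
theorem not_isStable_two_arrows [IsAlgClosed K] (f : Fin 2 → (V →ₗ[K] W)) (k : ℕ) (hk : 2 ≤ k)
    (hV : finrank K V = k) (hW : finrank K W = k) : ¬ IsStable f := by
  intro hst
  have key : ∃ (v : V) (w : W), v ≠ 0 ∧ f 0 v ∈ (K ∙ w) ∧ f 1 v ∈ (K ∙ w) := by
    by_cases hinj : Function.Injective (f 1)
    · have hbij : Function.Bijective (f 1) :=
        ⟨hinj, (LinearMap.injective_iff_surjective_of_finrank_eq_finrank (hV.trans hW.symm)).1 hinj⟩
      let e := LinearEquiv.ofBijective (f 1) hbij
      haveI : Nontrivial V := Module.nontrivial_of_finrank_pos (R := K) (by omega)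
      obtain ⟨μ, hμ⟩ := Module.End.exists_eigenvalue (e.symm.toLinearMap ∘ₗ f 0 : Module.End K V)
      obtain ⟨v, hv⟩ := hμ.exists_hasEigenvector
      have h1 : e.symm (f 0 v) = μ • v := hv.apply_eq_smul
      have h2 : f 0 v = μ • f 1 v := by
        have := congrArg e h1
        rw [LinearEquiv.apply_symm_apply, map_smul] at this
        exact this
      refine ⟨v, f 1 v, hv.2, ?_, Submodule.mem_span_singleton_self _⟩
      rw [h2]
      exact Submodule.smul_mem _ _ (Submodule.mem_span_singleton_self _)
    · rw [← LinearMap.ker_eq_bot, Submodule.eq_bot_iff] at hinj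
      push Not at hinj
      obtain ⟨v, hv, hv0⟩ := hinj
      refine ⟨v, f 0 v, hv0, Submodule.mem_span_singleton_self _, ?_⟩
      rw [LinearMap.mem_ker.1 hv]
      exact Submodule.zero_mem _
  obtain ⟨v, w, hv, h0, h1⟩ := key
  have hsub : IsSubrep f (K ∙ v) (K ∙ w) := by
    intro j
    rw [Submodule.map_span, Set.image_singleton, Submodule.span_le, Set.singleton_subset_iff]
    fin_cases j
    · exact h0
    · exact h1
  have h2 := hst.2 _ _ hsub
    (fun h => by
      have : v ∈ (K ∙ v) := Submodule.mem_span_singleton_self v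
      rw [h.1, Submodule.mem_bot] at this
      exact hv this)
    (fun h => by
      have := finrank_span_singleton (K := K) hv
      rw [h.1, finrank_top] at this
      omega)
  rw [finrank_span_singleton hv, mul_one, hV, hW] at h2
  have h3 : finrank K (K ∙ w) ≤ 1 := by
    have := finrank_span_le_card (R := K) ({w} : Set W)
    simpa using this
  have h4 : k * finrank K (K ∙ w) ≤ k * 1 := Nat.mul_le_mul_left _ h3
  omega

end Groth.Agent.Lib.Helper21.Kron
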