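import Mathlib
import Groth.Agent.Lib.Helper21.Kron2

/-!
# Kronecker modules: duality and dimension vector (2, 2)
-/

set_option linter.unusedSectionVars false

open KronMod Module

namespace Groth.Agent.Lib.Helper21.Kron

variable {K : Type*} [Field K] {V W : Type*} [AddCommGroup V] [Module K V]
  [AddCommGroup W] [Module K W] {n : ℕ}

/-- The common shape of (semi)stability. -/
def Cond (r : ℕ → ℕ → Prop) (f : Fin n → (V →ₗ[K] W)) : Prop :=
  0 < finrank K V + finrank K W ∧
  ∀ (V' : Submodule K V) (W' : Submodule K W), IsSubrep f V' W' →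
    ¬ (V' = ⊥ ∧ W' = ⊥) → ¬ (V' = ⊤ ∧ W' = ⊤) →
    r (finrank K W * finrank K V') (finrank K V * finrank K W')

lemma isSemistable_iff_cond (f : Fin n → (V →ₗ[K] W)) :
    IsSemistable f ↔ Cond (fun x y => x ≤ y) f := Iff.rfl

lemma isStable_iff_cond (f : Fin n → (V →ₗ[K] W)) :
    IsStable f ↔ Cond (fun x y => x < y) f := Iff.rfl

/-- The dual Kronecker module. -/
def D (f : Fin n → (V →ₗ[K] W)) : Fin n → (Dual K W →ₗ[K] Dual K V) := fun j => (f j).dualMap

lemma isSubrep_dual {f : Fin n → (V →ₗ[K] W)} {V' : Submodule K V} {W' : Submodule K W}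
    (h : IsSubrep f V' W') : IsSubrep (D f) W'.dualAnnihilator V'.dualAnnihilator := by
  intro j ψ hψ
  obtain ⟨φ, hφ, rfl⟩ := hψ
  rw [Submodule.mem_dualAnnihilator]
  intro v hv
  change (f j).dualMap φ v = 0
  rw [LinearMap.dualMap_apply]
  exact (Submodule.mem_dualAnnihilator φ).1 hφ _ (h j ⟨v, hv, rfl⟩)

lemma isSubrep_of_dual {f : Fin n → (V →ₗ[K] W)} {W'' : Submodule K (Dual K W)}
    {V'' : Submodule K (Dual K V)} (h : IsSubrep (D f) W'' V'') :
    IsSubrep f V''.dualCoannihilator W''.dualCoannihilator := by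
  intro j w hw
  obtain ⟨v, hv, rfl⟩ := hw
  rw [Submodule.mem_dualCoannihilator]
  intro φ hφ
  have h1 : (f j).dualMap φ ∈ V'' := h j ⟨φ, hφ, rfl⟩
  have h2 := (Submodule.mem_dualCoannihilator v).1 hv _ h1
  rwa [LinearMap.dualMap_apply] at h2

variable [FiniteDimensional K V] [FiniteDimensional K W]

theorem cond_dual (r : ℕ → ℕ → Prop)
    (hr : ∀ x y c : ℕ, x ≤ c → y ≤ c → r x y → r (c - y) (c - x)) (f : Fin n → (V →ₗ[K] W)) :
    Cond r f ↔ Cond r (D f) := by
  constructor
  · intro hs
    refine ⟨by rw [Subspace.dual_finrank_eq, Subspace.dual_finrank_eq]; have := hs.1; omega,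
      fun W'' V'' hsub hb ht => ?_⟩
    rw [Subspace.dual_finrank_eq, Subspace.dual_finrank_eq]
    have hv := Subspace.finrank_add_finrank_dualCoannihilator_eq V''
    have hw := Subspace.finrank_add_finrank_dualCoannihilator_eq W''
    have h1 := hs.2 _ _ (isSubrep_of_dual hsub)
      (fun h => by
        apply ht
        have h1 : finrank K V''.dualCoannihilator = 0 := by rw [h.1, finrank_bot]
        have h2 : finrank K W''.dualCoannihilator = 0 := by rw [h.2, finrank_bot]
        exact ⟨Submodule.eq_top_of_finrank_eq (by rw [Subspace.dual_finrank_eq]; omega),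
          Submodule.eq_top_of_finrank_eq (by rw [Subspace.dual_finrank_eq]; omega)⟩)
      (fun h => by
        apply hb
        have h1 : finrank K V''.dualCoannihilator = finrank K V := by rw [h.1, finrank_top]
        have h2 : finrank K W''.dualCoannihilator = finrank K W := by rw [h.2, finrank_top]
        exact ⟨Submodule.finrank_eq_zero.1 (by omega), Submodule.finrank_eq_zero.1 (by omega)⟩)
    have h2 := hr _ _ (finrank K V * finrank K W)
      (by rw [mul_comm (finrank K V)]
          exact Nat.mul_le_mul_left _ (Submodule.finrank_le (V''.dualCoannihilator)))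
      (Nat.mul_le_mul_left _ (Submodule.finrank_le (W''.dualCoannihilator))) h1
    have e1 : finrank K V * finrank K W - finrank K V * finrank K W''.dualCoannihilator =
        finrank K V * finrank K W'' := by
      rw [← hw, Nat.mul_add, Nat.add_sub_cancel]
    have e2 : finrank K V * finrank K W - finrank K W * finrank K V''.dualCoannihilator =
        finrank K W * finrank K V'' := by
      rw [← hv, mul_comm (finrank K V'' + _), Nat.mul_add, Nat.add_sub_cancel]
    rwa [e1, e2] at h2
  · intro hs
    refine ⟨by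
      have := hs.1
      rw [Subspace.dual_finrank_eq, Subspace.dual_finrank_eq] at this
      omega, fun V' W' hsub hb ht => ?_⟩
    have hv := Subspace.finrank_add_finrank_dualAnnihilator_eq V'
    have hw := Subspace.finrank_add_finrank_dualAnnihilator_eq W'
    have h1 := hs.2 _ _ (isSubrep_dual hsub)
      (fun h => by
        apply ht
        have h1 : finrank K V'.dualAnnihilator = 0 := by rw [h.2, finrank_bot]
        have h2 : finrank K W'.dualAnnihilator = 0 := by rw [h.1, finrank_bot]
        exact ⟨Submodule.eq_top_of_finrank_eq (by omega),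
          Submodule.eq_top_of_finrank_eq (by omega)⟩)
      (fun h => by
        apply hb
        have h1 : finrank K V'.dualAnnihilator = finrank K V := by
          rw [h.2, finrank_top, Subspace.dual_finrank_eq]
        have h2 : finrank K W'.dualAnnihilator = finrank K W := by
          rw [h.1, finrank_top, Subspace.dual_finrank_eq]
        exact ⟨Submodule.finrank_eq_zero.1 (by omega), Submodule.finrank_eq_zero.1 (by omega)⟩)
    rw [Subspace.dual_finrank_eq, Subspace.dual_finrank_eq] at h1
    have h2 := hr _ _ (finrank K V * finrank K W)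
      (Nat.mul_le_mul_left _ (by omega))
      (by rw [mul_comm]; exact Nat.mul_le_mul_right _ (by omega)) h1
    have e1 : finrank K V * finrank K W - finrank K W * finrank K V'.dualAnnihilator =
        finrank K W * finrank K V' := by
      rw [← hv, mul_comm (finrank K V' + _), Nat.mul_add, Nat.add_sub_cancel]
    have e2 : finrank K V * finrank K W - finrank K V * finrank K W'.dualAnnihilator =
        finrank K V * finrank K W' := by
      rw [← hw, Nat.mul_add, Nat.add_sub_cancel]
    rwa [e1, e2] at h2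

/-- S15567. -/
theorem dual_iff (f : Fin n → (V →ₗ[K] W)) :
    (IsSemistable f ↔ IsSemistable (fun j => (f j).dualMap)) ∧
    (IsStable f ↔ IsStable (fun j => (f j).dualMap)) :=
  ⟨cond_dual (fun x y => x ≤ y) (fun x y c _ _ h => by omega) f,
    cond_dual (fun x y => x < y) (fun x y c _ _ h => by omega) f⟩

/-- S15570. -/
theorem isStable_iff_pimap (f : Fin n → (V →ₗ[K] W))
    (hW : 0 < finrank K W) (hV : finrank K V = n * finrank K W) :
    IsStable f ↔ (IsSemistable f ∧ finrank K W = 1) := by
  rw [(dual_iff f).2, (dual_iff f).1]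
  have := isStable_iff_sigma (fun j => (f j).dualMap)
    (by rw [Subspace.dual_finrank_eq]; exact hW)
    (by rw [Subspace.dual_finrank_eq, Subspace.dual_finrank_eq]; exact hV)
  rw [this, Subspace.dual_finrank_eq]

lemma injective_add_of_disjoint {f₁ f₂ : V →ₗ[K] W}
    (hk : LinearMap.ker f₁ ⊓ LinearMap.ker f₂ = ⊥)
    (hr : LinearMap.range f₁ ⊓ LinearMap.range f₂ = ⊥) : Function.Injective (f₁ + f₂) := by
  rw [← LinearMap.ker_eq_bot, LinearMap.ker_eq_bot']
  intro v hv
  rw [LinearMap.add_apply] at hv
  have h1 : f₁ v ∈ LinearMap.range f₁ ⊓ LinearMap.range f₂ :=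
    ⟨⟨v, rfl⟩, ⟨-v, by rw [map_neg]; exact (eq_neg_of_add_eq_zero_left hv).symm⟩⟩
  rw [hr, Submodule.mem_bot] at h1
  have h2 : f₂ v = 0 := by simpa [h1] using hv
  have h3 : v ∈ LinearMap.ker f₁ ⊓ LinearMap.ker f₂ := ⟨h1, h2⟩
  rwa [hk, Submodule.mem_bot] at h3

lemma inf_eq_bot_of_finrank_one {X : Type*} [AddCommGroup X] [Module K X] [FiniteDimensional K X]
    {ℓ ℓ' : Submodule K X} (h1 : finrank K ℓ' = 1) (hle : ¬ ℓ' ≤ ℓ) : ℓ ⊓ ℓ' = ⊥ := by
  by_contra h
  have h2 : finrank K (ℓ ⊓ ℓ' : Submodule K X) ≠ 0 := fun h0 => h (Submodule.finrank_eq_zero.1 h0)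
  have h3 : ℓ ⊓ ℓ' = ℓ' := Submodule.eq_of_le_of_finrank_le inf_le_right (by omega)
  exact hle (h3 ▸ inf_le_left)

/-- S15566. -/
theorem exists_bijective_combination_dim_two (f : Fin n → (V →ₗ[K] W))
    (hV : finrank K V = 2) (hW : finrank K W = 2) (hf : IsSemistable f) :
    ∃ z : Fin n → K, Function.Bijective ((∑ j, z j • f j : V →ₗ[K] W) : V → W) := by
  classical
  have hdim : finrank K V = finrank K W := hV.trans hW.symm
  have bij_of_inj : ∀ g : V →ₗ[K] W, Function.Injective g → Function.Bijective g := fun g hg =>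
    ⟨hg, (LinearMap.injective_iff_surjective_of_finrank_eq_finrank hdim).1 hg⟩
  have hsingle : ∀ i, (∑ j, (Pi.single i (1 : K) : Fin n → K) j • f j) = f i := by
    intro i
    rw [Finset.sum_eq_single i]
    · simp
    · intro j _ hj
      simp [Pi.single_eq_of_ne hj]
    · simp
  have hpair : ∀ p q,
      (∑ j, ((Pi.single p (1 : K) + Pi.single q (1 : K) : Fin n → K)) j • f j) = f p + f q := by
    intro p q
    simp only [Pi.add_apply, add_smul, Finset.sum_add_distrib, hsingle]
  by_cases hex : ∃ i, Function.Injective (f i)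
  · obtain ⟨i, hi⟩ := hex
    exact ⟨Pi.single i 1, by rw [hsingle]; exact bij_of_inj _ hi⟩
  push Not at hex
  have hsurj := sigma_surjective_of_isSemistable hf (by omega)
  have hinj := pimap_injective_of_isSemistable hf (by omega)
  have rank1 : ∀ i, f i ≠ 0 → finrank K (LinearMap.ker (f i)) = 1 ∧
      finrank K (LinearMap.range (f i)) = 1 := by
    intro i hi
    have h1 := LinearMap.finrank_range_add_finrank_ker (f i)
    have h2 : finrank K (LinearMap.ker (f i)) ≠ 0 := by
      intro h0
      exact hex i (LinearMap.ker_eq_bot.1 (Submodule.finrank_eq_zero.1 h0))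
    have h3 : finrank K (LinearMap.range (f i)) ≠ 0 := by
      intro h0
      exact hi (LinearMap.range_eq_bot.1 (Submodule.finrank_eq_zero.1 h0))
    omega
  obtain ⟨i, hi⟩ : ∃ i, f i ≠ 0 := by
    by_contra hcon
    push Not at hcon
    obtain ⟨w, hw⟩ := Module.finrank_pos_iff_exists_ne_zero.1 (show 0 < finrank K W by omega)
    obtain ⟨v, rfl⟩ := hsurj w
    apply hw
    rw [sigma_apply]
    exact Finset.sum_eq_zero fun j _ => by rw [hcon j, LinearMap.zero_apply]
  obtain ⟨j, hj⟩ : ∃ j, ¬ LinearMap.range (f j) ≤ LinearMap.range (f i) := by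
    by_contra hcon
    push Not at hcon
    have h1 : LinearMap.range (sigma f) ≤ LinearMap.range (f i) := by
      rintro _ ⟨v, rfl⟩
      rw [sigma_apply]
      exact Submodule.sum_mem _ fun l _ => hcon l ⟨v l, rfl⟩
    rw [LinearMap.range_eq_top.2 hsurj] at h1
    have := Submodule.finrank_mono h1
    rw [finrank_top, (rank1 i hi).2, hW] at this
    omega
  have hj0 : f j ≠ 0 := by
    intro h
    apply hj
    rw [h, LinearMap.range_zero]
    exact bot_le
  have hr12 : LinearMap.range (f i) ⊓ LinearMap.range (f j) = ⊥ :=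
    inf_eq_bot_of_finrank_one (rank1 j hj0).2 hj
  by_cases hk : LinearMap.ker (f i) ⊓ LinearMap.ker (f j) = ⊥
  · exact ⟨Pi.single i 1 + Pi.single j 1, by
      rw [hpair]; exact bij_of_inj _ (injective_add_of_disjoint hk hr12)⟩
  have hkji : LinearMap.ker (f j) ≤ LinearMap.ker (f i) := by
    by_contra h
    exact hk (inf_eq_bot_of_finrank_one (rank1 j hj0).1 h)
  have hkij : LinearMap.ker (f i) ≤ LinearMap.ker (f j) := by
    by_contra h
    exact hk (by rw [inf_comm]; exact inf_eq_bot_of_finrank_one (rank1 i hi).1 h)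
  have hkeq : LinearMap.ker (f j) = LinearMap.ker (f i) := le_antisymm hkji hkij
  obtain ⟨l, hl⟩ : ∃ l, ¬ LinearMap.ker (f i) ≤ LinearMap.ker (f l) := by
    by_contra hcon
    push Not at hcon
    have h1 : LinearMap.ker (f i) ≤ LinearMap.ker (pimap f) := by
      intro v hv
      rw [LinearMap.mem_ker]
      funext l
      exact LinearMap.mem_ker.1 (hcon l hv)
    rw [LinearMap.ker_eq_bot.2 hinj, le_bot_iff] at h1
    have := (rank1 i hi).1
    rw [h1, finrank_bot] at this
    omega
  have hl0 : f l ≠ 0 := by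
    intro h
    apply hl
    rw [h, LinearMap.ker_zero]
    exact le_top
  have hkil : LinearMap.ker (f i) ⊓ LinearMap.ker (f l) = ⊥ := by
    rw [inf_comm]
    exact inf_eq_bot_of_finrank_one (rank1 i hi).1 hl
  have hkjl : LinearMap.ker (f j) ⊓ LinearMap.ker (f l) = ⊥ := by rw [hkeq]; exact hkil
  by_cases h3 : LinearMap.range (f l) ≤ LinearMap.range (f i)
  · have h4 : ¬ LinearMap.range (f l) ≤ LinearMap.range (f j) := by
      intro h5
      have h6 : LinearMap.range (f l) ≤ LinearMap.range (f i) ⊓ LinearMap.range (f j) :=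
        le_inf h3 h5
      rw [hr12, le_bot_iff] at h6
      have := (rank1 l hl0).2
      rw [h6, finrank_bot] at this
      omega
    have hr : LinearMap.range (f j) ⊓ LinearMap.range (f l) = ⊥ :=
      inf_eq_bot_of_finrank_one (rank1 l hl0).2 h4
    exact ⟨Pi.single j 1 + Pi.single l 1, by
      rw [hpair]; exact bij_of_inj _ (injective_add_of_disjoint hkjl hr)⟩
  · have hr : LinearMap.range (f i) ⊓ LinearMap.range (f l) = ⊥ :=
      inf_eq_bot_of_finrank_one (rank1 l hl0).2 h3
    exact ⟨Pi.single i 1 + Pi.single l 1, by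
      rw [hpair]; exact bij_of_inj _ (injective_add_of_disjoint hkil hr)⟩

end Groth.Agent.Lib.Helper21.Kron
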