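import Mathlib
import Groth.Agent.Lib.Helper21.Kron3

/-!
# Kronecker modules with two arrows and dimension vector (k, k)
-/

set_option linter.unusedSectionVars false

open KronMod Module

namespace Groth.Agent.Lib.Helper21.Kron

variable {K : Type*} [Field K] {V W : Type*} [AddCommGroup V] [Module K V]
  [AddCommGroup W] [Module K W] {n : ℕ}

/-- The pencil `f 0 + t f 1`. -/
def G (f : Fin 2 → (V →ₗ[K] W)) (t : K) : V →ₗ[K] W := f 0 + t • f 1

lemma G_apply (f : Fin 2 → (V →ₗ[K] W)) (t : K) (v : V) : G f t v = f 0 v + t • f 1 v := rfl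

/-- The set of parameters with singular member of the pencil. -/
def bad (f : Fin 2 → (V →ₗ[K] W)) : Set K := {t | ¬ Function.Bijective (G f t)}

/-- The sub Kronecker module. -/
def subK (f : Fin n → (V →ₗ[K] W)) {V' : Submodule K V} {W' : Submodule K W}
    (h : IsSubrep f V' W') : Fin n → (V' →ₗ[K] W') :=
  fun j => (f j).restrict (fun x hx => h j ⟨x, hx, rfl⟩)

lemma subK_apply (f : Fin n → (V →ₗ[K] W)) {V' : Submodule K V} {W' : Submodule K W}
    (h : IsSubrep f V' W') (j : Fin n) (x : V') : ((subK f h j x : W') : W) = f j x := rfl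

/-- The quotient Kronecker module. -/
def quoK (f : Fin n → (V →ₗ[K] W)) {V' : Submodule K V} {W' : Submodule K W}
    (h : IsSubrep f V' W') : Fin n → ((V ⧸ V') →ₗ[K] (W ⧸ W')) :=
  fun j => V'.mapQ W' (f j) (fun x hx => h j ⟨x, hx, rfl⟩)

lemma quoK_mk (f : Fin n → (V →ₗ[K] W)) {V' : Submodule K V} {W' : Submodule K W}
    (h : IsSubrep f V' W') (j : Fin n) (x : V) :
    quoK f h j (Submodule.Quotient.mk x) = Submodule.Quotient.mk (f j x) := rfl

variable [FiniteDimensional K V] [FiniteDimensional K W]

lemma finrank_comap_mkQ (V' : Submodule K V) (S : Submodule K (V ⧸ V')) :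
    finrank K (S.comap V'.mkQ) = finrank K V' + finrank K S := by
  let φ : S.comap V'.mkQ →ₗ[K] S := V'.mkQ.restrict (fun x hx => hx)
  have hsurj : Function.Surjective φ := by
    rintro ⟨y, hy⟩
    obtain ⟨x, rfl⟩ := V'.mkQ_surjective y
    exact ⟨⟨x, hy⟩, rfl⟩
  have h1 := LinearMap.finrank_range_add_finrank_ker φ
  rw [LinearMap.range_eq_top.2 hsurj, finrank_top] at h1
  have h2 : (LinearMap.ker φ).map (S.comap V'.mkQ).subtype = V' := by
    ext x
    constructor
    · rintro ⟨y, hy, rfl⟩
      have := congrArg Subtype.val (LinearMap.mem_ker.1 hy)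
      exact (Submodule.Quotient.mk_eq_zero V').1 this
    · intro hx
      have hx0 : V'.mkQ x = 0 := (Submodule.Quotient.mk_eq_zero V').2 hx
      refine ⟨⟨x, ?_⟩, ?_, rfl⟩
      · rw [Submodule.mem_comap, hx0]
        exact Submodule.zero_mem _
      · change _ ∈ LinearMap.ker φ
        rw [LinearMap.mem_ker]
        exact Subtype.ext hx0
  have h3 := Submodule.finrank_map_subtype_eq (S.comap V'.mkQ) (LinearMap.ker φ)
  rw [h2] at h3
  omega

lemma isSemistable_subK {f : Fin n → (V →ₗ[K] W)} (hs : IsSemistable f)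
    (hVW : finrank K V = finrank K W) {V' : Submodule K V} {W' : Submodule K W}
    (h : IsSubrep f V' W') (hm : finrank K V' = finrank K W') (hpos : 0 < finrank K V')
    (hne : V' ≠ ⊤) : IsSemistable (subK f h) := by
  refine ⟨by omega, fun V'' W'' hsub hb ht => ?_⟩
  have hsubA : IsSubrep f (V''.map V'.subtype) (W''.map W'.subtype) := by
    intro j
    rintro _ ⟨_, ⟨y, hy, rfl⟩, rfl⟩
    exact ⟨subK f h j y, hsub j ⟨y, hy, rfl⟩, rfl⟩
  have e1 := Submodule.finrank_map_subtype_eq V' V''
  have e2 := Submodule.finrank_map_subtype_eq W' W''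
  have h1 := hs.2 _ _ hsubA
    (fun hh => by
      apply hb
      have h3 : finrank K V'' = 0 := by rw [← e1, hh.1, finrank_bot]
      have h4 : finrank K W'' = 0 := by rw [← e2, hh.2, finrank_bot]
      exact ⟨Submodule.finrank_eq_zero.1 h3, Submodule.finrank_eq_zero.1 h4⟩)
    (fun hh => by
      apply hne
      rw [eq_top_iff, ← hh.1]
      exact Submodule.map_subtype_le V' V'')
  rw [e1, e2, hVW] at h1
  have hkpos : 0 < finrank K W := by
    have := Submodule.finrank_le V'
    omega
  have h2 : finrank K V'' ≤ finrank K W'' := Nat.le_of_mul_le_mul_left h1 hkpos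
  rw [hm]
  exact Nat.mul_le_mul_left _ h2

lemma isSemistable_quoK {f : Fin n → (V →ₗ[K] W)} (hs : IsSemistable f)
    (hVW : finrank K V = finrank K W) {V' : Submodule K V} {W' : Submodule K W}
    (h : IsSubrep f V' W') (hm : finrank K V' = finrank K W') (hpos : 0 < finrank K V')
    (hlt : finrank K V' < finrank K V) : IsSemistable (quoK f h) := by
  have hqV := Submodule.finrank_quotient_add_finrank V'
  have hqW := Submodule.finrank_quotient_add_finrank W'
  refine ⟨by omega, fun V'' W'' hsub hb ht => ?_⟩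
  have hsubA : IsSubrep f (V''.comap V'.mkQ) (W''.comap W'.mkQ) := by
    intro j
    rintro _ ⟨x, hx, rfl⟩
    rw [Submodule.mem_comap, Submodule.mkQ_apply, ← quoK_mk f h]
    exact hsub j ⟨_, hx, rfl⟩
  have e1 := finrank_comap_mkQ V' V''
  have e2 := finrank_comap_mkQ W' W''
  have h1 := hs.2 _ _ hsubA
    (fun hh => by
      have : finrank K (V''.comap V'.mkQ) = 0 := by rw [hh.1, finrank_bot]
      omega)
    (fun hh => by
      apply ht
      constructor
      · rw [eq_top_iff]
        intro y _
        obtain ⟨x, rfl⟩ := V'.mkQ_surjective y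
        have : x ∈ V''.comap V'.mkQ := by rw [hh.1]; exact Submodule.mem_top
        exact this
      · rw [eq_top_iff]
        intro y _
        obtain ⟨x, rfl⟩ := W'.mkQ_surjective y
        have : x ∈ W''.comap W'.mkQ := by rw [hh.2]; exact Submodule.mem_top
        exact this)
  rw [e1, e2, hVW, hm] at h1
  have hkpos : 0 < finrank K W := by omega
  have h2 : finrank K W' + finrank K V'' ≤ finrank K W' + finrank K W'' :=
    Nat.le_of_mul_le_mul_left h1 hkpos
  have h3 : finrank K V'' ≤ finrank K W'' := by omega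
  have h4 : finrank K (W ⧸ W') = finrank K (V ⧸ V') := by omega
  rw [h4]
  exact Nat.mul_le_mul_left _ h3

lemma bad_subset (f : Fin 2 → (V →ₗ[K] W)) (hVW : finrank K V = finrank K W)
    {V' : Submodule K V} {W' : Submodule K W} (h : IsSubrep f V' W') :
    bad f ⊆ bad (subK f h) ∪ bad (quoK f h) := by
  intro t ht
  by_contra hcon
  rw [Set.mem_union, not_or] at hcon
  have hs : Function.Bijective (G (subK f h) t) := not_not.1 hcon.1
  have hq : Function.Bijective (G (quoK f h) t) := not_not.1 hcon.2
  apply ht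
  have hinj : Function.Injective (G f t) := by
    rw [← LinearMap.ker_eq_bot, LinearMap.ker_eq_bot']
    intro v hv
    have h1 : G (quoK f h) t (Submodule.Quotient.mk v) = 0 := by
      rw [G_apply, quoK_mk, quoK_mk, ← Submodule.Quotient.mk_smul, ← Submodule.Quotient.mk_add,
        ← G_apply, hv, Submodule.Quotient.mk_zero]
    have h2 : (Submodule.Quotient.mk v : V ⧸ V') = 0 := by
      apply hq.1
      rw [h1, map_zero]
    have hvV : v ∈ V' := (Submodule.Quotient.mk_eq_zero V').1 h2
    have h3 : G (subK f h) t ⟨v, hvV⟩ = 0 := by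
      apply Subtype.ext
      rw [G_apply]
      change f 0 v + t • f 1 v = 0
      rw [← G_apply, hv]
    have h4 : (⟨v, hvV⟩ : V') = 0 := by
      apply hs.1
      rw [h3, map_zero]
    exact congrArg Subtype.val h4
  exact ⟨hinj, (LinearMap.injective_iff_surjective_of_finrank_eq_finrank hVW).1 hinj⟩

lemma bijective_of_ne_zero_dim_one (g : V →ₗ[K] W) (hV : finrank K V = 1) (hW : finrank K W = 1)
    (hg : g ≠ 0) : Function.Bijective g := by
  have hinj : Function.Injective g := by
    rw [← LinearMap.ker_eq_bot]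
    have h1 : finrank K (LinearMap.ker g) ≤ 1 := hV ▸ Submodule.finrank_le _
    rcases Nat.le_one_iff_eq_zero_or_eq_one.1 h1 with h0 | h0
    · exact Submodule.finrank_eq_zero.1 h0
    · exfalso
      apply hg
      have : LinearMap.ker g = ⊤ := Submodule.eq_top_of_finrank_eq (by rw [h0, hV])
      exact LinearMap.ker_eq_top.1 this
  exact ⟨hinj, (LinearMap.injective_iff_surjective_of_finrank_eq_finrank (hV.trans hW.symm)).1 hinj⟩

lemma exists_common_line [IsAlgClosed K] (f : Fin 2 → (V →ₗ[K] W))
    (hdim : finrank K V = finrank K W) (hpos : 0 < finrank K V) :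
    ∃ (v : V) (w : W), v ≠ 0 ∧ f 0 v ∈ (K ∙ w) ∧ f 1 v ∈ (K ∙ w) := by
  by_cases hinj : Function.Injective (f 1)
  · have hbij : Function.Bijective (f 1) :=
      ⟨hinj, (LinearMap.injective_iff_surjective_of_finrank_eq_finrank hdim).1 hinj⟩
    let e := LinearEquiv.ofBijective (f 1) hbij
    haveI : Nontrivial V := Module.nontrivial_of_finrank_pos (R := K) hpos
    obtain ⟨μ, hμ⟩ := Module.End.exists_eigenvalue (e.symm.toLinearMap ∘ₗ f 0 : Module.End K V)
    obtain ⟨v, hv⟩ := hμ.exists_hasEigenvector
    have h1 : e.symm (f 0 v) = μ • v := hv.apply_eq_smul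
    have h2 : f 0 v = μ • f 1 v := by
      have := congrArg e h1
      rw [LinearEquiv.apply_symm_apply, map_smul] at this
      exact this
    refine ⟨v, f 1 v, hv.2, ?_, Submodule.mem_span_singleton_self _⟩
    rw [h2]
    exact Submodule.smul_mem _ _ (Submodule.mem_span_singleton_self _)
  · rw [← LinearMap.ker_eq_bot, Submodule.eq_bot_iff] at hinj
    push Not at hinj
    obtain ⟨v, hv, hv0⟩ := hinj
    refine ⟨v, f 0 v, hv0, Submodule.mem_span_singleton_self _, ?_⟩
    rw [LinearMap.mem_ker.1 hv]
    exact Submodule.zero_mem _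

end Groth.Agent.Lib.Helper21.Kron
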