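import Mathlib
import Groth.Agent.Lib.Helper21.Kron4

/-!
# Kronecker modules with two arrows: semistable of dimension (k, k) is regular
-/

set_option linter.unusedSectionVars false

open KronMod Module

namespace Groth.Agent.Lib.Helper21.Kron

universe u v w

variable {K : Type u} [Field K] [IsAlgClosed K]

theorem bad_finite : ∀ (k : ℕ) {V : Type v} {W : Type w} [AddCommGroup V] [Module K V]
    [FiniteDimensional K V] [AddCommGroup W] [Module K W] [FiniteDimensional K W]
    (f : Fin 2 → (V →ₗ[K] W)), finrank K V = k → finrank K W = k → IsSemistable f →
    (bad f).Finite := by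
  intro k
  induction k using Nat.strong_induction_on with
  | _ k ih =>
    intro V W _ _ _ _ _ _ f hV hW hs
    rcases k with _ | _ | k
    · have := hs.1
      omega
    · -- dimension one
      have hf0 : f ≠ 0 := (dim_one_one f hV hW).1.1 hs
      apply Set.Subsingleton.finite
      intro t ht t' ht'
      by_contra hne
      have h1 : G f t = 0 := by
        by_contra h
        exact ht (bijective_of_ne_zero_dim_one _ hV hW h)
      have h2 : G f t' = 0 := by
        by_contra h
        exact ht' (bijective_of_ne_zero_dim_one _ hV hW h)
      have h3 : (t - t') • f 1 = 0 := by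
        have : G f t - G f t' = 0 := by rw [h1, h2, sub_zero]
        rw [G, G, add_sub_add_left_eq_sub, ← sub_smul] at this
        exact this
      have h4 : f 1 = 0 := by
        rcases smul_eq_zero.1 h3 with h | h
        · exact absurd (sub_eq_zero.1 h) hne
        · exact h
      have h5 : f 0 = 0 := by
        have := h1
        rw [G, h4, smul_zero, add_zero] at this
        exact this
      apply hf0
      funext j
      fin_cases j
      · exact h5
      · exact h4
    · -- dimension at least two
      have hVW : finrank K V = finrank K W := hV.trans hW.symm
      obtain ⟨x, y, hx, h0, h1⟩ := exists_common_line f hVW (by omega)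
      have hsub : IsSubrep f (K ∙ x) (K ∙ y) := by
        intro j
        rw [Submodule.map_span, Set.image_singleton, Submodule.span_le, Set.singleton_subset_iff]
        fin_cases j
        · exact h0
        · exact h1
      have hx1 : finrank K (K ∙ x) = 1 := finrank_span_singleton hx
      have hy1 : finrank K (K ∙ y) ≤ 1 := by
        have := finrank_span_le_card (R := K) ({y} : Set W)
        simpa using this
      have h2 := hs.2 _ _ hsub
        (fun h => by
          have : x ∈ (K ∙ x) := Submodule.mem_span_singleton_self x
          rw [h.1, Submodule.mem_bot] at this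
          exact hx this)
        (fun h => by
          have := hx1
          rw [h.1, finrank_top] at this
          omega)
      rw [hx1, mul_one, hV, hW] at h2
      have hy1' : finrank K (K ∙ y) = 1 := by
        have : 1 ≤ finrank K (K ∙ y) := by
          by_contra hlt
          have : finrank K (K ∙ y) = 0 := by omega
          rw [this, mul_zero] at h2
          omega
        omega
      have hne : (K ∙ x) ≠ ⊤ := by
        intro h
        have := hx1
        rw [h, finrank_top] at this
        omega
      have hs1 := isSemistable_subK hs hVW hsub (hx1.trans hy1'.symm) (by omega) hne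
      have hs2 := isSemistable_quoK hs hVW hsub (hx1.trans hy1'.symm) (by omega) (by omega)
      have hq1 := Submodule.finrank_quotient_add_finrank (K ∙ x)
      have hq2 := Submodule.finrank_quotient_add_finrank (K ∙ y)
      have hfin1 := ih 1 (by omega) (subK f hsub) hx1 hy1' hs1
      have hfin2 := ih (k + 1) (by omega) (quoK f hsub) (by omega) (by omega) hs2
      exact (hfin1.union hfin2).subset (bad_subset f hVW hsub)

/-- S19551. -/
theorem exists_bijective_combination_two_arrows {V : Type v} {W : Type w} [AddCommGroup V]
    [Module K V] [FiniteDimensional K V] [AddCommGroup W] [Module K W] [FiniteDimensional K W]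
    (f : Fin 2 → (V →ₗ[K] W)) (k : ℕ) (hV : finrank K V = k) (hW : finrank K W = k)
    (hf : IsSemistable f) :
    ∃ z : Fin 2 → K, Function.Bijective ((∑ j, z j • f j : V →ₗ[K] W) : V → W) := by
  have hfin := bad_finite k f hV hW hf
  obtain ⟨t, ht⟩ := hfin.infinite_compl.nonempty
  have ht' : Function.Bijective (G f t) := not_not.1 ht
  refine ⟨![1, t], ?_⟩
  have : (∑ j, (![1, t] : Fin 2 → K) j • f j : V →ₗ[K] W) = G f t := by
    rw [Fin.sum_univ_two, G]
    simp
  rw [this]
  exact ht'

end Groth.Agent.Lib.Helper21.Kron
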