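import Mathlib
import Groth.Agent.Lib.Helper21.LocImmTop

set_option linter.style.haveILetI false
namespace Groth.Agent.Lib.Helper21.LocImmLib
open CategoryTheory AlgebraicGeometry TopologicalSpace Topology

universe u

section Ring
variable {A B C A' B' : Type*} [CommRing A] [CommRing B] [CommRing C] [CommRing A'] [CommRing B']

theorem isLocHom_algebraMap [Algebra A B] (S : Submonoid A) [IsLocalization S B] :
    LocImm.IsLocHom (algebraMap A B) := by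
  unfold LocImm.IsLocHom
  rw [Algebra.algebra_ext (algebraMap A B).toAlgebra ‹Algebra A B› (fun _ => rfl)]
  exact ⟨S, inferInstance⟩

theorem isLocHom_of_bijective {φ : A →+* B} (h : Function.Bijective φ) : LocImm.IsLocHom φ := by
  letI := φ.toAlgebra
  refine ⟨⊥, IsLocalization.of_le_isUnit_of_bijective ?_ h⟩
  rintro _ ⟨x, hx, rfl⟩
  rw [Submonoid.mem_bot.mp hx, map_one]
  exact isUnit_one

theorem isLocHom_comp {φ : A →+* B} {ψ : B →+* C} (hφ : LocImm.IsLocHom φ)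
    (hψ : LocImm.IsLocHom ψ) : LocImm.IsLocHom (ψ.comp φ) := by
  letI := φ.toAlgebra
  letI := ψ.toAlgebra
  letI := (ψ.comp φ).toAlgebra
  haveI : IsScalarTower A B C := .of_algebraMap_eq' rfl
  obtain ⟨M, hM⟩ := hφ
  obtain ⟨N, hN⟩ := hψ
  exact ⟨_, IsLocalization.localization_localization_isLocalization M N C⟩

end Ring

section CatRing

theorem isLocHom_of_isIso {A B : CommRingCat.{u}} (φ : A ⟶ B) [IsIso φ] :
    LocImm.IsLocHom φ.hom :=
  isLocHom_of_bijective (ConcreteCategory.bijective_of_isIso φ)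

theorem isLocHom_comp_cat {A B C : CommRingCat.{u}} {φ : A ⟶ B} {ψ : B ⟶ C}
    (hφ : LocImm.IsLocHom φ.hom) (hψ : LocImm.IsLocHom ψ.hom) : LocImm.IsLocHom (φ ≫ ψ).hom := by
  rw [CommRingCat.hom_comp]; exact isLocHom_comp hφ hψ

theorem isLocHom_of_comp_isIso {A B C : CommRingCat.{u}} (φ : A ⟶ B) (ψ : B ⟶ C) [IsIso ψ]
    (h : LocImm.IsLocHom (φ ≫ ψ).hom) : LocImm.IsLocHom φ.hom := by
  have : φ = (φ ≫ ψ) ≫ inv ψ := by simp
  rw [this]; exact isLocHom_comp_cat h (isLocHom_of_isIso _)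

theorem isLocHom_of_isIso_comp {A B C : CommRingCat.{u}} (φ : A ⟶ B) (ψ : B ⟶ C) [IsIso φ]
    (h : LocImm.IsLocHom (φ ≫ ψ).hom) : LocImm.IsLocHom ψ.hom := by
  have : ψ = inv φ ≫ (φ ≫ ψ) := by simp
  rw [this]; exact isLocHom_comp_cat (isLocHom_of_isIso _) h

end CatRing

section At

variable {X Y : Scheme.{u}}

/-- `f` is localizing at the point `x`. -/
def LocAt (f : X ⟶ Y) (x : X) : Prop :=
  ∃ (U : Y.affineOpens) (V : X.affineOpens) (_ : x ∈ V.1) (e : V.1 ≤ f ⁻¹ᵁ U.1),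
    LocImm.IsLocHom (f.appLE U V e).hom

theorem isLocalizing_iff_locAt (f : X ⟶ Y) : LocImm.IsLocalizing f ↔ ∀ x, LocAt f x := Iff.rfl

theorem locAt_of_comp_left {X₀ : Scheme.{u}} (i : X₀ ⟶ X) [IsOpenImmersion i] (f : X ⟶ Y)
    (x₀ : X₀) (h : LocAt (i ≫ f) x₀) : LocAt f (i x₀) := by
  obtain ⟨U, V₀, hx, e, hloc⟩ := h
  have e₂ : V₀.1 ≤ i ⁻¹ᵁ (i ''ᵁ V₀.1) := (i.preimage_image_eq V₀.1).ge
  have e₁ : i ''ᵁ V₀.1 ≤ f ⁻¹ᵁ U.1 := by
    rintro _ ⟨z, hz, rfl⟩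
    exact e hz
  refine ⟨U, ⟨i ''ᵁ V₀.1, V₀.2.image_of_isOpenImmersion i⟩, ⟨x₀, hx, rfl⟩, e₁, ?_⟩
  have hcomp := Scheme.Hom.appLE_comp_appLE i f U.1 (i ''ᵁ V₀.1) V₀.1 e₁ e₂
  have : IsIso (i.appLE (i ''ᵁ V₀.1) V₀.1 e₂) := by
    rw [← Scheme.Hom.appIso_hom']; infer_instance
  refine isLocHom_of_comp_isIso _ (i.appLE (i ''ᵁ V₀.1) V₀.1 e₂) ?_
  rw [hcomp]
  exact hloc

theorem locAt_comp_right {Y₀ : Scheme.{u}} (j : Y₀ ⟶ Y) [IsOpenImmersion j] (f₀ : X ⟶ Y₀)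
    (x : X) (h : LocAt f₀ x) : LocAt (f₀ ≫ j) x := by
  obtain ⟨U₀, V, hx, e, hloc⟩ := h
  have e₁ : U₀.1 ≤ j ⁻¹ᵁ (j ''ᵁ U₀.1) := (j.preimage_image_eq U₀.1).ge
  have e' : V.1 ≤ (f₀ ≫ j) ⁻¹ᵁ (j ''ᵁ U₀.1) := by
    intro z hz
    exact ⟨f₀ z, e hz, rfl⟩
  refine ⟨⟨j ''ᵁ U₀.1, U₀.2.image_of_isOpenImmersion j⟩, V, hx, e', ?_⟩
  have hcomp := Scheme.Hom.appLE_comp_appLE f₀ j (j ''ᵁ U₀.1) U₀.1 V.1 e₁ e
  have : IsIso (j.appLE (j ''ᵁ U₀.1) U₀.1 e₁) := by
    rw [← Scheme.Hom.appIso_hom']; infer_instance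
  rw [← hcomp]
  exact isLocHom_comp_cat (isLocHom_of_isIso _) hloc

theorem locAt_spec {A B : CommRingCat.{u}} (φ : A ⟶ B) (h : LocImm.IsLocHom φ.hom)
    (x : Spec B) : LocAt (Spec.map φ) x := by
  refine ⟨⟨⊤, isAffineOpen_top _⟩, ⟨⊤, isAffineOpen_top _⟩, trivial, le_top, ?_⟩
  have h1 : (Spec.map φ).appLE ⊤ ⊤ le_top = (Spec.map φ).appTop :=
    Scheme.Hom.appLE_eq_app _
  rw [h1]
  have h2 := Scheme.ΓSpecIso_naturality φ
  have h3 : (Spec.map φ).appTop = (Scheme.ΓSpecIso A).hom ≫ φ ≫ (Scheme.ΓSpecIso B).inv := by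
    rw [← Category.assoc, ← h2]; simp
  rw [h3]
  exact isLocHom_comp_cat (isLocHom_of_isIso _) (isLocHom_comp_cat h (isLocHom_of_isIso _))

end At



section BaseChange
open Limits

theorem locAt_pullback_snd_spec {A B A' : CommRingCat.{u}} (φ : A ⟶ B) (ψ : A ⟶ A')
    (h : LocImm.IsLocHom φ.hom) (z : ↑(pullback (Spec.map φ) (Spec.map ψ))) :
    LocAt (pullback.snd (Spec.map φ) (Spec.map ψ)) z := by
  letI := φ.hom.toAlgebra
  letI := ψ.hom.toAlgebra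
  obtain ⟨S, hS⟩ := h
  let e := pullbackSpecIso A B A'
  have h1 : e.inv ≫ pullback.snd (Spec.map φ) (Spec.map ψ) =
      Spec.map (CommRingCat.ofHom (R := A') (S := TensorProduct A B A')
        (RingHomClass.toRingHom Algebra.TensorProduct.includeRight)) :=
    pullbackSpecIso_inv_snd A B A'
  have h2 : LocImm.IsLocHom (CommRingCat.ofHom (R := A') (S := TensorProduct A B A')
        (RingHomClass.toRingHom Algebra.TensorProduct.includeRight)).hom := by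
    letI : Algebra A' (TensorProduct A B A') := Algebra.TensorProduct.rightAlgebra
    exact isLocHom_algebraMap (Algebra.algebraMapSubmonoid A' S)
  have h3 := locAt_of_comp_left e.inv (pullback.snd (Spec.map φ) (Spec.map ψ)) (e.hom z)
    (by rw [h1]; exact locAt_spec _ h2 _)
  have h4 : e.inv (e.hom z) = z := by
    rw [← Scheme.Hom.comp_apply, e.hom_inv_id]; rfl
  rwa [h4] at h3

theorem isLocalizing_pullback_snd {X Y Y' : Scheme.{u}} (f : X ⟶ Y) (g : Y' ⟶ Y)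
    (hf : LocImm.IsLocalizing f) : LocImm.IsLocalizing (pullback.snd f g) := by
  intro x'
  obtain ⟨U, V, hxV, e, hloc⟩ := hf (pullback.fst f g x')
  have hy' : pullback.snd f g x' ∈ g ⁻¹ᵁ U.1 := by
    change g (pullback.snd f g x') ∈ U.1
    rw [← Scheme.Hom.comp_apply, ← pullback.condition, Scheme.Hom.comp_apply]
    exact e hxV
  obtain ⟨U', hU', hyU', e'⟩ := Opens.isBasis_iff_nbhd.mp Y'.isBasis_affineOpens hy'
  have hV : IsAffineOpen V.1 := V.2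
  have hU : IsAffineOpen U.1 := U.2
  have hU'' : IsAffineOpen U' := hU'
  let φ := f.appLE U V e
  let ψ := g.appLE U U' e'
  haveI := hV.isOpenImmersion_fromSpec
  haveI := hU.isOpenImmersion_fromSpec
  haveI := hU''.isOpenImmersion_fromSpec
  let i₀ : pullback (Spec.map φ) (Spec.map ψ) ⟶ pullback f g :=
    pullback.map _ _ _ _ hV.fromSpec hU''.fromSpec hU.fromSpec
      (IsAffineOpen.SpecMap_appLE_fromSpec f hU hV e)
      (IsAffineOpen.SpecMap_appLE_fromSpec g hU hU'' e')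
  have hr : x' ∈ Set.range i₀ := by
    rw [Scheme.Pullback.range_map]
    refine ⟨?_, ?_⟩
    · rw [Set.mem_preimage, IsAffineOpen.range_fromSpec]; exact hxV
    · rw [Set.mem_preimage, IsAffineOpen.range_fromSpec]; exact hyU'
  obtain ⟨z, rfl⟩ := hr
  have hcomp : i₀ ≫ pullback.snd f g =
      pullback.snd (Spec.map φ) (Spec.map ψ) ≫ hU''.fromSpec :=
    pullback.lift_snd _ _ _
  have : IsOpenImmersion i₀ := Scheme.pullback_map_isOpenImmersion _ _ _ _ _ _ _ _ _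
  apply locAt_of_comp_left i₀
  rw [hcomp]
  exact locAt_comp_right _ _ _ (locAt_pullback_snd_spec φ ψ hloc z)

theorem isLocImmersion_pullback_snd {X Y Y' : Scheme.{u}} (f : X ⟶ Y) (g : Y' ⟶ Y)
    (hf : LocImm.IsLocImmersion f) : LocImm.IsLocImmersion (pullback.snd f g) := by
  have := mono_of_isLocImmersion f hf
  exact ⟨isLocalizing_pullback_snd f g hf.1, (pullback.snd f g).injective⟩

end BaseChange

end Groth.Agent.Lib.Helper21.LocImmLib
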