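import Mathlib
import Groth.Agent.Lib.Helper21.LocImmAt

set_option linter.style.haveILetI false
namespace Groth.Agent.Lib.Helper21.LocImmLib
open CategoryTheory AlgebraicGeometry TopologicalSpace Topology

universe u

section Ring
variable {A B C A' B' : Type*} [CommRing A] [CommRing B] [CommRing C] [CommRing A'] [CommRing B']

/-- Shrinking: if `A → B` is localizing, `A → A'` is the localization away from `a`,
`B → B'` the localization away from `φ a`, then the induced map `A' → B'` is localizing. -/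
theorem isLocHom_of_away {φ : A →+* B} {α : A →+* A'} {β : B →+* B'} {φ' : A' →+* B'}
    (hcomm : φ'.comp α = β.comp φ) (hφ : LocImm.IsLocHom φ) (a : A)
    (hα : letI := α.toAlgebra; IsLocalization.Away a A')
    (hβ : letI := β.toAlgebra; IsLocalization.Away (φ a) B') : LocImm.IsLocHom φ' := by
  letI := φ.toAlgebra
  letI := α.toAlgebra
  letI := β.toAlgebra
  letI := φ'.toAlgebra
  letI := (β.comp φ).toAlgebra
  haveI : IsScalarTower A B B' := .of_algebraMap_eq' rfl
  haveI : IsScalarTower A A' B' := .of_algebraMap_eq' hcomm.symm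
  obtain ⟨M, hM⟩ := hφ
  have h1 : IsLocalization
      (IsLocalization.localizationLocalizationSubmodule M (Submonoid.powers (φ a))) B' :=
    IsLocalization.localization_localization_isLocalization M (Submonoid.powers (φ a)) B'
  have hle : Submonoid.powers a ≤
      IsLocalization.localizationLocalizationSubmodule M (Submonoid.powers (φ a)) := by
    rw [Submonoid.powers_le, IsLocalization.mem_localizationLocalizationSubmodule]
    exact ⟨⟨φ a, Submonoid.mem_powers _⟩, 1, by simp [RingHom.algebraMap_toAlgebra]⟩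
  exact ⟨_, IsLocalization.isLocalization_of_submonoid_le A' B' _ _ hle⟩

end Ring

variable {X Y : Scheme.{u}}

theorem isLocHom_appLE_basicOpen (f : X ⟶ Y) {U : Y.Opens} (hU : IsAffineOpen U) {V : X.Opens}
    (hV : IsAffineOpen V) (e : V ≤ f ⁻¹ᵁ U) (hloc : LocImm.IsLocHom (f.appLE U V e).hom)
    (a : Γ(Y, U)) :
    LocImm.IsLocHom (f.appLE (Y.basicOpen a) (X.basicOpen (f.appLE U V e a))
      (by simp [Scheme.Hom.appLE])).hom := by
  refine isLocHom_of_away (φ := (f.appLE U V e).hom)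
    (α := (Y.presheaf.map (homOfLE (Y.basicOpen_le a)).op).hom)
    (β := (X.presheaf.map (homOfLE (X.basicOpen_le (f.appLE U V e a))).op).hom) ?_ hloc a
    (hU.isLocalization_of_eq_basicOpen a (homOfLE (Y.basicOpen_le a)) rfl)
    (hV.isLocalization_of_eq_basicOpen _ (homOfLE (X.basicOpen_le _)) rfl)
  rw [← CommRingCat.hom_comp, ← CommRingCat.hom_comp, Scheme.Hom.appLE_map, Scheme.Hom.map_appLE]

theorem exists_affine_nhd_of_isLocImmersion [IsNoetherian X] (f : X ⟶ Y)
    (hf : LocImm.IsLocImmersion f) (x : X) :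
    ∃ V : Y.Opens, f x ∈ V ∧ IsAffineOpen V ∧ IsAffineOpen (f ⁻¹ᵁ V) ∧
      LocImm.IsLocHom (f.app V).hom := by
  obtain ⟨U, V, hxV, e, hloc⟩ := hf.1 x
  have hemb := isEmbedding_of_isLocImmersion f hf
  obtain ⟨N, hN, hNV⟩ := hemb.isInducing.isOpen_iff.mp V.1.2
  have hfx : f x ∈ (⟨N, hN⟩ : Y.Opens) ⊓ U.1 := ⟨by
    change x ∈ f ⁻¹' N
    rw [hNV]; exact hxV, e hxV⟩
  obtain ⟨a, ha, hxa⟩ := U.2.exists_basicOpen_le ⟨f x, hfx⟩ (e hxV)
  have heq : f ⁻¹ᵁ (Y.basicOpen a) = X.basicOpen (f.appLE U V e a) := by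
    rw [Scheme.basicOpen_appLE]
    refine le_antisymm (le_inf ?_ le_rfl) inf_le_right
    intro z hz
    have : f z ∈ N := (ha hz).1
    have : z ∈ f ⁻¹' N := this
    rw [hNV] at this
    exact this
  refine ⟨Y.basicOpen a, hxa, U.2.basicOpen a, heq ▸ V.2.basicOpen _, ?_⟩
  have := isLocHom_appLE_basicOpen f U.2 V.2 e hloc a
  rw [← Scheme.Hom.appLE_eq_app]
  exact (Scheme.Hom.appLE_congr f _ rfl heq (fun φ => LocImm.IsLocHom φ.hom)).mpr this



theorem specMap_injective_of_isLocHom {A B : CommRingCat.{u}} (φ : A ⟶ B)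
    (h : LocImm.IsLocHom φ.hom) : Function.Injective (Spec.map φ) := by
  letI := φ.hom.toAlgebra
  obtain ⟨S, hS⟩ := h
  exact PrimeSpectrum.localization_comap_injective B S

theorem isLocImmersion_of_forall_exists_affine (f : X ⟶ Y)
    (h : ∀ x : X, ∃ V : Y.Opens, f x ∈ V ∧ IsAffineOpen V ∧ IsAffineOpen (f ⁻¹ᵁ V) ∧
      LocImm.IsLocHom (f.app V).hom) :
    LocImm.IsLocImmersion f := by
  constructor
  · intro x
    obtain ⟨V, hx, hV, hW, hloc⟩ := h x
    refine ⟨⟨V, hV⟩, ⟨f ⁻¹ᵁ V, hW⟩, hx, le_rfl, ?_⟩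
    rw [Scheme.Hom.appLE_eq_app]; exact hloc
  · intro x₁ x₂ h12
    obtain ⟨V, hx, hV, hW, hloc⟩ := h x₁
    have hx₂ : x₂ ∈ f ⁻¹ᵁ V := by
      change f x₂ ∈ V; rw [← h12]; exact hx
    obtain ⟨w₁, rfl⟩ : x₁ ∈ Set.range hW.fromSpec := by rw [hW.range_fromSpec]; exact hx
    obtain ⟨w₂, rfl⟩ : x₂ ∈ Set.range hW.fromSpec := by rw [hW.range_fromSpec]; exact hx₂
    have sq := IsAffineOpen.SpecMap_appLE_fromSpec f hV hW le_rfl
    have hloc' : LocImm.IsLocHom (f.appLE V (f ⁻¹ᵁ V) le_rfl).hom := by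
      rw [Scheme.Hom.appLE_eq_app]; exact hloc
    have h3 : hV.fromSpec (Spec.map (f.appLE V (f ⁻¹ᵁ V) le_rfl) w₁) =
        hV.fromSpec (Spec.map (f.appLE V (f ⁻¹ᵁ V) le_rfl) w₂) := by
      rw [← Scheme.Hom.comp_apply, ← Scheme.Hom.comp_apply, sq]
      exact h12
    haveI := hV.isOpenImmersion_fromSpec
    have h4 := hV.fromSpec.isOpenEmbedding.injective h3
    rw [specMap_injective_of_isLocHom _ hloc' h4]

theorem isLocImmersion_iff_forall_exists_affine [IsNoetherian X] (f : X ⟶ Y) :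
    LocImm.IsLocImmersion f ↔ ∀ x : X, ∃ V : Y.Opens, f x ∈ V ∧ IsAffineOpen V ∧
      IsAffineOpen (f ⁻¹ᵁ V) ∧ LocImm.IsLocHom (f.app V).hom :=
  ⟨fun hf x => exists_affine_nhd_of_isLocImmersion f hf x,
    isLocImmersion_of_forall_exists_affine f⟩

end Groth.Agent.Lib.Helper21.LocImmLib
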