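import Mathlib
import Groth.Agent.Lib.Helper21.LocImmAff

set_option linter.style.haveILetI false
namespace Groth.Agent.Lib.Helper21.LocImmLib
open CategoryTheory AlgebraicGeometry TopologicalSpace Topology Limits

universe u

theorem exists_maximal_generization {T : Type*} [TopologicalSpace T] [QuasiSober T] [T0Space T]
    (x : T) : ∃ η, η ⤳ x ∧ ∀ η', η' ⤳ η → η' = η := by
  have hirr : IsIrreducible (irreducibleComponent x) := isIrreducible_irreducibleComponent
  have hcl : IsClosed (irreducibleComponent x) := isClosed_irreducibleComponent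
  have hgen := hirr.closure_genericPoint hcl
  refine ⟨hirr.genericPoint, ?_, fun η' h' => ?_⟩
  · rw [specializes_iff_mem_closure, hgen]; exact mem_irreducibleComponent
  · have h1 : closure {η'} = irreducibleComponent x := by
      apply eq_irreducibleComponent isIrreducible_singleton.closure.isPreirreducible
      rw [← hgen]
      exact specializes_iff_closure_subset.mp h'
    exact (inseparable_iff_closure_eq.mpr (h1.trans hgen.symm)).eq

variable {X Y : Scheme.{u}}

theorem isLocImmersion_specMap {A B : CommRingCat.{u}} (φ : A ⟶ B) (h : LocImm.IsLocHom φ.hom) :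
    LocImm.IsLocImmersion (Spec.map φ) :=
  ⟨fun x => locAt_spec φ h x, specMap_injective_of_isLocHom φ h⟩

theorem mono_fromSpec_comp (f : X ⟶ Y) {U : Y.Opens} (hU : IsAffineOpen U) {V : X.Opens}
    (hV : IsAffineOpen V) (e : V ≤ f ⁻¹ᵁ U) (hloc : LocImm.IsLocHom (f.appLE U V e).hom) :
    Mono (hV.fromSpec ≫ f) := by
  rw [← IsAffineOpen.SpecMap_appLE_fromSpec f hU hV e]
  haveI := mono_of_isLocImmersion _ (isLocImmersion_specMap _ hloc)
  haveI := hU.isOpenImmersion_fromSpec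
  infer_instance

theorem injOn_of_isLocHom (f : X ⟶ Y) {U : Y.Opens} (hU : IsAffineOpen U) {V : X.Opens}
    (hV : IsAffineOpen V) (e : V ≤ f ⁻¹ᵁ U) (hloc : LocImm.IsLocHom (f.appLE U V e).hom) :
    Set.InjOn f V := by
  intro x₁ hx₁ x₂ hx₂ h12
  obtain ⟨w₁, rfl⟩ : x₁ ∈ Set.range hV.fromSpec := by rw [hV.range_fromSpec]; exact hx₁
  obtain ⟨w₂, rfl⟩ : x₂ ∈ Set.range hV.fromSpec := by rw [hV.range_fromSpec]; exact hx₂
  haveI := mono_fromSpec_comp f hU hV e hloc
  have := (hV.fromSpec ≫ f).injective (a₁ := w₁) (a₂ := w₂) (by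
    simpa [Scheme.Hom.comp_apply] using h12)
  rw [this]

theorem eq_of_specializes_of_apply_eq (f : X ⟶ Y) (hf : LocImm.IsLocalizing f) {x z₁ z₂ : X}
    (h₁ : z₁ ⤳ x) (h₂ : z₂ ⤳ x) (h : f z₁ = f z₂) : z₁ = z₂ := by
  obtain ⟨U, V, hxV, e, hloc⟩ := hf x
  exact injOn_of_isLocHom f U.2 V.2 e hloc (h₁.mem_open V.1.2 hxV) (h₂.mem_open V.1.2 hxV) h



theorem exists_isClosed_eqLocus {W X Z : Scheme.{u}} (p q : W ⟶ X) (s : X ⟶ Z) [IsSeparated s]
    (h : p ≫ s = q ≫ s) :
    ∃ C : Set W, IsClosed C ∧ (∀ c ∈ C, p c = q c) ∧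
      ∀ {T : Scheme.{u}} (t : T ⟶ W), t ≫ p = t ≫ q → Set.range t ⊆ C := by
  let W' : Over Z := Over.mk (p ≫ s)
  let X' : Over Z := Over.mk s
  let p' : W' ⟶ X' := Over.homMk p
  let q' : W' ⟶ X' := Over.homMk q (by simpa [W', X'] using h.symm)
  have : IsSeparated X'.hom := ‹_›
  refine ⟨Set.range (equalizer.ι p' q').left,
    (Scheme.Hom.isClosedEmbedding _).isClosed_range, ?_, ?_⟩
  · rintro _ ⟨c, rfl⟩
    have h1 : (equalizer.ι p' q').left ≫ p = (equalizer.ι p' q').left ≫ q :=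
      congr($(equalizer.condition p' q').left)
    rw [← Scheme.Hom.comp_apply, h1, Scheme.Hom.comp_apply]
  · intro T t ht
    let T' : Over Z := Over.mk (t ≫ p ≫ s)
    let t' : T' ⟶ W' := Over.homMk t
    have h2 : t' ≫ p' = t' ≫ q' := by ext1; exact ht
    rintro _ ⟨y, rfl⟩
    refine ⟨(equalizer.lift t' h2).left y, ?_⟩
    rw [← Scheme.Hom.comp_apply, ← Over.comp_left, equalizer.lift_ι]
    rfl



theorem injective_of_isSeparated_of_injOn (f : X ⟶ Y) (hf : LocImm.IsLocalizing f)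
    [IsSeparated f]
    (hmax : Set.InjOn (fun x => f x) {x : X | ∀ x' : X, x' ⤳ x → x' = x}) :
    Function.Injective f := by
  intro x₁ x₂ h12
  have hflat := flat_of_isLocalizing f hf
  haveI := isIso_stalkMap_of_isLocalizing f hf x₂
  have hs : f x₁ ⤳ f x₂ := specializes_of_eq h12
  let j₁ := X.fromSpecStalk x₁
  let a : Spec (X.presheaf.stalk x₁) ⟶ Spec (X.presheaf.stalk x₂) :=
    Spec.map (f.stalkMap x₁) ≫ Spec.map (Y.presheaf.stalkSpecializes hs) ≫
      inv (Spec.map (f.stalkMap x₂))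
  let h := a ≫ X.fromSpecStalk x₂
  have hh : h ≫ f = j₁ ≫ f := by
    simp only [h, a, j₁, Category.assoc]
    rw [← Scheme.SpecMap_stalkMap_fromSpecStalk (f := f) (x := x₂), IsIso.inv_hom_id_assoc,
      Scheme.SpecMap_stalkSpecializes_fromSpecStalk, Scheme.SpecMap_stalkMap_fromSpecStalk]
  obtain ⟨η₁, hη₁, hη₁max⟩ := exists_maximal_generization x₁
  obtain ⟨w, hw⟩ : η₁ ∈ Set.range j₁ := by rw [Scheme.range_fromSpecStalk]; exact hη₁
  have hfη : f (h w) = f η₁ := by
    rw [← hw, ← Scheme.Hom.comp_apply, ← Scheme.Hom.comp_apply, hh]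
  have hη₂ : h w ⤳ x₂ := by
    have : h w ∈ Set.range (X.fromSpecStalk x₂) := ⟨a w, rfl⟩
    rwa [Scheme.range_fromSpecStalk] at this
  have hη₂max : ∀ η', η' ⤳ h w → η' = h w := by
    intro η' h'
    have h1 : f η' ⤳ f η₁ := hfη ▸ h'.map f.continuous
    obtain ⟨η'', h'', e''⟩ := Flat.generalizingMap f h1
    have := hη₁max η'' h''
    subst this
    exact eq_of_specializes_of_apply_eq f hf (h'.trans hη₂) hη₂ (e''.symm.trans hfη.symm)
  have hηeq : η₁ = h w := hmax hη₁max hη₂max hfη.symm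
  let t := (Spec (X.presheaf.stalk x₁)).fromSpecResidueField w
  have ht : t ≫ j₁ = t ≫ h := by
    obtain ⟨U, V, hηV, e, hloc⟩ := hf η₁
    have hV : IsAffineOpen V.1 := V.2
    haveI := mono_fromSpec_comp f U.2 hV e hloc
    haveI := hV.isOpenImmersion_fromSpec
    have r1 : Set.range (t ≫ j₁) ⊆ Set.range hV.fromSpec := by
      rintro _ ⟨y, rfl⟩
      rw [hV.range_fromSpec, Scheme.Hom.comp_apply, Scheme.fromSpecResidueField_apply, hw]
      exact hηV
    have r2 : Set.range (t ≫ h) ⊆ Set.range hV.fromSpec := by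
      rintro _ ⟨y, rfl⟩
      rw [hV.range_fromSpec, Scheme.Hom.comp_apply, Scheme.fromSpecResidueField_apply, ← hηeq]
      exact hηV
    rw [← IsOpenImmersion.lift_fac hV.fromSpec (t ≫ j₁) r1,
      ← IsOpenImmersion.lift_fac hV.fromSpec (t ≫ h) r2]
    congr 1
    rw [← cancel_mono (hV.fromSpec ≫ f), ← Category.assoc, ← Category.assoc,
      IsOpenImmersion.lift_fac, IsOpenImmersion.lift_fac, Category.assoc, Category.assoc, hh]
  obtain ⟨C, hC, hCeq, hCt⟩ := exists_isClosed_eqLocus j₁ h f hh.symm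
  have hwC : w ∈ C := hCt t ht ⟨default, Scheme.fromSpecResidueField_apply _ _⟩
  have hc : IsLocalRing.closedPoint (X.presheaf.stalk x₁) ∈ C :=
    (IsLocalRing.specializes_closedPoint w).mem_closed hC hwC
  have h3 := hCeq _ hc
  rw [Scheme.fromSpecStalk_closedPoint] at h3
  rw [h3]
  refine eq_of_specializes_of_apply_eq f hf (x := x₂) ?_ specializes_rfl ?_
  · have : h (IsLocalRing.closedPoint (X.presheaf.stalk x₁)) ∈
        Set.range (X.fromSpecStalk x₂) := ⟨a _, rfl⟩
    rwa [Scheme.range_fromSpecStalk] at this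
  · rw [← h3, h12]

end Groth.Agent.Lib.Helper21.LocImmLib
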