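import Mathlib
import Groth.Agent.Lib.Helper21.LocImmSep

set_option linter.style.haveILetI false
namespace Groth.Agent.Lib.Helper21.LocImmLib
open CategoryTheory AlgebraicGeometry TopologicalSpace Topology Limits

universe u

section Ring
variable {A B C : Type*} [CommRing A] [CommRing B] [CommRing C]

theorem isLocHom_of_comp_of_injective {α : A →+* C} {γ : C →+* B} (hγ : Function.Injective γ)
    (h : LocImm.IsLocHom (γ.comp α)) : LocImm.IsLocHom γ := by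
  letI := (γ.comp α).toAlgebra
  obtain ⟨S, hS⟩ := h
  letI := γ.toAlgebra
  refine ⟨S.map α, ⟨?_, ?_, ?_⟩⟩
  · rintro ⟨_, s, hs, rfl⟩
    exact IsLocalization.map_units B (⟨s, hs⟩ : S)
  · intro b
    obtain ⟨⟨a, s⟩, hb⟩ := IsLocalization.surj S b
    exact ⟨⟨α a, ⟨α s, s, s.2, rfl⟩⟩, hb⟩
  · intro c₁ c₂ hc
    exact ⟨1, by rw [hγ hc]⟩

end Ring

variable {X Y : Scheme.{u}}

theorem exists_basicOpen_of_isLocImmersion [IsNoetherian X] (f : X ⟶ Y)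
    (hf : LocImm.IsLocImmersion f) {U : Y.Opens} (hU : IsAffineOpen U) {V : X.Opens}
    (hV : IsAffineOpen V) (e : V ≤ f ⁻¹ᵁ U) (hloc : LocImm.IsLocHom (f.appLE U V e).hom)
    (x : X) (hxV : x ∈ V) (N₀ : X.Opens) (hxN : x ∈ N₀) :
    ∃ a : Γ(Y, U), f x ∈ Y.basicOpen a ∧ f ⁻¹ᵁ (Y.basicOpen a) ≤ V ⊓ N₀ ∧
      IsAffineOpen (f ⁻¹ᵁ (Y.basicOpen a)) ∧ LocImm.IsLocHom (f.app (Y.basicOpen a)).hom := by
  have hemb := isEmbedding_of_isLocImmersion f hf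
  obtain ⟨N, hN, hNV⟩ := hemb.isInducing.isOpen_iff.mp (V ⊓ N₀).2
  have hfx : f x ∈ (⟨N, hN⟩ : Y.Opens) ⊓ U := ⟨by
    change x ∈ f ⁻¹' N
    rw [hNV]; exact ⟨hxV, hxN⟩, e hxV⟩
  obtain ⟨a, ha, hxa⟩ := hU.exists_basicOpen_le ⟨f x, hfx⟩ (e hxV)
  have hsub : f ⁻¹ᵁ (Y.basicOpen a) ≤ V ⊓ N₀ := by
    intro z hz
    have : f z ∈ N := (ha hz).1
    have : z ∈ f ⁻¹' N := this
    rw [hNV] at this
    exact this
  have heq : f ⁻¹ᵁ (Y.basicOpen a) = X.basicOpen (f.appLE U V e a) := by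
    rw [Scheme.basicOpen_appLE]
    exact le_antisymm (le_inf (hsub.trans inf_le_left) le_rfl) inf_le_right
  refine ⟨a, hxa, hsub, heq ▸ hV.basicOpen _, ?_⟩
  have := isLocHom_appLE_basicOpen f hU hV e hloc a
  rw [← Scheme.Hom.appLE_eq_app]
  exact (Scheme.Hom.appLE_congr f _ rfl heq (fun φ => LocImm.IsLocHom φ.hom)).mpr this

theorem isLocImmersion_of_comp_of_app_injective {X Y Z : Scheme.{u}} [IsNoetherian X]
    (f : X ⟶ Y) (g : Y ⟶ Z) (hfg : LocImm.IsLocImmersion (f ≫ g))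
    (hd : ∀ U : Y.Opens, Function.Injective (f.app U).hom) : LocImm.IsLocImmersion f := by
  refine ⟨fun x => ?_, fun x₁ x₂ h => hfg.2 (by
    rw [Scheme.Hom.comp_apply, Scheme.Hom.comp_apply, h])⟩
  obtain ⟨U, V, hxV, e, hloc⟩ := hfg.1 x
  have hfxU : f x ∈ g ⁻¹ᵁ U.1 := e hxV
  obtain ⟨W₀, hW₀, hxW₀, e₀⟩ := Opens.isBasis_iff_nbhd.mp Y.isBasis_affineOpens hfxU
  have hW₀' : IsAffineOpen W₀ := hW₀
  obtain ⟨a, hxa, hsub, haff, hloc'⟩ := exists_basicOpen_of_isLocImmersion (f ≫ g) hfg U.2 V.2 e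
    hloc x hxV (f ⁻¹ᵁ W₀) hxW₀
  let W : Y.Opens := Y.basicOpen (g.appLE U W₀ e₀ a)
  have hWeq : W = W₀ ⊓ g ⁻¹ᵁ (Z.basicOpen a) := Scheme.basicOpen_appLE g W₀ U e₀ a
  have hWaff : IsAffineOpen W := hW₀'.basicOpen _
  have hpre : f ⁻¹ᵁ W = (f ≫ g) ⁻¹ᵁ (Z.basicOpen a) := by
    rw [hWeq]
    ext z
    constructor
    · rintro ⟨-, h2⟩; exact h2
    · intro hz; exact ⟨(hsub hz).2, hz⟩
  have hxW : x ∈ f ⁻¹ᵁ W := by rw [hpre]; exact hxa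
  have e₁ : W ≤ g ⁻¹ᵁ (Z.basicOpen a) := hWeq ▸ inf_le_right
  refine ⟨⟨W, hWaff⟩, ⟨f ⁻¹ᵁ W, hpre ▸ haff⟩, hxW, le_rfl, ?_⟩
  rw [Scheme.Hom.appLE_eq_app]
  refine isLocHom_of_comp_of_injective (α := (g.appLE (Z.basicOpen a) W e₁).hom) (hd W) ?_
  rw [← CommRingCat.hom_comp, Scheme.Hom.app_eq_appLE, Scheme.Hom.appLE_comp_appLE]
  rw [← Scheme.Hom.appLE_eq_app] at hloc'
  exact (Scheme.Hom.appLE_congr (f ≫ g) _ rfl hpre.symm (fun φ => LocImm.IsLocHom φ.hom)).mp hloc'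

end Groth.Agent.Lib.Helper21.LocImmLib
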