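import Mathlib
import Groth.Agent.Lib.Helper21.LocImmDense
import Groth.Prelude.Def_EssFT

/-!
# Spreading out local isomorphisms (essentially of finite type over Noetherian base)
-/

set_option linter.style.haveILetI false
namespace Groth.Agent.Lib.Helper21.LocImmLib
open CategoryTheory AlgebraicGeometry TopologicalSpace Topology Limits

universe u

section SpreadRing

variable {A C : Type*} [CommRing A] [CommRing C] [Algebra A C]

/-- Key fact 1: surjectivity of the local ring hom. -/
theorem exists_mul_eq_of_localRingHom_surjective (q : Ideal C) [q.IsPrime]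
    (H : Function.Surjective
      (Localization.localRingHom (q.comap (algebraMap A C)) q (algebraMap A C) rfl)) (x : C) :
    ∃ a s : A, s ∉ q.comap (algebraMap A C) ∧ ∃ c : C, c ∉ q ∧
      c * (x * algebraMap A C s) = c * algebraMap A C a := by
  obtain ⟨z, hz⟩ := H (algebraMap C (Localization.AtPrime q) x)
  obtain ⟨a, s, rfl⟩ := IsLocalization.exists_mk'_eq (q.comap (algebraMap A C)).primeCompl z
  rw [Localization.localRingHom_mk', IsLocalization.mk'_eq_iff_eq_mul, ← map_mul,
    IsLocalization.eq_iff_exists q.primeCompl] at hz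
  obtain ⟨c, hc⟩ := hz
  exact ⟨a, s.1, s.2, c.1, c.2, hc.symm⟩

/-- Key fact 2: injectivity of the local ring hom. -/
theorem exists_mul_eq_zero_of_localRingHom_injective (q : Ideal C) [q.IsPrime]
    (H : Function.Injective
      (Localization.localRingHom (q.comap (algebraMap A C)) q (algebraMap A C) rfl)) (a : A)
    (c : C) (hc : c ∉ q) (hca : c * algebraMap A C a = 0) :
    ∃ s : A, s ∉ q.comap (algebraMap A C) ∧ s * a = 0 := by
  have h1 : algebraMap A (Localization.AtPrime (q.comap (algebraMap A C))) a = 0 := by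
    apply H
    rw [Localization.localRingHom_to_map, map_zero]
    exact (IsLocalization.map_eq_zero_iff q.primeCompl _ _).mpr ⟨⟨c, hc⟩, hca⟩
  obtain ⟨s, hs⟩ := (IsLocalization.map_eq_zero_iff
    (q.comap (algebraMap A C)).primeCompl _ _).mp h1
  exact ⟨s.1, s.2, hs⟩

/-- a single element outside `p` killing the kernel of `A → A_p` (Noetherian). -/
theorem exists_kill_ker_atPrime [IsNoetherianRing A] (p : Ideal A) [p.IsPrime] :
    ∃ t : A, t ∉ p ∧ ∀ a : A, (∃ s, s ∉ p ∧ s * a = 0) → t * a = 0 := by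
  classical
  let K : Ideal A := RingHom.ker (algebraMap A (Localization.AtPrime p))
  obtain ⟨G, hG⟩ := (isNoetherianRing_iff_ideal_fg A).mp inferInstance K
  have hmem : ∀ g ∈ G, ∃ s : A, s ∉ p ∧ s * g = 0 := by
    intro g hg
    have : g ∈ K := hG ▸ Ideal.subset_span hg
    obtain ⟨s, hs⟩ :=
      (IsLocalization.map_eq_zero_iff p.primeCompl _ _).mp (RingHom.mem_ker.mp this)
    exact ⟨s.1, s.2, hs⟩
  choose! sg hsg1 hsg2 using hmem
  refine ⟨∏ g ∈ G, sg g, ?_, ?_⟩
  · intro h
    obtain ⟨g, hg, hgp⟩ := (Ideal.IsPrime.prod_mem_iff).mp h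
    exact hsg1 g hg hgp
  · rintro a ⟨s, hs, hsa⟩
    have ha : a ∈ K := RingHom.mem_ker.mpr
      ((IsLocalization.map_eq_zero_iff p.primeCompl _ _).mpr ⟨⟨s, hs⟩, hsa⟩)
    rw [← hG] at ha
    refine Submodule.span_induction (p := fun a _ => (∏ g ∈ G, sg g) * a = 0) ?_ ?_ ?_ ?_ ha
    · intro g hg
      rw [← Finset.mul_prod_erase G sg hg, mul_right_comm, hsg2 g hg, zero_mul]
    · simp
    · intro x y _ _ hx hy; rw [mul_add, hx, hy, add_zero]
    · intro r x _ hx; rw [smul_eq_mul, mul_left_comm, hx, mul_zero]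

/-- **Spreading out a local isomorphism** (finite type case), abstract localization. -/
theorem exists_away_isLocalization_of_finiteType [IsNoetherianRing A] [Algebra.FiniteType A C]
    (q : Ideal C) [q.IsPrime]
    (H : Function.Bijective
      (Localization.localRingHom (q.comap (algebraMap A C)) q (algebraMap A C) rfl)) :
    ∃ c : C, c ∉ q ∧ ∀ (B : Type _) [CommRing B] [Algebra C B] [Algebra A B]
      [IsScalarTower A C B] [IsLocalization.Away c B], ∃ M : Submonoid A, IsLocalization M B := by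
  classical
  have hpdef : ∀ a : A, a ∈ q.comap (algebraMap A C) ↔ algebraMap A C a ∈ q := fun a => Iff.rfl
  obtain ⟨t, htp, ht⟩ := exists_kill_ker_atPrime (q.comap (algebraMap A C))
  obtain ⟨G, hG⟩ := (Algebra.FiniteType.out : (⊤ : Subalgebra A C).FG)
  have hgen : ∀ x ∈ G, ∃ a s : A, s ∉ q.comap (algebraMap A C) ∧ ∃ c : C, c ∉ q ∧
      c * (x * algebraMap A C s) = c * algebraMap A C a :=
    fun x _ => exists_mul_eq_of_localRingHom_surjective q H.2 x
  choose! ax sx hsx cx hcx hx using hgen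
  let c : C := (∏ x ∈ G, cx x) * algebraMap A C t * algebraMap A C (∏ x ∈ G, sx x)
  have hcq : c ∉ q := by
    intro h
    rcases (Ideal.IsPrime.mem_or_mem inferInstance h) with h | h
    · rcases (Ideal.IsPrime.mem_or_mem inferInstance h) with h | h
      · obtain ⟨x, hxG, hxq⟩ := (Ideal.IsPrime.prod_mem_iff).mp h
        exact hcx x hxG hxq
      · exact htp h
    · rw [← hpdef] at h
      obtain ⟨x, hxG, hxq⟩ := (Ideal.IsPrime.prod_mem_iff).mp h
      exact hsx x hxG hxq
  refine ⟨c, hcq, ?_⟩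
  intro B _ _ _ _ _
  have hAB : ∀ a : A, algebraMap A B a = algebraMap C B (algebraMap A C a) := fun a =>
    IsScalarTower.algebraMap_apply A C B a
  have hcu : IsUnit (algebraMap C B c) := IsLocalization.Away.algebraMap_isUnit c
  have hdvd_unit : ∀ y : C, y ∣ c → IsUnit (algebraMap C B y) := fun y hy =>
    isUnit_of_dvd_unit (map_dvd (algebraMap C B) hy) hcu
  have htu : IsUnit (algebraMap A B t) := by
    rw [hAB]
    exact hdvd_unit _ ⟨(∏ x ∈ G, cx x) * algebraMap A C (∏ x ∈ G, sx x), by simp only [c]; ring⟩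
  have hsu : ∀ x ∈ G, IsUnit (algebraMap A B (sx x)) := fun x hxG => by
    rw [hAB]
    apply hdvd_unit
    refine Dvd.dvd.mul_left ?_ _
    exact map_dvd (algebraMap A C) (Finset.dvd_prod_of_mem sx hxG)
  have hxB : ∀ x ∈ G, algebraMap C B x * algebraMap A B (sx x) = algebraMap A B (ax x) := by
    intro x hxG
    have hcxu : IsUnit (algebraMap C B (cx x)) := by
      apply hdvd_unit
      refine Dvd.dvd.mul_right (Dvd.dvd.mul_right (Finset.dvd_prod_of_mem cx hxG) _) _
    have := congrArg (algebraMap C B) (hx x hxG)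
    rw [map_mul, map_mul, map_mul] at this
    rw [hAB, hAB]
    exact hcxu.mul_left_cancel this
  let M : Submonoid A := (IsUnit.submonoid B).comap (algebraMap A B)
  have hfrac : ∀ y : C, ∃ a m : A, m ∈ M ∧
      algebraMap C B y * algebraMap A B m = algebraMap A B a := by
    intro y
    have hy : y ∈ Algebra.adjoin A (G : Set C) := hG ▸ Algebra.mem_top
    induction hy using Algebra.adjoin_induction with
    | mem x hx => exact ⟨ax x, sx x, hsu x hx, hxB x hx⟩
    | algebraMap r => exact ⟨r, 1, Submonoid.one_mem _, by rw [map_one, mul_one, hAB]⟩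
    | add x y _ _ hx hy =>
      obtain ⟨a₁, m₁, hm₁, h₁⟩ := hx
      obtain ⟨a₂, m₂, hm₂, h₂⟩ := hy
      refine ⟨a₁ * m₂ + a₂ * m₁, m₁ * m₂, Submonoid.mul_mem _ hm₁ hm₂, ?_⟩
      rw [map_add, map_mul, map_add, map_mul, map_mul, ← h₁, ← h₂]; ring
    | mul x y _ _ hx hy =>
      obtain ⟨a₁, m₁, hm₁, h₁⟩ := hx
      obtain ⟨a₂, m₂, hm₂, h₂⟩ := hy
      refine ⟨a₁ * a₂, m₁ * m₂, Submonoid.mul_mem _ hm₁ hm₂, ?_⟩
      rw [map_mul, map_mul, map_mul, ← h₁, ← h₂]; ring
  refine ⟨M, ⟨?_, ?_, ?_⟩⟩
  · rintro ⟨m, hm⟩; exact hm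
  · intro b
    obtain ⟨n, y, h1⟩ := IsLocalization.Away.surj c b
    obtain ⟨ay, my, hmy, hy⟩ := hfrac y
    obtain ⟨ac, mc, hmc, hc⟩ := hfrac c
    have hacu : IsUnit (algebraMap A B ac) := by rw [← hc]; exact hcu.mul hmc
    refine ⟨⟨ay * mc ^ n, ⟨my * ac ^ n,
      Submonoid.mul_mem _ hmy (Submonoid.pow_mem _ hacu n)⟩⟩, ?_⟩
    simp only [map_mul, map_pow]
    rw [← hc, ← hy, ← h1]; ring
  · intro a₁ a₂ h12
    have h0 : algebraMap C B (algebraMap A C (a₁ - a₂)) = algebraMap C B 0 := by
      rw [← hAB, map_sub, h12, sub_self, map_zero]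
    obtain ⟨n, hn⟩ := IsLocalization.Away.exists_of_eq c h0
    rw [mul_zero] at hn
    have hcn : c ^ n ∉ q := fun h => hcq (Ideal.IsPrime.mem_of_pow_mem inferInstance n h)
    obtain ⟨s, hs, hsa⟩ :=
      exists_mul_eq_zero_of_localRingHom_injective q H.1 (a₁ - a₂) (c ^ n) hcn hn
    have := ht (a₁ - a₂) ⟨s, hs, hsa⟩
    refine ⟨⟨t, htu⟩, ?_⟩
    rw [mul_sub, sub_eq_zero] at this
    exact this

theorem exists_away_isLocHom_of_finiteType [IsNoetherianRing A] [Algebra.FiniteType A C]
    (q : Ideal C) [q.IsPrime]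
    (H : Function.Bijective
      (Localization.localRingHom (q.comap (algebraMap A C)) q (algebraMap A C) rfl)) :
    ∃ c : C, c ∉ q ∧
      LocImm.IsLocHom ((algebraMap C (Localization.Away c)).comp (algebraMap A C)) := by
  obtain ⟨c, hc, h⟩ := exists_away_isLocalization_of_finiteType q H
  refine ⟨c, hc, ?_⟩
  obtain ⟨M, hM⟩ := h (Localization.Away c)
  rw [← IsScalarTower.algebraMap_eq]
  exact isLocHom_algebraMap M

end SpreadRing

section SpreadRing2

theorem localRingHom_congr {R S : Type*} [CommRing R] [CommRing S] (I : Ideal R) [I.IsPrime]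
    (J : Ideal S) [J.IsPrime] {f g : R →+* S} (h : f = g) (hI : I = J.comap f) :
    Localization.localRingHom I J f hI = Localization.localRingHom I J g (h ▸ hI) := by
  subst h; rfl

theorem localRingHom_bijective_congr {R S : Type*} [CommRing R] [CommRing S] (I I' : Ideal R)
    [I.IsPrime] [I'.IsPrime] (J : Ideal S) [J.IsPrime] (f : R →+* S) (hI : I = J.comap f)
    (hI' : I' = J.comap f) (H : Function.Bijective (Localization.localRingHom I J f hI)) :
    Function.Bijective (Localization.localRingHom I' J f hI') := by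
  subst hI; subst hI'; exact H

theorem exists_away_isLocHom_of_essFiniteType {A C : Type u} [CommRing A] [CommRing C]
    [IsNoetherianRing A] (φ : A →+* C) (hφ : φ.EssFiniteType) (p : Ideal A) [p.IsPrime]
    (q : Ideal C) [q.IsPrime] (hpq : p = q.comap φ)
    (H : Function.Bijective (Localization.localRingHom p q φ hpq)) :
    ∃ c : C, c ∉ q ∧ ∀ {B : Type u} [CommRing B] (β : C →+* B),
      (letI := β.toAlgebra; IsLocalization.Away c B) → LocImm.IsLocHom (β.comp φ) := by
  subst hpq
  letI := φ.toAlgebra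
  haveI : Algebra.EssFiniteType A C := hφ
  let C₀ := Algebra.EssFiniteType.subalgebra A C
  let M₀ := Algebra.EssFiniteType.submonoid A C
  haveI : IsLocalization M₀ C := Algebra.EssFiniteType.isLocalization A C
  let q₀ : Ideal C₀ := q.comap (algebraMap C₀ C)
  haveI : q₀.IsPrime := Ideal.comap_isPrime _ _
  have hcomp : (algebraMap C₀ C).comp (algebraMap A C₀) = φ := RingHom.ext fun _ => rfl
  have hq₀ : q.comap φ = q₀.comap (algebraMap A C₀) := by
    rw [Ideal.comap_comap, hcomp]
  have h1 := Localization.localRingHom_comp (q.comap φ) q₀ q (algebraMap A C₀) hq₀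
    (algebraMap C₀ C) rfl
  rw [localRingHom_congr _ _ hcomp] at h1
  have h2 : Function.Bijective (Localization.localRingHom q₀ q (algebraMap C₀ C) rfl) :=
    localRingHom_bijective_of_isLocalization M₀ q
  have H₀ : Function.Bijective
      (Localization.localRingHom (q.comap φ) q₀ (algebraMap A C₀) hq₀) := by
    have := H
    rw [h1, RingHom.coe_comp] at this
    exact (Function.Bijective.of_comp_iff' h2 _).mp this
  have H₀' : Function.Bijective (Localization.localRingHom (q₀.comap (algebraMap A C₀)) q₀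
      (algebraMap A C₀) rfl) := localRingHom_bijective_congr _ _ _ _ hq₀ rfl H₀
  obtain ⟨c₀, hc₀, hB'⟩ := exists_away_isLocalization_of_finiteType q₀ H₀'
  refine ⟨algebraMap C₀ C c₀, hc₀, ?_⟩
  intro B _ β hβ
  obtain ⟨M, hM⟩ := hB' (Localization.Away c₀)
  have hloc1 : LocImm.IsLocHom (algebraMap A (Localization.Away c₀)) := isLocHom_algebraMap M
  have hu : IsUnit ((β.comp (algebraMap C₀ C)) c₀) := by
    letI := β.toAlgebra
    exact IsLocalization.Away.algebraMap_isUnit (algebraMap C₀ C c₀)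
  let ψ : Localization.Away c₀ →+* B := IsLocalization.Away.lift c₀ hu
  have hψ : ψ.comp (algebraMap C₀ (Localization.Away c₀)) = β.comp (algebraMap C₀ C) :=
    IsLocalization.Away.lift_comp c₀ hu
  have hloc2 : LocImm.IsLocHom ψ := by
    refine isLocHom_of_away (φ := algebraMap C₀ C) (α := algebraMap C₀ (Localization.Away c₀))
      (β := β) hψ (isLocHom_algebraMap M₀) c₀ ?_ hβ
    rw [Algebra.algebra_ext (algebraMap C₀ (Localization.Away c₀)).toAlgebra
      (inferInstance : Algebra C₀ (Localization.Away c₀)) (fun _ => rfl)]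
    infer_instance
  have := isLocHom_comp hloc1 hloc2
  have heq : ψ.comp (algebraMap A (Localization.Away c₀)) = β.comp φ := by
    rw [IsScalarTower.algebraMap_eq A C₀ (Localization.Away c₀), ← RingHom.comp_assoc, hψ,
      RingHom.comp_assoc, hcomp]
  rwa [heq] at this

end SpreadRing2

variable {X Y : Scheme.{u}}

theorem locAt_of_isIso_stalkMap [IsLocallyNoetherian Y] (g : X ⟶ Y)
    [EssFT.LocallyEssFiniteType g] (x : X) [IsIso (g.stalkMap x)] : LocAt g x := by
  obtain ⟨U, V, hxV, e, hft⟩ := EssFT.LocallyEssFiniteType.exists_appLE_essFiniteType (f := g) x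
  have hU : IsAffineOpen U.1 := U.2
  have hV : IsAffineOpen V.1 := V.2
  haveI : IsNoetherianRing Γ(Y, U.1) := IsLocallyNoetherian.component_noetherian U
  let iso := IsAffineOpen.arrowStalkMapIso g U.1 hU V.1 hV e hxV
  have hiso := ((MorphismProperty.isomorphisms CommRingCat).arrow_mk_iso_iff iso).mp
    ((MorphismProperty.isomorphisms.iff _).mpr ‹IsIso (g.stalkMap x)›)
  rw [MorphismProperty.isomorphisms.iff] at hiso
  have hpq : (hU.primeIdealOf ⟨g x, e hxV⟩).asIdeal =
      Ideal.comap (g.appLE U.1 V.1 e).hom (hV.primeIdealOf ⟨x, hxV⟩).asIdeal :=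
    congr($(IsAffineOpen.comap_primeIdealOf_appLE U.1 hU V.1 hV e hxV).1).symm
  have hbij : Function.Bijective (Localization.localRingHom _ _ _ hpq) :=
    (ConcreteCategory.isIso_iff_bijective _).mp hiso
  obtain ⟨c, hc, hloc⟩ := exists_away_isLocHom_of_essFiniteType (g.appLE U.1 V.1 e).hom hft _ _ hpq hbij
  have hxc : x ∈ X.basicOpen c := by
    have h1 : hV.primeIdealOf ⟨x, hxV⟩ ∈ hV.fromSpec ⁻¹ᵁ X.basicOpen c := by
      rw [hV.fromSpec_preimage_basicOpen]; exact hc
    have h2 := hV.fromSpec_primeIdealOf ⟨x, hxV⟩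
    change hV.fromSpec (hV.primeIdealOf ⟨x, hxV⟩) ∈ X.basicOpen c at h1
    rwa [h2] at h1
  have e' : X.basicOpen c ≤ g ⁻¹ᵁ U.1 := (X.basicOpen_le c).trans e
  refine ⟨U, ⟨X.basicOpen c, hV.basicOpen c⟩, hxc, e', ?_⟩
  have := hloc (X.presheaf.map (homOfLE (X.basicOpen_le c)).op).hom
    (hV.isLocalization_of_eq_basicOpen c (homOfLE (X.basicOpen_le c)) rfl)
  rwa [← CommRingCat.hom_comp, Scheme.Hom.appLE_map] at this


end Groth.Agent.Lib.Helper21.LocImmLib
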