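import Mathlib
import Groth.Agent.Lib.Helper21.LocImmSpread

set_option linter.style.haveILetI false
namespace Groth.Agent.Lib.Helper21.LocImmLib
open CategoryTheory AlgebraicGeometry TopologicalSpace Topology Limits

universe u

variable {X Y : Scheme.{u}}

/-- shrink the witnessing affine open of `LocAt` into a given open neighbourhood. -/
theorem LocAt.exists_le {f : X ⟶ Y} {x : X} (h : LocAt f x) (N : X.Opens) (hxN : x ∈ N) :
    ∃ (U : Y.affineOpens) (V : X.affineOpens) (_ : x ∈ V.1) (_ : V.1 ≤ N) (e : V.1 ≤ f ⁻¹ᵁ U.1),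
      LocImm.IsLocHom (f.appLE U V e).hom := by
  obtain ⟨U, V, hxV, e, hloc⟩ := h
  have hV : IsAffineOpen V.1 := V.2
  obtain ⟨c, hc, hxc⟩ := hV.exists_basicOpen_le (V := N ⊓ V.1) ⟨x, hxN, hxV⟩ hxV
  have e' : X.basicOpen c ≤ f ⁻¹ᵁ U.1 := (X.basicOpen_le c).trans e
  refine ⟨U, ⟨X.basicOpen c, hV.basicOpen c⟩, hxc, hc.trans inf_le_left, e', ?_⟩
  have h1 : LocImm.IsLocHom (X.presheaf.map (homOfLE (X.basicOpen_le c)).op).hom :=
    ⟨Submonoid.powers c, hV.isLocalization_of_eq_basicOpen c (homOfLE (X.basicOpen_le c)) rfl⟩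
  have := isLocHom_comp_cat hloc h1
  rwa [Scheme.Hom.appLE_map] at this

theorem isOpen_setOf_locAt (f : X ⟶ Y) : IsOpen {x : X | LocAt f x} := by
  rw [isOpen_iff_forall_mem_open]
  rintro x ⟨U, V, hxV, e, hloc⟩
  exact ⟨V.1, fun z hz => ⟨U, V, hz, e, hloc⟩, V.1.2, hxV⟩

theorem locAt_comp_left_of_locAt {X₀ : Scheme.{u}} (i : X₀ ⟶ X) [IsOpenImmersion i] (f : X ⟶ Y)
    (x₀ : X₀) (h : LocAt f (i x₀)) : LocAt (i ≫ f) x₀ := by
  obtain ⟨U, V, hxV, hVr, e, hloc⟩ := h.exists_le i.opensRange ⟨x₀, rfl⟩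
  have himg : i ''ᵁ (i ⁻¹ᵁ V.1) = V.1 := by
    rw [Scheme.Hom.image_preimage_eq_opensRange_inf]; exact inf_eq_right.mpr hVr
  have hV₀ : IsAffineOpen (i ⁻¹ᵁ V.1) := by
    rw [← Scheme.Hom.isAffineOpen_iff_of_isOpenImmersion i, himg]; exact V.2
  have e₀ : i ⁻¹ᵁ V.1 ≤ (i ≫ f) ⁻¹ᵁ U.1 := fun z hz => e hz
  refine ⟨U, ⟨i ⁻¹ᵁ V.1, hV₀⟩, hxV, e₀, ?_⟩
  have hcomp := Scheme.Hom.appLE_comp_appLE i f U.1 V.1 (i ⁻¹ᵁ V.1) e le_rfl
  rw [← hcomp, Scheme.Hom.appLE_eq_app]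
  haveI : IsIso (i.app V.1) := Scheme.Hom.isIso_app i V.1 hVr
  exact isLocHom_comp_cat hloc (isLocHom_of_isIso _)

theorem isIso_stalkMap_of_comp {Z : Scheme.{u}} (f₁ : X ⟶ Y) (g : Y ⟶ Z) (f₂ : X ⟶ Z)
    (h : f₁ ≫ g = f₂) (x : X) (h₁ : IsIso (f₁.stalkMap x)) (h₂ : IsIso (f₂.stalkMap x)) :
    IsIso (g.stalkMap (f₁ x)) := by
  subst h
  have h1 := Scheme.Hom.stalkMap_comp f₁ g x
  haveI : IsIso (g.stalkMap (f₁ x) ≫ f₁.stalkMap x) := by rw [← h1]; exact h₂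
  exact IsIso.of_isIso_comp_right (g.stalkMap (f₁ x)) (f₁.stalkMap x)

/-- In a Noetherian quasi-sober space, a generization-stable set `R` inside an open `L` has an open
neighbourhood inside `L` all of whose maximal points lie in `R`. -/
theorem exists_isOpen_maximal_mem {T : Type*} [TopologicalSpace T] [NoetherianSpace T]
    [QuasiSober T] (R : Set T) (hR : StableUnderGeneralization R) (L : Set T) (hL : IsOpen L)
    (hRL : R ⊆ L) :
    ∃ W : Set T, IsOpen W ∧ R ⊆ W ∧ W ⊆ L ∧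
      ∀ η ∈ W, (∀ η', η' ⤳ η → η' = η) → η ∈ R := by
  let 𝒮 : Set (Set T) := {Z ∈ irreducibleComponents T | Disjoint Z R}
  have hfin : 𝒮.Finite := NoetherianSpace.finite_irreducibleComponents.subset fun Z hZ => hZ.1
  have hB : IsClosed (⋃₀ 𝒮) := by
    rw [Set.sUnion_eq_biUnion]
    exact hfin.isClosed_biUnion fun Z hZ => isClosed_of_mem_irreducibleComponents Z hZ.1
  refine ⟨L ∩ (⋃₀ 𝒮)ᶜ, hL.inter hB.isOpen_compl, fun r hr => ⟨hRL hr, ?_⟩,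
    Set.inter_subset_left, ?_⟩
  · rintro ⟨Z, hZ, hrZ⟩
    exact Set.disjoint_left.mp hZ.2 hrZ hr
  · rintro η ⟨-, hηB⟩ hmax
    have hZ := irreducibleComponent_mem_irreducibleComponents η
    have hnd : ¬ Disjoint (irreducibleComponent η) R := fun hd =>
      hηB ⟨_, ⟨hZ, hd⟩, mem_irreducibleComponent⟩
    obtain ⟨r, hrZ, hrR⟩ := Set.not_disjoint_iff.mp hnd
    have hirr : IsIrreducible (irreducibleComponent η) := isIrreducible_irreducibleComponent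
    have hcl : IsClosed (irreducibleComponent η) := isClosed_irreducibleComponent
    have hgen := hirr.closure_genericPoint hcl
    have h1 : hirr.genericPoint ⤳ η := by
      rw [specializes_iff_mem_closure, hgen]; exact mem_irreducibleComponent
    have h2 := hmax _ h1
    have h3 : η ⤳ r := by
      rw [specializes_iff_mem_closure, ← h2, hgen]; exact hrZ
    exact hR h3 hrR

theorem maximal_of_isOpenImmersion {X₀ : Scheme.{u}} (i : X₀ ⟶ X) [IsOpenImmersion i] (u : X₀)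
    (hu : ∀ u' : X₀, u' ⤳ u → u' = u) : ∀ η' : X, η' ⤳ i u → η' = i u := by
  intro η' h
  obtain ⟨u', rfl⟩ : η' ∈ Set.range i :=
    h.mem_open i.isOpenEmbedding.isOpen_range ⟨u, rfl⟩
  rw [hu u' (i.isOpenEmbedding.isInducing.specializes_iff.mp h)]

/-- S18194: spreading out. -/
theorem exists_opens_isLocImmersion_of_comp {X Y₁ Y₂ : Scheme.{u}} [IsNoetherian Y₁]
    [IsLocallyNoetherian Y₂] (f₁ : X ⟶ Y₁) (f₂ : X ⟶ Y₂) (g : Y₁ ⟶ Y₂)
    (hf₁ : LocImm.IsLocImmersion f₁) (hf₂ : LocImm.IsLocImmersion f₂)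
    [IsSeparated g] [EssFT.LocallyEssFiniteType g] (h : f₁ ≫ g = f₂) :
    ∃ U : Y₁.Opens, Set.range (fun x => f₁ x) ⊆ (U : Set Y₁) ∧
      LocImm.IsLocImmersion (U.ι ≫ g) := by
  have hloc : ∀ x : X, LocAt g (f₁ x) := fun x => by
    haveI : IsIso (g.stalkMap (f₁ x)) := isIso_stalkMap_of_comp f₁ g f₂ h x
      (isIso_stalkMap_of_isLocalizing f₁ hf₁.1 x) (isIso_stalkMap_of_isLocalizing f₂ hf₂.1 x)
    exact locAt_of_isIso_stalkMap g (f₁ x)
  obtain ⟨W, hWo, hRW, hWL, hmax⟩ := exists_isOpen_maximal_mem (Set.range f₁)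
    (stableUnderGeneralization_range_of_isLocalizing f₁ hf₁.1) {y | LocAt g y}
    (isOpen_setOf_locAt g) (by rintro _ ⟨x, rfl⟩; exact hloc x)
  let U : Y₁.Opens := ⟨W, hWo⟩
  have hlocU : LocImm.IsLocalizing (U.ι ≫ g) := fun u =>
    locAt_comp_left_of_locAt U.ι g u (hWL u.2)
  refine ⟨U, hRW, hlocU, ?_⟩
  apply injective_of_isSeparated_of_injOn (U.ι ≫ g) hlocU
  intro u₁ hu₁ u₂ hu₂ h12
  have hm₁ := maximal_of_isOpenImmersion U.ι u₁ hu₁
  have hm₂ := maximal_of_isOpenImmersion U.ι u₂ hu₂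
  obtain ⟨x₁, hx₁⟩ := hmax (U.ι u₁) u₁.2 hm₁
  obtain ⟨x₂, hx₂⟩ := hmax (U.ι u₂) u₂.2 hm₂
  have h12' : g (U.ι u₁) = g (U.ι u₂) := by
    simpa [Scheme.Hom.comp_apply] using h12
  rw [← hx₁, ← hx₂, ← Scheme.Hom.comp_apply, ← Scheme.Hom.comp_apply, h] at h12'
  have hxx : x₁ = x₂ := hf₂.2 h12'
  apply U.ι.injective
  rw [← hx₁, ← hx₂, hxx]

end Groth.Agent.Lib.Helper21.LocImmLib
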