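import Mathlib
import Groth.Agent.Lib.Helper21.LocImmShrink

set_option linter.style.haveILetI false
namespace Groth.Agent.Lib.Helper21.LocImmLib
open CategoryTheory AlgebraicGeometry TopologicalSpace Topology Limits

universe u

variable {X Y : Scheme.{u}}

theorem quasiCompact_of_isNoetherian [IsNoetherian X] (f : X ⟶ Y) : QuasiCompact f :=
  ⟨fun _ _ _ => NoetherianSpace.isCompact _⟩

theorem isNoetherian_of_locallyOfFiniteType (f : X ⟶ Y) [LocallyOfFiniteType f] [QuasiCompact f]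
    [IsNoetherian Y] : IsNoetherian X :=
  { __ := LocallyOfFiniteType.isLocallyNoetherian f
    __ := QuasiCompact.compactSpace_of_compactSpace f }

theorem toImage_app_injective' (f : X ⟶ Y) [QuasiCompact f] (U : f.image.Opens) :
    Function.Injective (f.toImage.app U).hom :=
  TopCat.Presheaf.app_injective_of_stalkFunctor_map_injective (F := f.image.sheaf) f.toImage.c U
    (fun x _ => f.stalkFunctor_toImage_injective x)

/-- shrink the target affine open of `LocAt` into a given open neighbourhood of `f x`. -/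
theorem LocAt.exists_target_le {f : X ⟶ Y} {x : X} (h : LocAt f x) (N : Y.Opens)
    (hxN : f x ∈ N) :
    ∃ (U : Y.affineOpens) (V : X.affineOpens) (_ : x ∈ V.1) (_ : U.1 ≤ N)
      (e : V.1 ≤ f ⁻¹ᵁ U.1), LocImm.IsLocHom (f.appLE U V e).hom := by
  obtain ⟨U, V, hxV, e, hloc⟩ := h
  have hU : IsAffineOpen U.1 := U.2
  have hV : IsAffineOpen V.1 := V.2
  obtain ⟨a, ha, hxa⟩ := hU.exists_basicOpen_le (V := N ⊓ U.1) ⟨f x, hxN, e hxV⟩ (e hxV)
  have hloc' := isLocHom_appLE_basicOpen f hU hV e hloc a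
  refine ⟨⟨Y.basicOpen a, hU.basicOpen a⟩, ⟨X.basicOpen (f.appLE U.1 V.1 e a), hV.basicOpen _⟩,
    ?_, ha.trans inf_le_left, _, hloc'⟩
  change x ∈ X.basicOpen (f.appLE U.1 V.1 e a)
  rw [Scheme.basicOpen_appLE]
  exact ⟨hxV, hxa⟩

theorem locAt_of_comp_right_of_locAt {Y₀ : Scheme.{u}} (j : Y₀ ⟶ Y) [IsOpenImmersion j]
    (k : X ⟶ Y₀) (x : X) (h : LocAt (k ≫ j) x) : LocAt k x := by
  obtain ⟨U, V, hxV, hUr, e, hloc⟩ := h.exists_target_le j.opensRange ⟨k x, rfl⟩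
  have himg : j ''ᵁ (j ⁻¹ᵁ U.1) = U.1 := by
    rw [Scheme.Hom.image_preimage_eq_opensRange_inf]; exact inf_eq_right.mpr hUr
  have hU₀ : IsAffineOpen (j ⁻¹ᵁ U.1) := by
    rw [← Scheme.Hom.isAffineOpen_iff_of_isOpenImmersion j, himg]; exact U.2
  have e₀ : V.1 ≤ k ⁻¹ᵁ (j ⁻¹ᵁ U.1) := fun z hz => e hz
  refine ⟨⟨j ⁻¹ᵁ U.1, hU₀⟩, V, hxV, e₀, ?_⟩
  have hcomp := Scheme.Hom.appLE_comp_appLE k j U.1 (j ⁻¹ᵁ U.1) V.1 le_rfl e₀
  rw [← hcomp, Scheme.Hom.appLE_eq_app] at hloc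
  haveI : IsIso (j.app U.1) := Scheme.Hom.isIso_app j U.1 hUr
  exact isLocHom_of_isIso_comp _ _ hloc

theorem isLocImmersion_of_comp_isOpenImmersion {Y₀ : Scheme.{u}} (j : Y₀ ⟶ Y) [IsOpenImmersion j]
    (k : X ⟶ Y₀) (h : LocImm.IsLocImmersion (k ≫ j)) : LocImm.IsLocImmersion k :=
  ⟨fun x => locAt_of_comp_right_of_locAt j k x (h.1 x), fun x₁ x₂ h12 => h.2 (by
    rw [Scheme.Hom.comp_apply, Scheme.Hom.comp_apply, h12])⟩

theorem isLocImmersion_isOpenImmersion_comp {X₀ : Scheme.{u}} (i : X₀ ⟶ X) [IsOpenImmersion i]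
    (f : X ⟶ Y) (h : LocImm.IsLocImmersion f) : LocImm.IsLocImmersion (i ≫ f) :=
  ⟨fun x => locAt_comp_left_of_locAt i f x (h.1 (i x)), fun x₁ x₂ h12 => i.injective (h.2 (by
    simpa [Scheme.Hom.comp_apply] using h12))⟩

theorem isLocImmersion_ι_comp_of_le {U W : X.Opens} (hWU : W ≤ U) (g : X ⟶ Y)
    (h : LocImm.IsLocImmersion (U.ι ≫ g)) : LocImm.IsLocImmersion (W.ι ≫ g) := by
  rw [← X.homOfLE_ι hWU, Category.assoc]
  exact isLocImmersion_isOpenImmersion_comp _ _ h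

instance (priority := 100) locallyEssFiniteType_of_locallyOfFiniteType (f : X ⟶ Y)
    [LocallyOfFiniteType f] : EssFT.LocallyEssFiniteType f := by
  refine ⟨fun x => ?_⟩
  obtain ⟨U, hU, hxU, -⟩ := Opens.isBasis_iff_nbhd.mp Y.isBasis_affineOpens
    (Opens.mem_top (f x))
  obtain ⟨V, hV, hxV, e⟩ := Opens.isBasis_iff_nbhd.mp X.isBasis_affineOpens
    (show x ∈ f ⁻¹ᵁ U from hxU)
  exact ⟨⟨U, hU⟩, ⟨V, hV⟩, hxV, e,
    (HasRingHomProperty.appLE (P := @LocallyOfFiniteType) f inferInstance ⟨U, hU⟩ ⟨V, hV⟩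
      e).essFiniteType⟩

theorem exists_common_refinement {X Y₁ Y₂ S : Scheme.{u}} [IsNoetherian X] [IsNoetherian Y₁]
    [IsNoetherian Y₂] [IsNoetherian S]
    (f₁ : X ⟶ Y₁) (f₂ : X ⟶ Y₂) (π₁ : Y₁ ⟶ S) (π₂ : Y₂ ⟶ S)
    (hf₁ : LocImm.IsLocImmersion f₁) (hf₂ : LocImm.IsLocImmersion f₂)
    [IsSeparated π₁] [IsSeparated π₂] [LocallyOfFiniteType π₁] [LocallyOfFiniteType π₂]
    (h : f₁ ≫ π₁ = f₂ ≫ π₂) :
    ∃ W : (pullback.lift f₁ f₂ h).image.Opens,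
      Set.range (pullback.lift f₁ f₂ h).toImage ⊆ (W : Set (pullback.lift f₁ f₂ h).image) ∧
      LocImm.IsLocImmersion (pullback.lift f₁ f₂ h).toImage ∧
      IsOpenImmersion (W.ι ≫ (pullback.lift f₁ f₂ h).imageι ≫ pullback.fst π₁ π₂) ∧
      IsOpenImmersion (W.ι ≫ (pullback.lift f₁ f₂ h).imageι ≫ pullback.snd π₁ π₂) := by
  set j := pullback.lift f₁ f₂ h with hj
  haveI : QuasiCompact π₁ := quasiCompact_of_isNoetherian π₁
  haveI : QuasiCompact π₂ := quasiCompact_of_isNoetherian π₂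
  haveI : IsNoetherian (pullback π₁ π₂) :=
    isNoetherian_of_locallyOfFiniteType (pullback.snd π₁ π₂)
  haveI : QuasiCompact j := quasiCompact_of_isNoetherian j
  haveI : IsNoetherian j.image := isNoetherian_of_locallyOfFiniteType j.imageι
  have hq₁ : j.toImage ≫ j.imageι ≫ pullback.fst π₁ π₂ = f₁ := by
    rw [Scheme.Hom.toImage_imageι_assoc, hj, pullback.lift_fst]
  have hq₂ : j.toImage ≫ j.imageι ≫ pullback.snd π₁ π₂ = f₂ := by
    rw [Scheme.Hom.toImage_imageι_assoc, hj, pullback.lift_snd]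
  have hk : LocImm.IsLocImmersion j.toImage :=
    isLocImmersion_of_comp_of_app_injective j.toImage (j.imageι ≫ pullback.fst π₁ π₂)
      (hq₁ ▸ hf₁) (toImage_app_injective' j)
  obtain ⟨U₁, hU₁, hloc₁⟩ := exists_opens_isLocImmersion_of_comp j.toImage f₁ _ hk hf₁ hq₁
  obtain ⟨U₂, hU₂, hloc₂⟩ := exists_opens_isLocImmersion_of_comp j.toImage f₂ _ hk hf₂ hq₂
  refine ⟨U₁ ⊓ U₂, fun z hz => ⟨hU₁ hz, hU₂ hz⟩, hk, ?_, ?_⟩
  · exact isOpenImmersion_of_locallyOfFiniteType _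
      (isLocImmersion_ι_comp_of_le inf_le_left _ hloc₁)
  · exact isOpenImmersion_of_locallyOfFiniteType _
      (isLocImmersion_ι_comp_of_le inf_le_right _ hloc₂)

end Groth.Agent.Lib.Helper21.LocImmLib
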