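import Mathlib
import Groth.Agent.Lib.Helper21.LocImmRefine

/-!
# Gluing two schemes along a common open, gluing morphisms from two opens, separatedness of glued
-/

set_option linter.style.haveILetI false
namespace Groth.Agent.Lib.Helper21.LocImmLib
open CategoryTheory AlgebraicGeometry TopologicalSpace Topology Limits

universe u

theorem exists_glue_of_isOpenImmersion {W Y₁ Y₂ : Scheme.{u}} (g₁ : W ⟶ Y₁) (g₂ : W ⟶ Y₂)
    [IsOpenImmersion g₁] [IsOpenImmersion g₂] :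
    ∃ (Y : Scheme.{u}) (ι₁ : Y₁ ⟶ Y) (ι₂ : Y₂ ⟶ Y), IsOpenImmersion ι₁ ∧ IsOpenImmersion ι₂ ∧
      g₁ ≫ ι₁ = g₂ ≫ ι₂ ∧
      (∀ y : Y, y ∈ Set.range ι₁ ∨ y ∈ Set.range ι₂) ∧
      (∀ y₁ y₂, ι₁ y₁ = ι₂ y₂ → ∃ w, g₁ w = y₁ ∧ g₂ w = y₂) ∧
      (∀ {Z : Scheme.{u}} (c₁ : Y₁ ⟶ Z) (c₂ : Y₂ ⟶ Z), g₁ ≫ c₁ = g₂ ≫ c₂ →
        ∃ c : Y ⟶ Z, ι₁ ≫ c = c₁ ∧ ι₂ ≫ c = c₂) := by
  let F := span g₁ g₂
  haveI hF : ∀ {i j} (f : i ⟶ j), IsOpenImmersion (F.map f) := by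
    intro i j f
    obtain - | j := f
    · rw [WidePushoutShape.hom_id, F.map_id]; infer_instance
    · cases j
      · exact inferInstanceAs (IsOpenImmersion g₁)
      · exact inferInstanceAs (IsOpenImmersion g₂)
  haveI : HasPushout g₁ g₂ := inferInstanceAs (HasColimit F)
  refine ⟨pushout g₁ g₂, pushout.inl _ _, pushout.inr _ _, ?_, ?_, pushout.condition, ?_, ?_, ?_⟩
  · exact inferInstanceAs (IsOpenImmersion (colimit.ι F WalkingSpan.left))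
  · exact inferInstanceAs (IsOpenImmersion (colimit.ι F WalkingSpan.right))
  · intro y
    obtain ⟨i, yi, rfl⟩ := Scheme.IsLocallyDirected.ι_jointly_surjective F y
    obtain - | j := i
    · left
      refine ⟨g₁ yi, ?_⟩
      have := colimit.w F (WidePushoutShape.Hom.init WalkingPair.left)
      exact congr($this yi)
    · cases j
      · left; exact ⟨yi, rfl⟩
      · right; exact ⟨yi, rfl⟩
  · intro y₁ y₂ h
    obtain ⟨k, fi, fj, x, hx₁, hx₂⟩ := (Scheme.IsLocallyDirected.ι_eq_ι_iff F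
      (i := WalkingSpan.left) (j := WalkingSpan.right) (xi := y₁) (xj := y₂)).mp h
    obtain - | k := k
    · obtain - | _ := fi
      obtain - | _ := fj
      exact ⟨x, hx₁, hx₂⟩
    · cases k
      · exact (nomatch (fj : WidePushoutShape.Hom _ _))
      · exact (nomatch (fi : WidePushoutShape.Hom _ _))
  · intro Z c₁ c₂ hc
    exact ⟨pushout.desc c₁ c₂ hc, pushout.inl_desc _ _ _, pushout.inr_desc _ _ _⟩

theorem pullback_fst_comp_eq_of_homOfLE {X Y : Scheme.{u}} (V₁ V₂ V₁₂ : X.Opens) (h₁ : V₁₂ ≤ V₁)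
    (h₂ : V₁₂ ≤ V₂) (hinf : V₁ ⊓ V₂ ≤ V₁₂) (ψ₁ : (V₁ : Scheme.{u}) ⟶ Y)
    (ψ₂ : (V₂ : Scheme.{u}) ⟶ Y) (h : X.homOfLE h₁ ≫ ψ₁ = X.homOfLE h₂ ≫ ψ₂) :
    pullback.fst V₁.ι V₂.ι ≫ ψ₁ = pullback.snd V₁.ι V₂.ι ≫ ψ₂ := by
  have hr : Set.range (pullback.fst V₁.ι V₂.ι ≫ V₁.ι) ⊆ Set.range V₁₂.ι := by
    rintro _ ⟨z, rfl⟩
    rw [Scheme.Opens.range_ι]
    apply hinf
    refine ⟨?_, ?_⟩
    · rw [Scheme.Hom.comp_apply]; exact (pullback.fst V₁.ι V₂.ι z).2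
    · rw [pullback.condition, Scheme.Hom.comp_apply]; exact (pullback.snd V₁.ι V₂.ι z).2
  let c := IsOpenImmersion.lift V₁₂.ι (pullback.fst V₁.ι V₂.ι ≫ V₁.ι) hr
  have hc : c ≫ V₁₂.ι = pullback.fst V₁.ι V₂.ι ≫ V₁.ι := IsOpenImmersion.lift_fac _ _ _
  have hc₁ : c ≫ X.homOfLE h₁ = pullback.fst V₁.ι V₂.ι := by
    rw [← cancel_mono V₁.ι, Category.assoc, Scheme.homOfLE_ι, hc]
  have hc₂ : c ≫ X.homOfLE h₂ = pullback.snd V₁.ι V₂.ι := by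
    rw [← cancel_mono V₂.ι, Category.assoc, Scheme.homOfLE_ι, hc, pullback.condition]
  rw [← hc₁, ← hc₂, Category.assoc, Category.assoc, h]

theorem exists_glue_two_morphisms {X Y : Scheme.{u}} (U₁ U₂ : X.Opens) (hU : U₁ ⊔ U₂ = ⊤)
    (φ₁ : (U₁ : Scheme.{u}) ⟶ Y) (φ₂ : (U₂ : Scheme.{u}) ⟶ Y)
    (h : X.homOfLE (inf_le_left : U₁ ⊓ U₂ ≤ U₁) ≫ φ₁ =
      X.homOfLE (inf_le_right : U₁ ⊓ U₂ ≤ U₂) ≫ φ₂) :
    ∃ φ : X ⟶ Y, U₁.ι ≫ φ = φ₁ ∧ U₂.ι ≫ φ = φ₂ := by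
  let U : Bool → X.Opens := fun b => cond b U₁ U₂
  have hcov : IsOpenCover U := by
    rw [IsOpenCover, eq_top_iff, ← hU]
    exact sup_le (le_iSup U true) (le_iSup U false)
  let 𝒰 := X.openCoverOfIsOpenCover U hcov
  let ψ : ∀ b, 𝒰.X b ⟶ Y := fun b => match b with
    | true => φ₁
    | false => φ₂
  refine ⟨𝒰.glueMorphisms ψ ?_, 𝒰.ι_glueMorphisms ψ _ true, 𝒰.ι_glueMorphisms ψ _ false⟩
  intro b b'
  cases b <;> cases b'
  · exact pullback_fst_comp_eq_of_homOfLE U₂ U₂ (U₂ ⊓ U₂) inf_le_left inf_le_left le_rfl φ₂ φ₂ rfl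
  · exact pullback_fst_comp_eq_of_homOfLE U₂ U₁ (U₁ ⊓ U₂) inf_le_right inf_le_left
      (le_of_eq (inf_comm _ _)) φ₂ φ₁ h.symm
  · exact pullback_fst_comp_eq_of_homOfLE U₁ U₂ (U₁ ⊓ U₂) inf_le_left inf_le_right le_rfl φ₁ φ₂ h
  · exact pullback_fst_comp_eq_of_homOfLE U₁ U₁ (U₁ ⊓ U₁) inf_le_left inf_le_left le_rfl φ₁ φ₁ rfl

/-- closedness can be checked on a jointly surjective family of open embeddings. -/
theorem isClosed_of_forall_isClosed_preimage {Q : Type*} [TopologicalSpace Q] {ι : Type*}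
    {Z : ι → Type*} [∀ i, TopologicalSpace (Z i)] (e : ∀ i, Z i → Q)
    (he : ∀ i, IsOpenEmbedding (e i)) (hsurj : ∀ q, ∃ i, q ∈ Set.range (e i)) (s : Set Q)
    (hs : ∀ i, IsClosed (e i ⁻¹' s)) : IsClosed s := by
  rw [← isOpen_compl_iff, isOpen_iff_forall_mem_open]
  intro q hq
  obtain ⟨i, z, rfl⟩ := hsurj q
  refine ⟨e i '' (e i ⁻¹' s)ᶜ, ?_, (he i).isOpenMap _ (hs i).isOpen_compl, ⟨z, hq, rfl⟩⟩
  rintro _ ⟨z', hz', rfl⟩
  exact hz'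

section

variable {Ya Yb V Y S : Scheme.{u}} (ιa : Ya ⟶ Y) (ιb : Yb ⟶ Y) [IsOpenImmersion ιa]
  [IsOpenImmersion ιb] (va : V ⟶ Ya) (vb : V ⟶ Yb) (p : Y ⟶ S)

theorem preimage_range_diagonal_eq (hv : va ≫ ιa = vb ≫ ιb)
    (hint : ∀ ya yb, ιa ya = ιb yb → ∃ v, va v = ya ∧ vb v = yb) :
    (pullback.map (ιa ≫ p) (ιb ≫ p) p p ιa ιb (𝟙 S) (by simp) (by simp)) ⁻¹'
        (Set.range (pullback.diagonal p)) =
      Set.range (pullback.lift va vb (by rw [reassoc_of% hv]) :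
        V ⟶ pullback (ιa ≫ p) (ιb ≫ p)) := by
  set m := pullback.map (ιa ≫ p) (ιb ≫ p) p p ιa ιb (𝟙 S) (by simp) (by simp) with hm
  set γ : V ⟶ pullback (ιa ≫ p) (ιb ≫ p) := pullback.lift va vb (by rw [reassoc_of% hv]) with hγ
  have hm₁ : m ≫ pullback.fst p p = pullback.fst (ιa ≫ p) (ιb ≫ p) ≫ ιa :=
    pullback.lift_fst _ _ _
  have hm₂ : m ≫ pullback.snd p p = pullback.snd (ιa ≫ p) (ιb ≫ p) ≫ ιb :=
    pullback.lift_snd _ _ _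
  have hγ₁ : γ ≫ pullback.fst (ιa ≫ p) (ιb ≫ p) = va := pullback.lift_fst _ _ _
  have hγ₂ : γ ≫ pullback.snd (ιa ≫ p) (ιb ≫ p) = vb := pullback.lift_snd _ _ _
  have hcomp : γ ≫ m = (va ≫ ιa) ≫ pullback.diagonal p := by
    apply pullback.hom_ext
    · rw [Category.assoc, hm₁, reassoc_of% hγ₁, Category.assoc, pullback.diagonal_fst,
        Category.comp_id]
    · rw [Category.assoc, hm₂, reassoc_of% hγ₂, Category.assoc, pullback.diagonal_snd,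
        Category.comp_id, hv]
  ext z
  constructor
  · rintro ⟨y, hy⟩
    have h1 : ιa (pullback.fst (ιa ≫ p) (ιb ≫ p) z) = y := by
      have : pullback.fst p p (m z) = ιa (pullback.fst (ιa ≫ p) (ιb ≫ p) z) := by
        rw [← Scheme.Hom.comp_apply, ← Scheme.Hom.comp_apply, hm₁]
      rw [← this, ← hy, ← Scheme.Hom.comp_apply, pullback.diagonal_fst]; rfl
    have h2 : ιb (pullback.snd (ιa ≫ p) (ιb ≫ p) z) = y := by
      have : pullback.snd p p (m z) = ιb (pullback.snd (ιa ≫ p) (ιb ≫ p) z) := by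
        rw [← Scheme.Hom.comp_apply, ← Scheme.Hom.comp_apply, hm₂]
      rw [← this, ← hy, ← Scheme.Hom.comp_apply, pullback.diagonal_snd]; rfl
    obtain ⟨v, hv₁, hv₂⟩ := hint _ _ (h1.trans h2.symm)
    refine ⟨v, ?_⟩
    apply m.injective
    rw [← Scheme.Hom.comp_apply, hcomp, Scheme.Hom.comp_apply, Scheme.Hom.comp_apply, hv₁, h1, hy]
  · rintro ⟨v, rfl⟩
    refine ⟨(va ≫ ιa) v, ?_⟩
    rw [← Scheme.Hom.comp_apply, ← hcomp, Scheme.Hom.comp_apply]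

end

theorem exists_open_of_isClosed_preimage_map {Ya Yb Y S : Scheme.{u}} (ιa : Ya ⟶ Y) (ιb : Yb ⟶ Y)
    [IsOpenImmersion ιa] [IsOpenImmersion ιb] (p : Y ⟶ S) (D : Set ↑(pullback p p))
    (hD : IsClosed ((pullback.map (ιa ≫ p) (ιb ≫ p) p p ιa ιb (𝟙 S) (by simp) (by simp)) ⁻¹' D))
    (q : ↑(pullback p p)) (hqa : pullback.fst p p q ∈ Set.range ιa)
    (hqb : pullback.snd p p q ∈ Set.range ιb) (hq : q ∉ D) :
    ∃ N : Set ↑(pullback p p), N ⊆ Dᶜ ∧ IsOpen N ∧ q ∈ N := by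
  set m := pullback.map (ιa ≫ p) (ιb ≫ p) p p ιa ιb (𝟙 S) (by simp) (by simp) with hm
  have hr : q ∈ Set.range m := by
    rw [hm, Scheme.Pullback.range_map]; exact ⟨hqa, hqb⟩
  obtain ⟨z, rfl⟩ := hr
  refine ⟨m '' (m ⁻¹' D)ᶜ, ?_, m.isOpenEmbedding.isOpenMap _ hD.isOpen_compl, ⟨z, hq, rfl⟩⟩
  rintro _ ⟨z', hz', rfl⟩
  exact hz'

theorem isSeparated_of_glue {W Y₁ Y₂ Y S : Scheme.{u}} (g₁ : W ⟶ Y₁) (g₂ : W ⟶ Y₂)
    (ι₁ : Y₁ ⟶ Y) (ι₂ : Y₂ ⟶ Y) [IsOpenImmersion ι₁] [IsOpenImmersion ι₂]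
    (hg : g₁ ≫ ι₁ = g₂ ≫ ι₂)
    (hcov : ∀ y : Y, y ∈ Set.range ι₁ ∨ y ∈ Set.range ι₂)
    (hint : ∀ y₁ y₂, ι₁ y₁ = ι₂ y₂ → ∃ w, g₁ w = y₁ ∧ g₂ w = y₂)
    (p : Y ⟶ S) [IsSeparated (ι₁ ≫ p)] [IsSeparated (ι₂ ≫ p)]
    (hcl : IsClosed (Set.range (pullback.lift g₁ g₂ (by rw [reassoc_of% hg]) :
      W ⟶ pullback (ι₁ ≫ p) (ι₂ ≫ p)))) : IsSeparated p := by
  rw [isSeparated_iff]
  apply IsClosedImmersion.of_isPreimmersion
  have h11 := preimage_range_diagonal_eq ι₁ ι₁ (𝟙 Y₁) (𝟙 Y₁) p rfl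
    (fun ya yb h => ⟨ya, rfl, ι₁.injective h⟩)
  have h22 := preimage_range_diagonal_eq ι₂ ι₂ (𝟙 Y₂) (𝟙 Y₂) p rfl
    (fun ya yb h => ⟨ya, rfl, ι₂.injective h⟩)
  have h12 := preimage_range_diagonal_eq ι₁ ι₂ g₁ g₂ p hg hint
  have h21 := preimage_range_diagonal_eq ι₂ ι₁ g₂ g₁ p hg.symm
    (fun ya yb h => by obtain ⟨w, h1, h2⟩ := hint yb ya h.symm; exact ⟨w, h2, h1⟩)
  have c11 : IsClosed (Set.range (pullback.diagonal (ι₁ ≫ p))) :=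
    (pullback.diagonal (ι₁ ≫ p)).isClosedEmbedding.isClosed_range
  have c22 : IsClosed (Set.range (pullback.diagonal (ι₂ ≫ p))) :=
    (pullback.diagonal (ι₂ ≫ p)).isClosedEmbedding.isClosed_range
  have c21 : IsClosed (Set.range (pullback.lift g₂ g₁ (by rw [reassoc_of% hg]) :
      W ⟶ pullback (ι₂ ≫ p) (ι₁ ≫ p))) := by
    have hσ : (pullback.lift g₂ g₁ (by rw [reassoc_of% hg]) :
        W ⟶ pullback (ι₂ ≫ p) (ι₁ ≫ p)) ≫ (pullbackSymmetry _ _).hom =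
        pullback.lift g₁ g₂ (by rw [reassoc_of% hg]) := by
      apply pullback.hom_ext
      · rw [Category.assoc, pullbackSymmetry_hom_comp_fst, pullback.lift_snd, pullback.lift_fst]
      · rw [Category.assoc, pullbackSymmetry_hom_comp_snd, pullback.lift_fst, pullback.lift_snd]
    have : Set.range (pullback.lift g₂ g₁ (by rw [reassoc_of% hg]) :
        W ⟶ pullback (ι₂ ≫ p) (ι₁ ≫ p)) =
        (pullbackSymmetry (ι₂ ≫ p) (ι₁ ≫ p)).hom ⁻¹' (Set.range (pullback.lift g₁ g₂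
          (by rw [reassoc_of% hg]) : W ⟶ pullback (ι₁ ≫ p) (ι₂ ≫ p))) := by
      ext z
      constructor
      · rintro ⟨w, rfl⟩
        exact ⟨w, by rw [← hσ, Scheme.Hom.comp_apply]⟩
      · rintro ⟨w, hw⟩
        refine ⟨w, ?_⟩
        apply (pullbackSymmetry (ι₂ ≫ p) (ι₁ ≫ p)).hom.injective
        rw [← hw, ← hσ, Scheme.Hom.comp_apply]
    rw [this]
    exact hcl.preimage (pullbackSymmetry (ι₂ ≫ p) (ι₁ ≫ p)).hom.continuous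
  rw [← isOpen_compl_iff, isOpen_iff_forall_mem_open]
  intro q hq
  rcases hcov (pullback.fst p p q) with ha | ha <;> rcases hcov (pullback.snd p p q) with hb | hb
  · exact exists_open_of_isClosed_preimage_map ι₁ ι₁ p _ (h11 ▸ c11) q ha hb hq
  · exact exists_open_of_isClosed_preimage_map ι₁ ι₂ p _ (h12 ▸ hcl) q ha hb hq
  · exact exists_open_of_isClosed_preimage_map ι₂ ι₁ p _ (h21 ▸ c21) q ha hb hq
  · exact exists_open_of_isClosed_preimage_map ι₂ ι₂ p _ (h22 ▸ c22) q ha hb hq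

end Groth.Agent.Lib.Helper21.LocImmLib
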