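import Mathlib
import Groth.Agent.Lib.Helper21.LocImmGlue

set_option linter.style.haveILetI false
namespace Groth.Agent.Lib.Helper21.LocImmLib
open CategoryTheory AlgebraicGeometry TopologicalSpace Topology Limits

universe u

/-- finitely many "generic points" of a closed subset of a Noetherian quasi-sober space. -/
theorem exists_finite_generic_points {T : Type*} [TopologicalSpace T] [NoetherianSpace T]
    [QuasiSober T] (F : Set T) (hF : IsClosed F) :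
    ∃ G : Set T, G.Finite ∧ G ⊆ F ∧ ∀ t ∈ F, ∃ ξ ∈ G, ξ ⤳ t := by
  obtain ⟨𝒮, hfin, hcl, hirr, hU⟩ := NoetherianSpace.exists_finite_set_isClosed_irreducible hF
  have hex : ∀ C : 𝒮, ∃ ξ : T, closure {ξ} = C.1 := fun C =>
    ⟨(hirr C.1 C.2).genericPoint, (hirr C.1 C.2).closure_genericPoint (hcl C.1 C.2)⟩
  choose ξ hξ using hex
  haveI : Finite 𝒮 := hfin.to_subtype
  refine ⟨Set.range ξ, Set.finite_range ξ, ?_, ?_⟩
  · rintro _ ⟨C, rfl⟩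
    rw [hU]
    exact ⟨C.1, C.2, (hξ C) ▸ subset_closure rfl⟩
  · intro t ht
    rw [hU] at ht
    obtain ⟨C, hC, htC⟩ := ht
    refine ⟨ξ ⟨C, hC⟩, ⟨_, rfl⟩, ?_⟩
    rw [specializes_iff_mem_closure, hξ]
    exact htC

theorem closure_range_subset_specializes {A B : Type*} [TopologicalSpace A] [NoetherianSpace A]
    [QuasiSober A] [TopologicalSpace B] (j : A → B) (hj : Continuous j) (b : B)
    (hb : b ∈ closure (Set.range j)) : ∃ a, j a ⤳ b := by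
  obtain ⟨G, hGfin, -, hG⟩ := exists_finite_generic_points (Set.univ : Set A) isClosed_univ
  have hK : IsClosed (⋃ ξ ∈ G, closure {j ξ}) :=
    hGfin.isClosed_biUnion fun ξ _ => isClosed_closure
  have hsub : Set.range j ⊆ ⋃ ξ ∈ G, closure {j ξ} := by
    rintro _ ⟨a, rfl⟩
    obtain ⟨ξ, hξG, hξa⟩ := hG a trivial
    exact Set.mem_biUnion hξG ((hξa.map hj).mem_closed isClosed_closure (subset_closure rfl))
  have := hK.closure_subset_iff.mpr hsub hb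
  obtain ⟨ξ, -, hξ⟩ := Set.mem_iUnion₂.mp this
  exact ⟨ξ, specializes_iff_mem_closure.mpr hξ⟩

theorem exists_opens_of_forall_not_and {T Y₁ Y₂ : Type*} [TopologicalSpace T] [NoetherianSpace T]
    [QuasiSober T] [TopologicalSpace Y₁] [TopologicalSpace Y₂] (φ₁ : T → Y₁) (φ₂ : T → Y₂)
    (hφ₁ : Continuous φ₁) (hφ₂ : Continuous φ₂) (R₁ : Set Y₁) (R₂ : Set Y₂)
    (hR₁ : StableUnderGeneralization R₁) (hR₂ : StableUnderGeneralization R₂)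
    (F : Set T) (hF : IsClosed F) (hFR : ∀ t ∈ F, ¬ (φ₁ t ∈ R₁ ∧ φ₂ t ∈ R₂)) :
    ∃ (O₁ : Set Y₁) (O₂ : Set Y₂), IsOpen O₁ ∧ IsOpen O₂ ∧ R₁ ⊆ O₁ ∧ R₂ ⊆ O₂ ∧
      ∀ t ∈ F, ¬ (φ₁ t ∈ O₁ ∧ φ₂ t ∈ O₂) := by
  obtain ⟨G, hGfin, hGF, hG⟩ := exists_finite_generic_points F hF
  have hB₁ : IsClosed (⋃ ξ ∈ {ξ ∈ G | φ₁ ξ ∉ R₁}, closure {φ₁ ξ}) :=
    (hGfin.subset (Set.sep_subset _ _)).isClosed_biUnion fun ξ _ => isClosed_closure
  have hB₂ : IsClosed (⋃ ξ ∈ {ξ ∈ G | φ₂ ξ ∉ R₂}, closure {φ₂ ξ}) :=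
    (hGfin.subset (Set.sep_subset _ _)).isClosed_biUnion fun ξ _ => isClosed_closure
  refine ⟨_, _, hB₁.isOpen_compl, hB₂.isOpen_compl, ?_, ?_, ?_⟩
  · intro r hr hrB
    obtain ⟨ξ, hξ, hrξ⟩ := Set.mem_iUnion₂.mp hrB
    exact hξ.2 (hR₁ (specializes_iff_mem_closure.mpr hrξ) hr)
  · intro r hr hrB
    obtain ⟨ξ, hξ, hrξ⟩ := Set.mem_iUnion₂.mp hrB
    exact hξ.2 (hR₂ (specializes_iff_mem_closure.mpr hrξ) hr)
  · rintro t ht ⟨h1, h2⟩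
    obtain ⟨ξ, hξG, hξt⟩ := hG t ht
    by_cases hc : φ₁ ξ ∈ R₁
    · have hc₂ : φ₂ ξ ∉ R₂ := fun h => hFR ξ (hGF hξG) ⟨hc, h⟩
      exact h2 (Set.mem_biUnion (show ξ ∈ {ξ ∈ G | φ₂ ξ ∉ R₂} from ⟨hξG, hc₂⟩)
        (specializes_iff_mem_closure.mp (hξt.map hφ₂)))
    · exact h1 (Set.mem_biUnion (show ξ ∈ {ξ ∈ G | φ₁ ξ ∉ R₁} from ⟨hξG, hc⟩)
        (specializes_iff_mem_closure.mp (hξt.map hφ₁)))

instance isNoetherian_opens {X : Scheme.{u}} [IsNoetherian X] (U : X.Opens) :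
    IsNoetherian (U : Scheme.{u}) :=
  { __ := (inferInstance : IsLocallyNoetherian (U : Scheme.{u}))
    __ := (@NoetherianSpace.compactSpace _ _ (NoetherianSpace.set (U : Set X)) : CompactSpace ↥U) }

theorem mem_range_of_mem_closure_range {X S Y₁ Y₂ : Scheme.{u}} [IsNoetherian X] (f : X ⟶ S)
    [IsSeparated f] (U₁ U₂ : X.Opens) (k₁ : (U₁ : Scheme.{u}) ⟶ Y₁) (k₂ : (U₂ : Scheme.{u}) ⟶ Y₂)
    (p₁ : Y₁ ⟶ S) (p₂ : Y₂ ⟶ S) [Flat k₁] [Flat k₂] [Mono k₁] [Mono k₂]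
    (h₁ : k₁ ≫ p₁ = U₁.ι ≫ f) (h₂ : k₂ ≫ p₂ = U₂.ι ≫ f)
    (j : ((U₁ ⊓ U₂ : X.Opens) : Scheme.{u}) ⟶ pullback p₁ p₂)
    (hj₁ : j ≫ pullback.fst p₁ p₂ = X.homOfLE inf_le_left ≫ k₁)
    (hj₂ : j ≫ pullback.snd p₁ p₂ = X.homOfLE inf_le_right ≫ k₂)
    (t : ↑(pullback p₁ p₂)) (ht : t ∈ closure (Set.range j))
    (ht₁ : pullback.fst p₁ p₂ t ∈ Set.range k₁) (ht₂ : pullback.snd p₁ p₂ t ∈ Set.range k₂) :
    t ∈ Set.range j := by
  let a₁ : ((U₁ ⊓ U₂ : X.Opens) : Scheme.{u}) ⟶ U₁ := X.homOfLE inf_le_left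
  let a₂ : ((U₁ ⊓ U₂ : X.Opens) : Scheme.{u}) ⟶ U₂ := X.homOfLE inf_le_right
  have ha : a₁ ≫ U₁.ι = a₂ ≫ U₂.ι := by simp only [a₁, a₂, Scheme.homOfLE_ι]
  let κ := pullback.map (U₁.ι ≫ f) (U₂.ι ≫ f) p₁ p₂ k₁ k₂ (𝟙 S)
    ((Category.comp_id _).trans h₁.symm) ((Category.comp_id _).trans h₂.symm)
  have hκflat : Flat κ := MorphismProperty.pullbackMap (P := @Flat) ‹Flat k₁› ‹Flat k₂› h₁.symm h₂.symm
  have hκmono : Mono κ := MorphismProperty.pullbackMap (P := MorphismProperty.monomorphisms Scheme.{u})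
    (MorphismProperty.monomorphisms.infer_property k₁)
    (MorphismProperty.monomorphisms.infer_property k₂) h₁.symm h₂.symm
  let Δ' : ((U₁ ⊓ U₂ : X.Opens) : Scheme.{u}) ⟶ pullback (U₁.ι ≫ f) (U₂.ι ≫ f) :=
    pullback.lift a₁ a₂ (by rw [reassoc_of% ha])
  have hΔκ : Δ' ≫ κ = j := by
    apply pullback.hom_ext
    · rw [Category.assoc, pullback.lift_fst, pullback.lift_fst_assoc, hj₁]
    · rw [Category.assoc, pullback.lift_snd, pullback.lift_snd_assoc, hj₂]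
  have hclosed : IsClosed (Set.range Δ') := by
    have := preimage_range_diagonal_eq U₁.ι U₂.ι a₁ a₂ f ha (by
      intro ya yb h
      have hab : U₁.ι ya = U₂.ι yb := h
      have hm₁ : U₁.ι ya ∈ U₁ := ya.2
      have hm₂ : U₁.ι ya ∈ U₂ := hab ▸ yb.2
      refine ⟨⟨U₁.ι ya, hm₁, hm₂⟩, ?_, ?_⟩
      · exact Subtype.ext (Scheme.homOfLE_apply _ _)
      · exact Subtype.ext ((Scheme.homOfLE_apply _ _).trans hab))
    rw [← this]
    exact (pullback.diagonal f).isClosedEmbedding.isClosed_range.preimage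
      (Scheme.Hom.continuous _)
  have hrκ : t ∈ Set.range κ := by
    rw [Scheme.Pullback.range_map]; exact ⟨ht₁, ht₂⟩
  obtain ⟨q, rfl⟩ := hrκ
  obtain ⟨u, hu⟩ := closure_range_subset_specializes j j.continuous _ ht
  obtain ⟨q', hq', e⟩ := Flat.generalizingMap κ hu
  have hq'eq : q' = Δ' u := by
    apply κ.injective
    rw [e, ← hΔκ, Scheme.Hom.comp_apply]
  rw [hq'eq] at hq'
  have hq : q ∈ Set.range Δ' := hq'.mem_closed hclosed ⟨u, rfl⟩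
  obtain ⟨u', rfl⟩ := hq
  exact ⟨u', by rw [← hΔκ, Scheme.Hom.comp_apply]⟩

end Groth.Agent.Lib.Helper21.LocImmLib
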