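import Mathlib
import Groth.Agent.Lib.Helper21.LocImmGlueTop

set_option linter.style.haveILetI false
namespace Groth.Agent.Lib.Helper21.LocImmLib
open CategoryTheory AlgebraicGeometry TopologicalSpace Topology Limits

universe u

theorem exists_glue_data {X S : Scheme.{u}} [IsNoetherian X] [IsNoetherian S] (f : X ⟶ S)
    [IsSeparated f] (U₁ U₂ : X.Opens) (Y₁ Y₂ : Scheme.{u}) [IsNoetherian Y₁] [IsNoetherian Y₂]
    (k₁ : (U₁ : Scheme.{u}) ⟶ Y₁) (k₂ : (U₂ : Scheme.{u}) ⟶ Y₂) (p₁ : Y₁ ⟶ S) (p₂ : Y₂ ⟶ S)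
    (hk₁ : LocImm.IsLocImmersion k₁) (hk₂ : LocImm.IsLocImmersion k₂)
    [IsSeparated p₁] [IsSeparated p₂] [LocallyOfFiniteType p₁] [LocallyOfFiniteType p₂]
    (h₁ : k₁ ≫ p₁ = U₁.ι ≫ f) (h₂ : k₂ ≫ p₂ = U₂.ι ≫ f) :
    ∃ (W : Scheme.{u}) (kW : ((U₁ ⊓ U₂ : X.Opens) : Scheme.{u}) ⟶ W) (V₁ : Y₁.Opens)
      (V₂ : Y₂.Opens) (g₁ : W ⟶ V₁) (g₂ : W ⟶ V₂),
      Set.range k₁ ⊆ (V₁ : Set Y₁) ∧ Set.range k₂ ⊆ (V₂ : Set Y₂) ∧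
      IsOpenImmersion g₁ ∧ IsOpenImmersion g₂ ∧ Function.Injective kW ∧
      ∃ (hc : g₁ ≫ V₁.ι ≫ p₁ = g₂ ≫ V₂.ι ≫ p₂),
      kW ≫ g₁ ≫ V₁.ι = X.homOfLE inf_le_left ≫ k₁ ∧
      kW ≫ g₂ ≫ V₂.ι = X.homOfLE inf_le_right ≫ k₂ ∧
      (∀ (u : U₁) (w : W), k₁ u = (g₁ ≫ V₁.ι) w → U₁.ι u ∈ U₂) ∧
      (∀ (u : U₂) (w : W), k₂ u = (g₂ ≫ V₂.ι) w → U₂.ι u ∈ U₁) ∧
      IsClosed (Set.range (pullback.lift g₁ g₂ hc : W ⟶ pullback (V₁.ι ≫ p₁) (V₂.ι ≫ p₂))) := by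
  -- Step 1
  let a₁ : ((U₁ ⊓ U₂ : X.Opens) : Scheme.{u}) ⟶ U₁ := X.homOfLE inf_le_left
  let a₂ : ((U₁ ⊓ U₂ : X.Opens) : Scheme.{u}) ⟶ U₂ := X.homOfLE inf_le_right
  have ha₁ : a₁ ≫ U₁.ι = (U₁ ⊓ U₂).ι := X.homOfLE_ι _
  have ha₂ : a₂ ≫ U₂.ι = (U₁ ⊓ U₂).ι := X.homOfLE_ι _
  have hf₁ : LocImm.IsLocImmersion (a₁ ≫ k₁) := isLocImmersion_isOpenImmersion_comp a₁ k₁ hk₁
  have hf₂ : LocImm.IsLocImmersion (a₂ ≫ k₂) := isLocImmersion_isOpenImmersion_comp a₂ k₂ hk₂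
  have hcomp : (a₁ ≫ k₁) ≫ p₁ = (a₂ ≫ k₂) ≫ p₂ := by
    rw [Category.assoc, Category.assoc, h₁, h₂, reassoc_of% ha₁, reassoc_of% ha₂]
  -- Step 2
  let j := pullback.lift (a₁ ≫ k₁) (a₂ ≫ k₂) hcomp
  obtain ⟨W₀, hW₀, hτ, hq₁, hq₂⟩ : ∃ W : j.image.Opens,
      Set.range j.toImage ⊆ (W : Set j.image) ∧ LocImm.IsLocImmersion j.toImage ∧
      IsOpenImmersion (W.ι ≫ j.imageι ≫ pullback.fst p₁ p₂) ∧
      IsOpenImmersion (W.ι ≫ j.imageι ≫ pullback.snd p₁ p₂) :=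
    exists_common_refinement (a₁ ≫ k₁) (a₂ ≫ k₂) p₁ p₂ hf₁ hf₂ hcomp
  have hj₁ : j ≫ pullback.fst p₁ p₂ = a₁ ≫ k₁ := pullback.lift_fst _ _ _
  have hj₂ : j ≫ pullback.snd p₁ p₂ = a₂ ≫ k₂ := pullback.lift_snd _ _ _
  haveI : IsNoetherian (pullback p₁ p₂) :=
    isNoetherian_of_locallyOfFiniteType (pullback.snd p₁ p₂)
  haveI : IsNoetherian j.image := isNoetherian_of_locallyOfFiniteType j.imageι
  let φ₁ : j.image ⟶ Y₁ := j.imageι ≫ pullback.fst p₁ p₂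
  let φ₂ : j.image ⟶ Y₂ := j.imageι ≫ pullback.snd p₁ p₂
  have hτφ₁ : j.toImage ≫ φ₁ = a₁ ≫ k₁ := by
    simp only [φ₁, Scheme.Hom.toImage_imageι_assoc, hj₁]
  have hτφ₂ : j.toImage ≫ φ₂ = a₂ ≫ k₂ := by
    simp only [φ₂, Scheme.Hom.toImage_imageι_assoc, hj₂]
  -- Step 3
  let s₁ : Set ↥U₁ := {u | U₁.ι u ∉ U₂}
  let s₂ : Set ↥U₂ := {u | U₂.ι u ∉ U₁}
  have hs₁ : IsClosed s₁ := (U₂.2.preimage U₁.ι.continuous).isClosed_compl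
  have hs₂ : IsClosed s₂ := (U₁.2.preimage U₂.ι.continuous).isClosed_compl
  have hZ₁ : ∀ u : U₁, k₁ u ∈ closure (k₁ '' s₁) → U₁.ι u ∉ U₂ := by
    intro u hu
    have hemb := isEmbedding_of_isLocImmersion k₁ hk₁
    have h := hemb.isInducing.closure_eq_preimage_closure_image s₁
    have hu' : u ∈ closure s₁ := h.ge hu
    rw [hs₁.closure_eq] at hu'
    exact hu'
  have hZ₂ : ∀ u : U₂, k₂ u ∈ closure (k₂ '' s₂) → U₂.ι u ∉ U₁ := by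
    intro u hu
    have hemb := isEmbedding_of_isLocImmersion k₂ hk₂
    have h := hemb.isInducing.closure_eq_preimage_closure_image s₂
    have hu' : u ∈ closure s₂ := h.ge hu
    rw [hs₂.closure_eq] at hu'
    exact hu'
  -- Step 4
  let Z₁c : Y₁.Opens := ⟨(closure (k₁ '' s₁))ᶜ, isClosed_closure.isOpen_compl⟩
  let Z₂c : Y₂.Opens := ⟨(closure (k₂ '' s₂))ᶜ, isClosed_closure.isOpen_compl⟩
  let W₁ : j.image.Opens := W₀ ⊓ φ₁ ⁻¹ᵁ Z₁c ⊓ φ₂ ⁻¹ᵁ Z₂c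
  have hτW₁ : ∀ u, j.toImage u ∈ W₁ := by
    intro u
    refine ⟨⟨hW₀ ⟨u, rfl⟩, ?_⟩, ?_⟩
    · change φ₁ (j.toImage u) ∉ closure (k₁ '' s₁)
      rw [← Scheme.Hom.comp_apply, hτφ₁, Scheme.Hom.comp_apply]
      intro hmem
      apply hZ₁ (a₁ u) hmem
      rw [← Scheme.Hom.comp_apply, ha₁]
      exact u.2.2
    · change φ₂ (j.toImage u) ∉ closure (k₂ '' s₂)
      rw [← Scheme.Hom.comp_apply, hτφ₂, Scheme.Hom.comp_apply]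
      intro hmem
      apply hZ₂ (a₂ u) hmem
      rw [← Scheme.Hom.comp_apply, ha₂]
      exact u.2.1
  -- Step 5
  haveI : Flat k₁ := flat_of_isLocalizing k₁ hk₁.1
  haveI : Flat k₂ := flat_of_isLocalizing k₂ hk₂.1
  haveI : Mono k₁ := mono_of_isLocImmersion k₁ hk₁
  haveI : Mono k₂ := mono_of_isLocImmersion k₂ hk₂
  have hclaim : ∀ t : j.image, φ₁ t ∈ Set.range k₁ → φ₂ t ∈ Set.range k₂ →
      t ∈ Set.range j.toImage := by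
    intro t ht₁ ht₂
    have hcl : j.imageι t ∈ closure (Set.range j) := by
      rw [← Scheme.Hom.support_ker, ← Scheme.IdealSheafData.range_subschemeι]; exact ⟨t, rfl⟩
    obtain ⟨u, hu⟩ := mem_range_of_mem_closure_range f U₁ U₂ k₁ k₂ p₁ p₂ h₁ h₂ j hj₁ hj₂ _ hcl
      ht₁ ht₂
    refine ⟨u, ?_⟩
    apply j.imageι.injective
    rw [← Scheme.Hom.comp_apply, Scheme.Hom.toImage_imageι, hu]
  -- Step 6
  obtain ⟨O₁, O₂, hO₁, hO₂, hRO₁, hRO₂, hFO⟩ := exists_opens_of_forall_not_and φ₁ φ₂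
    φ₁.continuous φ₂.continuous (Set.range k₁) (Set.range k₂)
    (stableUnderGeneralization_range_of_isLocalizing k₁ hk₁.1)
    (stableUnderGeneralization_range_of_isLocalizing k₂ hk₂.1)
    (W₁ : Set j.image)ᶜ W₁.2.isClosed_compl
    (by
      rintro t ht ⟨h1, h2⟩
      obtain ⟨u, rfl⟩ := hclaim t h1 h2
      exact ht (hτW₁ u))
  let V₁ : Y₁.Opens := ⟨O₁, hO₁⟩
  let V₂ : Y₂.Opens := ⟨O₂, hO₂⟩
  -- Step 7
  let W₂ : j.image.Opens := W₁ ⊓ φ₁ ⁻¹ᵁ V₁ ⊓ φ₂ ⁻¹ᵁ V₂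
  have hkey : ∀ t : j.image, φ₁ t ∈ V₁ → φ₂ t ∈ V₂ → t ∈ W₂ := by
    intro t h1 h2
    have : t ∈ W₁ := by
      by_contra hn
      exact hFO t hn ⟨h1, h2⟩
    exact ⟨⟨this, h1⟩, h2⟩
  have hτW₂ : ∀ u, j.toImage u ∈ W₂ := by
    intro u
    apply hkey
    · apply hRO₁
      rw [← Scheme.Hom.comp_apply, hτφ₁, Scheme.Hom.comp_apply]
      exact ⟨_, rfl⟩
    · apply hRO₂
      rw [← Scheme.Hom.comp_apply, hτφ₂, Scheme.Hom.comp_apply]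
      exact ⟨_, rfl⟩
  -- Step 8
  have hW₂W₀ : W₂ ≤ W₀ :=
    inf_le_left.trans (inf_le_left.trans (inf_le_left.trans inf_le_left))
  have hW₂W₁ : W₂ ≤ W₁ := inf_le_left.trans inf_le_left
  have hr₁ : Set.range (W₂.ι ≫ φ₁) ⊆ Set.range V₁.ι := by
    rintro _ ⟨w, rfl⟩
    rw [Scheme.Opens.range_ι]
    exact w.2.1.2
  have hr₂ : Set.range (W₂.ι ≫ φ₂) ⊆ Set.range V₂.ι := by
    rintro _ ⟨w, rfl⟩
    rw [Scheme.Opens.range_ι]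
    exact w.2.2
  let g₁ : (W₂ : Scheme.{u}) ⟶ V₁ := IsOpenImmersion.lift V₁.ι (W₂.ι ≫ φ₁) hr₁
  let g₂ : (W₂ : Scheme.{u}) ⟶ V₂ := IsOpenImmersion.lift V₂.ι (W₂.ι ≫ φ₂) hr₂
  have hg₁ : g₁ ≫ V₁.ι = W₂.ι ≫ φ₁ := IsOpenImmersion.lift_fac _ _ _
  have hg₂ : g₂ ≫ V₂.ι = W₂.ι ≫ φ₂ := IsOpenImmersion.lift_fac _ _ _
  haveI : IsOpenImmersion (W₂.ι ≫ φ₁) := by
    rw [← j.image.homOfLE_ι hW₂W₀, Category.assoc]; infer_instance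
  haveI : IsOpenImmersion (W₂.ι ≫ φ₂) := by
    rw [← j.image.homOfLE_ι hW₂W₀, Category.assoc]; infer_instance
  haveI hg₁o : IsOpenImmersion g₁ := by
    haveI : IsOpenImmersion (g₁ ≫ V₁.ι) := hg₁ ▸ inferInstance
    exact IsOpenImmersion.of_comp g₁ V₁.ι
  haveI hg₂o : IsOpenImmersion g₂ := by
    haveI : IsOpenImmersion (g₂ ≫ V₂.ι) := hg₂ ▸ inferInstance
    exact IsOpenImmersion.of_comp g₂ V₂.ι
  have hrτ : Set.range j.toImage ⊆ Set.range W₂.ι := by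
    rintro _ ⟨u, rfl⟩
    rw [Scheme.Opens.range_ι]
    exact hτW₂ u
  let kW : ((U₁ ⊓ U₂ : X.Opens) : Scheme.{u}) ⟶ W₂ := IsOpenImmersion.lift W₂.ι j.toImage hrτ
  have hkW : kW ≫ W₂.ι = j.toImage := IsOpenImmersion.lift_fac _ _ _
  have hkWinj : Function.Injective kW := by
    intro x₁ x₂ h12
    apply hτ.2
    rw [← hkW, Scheme.Hom.comp_apply, Scheme.Hom.comp_apply, h12]
  -- Step 9
  have hc : g₁ ≫ V₁.ι ≫ p₁ = g₂ ≫ V₂.ι ≫ p₂ := by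
    rw [reassoc_of% hg₁, reassoc_of% hg₂]
    simp only [φ₁, φ₂, Category.assoc, pullback.condition]
  refine ⟨W₂, kW, V₁, V₂, g₁, g₂, hRO₁, hRO₂, hg₁o, hg₂o, hkWinj, hc, ?_, ?_, ?_, ?_, ?_⟩
  · rw [hg₁, reassoc_of% hkW, hτφ₁]
  · rw [hg₂, reassoc_of% hkW, hτφ₂]
  · intro u w huw
    by_contra hn
    have h1 : k₁ u ∈ closure (k₁ '' s₁) := subset_closure ⟨u, hn, rfl⟩
    rw [huw, hg₁, Scheme.Hom.comp_apply] at h1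
    exact (hW₂W₁ w.2).1.2 h1
  · intro u w huw
    by_contra hn
    have h1 : k₂ u ∈ closure (k₂ '' s₂) := subset_closure ⟨u, hn, rfl⟩
    rw [huw, hg₂, Scheme.Hom.comp_apply] at h1
    exact (hW₂W₁ w.2).2 h1
  · let m' := pullback.map (V₁.ι ≫ p₁) (V₂.ι ≫ p₂) p₁ p₂ V₁.ι V₂.ι (𝟙 S) (by simp) (by simp)
    have hm₁ : m' ≫ pullback.fst p₁ p₂ = pullback.fst (V₁.ι ≫ p₁) (V₂.ι ≫ p₂) ≫ V₁.ι :=
      pullback.lift_fst _ _ _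
    have hm₂ : m' ≫ pullback.snd p₁ p₂ = pullback.snd (V₁.ι ≫ p₁) (V₂.ι ≫ p₂) ≫ V₂.ι :=
      pullback.lift_snd _ _ _
    have hγm : (pullback.lift g₁ g₂ hc : (W₂ : Scheme.{u}) ⟶ pullback (V₁.ι ≫ p₁) (V₂.ι ≫ p₂)) ≫ m' =
        W₂.ι ≫ j.imageι := by
      apply pullback.hom_ext
      · rw [Category.assoc, hm₁, pullback.lift_fst_assoc, hg₁, Category.assoc]
      · rw [Category.assoc, hm₂, pullback.lift_snd_assoc, hg₂, Category.assoc]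
    have heq : Set.range (pullback.lift g₁ g₂ hc :
        (W₂ : Scheme.{u}) ⟶ pullback (V₁.ι ≫ p₁) (V₂.ι ≫ p₂)) =
        m' ⁻¹' (Set.range j.imageι) := by
      ext z
      constructor
      · rintro ⟨w, rfl⟩
        exact ⟨W₂.ι w, by rw [← Scheme.Hom.comp_apply, ← hγm, Scheme.Hom.comp_apply]⟩
      · rintro ⟨t, ht⟩
        have h1 : φ₁ t ∈ V₁ := by
          change pullback.fst p₁ p₂ (j.imageι t) ∈ V₁
          rw [ht, ← Scheme.Hom.comp_apply, hm₁, Scheme.Hom.comp_apply]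
          exact (pullback.fst (V₁.ι ≫ p₁) (V₂.ι ≫ p₂) z).2
        have h2 : φ₂ t ∈ V₂ := by
          change pullback.snd p₁ p₂ (j.imageι t) ∈ V₂
          rw [ht, ← Scheme.Hom.comp_apply, hm₂, Scheme.Hom.comp_apply]
          exact (pullback.snd (V₁.ι ≫ p₁) (V₂.ι ≫ p₂) z).2
        have htW : t ∈ W₂ := hkey t h1 h2
        refine ⟨⟨t, htW⟩, ?_⟩
        apply m'.injective
        have e1 : m' ((pullback.lift g₁ g₂ hc :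
            (W₂ : Scheme.{u}) ⟶ pullback (V₁.ι ≫ p₁) (V₂.ι ≫ p₂)) ⟨t, htW⟩) =
            j.imageι (W₂.ι ⟨t, htW⟩) := congr($hγm ⟨t, htW⟩)
        exact e1.trans ht
    rw [heq]
    exact j.imageι.isClosedEmbedding.isClosed_range.preimage m'.continuous

end Groth.Agent.Lib.Helper21.LocImmLib
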