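import Mathlib
import Groth.Agent.Lib.Helper21.LocImmGlueData

set_option linter.style.haveILetI false
namespace Groth.Agent.Lib.Helper21.LocImmLib
open CategoryTheory AlgebraicGeometry TopologicalSpace Topology Limits

universe u

theorem isSeparated_of_glue' {W Y₁ Y₂ Y S : Scheme.{u}} (g₁ : W ⟶ Y₁) (g₂ : W ⟶ Y₂)
    (ι₁ : Y₁ ⟶ Y) (ι₂ : Y₂ ⟶ Y) [IsOpenImmersion ι₁] [IsOpenImmersion ι₂]
    (hg : g₁ ≫ ι₁ = g₂ ≫ ι₂)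
    (hcov : ∀ y : Y, y ∈ Set.range ι₁ ∨ y ∈ Set.range ι₂)
    (hint : ∀ y₁ y₂, ι₁ y₁ = ι₂ y₂ → ∃ w, g₁ w = y₁ ∧ g₂ w = y₂)
    (p : Y ⟶ S) (p₁ : Y₁ ⟶ S) (p₂ : Y₂ ⟶ S) (hp₁ : ι₁ ≫ p = p₁) (hp₂ : ι₂ ≫ p = p₂)
    [IsSeparated p₁] [IsSeparated p₂] (hc : g₁ ≫ p₁ = g₂ ≫ p₂)
    (hcl : IsClosed (Set.range (pullback.lift g₁ g₂ hc : W ⟶ pullback p₁ p₂))) :
    IsSeparated p := by
  subst hp₁ hp₂
  exact isSeparated_of_glue g₁ g₂ ι₁ ι₂ hg hcov hint p hcl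

theorem of_two_cover (P : MorphismProperty Scheme.{u}) [IsZariskiLocalAtSource P]
    {Y₁ Y₂ Y S : Scheme.{u}} (ι₁ : Y₁ ⟶ Y) (ι₂ : Y₂ ⟶ Y) [IsOpenImmersion ι₁] [IsOpenImmersion ι₂]
    (hcov : ∀ y : Y, y ∈ Set.range ι₁ ∨ y ∈ Set.range ι₂) (p : Y ⟶ S)
    (h₁ : P (ι₁ ≫ p)) (h₂ : P (ι₂ ≫ p)) : P p := by
  let 𝒰 : Y.OpenCover := Scheme.Cover.mkOfCovers Bool (fun b => cond b Y₁ Y₂)
    (fun b => match b with
      | true => ι₁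
      | false => ι₂)
    (fun y => by
      rcases hcov y with ⟨y₁, rfl⟩ | ⟨y₂, rfl⟩
      · exact ⟨true, y₁, rfl⟩
      · exact ⟨false, y₂, rfl⟩)
    (fun b => by cases b <;> infer_instance)
  refine IsZariskiLocalAtSource.of_openCover 𝒰 fun b => ?_
  cases b
  · exact h₂
  · exact h₁

theorem hom_ext_two_opens {X Y : Scheme.{u}} (U₁ U₂ : X.Opens) (hU : U₁ ⊔ U₂ = ⊤)
    (φ ψ : X ⟶ Y) (h₁ : U₁.ι ≫ φ = U₁.ι ≫ ψ) (h₂ : U₂.ι ≫ φ = U₂.ι ≫ ψ) : φ = ψ := by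
  let U : Bool → X.Opens := fun b => cond b U₁ U₂
  have hcov : IsOpenCover U := by
    rw [IsOpenCover, eq_top_iff, ← hU]
    exact sup_le (le_iSup U true) (le_iSup U false)
  refine Scheme.Cover.hom_ext (X.openCoverOfIsOpenCover U hcov) _ _ fun b => ?_
  cases b
  · exact h₂
  · exact h₁

theorem compactSpace_of_two_cover {Y₁ Y₂ Y : Scheme.{u}} (ι₁ : Y₁ ⟶ Y) (ι₂ : Y₂ ⟶ Y)
    [CompactSpace Y₁] [CompactSpace Y₂]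
    (hcov : ∀ y : Y, y ∈ Set.range ι₁ ∨ y ∈ Set.range ι₂) : CompactSpace Y := by
  constructor
  have : (Set.univ : Set Y) = Set.range ι₁ ∪ Set.range ι₂ := by
    ext y; simpa using hcov y
  rw [this]
  exact (isCompact_range ι₁.continuous).union (isCompact_range ι₂.continuous)

theorem exists_factorization_of_two_opens {X S : Scheme.{u}} [IsNoetherian X] [IsNoetherian S]
    (f : X ⟶ S) [IsSeparated f] (U₁ U₂ : X.Opens) (hU : U₁ ⊔ U₂ = ⊤) (Y₁ Y₂ : Scheme.{u})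
    [IsNoetherian Y₁] [IsNoetherian Y₂]
    (k₁ : (U₁ : Scheme.{u}) ⟶ Y₁) (k₂ : (U₂ : Scheme.{u}) ⟶ Y₂) (p₁ : Y₁ ⟶ S) (p₂ : Y₂ ⟶ S)
    (hk₁ : LocImm.IsLocImmersion k₁) (hk₂ : LocImm.IsLocImmersion k₂)
    [IsSeparated p₁] [IsSeparated p₂] [LocallyOfFiniteType p₁] [LocallyOfFiniteType p₂]
    (h₁ : k₁ ≫ p₁ = U₁.ι ≫ f) (h₂ : k₂ ≫ p₂ = U₂.ι ≫ f) :
    ∃ (Y : Scheme.{u}) (k : X ⟶ Y) (p : Y ⟶ S), IsNoetherian Y ∧ LocImm.IsLocImmersion k ∧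
      IsSeparated p ∧ LocallyOfFiniteType p ∧ QuasiCompact p ∧ k ≫ p = f := by
  obtain ⟨W, kW, V₁, V₂, g₁, g₂, hV₁, hV₂, hg₁o, hg₂o, hkWinj, hc, hkW₁, hkW₂, hA₁, hA₂, hcl⟩ :=
    exists_glue_data f U₁ U₂ Y₁ Y₂ k₁ k₂ p₁ p₂ hk₁ hk₂ h₁ h₂
  obtain ⟨Y, ι₁, ι₂, hι₁, hι₂, hg, hcov, hint, hdesc⟩ := exists_glue_of_isOpenImmersion g₁ g₂
  obtain ⟨p, hp₁, hp₂⟩ := hdesc (V₁.ι ≫ p₁) (V₂.ι ≫ p₂) hc
  have hr₁ : Set.range k₁ ⊆ Set.range V₁.ι := by rw [Scheme.Opens.range_ι]; exact hV₁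
  have hr₂ : Set.range k₂ ⊆ Set.range V₂.ι := by rw [Scheme.Opens.range_ι]; exact hV₂
  let k₁' : (U₁ : Scheme.{u}) ⟶ V₁ := IsOpenImmersion.lift V₁.ι k₁ hr₁
  let k₂' : (U₂ : Scheme.{u}) ⟶ V₂ := IsOpenImmersion.lift V₂.ι k₂ hr₂
  have hk₁' : k₁' ≫ V₁.ι = k₁ := IsOpenImmersion.lift_fac _ _ _
  have hk₂' : k₂' ≫ V₂.ι = k₂ := IsOpenImmersion.lift_fac _ _ _
  have e₁ : X.homOfLE inf_le_left ≫ k₁' = kW ≫ g₁ := by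
    rw [← cancel_mono V₁.ι, Category.assoc, hk₁', Category.assoc, hkW₁]
  have e₂ : X.homOfLE inf_le_right ≫ k₂' = kW ≫ g₂ := by
    rw [← cancel_mono V₂.ι, Category.assoc, hk₂', Category.assoc, hkW₂]
  have hcompat : X.homOfLE (inf_le_left : U₁ ⊓ U₂ ≤ U₁) ≫ (k₁' ≫ ι₁) =
      X.homOfLE (inf_le_right : U₁ ⊓ U₂ ≤ U₂) ≫ (k₂' ≫ ι₂) := by
    rw [reassoc_of% e₁, reassoc_of% e₂, hg]
  obtain ⟨k, hkU₁, hkU₂⟩ := exists_glue_two_morphisms U₁ U₂ hU (k₁' ≫ ι₁) (k₂' ≫ ι₂) hcompat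
  haveI : IsZariskiLocalAtSource @LocallyOfFiniteType.{u} :=
    HasRingHomProperty.instIsZariskiLocalAtSource
  have hLFT : LocallyOfFiniteType p := of_two_cover @LocallyOfFiniteType ι₁ ι₂ hcov p
    (hp₁ ▸ inferInstance) (hp₂ ▸ inferInstance)
  haveI : CompactSpace Y := compactSpace_of_two_cover ι₁ ι₂ hcov
  haveI hN : IsNoetherian Y := { __ := LocallyOfFiniteType.isLocallyNoetherian p }
  have hk₁'loc : LocImm.IsLocImmersion k₁' :=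
    isLocImmersion_of_comp_isOpenImmersion V₁.ι k₁' (hk₁'.symm ▸ hk₁)
  have hk₂'loc : LocImm.IsLocImmersion k₂' :=
    isLocImmersion_of_comp_isOpenImmersion V₂.ι k₂' (hk₂'.symm ▸ hk₂)
  have hcovX : ∀ x : X, x ∈ U₁ ∨ x ∈ U₂ := by
    intro x
    have : x ∈ U₁ ⊔ U₂ := hU ▸ (show x ∈ (⊤ : X.Opens) from trivial)
    exact this
  refine ⟨Y, k, p, hN, ⟨?_, ?_⟩, ?_, hLFT, inferInstance, ?_⟩
  · -- localizing
    intro x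
    rcases hcovX x with hx | hx
    · have h := locAt_comp_right ι₁ k₁' ⟨x, hx⟩ (hk₁'loc.1 ⟨x, hx⟩)
      rw [← hkU₁] at h
      exact locAt_of_comp_left U₁.ι k ⟨x, hx⟩ h
    · have h := locAt_comp_right ι₂ k₂' ⟨x, hx⟩ (hk₂'loc.1 ⟨x, hx⟩)
      rw [← hkU₂] at h
      exact locAt_of_comp_left U₂.ι k ⟨x, hx⟩ h
  · -- injective
    have hkx₁ : ∀ u : U₁.toScheme, k (U₁.ι u) = ι₁ (k₁' u) := fun u => congr($hkU₁ u)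
    have hkx₂ : ∀ u : U₂.toScheme, k (U₂.ι u) = ι₂ (k₂' u) := fun u => congr($hkU₂ u)
    have hcross : ∀ (u₁ : U₁.toScheme) (u₂ : U₂.toScheme), ι₁ (k₁' u₁) = ι₂ (k₂' u₂) →
        U₁.ι u₁ = U₂.ι u₂ := by
      intro u₁ u₂ h
      obtain ⟨w, hw₁, hw₂⟩ := hint _ _ h
      have e1 : k₁ u₁ = (g₁ ≫ V₁.ι) w :=
        (congr($hk₁' u₁)).symm.trans (congrArg V₁.ι hw₁.symm)
      have e2 : k₂ u₂ = (g₂ ≫ V₂.ι) w :=
        (congr($hk₂' u₂)).symm.trans (congrArg V₂.ι hw₂.symm)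
      have m₁ : U₁.ι u₁ ∈ U₂ := hA₁ u₁ w e1
      have m₂ : U₂.ι u₂ ∈ U₁ := hA₂ u₂ w e2
      let v₁ : ↥(U₁ ⊓ U₂) := ⟨U₁.ι u₁, u₁.2, m₁⟩
      let v₂ : ↥(U₁ ⊓ U₂) := ⟨U₂.ι u₂, m₂, u₂.2⟩
      have hv₁ : X.homOfLE (inf_le_left : U₁ ⊓ U₂ ≤ U₁) v₁ = u₁ :=
        Subtype.ext (Scheme.homOfLE_apply _ _)
      have hv₂ : X.homOfLE (inf_le_right : U₁ ⊓ U₂ ≤ U₂) v₂ = u₂ :=
        Subtype.ext (Scheme.homOfLE_apply _ _)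
      have hw₁' : kW v₁ = w := by
        apply g₁.injective
        exact (congr($e₁ v₁)).symm.trans ((congrArg k₁' hv₁).trans hw₁.symm)
      have hw₂' : kW v₂ = w := by
        apply g₂.injective
        exact (congr($e₂ v₂)).symm.trans ((congrArg k₂' hv₂).trans hw₂.symm)
      have hvv : v₁ = v₂ := hkWinj (hw₁'.trans hw₂'.symm)
      exact congrArg Subtype.val hvv
    intro x x' hxx'
    rcases hcovX x with hx | hx <;> rcases hcovX x' with hx' | hx'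
    · let u : U₁.toScheme := ⟨x, hx⟩
      let u' : U₁.toScheme := ⟨x', hx'⟩
      have h : ι₁ (k₁' u) = ι₁ (k₁' u') := (hkx₁ u).symm.trans (hxx'.trans (hkx₁ u'))
      exact congrArg Subtype.val (hk₁'loc.2 (ι₁.injective h))
    · let u : U₁.toScheme := ⟨x, hx⟩
      let u' : U₂.toScheme := ⟨x', hx'⟩
      exact hcross u u' ((hkx₁ u).symm.trans (hxx'.trans (hkx₂ u')))
    · let u : U₂.toScheme := ⟨x, hx⟩
      let u' : U₁.toScheme := ⟨x', hx'⟩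
      exact (hcross u' u ((hkx₁ u').symm.trans (hxx'.symm.trans (hkx₂ u)))).symm
    · let u : U₂.toScheme := ⟨x, hx⟩
      let u' : U₂.toScheme := ⟨x', hx'⟩
      have h : ι₂ (k₂' u) = ι₂ (k₂' u') := (hkx₂ u).symm.trans (hxx'.trans (hkx₂ u'))
      exact congrArg Subtype.val (hk₂'loc.2 (ι₂.injective h))
  · exact isSeparated_of_glue' g₁ g₂ ι₁ ι₂ hg hcov hint p (V₁.ι ≫ p₁) (V₂.ι ≫ p₂) hp₁ hp₂ hc hcl
  · apply hom_ext_two_opens U₁ U₂ hU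
    · rw [reassoc_of% hkU₁, hp₁, reassoc_of% hk₁', h₁]
    · rw [reassoc_of% hkU₂, hp₂, reassoc_of% hk₂', h₂]

end Groth.Agent.Lib.Helper21.LocImmLib
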