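import Mathlib
import Groth.Agent.Lib.Helper21.LocImmGlueMain

set_option linter.style.haveILetI false
namespace Groth.Agent.Lib.Helper21.LocImmLib
open CategoryTheory AlgebraicGeometry TopologicalSpace Topology Limits

universe u

theorem isLocImmersion_of_isIso {X Y : Scheme.{u}} (f : X ⟶ Y) [IsIso f] :
    LocImm.IsLocImmersion f := by
  have h : LocImm.IsLocImmersion (𝟙 Y) := by
    refine ⟨fun y => ?_, fun _ _ h => h⟩
    obtain ⟨U, hU, hyU, -⟩ := Opens.isBasis_iff_nbhd.mp Y.isBasis_affineOpens (Opens.mem_top y)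
    refine ⟨⟨U, hU⟩, ⟨U, hU⟩, hyU, le_rfl, ?_⟩
    have : (𝟙 Y : Y ⟶ Y).appLE U U le_rfl = 𝟙 _ := by
      simp only [Scheme.Hom.appLE, Scheme.Hom.id_app]
      exact Y.presheaf.map_id _
    rw [this]
    exact isLocHom_of_isIso _
  have := isLocImmersion_isOpenImmersion_comp f (𝟙 Y) h
  rwa [Category.comp_id] at this

/-- A factorization of `g : Z ⟶ S`. -/
def HasFact {Z S : Scheme.{u}} (g : Z ⟶ S) : Prop :=
  ∃ (Y : Scheme.{u}) (k : Z ⟶ Y) (p : Y ⟶ S), IsNoetherian Y ∧ LocImm.IsLocImmersion k ∧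
    IsSeparated p ∧ LocallyOfFiniteType p ∧ QuasiCompact p ∧ k ≫ p = g

theorem HasFact.of_iso {Z Z' S : Scheme.{u}} (e : Z' ≅ Z) (g : Z ⟶ S) (h : HasFact g) :
    HasFact (e.hom ≫ g) := by
  obtain ⟨Y, k, p, hY, hk, hs, hl, hq, hkp⟩ := h
  exact ⟨Y, e.hom ≫ k, p, hY, isLocImmersion_isOpenImmersion_comp e.hom k hk, hs, hl, hq, by
    rw [Category.assoc, hkp]⟩

theorem hasFact_of_two_isOpenImmersion {X S X₁ X₂ : Scheme.{u}} [IsNoetherian X] [IsNoetherian S]
    (f : X ⟶ S) [IsSeparated f] (i₁ : X₁ ⟶ X) (i₂ : X₂ ⟶ X) [IsOpenImmersion i₁]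
    [IsOpenImmersion i₂] (hcov : ∀ x : X, x ∈ Set.range i₁ ∨ x ∈ Set.range i₂)
    (h₁ : HasFact (i₁ ≫ f)) (h₂ : HasFact (i₂ ≫ f)) : HasFact f := by
  obtain ⟨Y₁, k₁, p₁, hY₁, hk₁, hs₁, hl₁, -, hkp₁⟩ := h₁
  obtain ⟨Y₂, k₂, p₂, hY₂, hk₂, hs₂, hl₂, -, hkp₂⟩ := h₂
  have hU : i₁.opensRange ⊔ i₂.opensRange = ⊤ := by
    rw [eq_top_iff]
    intro x _
    exact hcov x
  refine exists_factorization_of_two_opens f i₁.opensRange i₂.opensRange hU Y₁ Y₂
    (i₁.isoOpensRange.inv ≫ k₁) (i₂.isoOpensRange.inv ≫ k₂) p₁ p₂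
    (isLocImmersion_isOpenImmersion_comp _ k₁ hk₁) (isLocImmersion_isOpenImmersion_comp _ k₂ hk₂)
    ?_ ?_
  · rw [Category.assoc, hkp₁, Scheme.Hom.isoOpensRange_inv_comp_assoc]
  · rw [Category.assoc, hkp₂, Scheme.Hom.isoOpensRange_inv_comp_assoc]

theorem hasFact_sup {X S : Scheme.{u}} [IsNoetherian X] [IsNoetherian S] (f : X ⟶ S)
    [IsSeparated f] (U₁ U₂ : X.Opens) (h₁ : HasFact (U₁.ι ≫ f)) (h₂ : HasFact (U₂.ι ≫ f)) :
    HasFact ((U₁ ⊔ U₂).ι ≫ f) := by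
  refine hasFact_of_two_isOpenImmersion ((U₁ ⊔ U₂).ι ≫ f) (X.homOfLE le_sup_left)
    (X.homOfLE le_sup_right) ?_ ?_ ?_
  · rintro ⟨x, hx | hx⟩
    · left; exact ⟨⟨x, hx⟩, Subtype.ext (Scheme.homOfLE_apply _ _)⟩
    · right; exact ⟨⟨x, hx⟩, Subtype.ext (Scheme.homOfLE_apply _ _)⟩
  · rw [X.homOfLE_ι_assoc]; exact h₁
  · rw [X.homOfLE_ι_assoc]; exact h₂

theorem hasFact_of_affine {X S : Scheme.{u}} [IsLocallyNoetherian S] (f : X ⟶ S)
    (U : S.affineOpens) (V : X.affineOpens) (e : V.1 ≤ f ⁻¹ᵁ U.1)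
    (hft : (f.appLE U V e).hom.EssFiniteType) : HasFact (V.1.ι ≫ f) := by
  have hU : IsAffineOpen U.1 := U.2
  have hV : IsAffineOpen V.1 := V.2
  haveI : IsNoetherianRing Γ(S, U.1) := IsLocallyNoetherian.component_noetherian U
  letI := (f.appLE U.1 V.1 e).hom.toAlgebra
  haveI : Algebra.EssFiniteType Γ(S, U.1) Γ(X, V.1) := hft
  let C₀ := Algebra.EssFiniteType.subalgebra Γ(S, U.1) Γ(X, V.1)
  haveI : IsLocalization (Algebra.EssFiniteType.submonoid Γ(S, U.1) Γ(X, V.1)) Γ(X, V.1) :=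
    Algebra.EssFiniteType.isLocalization _ _
  haveI : IsNoetherianRing C₀ := Algebra.FiniteType.isNoetherianRing Γ(S, U.1) C₀
  let α : Γ(S, U.1) ⟶ CommRingCat.of C₀ := CommRingCat.ofHom (algebraMap Γ(S, U.1) C₀)
  let β : CommRingCat.of C₀ ⟶ Γ(X, V.1) := CommRingCat.ofHom (algebraMap C₀ Γ(X, V.1))
  have hαβ : α ≫ β = f.appLE U.1 V.1 e := by
    ext a; rfl
  have hβloc : LocImm.IsLocHom β.hom :=
    isLocHom_algebraMap (Algebra.EssFiniteType.submonoid Γ(S, U.1) Γ(X, V.1))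
  haveI := hU.isOpenImmersion_fromSpec
  haveI : LocallyOfFiniteType (Spec.map α) := by
    rw [HasRingHomProperty.Spec_iff (P := @LocallyOfFiniteType)]
    exact RingHom.finiteType_algebraMap.mpr inferInstance
  refine ⟨Spec (CommRingCat.of C₀), hV.isoSpec.hom ≫ Spec.map β, Spec.map α ≫ hU.fromSpec,
    inferInstance, isLocImmersion_isOpenImmersion_comp _ _ (isLocImmersion_specMap β hβloc),
    inferInstance, inferInstance, inferInstance, ?_⟩
  rw [Category.assoc, ← Spec.map_comp_assoc, hαβ, IsAffineOpen.SpecMap_appLE_fromSpec f hU hV e,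
    hV.isoSpec_hom_fromSpec_assoc]

theorem hasFact_of_essFiniteType {X S : Scheme.{u}} [IsNoetherian X] [IsNoetherian S] (f : X ⟶ S)
    [IsSeparated f] [EssFT.LocallyEssFiniteType f] : HasFact f := by
  by_cases hX : IsEmpty X
  · exact ⟨X, 𝟙 X, f, inferInstance, isLocImmersion_of_isIso _, inferInstance, inferInstance,
      inferInstance, Category.id_comp f⟩
  · rw [not_isEmpty_iff] at hX
    have hpt : ∀ x : X, ∃ V : X.Opens, x ∈ V ∧ HasFact (V.ι ≫ f) := by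
      intro x
      obtain ⟨U, V, hxV, e, hft⟩ :=
        EssFT.LocallyEssFiniteType.exists_appLE_essFiniteType (f := f) x
      exact ⟨V.1, hxV, hasFact_of_affine f U V e hft⟩
    choose V hxV hV using hpt
    obtain ⟨t, ht⟩ := isCompact_univ.elim_finite_subcover (fun x => ((V x : X.Opens) : Set X))
      (fun x => (V x).2) (fun x _ => Set.mem_iUnion.mpr ⟨x, hxV x⟩)
    have key : ∀ s : Finset X, s.Nonempty → HasFact ((s.sup V).ι ≫ f) := by
      intro s hs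
      induction hs using Finset.Nonempty.cons_induction with
      | singleton a => rw [Finset.sup_singleton]; exact hV a
      | cons a s ha hs ih => rw [Finset.sup_cons]; exact hasFact_sup f _ _ (hV a) ih
    have htne : t.Nonempty := by
      obtain ⟨x⟩ := hX
      have := ht (Set.mem_univ x)
      obtain ⟨y, hy, -⟩ := Set.mem_iUnion₂.mp this
      exact ⟨y, hy⟩
    have htop : t.sup V = ⊤ := by
      rw [eq_top_iff]
      intro x _
      obtain ⟨y, hy, hxy⟩ := Set.mem_iUnion₂.mp (ht (Set.mem_univ x))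
      exact (Finset.le_sup (f := V) hy) hxy
    have h := key t htne
    rw [htop] at h
    have h' := HasFact.of_iso X.topIso.symm _ h
    have e : X.topIso.symm.hom ≫ (⊤ : X.Opens).ι ≫ f = f := by
      change X.topIso.inv ≫ X.topIso.hom ≫ f = f
      rw [Iso.inv_hom_id_assoc]
    rwa [e] at h'

end Groth.Agent.Lib.Helper21.LocImmLib
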