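import Mathlib
import Groth.Agent.Lib.Helper21.LocImmFact

set_option linter.style.haveILetI false
namespace Groth.Agent.Lib.Helper21.LocImmLib
open CategoryTheory AlgebraicGeometry TopologicalSpace Topology Limits

universe u

instance locallyEssFiniteType_isStableUnderComposition :
    MorphismProperty.IsStableUnderComposition @EssFT.LocallyEssFiniteType.{u} :=
  HasRingHomProperty.stableUnderComposition
    (RingHom.locally_stableUnderComposition RingHom.EssFiniteType.respectsIso
      RingHom.EssFiniteType.isStableUnderBaseChange.localizationPreserves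
      RingHom.EssFiniteType.stableUnderComposition)

theorem locallyEssFiniteType_comp {X Y Z : Scheme.{u}} (f : X ⟶ Y) (g : Y ⟶ Z)
    [EssFT.LocallyEssFiniteType f] [EssFT.LocallyEssFiniteType g] :
    EssFT.LocallyEssFiniteType (f ≫ g) :=
  MorphismProperty.comp_mem _ f g ‹_› ‹_›

theorem isLocHom_essFiniteType {A B : Type*} [CommRing A] [CommRing B] (φ : A →+* B)
    (h : LocImm.IsLocHom φ) : φ.EssFiniteType := by
  letI := φ.toAlgebra
  obtain ⟨M, hM⟩ := h
  exact Algebra.EssFiniteType.of_isLocalization B M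

theorem locallyEssFiniteType_of_isLocalizing {X Y : Scheme.{u}} (f : X ⟶ Y)
    (hf : LocImm.IsLocalizing f) : EssFT.LocallyEssFiniteType f :=
  ⟨fun x => by
    obtain ⟨U, V, hxV, e, hloc⟩ := hf x
    exact ⟨U, V, hxV, e, isLocHom_essFiniteType _ hloc⟩⟩

theorem isLocImmersion_fromSpecStalk (X : Scheme.{u}) (x : X) :
    LocImm.IsLocImmersion (X.fromSpecStalk x) := by
  refine ⟨fun w => ?_, (X.fromSpecStalk x).injective⟩
  obtain ⟨U, hU, hxU, -⟩ := Opens.isBasis_iff_nbhd.mp X.isBasis_affineOpens (Opens.mem_top x)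
  have hU' : IsAffineOpen U := hU
  rw [← hU'.fromSpecStalk_eq_fromSpecStalk hxU]
  unfold IsAffineOpen.fromSpecStalk
  haveI := hU'.isOpenImmersion_fromSpec
  apply locAt_comp_right
  apply locAt_spec
  letI := (X.presheaf.germ U x hxU).hom.toAlgebra
  haveI := hU'.isLocalization_stalk ⟨x, hxU⟩
  exact ⟨_, this⟩

/-- essentially of finite type from: loc. immersion followed by ess.f.t., Noetherian source -/
theorem essFiniteType_comp_of_isLocImmersion {W X Y : Scheme.{u}} [IsNoetherian W] (i : W ⟶ X)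
    (hi : LocImm.IsLocImmersion i) (f : X ⟶ Y) [EssFT.LocallyEssFiniteType f] :
    EssFT.EssFiniteType (i ≫ f) :=
  haveI := locallyEssFiniteType_of_isLocalizing i hi.1
  { toLocallyEssFiniteType := locallyEssFiniteType_comp i f
    toQuasiCompact := inferInstance }

section S18201

variable (P : MorphismProperty Scheme.{u})
  (hα : ∀ {W X Y : Scheme.{u}} [IsNoetherian W] [IsNoetherian X] [IsNoetherian Y] (i : W ⟶ X)
    (f : X ⟶ Y) [IsSeparated f] [EssFT.EssFiniteType f], LocImm.IsLocImmersion i → P f → P (i ≫ f))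

include hα in
/-- transport of `P` at stalks along a localizing immersion. -/
theorem stalk_iff_of_isLocImmersion {X Z Y : Scheme.{u}} [IsNoetherian X] [IsNoetherian Z]
    [IsNoetherian Y] (k : X ⟶ Z) (hk : LocImm.IsLocImmersion k) (p : Z ⟶ Y) [IsSeparated p]
    [EssFT.LocallyEssFiniteType p] (x : X) :
    P (X.fromSpecStalk x ≫ k ≫ p) ↔ P (Z.fromSpecStalk (k x) ≫ p) := by
  haveI : IsIso (k.stalkMap x) := isIso_stalkMap_of_isLocalizing k hk.1 x
  have he : Spec.map (k.stalkMap x) ≫ Z.fromSpecStalk (k x) = X.fromSpecStalk x ≫ k :=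
    Scheme.SpecMap_stalkMap_fromSpecStalk k
  haveI := mono_of_isLocImmersion k hk
  haveI : EssFT.EssFiniteType (Z.fromSpecStalk (k x) ≫ p) :=
    essFiniteType_comp_of_isLocImmersion _ (isLocImmersion_fromSpecStalk Z (k x)) p
  haveI : EssFT.LocallyEssFiniteType (k ≫ p) :=
    haveI := locallyEssFiniteType_of_isLocalizing k hk.1
    locallyEssFiniteType_comp k p
  haveI : EssFT.EssFiniteType (X.fromSpecStalk x ≫ k ≫ p) :=
    essFiniteType_comp_of_isLocImmersion _ (isLocImmersion_fromSpecStalk X x) (k ≫ p)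
  constructor
  · intro h
    have := hα (inv (Spec.map (k.stalkMap x))) (X.fromSpecStalk x ≫ k ≫ p)
      (isLocImmersion_of_isIso _) h
    rwa [← Category.assoc (X.fromSpecStalk x), ← he, Category.assoc, IsIso.inv_hom_id_assoc]
      at this
  · intro h
    have := hα (Spec.map (k.stalkMap x)) (Z.fromSpecStalk (k x) ≫ p)
      (isLocImmersion_of_isIso _) h
    rwa [reassoc_of% he] at this

theorem isLocImmersion_of_isOpenImmersion {X Y : Scheme.{u}} (f : X ⟶ Y) [IsOpenImmersion f] :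
    LocImm.IsLocImmersion f := by
  have := isLocImmersion_isOpenImmersion_comp f (𝟙 Y) (isLocImmersion_of_isIso (𝟙 Y))
  rwa [Category.comp_id] at this

include hα in
theorem S18201_main
    (hβ₁ : ∀ {X Y : Scheme.{u}} [IsNoetherian X] [IsNoetherian Y] (f : X ⟶ Y) [IsSeparated f]
      [LocallyOfFiniteType f], (∀ x : X, P (X.fromSpecStalk x ≫ f)) → P f)
    (hβ₂ : ∀ {X Y : Scheme.{u}} [IsNoetherian X] [IsNoetherian Y] (f : X ⟶ Y) [IsSeparated f]
      [LocallyOfFiniteType f], IsOpen {x : X | P (X.fromSpecStalk x ≫ f)})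
    {X Y : Scheme.{u}} [IsNoetherian X] [IsNoetherian Y] (f : X ⟶ Y) [IsSeparated f]
    [EssFT.EssFiniteType f] :
    ((∀ x : X, P (X.fromSpecStalk x ≫ f)) → P f) ∧ IsOpen {x : X | P (X.fromSpecStalk x ≫ f)} ∧
      (P f → ∃ (Z : Scheme.{u}) (i : X ⟶ Z) (h : Z ⟶ Y), IsNoetherian Z ∧
        LocImm.IsLocImmersion i ∧ IsSeparated h ∧ LocallyOfFiniteType h ∧ QuasiCompact h ∧ P h ∧
        i ≫ h = f) := by
  obtain ⟨Z₀, k, p, hZ₀, hk, hs, hl, hq, hkp⟩ := hasFact_of_essFiniteType f
  let O : Z₀.Opens := ⟨{z | P (Z₀.fromSpecStalk z ≫ p)}, hβ₂ p⟩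
  have hiff : ∀ x, P (X.fromSpecStalk x ≫ f) ↔ k x ∈ O := fun x => by
    rw [← hkp]; exact stalk_iff_of_isLocImmersion P hα k hk p x
  have key : (∀ x, k x ∈ O) → ∃ (Z : Scheme.{u}) (i : X ⟶ Z) (h : Z ⟶ Y), IsNoetherian Z ∧
        LocImm.IsLocImmersion i ∧ IsSeparated h ∧ LocallyOfFiniteType h ∧ QuasiCompact h ∧ P h ∧
        i ≫ h = f := by
    intro hO
    have hr : Set.range k ⊆ Set.range O.ι := by
      rw [Scheme.Opens.range_ι]; rintro _ ⟨x, rfl⟩; exact hO x
    let k₁ : X ⟶ O := IsOpenImmersion.lift O.ι k hr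
    have hk₁ : k₁ ≫ O.ι = k := IsOpenImmersion.lift_fac _ _ _
    have hPp₁ : P (O.ι ≫ p) := by
      apply hβ₁
      intro z
      rw [stalk_iff_of_isLocImmersion P hα O.ι (isLocImmersion_of_isOpenImmersion O.ι) p z]
      exact z.2
    refine ⟨O, k₁, O.ι ≫ p, inferInstance,
      isLocImmersion_of_comp_isOpenImmersion O.ι k₁ (hk₁.symm ▸ hk), inferInstance, inferInstance,
      inferInstance, hPp₁, ?_⟩
    rw [reassoc_of% hk₁, hkp]
  refine ⟨fun hx => ?_, ?_, fun hPf => ?_⟩
  · obtain ⟨Z, i, h, hZ, hi, hsh, hlh, hqh, hPh, hih⟩ := key fun x => (hiff x).mp (hx x)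
    haveI : EssFT.EssFiniteType h :=
      { toLocallyEssFiniteType := inferInstance
        toQuasiCompact := inferInstance }
    have := hα i h hi hPh
    rwa [hih] at this
  · have : {x : X | P (X.fromSpecStalk x ≫ f)} = k ⁻¹' (O : Set Z₀) := by
      ext x; exact hiff x
    rw [this]
    exact O.2.preimage k.continuous
  · apply key
    intro x
    rw [← hiff]
    exact hα (X.fromSpecStalk x) f (isLocImmersion_fromSpecStalk X x) hPf

end S18201

end Groth.Agent.Lib.Helper21.LocImmLib
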