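import Groth.Agent.Lib.Helper21.GGCrit
import Groth.Prelude.Def_TorSh

/-!
# The ideal sheaf of a closed point on a (possibly singular, reducible) curve

Torsion-freeness, generic rank one and degree `-1`.
-/

set_option autoImplicit false
set_option linter.style.haveILetI false
set_option linter.unusedSectionVars false
universe u
open CategoryTheory CategoryTheory.Limits AlgebraicGeometry TopologicalSpace Opposite

namespace Groth.Agent.Lib.Helper21.MPoint

open Groth.Agent.Lib.Helper29.QCoh Groth.Agent.Lib.Lead.LinLES Groth.Agent.Lib.Lead.TwistExact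
  Groth.Agent.Lib.Helper21.CDeg Groth.Agent.Lib.Helper25.HypTwist
  Groth.Agent.Lib.Helper21.TwistDown Groth.Agent.Lib.Helper21.RegPt

section Stalk

variable {X : Scheme.{u}}

/-- ideal sheaves are torsion-free -/
theorem isTorsionFree_idealMod (D : X.IdealSheafData) :
    TorSh.IsTorsionFree (ClSub.idealMod D) := by
  intro x
  have hS := shortExact_idealSeq D
  have hinj := (mono_iff_stalkMap_injective (idealSeq D).f).mp hS.mono_f x
  let e := Groth.Agent.Lib.Helper29.QCoh.Dual.coordEquiv (isTriv_unit (X := X) ⊤) x trivial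
  refine Function.Injective.moduleIsTorsionFree (N := X.presheaf.stalk x)
    (fun m => e.symm (stalkMap (idealSeq D).f x m)) (e.symm.injective.comp hinj) (fun r m => ?_)
  change e.symm (stalkMap (idealSeq D).f x (r • m)) = r • e.symm (stalkMap (idealSeq D).f x m)
  rw [stalkMap_smul, map_smul]

/-- at a point outside the closed subscheme the ideal has rank one -/
theorem finrank_stalk_idealMod (D : X.IdealSheafData) (η : X)
    (hη : Subsingleton ((ClSub.quotMod D).presheaf.stalk η)) :
    Module.finrank (X.presheaf.stalk η) ((ClSub.idealMod D).presheaf.stalk η) = 1 := by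
  have hS := shortExact_idealSeq D
  have hinj := (mono_iff_stalkMap_injective (idealSeq D).f).mp hS.mono_f η
  have hex := (exact_iff_stalk_function_exact _).mp hS.exact η
  have hsurj : Function.Surjective (stalkMap (idealSeq D).f η) := by
    intro y
    haveI := hη
    exact (hex y).mp (Subsingleton.elim _ _)
  let e := Groth.Agent.Lib.Helper29.QCoh.Dual.coordEquiv (isTriv_unit (X := X) ⊤) η trivial
  let f : (ClSub.idealMod D).presheaf.stalk η →ₗ[X.presheaf.stalk η]
      (unitM X).presheaf.stalk η :=
    { toFun := stalkMap (idealSeq D).f η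
      map_add' := fun a b => map_add _ a b
      map_smul' := fun r a => stalkMap_smul _ η r a }
  let T : (ClSub.idealMod D).presheaf.stalk η ≃ₗ[X.presheaf.stalk η]
      (unitM X).presheaf.stalk η := LinearEquiv.ofBijective f ⟨hinj, hsurj⟩
  rw [(T.trans e.symm).finrank_eq, Module.finrank_self]

end Stalk

section Deg

variable (k : Type u) [Field k] [IsAlgClosed k] (X : Scheme.{u}) [X.Over (Spec (CommRingCat.of k))]
  [IsProper (X ↘ (Spec (CommRingCat.of k)))]

/-- the ideal of a closed point has degree `-1` (no assumption on the singularities) -/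
theorem deg_idealMod_point (P : X) (hP : IsClosed ({P} : Set X)) :
    Curv2.deg k X (ClSub.idealMod (Scheme.IdealSheafData.vanishingIdeal ⟨{P}, hP⟩)) 1 = -1 := by
  haveI : IsLocallyNoetherian X :=
    LocallyOfFiniteType.isLocallyNoetherian (X ↘ Spec (CommRingCat.of k))
  have hQ0 := finrank_HH_zero_quotMod_point k X P hP
  have hQst : ∀ x, x ∉ ({P} : Set X) → Subsingleton ((ClSub.quotMod
      (Scheme.IdealSheafData.vanishingIdeal ⟨{P}, hP⟩)).presheaf.stalk x) :=
    fun x hx => subsingleton_stalk_quotMod_point X P hP x hx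
  generalize Scheme.IdealSheafData.vanishingIdeal ⟨{P}, hP⟩ = D at hQ0 hQst
  have hS := shortExact_idealSeq D
  have cO : Coh.IsCoh (unitM X) := Groth.Agent.Lib.Helper12.H12Dev.isCoh_unitM X
  have cQ : Coh.IsCoh (ClSub.quotMod D) :=
    Groth.Agent.Lib.Helper17.ExtTorsionGeom.isCoh_pushforward_unit D.subschemeι
  have cJ : Coh.IsCoh (ClSub.idealMod D) :=
    Groth.Agent.Lib.Helper12.H12Dev.isCoh_kernel _ cO cQ
  have hZ : ∀ T : Set X, T ⊆ ({P} : Set X) → IsClosed T := by
    intro T hT
    rcases Set.subset_singleton_iff_eq.mp hT with h | h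
    · rw [h]; exact isClosed_empty
    · rw [h]; exact hP
  have hsuppQ : CohB1.support (ClSub.quotMod D) ⊆ ({P} : Set X) := by
    intro x hx
    by_contra hxp
    exact hx (hQst x hxp)
  have hvan : ∀ n : ℕ, Subsingleton (Coh.HH X (ClSub.quotMod D) (n + 1)) := fun n =>
    subsingleton_HH_succ_of_support_hereditarily_closed _
      (fun T hT => hZ T (hT.trans hsuppQ)) n
  have heQ : Curv2.euler k X (ClSub.quotMod D) = 1 := by
    unfold Curv2.euler
    rw [finsum_eq_single _ 0]
    · simp [hQ0]
    · intro i hi
      obtain ⟨n, rfl⟩ := Nat.exists_eq_succ_of_ne_zero hi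
      haveI := hvan n
      rw [Module.finrank_zero_of_subsingleton]
      simp
  have hadd := Groth.Agent.S1524.result k X _ hS cJ cO cQ
  change Curv2.euler k X (unitM X) = Curv2.euler k X (ClSub.idealMod D) +
    Curv2.euler k X (ClSub.quotMod D) at hadd
  unfold Curv2.deg
  change Curv2.euler k X (ClSub.idealMod D) - ((1 : ℕ) : ℤ) * Curv2.euler k X (unitM X) = -1
  rw [hadd, heQ]
  push_cast
  ring

end Deg

end Groth.Agent.Lib.Helper21.MPoint
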