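import Mathlib
import Groth.Agent.Lib.Helper6.Wt10
import Groth.Agent.S0082
import Groth.Agent.S0593
import Groth.Agent.S7185
import Groth.Agent.S1419

/-!
# The locus where the fibre integral of a positive weighting is maximal is affine (helper21)

Stacks 0F3R, without finite presentation hypotheses: étale-local induction on the maximal value
plus Chevalley's theorem (`S0593`).
-/

set_option autoImplicit false
universe u

open CategoryTheory AlgebraicGeometry Limits

namespace Groth.Agent.Lib.Helper21.MaxLoc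

open Groth.Agent.Lib.Helper6 Groth.Agent.Lib.Helper6.Wt

/-- Affineness of a morphism can be checked on étale neighbourhoods of the points of the target. -/
theorem isAffineHom_of_etale_nbhds {X' Y' : Scheme.{u}} (g : X' ⟶ Y')
    (H : ∀ y' : Y', ∃ (N : Scheme.{u}) (e : N ⟶ Y') (P : Scheme.{u}) (r : P ⟶ X') (q : P ⟶ N),
      Etale e ∧ y' ∈ Set.range e ∧ IsPullback r q g e ∧ IsAffineHom q) : IsAffineHom g := by
  haveI := Groth.Agent.S0082.result.{u}
  refine IsZariskiLocalAtTarget.of_forall_exists_morphismRestrict (P := @IsAffineHom)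
    fun y' => ?_
  obtain ⟨N, e, P, r, q, hEt, hy', hpb, haff⟩ := H y'
  haveI := hEt
  let B : Y'.Opens := ⟨Set.range e, e.isOpenMap.isOpen_range⟩
  refine ⟨B, hy', ?_⟩
  have hBr : Set.range e ⊆ Set.range B.ι := by
    rw [Scheme.Opens.range_ι]
    exact subset_rfl
  let eb : N ⟶ B.toScheme := IsOpenImmersion.lift B.ι e hBr
  have heb : eb ≫ B.ι = e := IsOpenImmersion.lift_fac _ _ _
  haveI : Etale eb := by
    refine MorphismProperty.of_postcomp (W := @Etale) (W' := @IsOpenImmersion) eb B.ι
      inferInstance ?_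
    rw [heb]; infer_instance
  haveI : Surjective eb := by
    refine ⟨fun b => ?_⟩
    have hb : B.ι b ∈ Set.range e := by
      have : B.ι b ∈ Set.range B.ι := ⟨_, rfl⟩
      rw [Scheme.Opens.range_ι] at this
      exact this
    obtain ⟨n, hn⟩ := hb
    refine ⟨n, B.ι.isOpenEmbedding.injective ?_⟩
    rw [← Scheme.Hom.comp_apply, heb, hn]
  have hR := (isPullback_morphismRestrict g B).flip
  let σ : P ⟶ (g ⁻¹ᵁ B).toScheme :=
    hR.lift r (q ≫ eb) (by rw [Category.assoc, heb, hpb.w])
  have hσ1 : σ ≫ (g ⁻¹ᵁ B).ι = r := hR.lift_fst _ _ _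
  have hσ2 : σ ≫ g ∣_ B = q ≫ eb := hR.lift_snd _ _ _
  have hsq : IsPullback σ q (g ∣_ B) eb := by
    refine IsPullback.of_right ?_ hσ2 hR
    rw [hσ1, heb]
    exact hpb
  exact MorphismProperty.of_isPullback_of_descendsAlong (P := @IsAffineHom)
    (Q := @Surjective ⊓ @Flat ⊓ @LocallyOfFinitePresentation) hsq.flip
    ⟨⟨inferInstance, inferInstance⟩, inferInstance⟩ haff

end Groth.Agent.Lib.Helper21.MaxLoc
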