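import Groth.Agent.Lib.Helper21.MaxLoc1

/-!
# Max locus of the fibre integral is affine: the inductive step (helper21)
-/

set_option autoImplicit false
set_option linter.style.haveILetI false
universe u

open CategoryTheory AlgebraicGeometry Limits

namespace Groth.Agent.Lib.Helper21.MaxLoc

open Groth.Agent.Lib.Helper6 Groth.Agent.Lib.Helper6.Wt

/-- Splitting a fibre integral into the point sums over an open and its complement. -/
theorem ptSum_add_ptSum_compl {W T : Scheme.{u}} (p : W ⟶ T) (ω : W → ℤ) (t : T)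
    (hfin : (p ⁻¹' {t}).Finite) (S S' : Set W) (hd : Disjoint S S') (hc : S ∪ S' = Set.univ) :
    ptSum p ω S t + ptSum p ω S' t = MoreMor.fibreIntegral p ω t := by
  classical
  have := sum_ptSum_eq_fibreIntegral p ω t hfin (κ := Bool) (fun b => if b then S else S')
    (by
      intro b b' hbb'
      cases b <;> cases b' <;> simp_all [disjoint_comm])
    (by
      intro x _
      have hx : x ∈ S ∪ S' := by rw [hc]; trivial
      rcases hx with hx | hx
      · exact ⟨true, by simpa using hx⟩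
      · exact ⟨false, by simpa using hx⟩)
  rw [← this, Fintype.sum_bool]
  simp

theorem ptSum_nonneg {W T : Scheme.{u}} (p : W ⟶ T) [LocallyQuasiFinite p] (ω : W → ℤ)
    (hω : ∀ x, 0 < ω x) (S : Set W) (t : T) : 0 ≤ ptSum p ω S t := by
  unfold ptSum
  refine finsum_nonneg fun x => finsum_nonneg fun _ => ?_
  exact (mul_pos (hω x) (deg_pos_of_locallyQuasiFinite p x)).le

/-- The inductive statement: the open immersion of the locus where the fibre integral takes its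
maximal value `n` is an affine morphism. -/
def Q (n : ℕ) : Prop :=
  ∀ {X Y : Scheme.{u}} (f : X ⟶ Y) [IsAffineHom f] [LocallyQuasiFinite f] [LocallyOfFiniteType f]
    (w : X → ℤ), MoreMor.IsWeighting f w → (∀ x, 0 < w x) →
    (∀ y : Y, MoreMor.fibreIntegral f w y ≤ n) → ∀ (Yd : Y.Opens),
    (∀ y, y ∈ Yd ↔ MoreMor.fibreIntegral f w y = n) → IsAffineHom Yd.ι

/-- A clopen open subscheme includes by a closed immersion. -/
theorem isClosedImmersion_ι_of_isClosed {W : Scheme.{u}} (O : W.Opens) (h : IsClosed (O : Set W)) :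
    IsClosedImmersion O.ι := by
  apply IsClosedImmersion.of_isPreimmersion
  rw [Scheme.Opens.range_ι]
  exact h

set_option maxHeartbeats 1600000 in
/-- Step A: if all fibres are nonempty, the max locus is affine over the base, by étale
localization and induction. -/
theorem stepA (n : ℕ) (IH : ∀ m < n, Q.{u} m) {X Y : Scheme.{u}} (f : X ⟶ Y) [IsAffineHom f]
    [LocallyQuasiFinite f] [LocallyOfFiniteType f] (w : X → ℤ) (hw : MoreMor.IsWeighting f w)
    (hpos : ∀ x, 0 < w x) (hmax : ∀ y : Y, MoreMor.fibreIntegral f w y ≤ n)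
    (hone : ∀ y : Y, 1 ≤ MoreMor.fibreIntegral f w y) (Yd : Y.Opens)
    (hYd : ∀ y, y ∈ Yd ↔ MoreMor.fibreIntegral f w y = n) : IsAffineHom Yd.ι := by
  classical
  have hfin : ∀ y : Y, (f ⁻¹' {y}).Finite := fun y => f.finite_preimage_singleton y
  refine isAffineHom_of_etale_nbhds _ fun y => ?_
  obtain ⟨V, a, v₀, hEt, hav₀, κ, hκ, D, z, hD, hclopen, hdisj, hcov⟩ :=
    exists_etale_nbhd_fibre f hfin y
  have := hEt
  have := hκ
  have : ∀ k, IsFinite ((D k).ι ≫ pullback.snd f a) := fun k => (hD k).2.1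
  have hsq : IsPullback (pullback.fst f a) (pullback.snd f a) f a :=
    IsPullback.of_hasPullback f a
  obtain ⟨p, hp⟩ : ∃ p : pullback f a ⟶ V, p = pullback.snd f a := ⟨_, rfl⟩
  obtain ⟨h, hh⟩ : ∃ h : pullback f a ⟶ X, h = pullback.fst f a := ⟨_, rfl⟩
  rw [← hp, ← hh] at hsq
  have hDfin : ∀ k, IsFinite ((D k).ι ≫ p) := fun k => by rw [hp]; exact (hD k).2.1
  have hpaff : IsAffineHom p := by
    rw [hp]; exact MorphismProperty.pullback_snd (P := @IsAffineHom) f a inferInstance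
  have hplqf : LocallyQuasiFinite p := by rw [hp]; infer_instance
  have hplft : LocallyOfFiniteType p := by rw [hp]; infer_instance
  have hwp : MoreMor.IsWeighting p (w ∘ ⇑h) := Groth.Agent.S1419.result f w hw p h a hsq
  -- the finite clopen part
  obtain ⟨U, hUdef⟩ : ∃ U : (pullback f a).Opens, U = ⨆ k, D k := ⟨_, rfl⟩
  have hUfin : IsFinite (U.ι ≫ p) := by
    rw [hUdef]
    exact EtLoc.isFinite_iSup_of_pairwise_disjoint _ D (fun k l hkl => by
      change Disjoint (D k) (D l)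
      rw [disjoint_iff]
      ext x
      have := hdisj hkl
      change Disjoint (D k : Set ↑(pullback f a)) (D l) at this
      rw [Set.disjoint_left] at this
      simp only [TopologicalSpace.Opens.coe_inf, Set.mem_inter_iff, SetLike.mem_coe,
        TopologicalSpace.Opens.coe_bot, Set.mem_empty_iff_false, iff_false, not_and]
      exact fun h1 h2 => this h1 h2) hDfin
  have hUclosed : IsClosed (U : Set ↑(pullback f a)) := by
    rw [hUdef, TopologicalSpace.Opens.coe_iSup]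
    exact isClosed_iUnion_of_finite fun k => (hclopen k).1
  have hF : IsLocallyConstant (ptSum p (w ∘ ⇑h) U) := IsWeighting.locConst hw a h p hsq U
  obtain ⟨e, hedef⟩ : ∃ e : ℤ, e = ptSum p (w ∘ ⇑h) U v₀ := ⟨_, rfl⟩
  obtain ⟨V', hV'def⟩ : ∃ V' : V.Opens, ∀ v, v ∈ V' ↔ ptSum p (w ∘ ⇑h) U v = e :=
    ⟨⟨{v | ptSum p (w ∘ ⇑h) U v = e}, hF.isOpen_fiber e⟩, fun v => Iff.rfl⟩
  have hv₀ : v₀ ∈ V' := (hV'def v₀).mpr hedef.symm
  have hfinp : ∀ v : V, (p ⁻¹' {v}).Finite := fun v => p.finite_preimage_singleton v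
  have hbc : ∀ v : V, MoreMor.fibreIntegral p (w ∘ ⇑h) v = MoreMor.fibreIntegral f w (a v) :=
    fun v => fibreIntegral_baseChange hsq hfin w v
  have he_eq : e = MoreMor.fibreIntegral f w y := by
    rw [← hav₀, ← hbc, hedef]
    have h1 := ptSum_add_ptSum_compl p (w ∘ ⇑h) v₀ (hfinp v₀) (U : Set ↑(pullback f a))
      (U : Set ↑(pullback f a))ᶜ disjoint_compl_right (Set.union_compl_self _)
    have h0 : ptSum p (w ∘ ⇑h) ((U : Set ↑(pullback f a))ᶜ) v₀ = 0 := by
      unfold ptSum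
      have hempty : ((U : Set ↑(pullback f a))ᶜ) ∩ p ⁻¹' {v₀} = ∅ := by
        ext x
        simp only [Set.mem_inter_iff, Set.mem_compl_iff, SetLike.mem_coe, Set.mem_preimage,
          Set.mem_singleton_iff, Set.mem_empty_iff_false, iff_false, not_and]
        intro hxU hx
        apply hxU
        obtain ⟨k, hk⟩ := hcov x (by rw [← hp]; exact hx)
        rw [hUdef]
        exact (le_iSup D k) (hk ▸ (hD k).1)
      rw [hempty]
      exact finsum_mem_empty
    linarith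
  -- restrict over `V'`
  have hres : IsPullback (p ⁻¹ᵁ V').ι (p ∣_ V') p V'.ι := (isPullback_morphismRestrict p V').flip
  obtain ⟨r, hr⟩ : ∃ r : (p ⁻¹ᵁ V').toScheme ⟶ pullback f a, r = (p ⁻¹ᵁ V').ι := ⟨_, rfl⟩
  obtain ⟨p', hp'⟩ : ∃ p' : (p ⁻¹ᵁ V').toScheme ⟶ V'.toScheme, p' = p ∣_ V' := ⟨_, rfl⟩
  rw [← hr, ← hp'] at hres
  have hsq' : IsPullback (r ≫ h) p' f (V'.ι ≫ a) := hres.paste_horiz hsq
  have hp'aff : IsAffineHom p' := by
    rw [hp']; exact IsZariskiLocalAtTarget.restrict (P := @IsAffineHom) hpaff V'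
  have hp'lqf : LocallyQuasiFinite p' := by
    rw [hp']; exact IsZariskiLocalAtTarget.restrict (P := @LocallyQuasiFinite) hplqf V'
  have hp'lft : LocallyOfFiniteType p' := by
    rw [hp']; exact IsZariskiLocalAtTarget.restrict (P := @LocallyOfFiniteType) hplft V'
  have hwp' : MoreMor.IsWeighting p' (w ∘ ⇑(r ≫ h)) :=
    Groth.Agent.S1419.result f w hw p' (r ≫ h) (V'.ι ≫ a) hsq'
  have hfinp' : ∀ v, (p' ⁻¹' {v}).Finite := fun v => p'.finite_preimage_singleton v
  have hbc' : ∀ v : V', MoreMor.fibreIntegral p' (w ∘ ⇑(r ≫ h)) v =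
      MoreMor.fibreIntegral f w ((V'.ι ≫ a) v) := fun v => fibreIntegral_baseChange hsq' hfin w v
  have hposw' : ∀ x, 0 < (w ∘ ⇑(r ≫ h)) x := fun x => hpos _
  -- the two clopen pieces
  obtain ⟨Uc, hUc⟩ : ∃ Uc : (pullback f a).Opens, (Uc : Set ↑(pullback f a)) = (U : Set _)ᶜ :=
    ⟨⟨(U : Set _)ᶜ, hUclosed.isOpen_compl⟩, rfl⟩
  obtain ⟨U', hU'⟩ : ∃ U' : (p ⁻¹ᵁ V').toScheme.Opens, U' = r ⁻¹ᵁ U := ⟨_, rfl⟩
  obtain ⟨W', hW'⟩ : ∃ W' : (p ⁻¹ᵁ V').toScheme.Opens, W' = r ⁻¹ᵁ Uc := ⟨_, rfl⟩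
  have hdisjUW : Disjoint (U' : Set ↑(p ⁻¹ᵁ V').toScheme) (W' : Set _) := by
    rw [Set.disjoint_left]
    intro x hxU hxW
    rw [hU'] at hxU
    rw [hW'] at hxW
    have h1 : r x ∈ U := hxU
    have h2 : r x ∈ (Uc : Set _) := hxW
    rw [hUc] at h2
    exact h2 h1
  have hunionUW : (U' : Set ↑(p ⁻¹ᵁ V').toScheme) ∪ (W' : Set _) = Set.univ := by
    rw [Set.eq_univ_iff_forall]
    intro x
    by_cases hx : r x ∈ U
    · left; rw [hU']; exact hx
    · right
      rw [hW']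
      change r x ∈ (Uc : Set _)
      rw [hUc]; exact hx
  have hptU' : ∀ v : V', ptSum p' (w ∘ ⇑(r ≫ h)) U' v = e := by
    intro v
    have h1 := ptSum_baseChange hres U (w ∘ ⇑h) v
    have hv : V'.ι v ∈ V' := by
      have : V'.ι v ∈ Set.range V'.ι := ⟨_, rfl⟩
      rwa [Scheme.Opens.range_ι] at this
    rw [(hV'def _).mp hv] at h1
    rw [hU']
    exact h1
  -- the morphism `W' ⟶ V'`
  have hW'closed : IsClosed (W' : Set ↑(p ⁻¹ᵁ V').toScheme) := by
    have h1 : (W' : Set ↑(p ⁻¹ᵁ V').toScheme) = r ⁻¹' ((U : Set _)ᶜ) := by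
      rw [hW', ← hUc]; rfl
    rw [h1]
    exact (U.isOpen.isClosed_compl).preimage r.continuous
  have hW'ci : IsClosedImmersion W'.ι := isClosedImmersion_ι_of_isClosed W' hW'closed
  have hgaff : IsAffineHom (W'.ι ≫ p') := inferInstance
  have hglqf : LocallyQuasiFinite (W'.ι ≫ p') := inferInstance
  have hglft : LocallyOfFiniteType (W'.ι ≫ p') := inferInstance
  obtain ⟨wg, hwgdef⟩ : ∃ wg : W'.toScheme → ℤ, wg = fun x => (w ∘ ⇑(r ≫ h)) (W'.ι x) :=
    ⟨_, rfl⟩
  have hwg : MoreMor.IsWeighting (W'.ι ≫ p') wg := by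
    rw [hwgdef]; exact Groth.Agent.S7185.result p' _ hwp' W'
  have hwgpos : ∀ x, 0 < wg x := fun x => by rw [hwgdef]; exact hpos _
  have hgint : ∀ v, MoreMor.fibreIntegral (W'.ι ≫ p') wg v = ptSum p' (w ∘ ⇑(r ≫ h)) W' v :=
    fun v => by rw [hwgdef]; exact fibreIntegral_opens p' _ W' v
  have hsum : ∀ v : V', e + MoreMor.fibreIntegral (W'.ι ≫ p') wg v =
      MoreMor.fibreIntegral f w ((V'.ι ≫ a) v) := by
    intro v
    rw [hgint, ← hptU' v, ← hbc']
    exact ptSum_add_ptSum_compl p' _ v (hfinp' v) U' W' hdisjUW hunionUW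
  have he1 : 1 ≤ e := he_eq ▸ hone y
  have hgle : ∀ v, MoreMor.fibreIntegral (W'.ι ≫ p') wg v ≤ n - e := fun v => by
    have h1 := hsum v
    have h2 := hmax ((V'.ι ≫ a) v)
    linarith
  have hgnn : ∀ v, 0 ≤ MoreMor.fibreIntegral (W'.ι ≫ p') wg v := fun v => by
    rw [hgint]; exact ptSum_nonneg p' _ hposw' _ v
  obtain ⟨v₀', hv₀'⟩ : ∃ v₀' : V', V'.ι v₀' = v₀ := by
    have : v₀ ∈ Set.range V'.ι := by rw [Scheme.Opens.range_ι]; exact hv₀
    exact this
  obtain ⟨m, hm⟩ : ∃ m : ℕ, (m : ℤ) = n - e :=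
    ⟨(n - e).toNat, Int.toNat_of_nonneg (by
      have h1 := hgle v₀'
      have h2 := hgnn v₀'
      linarith)⟩
  have hmn : m < n := by omega
  have hQ := IH m hmn (W'.ι ≫ p') wg hwg hwgpos (fun v => by rw [hm]; exact hgle v)
    ((V'.ι ≫ a) ⁻¹ᵁ Yd) (fun v => by
      change (V'.ι ≫ a) v ∈ Yd ↔ _
      rw [hYd, ← hsum v, hm]
      constructor <;> intro h1 <;> linarith)
  refine ⟨V', V'.ι ≫ a, _, (V'.ι ≫ a) ∣_ Yd, ((V'.ι ≫ a) ⁻¹ᵁ Yd).ι, inferInstance, ⟨v₀', ?_⟩,
    isPullback_morphismRestrict _ _, hQ⟩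
  rw [Scheme.Hom.comp_apply, hv₀', hav₀]

end Groth.Agent.Lib.Helper21.MaxLoc
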