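import Groth.Agent.Lib.Helper21.MaxLoc2

/-!
# Max locus of the fibre integral is affine: conclusion (helper21)
-/

set_option autoImplicit false
set_option linter.style.haveILetI false
universe u

open CategoryTheory AlgebraicGeometry Limits

namespace Groth.Agent.Lib.Helper21.MaxLoc

open Groth.Agent.Lib.Helper6 Groth.Agent.Lib.Helper6.Wt

theorem fibreIntegral_eq_ptSum_univ {W T : Scheme.{u}} (p : W ⟶ T) (ω : W → ℤ) (t : T) :
    MoreMor.fibreIntegral p ω t = ptSum p ω (Set.univ : Set W) t := by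
  rw [fibreIntegral_eq_finsum_mem]
  unfold ptSum
  rw [Set.univ_inter]

theorem fibreIntegral_nonneg {X Y : Scheme.{u}} (f : X ⟶ Y) [LocallyQuasiFinite f] (w : X → ℤ)
    (hpos : ∀ x, 0 < w x) (y : Y) : 0 ≤ MoreMor.fibreIntegral f w y := by
  rw [fibreIntegral_eq_ptSum_univ]
  exact ptSum_nonneg f w hpos _ y

theorem one_le_fibreIntegral {X Y : Scheme.{u}} (f : X ⟶ Y) [LocallyQuasiFinite f]
    [QuasiCompact f] (w : X → ℤ) (hpos : ∀ x, 0 < w x) (x : X) :
    1 ≤ MoreMor.fibreIntegral f w (f x) := by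
  rw [fibreIntegral_eq_ptSum_univ]
  have hfin : ((Set.univ : Set X) ∩ f ⁻¹' {f x}).Finite :=
    (f.finite_preimage_singleton (f x)).subset Set.inter_subset_right
  have h1 := le_ptSum f w (Set.univ : Set X) (f x) hfin
    (fun x' _ => (mul_pos (hpos x') (deg_pos_of_locallyQuasiFinite f x')).le) x ⟨trivial, rfl⟩
  have h2 : 1 ≤ w x * deg f x := by
    have ha := hpos x
    have hb := deg_pos_of_locallyQuasiFinite f x
    nlinarith
  linarith

theorem exists_of_fibreIntegral_pos {X Y : Scheme.{u}} (f : X ⟶ Y) (w : X → ℤ) (y : Y)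
    (h : MoreMor.fibreIntegral f w y ≠ 0) : ∃ x, f x = y := by
  by_contra hcon
  push Not at hcon
  apply h
  have : IsEmpty {u : X // f u = y} := ⟨fun u => hcon u.1 u.2⟩
  unfold MoreMor.fibreIntegral
  exact finsum_of_isEmpty _

/-- Step B: the affine case, via base change along `f` itself and Chevalley's theorem. -/
theorem stepB (n : ℕ) (IH : ∀ m < n, Q.{u} m) {X Y : Scheme.{u}} (f : X ⟶ Y) [IsAffine X]
    [IsAffine Y] [LocallyQuasiFinite f] [LocallyOfFiniteType f] (w : X → ℤ)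
    (hw : MoreMor.IsWeighting f w) (hpos : ∀ x, 0 < w x)
    (hmax : ∀ y : Y, MoreMor.fibreIntegral f w y ≤ n) (Yd : Y.Opens)
    (hYd : ∀ y, y ∈ Yd ↔ MoreMor.fibreIntegral f w y = n) : IsAffineOpen Yd := by
  have hfaff : IsAffineHom f := inferInstance
  have hfin : ∀ y : Y, (f ⁻¹' {y}).Finite := fun y => f.finite_preimage_singleton y
  rcases Nat.eq_zero_or_pos n with hn | hn
  · have : Yd = ⊤ := by
      rw [eq_top_iff]
      intro y _
      rw [hYd]
      have h1 := hmax y
      have h2 := fibreIntegral_nonneg f w hpos y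
      rw [hn] at h1 ⊢
      exact le_antisymm h1 h2
    rw [this]
    exact isAffineOpen_top Y
  -- base change along `f`
  have hsq : IsPullback (pullback.fst f f) (pullback.snd f f) f f := IsPullback.of_hasPullback f f
  obtain ⟨f', hf'⟩ : ∃ f' : pullback f f ⟶ X, f' = pullback.snd f f := ⟨_, rfl⟩
  obtain ⟨h, hh⟩ : ∃ h : pullback f f ⟶ X, h = pullback.fst f f := ⟨_, rfl⟩
  rw [← hf', ← hh] at hsq
  have hf'aff : IsAffineHom f' := by
    rw [hf']; exact MorphismProperty.pullback_snd (P := @IsAffineHom) f f inferInstance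
  have hf'lqf : LocallyQuasiFinite f' := by rw [hf']; infer_instance
  have hf'lft : LocallyOfFiniteType f' := by rw [hf']; infer_instance
  have hw' : MoreMor.IsWeighting f' (w ∘ ⇑h) := Groth.Agent.S1419.result f w hw f' h f hsq
  have hbc : ∀ x : X, MoreMor.fibreIntegral f' (w ∘ ⇑h) x = MoreMor.fibreIntegral f w (f x) :=
    fun x => fibreIntegral_baseChange hsq hfin w x
  have hXd : IsAffineHom (f ⁻¹ᵁ Yd).ι :=
    stepA n IH f' (w ∘ ⇑h) hw' (fun x => hpos _) (fun x => by rw [hbc]; exact hmax _)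
      (fun x => by rw [hbc]; exact one_le_fibreIntegral f w hpos x) (f ⁻¹ᵁ Yd)
      (fun x => by
        change f x ∈ Yd ↔ _
        rw [hYd, hbc])
  have hXdaff : IsAffine (f ⁻¹ᵁ Yd).toScheme := isAffine_of_isAffineHom (f ⁻¹ᵁ Yd).ι
  have hfinite : IsFinite (f ∣_ Yd) :=
    isFinite_over_max_locus f hfin w hw hpos n hmax Yd hYd
  have hsurj : Surjective (f ∣_ Yd) := by
    refine ⟨fun y => ?_⟩
    have hy : Yd.ι y ∈ Yd := by
      have : Yd.ι y ∈ Set.range Yd.ι := ⟨_, rfl⟩
      rwa [Scheme.Opens.range_ι] at this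
    have hne : MoreMor.fibreIntegral f w (Yd.ι y) ≠ 0 := by
      rw [(hYd _).mp hy]
      exact_mod_cast hn.ne'
    obtain ⟨x, hx⟩ := exists_of_fibreIntegral_pos f w _ hne
    have hxd : x ∈ f ⁻¹ᵁ Yd := by
      change f x ∈ Yd
      rw [hx]; exact hy
    have : x ∈ Set.range (f ⁻¹ᵁ Yd).ι := by rw [Scheme.Opens.range_ι]; exact hxd
    obtain ⟨x', hx'⟩ := this
    refine ⟨x', Yd.ι.isOpenEmbedding.injective ?_⟩
    rw [← Scheme.Hom.comp_apply, morphismRestrict_ι, Scheme.Hom.comp_apply, hx', hx]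
  exact Groth.Agent.S0593.result _ _ (f ∣_ Yd)

/-- Step C: the general case by Zariski localization on the base. -/
theorem Q_of_IH (n : ℕ) (IH : ∀ m < n, Q.{u} m) : Q.{u} n := by
  intro X Y f _ _ _ w hw hpos hmax Yd hYd
  have hfin : ∀ y : Y, (f ⁻¹' {y}).Finite := fun y => f.finite_preimage_singleton y
  refine ⟨fun B hB => ?_⟩
  rw [← Scheme.Hom.isAffineOpen_iff_of_isOpenImmersion Yd.ι,
    Scheme.Hom.image_preimage_eq_opensRange_inf, Scheme.Opens.opensRange_ι]
  -- restrict over `B`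
  have hres : IsPullback (f ⁻¹ᵁ B).ι (f ∣_ B) f B.ι := (isPullback_morphismRestrict f B).flip
  have hBaff : IsAffine B.toScheme := hB
  have hXB : IsAffine (f ⁻¹ᵁ B).toScheme := hB.preimage f
  have hlqf : LocallyQuasiFinite (f ∣_ B) :=
    IsZariskiLocalAtTarget.restrict (P := @LocallyQuasiFinite) (inferInstance : LocallyQuasiFinite f) B
  have hlft : LocallyOfFiniteType (f ∣_ B) :=
    IsZariskiLocalAtTarget.restrict (P := @LocallyOfFiniteType)
      (inferInstance : LocallyOfFiniteType f) B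
  have hwB : MoreMor.IsWeighting (f ∣_ B) (w ∘ ⇑(f ⁻¹ᵁ B).ι) :=
    Groth.Agent.S1419.result f w hw (f ∣_ B) (f ⁻¹ᵁ B).ι B.ι hres
  have hbc : ∀ b : B, MoreMor.fibreIntegral (f ∣_ B) (w ∘ ⇑(f ⁻¹ᵁ B).ι) b =
      MoreMor.fibreIntegral f w (B.ι b) := fun b => fibreIntegral_baseChange hres hfin w b
  have h1 : IsAffineOpen (B.ι ⁻¹ᵁ Yd) :=
    stepB n IH (f ∣_ B) (w ∘ ⇑(f ⁻¹ᵁ B).ι) hwB (fun x => hpos _)
      (fun b => by rw [hbc]; exact hmax _) (B.ι ⁻¹ᵁ Yd) (fun b => by
        change B.ι b ∈ Yd ↔ _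
        rw [hYd, hbc])
  have h2 := h1.image_of_isOpenImmersion B.ι
  rw [Scheme.Hom.image_preimage_eq_opensRange_inf, Scheme.Opens.opensRange_ι] at h2
  rw [inf_comm]
  exact h2

/-- The open immersion of the locus where the fibre integral of a positive weighting of an affine
locally quasi-finite morphism attains its maximum is affine. -/
theorem Q_all (n : ℕ) : Q.{u} n := by
  induction n using Nat.strong_induction_on with
  | _ n IH => exact Q_of_IH n (fun m hm => IH m hm)

/-- **Stacks 0F3R** (without finite presentation): for `f : X ⟶ Y` a quasi-finite morphism of affine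
schemes with a positive weighting whose fibre integral is bounded by `d`, the locus where it equals
`d` is an affine open. -/
theorem isAffineOpen_max_locus {X Y : Scheme.{u}} (f : X ⟶ Y) [IsAffine X] [IsAffine Y]
    [LocallyQuasiFinite f] [LocallyOfFiniteType f] (w : X → ℤ)
    (hw : MoreMor.IsWeighting f w) (hpos : ∀ x, 0 < w x) (d : ℤ)
    (hmax : ∀ y : Y, MoreMor.fibreIntegral f w y ≤ d) (Yd : Y.Opens)
    (hYd : ∀ y, y ∈ Yd ↔ MoreMor.fibreIntegral f w y = d) : IsAffineOpen Yd := by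
  by_cases hd : 0 ≤ d
  · obtain ⟨n, rfl⟩ := Int.eq_ofNat_of_zero_le hd
    exact stepB n (fun m _ => Q_all m) f w hw hpos hmax Yd hYd
  · have : Yd = ⊥ := by
      rw [eq_bot_iff]
      intro y hy
      have h1 := (hYd y).mp hy
      have h2 := fibreIntegral_nonneg f w hpos y
      omega
    rw [this]
    exact isAffineOpen_bot Y

end Groth.Agent.Lib.Helper21.MaxLoc
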