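import Groth.Agent.Lib.Helper21.MaxLoc3
import Groth.Agent.Lib.Helper21.Chev11

/-!
# Affine stratifications from the values of a fibre integral (helper21)
-/

set_option autoImplicit false
set_option linter.style.haveILetI false
universe u

open CategoryTheory AlgebraicGeometry Limits TopologicalSpace

namespace Groth.Agent.Lib.Helper21.MaxLoc

open Groth.Agent.Lib.Helper6 Groth.Agent.Lib.Helper6.Wt Scheme IdealSheafData

theorem isAffineHom_of_isAffine_of_isSeparated {X Y : Scheme.{u}} (f : X ⟶ Y) [IsAffine X]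
    [Y.IsSeparated] : IsAffineHom f := by
  have : IsAffineHom (f ≫ terminal.from Y) := inferInstance
  exact IsAffineHom.of_comp f (terminal.from Y)

/-- The stratum of a closed set on which the fibre integral is bounded by `n`, where it equals `n`. -/
theorem exists_stratum {X Y : Scheme.{u}} (f : X ⟶ Y) [Surjective f] [LocallyQuasiFinite f]
    [LocallyOfFiniteType f] [IsAffine X] [Y.IsSeparated] (w : X → ℤ)
    (hw : MoreMor.IsWeighting f w) (hpos : ∀ x, 0 < w x) (C : Closeds Y) (n : ℕ)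
    (hC : ∀ y ∈ C, MoreMor.fibreIntegral f w y ≤ n) :
    ∃ (Z : Scheme.{u}) (ι : Z ⟶ Y), IsImmersion ι ∧ IsAffine Z ∧ IsAffineHom ι ∧
      Set.range ι = {y | y ∈ C ∧ MoreMor.fibreIntegral f w y = n} := by
  have hfaff : IsAffineHom f := isAffineHom_of_isAffine_of_isSeparated f
  have hfin : ∀ y : Y, (f ⁻¹' {y}).Finite := fun y => f.finite_preimage_singleton y
  obtain ⟨j, hj⟩ : ∃ j : (vanishingIdeal C).subscheme ⟶ Y, j = (vanishingIdeal C).subschemeι :=
    ⟨_, rfl⟩
  have hjci : IsClosedImmersion j := by rw [hj]; infer_instance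
  have hjrange : Set.range j = (C : Set Y) := by
    rw [hj]; exact Groth.Agent.Lib.Helper21.Chev.range_subschemeι_vanishingIdeal C
  have hsq : IsPullback (pullback.fst f j) (pullback.snd f j) f j := IsPullback.of_hasPullback f j
  obtain ⟨fT, hfT⟩ : ∃ fT : pullback f j ⟶ (vanishingIdeal C).subscheme, fT = pullback.snd f j :=
    ⟨_, rfl⟩
  obtain ⟨h, hh⟩ : ∃ h : pullback f j ⟶ X, h = pullback.fst f j := ⟨_, rfl⟩
  rw [← hfT, ← hh] at hsq
  have hhci : IsClosedImmersion h := by rw [hh]; infer_instance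
  have hXT : IsAffine (pullback f j) := isAffine_of_isAffineHom h
  have hfTaff : IsAffineHom fT := by
    rw [hfT]; exact MorphismProperty.pullback_snd (P := @IsAffineHom) f j inferInstance
  have hfTlqf : LocallyQuasiFinite fT := by rw [hfT]; infer_instance
  have hfTlft : LocallyOfFiniteType fT := by rw [hfT]; infer_instance
  have hfTsurj : Surjective fT := by
    rw [hfT]; exact MorphismProperty.pullback_snd (P := @Surjective) f j inferInstance
  have hwT : MoreMor.IsWeighting fT (w ∘ ⇑h) := Groth.Agent.S1419.result f w hw fT h j hsq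
  have hposT : ∀ x, 0 < (w ∘ ⇑h) x := fun x => hpos _
  have hbc : ∀ t, MoreMor.fibreIntegral fT (w ∘ ⇑h) t = MoreMor.fibreIntegral f w (j t) :=
    fun t => fibreIntegral_baseChange hsq hfin w t
  have hfinT : ∀ t, (fT ⁻¹' {t}).Finite := fun t => fT.finite_preimage_singleton t
  have hjC : ∀ t, j t ∈ C := fun t => by
    have : j t ∈ Set.range j := ⟨t, rfl⟩
    rw [hjrange] at this
    exact this
  have hmaxT : ∀ t, MoreMor.fibreIntegral fT (w ∘ ⇑h) t ≤ n := fun t => by
    rw [hbc]; exact hC _ (hjC t)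
  -- the open max locus in `T`
  have hlsc := lowerSemicontinuous_fibreIntegral fT hfinT (w ∘ ⇑h) hwT hposT
  have hset : {t | MoreMor.fibreIntegral fT (w ∘ ⇑h) t = n} =
      (MoreMor.fibreIntegral fT (w ∘ ⇑h)) ⁻¹' Set.Ioi ((n : ℤ) - 1) := by
    ext t
    simp only [Set.mem_setOf_eq, Set.mem_preimage, Set.mem_Ioi]
    have := hmaxT t
    omega
  have hopen : IsOpen {t | MoreMor.fibreIntegral fT (w ∘ ⇑h) t = n} := by
    rw [hset]
    exact hlsc.isOpen_preimage _
  obtain ⟨Td, hTd⟩ : ∃ Td : (vanishingIdeal C).subscheme.Opens,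
      ∀ t, t ∈ Td ↔ MoreMor.fibreIntegral fT (w ∘ ⇑h) t = n := ⟨⟨_, hopen⟩, fun t => Iff.rfl⟩
  have hTdaff : IsAffineHom Td.ι := Q_all n fT (w ∘ ⇑h) hwT hposT hmaxT Td hTd
  -- `Td` is an affine scheme, by Chevalley
  have hres : IsPullback (fT ⁻¹ᵁ Td).ι (fT ∣_ Td) fT Td.ι := (isPullback_morphismRestrict fT Td).flip
  have hXd : IsAffineHom (fT ⁻¹ᵁ Td).ι := MorphismProperty.of_isPullback hres.flip hTdaff
  have hXdaff : IsAffine (fT ⁻¹ᵁ Td).toScheme := isAffine_of_isAffineHom (fT ⁻¹ᵁ Td).ι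
  have hfinite : IsFinite (fT ∣_ Td) :=
    isFinite_over_max_locus fT hfinT (w ∘ ⇑h) hwT hposT n hmaxT Td hTd
  have hsurj : Surjective (fT ∣_ Td) :=
    IsZariskiLocalAtTarget.restrict (P := @Surjective) hfTsurj Td
  have hTdA : IsAffine Td.toScheme := Groth.Agent.S0593.result _ _ (fT ∣_ Td)
  refine ⟨Td.toScheme, Td.ι ≫ j, inferInstance, hTdA, inferInstance, ?_⟩
  ext y
  simp only [Set.mem_range, Set.mem_setOf_eq]
  constructor
  · rintro ⟨t, rfl⟩
    have ht : Td.ι t ∈ Td := by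
      have : Td.ι t ∈ Set.range Td.ι := ⟨_, rfl⟩
      rwa [Scheme.Opens.range_ι] at this
    rw [Scheme.Hom.comp_apply]
    exact ⟨hjC _, by rw [← hbc]; exact (hTd _).mp ht⟩
  · rintro ⟨hyC, hy⟩
    have : y ∈ Set.range j := by rw [hjrange]; exact hyC
    obtain ⟨t, rfl⟩ := this
    have ht : t ∈ Td := (hTd t).mpr (by rw [hbc]; exact hy)
    have : t ∈ Set.range Td.ι := by rw [Scheme.Opens.range_ι]; exact ht
    obtain ⟨t', rfl⟩ := this
    exact ⟨t', by rw [Scheme.Hom.comp_apply]⟩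

end Groth.Agent.Lib.Helper21.MaxLoc
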