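import Mathlib

/-!
# Finiteness near a minimal prime (ring version), Stacks 10.122.10

A finite type ring map with finitely many primes over a minimal prime `p` of the base becomes
finite after inverting some `g ∉ p`.
-/

set_option autoImplicit false
universe u

namespace Groth.Agent.Lib.Helper21.MinFin

open Polynomial

/-- If `φ a * z` is integral for every generator `z`, then the localisation away from `a` is a
finite ring map. -/
theorem away_map_finite_of_integral_multiples {R S : Type u} [CommRing R] [CommRing S]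
    (φ : R →+* S) (hφ : φ.FiniteType) (s : Set S)
    (hs : @Algebra.adjoin R S _ _ φ.toAlgebra s = ⊤)
    (a : R) (hint : ∀ z ∈ s, φ.IsIntegralElem (φ a * z))
    (R' S' : Type u) [CommRing R'] [CommRing S'] [Algebra R R'] [Algebra S S']
    [IsLocalization.Away a R'] [IsLocalization.Away (φ a) S'] :
    (IsLocalization.Away.map R' S' φ a).Finite := by
  let _ := φ.toAlgebra
  rw [RingHom.finite_iff_isIntegral_and_finiteType]
  refine ⟨?_, RingHom.localization_away_map_finiteType R S R' S' φ a hφ⟩
  set ψ := IsLocalization.Away.map R' S' φ a with hψ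
  have hcomm : ∀ r : R, ψ (algebraMap R R' r) = algebraMap S S' (φ r) := fun r =>
    IsLocalization.map_eq _ r
  have hinv : ψ (IsLocalization.Away.invSelf a) * algebraMap S S' (φ a) = 1 := by
    rw [← hcomm, ← map_mul, mul_comm, IsLocalization.Away.mul_invSelf, map_one]
  -- images of integral elements
  have himg : ∀ x : S, φ.IsIntegralElem x → ψ.IsIntegralElem (algebraMap S S' x) := by
    rintro x ⟨p, hp, hpx⟩
    refine ⟨p.map (algebraMap R R'), hp.map _, ?_⟩
    rw [eval₂_map]
    have hc : ψ.comp (algebraMap R R') = (algebraMap S S').comp φ := RingHom.ext hcomm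
    rw [hc, ← hom_eval₂, hpx, map_zero]
  have hmem : ∀ x : S, ψ.IsIntegralElem (algebraMap S S' x) := by
    intro x
    have hx : x ∈ Algebra.adjoin R s := by rw [hs]; trivial
    induction hx using Algebra.adjoin_induction with
    | mem z hz =>
      have h2 := himg _ (hint z hz)
      have h3 : algebraMap S S' z =
          ψ (IsLocalization.Away.invSelf a) * algebraMap S S' (φ a * z) := by
        rw [map_mul, ← mul_assoc, hinv, one_mul]
      rw [h3]
      exact RingHom.IsIntegralElem.mul ψ ψ.isIntegralElem_map h2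
    | algebraMap r =>
      change ψ.IsIntegralElem (algebraMap S S' (φ r))
      rw [← hcomm]
      exact ψ.isIntegralElem_map
    | add x y _ _ hx hy =>
      rw [map_add]
      exact RingHom.IsIntegralElem.add ψ hx hy
    | mul x y _ _ hx hy =>
      rw [map_mul]
      exact RingHom.IsIntegralElem.mul ψ hx hy
  intro y
  obtain ⟨x, ⟨_, n, rfl⟩, rfl⟩ := IsLocalization.exists_mk'_eq (Submonoid.powers (φ a)) y
  have h4 : IsLocalization.mk' S' x (⟨φ a ^ n, n, rfl⟩ : Submonoid.powers (φ a)) =
      algebraMap S S' x * ψ (IsLocalization.Away.invSelf a) ^ n := by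
    have h5 := IsLocalization.mk'_spec S' x (⟨φ a ^ n, n, rfl⟩ : Submonoid.powers (φ a))
    have h6 : algebraMap S S' (φ a ^ n) * ψ (IsLocalization.Away.invSelf a) ^ n = 1 := by
      rw [map_pow, ← mul_pow, mul_comm, hinv, one_pow]
    calc IsLocalization.mk' S' x (⟨φ a ^ n, n, rfl⟩ : Submonoid.powers (φ a))
        = IsLocalization.mk' S' x (⟨φ a ^ n, n, rfl⟩ : Submonoid.powers (φ a)) *
          (algebraMap S S' (φ a ^ n) * ψ (IsLocalization.Away.invSelf a) ^ n) := by
            rw [h6, mul_one]
      _ = algebraMap S S' x * ψ (IsLocalization.Away.invSelf a) ^ n := by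
            rw [← mul_assoc, h5]
  rw [h4]
  rw [← map_pow]
  exact RingHom.IsIntegralElem.mul ψ (hmem x) ψ.isIntegralElem_map

/-- A finite type algebra with finite prime spectrum over a zero-dimensional local ring is
integral. -/
theorem isIntegral_of_finite_primeSpectrum {A B : Type u} [CommRing A] [CommRing B] [Algebra A B]
    [IsLocalRing A] [Ring.KrullDimLE 0 A] [Algebra.FiniteType A B] [Finite (PrimeSpectrum B)] :
    Algebra.IsIntegral A B := by
  set m := IsLocalRing.maximalIdeal A with hm
  set I : Ideal B := m.map (algebraMap A B) with hI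
  let _ : Field (A ⧸ m) := Ideal.Quotient.field m
  have hft : Algebra.FiniteType (A ⧸ m) (B ⧸ I) := by
    have h1 : Algebra.FiniteType A (B ⧸ I) := inferInstance
    exact Algebra.FiniteType.of_restrictScalars_finiteType A (A ⧸ m) (B ⧸ I)
  have hfinspec : Finite (PrimeSpectrum (B ⧸ I)) :=
    Finite.of_injective _ (PrimeSpectrum.comap_injective_of_surjective (Ideal.Quotient.mk I)
      Ideal.Quotient.mk_surjective)
  have hqf : Algebra.QuasiFinite (A ⧸ m) (B ⧸ I) :=
    Algebra.QuasiFinite.iff_finite_comap_preimage_singleton.mpr (fun x => Set.toFinite _)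
  have hmf : Module.Finite (A ⧸ m) (B ⧸ I) := Module.Finite.of_quasiFinite
  have hint : Algebra.IsIntegral (A ⧸ m) (B ⧸ I) := inferInstance
  have hnil : I ≤ nilradical B := by
    rw [hI, Ideal.map_le_iff_le_comap, hm, ← Ring.KrullDimLE.nilradical_eq_maximalIdeal]
    exact fun x hx ↦ IsNilpotent.map hx _
  refine ⟨fun b => ?_⟩
  obtain ⟨q', hq'm, hq'⟩ := hint.isIntegral (Ideal.Quotient.mk I b)
  obtain ⟨q, hqmap, -, hqm⟩ := lifts_and_degree_eq_and_monic (p := q')
    (f := Ideal.Quotient.mk m) (mem_lifts_of_surjective Ideal.Quotient.mk_surjective q') hq'm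
  have h1 : eval₂ (algebraMap A B) b q ∈ I := by
    rw [← Ideal.Quotient.eq_zero_iff_mem, hom_eval₂]
    rw [← hqmap, eval₂_map] at hq'
    have hc : (Ideal.Quotient.mk I).comp (algebraMap A B) =
        (algebraMap (A ⧸ m) (B ⧸ I)).comp (Ideal.Quotient.mk m) := RingHom.ext fun x => rfl
    rw [hc]
    exact hq'
  obtain ⟨e, he⟩ := hnil h1
  refine ⟨q ^ e, hqm.pow e, ?_⟩
  rw [eval₂_pow, he]

end Groth.Agent.Lib.Helper21.MinFin
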