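import Groth.Agent.Lib.Helper21.MinFin1

/-!
# Finiteness near a minimal prime (ring version), Stacks 10.122.10 — main statement
-/

set_option autoImplicit false
set_option linter.style.haveILetI false
universe u

namespace Groth.Agent.Lib.Helper21.MinFin

open Polynomial

/-- Stacks 10.122.10: a finite type ring map with finitely many primes over a minimal prime `p`
becomes finite after inverting any multiple of a suitable `a ∉ p`. -/
theorem exists_away_map_finite_of_minimalPrime {R S : Type u} [CommRing R] [CommRing S]
    (φ : R →+* S) (hφ : φ.FiniteType) (p : Ideal R) (hp : p ∈ minimalPrimes R)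
    (hfin : {q : PrimeSpectrum S | q.asIdeal.comap φ = p}.Finite) :
    ∃ a : R, a ∉ p ∧ ∀ a' : R, a ∣ a' → ∀ (R' S' : Type u) [CommRing R'] [CommRing S']
      [Algebra R R'] [Algebra S S'] [IsLocalization.Away a' R'] [IsLocalization.Away (φ a') S'],
      (IsLocalization.Away.map R' S' φ a').Finite := by
  letI := φ.toAlgebra
  haveI : p.IsPrime := hp.1.1
  set M := p.primeCompl with hM
  let Rp := Localization.AtPrime p
  let Sp := Localization (Algebra.algebraMapSubmonoid S M)
  haveI hdim : Ring.KrullDimLE 0 Rp := by
    rw [Ring.krullDimLE_iff, IsLocalization.AtPrime.ringKrullDim_eq_height p Rp,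
      Ideal.height_eq_zero_iff.mpr hp]
    rfl
  haveI hft : Algebra.FiniteType Rp Sp := by
    have h1 : (algebraMap Rp Sp).FiniteType := by
      rw [localizationAlgebraMap_def]
      haveI : IsLocalization (Submonoid.map (algebraMap R S) M) Sp :=
        inferInstanceAs (IsLocalization (Algebra.algebraMapSubmonoid S M) Sp)
      exact RingHom.finiteType_localizationPreserves (algebraMap R S) M Rp Sp hφ
    exact h1
  haveI hfinSp : Finite (PrimeSpectrum Sp) := by
    have hmem : ∀ q' : PrimeSpectrum Sp,
        PrimeSpectrum.comap (algebraMap S Sp) q' ∈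
          {q : PrimeSpectrum S | q.asIdeal.comap φ = p} := by
      intro q'
      change (q'.asIdeal.comap (algebraMap S Sp)).comap φ = p
      set P := (q'.asIdeal.comap (algebraMap S Sp)).comap φ with hP
      haveI : P.IsPrime := by rw [hP]; infer_instance
      have hle : P ≤ p := by
        intro x hx
        by_contra hxp
        have hunit : IsUnit (algebraMap S Sp (φ x)) :=
          IsLocalization.map_units Sp (⟨φ x, x, hxp, rfl⟩ : Algebra.algebraMapSubmonoid S M)
        have hx' : algebraMap S Sp (φ x) ∈ q'.asIdeal := hx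
        exact q'.isPrime.ne_top (Ideal.eq_top_of_isUnit_mem _ hx' hunit)
      exact le_antisymm hle (hp.2 ⟨inferInstance, bot_le⟩ hle)
    haveI : Finite ↥{q : PrimeSpectrum S | q.asIdeal.comap φ = p} := hfin.to_subtype
    refine Finite.of_injective (fun q' => (⟨_, hmem q'⟩ :
      ↥{q : PrimeSpectrum S | q.asIdeal.comap φ = p})) ?_
    intro q1 q2 h
    have := congrArg Subtype.val h
    exact PrimeSpectrum.localization_comap_injective Sp (Algebra.algebraMapSubmonoid S M) this
  have hint : Algebra.IsIntegral Rp Sp := isIntegral_of_finite_primeSpectrum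
  have hkey : ∀ z : S, ∃ m ∈ M, IsIntegral R (m • z) := by
    intro z
    have h1 : IsIntegral Rp (algebraMap S Sp z) := hint.isIntegral _
    obtain ⟨⟨m₂, hm₂⟩, hm₂s⟩ := IsIntegral.exists_multiple_integral_of_isLocalization M _ h1
    obtain ⟨m₃, hm₃, hm₃s⟩ := IsLocalization.exists_isIntegral_smul_of_isIntegral_map (Sₘ := Sp)
      M (x := m₂ • z) (by
        have : algebraMap S Sp (m₂ • z) = (⟨m₂, hm₂⟩ : M) • algebraMap S Sp z := by
          rw [Submonoid.smul_def, Algebra.smul_def, Algebra.smul_def, map_mul,
            ← IsScalarTower.algebraMap_apply]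
        rw [this]
        exact hm₂s)
    exact ⟨m₃ * m₂, mul_mem hm₃ hm₂, by rwa [mul_smul]⟩
  obtain ⟨s, hs⟩ := (hφ : Algebra.FiniteType R S).out
  choose m hmM hmint using hkey
  refine ⟨∏ z ∈ s, m z, ?_, ?_⟩
  · intro hmem
    obtain ⟨z, -, hz⟩ := (Ideal.IsPrime.prod_mem_iff).mp hmem
    exact hmM z hz
  · intro a' hdvd R' S' _ _ _ _ _ _
    apply away_map_finite_of_integral_multiples φ hφ (s : Set S) hs a'
    intro z hz
    obtain ⟨c, hc⟩ := (Finset.dvd_prod_of_mem m hz).trans hdvd
    have h1 : IsIntegral R (m z • z) := hmint z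
    have h2 : φ a' * z = φ c * (m z • z) := by
      rw [hc, map_mul, Algebra.smul_def]
      change φ (m z) * φ c * z = φ c * (φ (m z) * z)
      ring
    rw [h2]
    exact RingHom.IsIntegralElem.mul φ φ.isIntegralElem_map h1

end Groth.Agent.Lib.Helper21.MinFin
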