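import Groth.Agent.Lib.Helper21.MinFin3
import Groth.Agent.Lib.Helper21.GenFin5

/-!
# Finiteness over a neighbourhood of a generic point of an irreducible component
-/

set_option autoImplicit false
set_option linter.style.haveILetI false
set_option linter.unusedSectionVars false
universe u
open AlgebraicGeometry CategoryTheory Limits TopologicalSpace Polynomial
open scoped Function

namespace Groth.Agent.Lib.Helper21.MinFin

open Groth.Agent.Lib.Helper21.GenFin (isFinite_resLE_iff basicOpen_le_of_dvd)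

variable {X Y : Scheme.{u}} (f : X ⟶ Y)

theorem basicOpen_appLE_le {V : Y.Opens} {W : X.Opens} (hWV : W ≤ f ⁻¹ᵁ V) (a : Γ(Y, V)) :
    X.basicOpen ((f.appLE V W hWV).hom a) ≤ f ⁻¹ᵁ (Y.basicOpen a) := by
  rw [Scheme.basicOpen_appLE]
  exact inf_le_right

variable [LocallyOfFiniteType f]

/-- A finite disjoint affine open cover of `f⁻¹ V` by pieces finite over `V` makes
`f⁻¹ V ⟶ V` finite. -/
theorem isFinite_morphismRestrict_of_disjoint_cover {ι : Type u} [Finite ι] (V : Y.Opens)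
    (hV : IsAffineOpen V) (W : ι → X.Opens) (hW : ∀ i, IsAffineOpen (W i))
    (hdisj : Pairwise (Disjoint on W)) (hWV : ∀ i, W i ≤ f ⁻¹ᵁ V) (hcov : f ⁻¹ᵁ V ≤ ⨆ i, W i)
    (hfin : ∀ i, IsFinite (f.resLE V (W i) (hWV i))) : IsFinite (f ∣_ V) := by
  have heq : ⨆ i, W i = f ⁻¹ᵁ V := le_antisymm (iSup_le hWV) hcov
  have hU : IsAffineOpen (f ⁻¹ᵁ V) := heq ▸ IsAffineOpen.iSup_of_disjoint hW hdisj
  rw [← Scheme.Hom.resLE_eq_morphismRestrict, isFinite_resLE_iff f hV hU le_rfl,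
    RingHom.finite_iff_isIntegral_and_finiteType]
  refine ⟨?_, HasRingHomProperty.appLE (P := @LocallyOfFiniteType) f inferInstance ⟨V, hV⟩
    ⟨_, hU⟩ le_rfl⟩
  intro b
  have hi : ∀ i, ∃ P : Γ(Y, V)[X], P.Monic ∧
      eval₂ (f.appLE V (W i) (hWV i)).hom ((X.presheaf.map (homOfLE (hWV i)).op).hom b) P = 0 :=
    fun i => ((isFinite_resLE_iff f hV (hW i) (hWV i)).mp (hfin i)).to_isIntegral _
  choose P hPm hP using hi
  cases nonempty_fintype ι
  refine ⟨∏ i, P i, monic_prod_of_monic _ _ (fun i _ => hPm i), ?_⟩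
  refine X.sheaf.eq_of_locally_eq' W (f ⁻¹ᵁ V) (fun i => homOfLE (hWV i)) hcov _ 0 ?_
  intro i
  change (X.presheaf.map (homOfLE (hWV i)).op).hom _ =
    (X.presheaf.map (homOfLE (hWV i)).op).hom 0
  rw [map_zero, Polynomial.hom_eval₂]
  have hcomp : (X.presheaf.map (homOfLE (hWV i)).op).hom.comp (f.appLE V (f ⁻¹ᵁ V) le_rfl).hom =
      (f.appLE V (W i) (hWV i)).hom := by
    rw [← CommRingCat.hom_comp, Scheme.Hom.appLE_map]
  rw [hcomp, Polynomial.eval₂_finsetProd]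
  exact Finset.prod_eq_zero (Finset.mem_univ i) (hP i)

variable (η : Y) (hη : closure {η} ∈ irreducibleComponents Y)
  (V : Y.Opens) (hV : IsAffineOpen V) (hηV : η ∈ V)

include hη hV hηV in
/-- A chart of `X` with finitely many points over `η` becomes finite over a basic open
neighbourhood of `η`. -/
theorem exists_isFinite_resLE_basicOpen (W : X.Opens) (hW : IsAffineOpen W) (hWV : W ≤ f ⁻¹ᵁ V)
    (hfin : {x : X | x ∈ W ∧ f x = η}.Finite) :
    ∃ a : Γ(Y, V), η ∈ Y.basicOpen a ∧ ∀ a' : Γ(Y, V), a ∣ a' →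
      IsFinite (f.resLE (Y.basicOpen a') (X.basicOpen ((f.appLE V W hWV).hom a'))
        (basicOpen_appLE_le f hWV a')) := by
  set φ := (f.appLE V W hWV).hom with hφ
  set p := (hV.primeIdealOf ⟨η, hηV⟩).asIdeal with hp
  have hpmin : p ∈ minimalPrimes Γ(Y, V) := primeIdealOf_mem_minimalPrimes hV η hη hηV
  have hft : φ.FiniteType :=
    HasRingHomProperty.appLE (P := @LocallyOfFiniteType) f inferInstance ⟨V, hV⟩ ⟨W, hW⟩ hWV
  have hfinp : {q : PrimeSpectrum Γ(X, W) | q.asIdeal.comap φ = p}.Finite := by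
    refine Set.Finite.of_finite_image (f := fun q => hW.fromSpec q) (hfin.subset ?_)
      (hW.fromSpec.isOpenEmbedding.injective.injOn)
    rintro _ ⟨q, hq, rfl⟩
    have hxW : hW.fromSpec q ∈ W := fromSpec_mem hW q
    refine ⟨hxW, ?_⟩
    have h1 : hW.primeIdealOf ⟨hW.fromSpec q, hxW⟩ = q := primeIdealOf_fromSpec hW q
    have h2 := IsAffineOpen.comap_primeIdealOf_appLE V hV W hW hWV hxW
    rw [h1] at h2
    have h3 : hV.primeIdealOf ⟨f (hW.fromSpec q), hWV hxW⟩ = hV.primeIdealOf ⟨η, hηV⟩ := by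
      rw [← h2]
      apply PrimeSpectrum.ext
      exact hq
    exact congrArg Subtype.val (primeIdealOf_injective hV h3)
  obtain ⟨a, hap, ha⟩ := exists_away_map_finite_of_minimalPrime φ hft p hpmin hfinp
  refine ⟨a, (Groth.Agent.Lib.Helper7.mem_basicOpen_iff_notMem_primeIdealOf Y hV η hηV a).mpr hap,
    ?_⟩
  intro a' hdvd
  have hV' : IsAffineOpen (Y.basicOpen a') := hV.basicOpen a'
  have hW' : IsAffineOpen (X.basicOpen (φ a')) := hW.basicOpen _
  rw [isFinite_resLE_iff f hV' hW' (basicOpen_appLE_le f hWV a')]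
  letI := hV.isLocalization_basicOpen a'
  letI := hW.isLocalization_basicOpen (φ a')
  have h3 := hV.appLE_eq_away_map f hW hWV a'
  have h4 : f.appLE (Y.basicOpen a') (X.basicOpen (φ a')) (basicOpen_appLE_le f hWV a') =
      CommRingCat.ofHom (IsLocalization.Away.map _ _ φ a') := h3
  rw [h4]
  exact ha a' hdvd Γ(Y, Y.basicOpen a') Γ(X, X.basicOpen (φ a'))

include hη hV hηV in
/-- Combination: finitely many affine charts over `V`, generically pairwise disjoint, covering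
the fibre over `η`, each with finite fibre; then `f` is finite over a basic open neighbourhood
of `η`. -/
theorem exists_isFinite_morphismRestrict_basicOpen {ι : Type u} [Finite ι]
    (W : ι → X.Opens) (hW : ∀ i, IsAffineOpen (W i)) (hWV : ∀ i, W i ≤ f ⁻¹ᵁ V)
    (hfinW : ∀ i, {x : X | x ∈ W i ∧ f x = η}.Finite)
    (hpair : ∀ i j, i ≠ j → IsCompact ((W i ⊓ W j : X.Opens) : Set X) ∧
      ∀ x ∈ W i ⊓ W j, f x ≠ η)
    (hcpt : IsCompact ((f ⁻¹ᵁ V : X.Opens) : Set X)) (hcov : ∀ x, f x = η → x ∈ ⨆ i, W i) :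
    ∃ c : Γ(Y, V), η ∈ Y.basicOpen c ∧ IsFinite (f ∣_ Y.basicOpen c) := by
  classical
  cases nonempty_fintype ι
  choose a haη ha using fun i =>
    exists_isFinite_resLE_basicOpen f η hη V hV hηV (W i) (hW i) (hWV i) (hfinW i)
  have hc2 : ∀ i j, ∃ c : Γ(Y, V), η ∈ Y.basicOpen c ∧
      (i ≠ j → (W i ⊓ W j) ⊓ f ⁻¹ᵁ (Y.basicOpen c) ≤ ⊥) := by
    intro i j
    by_cases hij : i = j
    · refine ⟨1, ?_, fun h => absurd hij h⟩
      rw [Scheme.basicOpen_of_isUnit _ isUnit_one]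
      exact hηV
    · obtain ⟨c, h1, h2⟩ := exists_inf_preimage_basicOpen_le_of_isCompact f η hη V hV hηV ⊥
        (W i ⊓ W j) (hpair i j hij).1 (inf_le_left.trans (hWV i))
        (fun x hx hfx => absurd hfx ((hpair i j hij).2 x hx))
      exact ⟨c, h1, fun _ => h2⟩
  choose c2 hc2η hc2 using hc2
  obtain ⟨c0, hc0η, hc0⟩ := exists_inf_preimage_basicOpen_le_of_isCompact f η hη V hV hηV
    (⨆ i, W i) (f ⁻¹ᵁ V) hcpt le_rfl (fun x _ hfx => hcov x hfx)
  set c : Γ(Y, V) := (∏ i, a i) * (∏ i, ∏ j, c2 i j) * c0 with hc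
  have hmem : ∀ r : Γ(Y, V), η ∈ Y.basicOpen r ↔ r ∉ (hV.primeIdealOf ⟨η, hηV⟩).asIdeal :=
    fun r => Groth.Agent.Lib.Helper7.mem_basicOpen_iff_notMem_primeIdealOf Y hV η hηV r
  have hcη : η ∈ Y.basicOpen c := by
    rw [hmem]
    intro hcp
    rcases (Ideal.IsPrime.mul_mem_iff_mem_or_mem (hV.primeIdealOf ⟨η, hηV⟩).isPrime).mp hcp with
      h | h
    · rcases (Ideal.IsPrime.mul_mem_iff_mem_or_mem (hV.primeIdealOf ⟨η, hηV⟩).isPrime).mp h with
        h | h
      · obtain ⟨i, -, hi⟩ := (Ideal.IsPrime.prod_mem_iff).mp h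
        exact (hmem _).mp (haη i) hi
      · obtain ⟨i, -, hi⟩ := (Ideal.IsPrime.prod_mem_iff).mp h
        obtain ⟨j, -, hj⟩ := (Ideal.IsPrime.prod_mem_iff).mp hi
        exact (hmem _).mp (hc2η i j) hj
    · exact (hmem _).mp hc0η h
  have hdvd_a : ∀ i, a i ∣ c := fun i =>
    Dvd.dvd.mul_right (Dvd.dvd.mul_right (Finset.dvd_prod_of_mem a (Finset.mem_univ i)) _) _
  have hdvd_c2 : ∀ i j, c2 i j ∣ c := fun i j =>
    Dvd.dvd.mul_right (Dvd.dvd.mul_left
      ((Finset.dvd_prod_of_mem (c2 i) (Finset.mem_univ j)).trans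
        (Finset.dvd_prod_of_mem (fun i => ∏ j, c2 i j) (Finset.mem_univ i))) _) _
  have hdvd_c0 : c0 ∣ c := Dvd.intro_left _ rfl
  refine ⟨c, hcη, ?_⟩
  have hWeq : ∀ i, X.basicOpen ((f.appLE V (W i) (hWV i)).hom c) =
      W i ⊓ f ⁻¹ᵁ (Y.basicOpen c) := fun i => Scheme.basicOpen_appLE f (W i) V (hWV i) c
  refine isFinite_morphismRestrict_of_disjoint_cover f (Y.basicOpen c) (hV.basicOpen c)
    (fun i => X.basicOpen ((f.appLE V (W i) (hWV i)).hom c)) (fun i => (hW i).basicOpen _)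
    ?_ (fun i => basicOpen_appLE_le f (hWV i) c) ?_ (fun i => ha i c (hdvd_a i))
  · intro i j hij
    rw [Function.onFun, disjoint_iff, hWeq, hWeq]
    apply le_bot_iff.mp
    refine le_trans ?_ (hc2 i j hij)
    intro x hx
    exact ⟨⟨hx.1.1, hx.2.1⟩, basicOpen_le_of_dvd (hdvd_c2 i j) hx.1.2⟩
  · intro x hx
    have hxV : x ∈ f ⁻¹ᵁ V := Y.basicOpen_le c hx
    have hx0 : x ∈ ⨆ i, W i := hc0 ⟨hxV, basicOpen_le_of_dvd hdvd_c0 hx⟩
    simp only [Opens.mem_iSup] at hx0 ⊢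
    obtain ⟨i, hi⟩ := hx0
    refine ⟨i, ?_⟩
    rw [hWeq]
    exact ⟨hi, hx⟩

end Groth.Agent.Lib.Helper21.MinFin
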