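import Groth.Agent.Lib.Helper21.MinFin4

/-!
# Stacks 02NW (1) ⇔ (4): finite generic fibre iff finite over a neighbourhood
-/

set_option autoImplicit false
set_option linter.style.haveILetI false
set_option linter.unusedSectionVars false
universe u
open AlgebraicGeometry CategoryTheory Limits TopologicalSpace

namespace Groth.Agent.Lib.Helper21.MinFin

variable {X Y : Scheme.{u}} (f : X ⟶ Y) [LocallyOfFiniteType f]

/-- A finite fibre of a morphism locally of finite type is discrete. -/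
theorem discreteTopology_fibre_of_finite (η : Y) (hF : (f ⁻¹' {η}).Finite) :
    DiscreteTopology ↥(f ⁻¹' {η}) := by
  haveI : Finite ↥(f ⁻¹' {η}) := hF.to_subtype
  haveI : Finite (f.fiber η) := (f.fiberHomeo η).toEquiv.finite_iff.mpr inferInstance
  haveI : LocallyOfFiniteType (f.fiberToSpecResidueField η) :=
    MorphismProperty.pullback_snd _ _ inferInstance
  haveI : LocallyQuasiFinite (f.fiberToSpecResidueField η) :=
    .of_finite_preimage_singleton _ (fun _ => Set.toFinite _)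
  haveI : IsLocallyArtinian (f.fiber η) :=
    .of_locallyQuasiFinite (f.fiberToSpecResidueField η)
  exact (f.fiberHomeo η).symm.isEmbedding.discreteTopology

/-- Isolating affine neighbourhoods of the points of a finite fibre. -/
theorem exists_isolating_affine_nhd (η : Y) (hF : (f ⁻¹' {η}).Finite) (O : X.Opens) (x : X)
    (hx : f x = η) (hxO : x ∈ O) :
    ∃ W : X.Opens, IsAffineOpen W ∧ x ∈ W ∧ W ≤ O ∧ ∀ x' ∈ W, f x' = η → x' = x := by
  haveI := discreteTopology_fibre_of_finite f η hF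
  have hopen : IsOpen ({⟨x, hx⟩} : Set ↥(f ⁻¹' {η})) := isOpen_discrete _
  obtain ⟨O', hO', hO'eq⟩ := isOpen_induced_iff.mp hopen
  have hxO' : x ∈ O' := by
    have : (⟨x, hx⟩ : ↥(f ⁻¹' {η})) ∈ Subtype.val ⁻¹' O' := by rw [hO'eq]; rfl
    exact this
  obtain ⟨W, hW, hxW, hWO⟩ := Opens.isBasis_iff_nbhd.mp X.isBasis_affineOpens
    (show x ∈ O ⊓ ⟨O', hO'⟩ from ⟨hxO, hxO'⟩)
  refine ⟨W, hW, hxW, hWO.trans inf_le_left, ?_⟩
  intro x' hx'W hx'
  have h1 : (⟨x', hx'⟩ : ↥(f ⁻¹' {η})) ∈ Subtype.val ⁻¹' O' := (hWO hx'W).2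
  rw [hO'eq] at h1
  exact congrArg Subtype.val (Set.mem_singleton_iff.mp h1)

theorem exists_isFinite_morphismRestrict_of_finite_fibre [QuasiCompact f] [QuasiSeparated f]
    (η : Y) (hη : closure {η} ∈ irreducibleComponents Y) (hF : (f ⁻¹' {η}).Finite) :
    ∃ V : Y.Opens, IsAffineOpen V ∧ η ∈ V ∧ IsFinite (f ∣_ V) := by
  obtain ⟨V₀, hV₀, hηV₀, -⟩ := Opens.isBasis_iff_nbhd.mp Y.isBasis_affineOpens
    (show η ∈ (⊤ : Y.Opens) from trivial)
  have hV₀ : IsAffineOpen V₀ := hV₀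
  haveI : Finite ↥(f ⁻¹' {η}) := hF.to_subtype
  have hex : ∀ i : ↥(f ⁻¹' {η}), ∃ W : X.Opens, IsAffineOpen W ∧ i.1 ∈ W ∧ W ≤ f ⁻¹ᵁ V₀ ∧
      ∀ x' ∈ W, f x' = η → x' = i.1 := fun i =>
    exists_isolating_affine_nhd f η hF (f ⁻¹ᵁ V₀) i.1 i.2
      (show f i.1 ∈ V₀ by rw [show f i.1 = η from i.2]; exact hηV₀)
  choose W hW hiW hWV hWiso using hex
  obtain ⟨c, hcη, hfin⟩ := exists_isFinite_morphismRestrict_basicOpen f η hη V₀ hV₀ hηV₀ W hW hWV
    (fun i => hF.subset (fun x hx => hx.2))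
    (fun i j hij => ⟨(f.isQuasiSeparated_preimage hV₀.isQuasiSeparated) (W i) (W j)
        (hWV i) (W i).isOpen (hW i).isCompact (hWV j) (W j).isOpen (hW j).isCompact,
      fun x hx hfx => hij (Subtype.ext ((hWiso i x hx.1 hfx).symm.trans (hWiso j x hx.2 hfx)))⟩)
    (f.isCompact_preimage hV₀.isCompact)
    (fun x hx => Opens.mem_iSup.mpr ⟨⟨x, hx⟩, hiW ⟨x, hx⟩⟩)
  exact ⟨Y.basicOpen c, hV₀.basicOpen c, hcη, hfin⟩

theorem finite_fibre_of_isFinite_morphismRestrict (η : Y) (V : Y.Opens) (hηV : η ∈ V)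
    (hfin : IsFinite (f ∣_ V)) : (f ⁻¹' {η}).Finite := by
  have h1 : ((f ∣_ V) ⁻¹' {⟨η, hηV⟩}).Finite := (f ∣_ V).finite_preimage_singleton _
  refine (h1.image Subtype.val).subset ?_
  intro x hx
  have hxV : x ∈ f ⁻¹ᵁ V := by
    change f x ∈ V
    rw [show f x = η from hx]; exact hηV
  refine ⟨⟨x, hxV⟩, ?_, rfl⟩
  change (f ∣_ V) ⟨x, hxV⟩ = ⟨η, hηV⟩
  apply Subtype.ext
  rw [morphismRestrict_base_coe]
  exact hx

end Groth.Agent.Lib.Helper21.MinFin
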