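import Groth.Agent.Lib.Helper21.MinFin5

/-!
# Stacks 0BAH-type statement: finite over a dense open when generic points correspond
-/

set_option autoImplicit false
set_option linter.style.haveILetI false
set_option linter.unusedSectionVars false
universe u
open AlgebraicGeometry CategoryTheory Limits TopologicalSpace

namespace Groth.Agent.Lib.Helper21.MinFin

section Top

variable {T : Type*} [TopologicalSpace T]

/-- The set of generic points of irreducible components. -/
def genPts (T : Type*) [TopologicalSpace T] : Set T :=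
  {η | closure {η} ∈ irreducibleComponents T}

theorem finite_genPts [T0Space T] (h : (irreducibleComponents T).Finite) : (genPts T).Finite := by
  refine Set.Finite.of_finite_image (f := fun η : T => closure ({η} : Set T))
    (h.subset ?_) ?_
  · rintro _ ⟨η, hη, rfl⟩; exact hη
  · intro a _ b _ hab
    exact (inseparable_iff_closure_eq.mpr hab).eq

/-- The complement of the union of the irreducible components other than `closure {η}`. -/
def isoNhd (η : T) : Set T := (⋃ Z ∈ irreducibleComponents T \ {closure {η}}, Z)ᶜ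

theorem isOpen_isoNhd (h : (irreducibleComponents T).Finite) (η : T) : IsOpen (isoNhd η) := by
  rw [isoNhd, isOpen_compl_iff]
  exact (h.subset Set.sdiff_subset).isClosed_biUnion
    (fun Z hZ => isClosed_of_mem_irreducibleComponents Z hZ.1)

theorem mem_isoNhd {η : T} (hη : η ∈ genPts T) : η ∈ isoNhd η := by
  rw [isoNhd, Set.mem_compl_iff]
  intro hmem
  simp only [Set.mem_iUnion, exists_prop] at hmem
  obtain ⟨Z, ⟨hZ, hZne⟩, hηZ⟩ := hmem
  apply hZne
  have hcl : IsClosed Z := isClosed_of_mem_irreducibleComponents Z hZ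
  have h1 : closure ({η} : Set T) ⊆ Z := hcl.closure_subset_iff.mpr (Set.singleton_subset_iff.mpr hηZ)
  exact Set.mem_singleton_iff.mpr (le_antisymm (hη.2 hZ.1 h1) h1)

theorem disjoint_isoNhd [T0Space T] {η η' : T} (hne : η ≠ η') :
    Disjoint (isoNhd η) (isoNhd η') := by
  rw [Set.disjoint_left]
  intro y hy hy'
  rw [isoNhd, Set.mem_compl_iff] at hy hy'
  have hZ := irreducibleComponent_mem_irreducibleComponents y
  have hyZ : y ∈ irreducibleComponent y := mem_irreducibleComponent
  have h1 : irreducibleComponent y = closure {η} := by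
    by_contra hcon
    exact hy (Set.mem_biUnion (⟨hZ, hcon⟩ : irreducibleComponent y ∈
      irreducibleComponents T \ {closure {η}}) hyZ)
  have h2 : irreducibleComponent y = closure {η'} := by
    by_contra hcon
    exact hy' (Set.mem_biUnion (⟨hZ, hcon⟩ : irreducibleComponent y ∈
      irreducibleComponents T \ {closure {η'}}) hyZ)
  exact hne (inseparable_iff_closure_eq.mpr (h1.symm.trans h2)).eq

theorem dense_of_genPts_subset [QuasiSober T] {V : Set T} (hV : genPts T ⊆ V) : Dense V := by
  intro y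
  have hZ := irreducibleComponent_mem_irreducibleComponents y
  obtain ⟨η, hη⟩ := QuasiSober.sober hZ.1 (isClosed_of_mem_irreducibleComponents _ hZ)
  have hη' : closure ({η} : Set T) = irreducibleComponent y := hη
  have hηG : η ∈ genPts T := by
    change closure {η} ∈ irreducibleComponents T
    rw [hη']; exact hZ
  have h1 : closure ({η} : Set T) ⊆ closure V :=
    closure_mono (Set.singleton_subset_iff.mpr (hV hηG))
  apply h1
  rw [hη']
  exact mem_irreducibleComponent

end Top

/-- A target-local property holds over a union of opens if it holds over each. -/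
theorem morphismRestrict_iSup_of_forall {P : MorphismProperty Scheme.{u}}
    [IsZariskiLocalAtTarget P] {X Y : Scheme.{u}} (f : X ⟶ Y) {ι : Type*} (U : ι → Y.Opens)
    (H : ∀ i, P (f ∣_ U i)) : P (f ∣_ ⨆ i, U i) := by
  set V := ⨆ i, U i with hV
  refine IsZariskiLocalAtTarget.of_iSup_eq_top (f := f ∣_ V) (fun i => V.ι ⁻¹ᵁ U i) ?_ ?_
  · rw [eq_top_iff]
    rintro ⟨y, hy⟩ -
    rw [hV, Opens.mem_iSup] at hy
    obtain ⟨i, hi⟩ := hy
    exact Opens.mem_iSup.mpr ⟨i, hi⟩
  · intro i
    have e : V.ι ''ᵁ (V.ι ⁻¹ᵁ U i) = U i := by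
      rw [Scheme.Hom.image_preimage_eq_opensRange_inf, Scheme.Opens.opensRange_ι]
      exact inf_eq_right.mpr (le_iSup U i)
    exact (P.arrow_mk_iso_iff (morphismRestrictRestrict f V (V.ι ⁻¹ᵁ U i) ≪≫
      morphismRestrictEq f e)).mpr (H i)

variable {X Y : Scheme.{u}} (f : X ⟶ Y) [LocallyOfFiniteType f]

theorem exists_dense_isFinite_morphismRestrict [QuasiCompact f]
    (hX : (irreducibleComponents X).Finite)
    (hgen : ∀ x : X, closure {x} ∈ irreducibleComponents X ↔
      closure {f x} ∈ irreducibleComponents Y) :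
    ∃ V : Y.Opens, Dense (V : Set Y) ∧ IsFinite (f ∣_ V) := by
  have hGX : (genPts X).Finite := finite_genPts hX
  have hex : ∀ η : ↥(genPts Y), ∃ V : Y.Opens, η.1 ∈ V ∧ IsFinite (f ∣_ V) := by
    rintro ⟨η, hη⟩
    have hη' : closure {η} ∈ irreducibleComponents Y := hη
    have hFsub : f ⁻¹' {η} ⊆ genPts X := by
      intro x hx
      change closure {x} ∈ irreducibleComponents X
      rw [hgen x, show f x = η from hx]
      exact hη'
    have hF : (f ⁻¹' {η}).Finite := hGX.subset hFsub
    haveI : Finite ↥(f ⁻¹' {η}) := hF.to_subtype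
    obtain ⟨V₀, hV₀, hηV₀, -⟩ := Opens.isBasis_iff_nbhd.mp Y.isBasis_affineOpens
      (show η ∈ (⊤ : Y.Opens) from trivial)
    have hV₀ : IsAffineOpen V₀ := hV₀
    have hexW : ∀ i : ↥(f ⁻¹' {η}), ∃ W : X.Opens, IsAffineOpen W ∧ i.1 ∈ W ∧ W ≤ f ⁻¹ᵁ V₀ ∧
        (W : Set X) ⊆ isoNhd i.1 := by
      intro i
      obtain ⟨W, hW, hiW, hWle⟩ := Opens.isBasis_iff_nbhd.mp X.isBasis_affineOpens
        (show i.1 ∈ f ⁻¹ᵁ V₀ ⊓ ⟨isoNhd i.1, isOpen_isoNhd hX i.1⟩ from
          ⟨show f i.1 ∈ V₀ by rw [show f i.1 = η from i.2]; exact hηV₀,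
            mem_isoNhd (hFsub i.2)⟩)
      exact ⟨W, hW, hiW, hWle.trans inf_le_left, fun x hx => (hWle hx).2⟩
    choose W hW hiW hWV hWiso using hexW
    have hdisj : ∀ i j, i ≠ j → W i ⊓ W j = ⊥ := by
      intro i j hij
      rw [eq_bot_iff]
      intro x hx
      have hne : i.1 ≠ j.1 := fun h => hij (Subtype.ext h)
      exact (Set.disjoint_left.mp (disjoint_isoNhd hne) (hWiso i hx.1) (hWiso j hx.2)).elim
    obtain ⟨c, hcη, hfin⟩ := exists_isFinite_morphismRestrict_basicOpen f η hη' V₀ hV₀ hηV₀ W hW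
      hWV (fun i => hF.subset (fun x hx => hx.2))
      (fun i j hij => by
        rw [hdisj i j hij]
        exact ⟨by simp, fun x hx => absurd hx (by simp)⟩)
      (f.isCompact_preimage hV₀.isCompact)
      (fun x hx => Opens.mem_iSup.mpr ⟨⟨x, hx⟩, hiW ⟨x, hx⟩⟩)
    exact ⟨Y.basicOpen c, hcη, hfin⟩
  choose V hηV hfin using hex
  refine ⟨⨆ η, V η, ?_, morphismRestrict_iSup_of_forall f V hfin⟩
  apply dense_of_genPts_subset
  intro η hη
  exact Opens.mem_iSup.mpr ⟨⟨η, hη⟩, hηV ⟨η, hη⟩⟩

end Groth.Agent.Lib.Helper21.MinFin
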