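import Groth.Agent.Lib.Helper23.SyntF1
import Groth.Agent.Lib.Helper18.FlatLocal
import Groth.Agent.Lib.Helper18.Miracle
import Groth.Agent.Lib.Helper18.FibQuot

set_option autoImplicit false
set_option linter.style.haveILetI false
universe u

open IsLocalRing

namespace Groth.Agent.Lib.Helper21.MirTFAE

/-- the closed fibre of a flat local homomorphism with Cohen–Macaulay source and target is
Cohen–Macaulay -/
theorem isCohenMacaulayLocalRing_fibre_of_flat (A B : Type u) [CommRing A] [CommRing B]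
    [IsLocalRing A] [IsLocalRing B] [IsNoetherianRing A] [IsNoetherianRing B] [Algebra A B]
    [IsLocalHom (algebraMap A B)] [Module.Flat A B]
    (hA : LocCoh.IsCohenMacaulayLocalRing A) (hB : LocCoh.IsCohenMacaulayLocalRing B) :
    LocCoh.IsCohenMacaulayLocalRing (B ⧸ (maximalIdeal A).map (algebraMap A B)) := by
  have hle : (maximalIdeal A).map (algebraMap A B) ≤ maximalIdeal B :=
    IsLocalRing.map_maximalIdeal_le (algebraMap A B)
  haveI : Nontrivial (B ⧸ (maximalIdeal A).map (algebraMap A B)) :=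
    Ideal.Quotient.nontrivial_iff.mpr
      (fun h => (maximalIdeal.isMaximal B).ne_top (top_le_iff.mp (h ▸ hle)))
  haveI hloc : IsLocalRing (B ⧸ (maximalIdeal A).map (algebraMap A B)) :=
    IsLocalRing.of_surjective' (Ideal.Quotient.mk _) Ideal.Quotient.mk_surjective
  have hdim := Groth.Agent.Lib.Helper18.FlatLocal.ringKrullDim_eq_add_fibre_of_flat A B
  have hdep := Groth.Agent.Lib.Helper18.FlatLocal.depth_eq_add_fibre_of_flat A B
  have hA' := hA.supportDim_eq_depth
  have hB' := hB.supportDim_eq_depth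
  rw [Module.supportDim_self_eq_ringKrullDim] at hA' hB'
  refine { supportDim_eq_depth := ?_ }
  rw [Module.supportDim_self_eq_ringKrullDim]
  obtain ⟨a, ha⟩ := Groth.Agent.Lib.Helper18.SerreReg.exists_ringKrullDim_eq_nat A
  obtain ⟨b, hb⟩ := Groth.Agent.Lib.Helper18.SerreReg.exists_ringKrullDim_eq_nat B
  obtain ⟨c, hc⟩ := Groth.Agent.Lib.Helper18.SerreReg.exists_ringKrullDim_eq_nat
    (B ⧸ (maximalIdeal A).map (algebraMap A B))
  rw [ha] at hA'
  rw [hb] at hB'
  have hdA : LocCoh.depth A A = (a : ℕ∞) := by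
    have h1 : ((a : ℕ∞) : WithBot ℕ∞) = ((LocCoh.depth A A : ℕ∞) : WithBot ℕ∞) := by
      exact_mod_cast hA'
    exact (WithBot.coe_injective h1).symm
  have hdB : LocCoh.depth B B = (b : ℕ∞) := by
    have h1 : ((b : ℕ∞) : WithBot ℕ∞) = ((LocCoh.depth B B : ℕ∞) : WithBot ℕ∞) := by
      exact_mod_cast hB'
    exact (WithBot.coe_injective h1).symm
  rw [ha, hb, hc] at hdim
  have hbac : b = a + c := by exact_mod_cast hdim
  rw [hdA, hdB] at hdep
  rw [hc]
  have hdF : LocCoh.depth (B ⧸ (maximalIdeal A).map (algebraMap A B))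
      (B ⧸ (maximalIdeal A).map (algebraMap A B)) = (c : ℕ∞) := by
    have h1 : (a : ℕ∞) + LocCoh.depth (B ⧸ (maximalIdeal A).map (algebraMap A B))
        (B ⧸ (maximalIdeal A).map (algebraMap A B)) = (a : ℕ∞) + (c : ℕ∞) := by
      rw [← hdep, hbac]
      push_cast
      rfl
    exact (ENat.add_right_injective_of_ne_top (ENat.natCast_ne_top a)) h1
  rw [hdF]
  rfl

end Groth.Agent.Lib.Helper21.MirTFAE
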