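import Mathlib
import Groth.Agent.Lib.Helper21.MittagLeffler9

/-!
# Mittag-Leffler directed colimits of finitely presented modules
-/

open TensorProduct

universe u

namespace Groth.Agent.Lib.Helper21.ML

variable {R : Type u} [CommRing R]

section

variable {ι : Type u} [Preorder ι] [IsDirected ι (· ≤ ·)] [DecidableEq ι] (G : ι → Type u)
    [∀ i, AddCommGroup (G i)] [∀ i, Module R (G i)]
    (f : ∀ i j, i ≤ j → G i →ₗ[R] G j) [DirectedSystem G fun i j h => f i j h]

/-- A tensor killed in the colimit is killed at a finite stage. -/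
lemma exists_rTensor_eq_zero_of_of (P : Type*) [AddCommGroup P] [Module R P] (i : ι)
    (x : G i ⊗[R] P) (hx : (Module.DirectLimit.of R ι G f i).rTensor P x = 0) :
    ∃ (j : ι) (hij : i ≤ j), (f i j hij).rTensor P x = 0 := by
  have h1 := TensorProduct.directLimitLeft_rTensor_of f P x
  rw [hx, map_zero] at h1
  obtain ⟨j, hij, h⟩ := Module.DirectLimit.of.zero_exact h1.symm
  exact ⟨j, hij, h⟩

/-- Every tensor over the colimit comes from a finite stage. -/
lemma exists_rTensor_of_eq [Nonempty ι] (P : Type*) [AddCommGroup P] [Module R P]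
    (x : Module.DirectLimit G f ⊗[R] P) :
    ∃ (i : ι) (y : G i ⊗[R] P), (Module.DirectLimit.of R ι G f i).rTensor P y = x := by
  obtain ⟨i, y, hy⟩ := Module.DirectLimit.exists_of (TensorProduct.directLimitLeft f P x)
  refine ⟨i, y, ?_⟩
  apply (TensorProduct.directLimitLeft f P).injective
  rw [TensorProduct.directLimitLeft_rTensor_of, hy]

lemma of_comp_f (i j : ι) (hij : i ≤ j) :
    Module.DirectLimit.of R ι G f j ∘ₗ f i j hij = Module.DirectLimit.of R ι G f i := by
  ext x
  simp

/-- S6357. -/
theorem directLimit_iff_eventually_factors [Nonempty ι]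
    [∀ i, Module.FinitePresentation R (G i)] :
    CAlg.IsMittagLeffler R (Module.DirectLimit G f) ↔
      ∀ i, ∃ (j : ι) (hij : i ≤ j), ∀ (k : ι) (hik : i ≤ k),
        ∃ h : G k →ₗ[R] G j, f i j hij = h ∘ₗ f i k hik := by
  constructor
  · intro hM i
    -- first find `j` such that `f i j` is dominated by `of i`
    have key : ∃ (j : ι) (hij : i ≤ j), ∀ (N : Type u) [AddCommGroup N] [Module R N],
        LinearMap.ker ((Module.DirectLimit.of R ι G f i).rTensor N) ≤
          LinearMap.ker ((f i j hij).rTensor N) := by
      by_contra hcon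
      have key2 : ∀ j : {j : ι // i ≤ j}, ∃ (N : Type u) (_ : AddCommGroup N) (_ : Module R N)
          (y : G i ⊗[R] N), (Module.DirectLimit.of R ι G f i).rTensor N y = 0 ∧
            (f i j.1 j.2).rTensor N y ≠ 0 := by
        intro j
        by_contra hj
        apply hcon
        refine ⟨j.1, j.2, ?_⟩
        intro N _ _ y hy
        by_contra hy2
        exact hj ⟨N, inferInstance, inferInstance, y, hy, hy2⟩
      choose N iA iM y hy1 hy2 using key2
      obtain ⟨y', hy'⟩ := piRightHom_surjective_of_finite (R := R) (N := G i) N y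
      have hz : (Module.DirectLimit.of R ι G f i).rTensor (∀ j, N j) y' = 0 := by
        apply (isMittagLeffler_iff.1 hM) _ N
        ext j
        rw [piRightHom_natural_apply, hy', hy1]
        rfl
      obtain ⟨j, hij, hj⟩ := exists_rTensor_eq_zero_of_of G f _ i y' hz
      have h2 := piRightHom_natural_apply (f i j hij) N y' ⟨j, hij⟩
      rw [hj, hy', map_zero] at h2
      exact hy2 ⟨j, hij⟩ h2.symm
    obtain ⟨j, hij, hdom⟩ := key
    refine ⟨j, hij, fun k hik => ?_⟩
    have : Module.FinitePresentation R (G k ⧸ LinearMap.range (f i k hik)) := by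
      apply Module.finitePresentation_of_surjective (LinearMap.range (f i k hik)).mkQ
        (Submodule.mkQ_surjective _)
      rw [Submodule.ker_mkQ, LinearMap.range_eq_map]
      exact (Module.Finite.fg_top).map _
    apply (dominates_iff_factors (f i k hik) (f i j hij)).1
    intro Q _ _
    refine le_trans ?_ (hdom Q)
    have := ker_rTensor_le_of_comp (f i k hik) (Module.DirectLimit.of R ι G f k) Q
    rwa [of_comp_f] at this
  · intro H
    rw [isMittagLeffler_iff]
    intro κ Q _ _ z hz
    obtain ⟨i, zi, rfl⟩ := exists_rTensor_of_eq G f _ z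
    obtain ⟨j, hij, hj⟩ := H i
    have h1 : (f i j hij).rTensor _ zi = 0 := by
      apply (isMittagLeffler_iff.1 (of_finitePresentation (R := R) (G j))) κ Q
      ext q
      rw [piRightHom_natural_apply]
      have h2 : (Module.DirectLimit.of R ι G f i).rTensor (Q q)
          (piRightHom R R (G i) Q zi q) = 0 := by
        rw [← piRightHom_natural_apply, hz]
        rfl
      obtain ⟨k, hik, hk⟩ := exists_rTensor_eq_zero_of_of G f _ i _ h2
      obtain ⟨h, hh⟩ := hj k hik
      rw [hh, LinearMap.rTensor_comp, LinearMap.comp_apply, hk, map_zero]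
      rfl
    rw [← of_comp_f G f i j hij, LinearMap.rTensor_comp, LinearMap.comp_apply, h1, map_zero]

end

end Groth.Agent.Lib.Helper21.ML
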