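import Mathlib
import Groth.Agent.Lib.Helper21.MittagLeffler10

/-!
# Countably generated Mittag-Leffler colimits are countable colimits
-/

open TensorProduct

universe u

namespace Groth.Agent.Lib.Helper21.ML

variable {R : Type u} [CommRing R]

section

variable {ι : Type u} [Preorder ι] [IsDirected ι (· ≤ ·)] [DecidableEq ι] (G : ι → Type u)
    [∀ i, AddCommGroup (G i)] [∀ i, Module R (G i)]
    (f : ∀ i j, i ≤ j → G i →ₗ[R] G j) [DirectedSystem G fun i j h => f i j h]

/-- In a Mittag-Leffler colimit, `of i` dominates some transition map `f i j`. -/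
theorem exists_ge_dominated (hM : CAlg.IsMittagLeffler R (Module.DirectLimit G f)) (i : ι)
    [Module.Finite R (G i)] :
    ∃ (j : ι) (hij : i ≤ j), ∀ (N : Type u) [AddCommGroup N] [Module R N],
      LinearMap.ker ((Module.DirectLimit.of R ι G f i).rTensor N) ≤
        LinearMap.ker ((f i j hij).rTensor N) := by
  by_contra hcon
  have key2 : ∀ j : {j : ι // i ≤ j}, ∃ (N : Type u) (_ : AddCommGroup N) (_ : Module R N)
      (y : G i ⊗[R] N), (Module.DirectLimit.of R ι G f i).rTensor N y = 0 ∧
        (f i j.1 j.2).rTensor N y ≠ 0 := by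
    intro j
    by_contra hj
    apply hcon
    refine ⟨j.1, j.2, ?_⟩
    intro N _ _ y hy
    by_contra hy2
    exact hj ⟨N, inferInstance, inferInstance, y, hy, hy2⟩
  choose N iA iM y hy1 hy2 using key2
  obtain ⟨y', hy'⟩ := piRightHom_surjective_of_finite (R := R) (N := G i) N y
  have hz : (Module.DirectLimit.of R ι G f i).rTensor (∀ j, N j) y' = 0 := by
    apply (isMittagLeffler_iff.1 hM) _ N
    ext j
    rw [piRightHom_natural_apply, hy', hy1]
    rfl
  obtain ⟨j, hij, hj⟩ := exists_rTensor_eq_zero_of_of G f _ i y' hz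
  have h2 := piRightHom_natural_apply (f i j hij) N y' ⟨j, hij⟩
  rw [hj, hy', map_zero] at h2
  exact hy2 ⟨j, hij⟩ h2.symm

/-- Kernel version. -/
theorem exists_ge_ker_le (hM : CAlg.IsMittagLeffler R (Module.DirectLimit G f)) (i : ι)
    [Module.Finite R (G i)] :
    ∃ (j : ι) (hij : i ≤ j), ∀ y : G i, Module.DirectLimit.of R ι G f i y = 0 →
      f i j hij y = 0 := by
  obtain ⟨j, hij, h⟩ := exists_ge_dominated G f hM i
  refine ⟨j, hij, fun y hy => ?_⟩
  have := ker_le_ker_of_dominates (Module.DirectLimit.of R ι G f i) (f i j hij) h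
    (LinearMap.mem_ker.2 hy)
  exact this

/-- S6392. -/
theorem exists_countable_directed_subcolimit [Nonempty ι]
    [∀ i, Module.FinitePresentation R (G i)]
    (hML : CAlg.IsMittagLeffler R (Module.DirectLimit G f))
    (hc : CAlg.IsCountablyGenerated R (Module.DirectLimit G f)) :
    ∃ I' : Set ι, I'.Countable ∧ DirectedOn (· ≤ ·) I' ∧
      Function.Bijective (Module.DirectLimit.lift R I' (fun i : I' => G i.1)
        (fun (i j : I') (h : i ≤ j) => f i.1 j.1 h)
        (fun i : I' => Module.DirectLimit.of R ι G f i.1)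
        (fun (i j : I') (h : i ≤ j) (x : G i.1) => Module.DirectLimit.of_f)) := by
  obtain ⟨s, hs, hspan⟩ := hc
  obtain ⟨x, hx⟩ := (hs.insert 0).exists_eq_range (Set.insert_nonempty _ _)
  have hxs : s ⊆ Set.range x := hx ▸ Set.subset_insert _ _
  -- each generator comes from a stage
  have hab : ∀ n, ∃ (a : ι) (b : G a), Module.DirectLimit.of R ι G f a b = x n :=
    fun n => Module.DirectLimit.exists_of (x n)
  choose a b hab using hab
  -- the ML choice
  have hJ : ∀ i : ι, ∃ (j : ι) (hij : i ≤ j), ∀ y : G i,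
      Module.DirectLimit.of R ι G f i y = 0 → f i j hij y = 0 :=
    fun i => exists_ge_ker_le G f hML i
  choose J hJle hJker using hJ
  -- upper bounds
  have hub : ∀ p q : ι, ∃ c, p ≤ c ∧ q ≤ c := fun p q => exists_ge_ge p q
  choose ub hub1 hub2 using hub
  let i : ℕ → ι := fun n => Nat.rec (a 0) (fun n prev => ub (J prev) (a (n + 1))) n
  have hi0 : i 0 = a 0 := rfl
  have his : ∀ n, i (n + 1) = ub (J (i n)) (a (n + 1)) := fun n => rfl
  have hiJ : ∀ n, J (i n) ≤ i (n + 1) := fun n => by rw [his]; exact hub1 _ _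
  have hia : ∀ n, a n ≤ i n := by
    intro n
    cases n with
    | zero => exact le_of_eq hi0.symm
    | succ n => rw [his]; exact hub2 _ _
  have hisucc : ∀ n, i n ≤ i (n + 1) := fun n => (hJle (i n)).trans (hiJ n)
  have himono : Monotone i := monotone_nat_of_le_succ hisucc
  have hdir : DirectedOn (· ≤ ·) (Set.range i) := by
    rintro _ ⟨m, rfl⟩ _ ⟨n, rfl⟩
    exact ⟨i (max m n), ⟨_, rfl⟩, himono (le_max_left _ _), himono (le_max_right _ _)⟩
  refine ⟨Set.range i, Set.countable_range i, hdir, ?_⟩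
  have : IsDirectedOrder (Set.range i) := hdir.isDirectedOrder
  have : Nonempty (Set.range i) := ⟨⟨i 0, 0, rfl⟩⟩
  set Φ := Module.DirectLimit.lift R (Set.range i) (fun i' : Set.range i => G i'.1)
    (fun (i' j' : Set.range i) (h : i' ≤ j') => f i'.1 j'.1 h)
    (fun i' : Set.range i => Module.DirectLimit.of R ι G f i'.1)
    (fun (i' j' : Set.range i) (h : i' ≤ j') (x : G i'.1) => Module.DirectLimit.of_f) with hΦ
  constructor
  · rw [injective_iff_map_eq_zero]
    intro z hz
    obtain ⟨⟨_, n, rfl⟩, y, rfl⟩ := Module.DirectLimit.exists_of z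
    rw [hΦ, Module.DirectLimit.lift_of] at hz
    have h1 : f (i n) (J (i n)) (hJle (i n)) y = 0 := hJker (i n) y hz
    have h2 : f (i n) (i (n + 1)) (hisucc n) y = 0 := by
      rw [← DirectedSystem.map_map' (f := f) (hJle (i n)) (hiJ n) y, h1, map_zero]
    have h3 := Module.DirectLimit.of_f (R := R) (ι := Set.range i)
      (G := fun i' : Set.range i => G i'.1)
      (f := fun (i' j' : Set.range i) (h : i' ≤ j') => f i'.1 j'.1 h)
      (i := ⟨i n, n, rfl⟩) (j := ⟨i (n + 1), n + 1, rfl⟩) (hij := hisucc n) (x := y)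
    rw [← h3]
    change Module.DirectLimit.of R (Set.range i) (fun i' : Set.range i => G i'.1)
      (fun (i' j' : Set.range i) (h : i' ≤ j') => f i'.1 j'.1 h) ⟨i (n + 1), n + 1, rfl⟩
      (f (i n) (i (n + 1)) (hisucc n) y) = 0
    rw [h2, map_zero]
  · rw [← LinearMap.range_eq_top, eq_top_iff, ← hspan]
    apply Submodule.span_le.2
    intro m hm
    obtain ⟨n, rfl⟩ := hxs hm
    refine ⟨Module.DirectLimit.of R (Set.range i) (fun i' : Set.range i => G i'.1)
      (fun (i' j' : Set.range i) (h : i' ≤ j') => f i'.1 j'.1 h) ⟨i n, n, rfl⟩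
      (f (a n) (i n) (hia n) (b n)), ?_⟩
    rw [hΦ, Module.DirectLimit.lift_of]
    change Module.DirectLimit.of R ι G f (i n) (f (a n) (i n) (hia n) (b n)) = x n
    rw [Module.DirectLimit.of_f, hab]

end

end Groth.Agent.Lib.Helper21.ML
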