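import Mathlib
import Groth.Agent.Lib.Helper21.MittagLeffler

/-!
# Flat Mittag-Leffler modules: the smallest submodule criterion
-/

open TensorProduct

universe u

namespace Groth.Agent.Lib.Helper21.ML

variable {R : Type u} [CommRing R]

/-- For flat `M`, `ker (φ ⊗ M) = (ker φ) ⊗ M`. -/
lemma mem_range_ker_rTensor_of_flat (M : Type*) [AddCommGroup M] [Module R M] [Module.Flat R M]
    {F Q : Type*} [AddCommGroup F] [Module R F] [AddCommGroup Q] [Module R Q] (φ : F →ₗ[R] Q)
    (x : F ⊗[R] M) (hx : φ.rTensor M x = 0) :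
    x ∈ LinearMap.range ((LinearMap.ker φ).subtype.rTensor M) :=
  (Module.Flat.rTensor_exact M (LinearMap.exact_subtype_ker_map φ) x).1 hx

lemma rTensor_eq_zero_of_mem_range {M : Type*} [AddCommGroup M] [Module R M]
    {F Q : Type*} [AddCommGroup F] [Module R F] [AddCommGroup Q] [Module R Q] (φ : F →ₗ[R] Q)
    (F' : Submodule R F) (hF' : F' ≤ LinearMap.ker φ)
    (x : F ⊗[R] M) (hx : x ∈ LinearMap.range (F'.subtype.rTensor M)) : φ.rTensor M x = 0 := by
  obtain ⟨y, rfl⟩ := hx
  rw [← LinearMap.comp_apply, ← LinearMap.rTensor_comp]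
  have : φ ∘ₗ F'.subtype = 0 := by
    ext c
    exact hF' c.2
  rw [this, LinearMap.rTensor_zero, LinearMap.zero_apply]

/-- The Mittag-Leffler condition with the product on the left. -/
lemma eq_zero_of_forall_proj_rTensor {M : Type u} [AddCommGroup M] [Module R M]
    (hM : CAlg.IsMittagLeffler R M) {ι : Type u} (Q : ι → Type u) [∀ i, AddCommGroup (Q i)]
    [∀ i, Module R (Q i)] (y : (∀ i, Q i) ⊗[R] M)
    (hy : ∀ i, (LinearMap.proj i : (∀ i, Q i) →ₗ[R] Q i).rTensor M y = 0) : y = 0 := by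
  apply (TensorProduct.comm R (∀ i, Q i) M).injective
  rw [map_zero]
  apply (isMittagLeffler_iff.1 hM) ι Q
  ext i
  rw [piRightHom_apply_eq_lTensor, LinearMap.lTensor_comm, hy i]
  simp

/-- S6379. -/
theorem exists_smallest_submodule (M : Type u)
    [AddCommGroup M] [Module R M] [Module.Flat R M] (hM : CAlg.IsMittagLeffler R M)
    (F : Type u) [AddCommGroup F] [Module R F] (x : F ⊗[R] M) :
    ∃ F' : Submodule R F, F'.FG ∧ x ∈ LinearMap.range (F'.subtype.rTensor M) ∧
      ∀ F'' : Submodule R F, x ∈ LinearMap.range (F''.subtype.rTensor M) → F' ≤ F'' := by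
  let I := {F'' : Submodule R F // x ∈ LinearMap.range (F''.subtype.rTensor M)}
  let φ : F →ₗ[R] (∀ i : I, F ⧸ i.1) := LinearMap.pi fun i => i.1.mkQ
  have hφx : φ.rTensor M x = 0 := by
    apply eq_zero_of_forall_proj_rTensor hM
    intro i
    rw [← LinearMap.comp_apply, ← LinearMap.rTensor_comp]
    have : (LinearMap.proj i : (∀ i : I, F ⧸ i.1) →ₗ[R] F ⧸ i.1) ∘ₗ φ = i.1.mkQ := by
      ext c
      rfl
    rw [this]
    exact rTensor_eq_zero_of_mem_range _ i.1 (by rw [Submodule.ker_mkQ]) x i.2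
  have hmin : ∀ F'' : Submodule R F, x ∈ LinearMap.range (F''.subtype.rTensor M) →
      LinearMap.ker φ ≤ F'' := by
    intro F'' h c hc
    have h1 : φ c ⟨F'', h⟩ = 0 := by
      rw [LinearMap.mem_ker] at hc
      rw [hc]
      rfl
    exact (Submodule.Quotient.mk_eq_zero F'').1 h1
  have hmem := mem_range_ker_rTensor_of_flat M φ x hφx
  refine ⟨LinearMap.ker φ, ?_, hmem, hmin⟩
  obtain ⟨y, hy⟩ := hmem
  obtain ⟨P, hP, t, ht⟩ := TensorProduct.exists_of_fg y
  have hle : (P.map (LinearMap.ker φ).subtype) ≤ LinearMap.ker φ := by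
    rintro _ ⟨c, _, rfl⟩
    exact c.2
  have hx0 : x ∈ LinearMap.range ((P.map (LinearMap.ker φ).subtype).subtype.rTensor M) := by
    let e : P →ₗ[R] (P.map (LinearMap.ker φ).subtype) :=
      ((LinearMap.ker φ).subtype ∘ₗ P.subtype).codRestrict _ (fun c => ⟨c.1, c.2, rfl⟩)
    refine ⟨e.rTensor M t, ?_⟩
    rw [← LinearMap.comp_apply, ← LinearMap.rTensor_comp]
    have : (P.map (LinearMap.ker φ).subtype).subtype ∘ₗ e = (LinearMap.ker φ).subtype ∘ₗ P.subtype := by
      ext c
      rfl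
    rw [this, LinearMap.rTensor_comp, LinearMap.comp_apply, ht, hy]
  have heq : LinearMap.ker φ = P.map (LinearMap.ker φ).subtype :=
    le_antisymm (hmin _ hx0) hle
  rw [heq]
  exact hP.map _

/-- S6346. -/
theorem iff_exists_smallest_submodule_of_flat (M : Type u)
    [AddCommGroup M] [Module R M] [Module.Flat R M] :
    CAlg.IsMittagLeffler R M ↔
      ∀ (n : ℕ) (x : (Fin n → R) ⊗[R] M), ∃ F' : Submodule R (Fin n → R),
        x ∈ LinearMap.range (F'.subtype.rTensor M) ∧
        ∀ F'' : Submodule R (Fin n → R), x ∈ LinearMap.range (F''.subtype.rTensor M) → F' ≤ F'' := by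
  constructor
  · intro hM n x
    obtain ⟨F', -, h1, h2⟩ := exists_smallest_submodule M hM (Fin n → R) x
    exact ⟨F', h1, h2⟩
  · intro H
    rw [isMittagLeffler_iff]
    intro ι Q _ _ z hz
    obtain ⟨n, m, q, rfl⟩ := TensorProduct.exists_sum_tmul_eq z
    let φ : (Fin n → R) →ₗ[R] (∀ i, Q i) := Fintype.linearCombination R q
    let x : (Fin n → R) ⊗[R] M := ∑ k, (Pi.single k (1 : R) : Fin n → R) ⊗ₜ[R] m k
    have hφx : φ.rTensor M x = ∑ k, q k ⊗ₜ[R] m k := by
      simp only [x, map_sum, LinearMap.rTensor_tmul]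
      refine Finset.sum_congr rfl fun k _ => ?_
      congr 1
      simp [φ, Fintype.linearCombination_apply, Pi.single_apply]
    have hcomm : TensorProduct.comm R (∀ i, Q i) M (φ.rTensor M x) = ∑ k, m k ⊗ₜ[R] q k := by
      rw [hφx, map_sum]
      simp
    obtain ⟨F', hF', hmin⟩ := H n x
    have hle : F' ≤ LinearMap.ker φ := by
      intro c hc
      rw [LinearMap.mem_ker]
      ext i
      have hi : ((LinearMap.proj i : (∀ i, Q i) →ₗ[R] Q i) ∘ₗ φ).rTensor M x = 0 := by
        rw [LinearMap.rTensor_comp, LinearMap.comp_apply]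
        apply (TensorProduct.comm R (Q i) M).injective
        rw [← LinearMap.lTensor_comm, ← piRightHom_apply_eq_lTensor, hcomm, hz]
        simp
      have := hmin _ (mem_range_ker_rTensor_of_flat M _ x hi) hc
      rw [LinearMap.mem_ker] at this
      exact this
    have h0 := rTensor_eq_zero_of_mem_range φ F' hle x hF'
    rw [← hcomm, h0, map_zero]

end Groth.Agent.Lib.Helper21.ML
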