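import Mathlib
import Groth.Agent.Lib.Helper21.MittagLeffler4

/-!
# Products `A → R` over a Noetherian ring are flat and Mittag-Leffler
-/

open TensorProduct

universe u

namespace Groth.Agent.Lib.Helper21.ML

variable {R : Type u} [CommRing R]

lemma piScalarRightHom_natural {N₁ N₂ : Type*} [AddCommGroup N₁] [Module R N₁] [AddCommGroup N₂]
    [Module R N₂] (g : N₁ →ₗ[R] N₂) (A : Type*) (z : N₁ ⊗[R] (A → R)) (a : A) :
    piScalarRightHom R R N₂ A (g.rTensor _ z) a = g (piScalarRightHom R R N₁ A z a) := by
  induction z using TensorProduct.induction_on with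
  | zero => simp
  | tmul x f => simp
  | add x y hx hy => simp only [map_add, Pi.add_apply, hx, hy]

lemma piScalarRightHom_eq_rid_piRightHom {N : Type*} [AddCommGroup N] [Module R N] (A : Type*)
    (z : N ⊗[R] (A → R)) (a : A) :
    piScalarRightHom R R N A z a =
      TensorProduct.rid R N (piRightHom R R N (fun _ : A => R) z a) := by
  induction z using TensorProduct.induction_on with
  | zero => simp
  | tmul x f => simp
  | add x y hx hy => simp only [map_add, Pi.add_apply, hx, hy]

/-- For finitely presented `P`, `P ⊗ (A → R) → (A → P)` is injective. -/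
lemma piScalarRightHom_injective_of_finitePresentation (P : Type u) [AddCommGroup P] [Module R P]
    [Module.FinitePresentation R P] (A : Type u) :
    Function.Injective (piScalarRightHom R R P A) := by
  rw [injective_iff_map_eq_zero]
  intro z hz
  apply (isMittagLeffler_iff.1 (of_finitePresentation (R := R) P)) A (fun _ => R)
  ext a
  apply (TensorProduct.rid R P).injective
  rw [← piScalarRightHom_eq_rid_piRightHom, hz]
  simp

/-- Over a Noetherian ring, `Q ⊗ (A → R) → (A → Q)` is injective for every module `Q`. -/
lemma piScalarRightHom_injective_of_isNoetherianRing [IsNoetherianRing R] (Q : Type u)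
    [AddCommGroup Q] [Module R Q] (A : Type u) :
    Function.Injective (piScalarRightHom R R Q A) := by
  rw [injective_iff_map_eq_zero]
  intro z hz
  obtain ⟨P, hP, t, rfl⟩ := TensorProduct.exists_of_fg z
  have : Module.Finite R P := Module.Finite.iff_fg.2 hP
  have : Module.FinitePresentation R P := Module.finitePresentation_of_finite R P
  have ht : piScalarRightHom R R P A t = 0 := by
    ext a
    have h1 := congrFun hz a
    rw [piScalarRightHom_natural] at h1
    simpa using h1
  have ht0 : t = 0 := piScalarRightHom_injective_of_finitePresentation P A (by rw [ht, map_zero])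
  rw [ht0, map_zero]

/-- S6347. -/
theorem flat_and_isMittagLeffler_pi_of_isNoetherianRing [IsNoetherianRing R] (A : Type u) :
    Module.Flat R (A → R) ∧ CAlg.IsMittagLeffler R (A → R) := by
  constructor
  · rw [Module.Flat.iff_rTensor_injective']
    intro I
    rw [injective_iff_map_eq_zero]
    intro z hz
    apply piScalarRightHom_injective_of_isNoetherianRing I A
    rw [map_zero]
    ext a
    have h1 : piScalarRightHom R R R A (I.subtype.rTensor _ z) a = 0 := by rw [hz]; simp
    rw [piScalarRightHom_natural] at h1
    simpa using h1
  · rw [isMittagLeffler_iff]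
    intro ι Q _ _ z hz
    apply (TensorProduct.comm R (A → R) (∀ i, Q i)).injective
    rw [map_zero]
    apply piScalarRightHom_injective_of_isNoetherianRing (∀ i, Q i) A
    rw [map_zero]
    ext a i
    have h1 : (LinearMap.proj i : (∀ i, Q i) →ₗ[R] Q i).rTensor (A → R)
        (TensorProduct.comm R (A → R) (∀ i, Q i) z) = 0 := by
      rw [LinearMap.rTensor_comm, ← piRightHom_apply_eq_lTensor, hz]
      simp
    have h2 := piScalarRightHom_natural (LinearMap.proj i : (∀ i, Q i) →ₗ[R] Q i) A
      (TensorProduct.comm R (A → R) (∀ i, Q i) z) a
    rw [h1] at h2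
    simpa using h2.symm

end Groth.Agent.Lib.Helper21.ML
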