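import Mathlib
import Groth.Agent.Lib.Helper21.MittagLeffler6

/-!
# Tensor products of Mittag-Leffler modules
-/

open TensorProduct

universe u

namespace Groth.Agent.Lib.Helper21.ML

variable {R : Type u} [CommRing R]

lemma lTensor_injective_of_bijective {B C : Type*} [AddCommGroup B] [Module R B] [AddCommGroup C]
    [Module R C] (f : B →ₗ[R] C) (hf : Function.Bijective f) (A : Type*) [AddCommGroup A]
    [Module R A] : Function.Injective (f.lTensor A) := by
  have h := (LinearEquiv.lTensor A (LinearEquiv.ofBijective f hf)).injective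
  have hc := LinearEquiv.coe_lTensor A (LinearEquiv.ofBijective f hf)
  intro a b hab
  apply h
  have ha : (LinearEquiv.lTensor A (LinearEquiv.ofBijective f hf)) a = f.lTensor A a := by
    rw [← LinearEquiv.coe_coe, hc]; rfl
  have hb : (LinearEquiv.lTensor A (LinearEquiv.ofBijective f hf)) b = f.lTensor A b := by
    rw [← LinearEquiv.coe_coe, hc]; rfl
  rw [ha, hb, hab]

/-- The two step factorization of `piRightHom` for a tensor product. -/
lemma piRightHom_tensor (A B : Type*) [AddCommGroup A] [Module R A] [AddCommGroup B] [Module R B]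
    {ι : Type*} (Q : ι → Type*) [∀ i, AddCommGroup (Q i)] [∀ i, Module R (Q i)]
    (x : (A ⊗[R] B) ⊗[R] (∀ i, Q i)) (i : ι) :
    TensorProduct.assoc R A B (Q i) (piRightHom R R (A ⊗[R] B) Q x i) =
      piRightHom R R A (fun i => B ⊗[R] Q i)
        ((piRightHom R R B Q).lTensor A (TensorProduct.assoc R A B (∀ i, Q i) x)) i := by
  induction x using TensorProduct.induction_on with
  | zero => simp
  | tmul t q =>
    induction t using TensorProduct.induction_on with
    | zero => simp
    | tmul a b => simp
    | add s t hs ht =>
      simp only [add_tmul, map_add, Pi.add_apply] at hs ht ⊢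
      rw [hs, ht]
  | add x y hx hy =>
    simp only [map_add, Pi.add_apply] at hx hy ⊢
    rw [hx, hy]

/-- Two step criterion for a tensor product to be Mittag-Leffler. -/
theorem tensor_of_lTensor_injective (A B : Type u) [AddCommGroup A] [Module R A] [AddCommGroup B]
    [Module R B] (hA : CAlg.IsMittagLeffler R A)
    (hB : ∀ (ι : Type u) (Q : ι → Type u) [∀ i, AddCommGroup (Q i)] [∀ i, Module R (Q i)],
      Function.Injective ((piRightHom R R B Q).lTensor A)) :
    CAlg.IsMittagLeffler R (A ⊗[R] B) := by
  rw [isMittagLeffler_iff]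
  intro ι Q _ _ x hx
  apply (TensorProduct.assoc R A B (∀ i, Q i)).injective
  rw [map_zero]
  apply hB ι Q
  rw [map_zero]
  apply (isMittagLeffler_iff.1 hA) ι (fun i => B ⊗[R] Q i)
  ext i
  rw [← piRightHom_tensor, hx]
  simp

/-- Conversely, if `A ⊗ B` is Mittag-Leffler then `A ⊗ α_B` is injective. -/
theorem lTensor_injective_of_tensor (A B : Type u) [AddCommGroup A] [Module R A] [AddCommGroup B]
    [Module R B] (hAB : CAlg.IsMittagLeffler R (A ⊗[R] B))
    (ι : Type u) (Q : ι → Type u) [∀ i, AddCommGroup (Q i)] [∀ i, Module R (Q i)] :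
    Function.Injective ((piRightHom R R B Q).lTensor A) := by
  rw [injective_iff_map_eq_zero]
  intro y hy
  obtain ⟨x, rfl⟩ := (TensorProduct.assoc R A B (∀ i, Q i)).surjective y
  have : x = 0 := by
    apply (isMittagLeffler_iff.1 hAB) ι Q
    ext i
    apply (TensorProduct.assoc R A B (Q i)).injective
    rw [piRightHom_tensor, hy]
    simp
  rw [this, map_zero]

/-- Tensoring a Mittag-Leffler module with a finitely presented module. -/
theorem tensor_finitePresentation (N P : Type u) [AddCommGroup N] [Module R N] [AddCommGroup P]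
    [Module R P] [Module.FinitePresentation R P] (hN : CAlg.IsMittagLeffler R N) :
    CAlg.IsMittagLeffler R (N ⊗[R] P) :=
  tensor_of_lTensor_injective N P hN fun _ Q _ _ =>
    lTensor_injective_of_bijective _ (piRightHom_bijective_of_finitePresentation P Q) N

/-- For a Mittag-Leffler module `N`, the canonical map `N ⊗ ∏ Q i → ∏ N ⊗ Q i` is universally
injective. -/
theorem universallyInjective_piRightHom (N : Type u) [AddCommGroup N] [Module R N]
    (hN : CAlg.IsMittagLeffler R N) (ι : Type u) (Q : ι → Type u) [∀ i, AddCommGroup (Q i)]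
    [∀ i, Module R (Q i)] : CAlgX.UniversallyInjective R (piRightHom R R N Q) := by
  apply universallyInjective_of_finitePresentation
  intro P _ _ hP
  rw [← LinearMap.lTensor_inj_iff_rTensor_inj]
  apply lTensor_injective_of_tensor P N
  exact of_linearEquiv (TensorProduct.comm R P N) (tensor_finitePresentation N P hN)

/-- S6343: the tensor product of Mittag-Leffler modules is Mittag-Leffler. -/
theorem tensorProduct (M N : Type u) [AddCommGroup M] [Module R M]
    [AddCommGroup N] [Module R N] (hM : CAlg.IsMittagLeffler R M) (hN : CAlg.IsMittagLeffler R N) :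
    CAlg.IsMittagLeffler R (M ⊗[R] N) :=
  tensor_of_lTensor_injective M N hM fun ι Q _ _ =>
    lTensor_injective_of_universallyInjective _ (universallyInjective_piRightHom N hN ι Q) M

end Groth.Agent.Lib.Helper21.ML
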