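import Groth.Agent.Lib.Helper21.NagFin4

set_option autoImplicit false
set_option linter.style.haveILetI false
set_option linter.unusedSectionVars false
universe u
open AlgebraicGeometry CategoryTheory Limits TopologicalSpace

namespace Groth.Agent.Lib.Helper21.NagFin

section FT

variable {X S : Scheme.{u}} (f : X ⟶ S) [QuasiCompact f]

theorem finite_sections_of_finiteType [LocallyOfFiniteType f] [IsReduced X]
    (U : S.Opens) (hU : IsAffineOpen U) (hN : CAlg.IsNagata Γ(S, U)) :
    letI := (f.app U).hom.toAlgebra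
    Module.Finite Γ(S, U) (integralClosure Γ(S, U) Γ(X, f ⁻¹ᵁ U)) := by
  letI := (f.app U).hom.toAlgebra
  haveI : IsNoetherianRing Γ(S, U) := hN.1
  obtain ⟨s, hs, e⟩ := isCompact_iff_finite_and_eq_biUnion_affineOpens.mp
    (f.isCompact_preimage hU.isCompact)
  haveI : Finite s := hs.to_subtype
  have hle : ∀ V : s, (V.1 : X.Opens) ≤ f ⁻¹ᵁ U := by
    intro V
    rw [e]
    exact le_iSup₂ (f := fun (i : X.affineOpens) (_ : i ∈ s) => (i : X.Opens)) V.1 V.2
  letI algV : ∀ V : s, Algebra Γ(S, U) Γ(X, (V.1 : X.Opens)) :=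
    fun V => (f.appLE U V.1.1 (hle V)).hom.toAlgebra
  let ψ : ∀ V : s, Γ(X, f ⁻¹ᵁ U) →ₐ[Γ(S, U)] Γ(X, (V.1 : X.Opens)) := fun V =>
    { (X.presheaf.map (homOfLE (hle V)).op).hom with
      commutes' := fun a => rfl }
  refine finite_integralClosure_of_jointly_injective Γ(S, U) Γ(X, f ⁻¹ᵁ U)
    (fun V : s => Γ(X, (V.1 : X.Opens))) ψ ?_ ?_
  · intro x hx
    refine X.sheaf.eq_of_locally_eq' (fun V : s => (V.1 : X.Opens)) (f ⁻¹ᵁ U)
      (fun V => homOfLE (hle V)) ?_ x 0 ?_
    · rw [e]
      exact iSup₂_le (fun i hi => le_iSup (fun V : s => (V.1 : X.Opens)) ⟨i, hi⟩)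
    · intro V
      have := hx V
      rw [map_zero]
      exact this
  · intro V
    haveI : Algebra.FiniteType Γ(S, U) Γ(X, (V.1 : X.Opens)) :=
      HasRingHomProperty.appLE @LocallyOfFiniteType f inferInstance ⟨U, hU⟩ V.1 (hle V)
    exact finite_integralClosure_of_finiteType Γ(S, U) Γ(X, (V.1 : X.Opens)) hN

/-- S9675: finite type, reduced source, Nagata base ⇒ normalization finite. -/
theorem isFinite_fromNormalization_of_finiteType [LocallyOfFiniteType f] [QuasiSeparated f]
    [IsReduced X] (hS : ∀ U : S.affineOpens, CAlg.IsNagata Γ(S, U)) :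
    IsFinite f.fromNormalization :=
  isFinite_fromNormalization_of_finite f
    (fun U hU => finite_sections_of_finiteType f U hU (hS ⟨U, hU⟩))

end FT

end Groth.Agent.Lib.Helper21.NagFin
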