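import Groth.Agent.Lib.Helper21.NagDvr1
import Groth.Agent.Lib.Helper21.NagFin5

set_option autoImplicit false
set_option linter.style.haveILetI false
set_option linter.unusedSectionVars false
universe u
open AlgebraicGeometry CategoryTheory Limits TopologicalSpace

namespace Groth.Agent.Lib.Helper21.NagDvr

section Phi

variable {X Y : Scheme.{u}} (f : Y ⟶ X) [QuasiCompact f] [QuasiSeparated f]

theorem preimage_le (U : X.Opens) :
    f ⁻¹ᵁ U ≤ f.toNormalization ⁻¹ᵁ (f.fromNormalization ⁻¹ᵁ U) := by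
  simp [← Scheme.Hom.comp_preimage]

/-- The ring map `Γ(X', ν⁻¹U) → Γ(Y, f⁻¹U)`. -/
noncomputable def phi (U : X.Opens) :
    Γ(f.normalization, f.fromNormalization ⁻¹ᵁ U) ⟶ Γ(Y, f ⁻¹ᵁ U) :=
  f.toNormalization.appLE _ _ (preimage_le f U)

theorem phi_eq {U : X.Opens} (hU : IsAffineOpen U) :
    letI := (f.app U).hom.toAlgebra
    phi f U = (f.normalizationObjIso hU).hom ≫ CommRingCat.ofHom (Subalgebra.val _).toRingHom :=
  (f.normalizationObjIso_hom_val hU).symm

theorem phi_injective {U : X.Opens} (hU : IsAffineOpen U) :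
    Function.Injective (phi f U).hom := by
  letI := (f.app U).hom.toAlgebra
  rw [phi_eq f hU, CommRingCat.hom_comp, RingHom.coe_comp]
  exact Function.Injective.comp Subtype.val_injective
    (ConcreteCategory.bijective_of_isIso (f.normalizationObjIso hU).hom).1

theorem fromNormalization_app_phi (U : X.Opens) :
    f.fromNormalization.app U ≫ phi f U = f.app U := by
  unfold phi
  rw [Scheme.Hom.app_eq_appLE, Scheme.Hom.appLE_comp_appLE]
  simp only [Scheme.Hom.toNormalization_fromNormalization]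
  rw [Scheme.Hom.app_eq_appLE]

theorem mem_range_phi_of_isIntegral {U : X.Opens} (hU : IsAffineOpen U) (b : Γ(Y, f ⁻¹ᵁ U))
    (hb : (phi f U).hom.IsIntegralElem b) : b ∈ (phi f U).hom.range := by
  letI := (f.app U).hom.toAlgebra
  obtain ⟨p, hpm, hp⟩ := hb
  have hphi := phi_eq f hU
  have h1 : IsIntegral (integralClosure Γ(X, U) Γ(Y, f ⁻¹ᵁ U)) b := by
    refine ⟨p.map (f.normalizationObjIso hU).hom.hom, hpm.map _, ?_⟩
    rw [Polynomial.eval₂_map]
    rw [hphi, CommRingCat.hom_comp] at hp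
    exact hp
  have h2 : IsIntegral Γ(X, U) b := isIntegral_trans b h1
  refine ⟨(f.normalizationObjIso hU).inv.hom ⟨b, h2⟩, ?_⟩
  rw [hphi, CommRingCat.hom_comp]
  change (Subalgebra.val _) ((f.normalizationObjIso hU).hom.hom
    ((f.normalizationObjIso hU).inv.hom ⟨b, h2⟩)) = b
  have : (f.normalizationObjIso hU).hom.hom ((f.normalizationObjIso hU).inv.hom ⟨b, h2⟩) =
      ⟨b, h2⟩ := by
    rw [← CommRingCat.comp_apply, Iso.inv_hom_id]
    rfl
  rw [this]
  rfl

end Phi

end Groth.Agent.Lib.Helper21.NagDvr
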