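import Groth.Agent.Lib.Helper21.NagDvr3

set_option autoImplicit false
set_option linter.style.haveILetI false
set_option linter.unusedSectionVars false
universe u
open AlgebraicGeometry CategoryTheory Limits TopologicalSpace

namespace Groth.Agent.Lib.Helper21.NagDvr

section Geo

variable {X Y : Scheme.{u}} (f : Y ⟶ X) [QuasiCompact f] [QuasiSeparated f]
  (U : X.Opens) (hU : IsAffineOpen U)

include hU in
theorem isAffineOpen_preimage : IsAffineOpen (f.fromNormalization ⁻¹ᵁ U) :=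
  hU.preimage f.fromNormalization

theorem mem_basicOpen_phi_iff (a : Γ(f.normalization, f.fromNormalization ⁻¹ᵁ U)) (y : Y)
    (hy : y ∈ f ⁻¹ᵁ U) :
    y ∈ Y.basicOpen ((phi f U).hom a) ↔
      a ∉ ((isAffineOpen_preimage f U hU).primeIdealOf
        ⟨f.toNormalization y, preimage_le f U hy⟩).asIdeal := by
  unfold phi
  rw [Scheme.basicOpen_appLE]
  rw [← mem_basicOpen_iff_notMem_primeIdealOf (isAffineOpen_preimage f U hU) a
    ⟨f.toNormalization y, preimage_le f U hy⟩]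
  constructor
  · rintro ⟨_, h⟩
    exact h
  · intro h
    exact ⟨hy, h⟩

/-- L2: if `x'` is not in the image of `Y`, some `σ' ∉ 𝔮` vanishes at all image points that
specialize `x'`. -/
theorem exists_notMem_of_notMem_range (x' : f.normalization)
    (hx'W : x' ∈ f.fromNormalization ⁻¹ᵁ U)
    (hx' : x' ∉ Set.range f.toNormalization.base) :
    ∃ σ' : Γ(f.normalization, f.fromNormalization ⁻¹ᵁ U),
      σ' ∉ ((isAffineOpen_preimage f U hU).primeIdealOf ⟨x', hx'W⟩).asIdeal ∧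
      ∀ (y : Y) (hy : y ∈ f ⁻¹ᵁ U),
        ((isAffineOpen_preimage f U hU).primeIdealOf ⟨x', hx'W⟩).asIdeal ≤
          ((isAffineOpen_preimage f U hU).primeIdealOf
            ⟨f.toNormalization y, preimage_le f U hy⟩).asIdeal →
        σ' ∈ ((isAffineOpen_preimage f U hU).primeIdealOf
            ⟨f.toNormalization y, preimage_le f U hy⟩).asIdeal := by
  classical
  set hW := isAffineOpen_preimage f U hU with hWdef
  set 𝔮 := (hW.primeIdealOf ⟨x', hx'W⟩).asIdeal with h𝔮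
  obtain ⟨s, hs, e⟩ := isCompact_iff_finite_and_eq_biUnion_affineOpens.mp
    (f.isCompact_preimage hU.isCompact)
  have hle : ∀ V ∈ s, (V : Y.Opens) ≤ f ⁻¹ᵁ U := by
    intro V hV
    rw [e]
    exact le_iSup₂ (f := fun (i : Y.affineOpens) (_ : i ∈ s) => (i : Y.Opens)) V hV
  have hle' : ∀ V ∈ s, (V : Y.Opens) ≤ f.toNormalization ⁻¹ᵁ (f.fromNormalization ⁻¹ᵁ U) :=
    fun V hV => (hle V hV).trans (preimage_le f U)
  -- per affine piece
  have hpiece : ∀ (V : Y.affineOpens) (hV : V ∈ s),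
      ∃ σ : Γ(f.normalization, f.fromNormalization ⁻¹ᵁ U), σ ∉ 𝔮 ∧
      ∀ (y : Y) (hyV : y ∈ (V : Y.Opens)),
        𝔮 ≤ (hW.primeIdealOf ⟨f.toNormalization y, hle' V hV hyV⟩).asIdeal →
        σ ∈ (hW.primeIdealOf ⟨f.toNormalization y, hle' V hV hyV⟩).asIdeal := by
    intro V hV
    set φV := (f.toNormalization.appLE (f.fromNormalization ⁻¹ᵁ U) V.1 (hle' V hV)).hom with hφV
    have hne : (𝔮.map φV).comap φV ≠ 𝔮 := by
      intro heq
      obtain ⟨𝔭, h𝔭, h𝔭q⟩ := (Ideal.comap_map_eq_self_iff_of_isPrime 𝔮).mp heq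
      obtain ⟨y, hy⟩ := exists_primeIdealOf_eq V.2 ⟨𝔭, h𝔭⟩
      have h1 := IsAffineOpen.comap_primeIdealOf_appLE (f := f.toNormalization)
        (f.fromNormalization ⁻¹ᵁ U) hW V.1 V.2 (hle' V hV) y.2
      have h2 : hW.primeIdealOf ⟨f.toNormalization y.1, hle' V hV y.2⟩ =
          hW.primeIdealOf ⟨x', hx'W⟩ := by
        rw [← h1]
        apply PrimeSpectrum.ext
        change ((V.2.primeIdealOf ⟨y.1, y.2⟩).asIdeal).comap φV = 𝔮
        have : V.2.primeIdealOf ⟨y.1, y.2⟩ = ⟨𝔭, h𝔭⟩ := hy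
        rw [this]
        exact h𝔭q
      have h3 := primeIdealOf_injective hW h2
      exact hx' ⟨y.1, congrArg Subtype.val h3⟩
    have hlt : ¬ (𝔮.map φV).comap φV ≤ 𝔮 := fun h => hne (le_antisymm h Ideal.le_comap_map)
    obtain ⟨σ, hσ1, hσ2⟩ := Set.not_subset.mp hlt
    refine ⟨σ, hσ2, fun y hyV hq => ?_⟩
    have h1 := IsAffineOpen.comap_primeIdealOf_appLE (f := f.toNormalization)
      (f.fromNormalization ⁻¹ᵁ U) hW V.1 V.2 (hle' V hV) hyV
    rw [← h1]
    change φV σ ∈ (V.2.primeIdealOf ⟨y, hyV⟩).asIdeal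
    have h4 : 𝔮.map φV ≤ (V.2.primeIdealOf ⟨y, hyV⟩).asIdeal := by
      rw [Ideal.map_le_iff_le_comap]
      have : (hW.primeIdealOf ⟨f.toNormalization y, hle' V hV hyV⟩).asIdeal =
          ((V.2.primeIdealOf ⟨y, hyV⟩).asIdeal).comap φV := by
        rw [← h1]
        rfl
      rw [← this]
      exact hq
    exact h4 hσ1
  choose! σ hσ1 hσ2 using hpiece
  refine ⟨∏ V ∈ hs.toFinset, σ V, ?_, ?_⟩
  · intro hmem
    obtain ⟨V, hV, hVq⟩ := (Ideal.IsPrime.prod_mem_iff).mp hmem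
    exact hσ1 V (hs.mem_toFinset.mp hV) hVq
  · intro y hy hq
    have hyU : y ∈ (⨆ i ∈ s, (i : Y.Opens) : Y.Opens) := e ▸ hy
    simp only [Opens.mem_iSup] at hyU
    obtain ⟨V, hV, hyV⟩ := hyU
    refine Ideal.prod_mem _ (i := V) (hs.mem_toFinset.mpr hV) ?_
    exact hσ2 V hV y hyV hq

end Geo

end Groth.Agent.Lib.Helper21.NagDvr
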