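import Groth.Agent.Lib.Helper21.NagDvr4

set_option autoImplicit false
set_option linter.style.haveILetI false
set_option linter.unusedSectionVars false
universe u
open AlgebraicGeometry CategoryTheory Limits TopologicalSpace

namespace Groth.Agent.Lib.Helper21.NagDvr

section Geo

variable {X Y : Scheme.{u}} (f : Y ⟶ X) [QuasiCompact f] [QuasiSeparated f]
  (U : X.Opens) (hU : IsAffineOpen U)

/-- L3: every nonzerodivisor of `Γ(X', ν⁻¹U)` becomes invertible in `Γ(Y, f⁻¹U)` after inverting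
an element outside `𝔮`. -/
theorem exists_unit_witness [IsNoetherianRing Γ(f.normalization, f.fromNormalization ⁻¹ᵁ U)]
    (x' : f.normalization) (hx'W : x' ∈ f.fromNormalization ⁻¹ᵁ U)
    (hx' : x' ∉ Set.range f.toNormalization.base)
    (hht : ((isAffineOpen_preimage f U hU).primeIdealOf ⟨x', hx'W⟩).asIdeal.height ≤ 1)
    (t : Γ(f.normalization, f.fromNormalization ⁻¹ᵁ U))
    (ht : t ∈ nonZeroDivisors Γ(f.normalization, f.fromNormalization ⁻¹ᵁ U)) :
    ∃ σ : Γ(f.normalization, f.fromNormalization ⁻¹ᵁ U),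
      σ ∉ ((isAffineOpen_preimage f U hU).primeIdealOf ⟨x', hx'W⟩).asIdeal ∧
      ∃ b : Γ(Y, f ⁻¹ᵁ U), (phi f U).hom t * b = (phi f U).hom σ := by
  set hW := isAffineOpen_preimage f U hU with hWdef
  set 𝔮 := (hW.primeIdealOf ⟨x', hx'W⟩).asIdeal with h𝔮
  by_cases htq : t ∈ 𝔮
  · have hmin := mem_minimalPrimes_span_of_height_le_one 𝔮 t ht htq hht
    obtain ⟨σ₀, hσ₀, hσ₀P⟩ := exists_notMem_forall_prime 𝔮 t hmin
    obtain ⟨σ', hσ', hσ'P⟩ := exists_notMem_of_notMem_range f U hU x' hx'W hx'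
    have hσ : σ₀ * σ' ∉ 𝔮 := fun h => (Ideal.IsPrime.mem_or_mem inferInstance h).elim hσ₀ hσ'
    have hle : Y.basicOpen ((phi f U).hom (σ₀ * σ')) ≤ Y.basicOpen ((phi f U).hom t) := by
      intro y hy
      have hyU : y ∈ f ⁻¹ᵁ U := Y.basicOpen_le _ hy
      rw [mem_basicOpen_phi_iff f U hU _ y hyU] at hy
      rw [mem_basicOpen_phi_iff f U hU _ y hyU]
      intro htP
      apply hy
      rcases hσ₀P _ (PrimeSpectrum.isPrime _) htP with h | h
      · exact Ideal.mul_mem_right _ _ h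
      · exact Ideal.mul_mem_left _ _ (hσ'P y hyU h)
    obtain ⟨b, m, hb⟩ := exists_mul_eq_pow_of_basicOpen_le (f.isCompact_preimage hU.isCompact)
      (f.isQuasiSeparated_preimage hU.isQuasiSeparated) _ _ hle
    refine ⟨(σ₀ * σ') ^ m, fun h => hσ (Ideal.IsPrime.mem_of_pow_mem inferInstance m h), b, ?_⟩
    rw [hb, map_pow]
  · exact ⟨t, htq, 1, mul_one _⟩

end Geo

end Groth.Agent.Lib.Helper21.NagDvr
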