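import Groth.Agent.Lib.Helper21.NagDvr5

set_option autoImplicit false
set_option linter.style.haveILetI false
set_option linter.unusedSectionVars false
universe u
open AlgebraicGeometry CategoryTheory Limits TopologicalSpace

namespace Groth.Agent.Lib.Helper21.NagDvr

open Groth.Agent.Lib.Helper21.NagFin

section Main

variable {X Y : Scheme.{u}} (f : Y ⟶ X) [LocallyOfFiniteType f] [QuasiCompact f]
  [QuasiSeparated f] [IsReduced Y]

theorem dvr_stalk_normalization (hX : ∀ U : X.affineOpens, CAlg.IsNagata Γ(X, U))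
    (x' : f.normalization) (hdim : ringKrullDim (f.normalization.presheaf.stalk x') = 1)
    (hx' : x' ∉ Set.range f.toNormalization.base) :
    ∃ _ : IsDomain (f.normalization.presheaf.stalk x'),
      IsDiscreteValuationRing (f.normalization.presheaf.stalk x') := by
  classical
  obtain ⟨_, ⟨U, hU, rfl⟩, hxU, -⟩ := X.isBasis_affineOpens.exists_subset_of_mem_open
    (Set.mem_univ (f.fromNormalization x')) isOpen_univ
  have hx'W : x' ∈ f.fromNormalization ⁻¹ᵁ U := hxU
  set hW := isAffineOpen_preimage f U hU with hWdef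
  haveI hfinν : IsFinite f.fromNormalization := isFinite_fromNormalization_of_finiteType f hX
  haveI : IsNoetherianRing Γ(X, U) := (hX ⟨U, hU⟩).1
  haveI hNoeth : IsNoetherianRing Γ(f.normalization, f.fromNormalization ⁻¹ᵁ U) := by
    letI := (f.fromNormalization.app U).hom.toAlgebra
    haveI : Module.Finite Γ(X, U) Γ(f.normalization, f.fromNormalization ⁻¹ᵁ U) :=
      IsFinite.finite_app (f := f.fromNormalization) U hU
    exact IsNoetherianRing.of_finite Γ(X, U) _
  set 𝔮 := (hW.primeIdealOf ⟨x', hx'W⟩).asIdeal with h𝔮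
  letI algSt := f.normalization.presheaf.algebra_section_stalk ⟨x', hx'W⟩
  haveI hloc : IsLocalization.AtPrime (f.normalization.presheaf.stalk x') 𝔮 :=
    hW.isLocalization_stalk ⟨x', hx'W⟩
  have hht : 𝔮.height ≤ 1 := by
    have h1 := IsLocalization.AtPrime.ringKrullDim_eq_height 𝔮
      (f.normalization.presheaf.stalk x')
    rw [hdim] at h1
    have : ((𝔮.height : ℕ∞) : WithBot ℕ∞) = 1 := h1.symm
    exact_mod_cast this.le
  letI algB : Algebra Γ(f.normalization, f.fromNormalization ⁻¹ᵁ U) Γ(Y, f ⁻¹ᵁ U) :=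
    (phi f U).hom.toAlgebra
  have hnormal := normal_at_of_units (A' := Γ(f.normalization, f.fromNormalization ⁻¹ᵁ U))
    (B := Γ(Y, f ⁻¹ᵁ U)) (minimalPrimes.finite_of_isNoetherianRing _)
    (phi_injective f hU)
    (fun b hb => mem_range_phi_of_isIntegral f hU b hb) 𝔮
    (fun t ht => exists_unit_witness f U hU x' hx'W hx' hht t ht)
  obtain ⟨hdom, hic⟩ := hnormal
  let e : Localization.AtPrime 𝔮 ≃ₐ[Γ(f.normalization, f.fromNormalization ⁻¹ᵁ U)]
      (f.normalization.presheaf.stalk x') :=
    IsLocalization.algEquiv 𝔮.primeCompl _ _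
  haveI hdomS : IsDomain (f.normalization.presheaf.stalk x') :=
    e.symm.toRingEquiv.toMulEquiv.isDomain _
  haveI : IsIntegrallyClosed (f.normalization.presheaf.stalk x') :=
    IsIntegrallyClosed.of_equiv e.toRingEquiv
  haveI : IsNoetherianRing (f.normalization.presheaf.stalk x') :=
    IsLocalization.isNoetherianRing 𝔮.primeCompl _ hNoeth
  exact ⟨hdomS, isDiscreteValuationRing_of_normal_dim_one _ hdim⟩

end Main

end Groth.Agent.Lib.Helper21.NagDvr
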