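import Groth.Agent.Lib.Helper21.NagFin1
import Groth.Prelude.Def_Found

set_option autoImplicit false
set_option linter.style.haveILetI false
set_option linter.unusedSectionVars false
universe u

namespace Groth.Agent.Lib.Helper21.NagFin

open IntermediateField

section FieldTarget

variable (R : Type u) [CommRing R] (L : Type u) [Field L] [Algebra R L]

/-- For a Nagata ring `R` and a field `L` essentially of finite type over `R`, the integral closure
of `R` in `L` is a finite `R`-module. -/
theorem finite_integralClosure_field (hN : CAlg.IsNagata R) [Algebra.EssFiniteType R L] :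
    Module.Finite R (integralClosure R L) := by
  classical
  haveI : IsNoetherianRing R := hN.1
  set p : Ideal R := RingHom.ker (algebraMap R L) with hp
  haveI hpp : p.IsPrime := RingHom.ker_isPrime _
  letI algR'L : Algebra (R ⧸ p) L := (RingHom.kerLift (algebraMap R L)).toAlgebra
  haveI : IsScalarTower R (R ⧸ p) L := IsScalarTower.of_algebraMap_eq (fun r => rfl)
  have hinj : Function.Injective (algebraMap (R ⧸ p) L) := RingHom.kerLift_injective _
  letI algKL : Algebra (FractionRing (R ⧸ p)) L := (IsFractionRing.lift hinj).toAlgebra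
  haveI : IsScalarTower (R ⧸ p) (FractionRing (R ⧸ p)) L :=
    IsScalarTower.of_algebraMap_eq (fun r => (IsFractionRing.lift_algebraMap hinj r).symm)
  haveI : IsScalarTower R (FractionRing (R ⧸ p)) L := by
    refine IsScalarTower.of_algebraMap_eq (fun r => ?_)
    rw [IsScalarTower.algebraMap_apply R (R ⧸ p) (FractionRing (R ⧸ p)),
      ← IsScalarTower.algebraMap_apply (R ⧸ p) (FractionRing (R ⧸ p)) L,
      ← IsScalarTower.algebraMap_apply R (R ⧸ p) L]
  haveI : Algebra.EssFiniteType (FractionRing (R ⧸ p)) L :=
    Algebra.EssFiniteType.of_comp R _ L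
  haveI hMfin : Module.Finite (FractionRing (R ⧸ p)) (algebraicClosure (FractionRing (R ⧸ p)) L) :=
    finite_algebraicClosure _ L
  have hN2 := hN.2 p
  have hfin : Module.Finite (R ⧸ p)
      (integralClosure (R ⧸ p) (algebraicClosure (FractionRing (R ⧸ p)) L)) :=
    hN2 (algebraicClosure (FractionRing (R ⧸ p)) L) hMfin
  haveI : Module.Finite R (R ⧸ p) := Module.Finite.of_surjective
    (Algebra.linearMap R (R ⧸ p)) Ideal.Quotient.mk_surjective
  haveI : IsScalarTower R (R ⧸ p) (algebraicClosure (FractionRing (R ⧸ p)) L) :=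
    IsScalarTower.of_algebraMap_eq (fun r => Subtype.ext (by
      change algebraMap R L r = algebraMap (R ⧸ p) L (algebraMap R (R ⧸ p) r)
      rfl))
  haveI hfinR : Module.Finite R
      (integralClosure (R ⧸ p) (algebraicClosure (FractionRing (R ⧸ p)) L)) :=
    Module.Finite.trans (R ⧸ p) _
  haveI : Algebra.IsIntegral R (R ⧸ p) := Algebra.isIntegral_of_surjective
    Ideal.Quotient.mk_surjective
  let M := algebraicClosure (FractionRing (R ⧸ p)) L
  haveI : IsScalarTower (R ⧸ p) M L := IsScalarTower.of_algebraMap_eq (fun r => rfl)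
  -- the comparison map
  let φ : integralClosure (R ⧸ p) M →ₗ[R] integralClosure R L :=
    { toFun := fun x => ⟨((x : M) : L), by
        have hx : IsIntegral (R ⧸ p) ((x : M) : L) :=
          (x.2 : IsIntegral (R ⧸ p) (x : M)).map (IsScalarTower.toAlgHom (R ⧸ p) M L)
        exact isIntegral_trans _ hx⟩
      map_add' := fun x y => rfl
      map_smul' := fun r x => by
        apply Subtype.ext
        simp only [RingHom.id_apply]
        change (((r • x : integralClosure (R ⧸ p) M) : M) : L) = r • ((x : M) : L)
        rw [Algebra.smul_def, Algebra.smul_def]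
        rfl }
  refine Module.Finite.of_surjective φ ?_
  rintro ⟨y, hy⟩
  have hy' : IsIntegral (R ⧸ p) y := hy.tower_top
  have hyK : IsAlgebraic (FractionRing (R ⧸ p)) y := (hy'.tower_top).isAlgebraic
  have hyM : y ∈ M := mem_algebraicClosure_iff.mpr hyK
  have hyint : IsIntegral (R ⧸ p) (⟨y, hyM⟩ : M) := by
    have : IsIntegral (R ⧸ p) (algebraMap M L ⟨y, hyM⟩) := hy'
    exact (isIntegral_algebraMap_iff (algebraMap M L).injective).mp this
  exact ⟨⟨⟨y, hyM⟩, hyint⟩, rfl⟩

end FieldTarget

end Groth.Agent.Lib.Helper21.NagFin
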