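import Groth.Agent.Lib.Helper21.NagFin3

set_option autoImplicit false
set_option linter.style.haveILetI false
set_option linter.unusedSectionVars false
universe u
open AlgebraicGeometry CategoryTheory Limits TopologicalSpace

namespace Groth.Agent.Lib.Helper21.NagFin

section Scheme

variable {X S : Scheme.{u}} (f : X ⟶ S) [QuasiCompact f] [QuasiSeparated f]

/-- If for every affine open `U ⊆ S` the integral closure of `Γ(S, U)` in `Γ(X, f⁻¹U)` is a finite
module, then the normalization of `S` in `X` is finite over `S`. -/
theorem isFinite_fromNormalization_of_finite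
    (h : ∀ (U : S.Opens) (_ : IsAffineOpen U),
      letI := (f.app U).hom.toAlgebra
      Module.Finite Γ(S, U) (integralClosure Γ(S, U) Γ(X, f ⁻¹ᵁ U))) :
    IsFinite f.fromNormalization := by
  refine { toIsAffineHom := inferInstance, finite_app := fun U hU => ?_ }
  letI := (f.app U).hom.toAlgebra
  rw [f.fromNormalization_app hU]
  rw [CommRingCat.hom_comp]
  refine RingHom.Finite.comp ?_ ?_
  · exact RingHom.Finite.of_surjective _
      ((ConcreteCategory.bijective_of_isIso (f.normalizationObjIso hU).inv).2)
  · have := h U hU
    exact this

end Scheme

end Groth.Agent.Lib.Helper21.NagFin
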