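import Groth.Agent.Lib.Helper21.NagFin7

set_option autoImplicit false
set_option linter.style.haveILetI false
set_option linter.unusedSectionVars false
universe u
open AlgebraicGeometry CategoryTheory Limits TopologicalSpace

namespace Groth.Agent.Lib.Helper21.NagFin

section Gen

variable {X S : Scheme.{u}} (f : X ⟶ S) [QuasiCompact f]

theorem finite_sections_of_generic [IsReduced X]
    (hfin : LocallyFinite (fun Z : ↥(irreducibleComponents ↥X) => (Z : Set ↥X)))
    (hres : ∀ x : X, closure {x} ∈ irreducibleComponents ↥X →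
      (f.residueFieldMap x).hom.EssFiniteType)
    (U : S.Opens) (hU : IsAffineOpen U) (hN : CAlg.IsNagata Γ(S, U)) :
    letI := (f.app U).hom.toAlgebra
    Module.Finite Γ(S, U) (integralClosure Γ(S, U) Γ(X, f ⁻¹ᵁ U)) := by
  letI := (f.app U).hom.toAlgebra
  haveI : IsNoetherianRing Γ(S, U) := hN.1
  haveI : Finite {x : X // x ∈ f ⁻¹ᵁ U ∧ closure {x} ∈ irreducibleComponents ↥X} :=
    finite_genericPoints_of_locallyFinite hfin (f ⁻¹ᵁ U) (f.isCompact_preimage hU.isCompact)
  letI algL : ∀ x : {x : X // x ∈ f ⁻¹ᵁ U ∧ closure {x} ∈ irreducibleComponents ↥X},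
      Algebra Γ(S, U) (X.residueField x.1) :=
    fun x => (f.app U ≫ X.evaluation (f ⁻¹ᵁ U) x.1 x.2.1).hom.toAlgebra
  let ψ : ∀ x : {x : X // x ∈ f ⁻¹ᵁ U ∧ closure {x} ∈ irreducibleComponents ↥X},
      Γ(X, f ⁻¹ᵁ U) →ₐ[Γ(S, U)] (X.residueField x.1) := fun x =>
    { (X.evaluation (f ⁻¹ᵁ U) x.1 x.2.1).hom with
      commutes' := fun a => rfl }
  refine finite_integralClosure_of_jointly_injective Γ(S, U) Γ(X, f ⁻¹ᵁ U)
    (fun x : {x : X // x ∈ f ⁻¹ᵁ U ∧ closure {x} ∈ irreducibleComponents ↥X} =>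
      X.residueField x.1) ψ ?_ ?_
  · intro b hb
    exact eq_zero_of_evaluation_generic (f ⁻¹ᵁ U) b (fun x hx hgen => hb ⟨x, hx, hgen⟩)
  · intro x
    have h1 : (f.app U ≫ X.evaluation (f ⁻¹ᵁ U) x.1 x.2.1).hom.EssFiniteType := by
      rw [← Scheme.evaluation_naturality f x.1 x.2.1, CommRingCat.hom_comp]
      exact RingHom.EssFiniteType.comp (essFiniteType_evaluation U hU (f x.1) x.2.1)
        (hres x.1 x.2.2)
    haveI : Algebra.EssFiniteType Γ(S, U) (X.residueField x.1) := h1
    exact finite_integralClosure_field Γ(S, U) (X.residueField x.1) hN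

/-- S9674. -/
theorem isFinite_fromNormalization_of_generic [QuasiSeparated f] [IsReduced X]
    (hS : ∀ U : S.affineOpens, CAlg.IsNagata Γ(S, U))
    (hfin : LocallyFinite (fun Z : ↥(irreducibleComponents ↥X) => (Z : Set ↥X)))
    (hres : ∀ x : X, closure {x} ∈ irreducibleComponents ↥X →
      (f.residueFieldMap x).hom.EssFiniteType) :
    IsFinite f.fromNormalization :=
  isFinite_fromNormalization_of_finite f
    (fun U hU => finite_sections_of_generic f hfin hres U hU (hS ⟨U, hU⟩))

end Gen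

end Groth.Agent.Lib.Helper21.NagFin
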