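import Groth.Agent.Lib.Helper21.NagataOne

set_option autoImplicit false
set_option linter.style.haveILetI false
set_option linter.unusedSectionVars false
universe u

namespace Groth.Agent.Lib.Helper21.NagNorm

open Groth.Agent.Lib.Helper21.NagataOne

section Ring

variable (R K B : Type u) [CommRing R] [IsDomain R] [Field K] [Algebra R K] [IsFractionRing R K]
  [CommRing B] [Algebra R B] [Algebra B K] [IsScalarTower R B K] [IsIntegralClosure B R K]

/-- The comparison with the integral closure in the standard fraction field. -/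
noncomputable def closEquiv : integralClosure R (FractionRing R) ≃ₐ[R] B :=
  ((FractionRing.algEquiv R K).mapIntegralClosure).trans
    (IsIntegralClosure.equiv R (integralClosure R K) K B)

include K in
theorem finite_of_nagata (hN : CAlg.IsNagata R) : Module.Finite R B := by
  haveI : IsNoetherianRing R := hN.1
  haveI := finite_integralClosure R hN
  exact Module.Finite.equiv (closEquiv R K B).toLinearEquiv

include K in
theorem exists_smul_mem_range' [IsNoetherianRing R] [Module.Finite R B] :
    ∃ f : R, f ≠ 0 ∧ ∀ b : B, ∃ r : R, algebraMap R B r = f • b := by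
  haveI : Module.Finite R (integralClosure R (FractionRing R)) :=
    Module.Finite.equiv (closEquiv R K B).symm.toLinearEquiv
  obtain ⟨s, hs, h⟩ := exists_smul_mem_range R
  refine ⟨s, nonZeroDivisors.ne_zero hs, fun b => ?_⟩
  obtain ⟨a, ha⟩ := h ((closEquiv R K B).symm b)
  refine ⟨a, ?_⟩
  have := congrArg (closEquiv R K B) ha
  rw [AlgEquiv.commutes, map_smul, AlgEquiv.apply_symm_apply] at this
  exact this

theorem isIntegrallyClosed_away (f : R) (hf0 : f ≠ 0)
    (hf : ∀ b : B, ∃ r : R, algebraMap R B r = f • b)
    (R' : Type u) [CommRing R'] [Algebra R R'] [IsLocalization.Away f R'] [Algebra R' K]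
    [IsScalarTower R R' K] (y : K) (hy : IsIntegral R' y) :
    ∃ r' : R', algebraMap R' K r' = y := by
  obtain ⟨⟨m, hm⟩, hmy⟩ :=
    IsIntegral.exists_multiple_integral_of_isLocalization (Rₘ := R') (Submonoid.powers f) y hy
  obtain ⟨b, hb⟩ := (IsIntegralClosure.isIntegral_iff (A := B)).mp hmy
  obtain ⟨r, hr⟩ := hf b
  have hfm : f * m ∈ Submonoid.powers f := Submonoid.mul_mem _ (Submonoid.mem_powers f) hm
  refine ⟨IsLocalization.mk' R' r ⟨f * m, hfm⟩, ?_⟩
  have h1 : algebraMap R K r = algebraMap R K (f * m) * y := by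
    rw [IsScalarTower.algebraMap_apply R B K, hr, Algebra.smul_def, map_mul, hb,
      Submonoid.smul_def, Algebra.smul_def, ← IsScalarTower.algebraMap_apply, map_mul]
    ring
  have h2 : algebraMap R K (f * m) ≠ 0 := by
    rw [Ne, map_eq_zero_iff _ (IsFractionRing.injective R K)]
    obtain ⟨n, rfl⟩ := hm
    exact mul_ne_zero hf0 (pow_ne_zero n hf0)
  have h3 : algebraMap R' K (IsLocalization.mk' R' r ⟨f * m, hfm⟩) * algebraMap R K (f * m) =
      algebraMap R K r := by
    rw [IsScalarTower.algebraMap_apply R R' K, ← map_mul, IsScalarTower.algebraMap_apply R R' K]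
    congr 1
    exact IsLocalization.mk'_spec R' r ⟨f * m, hfm⟩
  apply mul_right_cancel₀ h2
  rw [h3, h1, mul_comm]

end Ring

end Groth.Agent.Lib.Helper21.NagNorm
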