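import Groth.Agent.Lib.Helper21.NagNorm1
import Groth.Agent.Lib.Helper21.NormDimOne2

set_option autoImplicit false
set_option linter.style.haveILetI false
set_option linter.unusedSectionVars false
universe u
open AlgebraicGeometry CategoryTheory Limits TopologicalSpace

namespace Groth.Agent.Lib.Helper21.NagNorm

open Groth.Agent.Lib.Helper6.GU Groth.Agent.Lib.Helper21.NormGen Groth.Agent.Lib.Helper21.NormDimOne

variable (X : Scheme.{u}) [IsIntegral X]
  [QuasiCompact (genHom X X.functionField (𝟙 _))] [QuasiSeparated (genHom X X.functionField (𝟙 _))]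

local notation "g" => genHom X X.functionField (𝟙 _)

theorem eq_bot_of_genericPoint_notMem (U : X.Opens) (hη : genericPoint X ∉ U) : U = ⊥ := by
  by_contra hne
  apply hη
  have hne' : (U : Set X).Nonempty := by
    rw [Set.nonempty_iff_ne_empty]
    intro h
    exact hne (Opens.ext h)
  obtain ⟨x, hx⟩ := hne'
  exact ((genericPoint_spec X).mem_open_set_iff U.isOpen).mpr ⟨x, trivial, hx⟩

theorem app_injective (U : X.Opens) :
    Function.Injective ((g).fromNormalization.app U).hom := by
  by_cases hη : genericPoint X ∈ U
  · intro a b hab
    have h1 := secToL_app X X.functionField (𝟙 _) U hη a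
    have h2 := secToL_app X X.functionField (𝟙 _) U hη b
    rw [hab, h2] at h1
    exact germ_injective_of_isIntegral X _ hη h1.symm
  · have := eq_bot_of_genericPoint_notMem X U hη
    subst this
    intro a b _
    exact Subsingleton.elim a b

variable (hN : ∀ U : X.affineOpens, CAlg.IsNagata Γ(X, (U : X.Opens)))

include hN in
theorem finite_sections (U : X.Opens) (hU : IsAffineOpen U) (hη : genericPoint X ∈ U) :
    letI := ((g).fromNormalization.app U).hom.toAlgebra
    Module.Finite Γ(X, U) Γ((g).normalization, (g).fromNormalization ⁻¹ᵁ U) := by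
  haveI : Nonempty U := ⟨⟨_, hη⟩⟩
  letI := ((g).fromNormalization.app U).hom.toAlgebra
  letI := (secToL X X.functionField (𝟙 _) U hη).toAlgebra
  obtain ⟨h1, h2⟩ := isIntegralClosure_sections X U hU hη
  haveI : IsDomain Γ(X, U) := IsIntegral.component_integral (X := X) U
  haveI := functionField_isFractionRing_of_isAffineOpen X U hU
  exact finite_of_nagata Γ(X, U) X.functionField
    Γ((g).normalization, (g).fromNormalization ⁻¹ᵁ U) (hN ⟨U, hU⟩)

include hN in
theorem isFinite_fromNormalization : IsFinite (g).fromNormalization := by
  refine { toIsAffineHom := inferInstance, finite_app := fun U hU => ?_ }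
  by_cases hη : genericPoint X ∈ U
  · exact finite_sections X hN U hU hη
  · have := eq_bot_of_genericPoint_notMem X U hη
    subst this
    letI := ((g).fromNormalization.app ⊥).hom.toAlgebra
    change Module.Finite _ _
    haveI : Subsingleton Γ((g).normalization, (g).fromNormalization ⁻¹ᵁ ⊥) :=
      inferInstanceAs (Subsingleton Γ((g).normalization, ⊥))
    exact Module.Finite.of_finite

end Groth.Agent.Lib.Helper21.NagNorm
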