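import Groth.Agent.Lib.Helper21.NagNorm2

set_option autoImplicit false
set_option linter.style.haveILetI false
set_option linter.unusedSectionVars false
universe u
open AlgebraicGeometry CategoryTheory Limits TopologicalSpace

namespace Groth.Agent.Lib.Helper21.NagNorm

open Groth.Agent.Lib.Helper6.GU Groth.Agent.Lib.Helper21.NormGen Groth.Agent.Lib.Helper21.NormDimOne

variable (X : Scheme.{u}) [IsIntegral X]
  [QuasiCompact (genHom X X.functionField (𝟙 _))] [QuasiSeparated (genHom X X.functionField (𝟙 _))]

local notation "g" => genHom X X.functionField (𝟙 _)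

variable (hN : ∀ U : X.affineOpens, CAlg.IsNagata Γ(X, (U : X.Opens)))

include hN in
theorem exists_dense_open_iso :
    ∃ V : X.Opens, Dense (V : Set X) ∧ IsIso ((g).fromNormalization ∣_ V) := by
  obtain ⟨U, hU, hη⟩ := exists_affine_genericPoint_mem X
  haveI : Nonempty U := ⟨⟨_, hη⟩⟩
  letI algRB := ((g).fromNormalization.app U).hom.toAlgebra
  letI algBK := (secToL X X.functionField (𝟙 _) U hη).toAlgebra
  obtain ⟨h1, h2⟩ := isIntegralClosure_sections X U hU hη
  haveI : IsDomain Γ(X, U) := IsIntegral.component_integral (X := X) U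
  haveI := functionField_isFractionRing_of_isAffineOpen X U hU
  haveI : IsNoetherianRing Γ(X, U) := (hN ⟨U, hU⟩).1
  haveI hfin := finite_sections X hN U hU hη
  obtain ⟨f, hf0, hf⟩ := exists_smul_mem_range' Γ(X, U) X.functionField
    Γ((g).normalization, (g).fromNormalization ⁻¹ᵁ U)
  set V := X.basicOpen f with hVdef
  have hV : IsAffineOpen V := hU.basicOpen f
  have hηV : genericPoint X ∈ V := by
    rw [hVdef, Scheme.mem_basicOpen _ _ _ hη]
    have hne : (X.presheaf.germ U (genericPoint X) hη).hom f ≠ 0 := by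
      intro h0
      apply hf0
      apply germ_injective_of_isIntegral X _ hη
      rw [h0, map_zero]
    exact (isUnit_iff_ne_zero (G₀ := X.functionField)).mpr hne
  refine ⟨V, V.isOpen.dense ⟨_, hηV⟩, ?_⟩
  rw [isIso_morphismRestrict_iff_isIso_app _ hV, ConcreteCategory.isIso_iff_bijective]
  refine ⟨app_injective X V, ?_⟩
  intro b'
  haveI : Nonempty V := ⟨⟨_, hηV⟩⟩
  haveI : IsLocalization.Away f Γ(X, V) := hU.isLocalization_basicOpen f
  haveI : IsScalarTower Γ(X, U) Γ(X, V) X.functionField := by
    refine IsScalarTower.of_algebraMap_eq (fun a => ?_)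
    exact (X.presheaf.germ_res_apply (homOfLE (X.basicOpen_le f)) (genericPoint X) hηV a).symm
  have hint := isIntegralElem_secToL X X.functionField (𝟙 _) V hV hηV b'
  have hint' : IsIntegral Γ(X, V) (secToL X X.functionField (𝟙 _) V hηV b') := by
    have hcomp : (CommRingCat.Hom.hom (𝟙 X.functionField)).comp
        (X.presheaf.germ V (genericPoint X) hηV).hom = algebraMap Γ(X, V) X.functionField := by
      rw [CommRingCat.hom_id, RingHom.id_comp]
      rfl
    rw [hcomp] at hint
    exact hint
  obtain ⟨r', hr'⟩ := isIntegrallyClosed_away Γ(X, U) X.functionField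
    Γ((g).normalization, (g).fromNormalization ⁻¹ᵁ U) f hf0 hf Γ(X, V) _ hint'
  refine ⟨r', ?_⟩
  apply secToL_injective X V hηV
  rw [← hr']
  exact secToL_app X X.functionField (𝟙 _) V hηV r'

end Groth.Agent.Lib.Helper21.NagNorm
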