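import Groth.Agent.Lib.Helper21.Br2
import Groth.Prelude.Def_Curv2

set_option autoImplicit false
set_option linter.style.haveILetI false
set_option linter.unusedSectionVars false
universe u

namespace Groth.Agent.Lib.Helper21.NagNorm

open Groth.Agent.Lib.Helper21.Br

section Alg

variable (R A B K : Type u) [CommRing R] [CommRing A] [CommRing B] [Field K]
  [IsDomain A] [IsLocalRing A]
  [Algebra R A] [Algebra A K] [Algebra R K] [IsScalarTower R A K] [IsFractionRing A K]
  [Algebra R B] [Algebra B K] [IsScalarTower R B K] [IsIntegralClosure B R K]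
  (p : Ideal R) [p.IsPrime] [IsLocalization.AtPrime A p]

/-- `B → C` as an `R`-linear map. -/
noncomputable def jBl : B →ₗ[R] integralClosure A K where
  toFun := jB R A B K
  map_add' := map_add _
  map_smul' r b := by
    apply Subtype.ext
    change algebraMap B K (r • b) = r • algebraMap B K b
    rw [Algebra.smul_def, map_mul, ← IsScalarTower.algebraMap_apply, Algebra.smul_def]

theorem jBl_apply (b : B) : jBl R A B K b = jB R A B K b := rfl

theorem isUnit_algebraMap_of_primeCompl (s : p.primeCompl) : IsUnit (algebraMap R A s) :=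
  IsLocalization.map_units A s

theorem isLocalizedModule_of_units {N : Type u} [AddCommGroup N] [Module A N] [Module R N]
    [IsScalarTower R A N] (s : p.primeCompl) :
    IsUnit (algebraMap R (Module.End R N) s) := by
  rw [Module.End.isUnit_iff]
  obtain ⟨u, hu⟩ := isUnit_algebraMap_of_primeCompl R A p s
  have hsm : ∀ n : N, (algebraMap R (Module.End R N) s) n = (u : A) • n := by
    intro n
    change (s : R) • n = _
    rw [hu, algebraMap_smul]
  refine ⟨fun a b hab => ?_, fun b => ⟨(↑u⁻¹ : A) • b, ?_⟩⟩
  · rw [hsm, hsm] at hab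
    have := congrArg (fun z => (↑u⁻¹ : A) • z) hab
    simpa only [smul_smul, Units.inv_mul, one_smul] using this
  · rw [hsm, smul_smul, Units.mul_inv, one_smul]

instance isLocalizedModule_jBl : IsLocalizedModule p.primeCompl (jBl R A B K) where
  map_units s := isLocalizedModule_of_units R A p s
  surj c := by
    obtain ⟨s, hs, b, hsb⟩ := exists_mul_eq R A B K p (c : K) c.2
    refine ⟨⟨b, ⟨s, hs⟩⟩, ?_⟩
    apply Subtype.ext
    change s • (c : K) = algebraMap B K b
    rw [Algebra.smul_def]
    exact hsb
  exists_of_eq {b₁ b₂} h := by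
    refine ⟨1, ?_⟩
    have h1 : algebraMap B K b₁ = algebraMap B K b₂ := congrArg Subtype.val h
    rw [injB R B K h1]

theorem length_quot_eq (N : Type u) [AddCommGroup N] [Module A N]
    (γ : B →+ N)
    (h1 : ∀ (r : R) (b : B), γ (algebraMap R B r * b) = algebraMap R A r • γ b)
    (h2 : ∀ n : N, ∃ s ∈ p.primeCompl, ∃ b : B, algebraMap R A s • n = γ b)
    (h3 : ∀ b : B, γ b = 0 → ∃ s ∈ p.primeCompl, algebraMap R B s * b = 0) :
    Module.length A (N ⧸ Submodule.span A {γ 1}) =
      Module.length A (integralClosure A K ⧸
        LinearMap.range (Algebra.linearMap A (integralClosure A K))) := by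
  letI modRN : Module R N := Module.compHom N (algebraMap R A)
  haveI : IsScalarTower R A N := ⟨fun r a n => by
    change (r • a) • n = algebraMap R A r • (a • n)
    rw [Algebra.smul_def, mul_smul]⟩
  let γl : B →ₗ[R] N :=
    { toFun := γ
      map_add' := map_add γ
      map_smul' := fun r b => by
        change γ (r • b) = algebraMap R A r • γ b
        rw [Algebra.smul_def, h1] }
  haveI : IsLocalizedModule p.primeCompl γl :=
    { map_units := fun s => isLocalizedModule_of_units R A p s
      surj := fun n => by
        obtain ⟨s, hs, b, hsb⟩ := h2 n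
        exact ⟨⟨b, ⟨s, hs⟩⟩, hsb⟩
      exists_of_eq := fun {b₁ b₂} h => by
        have h0 : γ (b₁ - b₂) = 0 := by
          rw [map_sub, sub_eq_zero]; exact h
        obtain ⟨s, hs, hsb⟩ := h3 _ h0
        refine ⟨⟨s, hs⟩, ?_⟩
        change s • b₁ = s • b₂
        rw [Algebra.smul_def, Algebra.smul_def, ← sub_eq_zero, ← mul_sub]
        exact hsb }
  let eR : N ≃ₗ[R] integralClosure A K :=
    IsLocalizedModule.linearEquiv p.primeCompl γl (jBl R A B K)
  let eA : N ≃ₗ[A] integralClosure A K :=
    LinearEquiv.extendScalarsOfIsLocalization p.primeCompl A eR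
  have he1 : eA (γ 1) = 1 := by
    change eR (γl 1) = 1
    rw [IsLocalizedModule.linearEquiv_apply, jBl_apply, map_one]
  have hmap : (Submodule.span A {γ 1}).map (eA : N →ₗ[A] integralClosure A K) =
      LinearMap.range (Algebra.linearMap A (integralClosure A K)) := by
    rw [Submodule.map_span, Set.image_singleton]
    change Submodule.span A {eA (γ 1)} = _
    rw [he1]
    ext c
    rw [Submodule.mem_span_singleton, LinearMap.mem_range]
    constructor
    · rintro ⟨a, rfl⟩
      exact ⟨a, by rw [Algebra.linearMap_apply, Algebra.algebraMap_eq_smul_one]⟩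
    · rintro ⟨a, rfl⟩
      exact ⟨a, by rw [Algebra.linearMap_apply, Algebra.algebraMap_eq_smul_one]⟩
  exact (Submodule.Quotient.equiv _ _ eA hmap).length_eq

end Alg

section Delta

variable (A : Type u) [CommRing A] [IsDomain A] (K : Type u) [Field K] [Algebra A K]
  [IsFractionRing A K]

theorem length_eq_deltaInv :
    Module.length A (integralClosure A K ⧸
        LinearMap.range (Algebra.linearMap A (integralClosure A K))) = Curv2.deltaInv A := by
  unfold Curv2.deltaInv
  let e : integralClosure A (FractionRing A) ≃ₐ[A] integralClosure A K :=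
    (FractionRing.algEquiv A K).mapIntegralClosure
  have hmap : (LinearMap.range (Algebra.linearMap A (integralClosure A (FractionRing A)))).map
      (e.toLinearEquiv : integralClosure A (FractionRing A) →ₗ[A] integralClosure A K) =
      LinearMap.range (Algebra.linearMap A (integralClosure A K)) := by
    ext c
    rw [Submodule.mem_map, LinearMap.mem_range]
    constructor
    · rintro ⟨_, ⟨a, rfl⟩, rfl⟩
      exact ⟨a, (e.commutes a).symm⟩
    · rintro ⟨a, rfl⟩
      exact ⟨_, ⟨a, rfl⟩, e.commutes a⟩
  exact (Submodule.Quotient.equiv _ _ e.toLinearEquiv hmap).length_eq.symm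

end Delta

end Groth.Agent.Lib.Helper21.NagNorm
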