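import Groth.Agent.Lib.Helper29.QCohIdealMod
import Mathlib.RingTheory.Length

set_option autoImplicit false
set_option linter.style.haveILetI false
set_option linter.unusedSectionVars false
universe u
open AlgebraicGeometry CategoryTheory Limits TopologicalSpace

namespace Groth.Agent.Lib.Helper21.NagNorm

open Groth.Agent.Lib.Helper29.QCoh

variable {X : Scheme.{u}}

theorem germ_app_one {M : X.Modules} (φ : unitM X ⟶ M) (x : X) (U : X.Opens) (hx : x ∈ U) :
    M.presheaf.germ ⊤ x trivial (φ.app ⊤ (toUnit 1)) =
      M.presheaf.germ U x hx (φ.app U (toUnit 1)) := by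
  rw [← res_toUnit_one (le_top : U ≤ ⊤), app_res, germ_res]

/-- The stalk of the cokernel of `φ : O_X ⟶ M` is the quotient of `M_x` by the germ of `φ(1)`. -/
theorem length_stalk_cokernel {M : X.Modules} (φ : unitM X ⟶ M) (x : X) (U : X.Opens)
    (hx : x ∈ U) :
    Module.length (X.presheaf.stalk x) ((cokernel φ).presheaf.stalk x) =
      Module.length (X.presheaf.stalk x) (M.presheaf.stalk x ⧸
        Submodule.span (X.presheaf.stalk x) {M.presheaf.germ U x hx (φ.app U (toUnit 1))}) := by
  let πx : M.presheaf.stalk x →ₗ[X.presheaf.stalk x] (cokernel φ).presheaf.stalk x :=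
    { toFun := stalkMap (cokernel.π φ) x
      map_add' := map_add _
      map_smul' := fun r t => stalkMap_smul (cokernel.π φ) x r t }
  have hsurj : Function.Surjective πx :=
    (epi_iff_stalkMap_surjective (cokernel.π φ)).mp inferInstance x
  have hex : Function.Exact (stalkMap φ x) (stalkMap (cokernel.π φ) x) :=
    (exact_iff_stalk_function_exact
      (ShortComplex.mk φ (cokernel.π φ) (cokernel.condition φ))).mp
      (ShortComplex.exact_cokernel φ) x
  have hker : LinearMap.ker πx =
      Submodule.span (X.presheaf.stalk x) {M.presheaf.germ U x hx (φ.app U (toUnit 1))} := by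
    ext t
    rw [LinearMap.mem_ker, Submodule.mem_span_singleton]
    change stalkMap (cokernel.π φ) x t = 0 ↔ _
    rw [hex t]
    constructor
    · rintro ⟨u, rfl⟩
      obtain ⟨a, ha⟩ := stalkMap_unit_eq_smul φ x u
      refine ⟨a, ?_⟩
      rw [ha, germ_app_one φ x U hx]
    · rintro ⟨a, rfl⟩
      refine ⟨a • (unitM X).presheaf.germ U x hx (toUnit 1), ?_⟩
      rw [stalkMap_smul, stalkMap_germ]
  rw [← hker]
  exact (LinearMap.quotKerEquivOfSurjective πx hsurj).length_eq.symm

end Groth.Agent.Lib.Helper21.NagNorm
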