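import Groth.Agent.Lib.Helper21.NagNorm3
import Groth.Agent.Lib.Helper21.NagNorm4
import Groth.Agent.Lib.Helper21.NagNorm5

set_option autoImplicit false
set_option linter.style.haveILetI false
set_option linter.unusedSectionVars false
universe u
open AlgebraicGeometry CategoryTheory Limits TopologicalSpace

namespace Groth.Agent.Lib.Helper21.NagNorm

open Groth.Agent.Lib.Helper6.GU Groth.Agent.Lib.Helper21.NormGen Groth.Agent.Lib.Helper21.NormDimOne
open Groth.Agent.Lib.Helper29.QCoh

variable (X : Scheme.{u}) [IsIntegral X]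
  [QuasiCompact (genHom X X.functionField (𝟙 _))] [QuasiSeparated (genHom X X.functionField (𝟙 _))]

local notation "g" => genHom X X.functionField (𝟙 _)

theorem mono_unitToPush : Mono (ClSub.unitToPush (g).fromNormalization) := by
  rw [mono_iff_app_injective]
  intro U a b hab
  rw [unitToPush_app, unitToPush_app] at hab
  exact app_injective X U hab

theorem length_stalk_eq_deltaInv (x : X) :
    Module.length (X.presheaf.stalk x)
      ((cokernel (ClSub.unitToPush (g).fromNormalization)).presheaf.stalk x) =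
      Curv2.deltaInv (X.presheaf.stalk x) := by
  obtain ⟨U, hU, hxU, hη⟩ := exists_affine_mem X x
  set ν := (g).fromNormalization with hν
  have hW : IsAffineOpen (ν ⁻¹ᵁ U) := hU.preimage ν
  haveI : Nonempty U := ⟨⟨x, hxU⟩⟩
  letI algRB : Algebra Γ(X, U) Γ((g).normalization, ν ⁻¹ᵁ U) := (ν.app U).hom.toAlgebra
  letI algBK : Algebra Γ((g).normalization, ν ⁻¹ᵁ U) X.functionField :=
    (secToL X X.functionField (𝟙 _) U hη).toAlgebra
  obtain ⟨hST, hIC⟩ := isIntegralClosure_sections X U hU hη
  letI algRA := TopCat.Presheaf.algebra_section_stalk X.presheaf ⟨x, hxU⟩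
  haveI hloc := hU.isLocalization_stalk ⟨x, hxU⟩
  haveI hST2 := functionField_isScalarTower X U ⟨x, hxU⟩
  set M := (Scheme.Modules.pushforward ν).obj (unitM (g).normalization) with hM
  haveI : M.IsQuasicoherent := isQuasicoherent_pushforward_of_isAffineHom ν _
  have e1 := length_stalk_cokernel (M := M) (ClSub.unitToPush ν) x U hxU
  rw [e1, ← length_eq_deltaInv (X.presheaf.stalk x) X.functionField]
  let γ : Γ((g).normalization, ν ⁻¹ᵁ U) →+ M.presheaf.stalk x := (M.presheaf.germ U x hxU).hom
  have hγ1 : M.presheaf.germ U x hxU ((ClSub.unitToPush ν).app U (toUnit 1)) = γ 1 := by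
    rw [unitToPush_app]
    change γ ((ν.app U).hom 1) = γ 1
    rw [map_one]
  rw [hγ1]
  refine length_quot_eq Γ(X, U) (X.presheaf.stalk x) Γ((g).normalization, ν ⁻¹ᵁ U)
    X.functionField (hU.primeIdealOf ⟨x, hxU⟩).asIdeal (M.presheaf.stalk x) γ ?_ ?_ ?_
  · intro r b
    exact germ_smul M x U hxU r b
  · intro n
    obtain ⟨r, m, hr, h⟩ := exists_smul_germ_eq M hU x hxU n
    exact ⟨r, (mem_basicOpen_iff_notMem_primeIdealOf hU x hxU r).mp hr, m, h⟩
  · intro b hb
    obtain ⟨r, hr, h⟩ := exists_smul_eq_zero_of_germ_eq_zero M hU x hxU b hb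
    exact ⟨r, (mem_basicOpen_iff_notMem_primeIdealOf hU x hxU r).mp hr, h⟩

end Groth.Agent.Lib.Helper21.NagNorm
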