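import Groth.Agent.Lib.Helper21.NagNorm6

set_option autoImplicit false
set_option linter.style.haveILetI false
set_option linter.unusedSectionVars false
universe u
open AlgebraicGeometry CategoryTheory Limits TopologicalSpace

namespace Groth.Agent.Lib.Helper21.NagNorm

open Groth.Agent.Lib.Helper6.GU Groth.Agent.Lib.Helper21.NormGen Groth.Agent.Lib.Helper21.NormDimOne
open Groth.Agent.Lib.Helper29.QCoh

theorem deltaInv_eq_zero_of_isIntegrallyClosed (A : Type u) [CommRing A] [IsDomain A]
    [IsIntegrallyClosed A] : Curv2.deltaInv A = 0 := by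
  unfold Curv2.deltaInv
  rw [Module.length_eq_zero_iff]
  refine ⟨fun a b => ?_⟩
  suffices h : ∀ t : (integralClosure A (FractionRing A)) ⧸
      LinearMap.range (Algebra.linearMap A (integralClosure A (FractionRing A))), t = 0 by
    rw [h a, h b]
  intro t
  obtain ⟨c, rfl⟩ := Submodule.mkQ_surjective _ t
  rw [Submodule.mkQ_apply, Submodule.Quotient.mk_eq_zero]
  obtain ⟨a, ha⟩ := IsIntegrallyClosed.algebraMap_eq_of_integral c.2
  exact ⟨a, Subtype.ext ha⟩

theorem deltaInv_eq_zero_of_isField (A : Type u) [CommRing A] (h : IsField A) :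
    Curv2.deltaInv A = 0 := by
  letI := h.toField
  exact deltaInv_eq_zero_of_isIntegrallyClosed A

variable (X : Scheme.{u}) [IsIntegral X]

theorem eq_genericPoint_of_not_isClosed (hdim : topologicalKrullDim X = 1) (x : X)
    (hx : ¬ IsClosed ({x} : Set X)) : x = genericPoint X := by
  by_contra hne
  have hex : ∃ y, x ⤳ y ∧ y ≠ x := by
    by_contra h
    push Not at h
    apply hx
    rw [← closure_eq_iff_isClosed]
    ext y
    constructor
    · intro hy
      exact h y (specializes_iff_mem_closure.mpr hy)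
    · rintro rfl
      exact subset_closure rfl
  obtain ⟨y, hxy, hyx⟩ := hex
  obtain ⟨U, hU, hyU, hη⟩ := exists_affine_mem X y
  have hxU : x ∈ U := hxy.mem_open U.isOpen hyU
  haveI : Nonempty U := ⟨⟨x, hxU⟩⟩
  haveI : IsDomain Γ(X, U) := IsIntegral.component_integral (X := X) U
  have hd : ringKrullDim Γ(X, U) ≤ 1 := hdim ▸ ringKrullDim_sections_le hU
  haveI : Ring.KrullDimLE 1 Γ(X, U) := Ring.krullDimLE_iff.mpr hd
  set px := hU.primeIdealOf ⟨x, hxU⟩ with hpx
  set py := hU.primeIdealOf ⟨y, hyU⟩ with hpy
  have hpx0 : px.asIdeal ≠ ⊥ := by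
    intro h0
    apply hne
    have h1 : px = genericPoint (Spec Γ(X, U)) := by
      rw [genericPoint_eq_bot_of_affine]
      exact PrimeSpectrum.ext h0
    rw [← hU.primeIdealOf_genericPoint] at h1
    have h2 := congrArg hU.fromSpec.base h1
    rw [hpx, hU.fromSpec_primeIdealOf, hU.fromSpec_primeIdealOf] at h2
    exact h2
  have hmax : px.asIdeal.IsMaximal := px.2.isMaximal_of_ne_bot hpx0
  have hle : px ≤ py := by
    rw [PrimeSpectrum.le_iff_specializes]
    have h3 := hU.fromSpec.isOpenEmbedding.isInducing.specializes_iff (x := px) (y := py)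
    refine h3.mp ?_
    rw [hpx, hpy, hU.fromSpec_primeIdealOf, hU.fromSpec_primeIdealOf]
    exact hxy
  have heq : px = py := PrimeSpectrum.ext (hmax.eq_of_le py.2.ne_top hle)
  apply hyx
  have h2 := congrArg hU.fromSpec.base heq
  rw [hpx, hpy, hU.fromSpec_primeIdealOf, hU.fromSpec_primeIdealOf] at h2
  exact h2.symm

variable
  [QuasiCompact (genHom X X.functionField (𝟙 _))] [QuasiSeparated (genHom X X.functionField (𝟙 _))]

local notation "g" => genHom X X.functionField (𝟙 _)

theorem subsingleton_stalk_of_not_isClosed (hdim : topologicalKrullDim X = 1) (x : X)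
    (hx : ¬ IsClosed ({x} : Set X)) :
    Subsingleton ((cokernel (ClSub.unitToPush (g).fromNormalization)).presheaf.stalk x) := by
  have hxη := eq_genericPoint_of_not_isClosed X hdim x hx
  subst hxη
  rw [← Module.length_eq_zero_iff (R := X.presheaf.stalk (genericPoint X)),
    length_stalk_eq_deltaInv]
  exact deltaInv_eq_zero_of_isField _ (Field.toIsField X.functionField)

end Groth.Agent.Lib.Helper21.NagNorm
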