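import Groth.Agent.Lib.Helper29.PullSect
import Groth.Agent.Lib.Helper29.Twist6
import Groth.Prelude.Def_Omega3

/-!
# Pulling back global sections is linear over the base field
-/

set_option autoImplicit false
set_option linter.style.haveILetI false
set_option linter.unusedSectionVars false
universe u
open CategoryTheory CategoryTheory.Limits AlgebraicGeometry TopologicalSpace Opposite

namespace Groth.Agent.Lib.Helper21.PullH0

open Groth.Agent.Lib.Helper29.QCoh

variable (k : Type u) [Field k] {X P : Scheme.{u}} [X.Over (Spec (CommRingCat.of k))]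
  [P.Over (Spec (CommRingCat.of k))]

theorem app_toGlobal (i : X ⟶ P)
    (hi : i ≫ (P ↘ Spec (CommRingCat.of k)) = X ↘ Spec (CommRingCat.of k)) (c : k) :
    (i.app ⊤).hom (Coh.toGlobal (P ↘ Spec (CommRingCat.of k)) c) =
      Coh.toGlobal (X ↘ Spec (CommRingCat.of k)) c := by
  unfold Coh.toGlobal
  rw [← hi]
  simp only [Scheme.Hom.comp_appTop, CommRingCat.hom_comp]
  rfl

/-- pullback of global sections, landing in sections over `⊤` -/
noncomputable def pullTop (i : X ⟶ P) (M : P.Modules) :
    (Γ(M, ⊤) : Type u) →+ (Γ((Scheme.Modules.pullback i).obj M, ⊤) : Type u) :=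
  pullSect i M ⊤

theorem pullTop_smul (i : X ⟶ P) (M : P.Modules) (a : Γ(P, ⊤)) (m : Γ(M, ⊤)) :
    pullTop i M (a • m) = (show (Γ(X, ⊤) : Type u) from (i.app ⊤).hom a) • pullTop i M m :=
  pullSect_smul i M ⊤ a m

/-- the `k`-linear pullback map on `H⁰` -/
noncomputable def pullH0 (i : X ⟶ P)
    (hi : i ≫ (P ↘ Spec (CommRingCat.of k)) = X ↘ Spec (CommRingCat.of k)) (M : P.Modules) :
    Coh.HH P M 0 →ₗ[k] Coh.HH X ((Scheme.Modules.pullback i).obj M) 0 where
  toFun v := (hh0 ((Scheme.Modules.pullback i).obj M)).symm (pullTop i M (hh0 M v))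
  map_add' v w := by
    rw [map_add, map_add, map_add]
  map_smul' c v := by
    apply (hh0 ((Scheme.Modules.pullback i).obj M)).injective
    have h1 : c • v = (Coh.toGlobal (P ↘ Spec (CommRingCat.of k)) c) • v := rfl
    have h2 : ∀ w : Coh.HH X ((Scheme.Modules.pullback i).obj M) 0,
        c • w = (Coh.toGlobal (X ↘ Spec (CommRingCat.of k)) c) • w := fun _ => rfl
    rw [RingHom.id_apply, h2, hh0_smul, AddEquiv.apply_symm_apply, AddEquiv.apply_symm_apply, h1,
      hh0_smul, pullTop_smul]
    congr 1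
    exact app_toGlobal k i hi c

theorem pullH0_injective (i : X ⟶ P)
    (hi : i ≫ (P ↘ Spec (CommRingCat.of k)) = X ↘ Spec (CommRingCat.of k)) (M : P.Modules)
    (hinj : ∀ s : Γ(M, ⊤), s ≠ 0 → OmegaSh.pullSect i M ⊤ s ≠ 0) :
    Function.Injective (pullH0 k i hi M) := by
  rw [injective_iff_map_eq_zero]
  intro v hv
  by_contra hne
  have h1 : hh0 M v ≠ 0 := fun h0 => hne ((hh0 M).injective (by rw [h0, map_zero]))
  apply hinj _ h1
  have := congrArg (hh0 ((Scheme.Modules.pullback i).obj M)) hv
  rw [map_zero] at this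
  change hh0 _ ((hh0 ((Scheme.Modules.pullback i).obj M)).symm _) = 0 at this
  rw [AddEquiv.apply_symm_apply] at this
  exact this

end Groth.Agent.Lib.Helper21.PullH0
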