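import Groth.Agent.Lib.Helper21.TwistDown3
import Groth.Agent.Lib.Helper21.PullH0
import Groth.Agent.Lib.Helper29.TwistPn2
import Groth.Agent.Lib.Lead.Pn.HomogRank
import Groth.Agent.Lib.Helper29.ToProj4
import Groth.Prelude.Def_LinSer

/-!
# A nondegenerate integral curve in `P^r` has degree at least `r`
-/

set_option autoImplicit false
set_option linter.style.haveILetI false
set_option linter.unusedSectionVars false
universe u
open CategoryTheory CategoryTheory.Limits AlgebraicGeometry TopologicalSpace Opposite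

namespace Groth.Agent.Lib.Helper21.NonDeg

open Groth.Agent.Lib.Helper29.QCoh Groth.Agent.Lib.Helper21.TwistDown

theorem le_deg_of_nondegenerate (k : Type u) [Field k] [IsAlgClosed k] (r : ℕ)
    (X : Scheme.{u}) [X.Over (Spec (CommRingCat.of k))] [IsIntegral X]
    [IsProper (X ↘ (Spec (CommRingCat.of k)))]
    (hdim : topologicalKrullDim X = 1)
    (i : X ⟶ CohB1.ProjSpace r k)
    (hi : i ≫ CohB1.ProjSpace.toSpec r k = (X ↘ (Spec (CommRingCat.of k))))
    (hplane : ∀ s : LinSer.Sect (CohB1.ProjSpace r k) (Twist.twistProjSpace r k 1), s ≠ 0 →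
      OmegaSh.pullSect i (Twist.twistProjSpace r k 1) ⊤ s ≠ 0) :
    (r : ℤ) ≤ Curv2.deg k X ((Scheme.Modules.pullback i).obj (Twist.twistProjSpace r k 1)) 1 := by
  have hM : PicF.IsInvertible (Twist.twistProjSpace r k 1) := isInvertible_twist_projSpace r k 1
  have hL := isInvertible_pullback i hM
  have cL : Coh.IsCoh ((Scheme.Modules.pullback i).obj (Twist.twistProjSpace r k 1)) :=
    ⟨isQuasicoherent_of_isInvertible hL, isFiniteType_of_isInvertible hL⟩
  haveI : Module.Finite k
      (Coh.HH X ((Scheme.Modules.pullback i).obj (Twist.twistProjSpace r k 1)) 0) :=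
    Groth.Agent.S0002.result k X _ cL 0
  have hle := LinearMap.finrank_le_finrank_of_injective
    (Groth.Agent.Lib.Helper21.PullH0.pullH0_injective k i hi (Twist.twistProjSpace r k 1) hplane)
  have hP : Module.finrank k
      (Coh.HH (CohB1.ProjSpace r k) (Twist.twistProjSpace r k 1) 0) = r + 1 := by
    have h := (Groth.Agent.Lib.Helper29.QCoh.h0TwistEquiv r k 1).symm.finrank_eq
    rw [Groth.Agent.Lib.Lead.Pn.finrank_homogeneousSubmodule, Nat.cast_one, Nat.add_comm,
      Nat.choose_succ_self_right] at h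
    exact h
  have hr : r + 1 ≤ Module.finrank k
      (Coh.HH X ((Scheme.Modules.pullback i).obj (Twist.twistProjSpace r k 1)) 0) := by
    rw [← hP]
    exact hle
  generalize hN : Module.finrank k
      (Coh.HH X ((Scheme.Modules.pullback i).obj (Twist.twistProjSpace r k 1)) 0) = N at hr
  obtain ⟨a, rfl⟩ : ∃ a, N = a + 1 := ⟨N - 1, by omega⟩
  have h := le_deg_of_finrank k X hdim a _ hL hN
  have h2 : (r : ℤ) ≤ a := by
    have : r ≤ a := by omega
    exact_mod_cast this
  linarith

end Groth.Agent.Lib.Helper21.NonDeg
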