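import Groth.Agent.Lib.Helper21.NormGen
import Groth.Agent.Lib.Helper24.EtaleNormal
import Groth.Agent.S6370
set_option autoImplicit false
set_option linter.style.haveILetI false
set_option linter.unusedSectionVars false
universe u
open AlgebraicGeometry CategoryTheory Limits TopologicalSpace

namespace Groth.Agent.Lib.Helper21.NormDimOne

open Groth.Agent.Lib.Helper6.GU Groth.Agent.Lib.Helper21.NormGen

theorem withBot_eq_one (x : WithBot ℕ∞) (h1 : x ≤ 1) (h0 : ¬ x ≤ 0) : x = 1 := by
  have h2 : 0 < x := lt_of_not_ge h0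
  refine le_antisymm h1 ?_
  have : x ≠ ⊥ := ne_bot_of_gt h2
  obtain ⟨n, rfl⟩ := WithBot.ne_bot_iff_exists.mp this
  have h3 : (0 : ℕ∞) < n := by exact_mod_cast h2
  exact_mod_cast Order.one_le_iff_pos.mpr h3

/-- Normalization of a Noetherian domain of dimension at most one (Krull–Akizuki). -/
theorem normalization_ring (A K B : Type u) [CommRing A] [IsDomain A] [IsNoetherianRing A]
    (hdim : ringKrullDim A ≤ 1) [Field K] [Algebra A K] [IsFractionRing A K]
    [CommRing B] [IsDomain B] [Algebra A B] [Algebra B K] [IsScalarTower A B K]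
    [IsIntegralClosure B A K] :
    IsDedekindDomain B ∧
      (∀ p : PrimeSpectrum A, (PrimeSpectrum.comap (algebraMap A B) ⁻¹' {p}).Finite) ∧
      ∀ Q : Ideal B, Q.IsMaximal → Module.Finite (A ⧸ Q.comap (algebraMap A B)) (B ⧸ Q) := by
  by_cases hf : IsField A
  · -- field case
    have hinjBK : Function.Injective (algebraMap B K) :=
      IsIntegralClosure.algebraMap_injective B A K
    have hsurjAK : Function.Surjective (algebraMap A K) := by
      intro x
      obtain ⟨a, s, hs, rfl⟩ := IsFractionRing.div_surjective (A := A) x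
      have hs0 : s ≠ 0 := nonZeroDivisors.ne_zero hs
      obtain ⟨s', hs'⟩ := hf.mul_inv_cancel hs0
      refine ⟨a * s', ?_⟩
      rw [map_mul]
      have : algebraMap A K s * algebraMap A K s' = 1 := by rw [← map_mul, hs', map_one]
      have hsK : algebraMap A K s ≠ 0 := by
        intro h0
        rw [h0, zero_mul] at this
        exact zero_ne_one this
      field_simp
      rw [mul_assoc, mul_comm (algebraMap A K s'), this, mul_one]
    have hsurjAB : Function.Surjective (algebraMap A B) := by
      intro b
      obtain ⟨a, ha⟩ := hsurjAK (algebraMap B K b)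
      refine ⟨a, hinjBK ?_⟩
      rw [← ha, ← IsScalarTower.algebraMap_apply]
    have hBf : IsField B := by
      refine ⟨⟨0, 1, zero_ne_one⟩, mul_comm, ?_⟩
      intro b hb
      obtain ⟨a, rfl⟩ := hsurjAB b
      have ha : a ≠ 0 := by
        rintro rfl
        exact hb (map_zero _)
      obtain ⟨a', ha'⟩ := hf.mul_inv_cancel ha
      exact ⟨algebraMap A B a', by rw [← map_mul, ha', map_one]⟩
    refine ⟨?_, ?_, ?_⟩
    · letI := hBf.toField
      infer_instance
    · intro p
      haveI : Subsingleton (PrimeSpectrum B) := by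
        letI := hBf.toField
        infer_instance
      exact Set.toFinite _
    · intro Q hQ
      have hs : Function.Surjective (algebraMap (A ⧸ Q.comap (algebraMap A B)) (B ⧸ Q)) := by
        intro y
        obtain ⟨b, rfl⟩ := Ideal.Quotient.mk_surjective y
        obtain ⟨a, rfl⟩ := hsurjAB b
        exact ⟨Ideal.Quotient.mk _ a, rfl⟩
      exact Module.Finite.of_surjective (Algebra.linearMap _ _) hs
  · have h0 : ¬ ringKrullDim A ≤ 0 := by
      intro h
      haveI : Ring.KrullDimLE 0 A := Ring.krullDimLE_iff.mpr h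
      exact hf Ring.KrullDimLE.isField_of_isDomain
    have hdim1 : ringKrullDim A = 1 := withBot_eq_one _ hdim h0
    letI : Algebra K K := Algebra.id K
    obtain ⟨h1, -, h3, h4⟩ := Groth.Agent.S6370.result A K K B hdim1
    exact ⟨h1, h3, h4⟩

theorem ringKrullDim_sections_le {X : Scheme.{u}} {U : X.Opens} (hU : IsAffineOpen U) :
    ringKrullDim Γ(X, U) ≤ topologicalKrullDim X := by
  rw [← PrimeSpectrum.topologicalKrullDim_eq_ringKrullDim]
  have h1 : topologicalKrullDim (PrimeSpectrum Γ(X, U)) = topologicalKrullDim U := by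
    have hh : IsHomeomorph hU.isoSpec.hom.base := (Scheme.homeoOfIso hU.isoSpec).isHomeomorph
    exact (IsHomeomorph.topologicalKrullDim_eq _ hh).symm
  rw [h1]
  exact topologicalKrullDim_subspace_le X U

variable (X : Scheme.{u}) [IsIntegral X]
  [QuasiCompact (genHom X X.functionField (𝟙 _))] [QuasiSeparated (genHom X X.functionField (𝟙 _))]

local notation "g" => genHom X X.functionField (𝟙 _)

theorem secToL_injective (U : X.Opens) (hη : genericPoint X ∈ U) :
    Function.Injective (secToL X X.functionField (𝟙 _) U hη) := by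
  unfold secToL
  rw [CommRingCat.hom_comp]
  exact (injective_stalkClosedPointTo X X.functionField (𝟙 _)).comp
    (germ_injective_of_isIntegral _ _ _)

theorem isIntegralClosure_sections (U : X.Opens) (hU : IsAffineOpen U) (hη : genericPoint X ∈ U) :
    haveI : Nonempty U := ⟨⟨_, hη⟩⟩
    letI := ((g).fromNormalization.app U).hom.toAlgebra
    letI := (secToL X X.functionField (𝟙 _) U hη).toAlgebra
    IsScalarTower Γ(X, U) Γ((g).normalization, (g).fromNormalization ⁻¹ᵁ U) X.functionField ∧
    IsIntegralClosure Γ((g).normalization, (g).fromNormalization ⁻¹ᵁ U) Γ(X, U) X.functionField := by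
  haveI : Nonempty U := ⟨⟨_, hη⟩⟩
  letI := ((g).fromNormalization.app U).hom.toAlgebra
  letI := (secToL X X.functionField (𝟙 _) U hη).toAlgebra
  have hcomp : (CommRingCat.Hom.hom (𝟙 X.functionField)).comp
      (X.presheaf.germ U (genericPoint X) hη).hom = algebraMap Γ(X, U) X.functionField := by
    rw [CommRingCat.hom_id, RingHom.id_comp]
    rfl
  refine ⟨IsScalarTower.of_algebraMap_eq fun a => ?_, ⟨secToL_injective X U hη, ?_⟩⟩
  · exact (secToL_app X X.functionField (𝟙 _) U hη a).symm
  · intro y
    constructor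
    · intro hy
      have hy' : ((CommRingCat.Hom.hom (𝟙 X.functionField)).comp
          (X.presheaf.germ U (genericPoint X) hη).hom).IsIntegralElem y := by
        rw [hcomp]; exact hy
      exact exists_secToL_eq X X.functionField (𝟙 _) U hU hη y hy'
    · rintro ⟨b, rfl⟩
      have := isIntegralElem_secToL X X.functionField (𝟙 _) U hU hη b
      rw [hcomp] at this
      exact this

variable [IsLocallyNoetherian X] (hdim : topologicalKrullDim X = 1)

include hdim in
theorem ka_sections (U : X.Opens) (hU : IsAffineOpen U) (hη : genericPoint X ∈ U) :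
    letI := ((g).fromNormalization.app U).hom.toAlgebra
    IsDedekindDomain Γ((g).normalization, (g).fromNormalization ⁻¹ᵁ U) ∧
      (∀ p : PrimeSpectrum Γ(X, U), (PrimeSpectrum.comap (algebraMap Γ(X, U)
        Γ((g).normalization, (g).fromNormalization ⁻¹ᵁ U)) ⁻¹' {p}).Finite) ∧
      ∀ Q : Ideal Γ((g).normalization, (g).fromNormalization ⁻¹ᵁ U), Q.IsMaximal →
        Module.Finite (Γ(X, U) ⧸ Q.comap (algebraMap Γ(X, U)
          Γ((g).normalization, (g).fromNormalization ⁻¹ᵁ U)))
          (Γ((g).normalization, (g).fromNormalization ⁻¹ᵁ U) ⧸ Q) := by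
  haveI : Nonempty U := ⟨⟨_, hη⟩⟩
  letI := ((g).fromNormalization.app U).hom.toAlgebra
  letI := (secToL X X.functionField (𝟙 _) U hη).toAlgebra
  obtain ⟨h1, h2⟩ := isIntegralClosure_sections X U hU hη
  haveI : IsDomain Γ(X, U) := IsIntegral.component_integral (X := X) U
  haveI : Nonempty ((g).fromNormalization ⁻¹ᵁ U : (g).normalization.Opens) :=
    ⟨⟨_, mem_preimage_of_genericPoint_mem X X.functionField (𝟙 _) U hη⟩⟩
  haveI : IsDomain Γ((g).normalization, (g).fromNormalization ⁻¹ᵁ U) :=
    IsIntegral.component_integral (X := (g).normalization) _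
  haveI : IsNoetherianRing Γ(X, U) := IsLocallyNoetherian.component_noetherian ⟨U, hU⟩
  haveI := functionField_isFractionRing_of_isAffineOpen X U hU
  have hd : ringKrullDim Γ(X, U) ≤ 1 := hdim ▸ ringKrullDim_sections_le hU
  exact normalization_ring Γ(X, U) X.functionField
    Γ((g).normalization, (g).fromNormalization ⁻¹ᵁ U) hd

end Groth.Agent.Lib.Helper21.NormDimOne
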