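import Groth.Agent.Lib.Helper21.SpecSurjDim
import Groth.Agent.Lib.Helper21.EquiBC1
import Groth.Agent.Lib.Helper21.FourCond2
import Groth.Agent.Lib.Helper17.ProCons

/-!
# Morphisms open at a point: dimension of local rings (EGA IV 14.2)
-/

set_option autoImplicit false
set_option linter.style.haveILetI false
set_option linter.unusedSectionVars false
universe u

open AlgebraicGeometry CategoryTheory Limits TopologicalSpace IsLocalRing

namespace Groth.Agent.Lib.Helper21.OpenAt

open Groth.Agent.Lib.Helper21.FibDim Groth.Agent.Lib.Helper21.EquiSub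

variable {X Y : Scheme.{u}}

/-- the image of a generization under a morphism, in terms of the stalk map -/
theorem map_fromSpecStalk (f : X ⟶ Y) (x : X) (P : Spec (X.presheaf.stalk x)) :
    Y.fromSpecStalk (f x) (Spec.map (f.stalkMap x) P) = f (X.fromSpecStalk x P) := by
  have h3 := congrArg (fun φ : Spec (X.presheaf.stalk x) ⟶ Y => φ P)
    (Scheme.SpecMap_stalkMap_fromSpecStalk f (x := x))
  simp only [Scheme.Hom.comp_apply] at h3
  exact h3

/-- a morphism open at `x` induces a surjection on the spectra of the local rings -/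
theorem comap_stalkMap_surjective_of_isOpenAt (f : X ⟶ Y) (x : X)
    (h : EGA43.IsOpenAt f.base x) :
    Function.Surjective (PrimeSpectrum.comap (f.stalkMap x).hom) := by
  intro 𝔭
  let P : Spec (Y.presheaf.stalk (f x)) := 𝔭
  have hy' : Y.fromSpecStalk (f x) P ⤳ f x := by
    have : Y.fromSpecStalk (f x) P ∈ Set.range (Y.fromSpecStalk (f x)) := ⟨P, rfl⟩
    rw [Scheme.range_fromSpecStalk] at this
    exact this
  obtain ⟨x', hx'x, hfx'⟩ :=
    Groth.Agent.Lib.Helper17.ProConsLib.exists_generization_lift f x h _ hy'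
  obtain ⟨Q, hQ⟩ : x' ∈ Set.range (X.fromSpecStalk x) := by
    rw [Scheme.range_fromSpecStalk]
    exact hx'x
  refine ⟨Q, ?_⟩
  have h1 := map_fromSpecStalk f x Q
  rw [hQ, hfx'] at h1
  exact (Y.fromSpecStalk (f x)).isEmbedding.injective h1

/-- **EGA IV 14.2.1, first half**: a morphism of locally Noetherian schemes open at `x` does not
lower the dimension of the local rings -/
theorem ringKrullDim_stalk_le_of_isOpenAt [IsLocallyNoetherian X] [IsLocallyNoetherian Y]
    (f : X ⟶ Y) (x : X) (h : EGA43.IsOpenAt f.base x) :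
    ringKrullDim (Y.presheaf.stalk (f x)) ≤ ringKrullDim (X.presheaf.stalk x) :=
  Groth.Agent.Lib.Helper21.SpecSurjDim.ringKrullDim_le_of_comap_surjective _ _
    (f.stalkMap x).hom (comap_stalkMap_surjective_of_isOpenAt f x h)

end Groth.Agent.Lib.Helper21.OpenAt
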