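import Groth.Agent.Lib.Helper21.OpenAt10

/-!
# The dimension formula over a universally catenary local ring in terms of a maximal point of the
fibre (EGA IV 13.3.? / 14.2.?)
-/

set_option autoImplicit false
set_option linter.style.haveILetI false
set_option linter.unusedSectionVars false
universe u

open AlgebraicGeometry CategoryTheory Limits TopologicalSpace IsLocalRing

namespace Groth.Agent.Lib.Helper21.OpenAt

open Groth.Agent.Lib.Helper21.FibDim Groth.Agent.Lib.Helper21.EquiSub
  Groth.Agent.Lib.Helper21.FourCond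

variable {X Y : Scheme.{u}}

/-- a point whose local ring has dimension zero has no proper generisations -/
theorem eq_of_specializes_of_ringKrullDim_stalk_eq_zero (ξ : X)
    (h : ringKrullDim (X.presheaf.stalk ξ) = 0) (x' : X) (hx' : x' ⤳ ξ) : x' = ξ := by
  rw [ringKrullDim_stalk_eq_coheight] at h
  have h0 : Order.coheight ξ = 0 := by exact_mod_cast h
  rw [Order.coheight_eq_zero] at h0
  have h1 : ξ ≤ x' := hx'
  have h2 : x' ≤ ξ := h0 h1
  have h3 : ξ ⤳ x' := h2
  exact (hx'.antisymm h3).eq

/-- the dimension of the quotient of the local ring by the prime of a generisation only depends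
on the points -/
theorem ringKrullDim_quotient_congr {y₁ y₂ : Y} (h : y₁ = y₂) (Q₁ : Spec (Y.presheaf.stalk y₁))
    (Q₂ : Spec (Y.presheaf.stalk y₂)) (hQ : Y.fromSpecStalk y₁ Q₁ = Y.fromSpecStalk y₂ Q₂) :
    ringKrullDim (Y.presheaf.stalk y₁ ⧸ Q₁.asIdeal) =
      ringKrullDim (Y.presheaf.stalk y₂ ⧸ Q₂.asIdeal) := by
  subst h
  have := (Y.fromSpecStalk y₁).isEmbedding.injective hQ
  subst this
  rfl

/-- universal catenarity of the local ring only depends on the point -/
theorem isUniversallyCatenary_stalk_congr {y₁ y₂ : Y} (h : y₁ = y₂)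
    (hc : CAlg.IsUniversallyCatenary (Y.presheaf.stalk y₁)) :
    CAlg.IsUniversallyCatenary (Y.presheaf.stalk y₂) := by
  subst h
  exact hc

end Groth.Agent.Lib.Helper21.OpenAt
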