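import Groth.Agent.Lib.Helper21.OpenAt11

/-!
# The dimension formula over a universally catenary local ring in terms of a maximal point of the
fibre, main statement
-/

set_option autoImplicit false
set_option linter.style.haveILetI false
set_option linter.unusedSectionVars false
universe u

open AlgebraicGeometry CategoryTheory Limits TopologicalSpace IsLocalRing

namespace Groth.Agent.Lib.Helper21.OpenAt

open Groth.Agent.Lib.Helper21.FibDim Groth.Agent.Lib.Helper21.EquiSub
  Groth.Agent.Lib.Helper21.FourCond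

variable {X Y : Scheme.{u}}

/-- the sufficiency half -/
theorem dim_formula_of_exists_maximal [IsLocallyNoetherian Y] (f : X ⟶ Y)
    [LocallyOfFiniteType f] (x : X)
    (hcat : CAlg.IsUniversallyCatenary (Y.presheaf.stalk (f.base x))) (z : X)
    (hfz : f.base z = f.base x) (hzx : z ⤳ x)
    (hzmax : ∀ z' : X, f.base z' = f.base x → z' ⤳ z → z' = z)
    (hFz : FlatMor.fibreDimAt f z = FlatMor.fibreDimAt f x)
    (hdz : ringKrullDim (X.presheaf.stalk z) = ringKrullDim (Y.presheaf.stalk (f.base z))) :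
    ringKrullDim (X.presheaf.stalk x) =
      ringKrullDim (Y.presheaf.stalk (f.base x)) +
        ringKrullDim ((f.fiber (f.base x)).presheaf.stalk (f.asFiber x)) := by
  haveI : IsLocallyNoetherian X := LocallyOfFiniteType.isLocallyNoetherian f
  apply le_antisymm (ringKrullDim_stalk_le_add_fiber f x)
  obtain ⟨n, k, hn, hk, hF⟩ := exists_fibreDimAt_eq_add f x
  obtain ⟨P, hP⟩ : z ∈ Set.range (X.fromSpecStalk x) := by
    rw [Scheme.range_fromSpecStalk]
    exact hzx
  obtain ⟨E, hE⟩ := exists_nat_trdeg_residueFieldMap f z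
  have hFz' : FlatMor.fibreDimAt f z = E :=
    fibreDimAt_eq_trdeg_of_maximal f z (fun τ hτ hfτ => hzmax τ (hfτ.trans hfz) hτ) E hE
  have hEnk : E = n + k := by
    rw [hFz', hF] at hFz
    exact_mod_cast hFz
  have hE' := trdeg_eq_of_eq f hP.symm E hE
  haveI hPp : P.asIdeal.IsPrime := P.2
  have hform := Groth.Agent.Lib.Helper21.DimLoc.ringKrullDim_quotient_formula f x hcat P.asIdeal
    n E hn hE'
  -- the contraction is the maximal ideal
  have hcomap : P.asIdeal.comap (f.stalkMap x).hom = maximalIdeal (Y.presheaf.stalk (f x)) := by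
    have h1 := map_maximalIdeal_le_of_map_eq f x P (by rw [hP]; exact hfz)
    rw [Ideal.map_le_iff_le_comap] at h1
    exact ((maximalIdeal.isMaximal _).eq_of_le (Ideal.comap_isPrime _ _).ne_top h1).symm
  rw [hcomap] at hform
  have h0 : ringKrullDim (Y.presheaf.stalk (f x) ⧸ maximalIdeal (Y.presheaf.stalk (f x))) = 0 :=
    ringKrullDim_eq_zero_of_field (IsLocalRing.ResidueField (Y.presheaf.stalk (f x)))
  rw [h0, zero_add] at hform
  have hquot := height_add_ringKrullDim_quotient_le P.asIdeal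
  have hht : ringKrullDim (X.presheaf.stalk z) = P.asIdeal.height := by
    rw [← ringKrullDim_stalk_fromSpecStalk x P]
    exact ringKrullDim_stalk_congr hP.symm
  rw [← hht, hdz, ringKrullDim_stalk_congr hfz] at hquot
  haveI : IsLocalRing (X.presheaf.stalk x ⧸ P.asIdeal) :=
    isLocalRing_quotient_of_le_maximalIdeal (le_maximalIdeal hPp.ne_top)
  obtain ⟨c, hc⟩ := exists_nat_eq_ringKrullDim (R := X.presheaf.stalk x ⧸ P.asIdeal)
  rw [hc] at hform hquot
  have hck : c = k := by
    have : c + n = E := by exact_mod_cast hform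
    omega
  rw [hk, ← hck]
  exact hquot

/-- the necessity half -/
theorem exists_maximal_of_dim_formula [IsLocallyNoetherian Y] (f : X ⟶ Y)
    [LocallyOfFiniteType f] (x : X)
    (hcat : CAlg.IsUniversallyCatenary (Y.presheaf.stalk (f.base x)))
    (h : ringKrullDim (X.presheaf.stalk x) =
      ringKrullDim (Y.presheaf.stalk (f.base x)) +
        ringKrullDim ((f.fiber (f.base x)).presheaf.stalk (f.asFiber x))) :
    ∃ z : X, f.base z = f.base x ∧ z ⤳ x ∧ (∀ z' : X, f.base z' = f.base x → z' ⤳ z → z' = z) ∧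
      FlatMor.fibreDimAt f z = FlatMor.fibreDimAt f x ∧
      ringKrullDim (X.presheaf.stalk z) = ringKrullDim (Y.presheaf.stalk (f.base z)) := by
  haveI : IsLocallyNoetherian X := LocallyOfFiniteType.isLocallyNoetherian f
  obtain ⟨n, k, hn, hk, hF⟩ := exists_fibreDimAt_eq_add f x
  obtain ⟨𝔭, h𝔭min, h𝔭dim⟩ :=
    Groth.Agent.Lib.Helper21.EquidimAt.exists_minimalPrimes_ringKrullDim_quotient_eq
      (X.presheaf.stalk x)
  haveI h𝔭p : 𝔭.IsPrime := h𝔭min.1.1
  set ξ := X.fromSpecStalk x ⟨𝔭, h𝔭p⟩ with hξ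
  have hξx : ξ ⤳ x := by
    have : ξ ∈ Set.range (X.fromSpecStalk x) := ⟨_, rfl⟩
    rw [Scheme.range_fromSpecStalk] at this
    exact this
  obtain ⟨E, hE⟩ := exists_nat_trdeg_residueFieldMap f ξ
  have hform := Groth.Agent.Lib.Helper21.DimLoc.ringKrullDim_quotient_formula f x hcat 𝔭 n E hn hE
  have hChev := le_fibreDimAt_of_specializes f hξx E hE
  haveI h𝔮p : (𝔭.comap (f.stalkMap x).hom).IsPrime := Ideal.comap_isPrime _ _
  haveI : IsLocalRing (Y.presheaf.stalk (f x) ⧸ 𝔭.comap (f.stalkMap x).hom) :=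
    isLocalRing_quotient_of_le_maximalIdeal (le_maximalIdeal h𝔮p.ne_top)
  obtain ⟨aq, haq⟩ := exists_nat_eq_ringKrullDim
    (R := Y.presheaf.stalk (f x) ⧸ 𝔭.comap (f.stalkMap x).hom)
  obtain ⟨a, ha⟩ := Groth.Agent.Lib.Helper18.SerreReg.exists_ringKrullDim_eq_nat
    (Y.presheaf.stalk (f x))
  obtain ⟨b, hb⟩ := Groth.Agent.Lib.Helper18.SerreReg.exists_ringKrullDim_eq_nat
    (X.presheaf.stalk x)
  have hql : ringKrullDim (Y.presheaf.stalk (f x) ⧸ 𝔭.comap (f.stalkMap x).hom) ≤
      ringKrullDim (Y.presheaf.stalk (f x)) := ringKrullDim_quotient_le _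
  have hform0 : ringKrullDim (Y.presheaf.stalk (f x)) +
      ringKrullDim ((f.fiber (f x)).presheaf.stalk (f.asFiber x)) =
        ringKrullDim (X.presheaf.stalk x) := h.symm
  rw [h𝔭dim, hb, haq] at hform
  rw [hF] at hChev
  rw [haq, ha] at hql
  rw [ha, hk, hb] at hform0
  have h1 : b + n = aq + E := by exact_mod_cast hform
  have h2 : E ≤ n + k := by exact_mod_cast hChev
  have h3 : aq ≤ a := by exact_mod_cast hql
  have h4 : a + k = b := by exact_mod_cast hform0
  have h5 : E = n + k := by omega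
  have h6 : aq = a := by omega
  obtain ⟨τ, m, hξτ, hτx, hfτ, hEm, hτm⟩ :=
    Groth.Agent.Lib.Helper21.IrrFib.exists_fibre_generization f hξx E hE
  obtain ⟨N, hN, -, hall⟩ := exists_fibreDimAt_eq_trdeg f x
  have hNnk : N = n + k := by
    rw [hN] at hF
    exact_mod_cast hF
  have hmN : m ≤ N := by
    have := hall τ hτx hfτ
    rw [hτm] at this
    exact_mod_cast this
  have hm : m = n + k := by omega
  obtain ⟨t, kτ, ht, hkτ, hFτ⟩ := exists_fibreDimAt_eq_add f τ
  have htm : t = m := by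
    rw [hτm] at ht
    exact_mod_cast ht.symm
  have husc : t + kτ ≤ n + k := by
    have hcl := Groth.Agent.Lib.Helper18.FibSemi.isClosed_setOf_le_fibreDimAt f (t + kτ)
    have hmem : τ ∈ {u : X | ((t + kτ : ℕ) : WithBot ℕ∞) ≤ FlatMor.fibreDimAt f u} := by
      change ((t + kτ : ℕ) : WithBot ℕ∞) ≤ FlatMor.fibreDimAt f τ
      rw [hFτ]
    have hx := hτx.mem_closed hcl hmem
    have hx' : ((t + kτ : ℕ) : WithBot ℕ∞) ≤ FlatMor.fibreDimAt f x := hx
    rw [hF] at hx'
    exact_mod_cast hx'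
  have hkτ0 : kτ = 0 := by omega
  refine ⟨τ, hfτ, hτx, ?_, ?_, ?_⟩
  · intro z' hfz' hz'τ
    obtain ⟨z'', rfl⟩ : z' ∈ Set.range (f.fiberι (f τ)) := by
      rw [Scheme.Hom.range_fiberι]
      exact hfz'.trans hfτ.symm
    have h7 : z'' ⤳ f.asFiber τ := by
      rw [← (f.fiberι (f τ)).isEmbedding.isInducing.specializes_iff, Scheme.Hom.fiberι_asFiber]
      exact hz'τ
    have h8 := eq_of_specializes_of_ringKrullDim_stalk_eq_zero (f.asFiber τ)
      (by rw [hkτ, hkτ0]; rfl) z'' h7
    rw [h8, Scheme.Hom.fiberι_asFiber]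
  · rw [hFτ, hF]
    have : t + kτ = n + k := by omega
    rw [this]
  · apply le_antisymm
    · have := ringKrullDim_stalk_le_add_fiber f τ
      rw [hkτ, hkτ0] at this
      simpa using this
    · obtain ⟨Pτ, hPτ⟩ : ξ ∈ Set.range (X.fromSpecStalk τ) := by
        rw [Scheme.range_fromSpecStalk]
        exact hξτ
      haveI hPτp : Pτ.asIdeal.IsPrime := Pτ.2
      have hcat' := isUniversallyCatenary_stalk_congr hfτ.symm hcat
      have hformτ := Groth.Agent.Lib.Helper21.DimLoc.ringKrullDim_quotient_formula f τ hcat'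
        Pτ.asIdeal m E hτm (trdeg_eq_of_eq f hPτ.symm E hE)
      haveI hQτp : (Pτ.asIdeal.comap (f.stalkMap τ).hom).IsPrime := Ideal.comap_isPrime _ _
      have hcongr := ringKrullDim_quotient_congr hfτ
        (⟨Pτ.asIdeal.comap (f.stalkMap τ).hom, hQτp⟩ : Spec (Y.presheaf.stalk (f τ)))
        (⟨𝔭.comap (f.stalkMap x).hom, h𝔮p⟩ : Spec (Y.presheaf.stalk (f x))) (by
          have e1 := map_fromSpecStalk f τ Pτ
          have e2 := map_fromSpecStalk f x ⟨𝔭, h𝔭p⟩
          rw [hPτ] at e1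
          rw [← hξ] at e2
          exact e1.trans e2.symm)
      haveI : IsLocalRing (X.presheaf.stalk τ ⧸ Pτ.asIdeal) :=
        isLocalRing_quotient_of_le_maximalIdeal (le_maximalIdeal hPτp.ne_top)
      obtain ⟨c', hc'⟩ := exists_nat_eq_ringKrullDim (R := X.presheaf.stalk τ ⧸ Pτ.asIdeal)
      have hcongr' : ringKrullDim (Y.presheaf.stalk (f τ) ⧸ Pτ.asIdeal.comap (f.stalkMap τ).hom) =
          (aq : WithBot ℕ∞) := by
        rw [← haq]
        exact hcongr
      rw [hc', hcongr'] at hformτ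
      have h9 : c' + m = aq + E := by exact_mod_cast hformτ
      have h10 : c' = a := by omega
      have h11 : ringKrullDim (X.presheaf.stalk τ ⧸ Pτ.asIdeal) ≤ ringKrullDim (X.presheaf.stalk τ) :=
        ringKrullDim_quotient_le _
      rw [hc', h10, ← ha, ringKrullDim_stalk_congr hfτ.symm] at h11
      exact h11

end Groth.Agent.Lib.Helper21.OpenAt
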