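import Groth.Agent.Lib.Helper21.OpenAt13

/-!
# Morphisms open along a fibre: fibre dimensions (EGA IV 14.2.5, 14.2.6)
-/

set_option autoImplicit false
set_option linter.style.haveILetI false
set_option linter.unusedSectionVars false
universe u

open AlgebraicGeometry CategoryTheory Limits TopologicalSpace IsLocalRing

namespace Groth.Agent.Lib.Helper21.OpenAt

open Groth.Agent.Lib.Helper21.FibDim Groth.Agent.Lib.Helper21.EquiSub
  Groth.Agent.Lib.Helper21.FourCond

variable {X Y : Scheme.{u}}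

/-- if `f` is open at all points of the fibre over `y`, the dimension of the fibre over `y` is at
most that of the fibre over any generisation of `y` -/
theorem topologicalKrullDim_fiber_le_of_specializes [IsLocallyNoetherian Y] (f : X ⟶ Y)
    [LocallyOfFiniteType f] (y : Y) (h : ∀ x : X, f.base x = y → EGA43.IsOpenAt f.base x)
    (η : Y) (hη : η ⤳ y) :
    topologicalKrullDim ↥(f.fiber y) ≤ topologicalKrullDim ↥(f.fiber η) := by
  apply Groth.Agent.Lib.Helper21.EquiDim.topologicalKrullDim_le_of_components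
  intro Z hZ
  obtain ⟨ζ', hζ'⟩ := QuasiSober.sober hZ.1 (isClosed_of_mem_irreducibleComponents Z hZ)
  have hcl : closure ({ζ'} : Set (f.fiber y)) = Z := hζ'.def
  subst hcl
  set ζ := f.fiberι y ζ' with hζ
  have hfζ : f ζ = y := (f.fiberHomeo y ζ').2
  have hζmax : ∀ τ : X, τ ⤳ ζ → f τ = f ζ → τ = ζ := by
    intro τ hτ hfτ
    obtain ⟨τ', rfl⟩ : τ ∈ Set.range (f.fiberι y) := by
      rw [Scheme.Hom.range_fiberι]
      exact hfτ.trans hfζ
    have h1 : τ' ⤳ ζ' := (f.fiberι y).isEmbedding.isInducing.specializes_iff.mp hτ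
    rw [eq_of_specializes_of_closure_mem ζ' hZ τ' h1]
  obtain ⟨n, hn⟩ := exists_nat_trdeg_residueFieldMap f ζ
  obtain ⟨ξ, -, hfξ, hE⟩ := exists_generization_of_isOpenAt_maximal f ζ hζmax (h ζ hfζ) n hn η
    (by rw [hfζ]; exact hη)
  obtain ⟨ξ', hξ'⟩ : ξ ∈ Set.range (f.fiberι η) := by
    rw [Scheme.Hom.range_fiberι]
    exact hfξ
  rw [topologicalKrullDim_closure_fiber f y ζ' n hn,
    ← topologicalKrullDim_closure_fiber f η ξ' n (trdeg_eq_of_eq f hξ'.symm n hE)]
  exact topologicalKrullDim_subspace_le _ _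

/-- **EGA IV 14.2.6 (i)**: for a proper morphism open along the fibre over `y`, the fibre
dimension is constant near `y` -/
theorem fibre_dim_locally_const_of_proper [IsLocallyNoetherian Y] (f : X ⟶ Y) [IsProper f]
    (y : Y) (h : ∀ x : X, f.base x = y → EGA43.IsOpenAt f.base x) :
    ∃ V ∈ nhds y, ∀ z ∈ V,
      topologicalKrullDim ↥(f.fiber z) = topologicalKrullDim ↥(f.fiber y) := by
  have hcl : IsClosedMap f.base := f.isClosedMap
  obtain ⟨O₁, hyO₁, hO₁⟩ := exists_open_forall_maximal_specializes Y y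
  have hV₁ := Groth.Agent.Lib.Helper18.FibSemi.isOpen_setOf_topologicalKrullDim_fiber_le f hcl
    (topologicalKrullDim ↥(f.fiber y))
  refine ⟨{s : Y | topologicalKrullDim ↥(f.fiber s) ≤ topologicalKrullDim ↥(f.fiber y)} ∩ O₁,
    Filter.inter_mem (hV₁.mem_nhds (show topologicalKrullDim ↥(f.fiber y) ≤ _ from le_rfl))
      (O₁.2.mem_nhds hyO₁), ?_⟩
  rintro z ⟨hz1, hz2⟩
  refine le_antisymm hz1 ?_
  obtain ⟨η, hηz, hηmax⟩ := exists_maximal_specializes z
  have hηy : η ⤳ y := hO₁ z hz2 η hηmax hηz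
  have h1 := topologicalKrullDim_fiber_le_of_specializes f y h η hηy
  have hV₂ := Groth.Agent.Lib.Helper18.FibSemi.isOpen_setOf_topologicalKrullDim_fiber_le f hcl
    (topologicalKrullDim ↥(f.fiber z))
  have h2 : η ∈ {s : Y | topologicalKrullDim ↥(f.fiber s) ≤ topologicalKrullDim ↥(f.fiber z)} :=
    hηz.mem_open hV₂ (show topologicalKrullDim ↥(f.fiber z) ≤ _ from le_rfl)
  exact h1.trans h2

end Groth.Agent.Lib.Helper21.OpenAt
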