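import Groth.Agent.Lib.Helper21.OpenAt16

/-!
# Open morphisms: the set of dimensions of the components of the fibres is locally constant
(EGA IV 14.2.6)
-/

set_option autoImplicit false
set_option linter.style.haveILetI false
set_option linter.unusedSectionVars false
universe u

open AlgebraicGeometry CategoryTheory Limits TopologicalSpace IsLocalRing

namespace Groth.Agent.Lib.Helper21.OpenAt

open Groth.Agent.Lib.Helper21.FibDim Groth.Agent.Lib.Helper21.EquiSub
  Groth.Agent.Lib.Helper21.FourCond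

variable {X Y : Scheme.{u}}

/-- the set of dimensions of the irreducible components of the fibre -/
noncomputable def fibreDims (f : X ⟶ Y) (z : Y) : Set (WithBot ℕ∞) :=
  (fun Z : Set ↥(f.fiber z) => topologicalKrullDim ↥Z) '' irreducibleComponents ↥(f.fiber z)

/-- a point maximal in its fibre gives an irreducible component of the fibre -/
theorem mem_fibreDims_of_maximal (f : X ⟶ Y) [LocallyOfFiniteType f] (ζ : X)
    (hζmax : ∀ τ : X, τ ⤳ ζ → f τ = f ζ → τ = ζ) (n : ℕ)
    (hn : @Algebra.trdeg (Y.residueField (f ζ)) (X.residueField ζ) _ _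
      (f.residueFieldMap ζ).hom.toAlgebra = n) (z : Y) (hz : f ζ = z) :
    (n : WithBot ℕ∞) ∈ fibreDims f z := by
  subst hz
  have hmax' : ∀ t : f.fiber (f ζ), t ⤳ f.asFiber ζ → t = f.asFiber ζ := by
    intro t ht
    have h1 : f.fiberι (f ζ) t ⤳ ζ := by
      have := ht.map (f.fiberι (f ζ)).continuous
      rwa [Scheme.Hom.fiberι_asFiber] at this
    have h2 := hζmax _ h1 (f.fiberHomeo (f ζ) t).2
    apply (f.fiberι (f ζ)).isEmbedding.injective
    rw [h2, Scheme.Hom.fiberι_asFiber]
  refine ⟨closure {f.asFiber ζ},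
    Groth.Agent.Lib.Helper21.FibDim.closure_mem_irreducibleComponents_of_maximal _ hmax', ?_⟩
  exact topologicalKrullDim_closure_fiber f (f ζ) (f.asFiber ζ) n
    (trdeg_eq_of_eq f (Scheme.Hom.fiberι_asFiber f ζ).symm n hn)

/-- an irreducible component of the fibre comes from a point maximal in the fibre -/
theorem exists_maximal_of_mem_fibreDims (f : X ⟶ Y) [LocallyOfFiniteType f] (z : Y)
    (d : WithBot ℕ∞) (hd : d ∈ fibreDims f z) :
    ∃ (ζ : X) (n : ℕ), f ζ = z ∧ (∀ τ : X, τ ⤳ ζ → f τ = f ζ → τ = ζ) ∧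
      @Algebra.trdeg (Y.residueField (f ζ)) (X.residueField ζ) _ _
        (f.residueFieldMap ζ).hom.toAlgebra = n ∧ d = n := by
  obtain ⟨Z, hZ, rfl⟩ := hd
  obtain ⟨ζ', hζ'⟩ := QuasiSober.sober hZ.1 (isClosed_of_mem_irreducibleComponents Z hZ)
  have hcl : closure ({ζ'} : Set (f.fiber z)) = Z := hζ'.def
  subst hcl
  set ζ := f.fiberι z ζ' with hζ
  have hfζ : f ζ = z := (f.fiberHomeo z ζ').2
  have hζmax : ∀ τ : X, τ ⤳ ζ → f τ = f ζ → τ = ζ := by
    intro τ hτ hfτ
    obtain ⟨τ', rfl⟩ : τ ∈ Set.range (f.fiberι z) := by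
      rw [Scheme.Hom.range_fiberι]
      exact hfτ.trans hfζ
    have h1 : τ' ⤳ ζ' := (f.fiberι z).isEmbedding.isInducing.specializes_iff.mp hτ
    rw [eq_of_specializes_of_closure_mem ζ' hZ τ' h1]
  obtain ⟨n, hn⟩ := exists_nat_trdeg_residueFieldMap f ζ
  exact ⟨ζ, n, hfζ, hζmax, hn, topologicalKrullDim_closure_fiber f z ζ' n hn⟩

/-- **Lemma N'**: if `ζ` is maximal in its fibre, with residue field of transcendence degree `n`,
and `f` is open at `ζ`, then the image of the locus of local fibre dimension exactly `n` is a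
neighbourhood of `f ζ` -/
theorem image_setOf_fibreDimAt_eq_mem_nhds [IsLocallyNoetherian Y] (f : X ⟶ Y)
    [LocallyOfFiniteType f] (ζ : X) (hζmax : ∀ τ : X, τ ⤳ ζ → f τ = f ζ → τ = ζ)
    (hop : EGA43.IsOpenAt f.base ζ) (n : ℕ)
    (hn : @Algebra.trdeg (Y.residueField (f ζ)) (X.residueField ζ) _ _
      (f.residueFieldMap ζ).hom.toAlgebra = n) :
    f.base '' {x : X | FlatMor.fibreDimAt f x = n} ∈ nhds (f.base ζ) := by
  haveI : IsLocallyNoetherian X := LocallyOfFiniteType.isLocallyNoetherian f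
  have hcl := Groth.Agent.Lib.Helper18.FibSemi.isClosed_setOf_le_fibreDimAt f n
  have hopn := isOpen_setOf_fibreDimAt_le f n
  have hind : ProCons.IsIndConstructible {x : X | FlatMor.fibreDimAt f x = n} := by
    apply Groth.Agent.Lib.Helper17.ProConsLib.isIndConstructible_of_nhds_in_closure
    intro x hx
    have hx' : FlatMor.fibreDimAt f x = n := hx
    have : (Subtype.val ⁻¹' {x : X | FlatMor.fibreDimAt f x = n} :
        Set ↥(closure ({x} : Set X))) =
        Subtype.val ⁻¹' {x : X | FlatMor.fibreDimAt f x ≤ n} := by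
      ext ⟨w, hw⟩
      simp only [Set.mem_preimage, Set.mem_ofPred_eq]
      constructor
      · intro h
        rw [h]
      · intro h
        refine le_antisymm h ?_
        exact (specializes_iff_mem_closure.mpr hw).mem_closed hcl
          (show (n : WithBot ℕ∞) ≤ FlatMor.fibreDimAt f x from hx'.ge)
    rw [this]
    exact (hopn.preimage continuous_subtype_val).mem_nhds
      (show FlatMor.fibreDimAt f x ≤ n from hx'.le)
  have himg := Groth.Agent.Lib.Helper17.ProConsLib.isIndConstructible_image f hind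
  rw [← mem_interior_iff_mem_nhds,
    Groth.Agent.Lib.Helper17.ProConsLib.mem_interior_iff_of_isIndConstructible himg]
  intro η hη
  obtain ⟨ξ, hξζ, hfξ, hE⟩ := exists_generization_of_isOpenAt_maximal f ζ hζmax hop n hn η hη
  refine ⟨ξ, ?_, hfξ⟩
  obtain ⟨a, b, ha, -, hF⟩ := exists_fibreDimAt_eq_add f ξ
  have han : a = n := by
    rw [hE] at ha
    exact_mod_cast ha.symm
  change FlatMor.fibreDimAt f ξ = n
  apply le_antisymm
  · rw [← fibreDimAt_eq_trdeg_of_maximal f ζ hζmax n hn]
    exact fibreDimAt_le_of_specializes f hξζ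
  · rw [hF, ← han]
    exact_mod_cast Nat.le_add_right a b

/-- the dimensions of components of the fibre over `y` occur in nearby fibres -/
theorem exists_nhds_mem_fibreDims [IsLocallyNoetherian Y] (f : X ⟶ Y)
    [LocallyOfFiniteType f] (y : Y) (h : ∀ x : X, f.base x = y → EGA43.IsOpenAt f.base x)
    (d : WithBot ℕ∞) (hd : d ∈ fibreDims f y) :
    ∃ V ∈ nhds y, ∀ z ∈ V, d ∈ fibreDims f z := by
  obtain ⟨ζ, n, hfζ, hζmax, hn, rfl⟩ := exists_maximal_of_mem_fibreDims f y d hd
  have hnb := image_setOf_fibreDimAt_eq_mem_nhds f ζ hζmax (h ζ hfζ) n hn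
  rw [hfζ] at hnb
  refine ⟨_, hnb, ?_⟩
  rintro z ⟨x, hx, rfl⟩
  have hx' : FlatMor.fibreDimAt f x = n := hx
  obtain ⟨ζ₁, N, -, hfζ₁, hζ₁max, hζ₁N, hFN⟩ := exists_maximal_generization_fibreDimAt f x
  have hNn : N = n := by
    rw [hFN] at hx'
    exact_mod_cast hx'
  rw [← hNn]
  exact mem_fibreDims_of_maximal f ζ₁ hζ₁max N hζ₁N (f x) hfζ₁

/-- the dimensions of the components of the fibre over `z` occur in the fibre over some maximal
point above `z` -/
theorem exists_maximal_mem_fibreDims [IsLocallyNoetherian Y] (f : X ⟶ Y)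
    [LocallyOfFiniteType f] (z : Y) (h : ∀ x : X, f.base x = z → EGA43.IsOpenAt f.base x)
    (d : WithBot ℕ∞) (hd : d ∈ fibreDims f z) :
    ∃ η : Y, η ⤳ z ∧ (∀ t : Y, t ⤳ η → t = η) ∧ d ∈ fibreDims f η := by
  obtain ⟨ζ, n, hfζ, hζmax, hn, rfl⟩ := exists_maximal_of_mem_fibreDims f z d hd
  obtain ⟨ξ, hξζ, hξmax, hfξmax, hE⟩ :=
    exists_maximal_of_isOpenAt_maximal f ζ hζmax (h ζ hfζ) n hn
  refine ⟨f ξ, ?_, hfξmax, ?_⟩
  · rw [← hfζ]
    exact hξζ.map f.continuous
  · exact mem_fibreDims_of_maximal f ξ (fun τ hτ _ => hξmax τ hτ) n hE (f ξ) rfl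

/-- the set of dimensions of the components of a quasi-compact fibre is finite -/
theorem finite_fibreDims (f : X ⟶ Y) [LocallyOfFiniteType f] [QuasiCompact f] (y : Y) :
    (fibreDims f y).Finite := by
  letI := fiberOver f y
  haveI hlft : LocallyOfFiniteType
      (f.fiber y ↘ Spec (CommRingCat.of (Y.residueField y))) :=
    MorphismProperty.pullback_snd (P := @LocallyOfFiniteType) _ _ inferInstance
  haveI : IsLocallyNoetherian (f.fiber y) :=
    LocallyOfFiniteType.isLocallyNoetherian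
      (f.fiber y ↘ Spec (CommRingCat.of (Y.residueField y)))
  haveI : IsNoetherian (f.fiber y) := {}
  exact (NoetherianSpace.finite_irreducibleComponents).image _

/-- **EGA IV 14.2.6**: local constancy of the set of dimensions of the components of the fibres -/
theorem fibreDims_locally_const [IsLocallyNoetherian Y] (f : X ⟶ Y)
    [LocallyOfFiniteType f] [QuasiCompact f] (y : Y)
    (hop : ∀ x : X, EGA43.IsOpenAt f.base x)
    (h : ∀ η : Y, y ∈ closure {η} → closure {η} ∈ irreducibleComponents (Y : Type u) →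
      fibreDims f y = fibreDims f η) :
    ∃ V ∈ nhds y, ∀ z ∈ V, fibreDims f z = fibreDims f y := by
  obtain ⟨O₁, hyO₁, hO₁⟩ := exists_open_forall_maximal_specializes Y y
  have hfin := finite_fibreDims f y
  choose! V hV hVd using exists_nhds_mem_fibreDims f y (fun x _ => hop x)
  refine ⟨(⋂ d ∈ fibreDims f y, V d) ∩ O₁,
    Filter.inter_mem ((Filter.biInter_mem hfin).mpr hV) (O₁.2.mem_nhds hyO₁), ?_⟩
  rintro z ⟨hz1, hz2⟩
  apply Set.Subset.antisymm
  · intro d hd
    obtain ⟨η, hηz, hηmax, hdη⟩ := exists_maximal_mem_fibreDims f z (fun x _ => hop x) d hd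
    have hηy : η ⤳ y := hO₁ z hz2 η hηmax hηz
    rw [h η (specializes_iff_mem_closure.mp hηy)
      (Groth.Agent.Lib.Helper21.FibDim.closure_mem_irreducibleComponents_of_maximal η hηmax)]
    exact hdη
  · intro d hd
    exact hVd d hd z (Set.mem_iInter₂.mp hz1 d hd)

end Groth.Agent.Lib.Helper21.OpenAt
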