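import Groth.Agent.Lib.Helper21.OpenAt17

/-!
# Points maximal in a fibre whose local ring has the dimension of the local ring of the base
(EGA IV 14.2.5 variant without openness)
-/

set_option autoImplicit false
set_option linter.style.haveILetI false
set_option linter.unusedSectionVars false
universe u

open AlgebraicGeometry CategoryTheory Limits TopologicalSpace IsLocalRing

namespace Groth.Agent.Lib.Helper21.OpenAt

open Groth.Agent.Lib.Helper21.FibDim Groth.Agent.Lib.Helper21.EquiSub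
  Groth.Agent.Lib.Helper21.FourCond

variable {X Y : Scheme.{u}}

/-- the numerical core of EGA IV 14.2.4 under the dimension inequality only -/
theorem exists_maximal_of_dim_le_maximal [IsLocallyNoetherian Y] (f : X ⟶ Y)
    [LocallyOfFiniteType f] (ζ : X) (hζmax : ∀ τ : X, τ ⤳ ζ → f τ = f ζ → τ = ζ)
    (hca : ringKrullDim (Y.presheaf.stalk (f ζ)) ≤ ringKrullDim (X.presheaf.stalk ζ)) (n : ℕ)
    (hn : @Algebra.trdeg (Y.residueField (f ζ)) (X.residueField ζ) _ _
      (f.residueFieldMap ζ).hom.toAlgebra = n) :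
    ∃ ξ : X, ξ ⤳ ζ ∧ (∀ ξ' : X, ξ' ⤳ ξ → ξ' = ξ) ∧ (∀ t : Y, t ⤳ f ξ → t = f ξ) ∧
      @Algebra.trdeg (Y.residueField (f ξ)) (X.residueField ξ) _ _
        (f.residueFieldMap ξ).hom.toAlgebra = n := by
  haveI : IsLocallyNoetherian X := LocallyOfFiniteType.isLocallyNoetherian f
  have hFζ : FlatMor.fibreDimAt f ζ = n := fibreDimAt_eq_trdeg_of_maximal f ζ hζmax n hn
  obtain ⟨𝔭, h𝔭min, h𝔭dim⟩ :=
    Groth.Agent.Lib.Helper21.EquidimAt.exists_minimalPrimes_ringKrullDim_quotient_eq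
      (X.presheaf.stalk ζ)
  haveI h𝔭p : 𝔭.IsPrime := h𝔭min.1.1
  set ξ := X.fromSpecStalk ζ ⟨𝔭, h𝔭p⟩ with hξ
  have hξζ : ξ ⤳ ζ := by
    have : ξ ∈ Set.range (X.fromSpecStalk ζ) := ⟨_, rfl⟩
    rw [Scheme.range_fromSpecStalk] at this
    exact this
  have hξmax : ∀ ξ' : X, ξ' ⤳ ξ → ξ' = ξ := fun ξ' h =>
    Groth.Agent.Lib.Helper21.EquidimAt.eq_of_specializes_fromSpecStalk_of_minimal ζ 𝔭 h𝔭min ξ' h
  obtain ⟨E, hE⟩ := exists_nat_trdeg_residueFieldMap f ξ
  have hineq := Groth.Agent.Lib.Helper21.DimLoc.ringKrullDim_quotient_inequality f ζ 𝔭 n E hn hE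
  have hChev := le_fibreDimAt_of_specializes f hξζ E hE
  haveI h𝔮p : (𝔭.comap (f.stalkMap ζ).hom).IsPrime := Ideal.comap_isPrime _ _
  have hquot := height_add_ringKrullDim_quotient_le (𝔭.comap (f.stalkMap ζ).hom)
  haveI : IsLocalRing (Y.presheaf.stalk (f ζ) ⧸ 𝔭.comap (f.stalkMap ζ).hom) :=
    isLocalRing_quotient_of_le_maximalIdeal (le_maximalIdeal h𝔮p.ne_top)
  obtain ⟨aq, haq⟩ := exists_nat_eq_ringKrullDim
    (R := Y.presheaf.stalk (f ζ) ⧸ 𝔭.comap (f.stalkMap ζ).hom)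
  obtain ⟨a, ha⟩ := Groth.Agent.Lib.Helper18.SerreReg.exists_ringKrullDim_eq_nat
    (Y.presheaf.stalk (f ζ))
  obtain ⟨c, hc⟩ := Groth.Agent.Lib.Helper18.SerreReg.exists_ringKrullDim_eq_nat
    (X.presheaf.stalk ζ)
  have hht : (𝔭.comap (f.stalkMap ζ).hom).height ≠ ⊤ := Ideal.height_ne_top h𝔮p.ne_top
  obtain ⟨h, hh⟩ := ENat.ne_top_iff_exists.mp hht
  rw [h𝔭dim, hc, haq] at hineq
  rw [ha, hc] at hca
  rw [hFζ] at hChev
  rw [haq, ha, ← hh] at hquot
  have h1 : c + n ≤ aq + E := by exact_mod_cast hineq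
  have h2 : a ≤ c := by exact_mod_cast hca
  have h3 : E ≤ n := by exact_mod_cast hChev
  have h4 : h + aq ≤ a := by exact_mod_cast hquot
  have h5 : h = 0 := by omega
  have h6 : E = n := by omega
  refine ⟨ξ, hξζ, hξmax, ?_, by rw [hE, h6]⟩
  have hmin : 𝔭.comap (f.stalkMap ζ).hom ∈ minimalPrimes (Y.presheaf.stalk (f ζ)) := by
    rw [← Ideal.height_eq_zero_iff, ← hh, h5]
    rfl
  intro t ht
  have hmap := map_fromSpecStalk f ζ ⟨𝔭, h𝔭p⟩
  rw [← hξ] at hmap
  rw [← hmap] at ht ⊢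
  exact Groth.Agent.Lib.Helper21.EquidimAt.eq_of_specializes_fromSpecStalk_of_minimal (f ζ)
    (𝔭.comap (f.stalkMap ζ).hom) hmin t ht

/-- the dimensions of the components of the fibre over `z` occur in the fibre over some maximal
point above `z`, if the local rings at the maximal points of the fibre are large enough -/
theorem exists_maximal_mem_fibreDims_of_dim_le [IsLocallyNoetherian Y] (f : X ⟶ Y)
    [LocallyOfFiniteType f] (z : Y)
    (h : ∀ x : X, f.base x = z → (∀ τ : X, τ ⤳ x → f τ = f x → τ = x) →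
      ringKrullDim (Y.presheaf.stalk (f x)) ≤ ringKrullDim (X.presheaf.stalk x))
    (d : WithBot ℕ∞) (hd : d ∈ fibreDims f z) :
    ∃ η : Y, η ⤳ z ∧ (∀ t : Y, t ⤳ η → t = η) ∧ d ∈ fibreDims f η := by
  obtain ⟨ζ, n, hfζ, hζmax, hn, rfl⟩ := exists_maximal_of_mem_fibreDims f z d hd
  obtain ⟨ξ, hξζ, hξmax, hfξmax, hE⟩ :=
    exists_maximal_of_dim_le_maximal f ζ hζmax (h ζ hfζ hζmax) n hn
  refine ⟨f ξ, ?_, hfξmax, ?_⟩
  · rw [← hfζ]
    exact hξζ.map f.continuous
  · exact mem_fibreDims_of_maximal f ξ (fun τ hτ _ => hξmax τ hτ) n hE (f ξ) rfl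

/-- the dimension of the fibre is the supremum of the dimensions of its components -/
theorem topologicalKrullDim_fiber_le_of_fibreDims_subset (f : X ⟶ Y) (y η : Y)
    (h : fibreDims f y ⊆ fibreDims f η) :
    topologicalKrullDim ↥(f.fiber y) ≤ topologicalKrullDim ↥(f.fiber η) := by
  apply Groth.Agent.Lib.Helper21.EquiDim.topologicalKrullDim_le_of_components
  intro Z hZ
  obtain ⟨Z', -, hZ'⟩ := h ⟨Z, hZ, rfl⟩
  have h1 : topologicalKrullDim ↥Z' = topologicalKrullDim ↥Z := hZ'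
  rw [← h1]
  exact topologicalKrullDim_subspace_le _ Z'

/-- **EGA IV 14.2.5 variant** -/
theorem fibreDims_subset_generic_of_dim_le [IrreducibleSpace Y] [IsLocallyNoetherian Y]
    (f : X ⟶ Y) [LocallyOfFiniteType f] (y : Y)
    (h : ∀ x : X, f.base x = y → (∀ τ : X, τ ⤳ x → f τ = f x → τ = x) →
      ringKrullDim (Y.presheaf.stalk (f x)) ≤ ringKrullDim (X.presheaf.stalk x)) :
    fibreDims f y ⊆ fibreDims f (genericPoint Y) ∧
      topologicalKrullDim ↥(f.fiber y) ≤ topologicalKrullDim ↥(f.fiber (genericPoint Y)) := by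
  have key : fibreDims f y ⊆ fibreDims f (genericPoint Y) := by
    intro d hd
    obtain ⟨η, -, hηmax, hdη⟩ := exists_maximal_mem_fibreDims_of_dim_le f y h d hd
    rw [hηmax _ (genericPoint_specializes η)]
    exact hdη
  exact ⟨key, topologicalKrullDim_fiber_le_of_fibreDims_subset f y _ key⟩

end Groth.Agent.Lib.Helper21.OpenAt
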