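import Groth.Agent.Lib.Helper21.OpenAt18

/-!
# Dimension of the local rings at the maximal points of a fibre and components dominating the base
(EGA IV 14.2.1 variant over an irreducible base)
-/

set_option autoImplicit false
set_option linter.style.haveILetI false
set_option linter.unusedSectionVars false
universe u

open AlgebraicGeometry CategoryTheory Limits TopologicalSpace IsLocalRing

namespace Groth.Agent.Lib.Helper21.OpenAt

open Groth.Agent.Lib.Helper21.FibDim Groth.Agent.Lib.Helper21.EquiSub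
  Groth.Agent.Lib.Helper21.FourCond

variable {X Y : Scheme.{u}}

/-- a point whose local ring in the fibre is zero-dimensional is maximal in its fibre -/
theorem maximal_in_fibre_of_ringKrullDim_eq_zero (f : X ⟶ Y) (z : X)
    (h0 : ringKrullDim ((f.fiber (f.base z)).presheaf.stalk (f.asFiber z)) = 0) :
    ∀ τ : X, τ ⤳ z → f τ = f z → τ = z := by
  intro z' hz'τ hfz'
  obtain ⟨z'', rfl⟩ : z' ∈ Set.range (f.fiberι (f z)) := by
    rw [Scheme.Hom.range_fiberι]
    exact hfz'
  have h7 : z'' ⤳ f.asFiber z := by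
    rw [← (f.fiberι (f z)).isEmbedding.isInducing.specializes_iff, Scheme.Hom.fiberι_asFiber]
    exact hz'τ
  have h8 := eq_of_specializes_of_ringKrullDim_stalk_eq_zero (f.asFiber z) h0 z'' h7
  rw [h8, Scheme.Hom.fiberι_asFiber]

/-- over an irreducible base, the prime of the generic point in a local ring has full coheight -/
theorem ringKrullDim_quotient_generic [IrreducibleSpace Y] [IsLocallyNoetherian Y] (y : Y)
    (Q : Spec (Y.presheaf.stalk y)) (hQ : Y.fromSpecStalk y Q = genericPoint Y) :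
    ringKrullDim (Y.presheaf.stalk y ⧸ Q.asIdeal) = ringKrullDim (Y.presheaf.stalk y) := by
  obtain ⟨𝔭, h𝔭min, h𝔭dim⟩ :=
    Groth.Agent.Lib.Helper21.EquidimAt.exists_minimalPrimes_ringKrullDim_quotient_eq
      (Y.presheaf.stalk y)
  haveI h𝔭p : 𝔭.IsPrime := h𝔭min.1.1
  have h1 := Groth.Agent.Lib.Helper21.EquidimAt.eq_of_specializes_fromSpecStalk_of_minimal y 𝔭
    h𝔭min (genericPoint Y) (genericPoint_specializes _)
  have h2 : Q = ⟨𝔭, h𝔭p⟩ := (Y.fromSpecStalk y).isEmbedding.injective (hQ.trans h1)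
  rw [h2]
  exact h𝔭dim

/-- (b) ⇒ (c) -/
theorem exists_component_of_dim_eq [IrreducibleSpace Y] [IsLocallyNoetherian Y] (f : X ⟶ Y)
    [LocallyOfFiniteType f] (z : X)
    (h0 : ringKrullDim ((f.fiber (f.base z)).presheaf.stalk (f.asFiber z)) = 0)
    (hb : ringKrullDim (X.presheaf.stalk z) = ringKrullDim (Y.presheaf.stalk (f.base z))) :
    ∃ X' ∈ irreducibleComponents (X : Type u), z ∈ X' ∧
      topologicalKrullDim ↥(X' ∩ f.base ⁻¹' {genericPoint Y}) = FlatMor.fibreDimAt f z := by
  have hzmax := maximal_in_fibre_of_ringKrullDim_eq_zero f z h0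
  obtain ⟨n, hn⟩ := exists_nat_trdeg_residueFieldMap f z
  obtain ⟨ξ, hξz, hξmax, hfξmax, hE⟩ := exists_maximal_of_dim_le_maximal f z hzmax hb.ge n hn
  have hfξ : f ξ = genericPoint Y := (hfξmax _ (genericPoint_specializes (f ξ))).symm
  refine ⟨closure {ξ},
    Groth.Agent.Lib.Helper21.FibDim.closure_mem_irreducibleComponents_of_maximal ξ hξmax,
    specializes_iff_mem_closure.mp hξz, ?_⟩
  rw [fibreDimAt_eq_trdeg_of_maximal f z hzmax n hn, ← hfξ]
  exact topologicalKrullDim_closure_inter_fiber f ξ n hE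

/-- (c) ⇒ (b) over a universally catenary local ring -/
theorem dim_eq_of_exists_component [IrreducibleSpace Y] [IsLocallyNoetherian Y] (f : X ⟶ Y)
    [LocallyOfFiniteType f] (z : X)
    (hcat : CAlg.IsUniversallyCatenary (Y.presheaf.stalk (f.base z)))
    (h0 : ringKrullDim ((f.fiber (f.base z)).presheaf.stalk (f.asFiber z)) = 0)
    (hc : ∃ X' ∈ irreducibleComponents (X : Type u), z ∈ X' ∧
      topologicalKrullDim ↥(X' ∩ f.base ⁻¹' {genericPoint Y}) = FlatMor.fibreDimAt f z) :
    ringKrullDim (X.presheaf.stalk z) = ringKrullDim (Y.presheaf.stalk (f.base z)) := by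
  haveI : IsLocallyNoetherian X := LocallyOfFiniteType.isLocallyNoetherian f
  have hzmax := maximal_in_fibre_of_ringKrullDim_eq_zero f z h0
  obtain ⟨n, hn⟩ := exists_nat_trdeg_residueFieldMap f z
  have hFz := fibreDimAt_eq_trdeg_of_maximal f z hzmax n hn
  obtain ⟨X', hX', hzX', hdim⟩ := hc
  rw [hFz] at hdim
  obtain ⟨ξ, hξ⟩ := QuasiSober.sober hX'.1 (isClosed_of_mem_irreducibleComponents X' hX')
  have hcl : closure ({ξ} : Set X) = X' := hξ.def
  subst hcl
  have hξz : ξ ⤳ z := specializes_iff_mem_closure.mpr hzX'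
  -- the trace on the generic fibre is non-empty
  have hne : Nonempty ↥(closure ({ξ} : Set X) ∩ f.base ⁻¹' {genericPoint Y}) := by
    by_contra hcon
    rw [not_nonempty_iff] at hcon
    rw [topologicalKrullDim_eq_bot_of_isEmpty] at hdim
    exact absurd hdim (by simp)
  obtain ⟨⟨w, hwcl, hwη⟩⟩ := hne
  have hfξ : f ξ = genericPoint Y := by
    have h1 : f ξ ⤳ f w := (specializes_iff_mem_closure.mpr hwcl).map f.continuous
    rw [show f w = genericPoint Y from hwη] at h1
    exact (h1.antisymm (genericPoint_specializes (f ξ))).eq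
  obtain ⟨E, hE⟩ := exists_nat_trdeg_residueFieldMap f ξ
  have hEn : E = n := by
    have h1 := topologicalKrullDim_closure_inter_fiber f ξ E hE
    rw [hfξ, hdim] at h1
    exact_mod_cast h1.symm
  obtain ⟨P, hP⟩ : ξ ∈ Set.range (X.fromSpecStalk z) := by
    rw [Scheme.range_fromSpecStalk]
    exact hξz
  haveI hPp : P.asIdeal.IsPrime := P.2
  have hform := Groth.Agent.Lib.Helper21.DimLoc.ringKrullDim_quotient_formula f z hcat P.asIdeal
    n E hn (trdeg_eq_of_eq f hP.symm E hE)
  have hQ : Y.fromSpecStalk (f z) (Spec.map (f.stalkMap z) P) = genericPoint Y := by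
    rw [map_fromSpecStalk, hP, hfξ]
  have hgen := ringKrullDim_quotient_generic (f z) (Spec.map (f.stalkMap z) P) hQ
  have hgen' : ringKrullDim (Y.presheaf.stalk (f z) ⧸ P.asIdeal.comap (f.stalkMap z).hom) =
      ringKrullDim (Y.presheaf.stalk (f z)) := hgen
  rw [hgen', hEn] at hform
  apply le_antisymm
  · have := ringKrullDim_stalk_le_add_fiber f z
    rw [h0, add_zero] at this
    exact this
  · have hql : ringKrullDim (X.presheaf.stalk z ⧸ P.asIdeal) ≤ ringKrullDim (X.presheaf.stalk z) :=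
      ringKrullDim_quotient_le _
    obtain ⟨a, ha⟩ := Groth.Agent.Lib.Helper18.SerreReg.exists_ringKrullDim_eq_nat
      (Y.presheaf.stalk (f z))
    obtain ⟨b, hb⟩ := Groth.Agent.Lib.Helper18.SerreReg.exists_ringKrullDim_eq_nat
      (X.presheaf.stalk z)
    haveI : IsLocalRing (X.presheaf.stalk z ⧸ P.asIdeal) :=
      isLocalRing_quotient_of_le_maximalIdeal (le_maximalIdeal hPp.ne_top)
    obtain ⟨c, hc⟩ := exists_nat_eq_ringKrullDim (R := X.presheaf.stalk z ⧸ P.asIdeal)
    rw [hc, ha] at hform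
    rw [hc, hb] at hql
    rw [ha, hb]
    have h1 : c + n = a + n := by exact_mod_cast hform
    have h2 : c ≤ b := by exact_mod_cast hql
    have h3 : a ≤ b := by omega
    exact_mod_cast h3

end Groth.Agent.Lib.Helper21.OpenAt
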