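import Groth.Agent.Lib.Helper21.OpenAt1

/-!
# Morphisms open at the maximal points of a fibre: the dimension formula (EGA IV 14.2.1)
-/

set_option autoImplicit false
set_option linter.style.haveILetI false
set_option linter.unusedSectionVars false
universe u

open AlgebraicGeometry CategoryTheory Limits TopologicalSpace IsLocalRing

namespace Groth.Agent.Lib.Helper21.OpenAt

open Groth.Agent.Lib.Helper21.FibDim Groth.Agent.Lib.Helper21.EquiSub
  Groth.Agent.Lib.Helper21.FourCond

/-- `ht p + dim B/p ≤ dim B` -/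
theorem height_add_ringKrullDim_quotient_le {B : Type*} [CommRing B] (p : Ideal B)
    [hp : p.IsPrime] : (p.height : WithBot ℕ∞) + ringKrullDim (B ⧸ p) ≤ ringKrullDim B := by
  have : Nonempty (PrimeSpectrum B) := ⟨⟨p, hp⟩⟩
  have h1 : ringKrullDim (B ⧸ p) =
      ((Order.coheight (⟨p, hp⟩ : PrimeSpectrum B) : ℕ∞) : WithBot ℕ∞) := by
    have hz : PrimeSpectrum.zeroLocus (p : Set B) = Set.Ici (⟨p, hp⟩ : PrimeSpectrum B) := by
      ext q
      rw [PrimeSpectrum.mem_zeroLocus, Set.mem_Ici, ← PrimeSpectrum.asIdeal_le_asIdeal]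
      rfl
    rw [ringKrullDim_quotient, Order.coheight_eq_krullDim_Ici, hz]
  rw [h1, PrimeSpectrum.height_eq_orderHeight (⟨p, hp⟩ : PrimeSpectrum B)]
  show ((Order.height (⟨p, hp⟩ : PrimeSpectrum B) : ℕ∞) : WithBot ℕ∞) +
    ((Order.coheight (⟨p, hp⟩ : PrimeSpectrum B) : ℕ∞) : WithBot ℕ∞) ≤ Order.krullDim _
  rw [Order.krullDim_eq_iSup_height_add_coheight_of_nonempty, ← WithBot.coe_add,
    WithBot.coe_le_coe]
  exact le_iSup (fun a : PrimeSpectrum B => Order.height a + Order.coheight a) ⟨p, hp⟩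

variable {X Y : Scheme.{u}}

/-- the dimension inequality `dim O_{X,x} ≤ dim O_{Y,y} + dim O_{X_y,x}` -/
theorem ringKrullDim_stalk_le_add_fiber [IsLocallyNoetherian X] [IsLocallyNoetherian Y]
    (f : X ⟶ Y) (x : X) :
    ringKrullDim (X.presheaf.stalk x) ≤ ringKrullDim (Y.presheaf.stalk (f x)) +
      ringKrullDim ((f.fiber (f x)).presheaf.stalk (f.asFiber x)) := by
  rw [← ringKrullDim_quotient_map_maximalIdeal]
  letI : Algebra (Y.presheaf.stalk (f x)) (X.presheaf.stalk x) := (f.stalkMap x).hom.toAlgebra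
  haveI : IsLocalHom (algebraMap (Y.presheaf.stalk (f x)) (X.presheaf.stalk x)) :=
    inferInstanceAs (IsLocalHom (f.stalkMap x).hom)
  exact Groth.Agent.Lib.Helper18.CM.ringKrullDim_le_add_fibre
    (R := Y.presheaf.stalk (f x)) (S := X.presheaf.stalk x)

/-- **EGA IV 14.2.1**, the lower bound, for a point of the fibre -/
theorem add_le_ringKrullDim_stalk_of_isOpenAt [IsLocallyNoetherian X] [IsLocallyNoetherian Y]
    (f : X ⟶ Y) (y : Y) (t : f.fiber y)
    (h : ∀ z : f.fiber y, t ∈ closure {z} → (∀ z' : f.fiber y, z ∈ closure {z'} → z' = z) →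
      EGA43.IsOpenAt f.base ((f.fiberι y).base z)) :
    ringKrullDim (Y.presheaf.stalk y) + ringKrullDim ((f.fiber y).presheaf.stalk t) ≤
      ringKrullDim (X.presheaf.stalk (f.fiberι y t)) := by
  obtain ⟨hsurj, hker⟩ := Groth.Agent.S9501.result f y t
  set π := ((f.fiberι y).stalkMap t).hom with hπ
  haveI : IsNoetherianRing ((f.fiber y).presheaf.stalk t) :=
    isNoetherianRing_of_surjective _ _ π hsurj
  obtain ⟨𝔮, h𝔮min, h𝔮dim⟩ :=
    Groth.Agent.Lib.Helper21.EquidimAt.exists_minimalPrimes_ringKrullDim_quotient_eq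
      ((f.fiber y).presheaf.stalk t)
  haveI h𝔮p : 𝔮.IsPrime := h𝔮min.1.1
  let Q : Spec ((f.fiber y).presheaf.stalk t) := ⟨𝔮, h𝔮p⟩
  set z := (f.fiber y).fromSpecStalk t Q with hz
  have hzt : z ⤳ t := by
    have : z ∈ Set.range ((f.fiber y).fromSpecStalk t) := ⟨Q, rfl⟩
    rw [Scheme.range_fromSpecStalk] at this
    exact this
  have hzmax : ∀ z' : f.fiber y, z ∈ closure {z'} → z' = z := by
    intro z' hz'
    exact Groth.Agent.Lib.Helper21.EquidimAt.eq_of_specializes_fromSpecStalk_of_minimal t 𝔮 h𝔮min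
      z' (specializes_iff_mem_closure.mpr hz')
  have hopen := h z (specializes_iff_mem_closure.mp hzt) hzmax
  -- the prime of `O_{X,ι t}` of `ι z`
  let P : Spec (X.presheaf.stalk (f.fiberι y t)) := Spec.map ((f.fiberι y).stalkMap t) Q
  have hP : X.fromSpecStalk (f.fiberι y t) P = f.fiberι y z := map_fromSpecStalk (f.fiberι y) t Q
  have hPideal : P.asIdeal = 𝔮.comap π := rfl
  -- dimension of `O_{X, ι z}`
  have h1 : ringKrullDim (X.presheaf.stalk (f.fiberι y z)) = P.asIdeal.height := by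
    rw [← ringKrullDim_stalk_fromSpecStalk (f.fiberι y t) P]
    exact ringKrullDim_stalk_congr hP.symm
  have hfz : f (f.fiberι y z) = y := (f.fiberHomeo y z).2
  have h2 : ringKrullDim (Y.presheaf.stalk y) ≤ ringKrullDim (X.presheaf.stalk (f.fiberι y z)) := by
    rw [← ringKrullDim_stalk_congr hfz]
    exact ringKrullDim_stalk_le_of_isOpenAt f _ hopen
  -- the quotient
  have h3 : ringKrullDim (X.presheaf.stalk (f.fiberι y t) ⧸ P.asIdeal) =
      ringKrullDim ((f.fiber y).presheaf.stalk t) := by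
    rw [← h𝔮dim, hPideal]
    refine ringKrullDim_eq_of_ringEquiv (RingEquiv.ofBijective
      (Ideal.quotientMap 𝔮 π le_rfl) ⟨Ideal.quotientMap_injective, ?_⟩)
    exact Ideal.quotientMap_surjective hsurj
  have h4 := height_add_ringKrullDim_quotient_le P.asIdeal
  rw [h3, ← h1] at h4
  exact (add_le_add_left h2 _).trans h4

end Groth.Agent.Lib.Helper21.OpenAt
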