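import Groth.Agent.Lib.Helper21.OpenAt19

/-!
# The connected components of the fibres through a section (EGA IV 15.6.1-type statements)
-/

set_option autoImplicit false
set_option linter.style.haveILetI false
set_option linter.unusedSectionVars false
universe u

open AlgebraicGeometry CategoryTheory Limits TopologicalSpace IsLocalRing

namespace Groth.Agent.Lib.Helper21.OpenAt

open Groth.Agent.Lib.Helper21.FibDim Groth.Agent.Lib.Helper21.EquiSub
  Groth.Agent.Lib.Helper21.FourCond

variable {X Y : Scheme.{u}}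

/-- monotonicity of the dimension of subspaces -/
theorem topologicalKrullDim_mono_subset {T : Type*} [TopologicalSpace T] {A B : Set T}
    (h : A ⊆ B) : topologicalKrullDim ↥A ≤ topologicalKrullDim ↥B :=
  (Topology.IsEmbedding.inclusion h).isInducing.topologicalKrullDim_le

/-- the trace of the closure of a point on its fibre is irreducible -/
theorem isIrreducible_closure_inter_fiber (f : X ⟶ Y) (τ : X) :
    IsIrreducible (closure ({τ} : Set X) ∩ f.base ⁻¹' {f τ}) := by
  let τF : ↥(f.base ⁻¹' {f τ}) := ⟨τ, rfl⟩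
  have h1 : IsIrreducible (Subtype.val '' closure ({τF} : Set ↥(f.base ⁻¹' {f τ}))) :=
    isIrreducible_singleton.closure.image _ continuous_subtype_val.continuousOn
  rw [Topology.IsInducing.subtypeVal.closure_eq_preimage_closure_image,
    Subtype.image_preimage_coe, Set.image_singleton, Set.inter_comm] at h1
  exact h1

/-- the trace of the closure of a generisation of `x` in the fibre lies in the connected
component of `x` in the fibre -/
theorem closure_inter_fiber_subset_connectedComponentIn (f : X ⟶ Y) (τ x : X) (hτx : τ ⤳ x)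
    (hf : f τ = f x) :
    closure ({τ} : Set X) ∩ f.base ⁻¹' {f x} ⊆ connectedComponentIn (f.base ⁻¹' {f x}) x := by
  have h1 := isIrreducible_closure_inter_fiber f τ
  rw [hf] at h1
  exact (IsIrreducible.isConnected h1).isPreconnected.subset_connectedComponentIn
    ⟨specializes_iff_mem_closure.mp hτx, rfl⟩ Set.inter_subset_right

/-- the local fibre dimension at `x` is at most the dimension of the connected component of the
fibre through `x` -/
theorem fibreDimAt_le_topologicalKrullDim_connectedComponentIn (f : X ⟶ Y)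
    [LocallyOfFiniteType f] (x : X) :
    FlatMor.fibreDimAt f x ≤
      topologicalKrullDim ↥(connectedComponentIn (f.base ⁻¹' {f x}) x) := by
  obtain ⟨ζ, N, hζx, hfζ, -, hζN, hFN⟩ := exists_maximal_generization_fibreDimAt f x
  rw [hFN, ← topologicalKrullDim_closure_inter_fiber f ζ N hζN, hfζ]
  exact topologicalKrullDim_mono_subset
    (closure_inter_fiber_subset_connectedComponentIn f ζ x hζx hfζ)

/-- **EGA IV 15.6.1-type (i)** -/
theorem dim_sectionComponent_ge (f : X ⟶ Y) [LocallyOfFiniteType f] (g : Y ⟶ X)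
    (hg : g ≫ f = 𝟙 Y) (y y' : Y) (hy : y' ⤳ y)
    (Z : Set X) (hZy : Z ⊆ f.base ⁻¹' {y'}) (hZ : IsIrreducible Z)
    (hZmax : ∀ Z' : Set X, IsIrreducible Z' → Z' ⊆ f.base ⁻¹' {y'} → Z ⊆ Z' → Z' = Z)
    (hgZ : g.base y' ∈ Z) :
    topologicalKrullDim ↥Z ≤
      topologicalKrullDim ↥(connectedComponentIn (f.base ⁻¹' {y}) (g.base y)) := by
  have hfg : ∀ t : Y, f (g t) = t := fun t => by
    have := congrArg (fun φ : Y ⟶ Y => φ t) hg
    simpa using this
  obtain ⟨ζ', hζ'Z, hZeq⟩ := exists_generic_of_fibre_component f y' Z hZy hZ hZmax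
  have hfζ' : f ζ' = y' := hZy hζ'Z
  obtain ⟨n, hn⟩ := exists_nat_trdeg_residueFieldMap f ζ'
  have hdimZ : topologicalKrullDim ↥Z = n := by
    have h1 := topologicalKrullDim_closure_inter_fiber f ζ' n hn
    rw [hfζ', ← hZeq] at h1
    exact h1
  have h1 : ζ' ⤳ g y' := by
    rw [hZeq] at hgZ
    exact specializes_iff_mem_closure.mpr hgZ.1
  have h2 : g y' ⤳ g y := hy.map g.continuous
  have h3 := le_fibreDimAt_of_specializes f (h1.trans h2) n hn
  rw [hdimZ]
  have h4 := fibreDimAt_le_topologicalKrullDim_connectedComponentIn f (g y)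
  rw [hfg y] at h4
  exact h3.trans h4

/-- **EGA IV 15.6.1-type (ii)** -/
theorem sectionComponent_subset_closure (f : X ⟶ Y) [LocallyOfFiniteType f] (g : Y ⟶ X)
    (hg : g ≫ f = 𝟙 Y) (y y' : Y) (hy : y' ⤳ y)
    (Z : Set X) (hZy : Z ⊆ f.base ⁻¹' {y'}) (hZ : IsIrreducible Z)
    (hZmax : ∀ Z' : Set X, IsIrreducible Z' → Z' ⊆ f.base ⁻¹' {y'} → Z ⊆ Z' → Z' = Z)
    (hgZ : g.base y' ∈ Z)
    (hirr : IsIrreducible (connectedComponentIn (f.base ⁻¹' {y}) (g.base y)))
    (hdim : topologicalKrullDim ↥(connectedComponentIn (f.base ⁻¹' {y}) (g.base y)) =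
      topologicalKrullDim ↥Z) :
    connectedComponentIn (f.base ⁻¹' {y}) (g.base y) ⊆ closure Z := by
  have hfg : ∀ t : Y, f (g t) = t := fun t => by
    have := congrArg (fun φ : Y ⟶ Y => φ t) hg
    simpa using this
  set C := connectedComponentIn (f.base ⁻¹' {y}) (g.base y) with hC
  have hgyF : g.base y ∈ f.base ⁻¹' {y} := hfg y
  have hCF : C ⊆ f.base ⁻¹' {y} := connectedComponentIn_subset _ _
  -- the generic point of `Z`
  obtain ⟨ζ', hζ'Z, hZeq⟩ := exists_generic_of_fibre_component f y' Z hZy hZ hZmax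
  have hfζ' : f ζ' = y' := hZy hζ'Z
  obtain ⟨n, hn⟩ := exists_nat_trdeg_residueFieldMap f ζ'
  have hdimZ : topologicalKrullDim ↥Z = n := by
    have h1 := topologicalKrullDim_closure_inter_fiber f ζ' n hn
    rw [hfζ', ← hZeq] at h1
    exact h1
  have h1 : ζ' ⤳ g y' := by
    rw [hZeq] at hgZ
    exact specializes_iff_mem_closure.mpr hgZ.1
  have h2 : g y' ⤳ g y := hy.map g.continuous
  have hζ'gy : ζ' ⤳ g y := h1.trans h2
  -- the generic point of `C`
  have hCmax : ∀ Z' : Set X, IsIrreducible Z' → Z' ⊆ f.base ⁻¹' {y} → C ⊆ Z' → Z' = C := by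
    intro Z' hZ' hZ'F hCZ'
    refine Set.Subset.antisymm ?_ hCZ'
    exact (IsIrreducible.isConnected hZ').isPreconnected.subset_connectedComponentIn
      (hCZ' (mem_connectedComponentIn hgyF)) hZ'F
  obtain ⟨τC, hτCC, hCeq⟩ := exists_generic_of_fibre_component f y C hCF hirr hCmax
  have hfτC : f τC = y := hCF hτCC
  obtain ⟨m, hm⟩ := exists_nat_trdeg_residueFieldMap f τC
  have hdimC : topologicalKrullDim ↥C = m := by
    have h1 := topologicalKrullDim_closure_inter_fiber f τC m hm
    rw [hfτC, ← hCeq] at h1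
    exact h1
  have hmn : m = n := by
    rw [hdimC, hdimZ] at hdim
    exact_mod_cast hdim
  -- the closure of `ζ'` with its reduced structure
  let X' : TopologicalSpace.Closeds X := ⟨closure {ζ'}, isClosed_closure⟩
  let I := Scheme.IdealSheafData.vanishingIdeal X'
  let ι := I.subschemeι
  have hr : Set.range ι.base = closure ({ζ'} : Set X) := by
    rw [Scheme.IdealSheafData.range_subschemeι, Scheme.IdealSheafData.coe_support_vanishingIdeal]
    rfl
  obtain ⟨t₀, ht₀⟩ : g y ∈ Set.range ι.base := by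
    rw [hr]
    exact specializes_iff_mem_closure.mp hζ'gy
  obtain ⟨t', ht'⟩ : ζ' ∈ Set.range ι.base := by rw [hr]; exact subset_closure rfl
  have ht't₀ : t' ⤳ t₀ := by
    rw [← ι.isEmbedding.isInducing.specializes_iff, ht', ht₀]
    exact hζ'gy
  have hn' : @Algebra.trdeg (Y.residueField ((ι ≫ f) t')) (I.subscheme.residueField t') _ _
      ((ι ≫ f).residueFieldMap t').hom.toAlgebra = n :=
    Groth.Agent.Lib.Helper21.IrrFib.trdeg_comp_of_surjectiveOnStalks ι f t' n
      (trdeg_eq_of_eq f ht'.symm n hn)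
  have hChev := le_fibreDimAt_of_specializes (ι ≫ f) ht't₀ n hn'
  obtain ⟨τ, N, hτt₀, hfτ, -, hτN, hFN⟩ := exists_maximal_generization_fibreDimAt (ι ≫ f) t₀
  rw [hFN] at hChev
  have hnN : n ≤ N := by exact_mod_cast hChev
  have hτN' := trdeg_of_comp_of_surjectiveOnStalks ι f τ N hτN
  have hιτgy : ι τ ⤳ g y := by
    rw [← ht₀]
    exact hτt₀.map ι.continuous
  have hfιτ : f (ι τ) = f (g y) := by
    have : (ι ≫ f) τ = (ι ≫ f) t₀ := hfτ
    simp only [Scheme.Hom.comp_apply] at this
    rw [this, ht₀]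
  -- `ι τ` lies in `C`
  have hιτC : ι τ ∈ C := by
    have h5 := closure_inter_fiber_subset_connectedComponentIn f (ι τ) (g y) hιτgy hfιτ
    rw [hfg y] at h5
    exact h5 ⟨subset_closure rfl, by rw [← hfg y]; exact hfιτ⟩
  have hτCιτ : τC ⤳ ι τ := by
    rw [hCeq] at hιτC
    exact specializes_iff_mem_closure.mpr hιτC.1
  have heq : τC = ι τ := by
    by_contra hne
    have hlt := trdeg_lt_of_specializes_of_ne f hτCιτ hne
      (hfτC.trans ((hfg y).symm.trans hfιτ.symm))
    rw [hτN', hm] at hlt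
    have : N < m := by exact_mod_cast hlt
    omega
  have hτCcl : τC ∈ closure ({ζ'} : Set X) := by
    rw [heq, ← hr]
    exact ⟨τ, rfl⟩
  intro c hc
  rw [hCeq] at hc
  have h6 : c ∈ closure ({ζ'} : Set X) :=
    closure_minimal (Set.singleton_subset_iff.mpr hτCcl) isClosed_closure hc.1
  exact closure_mono (Set.singleton_subset_iff.mpr hζ'Z) h6

end Groth.Agent.Lib.Helper21.OpenAt
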