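import Groth.Agent.Lib.Helper21.OpenAt5

/-!
# Morphisms open at the generic point of a component of a fibre (EGA IV 14.2.4), main statement
-/

set_option autoImplicit false
set_option linter.style.haveILetI false
set_option linter.unusedSectionVars false
universe u

open AlgebraicGeometry CategoryTheory Limits TopologicalSpace IsLocalRing

namespace Groth.Agent.Lib.Helper21.OpenAt

open Groth.Agent.Lib.Helper21.FibDim Groth.Agent.Lib.Helper21.EquiSub
  Groth.Agent.Lib.Helper21.FourCond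

variable {X Y : Scheme.{u}}

/-- the fibre data of the closure of a maximal point `ξ` at a specialisation `ζ` maximal in its
fibre with the same residue transcendence degree -/
theorem closure_maximal_fibre_facts (f : X ⟶ Y) [LocallyOfFiniteType f] (ξ ζ : X) (hξζ : ξ ⤳ ζ)
    (hζmax : ∀ τ : X, τ ⤳ ζ → f τ = f ζ → τ = ζ) (n : ℕ)
    (hn : @Algebra.trdeg (Y.residueField (f ζ)) (X.residueField ζ) _ _
      (f.residueFieldMap ζ).hom.toAlgebra = n)
    (hE : @Algebra.trdeg (Y.residueField (f ξ)) (X.residueField ξ) _ _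
      (f.residueFieldMap ξ).hom.toAlgebra = n)
    (hζ : ζ ∈ closure ({ξ} : Set X) ∩ f.base ⁻¹' {f ζ}) :
    FlatMor.localDim ↥(closure ({ξ} : Set X) ∩ f.base ⁻¹' {f ζ}) ⟨ζ, hζ⟩ = n ∧
      topologicalKrullDim ↥(closure ({ξ} : Set X) ∩ f.base ⁻¹' {f ξ}) = n := by
  let X' : TopologicalSpace.Closeds X := ⟨closure {ξ}, isClosed_closure⟩
  let I := Scheme.IdealSheafData.vanishingIdeal X'
  let ι := I.subschemeι
  have hr : Set.range ι.base = closure ({ξ} : Set X) := by
    rw [Scheme.IdealSheafData.range_subschemeι, Scheme.IdealSheafData.coe_support_vanishingIdeal]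
    rfl
  have hemb : Topology.IsEmbedding ι.base := ι.isEmbedding
  obtain ⟨w, hw⟩ : ζ ∈ Set.range ι.base := by rw [hr]; exact hζ.1
  obtain ⟨ξ', hξ'⟩ : ξ ∈ Set.range ι.base := by rw [hr]; exact subset_closure rfl
  constructor
  · have hbridge := localDim_inter_preimage_eq_fibreDimAt' ι hemb f (closure ({ξ} : Set X)) hr
      w ζ hw hζ.1
    rw [hbridge]
    obtain ⟨N, hN, ⟨τ, hτw, hfτ, hτN⟩, -⟩ := exists_fibreDimAt_eq_trdeg (ι ≫ f) w
    have h1 : ι τ ⤳ ζ := by
      rw [← hw]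
      exact hτw.map ι.continuous
    have h2 : f (ι τ) = f ζ := by
      rw [← hw]
      exact hfτ
    have h3 : τ = w := hemb.injective ((hζmax _ h1 h2).trans hw.symm)
    rw [h3] at hτN
    have h4 := trdeg_of_comp_of_surjectiveOnStalks ι f w N hτN
    rw [trdeg_eq_of_eq f hw.symm n hn] at h4
    have : n = N := by exact_mod_cast h4
    rw [hN, this]
  · have hgen : ∀ u : I.subscheme, ξ' ⤳ u := by
      intro u
      rw [← hemb.isInducing.specializes_iff, specializes_iff_mem_closure, hξ', ← hr]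
      exact ⟨u, rfl⟩
    have hE' : @Algebra.trdeg (Y.residueField ((ι ≫ f) ξ')) (I.subscheme.residueField ξ') _ _
        ((ι ≫ f).residueFieldMap ξ').hom.toAlgebra = n :=
      Groth.Agent.Lib.Helper21.IrrFib.trdeg_comp_of_surjectiveOnStalks ι f ξ' n
        (trdeg_eq_of_eq f hξ'.symm n hE)
    have h1 := Groth.Agent.Lib.Helper21.IrrFib.topologicalKrullDim_preimage_singleton_eq (ι ≫ f)
      ξ' n (fun u _ => hgen u) hE'
    have h2 : (ι ≫ f) ξ' = f ξ := congrArg (fun t => f t) hξ'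
    rw [h2] at h1
    rw [topologicalKrullDim_inter_preimage_eq ι hemb f (closure ({ξ} : Set X)) hr (f ξ)]
    exact h1

/-- **EGA IV 14.2.4** -/
theorem exists_component_of_isOpenAt_generic [IrreducibleSpace Y] [IsLocallyNoetherian Y]
    (f : X ⟶ Y) [LocallyOfFiniteType f] (y : Y) (Z : Set X)
    (hZy : Z ⊆ f.base ⁻¹' {y}) (hZ : IsIrreducible Z)
    (hZmax : ∀ Z' : Set X, IsIrreducible Z' → Z' ⊆ f.base ⁻¹' {y} → Z ⊆ Z' → Z' = Z)
    (hopen : ∀ ζ ∈ Z, Z ⊆ closure {ζ} → EGA43.IsOpenAt f.base ζ) :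
    ∃ X' ∈ irreducibleComponents (X : Type u), Z ⊆ X' ∧ Dense (f.base '' X') ∧
      (∀ ζ ∈ Z, Z ⊆ closure {ζ} → ∀ hζ : ζ ∈ X' ∩ f.base ⁻¹' {y},
        FlatMor.localDim ↥(X' ∩ f.base ⁻¹' {y}) ⟨ζ, hζ⟩ = topologicalKrullDim ↥Z) ∧
      topologicalKrullDim ↥Z = topologicalKrullDim ↥(X' ∩ f.base ⁻¹' {genericPoint Y}) := by
  obtain ⟨ζ, hζZ, hZeq⟩ := exists_generic_of_fibre_component f y Z hZy hZ hZmax
  have hfζ : f ζ = y := hZy hζZ
  subst hfζ
  have hZcl : Z ⊆ closure {ζ} := by
    rw [hZeq]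
    exact Set.inter_subset_left
  have hop := hopen ζ hζZ hZcl
  have hζmax : ∀ τ : X, τ ⤳ ζ → f τ = f ζ → τ = ζ := by
    intro τ hτ hfτ
    have hirr : IsIrreducible (closure ({τ} : Set X) ∩ f.base ⁻¹' {f ζ}) := by
      let τF : ↥(f.base ⁻¹' {f ζ}) := ⟨τ, hfτ⟩
      have h1 : IsIrreducible (Subtype.val '' closure ({τF} : Set ↥(f.base ⁻¹' {f ζ}))) :=
        isIrreducible_singleton.closure.image _ continuous_subtype_val.continuousOn
      rw [Topology.IsInducing.subtypeVal.closure_eq_preimage_closure_image,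
        Subtype.image_preimage_coe, Set.image_singleton, Set.inter_comm] at h1
      exact h1
    have hsub : Z ⊆ closure ({τ} : Set X) ∩ f.base ⁻¹' {f ζ} := by
      intro z hz
      refine ⟨?_, hZy hz⟩
      exact closure_minimal (Set.singleton_subset_iff.mpr (specializes_iff_mem_closure.mp hτ))
        isClosed_closure (hZcl hz)
    have h2 := hZmax _ hirr Set.inter_subset_right hsub
    have h3 : τ ∈ Z := by
      rw [← h2]
      exact ⟨subset_closure rfl, hfτ⟩
    exact (hτ.antisymm (specializes_iff_mem_closure.mpr (hZcl h3))).eq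
  obtain ⟨n, hn⟩ := exists_nat_trdeg_residueFieldMap f ζ
  have hdimZ : topologicalKrullDim ↥Z = n := by
    have h1 := topologicalKrullDim_closure_inter_fiber f ζ n hn
    rw [← hZeq] at h1
    exact h1
  obtain ⟨ξ, hξζ, hξmax, hfξmax, hE⟩ := exists_maximal_of_isOpenAt_maximal f ζ hζmax hop n hn
  have hfξ : f ξ = genericPoint Y := (hfξmax _ (genericPoint_specializes (f ξ))).symm
  have hζX' : ζ ∈ closure ({ξ} : Set X) := specializes_iff_mem_closure.mp hξζ
  obtain ⟨hL, hD⟩ := closure_maximal_fibre_facts f ξ ζ hξζ hζmax n hn hE ⟨hζX', rfl⟩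
  refine ⟨closure {ξ},
    Groth.Agent.Lib.Helper21.FibDim.closure_mem_irreducibleComponents_of_maximal ξ hξmax, ?_, ?_,
    ?_, ?_⟩
  · exact hZcl.trans (closure_minimal (Set.singleton_subset_iff.mpr hζX') isClosed_closure)
  · rw [dense_iff_closure_eq, ← Set.univ_subset_iff, ← genericPoint_closure (α := Y)]
    apply closure_minimal _ isClosed_closure
    rw [Set.singleton_subset_iff]
    apply subset_closure
    exact ⟨ξ, subset_closure rfl, hfξ⟩
  · intro ζ' hζ'Z hZζ' hζ'
    have h1 : ζ' = ζ :=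
      ((specializes_iff_mem_closure.mpr (hZζ' hζZ)).antisymm
        (specializes_iff_mem_closure.mpr (hZcl hζ'Z))).eq
    subst h1
    rw [hdimZ]
    exact hL
  · rw [hdimZ, ← hfξ]
    exact hD.symm

end Groth.Agent.Lib.Helper21.OpenAt
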