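import Groth.Agent.Lib.Helper21.OpenAt6

/-!
# Morphisms open along a fibre: the dimensions of the components of the fibre occur in the generic
fibre (EGA IV 14.2.5)
-/

set_option autoImplicit false
set_option linter.style.haveILetI false
set_option linter.unusedSectionVars false
universe u

open AlgebraicGeometry CategoryTheory Limits TopologicalSpace IsLocalRing

namespace Groth.Agent.Lib.Helper21.OpenAt

open Groth.Agent.Lib.Helper21.FibDim Groth.Agent.Lib.Helper21.EquiSub
  Groth.Agent.Lib.Helper21.FourCond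

variable {X Y : Scheme.{u}}

/-- the dimension of the closure of a point of a fibre -/
theorem topologicalKrullDim_closure_fiber (f : X ⟶ Y) [LocallyOfFiniteType f] (s : Y)
    (t : f.fiber s) (n : ℕ)
    (hn : @Algebra.trdeg (Y.residueField (f (f.fiberι s t))) (X.residueField (f.fiberι s t)) _ _
      (f.residueFieldMap (f.fiberι s t)).hom.toAlgebra = n) :
    topologicalKrullDim ↥(closure ({t} : Set (f.fiber s))) = n := by
  letI := fiberOver f s
  haveI : LocallyOfFiniteType (f.fiber s ↘ Spec (CommRingCat.of (Y.residueField s))) :=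
    MorphismProperty.pullback_snd (P := @LocallyOfFiniteType) _ _ inferInstance
  have h1 := trdeg_fiber_eq f s t
  rw [hn] at h1
  exact topologicalKrullDim_closure_singleton (Y.residueField s) (f.fiber s) t n h1

/-- **EGA IV 14.2.5** -/
theorem fibre_dims_subset_generic [IrreducibleSpace Y] [IsLocallyNoetherian Y] (f : X ⟶ Y)
    [LocallyOfFiniteType f] (y : Y) (h : ∀ x : X, f.base x = y → EGA43.IsOpenAt f.base x) :
    ((fun Z : Set ↥(f.fiber y) => topologicalKrullDim ↥Z) '' irreducibleComponents ↥(f.fiber y) ⊆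
      (fun Z : Set ↥(f.fiber (genericPoint Y)) => topologicalKrullDim ↥Z) ''
        irreducibleComponents ↥(f.fiber (genericPoint Y))) ∧
      topologicalKrullDim ↥(f.fiber y) ≤ topologicalKrullDim ↥(f.fiber (genericPoint Y)) := by
  have key : (fun Z : Set ↥(f.fiber y) => topologicalKrullDim ↥Z) ''
      irreducibleComponents ↥(f.fiber y) ⊆
      (fun Z : Set ↥(f.fiber (genericPoint Y)) => topologicalKrullDim ↥Z) ''
        irreducibleComponents ↥(f.fiber (genericPoint Y)) := by
    rintro _ ⟨Z, hZ, rfl⟩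
    obtain ⟨ζ', hζ'⟩ := QuasiSober.sober hZ.1 (isClosed_of_mem_irreducibleComponents Z hZ)
    have hcl : closure ({ζ'} : Set (f.fiber y)) = Z := hζ'.def
    subst hcl
    set ζ := f.fiberι y ζ' with hζ
    have hfζ : f ζ = y := (f.fiberHomeo y ζ').2
    have hζmax : ∀ τ : X, τ ⤳ ζ → f τ = f ζ → τ = ζ := by
      intro τ hτ hfτ
      obtain ⟨τ', rfl⟩ : τ ∈ Set.range (f.fiberι y) := by
        rw [Scheme.Hom.range_fiberι]
        exact hfτ.trans hfζ
      have h1 : τ' ⤳ ζ' := (f.fiberι y).isEmbedding.isInducing.specializes_iff.mp hτ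
      rw [eq_of_specializes_of_closure_mem ζ' hZ τ' h1]
    obtain ⟨n, hn⟩ := exists_nat_trdeg_residueFieldMap f ζ
    obtain ⟨ξ, hξζ, hξmax, hfξmax, hE⟩ :=
      exists_maximal_of_isOpenAt_maximal f ζ hζmax (h ζ hfζ) n hn
    have hfξ : f ξ = genericPoint Y := (hfξmax _ (genericPoint_specializes (f ξ))).symm
    obtain ⟨ξ', hξ'⟩ : ξ ∈ Set.range (f.fiberι (genericPoint Y)) := by
      rw [Scheme.Hom.range_fiberι]
      exact hfξ
    have hξ'max : ∀ t : f.fiber (genericPoint Y), t ⤳ ξ' → t = ξ' := by
      intro t ht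
      have h1 : f.fiberι (genericPoint Y) t ⤳ ξ := by
        rw [← hξ']
        exact ht.map (f.fiberι (genericPoint Y)).continuous
      have h2 := hξmax _ h1
      exact (f.fiberι (genericPoint Y)).isEmbedding.injective (h2.trans hξ'.symm)
    refine ⟨closure {ξ'},
      Groth.Agent.Lib.Helper21.FibDim.closure_mem_irreducibleComponents_of_maximal ξ' hξ'max, ?_⟩
    change topologicalKrullDim ↥(closure ({ξ'} : Set (f.fiber (genericPoint Y)))) =
      topologicalKrullDim ↥(closure ({ζ'} : Set (f.fiber y)))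
    rw [topologicalKrullDim_closure_fiber f (genericPoint Y) ξ' n (trdeg_eq_of_eq f hξ'.symm n hE),
      topologicalKrullDim_closure_fiber f y ζ' n hn]
  refine ⟨key, ?_⟩
  apply Groth.Agent.Lib.Helper21.EquiDim.topologicalKrullDim_le_of_components
  intro Z hZ
  obtain ⟨Z', -, hZ'⟩ := key ⟨Z, hZ, rfl⟩
  have h1 : topologicalKrullDim ↥Z' = topologicalKrullDim ↥Z := hZ'
  rw [← h1]
  exact topologicalKrullDim_subspace_le _ Z'

end Groth.Agent.Lib.Helper21.OpenAt
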