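import Groth.Agent.Lib.Helper21.OpenNbhd2
import Groth.Agent.Lib.Helper21.NagFin7
import Mathlib.AlgebraicGeometry.Morphisms.Separated

set_option autoImplicit false
set_option linter.style.haveILetI false
set_option linter.unusedSectionVars false
universe u
open AlgebraicGeometry CategoryTheory Limits TopologicalSpace

namespace Groth.Agent.Lib.Helper21.OpenImm

variable {X Y : Scheme.{u}} (f : X ⟶ Y)

/-- If `f` restricted to the open `U` is an open immersion, `f` is injective on `U`. -/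
theorem eq_of_mem_of_apply_eq (U : X.Opens) [hU : IsOpenImmersion (U.ι ≫ f)]
    {a b : X} (ha : a ∈ U) (hb : b ∈ U) (hab : f a = f b) : a = b := by
  have hinj := (U.ι ≫ f).isOpenEmbedding.injective
  have : (⟨a, ha⟩ : U) = ⟨b, hb⟩ := hinj (by
    simpa using hab)
  exact congrArg Subtype.val this

/-- If `f` restricted to the open `U` is an open immersion, specialisation between images of
points of `U` is reflected. -/
theorem specializes_of_apply_specializes (U : X.Opens) [hU : IsOpenImmersion (U.ι ≫ f)]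
    {a b : X} (ha : a ∈ U) (hb : b ∈ U) (hab : f a ⤳ f b) : a ⤳ b := by
  have hind := (U.ι ≫ f).isOpenEmbedding.isInducing
  have h1 : (show ↥(U : Scheme) from ⟨a, ha⟩) ⤳ (show ↥(U : Scheme) from ⟨b, hb⟩) := by
    rw [← hind.specializes_iff]
    simpa using hab
  exact h1.map U.ι.continuous

/-- The image of `U` under `f` when `f` restricted to `U` is an open immersion. -/
theorem isOpen_image (U : X.Opens) [hU : IsOpenImmersion (U.ι ≫ f)] :
    IsOpen (f '' (U : Set X)) := by
  have := (U.ι ≫ f).isOpenEmbedding.isOpen_range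
  convert this using 1
  ext y
  constructor
  · rintro ⟨a, ha, rfl⟩
    exact ⟨⟨a, ha⟩, by simp⟩
  · rintro ⟨a, rfl⟩
    exact ⟨a.1, a.2, by simp⟩

/-- **Key closedness**: if `f` is separated and `f` restricted to the open `U` is an open
immersion, then `U` is closed in `f ⁻¹ (f U)` (stated with specialisations). -/
theorem mem_of_specializes [IsSeparated f] (U : X.Opens) [hU : IsOpenImmersion (U.ι ≫ f)]
    {w z : X} (hw : w ∈ U) (hwz : w ⤳ z) (hz : f z ∈ f '' (U : Set X)) : z ∈ U := by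
  let V : Y.Opens := (U.ι ≫ f).opensRange
  have hUV : U ≤ f ⁻¹ᵁ V := by
    intro a ha
    exact ⟨⟨a, ha⟩, by simp⟩
  let j : (U : Scheme) ⟶ (f ⁻¹ᵁ V : Scheme) := X.homOfLE hUV
  have hcomp : (j ≫ (f ∣_ V)) ≫ V.ι = U.ι ≫ f := by
    simp [j]
  have hiso : j ≫ (f ∣_ V) = (U.ι ≫ f).isoOpensRange.hom := by
    rw [← cancel_mono V.ι, hcomp]
    simp [V]
  haveI : IsIso (j ≫ (f ∣_ V)) := by rw [hiso]; infer_instance
  haveI : IsClosedImmersion (j ≫ (f ∣_ V)) := inferInstance
  haveI : IsClosedImmersion j := IsClosedImmersion.of_comp j (f ∣_ V)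
  have hclosed : IsClosed (Set.range j) := j.isClosedEmbedding.isClosed_range
  have hzV : z ∈ f ⁻¹ᵁ V := by
    obtain ⟨a, ha, haz⟩ := hz
    exact ⟨⟨a, ha⟩, by simpa using haz⟩
  have hspec : (⟨w, hUV hw⟩ : f ⁻¹ᵁ V) ⤳ ⟨z, hzV⟩ := by
    rw [subtype_specializes_iff]
    exact hwz
  have hwr : (⟨w, hUV hw⟩ : f ⁻¹ᵁ V) ∈ Set.range j := by
    refine ⟨⟨w, hw⟩, ?_⟩
    apply Subtype.ext
    simp [j]
  obtain ⟨u, hu⟩ := hspec.mem_closed hclosed hwr
  have : (j u).1 = z := by rw [hu]
  have h2 : (j u).1 = u.1 := by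
    simp [j]
  rw [← this, h2]
  exact u.2

end Groth.Agent.Lib.Helper21.OpenImm
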