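import Mathlib
import Groth.Agent.Lib.Helper6.NormalTotalFrac

set_option autoImplicit false
set_option linter.style.haveILetI false
set_option linter.unusedSectionVars false
universe u

namespace Groth.Agent.Lib.Helper21.OpenNbhd

open Groth.Agent.Lib.Helper6.NormalTotalFrac

section R1

variable {A : Type*} [CommRing A]

/-- In a reduced ring with finitely many minimal primes, for every prime `p` there is `g ∉ p`
killing the kernel of `A → A_p`. -/
theorem exists_notMem_forall_mul_eq_zero [IsReduced A] (hfin : (minimalPrimes A).Finite)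
    (p : Ideal A) [p.IsPrime] :
    ∃ g : A, g ∉ p ∧ ∀ x s' : A, s' ∉ p → s' * x = 0 → g * x = 0 := by
  classical
  have hchoose : ∀ P ∈ minimalPrimes A, ¬ P ≤ p → ∃ s ∈ P, s ∉ p := by
    intro P _ hne
    exact Set.not_subset.mp hne
  choose! s hs1 hs2 using hchoose
  refine ⟨∏ P ∈ hfin.toFinset.filter (fun P => ¬ P ≤ p), s P, ?_, ?_⟩
  · intro hmem
    obtain ⟨P, hP, hPq⟩ := (Ideal.IsPrime.prod_mem_iff).mp hmem
    rw [Finset.mem_filter, Set.Finite.mem_toFinset] at hP
    exact hs2 P hP.1 hP.2 hPq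
  · intro x s' hs' hx
    apply eq_zero_of_forall_mem_minimalPrimes
    intro P hP
    haveI : P.IsPrime := hP.1.1
    by_cases hPp : P ≤ p
    · have hs'P : s' ∉ P := fun h => hs' (hPp h)
      have : s' * x ∈ P := by rw [hx]; exact P.zero_mem
      exact Ideal.mul_mem_left _ _ ((Ideal.IsPrime.mem_or_mem inferInstance this).resolve_left hs'P)
    · refine Ideal.mul_mem_right _ _ (Ideal.prod_mem P (i := P) ?_ (hs1 P hP hPp))
      rw [Finset.mem_filter, Set.Finite.mem_toFinset]
      exact ⟨hP, hPp⟩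

end R1

section Main

variable {A B : Type*} [CommRing A] [CommRing B] [Algebra A B]
  (p : Ideal A) [p.IsPrime] (q : Ideal B) [q.IsPrime]
  (Ap Bq : Type*) [CommRing Ap] [CommRing Bq] [Algebra A Ap] [Algebra B Bq]
  [IsLocalization.AtPrime Ap p] [IsLocalization.AtPrime Bq q]

/-- C1: after inverting `a₀` and killing by `h'`, every element of `B` comes from `A`. -/
theorem exists_common [Algebra.FiniteType A B]
    (θ : Ap →+* Bq) (hθ : Function.Surjective θ)
    (hcomp : ∀ a, θ (algebraMap A Ap a) = algebraMap B Bq (algebraMap A B a)) (g : A) (hg : g ∉ p) :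
    ∃ a₀ : A, a₀ ∉ p ∧ (∃ s, a₀ = s * g) ∧ ∃ h' : B, h' ∉ q ∧ ∀ b : B, ∃ (k : ℕ) (α : A),
      h' * (algebraMap A B a₀ ^ k * b - algebraMap A B α) = 0 := by
  classical
  obtain ⟨T, hT⟩ := (Algebra.FiniteType.out : (⊤ : Subalgebra A B).FG)
  -- preimages under θ
  choose pre hpre using fun t : B => hθ (algebraMap B Bq t)
  obtain ⟨⟨s, hs⟩, hsint⟩ := IsLocalization.exist_integer_multiples p.primeCompl T pre
  -- for each `t ∈ T` an element killing `ι s * t - ι a'_t`
  have hkill : ∀ t ∈ T, ∃ (a' : A) (ht : B), ht ∉ q ∧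
      ht * (algebraMap A B s * t - algebraMap A B a') = 0 := by
    intro t htT
    obtain ⟨a', ha'⟩ := hsint t htT
    have h1 : algebraMap B Bq (algebraMap A B s * t - algebraMap A B a') = 0 := by
      rw [map_sub, map_mul, ← hcomp, ← hcomp, ← hpre t, ← map_mul, ha', Algebra.smul_def]
      simp
    obtain ⟨⟨ht, hht⟩, hht0⟩ := (IsLocalization.map_eq_zero_iff q.primeCompl Bq _).mp h1
    exact ⟨a', ht, hht, hht0⟩
  choose! a' ht hht1 hht2 using hkill
  refine ⟨s * g, fun h => (Ideal.IsPrime.mem_or_mem inferInstance h).elim hs hg, ⟨s, rfl⟩,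
    ∏ t ∈ T, ht t, ?_, ?_⟩
  · intro hmem
    obtain ⟨t, htT, htq⟩ := (Ideal.IsPrime.prod_mem_iff).mp hmem
    exact hht1 t htT htq
  · intro b
    have hb : b ∈ Algebra.adjoin A (T : Set B) := by rw [hT]; trivial
    induction hb using Algebra.adjoin_induction with
    | mem t htT =>
      refine ⟨1, g * a' t, ?_⟩
      have hdvd : ht t ∣ ∏ t ∈ T, ht t := Finset.dvd_prod_of_mem _ htT
      obtain ⟨c, hc⟩ := hdvd
      have := hht2 t htT
      rw [hc, pow_one, map_mul, map_mul]
      calc ht t * c * (algebraMap A B s * algebraMap A B g * t -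
            algebraMap A B g * algebraMap A B (a' t))
          = c * algebraMap A B g * (ht t * (algebraMap A B s * t - algebraMap A B (a' t))) := by
            ring
        _ = 0 := by rw [this, mul_zero]
    | algebraMap r =>
      exact ⟨0, r, by simp⟩
    | add x y _ _ hx hy =>
      obtain ⟨k1, α1, h1⟩ := hx
      obtain ⟨k2, α2, h2⟩ := hy
      refine ⟨k1 + k2, (s * g) ^ k2 * α1 + (s * g) ^ k1 * α2, ?_⟩
      set H := ∏ t ∈ T, ht t
      set e := algebraMap A B (s * g)
      calc H * (e ^ (k1 + k2) * (x + y) - algebraMap A B ((s * g) ^ k2 * α1 + (s * g) ^ k1 * α2))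
          = e ^ k2 * (H * (e ^ k1 * x - algebraMap A B α1)) +
            e ^ k1 * (H * (e ^ k2 * y - algebraMap A B α2)) := by
            simp only [map_add, map_mul, map_pow, e]
            ring
        _ = 0 := by rw [h1, h2]; simp
    | mul x y _ _ hx hy =>
      obtain ⟨k1, α1, h1⟩ := hx
      obtain ⟨k2, α2, h2⟩ := hy
      refine ⟨k1 + k2, α1 * α2, ?_⟩
      set H := ∏ t ∈ T, ht t
      set e := algebraMap A B (s * g)
      calc H * (e ^ (k1 + k2) * (x * y) - algebraMap A B (α1 * α2))
          = e ^ k2 * y * (H * (e ^ k1 * x - algebraMap A B α1)) +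
            algebraMap A B α1 * (H * (e ^ k2 * y - algebraMap A B α2)) := by
            simp only [map_mul]
            ring
        _ = 0 := by rw [h1, h2]; simp

/-- Ring lemma: `A` reduced with finitely many minimal primes, `B` of finite type over `A`,
`A_p ≅ B_q`. Then `B_h` is a localization of `A` away from an element, for some `h ∉ q`. -/
theorem exists_away [IsReduced A] (hfin : (minimalPrimes A).Finite)
    (hpq : p = q.comap (algebraMap A B)) [Algebra.FiniteType A B]
    (θ : Ap →+* Bq) (hθ : Function.Bijective θ)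
    (hcomp : ∀ a, θ (algebraMap A Ap a) = algebraMap B Bq (algebraMap A B a)) :
    ∃ h : B, h ∉ q ∧ ∃ a : A, IsLocalization.Away a (Localization.Away h) := by
  classical
  obtain ⟨g, hg, hgkill⟩ := exists_notMem_forall_mul_eq_zero hfin p
  obtain ⟨a₀, ha₀, ⟨s, hs⟩, h', hh', hC1⟩ := exists_common p q Ap Bq θ hθ.2 hcomp g hg
  have hιa₀ : algebraMap A B a₀ ∉ q := by
    intro h
    apply ha₀
    rw [hpq]
    exact h
  obtain ⟨k', α', hα'⟩ := hC1 h'
  obtain ⟨h, hh⟩ : ∃ h : B, h = algebraMap A B a₀ * h' := ⟨_, rfl⟩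
  have hhq : h ∉ q := fun hm =>
    (Ideal.IsPrime.mem_or_mem inferInstance (hh ▸ hm)).elim hιa₀ hh'
  refine ⟨h, hhq, a₀ * α', ?_⟩
  set μ := algebraMap B (Localization.Away h) with hμ
  have hμh : IsUnit (μ h) := IsLocalization.Away.algebraMap_isUnit h
  have hμmul : μ h = μ (algebraMap A B a₀) * μ h' := (congrArg μ hh).trans (map_mul μ _ _)
  have hμa₀ : IsUnit (μ (algebraMap A B a₀)) := by
    rw [hμmul] at hμh
    exact isUnit_of_mul_isUnit_left hμh
  have hμh' : IsUnit (μ h') := by
    rw [hμmul] at hμh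
    exact isUnit_of_mul_isUnit_right hμh
  -- in `B_h`: `ι a₀ ^ k * b = ι α`
  have hC1' : ∀ b : B, ∃ (k : ℕ) (α : A),
      μ (algebraMap A B a₀) ^ k * μ b = μ (algebraMap A B α) := by
    intro b
    obtain ⟨k, α, hkα⟩ := hC1 b
    refine ⟨k, α, ?_⟩
    have := congrArg μ hkα
    rw [map_mul, map_zero, map_sub, map_mul, map_pow] at this
    exact sub_eq_zero.mp ((hμh'.mul_right_eq_zero).mp this)
  have hα'eq : μ (algebraMap A B a₀) ^ k' * μ h' = μ (algebraMap A B α') := by
    have := congrArg μ hα'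
    rw [map_mul, map_zero, map_sub, map_mul, map_pow] at this
    exact sub_eq_zero.mp ((hμh'.mul_right_eq_zero).mp this)
  have hμα' : IsUnit (μ (algebraMap A B α')) := by
    rw [← hα'eq]
    exact (hμa₀.pow k').mul hμh'
  -- key relation
  have hkey : μ h * μ (algebraMap A B a₀) ^ k' = μ (algebraMap A B (a₀ * α')) := by
    rw [map_mul (algebraMap A B), map_mul μ, ← hα'eq, hμmul]
    ring
  have halg : ∀ r : A, algebraMap A (Localization.Away h) r = μ (algebraMap A B r) :=
    fun r => IsScalarTower.algebraMap_apply A B (Localization.Away h) r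
  rw [IsLocalization.Away, isLocalization_iff]
  refine ⟨?_, ?_, ?_⟩
  · rintro ⟨_, n, rfl⟩
    rw [map_pow, halg, map_mul (algebraMap A B), map_mul μ]
    exact (hμa₀.mul hμα').pow n
  · intro z
    obtain ⟨b, ⟨_, m, rfl⟩, rfl⟩ := IsLocalization.exists_mk'_eq (Submonoid.powers h) z
    obtain ⟨k, α, hkα⟩ := hC1' b
    refine ⟨(α * a₀ ^ (k' * m) * α' ^ k, ⟨(a₀ * α') ^ (m + k), m + k, rfl⟩), ?_⟩
    have hz : IsLocalization.mk' (Localization.Away h) b
        (⟨h ^ m, m, rfl⟩ : Submonoid.powers h) * μ h ^ m = μ b := by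
      have := IsLocalization.mk'_spec (Localization.Away h) b
        (⟨h ^ m, m, rfl⟩ : Submonoid.powers h)
      rw [← map_pow]
      exact this
    simp only [halg]
    rw [map_pow (algebraMap A B), map_pow μ, ← hkey]
    simp only [map_mul, map_pow]
    rw [← hkα, ← hα'eq, ← hz, hμmul]
    ring
  · intro x y hxy
    refine ⟨⟨a₀ * α', 1, pow_one _⟩, ?_⟩
    rw [halg, halg] at hxy
    have h0 : μ (algebraMap A B (x - y)) = 0 := by
      rw [map_sub, map_sub, hxy, sub_self]
    obtain ⟨⟨_, m, rfl⟩, hm⟩ := (IsLocalization.map_eq_zero_iff (Submonoid.powers h)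
      (Localization.Away h) _).mp h0
    have h1 : algebraMap B Bq (h ^ m * algebraMap A B (x - y)) = 0 := by
      rw [hm, map_zero]
    rw [map_mul, map_pow] at h1
    have hunit : IsUnit (algebraMap B Bq h) :=
      IsLocalization.map_units Bq (⟨h, hhq⟩ : q.primeCompl)
    have h2 : algebraMap B Bq (algebraMap A B (x - y)) = 0 :=
      ((hunit.pow m).mul_right_eq_zero).mp h1
    rw [← hcomp] at h2
    have h3 : algebraMap A Ap (x - y) = 0 := hθ.1 (by rw [h2, map_zero])
    obtain ⟨⟨s', hs'⟩, hs'0⟩ := (IsLocalization.map_eq_zero_iff p.primeCompl Ap _).mp h3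
    have h4 : g * (x - y) = 0 := hgkill (x - y) s' hs' hs'0
    have h5 : a₀ * α' * (x - y) = 0 := by
      rw [hs]
      calc s * g * α' * (x - y) = s * α' * (g * (x - y)) := by ring
        _ = 0 := by rw [h4, mul_zero]
    change a₀ * α' * x = a₀ * α' * y
    rw [← sub_eq_zero, ← mul_sub, h5]

end Main

end Groth.Agent.Lib.Helper21.OpenNbhd
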