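import Mathlib.LinearAlgebra.Semisimple
import Mathlib.LinearAlgebra.Projection
import Mathlib.LinearAlgebra.Matrix.NonsingularInverse
import Mathlib.LinearAlgebra.Matrix.ToLin
import Mathlib.Algebra.MvPolynomial.CommRing
import Mathlib.Algebra.Polynomial.Roots

/-!
# The semisimple part of a matrix lies in the Zariski closure of its conjugation orbit

`orbit_closure_semisimple`: if `S` is semisimple, `N` nilpotent commuting with `S`, and a polynomial
`F` in the matrix entries vanishes on the conjugation orbit of `S + N`, then `F` vanishes on the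
conjugation orbit of `S` (over any infinite field).
-/

set_option autoImplicit false
open Module

namespace Groth.Agent.Lib.Helper21

theorem exists_proj {K E : Type*} [Field K] [AddCommGroup E] [Module K E]
    (s ν : Module.End K E) (hs : s.IsSemisimple) (hc : Commute s ν) (m : ℕ) (hν : ν ^ (m + 1) = 0) :
    ∃ π : Module.End K E, π * π = π ∧ π * ν = ν ∧ ν ^ m * π = 0 ∧ Commute s π := by
  classical
  set p : Submodule K E := LinearMap.ker (ν ^ m) with hp
  have hpinv : p ∈ Module.End.invtSubmodule s := by
    rw [Module.End.mem_invtSubmodule]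
    intro x hx
    rw [Submodule.mem_comap, hp, LinearMap.mem_ker]
    have h1 : (ν ^ m) (s x) = s ((ν ^ m) x) := by
      have := (hc.pow_right m).eq
      exact (congrArg (fun f => f x) this).symm
    rw [h1, LinearMap.mem_ker.mp hx, map_zero]
  obtain ⟨w, hwinv, hpw⟩ := (Module.End.isSemisimple_iff.mp hs) p hpinv
  rw [Module.End.mem_invtSubmodule] at hwinv hpinv
  refine ⟨p.projection w hpw, ?_, ?_, ?_, ?_⟩
  · exact (Submodule.isIdempotentElem_projection hpw).eq
  · ext x
    rw [Module.End.mul_apply]
    apply Submodule.projection_apply_of_mem_left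
    rw [hp, LinearMap.mem_ker, ← Module.End.mul_apply, ← pow_succ, hν, LinearMap.zero_apply]
  · ext x
    rw [Module.End.mul_apply, LinearMap.zero_apply]
    have := Submodule.projection_apply_mem hpw x
    exact LinearMap.mem_ker.mp this
  · ext x
    rw [Module.End.mul_apply, Module.End.mul_apply]
    have h1 : p.projection w hpw x ∈ p := Submodule.projection_apply_mem hpw x
    have h2 : x - p.projection w hpw x ∈ w := Submodule.sub_projection_mem hpw x
    have h3 : s x = s (p.projection w hpw x) + s (x - p.projection w hpw x) := by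
      rw [← map_add]; congr 1; abel
    have h4 : s (p.projection w hpw x) ∈ p := hpinv h1
    have h5 : s (x - p.projection w hpw x) ∈ w := hwinv h2
    conv_rhs => rw [h3, map_add]
    rw [Submodule.projection_apply_of_mem_left hpw h4, (Submodule.projection_apply_eq_zero_iff hpw).mpr h5,
      add_zero]

open Matrix

theorem exists_proj_matrix {K : Type*} [Field K] {n : ℕ}
    (S N : Matrix (Fin n) (Fin n) K) (hS : Module.End.IsSemisimple (Matrix.toLin' S))
    (hc : Commute S N) (m : ℕ) (hN : N ^ (m + 1) = 0) :
    ∃ P : Matrix (Fin n) (Fin n) K, P * P = P ∧ P * N = N ∧ N ^ m * P = 0 ∧ Commute S P := by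
  classical
  let e : Matrix (Fin n) (Fin n) K ≃ₐ[K] Module.End K (Fin n → K) := Matrix.toLinAlgEquiv'
  have heS : e S = Matrix.toLin' S := rfl
  obtain ⟨π, h1, h2, h3, h4⟩ := exists_proj (e S) (e N) (heS ▸ hS) (hc.map e) m
    (by rw [← map_pow, hN, map_zero])
  refine ⟨e.symm π, ?_, ?_, ?_, ?_⟩
  · apply e.injective
    rw [map_mul, e.apply_symm_apply, h1]
  · apply e.injective
    rw [map_mul, e.apply_symm_apply, h2]
  · apply e.injective
    rw [map_mul, map_pow, e.apply_symm_apply, h3, map_zero]
  · have : Commute (e.symm (e S)) (e.symm π) := h4.map e.symm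
    rwa [e.symm_apply_apply] at this

/-- one degeneration step -/
theorem orbit_step {K : Type*} [Field K] [Infinite K] {n : ℕ}
    (S N P : Matrix (Fin n) (Fin n) K) (hPP : P * P = P) (hPN : P * N = N) (hSP : Commute S P)
    (F : MvPolynomial (Fin n × Fin n) K)
    (hF : ∀ A : Matrix (Fin n) (Fin n) K, IsUnit A.det →
      MvPolynomial.eval (fun p => (A * (S + N) * A⁻¹) p.1 p.2) F = 0) :
    ∀ A : Matrix (Fin n) (Fin n) K, IsUnit A.det →
      MvPolynomial.eval (fun p => (A * (S + N * P) * A⁻¹) p.1 p.2) F = 0 := by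
  classical
  intro A hA
  set Q : Matrix (Fin n) (Fin n) K := 1 - P with hQ
  have hQN : Q * N = 0 := by rw [hQ, sub_mul, one_mul, hPN, sub_self]
  have hPQ : P * Q = 0 := by rw [hQ, mul_sub, mul_one, hPP, sub_self]
  have hQP : Q * P = 0 := by rw [hQ, sub_mul, one_mul, hPP, sub_self]
  have hQQ : Q * Q = Q := by rw [hQ, mul_sub, mul_one, sub_mul, one_mul, hPP, sub_self, sub_zero]
  have hPQ1 : P + Q = 1 := by rw [hQ]; abel
  have hSQ : Commute S Q := by rw [hQ]; exact (Commute.one_right S).sub_right hSP
  set X0 := A * (S + N * P) * A⁻¹ with hX0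
  set X1 := A * (N * Q) * A⁻¹ with hX1
  -- the polynomial in t
  let g : Fin n × Fin n → Polynomial K := fun p => Polynomial.C (X0 p.1 p.2) + Polynomial.X * Polynomial.C (X1 p.1 p.2)
  let G : Polynomial K := MvPolynomial.aeval g F
  have hG : ∀ t : K, G.eval t = MvPolynomial.eval (fun p => X0 p.1 p.2 + t * X1 p.1 p.2) F := by
    intro t
    have := MvPolynomial.eval₂_comp_left (Polynomial.evalRingHom t) (algebraMap K (Polynomial K)) g F
    rw [Polynomial.coe_evalRingHom] at this
    change Polynomial.eval t (MvPolynomial.eval₂ (algebraMap K (Polynomial K)) g F) = _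
    rw [this]
    have h1 : (Polynomial.evalRingHom t).comp (algebraMap K (Polynomial K)) = RingHom.id K := by
      ext x; simp
    rw [h1]
    have h2 : (Polynomial.eval t ∘ g) = fun p => X0 p.1 p.2 + t * X1 p.1 p.2 := by
      funext p
      simp only [g, Function.comp_apply, Polynomial.eval_add, Polynomial.eval_C, Polynomial.eval_mul,
        Polynomial.eval_X]
    rw [h2]
    rfl
  have hroots : ∀ t : K, t ≠ 0 → G.eval t = 0 := by
    intro t ht
    rw [hG]
    obtain ⟨At, hAt⟩ : ∃ At : Matrix (Fin n) (Fin n) K, At = P + t⁻¹ • Q := ⟨_, rfl⟩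
    obtain ⟨At', hAt'⟩ : ∃ At' : Matrix (Fin n) (Fin n) K, At' = P + t • Q := ⟨_, rfl⟩
    have hAA' : At * At' = 1 := by
      rw [hAt, hAt', add_mul, mul_add, mul_add, hPP, mul_smul_comm, hPQ, smul_zero, smul_mul_assoc, hQP,
        smul_zero, smul_mul_assoc, mul_smul_comm, hQQ, smul_smul, inv_mul_cancel₀ ht, one_smul, add_zero,
        zero_add, hPQ1]
    have hAtS : At * S = S * At := by
      rw [hAt, add_mul, mul_add, smul_mul_assoc, mul_smul_comm, hSP.eq, hSQ.eq]
    have hdet : IsUnit (A * At).det := by
      rw [Matrix.det_mul]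
      refine hA.mul ?_
      have : At.det * At'.det = 1 := by rw [← Matrix.det_mul, hAA', Matrix.det_one]
      exact IsUnit.of_mul_eq_one _ this
    have hinv : (A * At)⁻¹ = At' * A⁻¹ := by
      apply Matrix.inv_eq_right_inv
      rw [Matrix.mul_assoc, ← Matrix.mul_assoc At, hAA', Matrix.one_mul, Matrix.mul_nonsing_inv A hA]
    have hconj : A * At * (S + N) * (A * At)⁻¹ = X0 + t • X1 := by
      rw [hinv, hX0, hX1]
      have h1 : At * (S + N) * At' = S + N * P + t • (N * Q) := by
        rw [mul_add, add_mul, hAtS, Matrix.mul_assoc S, hAA', Matrix.mul_one]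
        have : At * N * At' = N * P + t • (N * Q) := by
          rw [hAt, add_mul, hPN, smul_mul_assoc, hQN, smul_zero, add_zero, hAt', mul_add, mul_smul_comm]
        rw [this, add_assoc]
      calc A * At * (S + N) * (At' * A⁻¹) = A * (At * (S + N) * At') * A⁻¹ := by
            simp only [Matrix.mul_assoc]
        _ = A * (S + N * P + t • (N * Q)) * A⁻¹ := by rw [h1]
        _ = A * (S + N * P) * A⁻¹ + t • (A * (N * Q) * A⁻¹) := by
            rw [mul_add, add_mul, mul_smul_comm, smul_mul_assoc]
    have := hF (A * At) hdet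
    rw [hconj] at this
    have e : (fun p : Fin n × Fin n => X0 p.1 p.2 + t * X1 p.1 p.2) =
        fun p => (X0 + t • X1) p.1 p.2 := by
      funext p
      simp [Matrix.add_apply, Matrix.smul_apply]
    rw [e]
    exact this
  have hG0 : G = 0 := by
    apply Polynomial.eq_zero_of_infinite_isRoot
    apply Set.Infinite.mono (s := {t : K | t ≠ 0})
    · intro t ht
      exact hroots t ht
    · have : {t : K | t ≠ 0} = ({0} : Set K)ᶜ := by ext; simp
      rw [this]
      exact (Set.finite_singleton 0).infinite_compl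
  have := hG 0
  rw [hG0, Polynomial.eval_zero] at this
  have e : (fun p : Fin n × Fin n => X0 p.1 p.2 + 0 * X1 p.1 p.2) = fun p => X0 p.1 p.2 := by
    funext p
    simp
  rw [e] at this
  exact this.symm

theorem orbit_closure_semisimple {K : Type*} [Field K] [Infinite K] {n : ℕ}
    (S : Matrix (Fin n) (Fin n) K) (hS : Module.End.IsSemisimple (Matrix.toLin' S))
    (F : MvPolynomial (Fin n × Fin n) K) :
    ∀ (m : ℕ) (N : Matrix (Fin n) (Fin n) K), N ^ (m + 1) = 0 → Commute S N →
      (∀ A : Matrix (Fin n) (Fin n) K, IsUnit A.det →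
        MvPolynomial.eval (fun p => (A * (S + N) * A⁻¹) p.1 p.2) F = 0) →
      ∀ A : Matrix (Fin n) (Fin n) K, IsUnit A.det →
        MvPolynomial.eval (fun p => (A * S * A⁻¹) p.1 p.2) F = 0 := by
  intro m
  induction m with
  | zero =>
    intro N hN _ hF A hA
    rw [zero_add, pow_one] at hN
    have := hF A hA
    rwa [hN, add_zero] at this
  | succ m ih =>
    intro N hN hc hF
    obtain ⟨P, hPP, hPN, hNP, hSP⟩ := exists_proj_matrix S N hS hc (m + 1) hN
    have hpow : ∀ j : ℕ, (N * P) ^ (j + 1) = N ^ (j + 1) * P := by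
      intro j
      induction j with
      | zero => simp
      | succ j ihj =>
        rw [pow_succ', ihj, Matrix.mul_assoc N P, ← Matrix.mul_assoc P, pow_succ' N (j), ← Matrix.mul_assoc P N,
          hPN, ← Matrix.mul_assoc, ← Matrix.mul_assoc, pow_succ' N (j + 1), pow_succ' N j,
          ← Matrix.mul_assoc]
    have hN' : (N * P) ^ (m + 1) = 0 := by rw [hpow, hNP]
    have hc' : Commute S (N * P) := hc.mul_right hSP
    exact ih (N * P) hN' hc' (orbit_step S N P hPP hPN hSP F hF)

end Groth.Agent.Lib.Helper21
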