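import Groth.Agent.Lib.Helper29.ToProj4
import Groth.Agent.S3557
import Groth.Agent.S9705

/-!
# The projective line over a field: charts, integrality, closed points
-/

set_option autoImplicit false
set_option linter.style.haveILetI false
set_option linter.unusedSimpArgs false
universe u
open AlgebraicGeometry CategoryTheory Limits TopologicalSpace

namespace Groth.Agent.Lib.Helper21.P1

open HomogeneousLocalization MvPolynomial Groth.Agent.Lib.Helper29.QCoh

variable (k : Type u) [Field k]

/-- Evaluation `X i ↦ 1`, the other variable `↦ T`. -/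
noncomputable def ev (i : Fin 2) : MvPolynomial (Fin 2) k →+* Polynomial k :=
  eval₂Hom Polynomial.C (fun l => if l = i then 1 else Polynomial.X)

theorem ev_X_self (i : Fin 2) : ev k i (X i) = 1 := by
  simp [ev]

theorem add_one_ne (i : Fin 2) : i + 1 ≠ i := by fin_cases i <;> decide

theorem eq_or_eq_add_one (i l : Fin 2) : l = i ∨ l = i + 1 := by
  fin_cases i <;> fin_cases l <;> decide

theorem ev_X_other (i : Fin 2) : ev k i (X (i + 1)) = Polynomial.X := by
  simp [ev, add_one_ne]

theorem ev_C (i : Fin 2) (r : k) : ev k i (C r) = Polynomial.C r := by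
  simp [ev]

/-- The chart ring maps to `k[T]`. -/
noncomputable def chartTo (i : Fin 2) : Away (CohB1.polyGrading 1 k) (X i) →+* Polynomial k :=
  (IsLocalization.Away.lift (X i : MvPolynomial (Fin 2) k) (g := ev k i)
    (by rw [ev_X_self]; exact isUnit_one)).comp
    (algebraMap (Away (CohB1.polyGrading 1 k) (X i)) (Localization.Away (X i : MvPolynomial (Fin 2) k)))

theorem chartTo_cFrac (i : Fin 2) (r : k) : chartTo k i (cFrac 1 k i r) = Polynomial.C r := by
  unfold chartTo
  rw [RingHom.comp_apply]
  have : algebraMap (Away (CohB1.polyGrading 1 k) (X i))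
      (Localization.Away (X i : MvPolynomial (Fin 2) k)) (cFrac 1 k i r) =
      algebraMap (MvPolynomial (Fin 2) k) _ (C r) := by
    change (fromZeroRingHom (CohB1.polyGrading 1 k) _ (algebraMap k (CohB1.polyGrading 1 k 0) r)).val = _
    change Localization.mk (C r) 1 = _
    rw [Localization.mk_one_eq_algebraMap]
  rw [this, IsLocalization.Away.lift_eq, ev_C]

theorem chartTo_xFrac (i l : Fin 2) : chartTo k i (xFrac 1 k i l) = ev k i (X l) := by
  unfold chartTo
  rw [RingHom.comp_apply]
  have : algebraMap (Away (CohB1.polyGrading 1 k) (X i))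
      (Localization.Away (X i : MvPolynomial (Fin 2) k)) (xFrac 1 k i l) =
      IsLocalization.mk' _ (X l : MvPolynomial (Fin 2) k)
        (⟨X i, Submonoid.mem_powers _⟩ : Submonoid.powers (X i : MvPolynomial (Fin 2) k)) := by
    change (xFrac 1 k i l).val = _
    unfold xFrac
    rw [Away.val_mk, Localization.mk_eq_mk']
    congr 1
    simp
  rw [this, IsLocalization.Away.lift, IsLocalization.lift_mk'_spec]
  simp [ev_X_self]

/-- The constants in the chart ring. -/
noncomputable def cHom (i : Fin 2) : k →+* Away (CohB1.polyGrading 1 k) (X i) :=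
  (fromZeroRingHom (CohB1.polyGrading 1 k) _).comp (algebraMap k (CohB1.polyGrading 1 k 0))

theorem cHom_apply (i : Fin 2) (r : k) : cHom k i r = cFrac 1 k i r := rfl

/-- `k[T]` maps to the chart ring, `T ↦ X_{i+1}/X_i`. -/
noncomputable def chartFrom (i : Fin 2) : Polynomial k →+* Away (CohB1.polyGrading 1 k) (X i) :=
  Polynomial.eval₂RingHom (cHom k i) (xFrac 1 k i (i + 1))

theorem chartFrom_C (i : Fin 2) (r : k) : chartFrom k i (Polynomial.C r) = cFrac 1 k i r := by
  simp [chartFrom, cHom_apply]

theorem chartFrom_X (i : Fin 2) : chartFrom k i Polynomial.X = xFrac 1 k i (i + 1) := by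
  simp [chartFrom]

theorem xFrac_self (i : Fin 2) : xFrac 1 k i i = 1 := by
  apply HomogeneousLocalization.val_injective
  unfold xFrac
  rw [Away.val_mk, HomogeneousLocalization.val_one]
  simp only [pow_one]
  exact Localization.mk_self (⟨X i, Submonoid.mem_powers _⟩ :
    Submonoid.powers (X i : MvPolynomial (Fin 2) k))

theorem chartFrom_chartTo (i : Fin 2) :
    (chartFrom k i).comp (chartTo k i) = RingHom.id _ := by
  apply away_X_ringHom_ext 1 k i
  · intro r
    simp only [RingHom.comp_apply, RingHom.id_apply]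
    rw [chartTo_cFrac, chartFrom_C]
  · intro l
    simp only [RingHom.comp_apply, RingHom.id_apply]
    rw [chartTo_xFrac]
    rcases eq_or_eq_add_one i l with rfl | rfl
    · rw [ev_X_self, map_one, xFrac_self]
    · rw [ev_X_other, chartFrom_X]

theorem chartTo_chartFrom (i : Fin 2) :
    (chartTo k i).comp (chartFrom k i) = RingHom.id _ := by
  apply Polynomial.ringHom_ext
  · intro r
    simp only [RingHom.comp_apply, RingHom.id_apply]
    rw [chartFrom_C, chartTo_cFrac]
  · simp only [RingHom.comp_apply, RingHom.id_apply]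
    rw [chartFrom_X, chartTo_xFrac, ev_X_other]

/-- The chart `D₊(X i)` of `ℙ¹` is the affine line. -/
noncomputable def chartEquiv (i : Fin 2) : Away (CohB1.polyGrading 1 k) (X i) ≃+* Polynomial k :=
  RingEquiv.ofRingHom (chartTo k i) (chartFrom k i) (chartTo_chartFrom k i) (chartFrom_chartTo k i)

theorem chartEquiv_cFrac (i : Fin 2) (r : k) :
    chartEquiv k i (cFrac 1 k i r) = Polynomial.C r := chartTo_cFrac k i r

theorem chartEquiv_symm_X (i : Fin 2) :
    (chartEquiv k i).symm Polynomial.X = xFrac 1 k i (i + 1) := chartFrom_X k i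

theorem chartEquiv_symm_C (i : Fin 2) (r : k) :
    (chartEquiv k i).symm (Polynomial.C r) = cFrac 1 k i r := chartFrom_C k i r

theorem X_mem_irrelevant (i : Fin 2) :
    (X i : MvPolynomial (Fin 2) k) ∈ (HomogeneousIdeal.irrelevant (CohB1.polyGrading 1 k)).toIdeal := by
  rw [HomogeneousIdeal.mem_iff, HomogeneousIdeal.mem_irrelevant_iff]
  rw [GradedRing.proj_apply]
  rw [DirectSum.decompose_of_mem_ne (CohB1.polyGrading 1 k) (isHomogeneous_X k i)]
  exact one_ne_zero

instance isIntegral_projSpace : IsIntegral (CohB1.ProjSpace 1 k) := by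
  change IsIntegral (Proj (CohB1.polyGrading 1 k))
  refine (Groth.Agent.S3557.result (CohB1.polyGrading 1 k) ?_).mpr ⟨?_, ?_⟩
  · intro f _ hf
    exact hf.eq_zero
  · exact ⟨X 0, X_mem_irrelevant k 0, X_ne_zero 0⟩
  · intro f _ g _ h
    exact mul_eq_zero.mp h

/-- the standard opens of `ℙ¹` -/
noncomputable def stdOpen (i : Fin 2) : (CohB1.ProjSpace 1 k).Opens :=
  Proj.basicOpen (CohB1.polyGrading 1 k) (X i)

theorem isAffineOpen_stdOpen (i : Fin 2) : IsAffineOpen (stdOpen k i) :=
  Proj.isAffineOpen_basicOpen (CohB1.polyGrading 1 k) (X i) (m := 1)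
    (isHomogeneous_X k i) Nat.one_pos

theorem iSup_stdOpen : ⨆ i, stdOpen k i = ⊤ := by
  apply Proj.iSup_basicOpen_eq_top' (CohB1.polyGrading 1 k) (fun i => X i)
  · intro i
    exact ⟨1, isHomogeneous_X k i⟩
  · rw [eq_top_iff]
    intro p hp0
    clear hp0
    induction p using MvPolynomial.induction_on with
    | C a =>
      have : (C a : MvPolynomial (Fin 2) k) =
          algebraMap (CohB1.polyGrading 1 k 0) _ ⟨C a, isHomogeneous_C _ a⟩ := rfl
      rw [this]
      exact Subalgebra.algebraMap_mem _ _
    | add p q hp hq => exact Subalgebra.add_mem _ hp hq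
    | mul_X p i hp =>
      exact Subalgebra.mul_mem _ hp (Algebra.subset_adjoin ⟨i, rfl⟩)

theorem exists_mem_stdOpen (x : CohB1.ProjSpace 1 k) : ∃ i, x ∈ stdOpen k i := by
  have : x ∈ (⨆ i, stdOpen k i) := by rw [iSup_stdOpen]; trivial
  exact Opens.mem_iSup.mp this

/-- Sections over a standard open of `ℙ¹`. -/
noncomputable def sectionEquiv (i : Fin 2) :
    Away (CohB1.polyGrading 1 k) (X i) ≃+* Γ(CohB1.ProjSpace 1 k, stdOpen k i) :=
  (Proj.basicOpenIsoAway (CohB1.polyGrading 1 k) (X i) (isHomogeneous_X k i)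
    Nat.one_pos).commRingCatIsoToRingEquiv

theorem sectionEquiv_apply (i : Fin 2) (a : Away (CohB1.polyGrading 1 k) (X i)) :
    sectionEquiv k i a = (Proj.awayToSection (CohB1.polyGrading 1 k) (X i)).hom a := rfl

end Groth.Agent.Lib.Helper21.P1
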