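import Mathlib

/-!
# Projective completion of curves, algebra I: inverting a function modulo nilpotents

If `u ∈ B_β` is, modulo nilpotents, inverse to `β`, then a high power of `u` has an inverse coming
from `B`.
-/

set_option autoImplicit false
set_option linter.style.haveILetI false
set_option linter.unusedSectionVars false

namespace Groth.Agent.Lib.Helper21.PC

open Polynomial

theorem exists_pow_inverse_of_nilpotent {B S : Type*} [CommRing B] [CommRing S] [Algebra B S]
    (β : B) [IsLocalization.Away β S] (u : S)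
    (hu : IsNilpotent (u * algebraMap B S β - 1)) :
    ∃ M₀ : ℕ, ∀ M, M₀ ≤ M → ∃ σ : B, algebraMap B S σ * u ^ M = 1 := by
  obtain ⟨m, hm⟩ := hu
  set w : S := algebraMap B S β with hw
  set ε : S := u * w - 1 with hε
  obtain ⟨c, b, hcb⟩ := IsLocalization.Away.surj β ε
  -- the inverse of `1 + ε`
  set v : S := ∑ i ∈ Finset.range m, (-ε) ^ i with hv
  have hv1 : v * (1 + ε) = 1 := by
    have := geom_sum_mul_neg (-ε) m
    rw [sub_neg_eq_add, neg_pow, hm, mul_zero, sub_zero] at this
    exact this
  have huwv : u * w * v = 1 := by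
    have : u * w = 1 + ε := by rw [hε]; ring
    rw [this, mul_comm]; exact hv1
  -- the subalgebra generated by `ε`
  have hQ : ∀ z ∈ Algebra.adjoin B ({ε} : Set S), z * w ^ (c * m) ∈ (algebraMap B S).range := by
    intro z hz
    rw [Algebra.adjoin_singleton_eq_range_aeval] at hz
    obtain ⟨p, rfl⟩ := hz
    change aeval ε p * w ^ (c * m) ∈ (algebraMap B S).range
    rw [Polynomial.aeval_eq_sum_range, Finset.sum_mul]
    refine Subring.sum_mem _ fun i _ => ?_
    by_cases him : i < m
    · have h1 : ε ^ i * w ^ (c * m) = algebraMap B S (b ^ i * β ^ (c * (m - i))) := by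
        rw [map_mul, map_pow, map_pow, ← hcb, ← hw, mul_pow, ← pow_mul, mul_assoc, ← pow_add]
        congr 2
        have : c * i + c * (m - i) = c * m := by
          rw [← Nat.mul_add]; congr 1; omega
        exact this.symm
      rw [Algebra.smul_def, mul_assoc, h1, ← map_mul]
      exact ⟨_, rfl⟩
    · have h0 : ε ^ i = 0 := by
        have : i = m + (i - m) := by omega
        rw [this, pow_add, hm, zero_mul]
      rw [h0, smul_zero, zero_mul]
      exact Subring.zero_mem _
  have hvQ : v ∈ Algebra.adjoin B ({ε} : Set S) := by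
    rw [hv]
    refine Subalgebra.sum_mem _ fun i _ => ?_
    refine Subalgebra.pow_mem _ ?_ i
    exact Subalgebra.neg_mem _ (Algebra.subset_adjoin rfl)
  refine ⟨c * m, fun M hM => ?_⟩
  have hvM : v ^ M ∈ Algebra.adjoin B ({ε} : Set S) := Subalgebra.pow_mem _ hvQ M
  obtain ⟨σ₀, hσ₀⟩ := hQ _ hvM
  refine ⟨σ₀ * β ^ (M - c * m), ?_⟩
  rw [map_mul, map_pow, hσ₀, ← hw]
  have : v ^ M * w ^ (c * m) * w ^ (M - c * m) * u ^ M = (u * w * v) ^ M := by
    rw [mul_assoc (v ^ M), ← pow_add, Nat.add_sub_cancel' hM, mul_pow, mul_pow]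
    ring
  rw [this, huwv, one_pow]

end Groth.Agent.Lib.Helper21.PC
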