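import Groth.Agent.Lib.Helper21.PC9
import Groth.Agent.Lib.Helper21.PC1

/-!
# Projective completion of curves X: inverting a power of the pole function near a point at
infinity
-/

set_option autoImplicit false
set_option linter.style.haveILetI false
set_option linter.unusedSectionVars false
universe u
open CategoryTheory CategoryTheory.Limits AlgebraicGeometry TopologicalSpace

namespace Groth.Agent.Lib.Helper21.PC

theorem app_res' {X Y : Scheme.{u}} (f : X ⟶ Y) {V' V : Y.Opens} (hV : V' ≤ V) (s : Γ(Y, V)) :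
    (f.app V').hom ((Y.presheaf.map (homOfLE hV).op).hom s) =
      (X.presheaf.map (homOfLE (f.preimage_mono hV)).op).hom ((f.app V).hom s) := by
  have e1 := Scheme.Hom.naturality f (homOfLE hV).op
  have e2 := congrArg (fun ψ => ψ.hom s) e1
  simp only [CommRingCat.hom_comp, RingHom.comp_apply] at e2
  exact e2

theorem res_res {X : Scheme.{u}} {A B C : X.Opens} (h1 : A ≤ B) (h2 : B ≤ C) (s : Γ(X, C)) :
    (X.presheaf.map (homOfLE h1).op).hom ((X.presheaf.map (homOfLE h2).op).hom s) =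
      (X.presheaf.map (homOfLE (h1.trans h2)).op).hom s := by
  rw [← RingHom.comp_apply, ← CommRingCat.hom_comp, ← Functor.map_comp]
  rfl

variable (X : Scheme.{u})

/-- near a point `p` outside `U`, a high power of `t₁` has a regular inverse -/
theorem exists_local_inverse (U N : X.Opens)
    (t₀ : Γ(X.nilradical.subscheme, X.nilradical.subschemeι ⁻¹ᵁ U))
    (σ₀ : Γ(X.nilradical.subscheme, X.nilradical.subschemeι ⁻¹ᵁ N))
    (hfin : ((U : Set X)ᶜ).Finite) (hcl : ∀ x ∉ U, IsClosed ({x} : Set X))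
    (hmul : (X.nilradical.subscheme.presheaf.map (homOfLE (inf_le_left :
          X.nilradical.subschemeι ⁻¹ᵁ U ⊓ X.nilradical.subschemeι ⁻¹ᵁ N ≤
            X.nilradical.subschemeι ⁻¹ᵁ U)).op).hom t₀ *
        (X.nilradical.subscheme.presheaf.map (homOfLE (inf_le_right :
          X.nilradical.subschemeι ⁻¹ᵁ U ⊓ X.nilradical.subschemeι ⁻¹ᵁ N ≤
            X.nilradical.subschemeι ⁻¹ᵁ N)).op).hom σ₀ = 1)
    (hbo : X.nilradical.subscheme.basicOpen σ₀ =
        X.nilradical.subschemeι ⁻¹ᵁ U ⊓ X.nilradical.subschemeι ⁻¹ᵁ N)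
    (t₁ : Γ(X, U)) (ht₁ : (X.nilradical.subschemeι.app U).hom t₁ = t₀)
    (p : X) (hpU : p ∉ U) (hpN : p ∈ N) :
    ∃ W : X.Opens, IsAffineOpen W ∧ p ∈ W ∧ (∀ x ∈ W, x ∉ U → x = p) ∧
      ∃ M₀ : ℕ, ∀ M, M₀ ≤ M → ∃ σ : Γ(X, W),
        (X.presheaf.map (homOfLE (inf_le_right : U ⊓ W ≤ W)).op).hom σ *
          ((X.presheaf.map (homOfLE (inf_le_left : U ⊓ W ≤ U)).op).hom t₁) ^ M = 1 := by
  -- the other points at infinity form a closed set
  have hCcl : IsClosed ((U : Set X)ᶜ \ {p}) := by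
    have hf : ((U : Set X)ᶜ \ {p}).Finite := hfin.subset Set.sdiff_subset
    have : (U : Set X)ᶜ \ {p} = ⋃ x ∈ ((U : Set X)ᶜ \ {p}), ({x} : Set X) := by ext z; simp
    rw [this]
    exact Set.Finite.isClosed_biUnion hf fun x hx => hcl x hx.1
  let O : X.Opens := N ⊓ ⟨((U : Set X)ᶜ \ {p})ᶜ, hCcl.isOpen_compl⟩
  have hpO : p ∈ O := ⟨hpN, fun h => h.2 rfl⟩
  obtain ⟨W, hW, hpW, hWO⟩ := Opens.isBasis_iff_nbhd.mp X.isBasis_affineOpens hpO
  have hW : IsAffineOpen W := hW
  have hWN : W ≤ N := fun x hx => (hWO hx).1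
  have hWp : ∀ x ∈ W, x ∉ U → x = p := by
    intro x hx hxU
    by_contra hne
    exact (hWO hx).2 ⟨hxU, hne⟩
  refine ⟨W, hW, hpW, hWp, ?_⟩
  -- a lift of `σ₀`
  obtain ⟨β, hβ⟩ := app_surjective X W hW
    ((X.nilradical.subscheme.presheaf.map (homOfLE (X.nilradical.subschemeι.preimage_mono hWN)).op).hom σ₀)
  -- its non-vanishing locus
  have hD : X.basicOpen β = U ⊓ W := by
    apply preimage_injective X
    rw [Scheme.preimage_basicOpen, hβ, Scheme.basicOpen_res, hbo, Scheme.Hom.preimage_inf]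
    ext x
    constructor
    · rintro ⟨h1, h2, -⟩
      exact ⟨h2, h1⟩
    · rintro ⟨h1, h2⟩
      exact ⟨h2, h1, X.nilradical.subschemeι.preimage_mono hWN h2⟩
  have hDU : X.basicOpen β ≤ U := hD.le.trans inf_le_left
  have hDW : X.basicOpen β ≤ W := X.basicOpen_le β
  have hDaff : IsAffineOpen (X.basicOpen β) := hW.basicOpen β
  haveI := hW.isLocalization_basicOpen β
  set u : Γ(X, X.basicOpen β) := (X.presheaf.map (homOfLE hDU).op).hom t₁ with hu
  have halg : algebraMap Γ(X, W) Γ(X, X.basicOpen β) β =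
      (X.presheaf.map (homOfLE hDW).op).hom β := rfl
  have hnil : IsNilpotent (u * algebraMap Γ(X, W) Γ(X, X.basicOpen β) β - 1) := by
    apply isNilpotent_of_app_eq_zero X _ hDaff
    rw [map_sub, map_mul, map_one, halg, hu, app_res' X.nilradical.subschemeι hDU, app_res' X.nilradical.subschemeι hDW, ht₁, hβ, res_res]
    have hle : X.nilradical.subschemeι ⁻¹ᵁ X.basicOpen β ≤ X.nilradical.subschemeι ⁻¹ᵁ U ⊓ X.nilradical.subschemeι ⁻¹ᵁ N :=
      le_inf (X.nilradical.subschemeι.preimage_mono hDU) (X.nilradical.subschemeι.preimage_mono (hDW.trans hWN))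
    have h2 := congrArg (X.nilradical.subscheme.presheaf.map (homOfLE hle).op).hom hmul
    rw [map_mul, map_one, res_res, res_res] at h2
    rw [h2, sub_self]
  obtain ⟨M₀, hM₀⟩ := exists_pow_inverse_of_nilpotent β u hnil
  refine ⟨M₀, fun M hM => ?_⟩
  obtain ⟨σ, hσ⟩ := hM₀ M hM
  refine ⟨σ, ?_⟩
  have hUWD : U ⊓ W ≤ X.basicOpen β := hD.ge
  have h3 := congrArg (X.presheaf.map (homOfLE hUWD).op).hom hσ
  have halg' : algebraMap Γ(X, W) Γ(X, X.basicOpen β) σ =
      (X.presheaf.map (homOfLE hDW).op).hom σ := rfl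
  rw [map_mul, map_pow, map_one, halg', hu, res_res, res_res] at h3
  exact h3

end Groth.Agent.Lib.Helper21.PC
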