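import Groth.Agent.Lib.Helper21.PC10

/-!
# Projective completion of curves XI: gluing the morphism to `ℙ¹`
-/

set_option autoImplicit false
set_option linter.style.haveILetI false
set_option linter.unusedSectionVars false
universe u
open CategoryTheory CategoryTheory.Limits AlgebraicGeometry TopologicalSpace
open HomogeneousLocalization MvPolynomial Groth.Agent.Lib.Helper29.QCoh

namespace Groth.Agent.Lib.Helper21.PC

open Groth.Agent.Lib.Helper21.CurveRiem Groth.Agent.Lib.Helper21

section Defs
variable {X : Scheme.{u}} {P : Type u} (U : X.Opens) (W : P → X.Opens) (t : Γ(X, U))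
  (σ : ∀ p, Γ(X, W p))

/-- the cover by `U` and the `W p` -/
def cov : Option P → X.Opens
  | none => U
  | some p => W p

/-- the homogeneous coordinates on the members of the cover -/
noncomputable def yfun : ∀ i : Option P, Fin 2 → Γ(X, cov U W i)
  | none => fun l => if l = 0 then 1 else t
  | some p => fun l => if l = 0 then σ p else 1

/-- the index of the coordinate which is `1` -/
def ell : Option P → Fin 2
  | none => 0
  | some _ => 1

theorem yfun_ell (i : Option P) : yfun U W t σ i (ell i) = 1 := by
  cases i with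
  | none => simp [yfun, ell]
  | some p => simp [yfun, ell]

theorem yfun_none_zero : yfun U W t σ none 0 = 1 := rfl
theorem yfun_none_one : yfun U W t σ none 1 = t := rfl
theorem yfun_some_zero (p : P) : yfun U W t σ (some p) 0 = σ p := rfl
theorem yfun_some_one (p : P) : yfun U W t σ (some p) 1 = 1 := rfl

end Defs

section Glue
variable (k : Type u) [Field k] {X : Scheme.{u}} (sX : X ⟶ Spec (CommRingCat.of k))

theorem res_comp_secMap {V' V : X.Opens} (h : V' ≤ V) :
    (X.presheaf.map (homOfLE h).op).hom.comp (secMap k sX V) = secMap k sX V' := by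
  ext c
  unfold secMap
  simp only [RingHom.comp_apply]
  exact res_res h le_top _

theorem res_eval₂Hom {V' V : X.Opens} (h : V' ≤ V) (y : Fin 2 → Γ(X, V))
    (a : MvPolynomial (Fin 2) k) :
    (X.presheaf.map (homOfLE h).op).hom (MvPolynomial.eval₂Hom (secMap k sX V) y a) =
      MvPolynomial.eval₂Hom (secMap k sX V')
        (fun l => (X.presheaf.map (homOfLE h).op).hom (y l)) a := by
  rw [← res_comp_secMap k sX h]
  have := MvPolynomial.comp_eval₂Hom (secMap k sX V) y (X.presheaf.map (homOfLE h).op).hom
  rw [← this]
  rfl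

/-- a chart morphism is a morphism over `k` -/
theorem chartHom_toSpec (V : X.Opens) (y : Fin 2 → Γ(X, V)) (i : Fin 2)
    (hu : IsUnit (MvPolynomial.eval₂Hom (secMap k sX V) y (MvPolynomial.X i))) :
    chartHom (CohB1.polyGrading 1 k) V (MvPolynomial.eval₂Hom (secMap k sX V) y)
      (isHomogeneous_X k i) Nat.one_pos hu ≫ CohB1.ProjSpace.toSpec 1 k = V.ι ≫ sX := by
  rw [ι_comp_eq_toSpecΓ_comp sX V]
  unfold CohB1.ProjSpace.toSpec
  have hz := chartHom_toSpecZero (CohB1.polyGrading 1 k) V
    (MvPolynomial.eval₂Hom (secMap k sX V) y) (isHomogeneous_X k i) Nat.one_pos hu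
  erw [reassoc_of% hz]
  rw [← Spec.map_comp]
  congr 2
  ext r
  change MvPolynomial.eval₂Hom (secMap k sX V) y (MvPolynomial.C r) = _
  rw [MvPolynomial.coe_eval₂Hom, MvPolynomial.eval₂_C]
  rfl

variable {P : Type u} (U : X.Opens) (W : P → X.Opens) (t : Γ(X, U)) (σ : ∀ p, Γ(X, W p))

/-- **gluing**: the maps `[1 : t]` on `U` and `[σ p : 1]` on `W p` glue to a morphism to `ℙ¹` -/
theorem exists_glued_P1 (hcov : ∀ x : X, x ∈ U ∨ ∃ p, x ∈ W p)
    (hrel : ∀ p, (X.presheaf.map (homOfLE (inf_le_right : U ⊓ W p ≤ W p)).op).hom (σ p) *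
      (X.presheaf.map (homOfLE (inf_le_left : U ⊓ W p ≤ U)).op).hom t = 1)
    (hpq : ∀ p q, (X.presheaf.map (homOfLE (inf_le_left : W p ⊓ W q ≤ W p)).op).hom (σ p) =
      (X.presheaf.map (homOfLE (inf_le_right : W p ⊓ W q ≤ W q)).op).hom (σ q)) :
    ∃ g : X ⟶ CohB1.ProjSpace 1 k, U.ι ≫ g = toP1 k sX U t ∧
      g ≫ CohB1.ProjSpace.toSpec 1 k = sX := by
  have hV : IsOpenCover (cov U W) := by
    rw [IsOpenCover, eq_top_iff]
    intro x _
    rcases hcov x with hx | ⟨p, hx⟩
    · exact Opens.mem_iSup.mpr ⟨none, hx⟩
    · exact Opens.mem_iSup.mpr ⟨some p, hx⟩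
  let φ : ∀ i : Option P, MvPolynomial (Fin 2) k →+* Γ(X, cov U W i) := fun i =>
    MvPolynomial.eval₂Hom (secMap k sX (cov U W i)) (yfun U W t σ i)
  have hφX : ∀ i l, φ i (MvPolynomial.X l) = yfun U W t σ i l := fun i l => MvPolynomial.eval₂Hom_X' _ _ _
  have h1 : ∀ i, φ i (MvPolynomial.X (ell i)) = 1 := fun i => by rw [hφX, yfun_ell]
  -- the relation between the coordinates
  have hK : ∀ (i j : Option P) (l : Fin 2),
      (X.presheaf.map (homOfLE (inf_le_left : cov U W i ⊓ cov U W j ≤ cov U W i)).op).hom
        (yfun U W t σ i l) =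
      (X.presheaf.map (homOfLE (inf_le_left : cov U W i ⊓ cov U W j ≤ cov U W i)).op).hom
        (yfun U W t σ i (ell j)) *
      (X.presheaf.map (homOfLE (inf_le_right : cov U W i ⊓ cov U W j ≤ cov U W j)).op).hom
        (yfun U W t σ j l) := by
    intro i j l
    cases i with
    | none =>
      cases j with
      | none =>
        change _ = (X.presheaf.map _).hom (yfun U W t σ none 0) * _
        rw [yfun_none_zero, map_one, one_mul]
      | some q =>
        change _ = (X.presheaf.map _).hom (yfun U W t σ none 1) * _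
        rw [yfun_none_one]
        fin_cases l
        · change (X.presheaf.map _).hom (yfun U W t σ none 0) = _ *
            (X.presheaf.map _).hom (yfun U W t σ (some q) 0)
          rw [yfun_none_zero, yfun_some_zero, map_one]
          have := hrel q
          rw [mul_comm] at this
          exact this.symm
        · change (X.presheaf.map _).hom (yfun U W t σ none 1) = _ *
            (X.presheaf.map _).hom (yfun U W t σ (some q) 1)
          rw [yfun_none_one, yfun_some_one, map_one, mul_one]
    | some p =>
      cases j with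
      | none =>
        change _ = (X.presheaf.map _).hom (yfun U W t σ (some p) 0) * _
        rw [yfun_some_zero]
        fin_cases l
        · change (X.presheaf.map _).hom (yfun U W t σ (some p) 0) = _ *
            (X.presheaf.map _).hom (yfun U W t σ none 0)
          rw [yfun_some_zero, yfun_none_zero, map_one, mul_one]
        · change (X.presheaf.map _).hom (yfun U W t σ (some p) 1) = _ *
            (X.presheaf.map _).hom (yfun U W t σ none 1)
          rw [yfun_some_one, yfun_none_one, map_one]
          have h2 := congrArg (X.presheaf.map (homOfLE (show cov U W (some p) ⊓ cov U W none ≤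
            U ⊓ W p from fun x hx => ⟨hx.2, hx.1⟩)).op).hom (hrel p)
          rw [map_mul, map_one, res_res, res_res] at h2
          exact h2.symm
      | some q =>
        change _ = (X.presheaf.map _).hom (yfun U W t σ (some p) 1) * _
        rw [yfun_some_one, map_one, one_mul]
        fin_cases l
        · change (X.presheaf.map _).hom (yfun U W t σ (some p) 0) =
            (X.presheaf.map _).hom (yfun U W t σ (some q) 0)
          rw [yfun_some_zero, yfun_some_zero]
          exact hpq p q
        · change (X.presheaf.map _).hom (yfun U W t σ (some p) 1) =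
            (X.presheaf.map _).hom (yfun U W t σ (some q) 1)
          rw [yfun_some_one, yfun_some_one, map_one, map_one]
  obtain ⟨g, hg⟩ := exists_glued_toProj (CohB1.polyGrading 1 k) (cov U W) hV
    (fun i => MvPolynomial.X (ell i)) (fun i => isHomogeneous_X k (ell i)) φ h1 (by
      intro i j n a ha
      rw [hφX]
      change (X.presheaf.map _).hom (MvPolynomial.eval₂Hom _ _ a) = _ *
        (X.presheaf.map _).hom (MvPolynomial.eval₂Hom _ _ a)
      rw [res_eval₂Hom, res_eval₂Hom, ← eval₂Hom_mul_of_isHomogeneous _ _ _ ha]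
      have hfun : (fun l => (X.presheaf.map (homOfLE (inf_le_left :
          cov U W i ⊓ cov U W j ≤ cov U W i)).op).hom (yfun U W t σ i l)) =
          fun l => (X.presheaf.map (homOfLE (inf_le_left :
            cov U W i ⊓ cov U W j ≤ cov U W i)).op).hom (yfun U W t σ i (ell j)) *
          (X.presheaf.map (homOfLE (inf_le_right :
            cov U W i ⊓ cov U W j ≤ cov U W j)).op).hom (yfun U W t σ j l) := funext (hK i j)
      rw [hfun])
  refine ⟨g, hg none, ?_⟩
  refine (X.openCoverOfIsOpenCover (cov U W) hV).hom_ext _ _ fun i => ?_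
  change (cov U W i).ι ≫ g ≫ _ = (cov U W i).ι ≫ sX
  rw [← Category.assoc, hg i]
  exact chartHom_toSpec k sX (cov U W i) (yfun U W t σ i) (ell i) _

end Glue

end Groth.Agent.Lib.Helper21.PC
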