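import Groth.Agent.Lib.Helper21.PC11

/-!
# Projective completion of curves XII: the morphism to `ℙ¹`
-/

set_option autoImplicit false
set_option linter.style.haveILetI false
set_option linter.unusedSectionVars false
universe u
open CategoryTheory CategoryTheory.Limits AlgebraicGeometry TopologicalSpace

namespace Groth.Agent.Lib.Helper21.PC

open Groth.Agent.Lib.Helper21.CurveRiem

variable (k : Type u) [Field k] (X : Scheme.{u}) (sX : X ⟶ Spec (CommRingCat.of k))
  [IsSeparated sX] [LocallyOfFiniteType sX] [QuasiCompact sX]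

/-- a separated scheme of finite type and of dimension `≤ 1` over a field has a morphism to `ℙ¹`
which on a dense affine open with finite complement is given by a power of a "finite" function -/
theorem exists_morphism_P1 (hdim : topologicalKrullDim X ≤ 1) :
    ∃ (U : X.Opens) (t₀ : Γ(X.nilradical.subscheme, X.nilradical.subschemeι ⁻¹ᵁ U))
      (t : Γ(X, U)) (M : ℕ) (g : X ⟶ CohB1.ProjSpace 1 k),
      IsAffineOpen U ∧ Dense (U : Set X) ∧ ((U : Set X)ᶜ).Finite ∧
      (∀ x ∉ U, IsClosed ({x} : Set X)) ∧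
      (Polynomial.eval₂RingHom (secMap k (X.nilradical.subschemeι ≫ sX)
        (X.nilradical.subschemeι ⁻¹ᵁ U)) t₀).Finite ∧
      0 < M ∧ (X.nilradical.subschemeι.app U).hom t = t₀ ^ M ∧
      U.ι ≫ g = toP1 k sX U t ∧ g ≫ CohB1.ProjSpace.toSpec 1 k = sX := by
  obtain ⟨U, N, t₀, σ₀, hU, hd, hcov, hfin, hcl, ht₀, hmul, hbo⟩ := exists_data k X sX hdim
  obtain ⟨t₁, ht₁⟩ := app_surjective X U hU t₀
  let P : Type u := {p : X // p ∉ U}
  haveI : Finite P := hfin.to_subtype
  have hpN : ∀ p : P, p.1 ∈ N := by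
    intro p
    have h : p.1 ∈ U ⊔ N := by rw [hcov]; trivial
    rcases h with h | h
    · exact absurd h p.2
    · exact h
  choose W hW hpW hWp M₀ hM₀ using fun p : P =>
    exists_local_inverse X U N t₀ σ₀ hfin hcl hmul hbo t₁ ht₁ p.1 p.2 (hpN p)
  letI := Fintype.ofFinite P
  have hM : ∀ p, M₀ p ≤ max 1 (Finset.univ.sup M₀) := fun p =>
    (Finset.le_sup (Finset.mem_univ p)).trans (le_max_right _ _)
  choose σ hσ using fun p => hM₀ p (max 1 (Finset.univ.sup M₀)) (hM p)
  have hrel : ∀ p, (X.presheaf.map (homOfLE (inf_le_right : U ⊓ W p ≤ W p)).op).hom (σ p) *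
      (X.presheaf.map (homOfLE (inf_le_left : U ⊓ W p ≤ U)).op).hom
        (t₁ ^ max 1 (Finset.univ.sup M₀)) = 1 := by
    intro p
    rw [map_pow]
    exact hσ p
  have hpq : ∀ p q, (X.presheaf.map (homOfLE (inf_le_left : W p ⊓ W q ≤ W p)).op).hom (σ p) =
      (X.presheaf.map (homOfLE (inf_le_right : W p ⊓ W q ≤ W q)).op).hom (σ q) := by
    intro p q
    by_cases hpq : p = q
    · subst hpq
      rfl
    · have hle : W p ⊓ W q ≤ U := by
        intro x hx
        by_contra hxU
        exact hpq (Subtype.ext ((hWp p x hx.1 hxU).symm.trans (hWp q x hx.2 hxU)))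
      have e1 := congrArg (X.presheaf.map (homOfLE (show W p ⊓ W q ≤ U ⊓ W p from
        le_inf hle inf_le_left)).op).hom (hσ p)
      have e2 := congrArg (X.presheaf.map (homOfLE (show W p ⊓ W q ≤ U ⊓ W q from
        le_inf hle inf_le_right)).op).hom (hσ q)
      rw [map_mul, map_pow, map_one, res_res, res_res] at e1 e2
      calc (X.presheaf.map (homOfLE (inf_le_left : W p ⊓ W q ≤ W p)).op).hom (σ p)
          = (X.presheaf.map (homOfLE (inf_le_left : W p ⊓ W q ≤ W p)).op).hom (σ p) *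
            ((X.presheaf.map (homOfLE (inf_le_right : W p ⊓ W q ≤ W q)).op).hom (σ q) *
              (X.presheaf.map (homOfLE hle).op).hom t₁ ^ max 1 (Finset.univ.sup M₀)) := by
            rw [e2, mul_one]
        _ = (X.presheaf.map (homOfLE (inf_le_right : W p ⊓ W q ≤ W q)).op).hom (σ q) *
            ((X.presheaf.map (homOfLE (inf_le_left : W p ⊓ W q ≤ W p)).op).hom (σ p) *
              (X.presheaf.map (homOfLE hle).op).hom t₁ ^ max 1 (Finset.univ.sup M₀)) := by
            ring
        _ = _ := by rw [e1, mul_one]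
  have hcov' : ∀ x : X, x ∈ U ∨ ∃ p, x ∈ W p := by
    intro x
    by_cases hx : x ∈ U
    · exact Or.inl hx
    · exact Or.inr ⟨⟨x, hx⟩, hpW ⟨x, hx⟩⟩
  obtain ⟨g, hg1, hg2⟩ := exists_glued_P1 k sX U W (t₁ ^ max 1 (Finset.univ.sup M₀)) σ
    hcov' hrel hpq
  refine ⟨U, t₀, t₁ ^ max 1 (Finset.univ.sup M₀), max 1 (Finset.univ.sup M₀), g, hU, hd, hfin,
    hcl, ht₀, lt_of_lt_of_le Nat.one_pos (le_max_left _ _), ?_, hg1, hg2⟩
  rw [map_pow, ht₁]

end Groth.Agent.Lib.Helper21.PC
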