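import Groth.Agent.Lib.Helper21.PC12

/-!
# Projective completion of curves XIII: the morphism to `ℙ¹` is quasi-finite
-/

set_option autoImplicit false
set_option linter.style.haveILetI false
set_option linter.unusedSectionVars false
universe u
open CategoryTheory CategoryTheory.Limits AlgebraicGeometry TopologicalSpace
open HomogeneousLocalization Groth.Agent.Lib.Helper29.QCoh

namespace Groth.Agent.Lib.Helper21.PC

open Groth.Agent.Lib.Helper21.CurveRiem

section Chart
variable {R A : Type u} [CommRing R] [CommRing A] [Algebra R A] (𝒜 : ℕ → Submodule R A)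
  [GradedAlgebra 𝒜]

theorem morphismRestrict_chartHom {X Y : Scheme.{u}} (f : Y ⟶ X) (V : X.Opens)
    (φ : A →+* Γ(X, V)) {a : A} {d : ℕ} (hf : a ∈ 𝒜 d) (hd : 0 < d) (hu : IsUnit (φ a)) :
    (f ∣_ V) ≫ chartHom 𝒜 V φ hf hd hu =
      chartHom 𝒜 (f ⁻¹ᵁ V) ((f.app V).hom.comp φ) hf hd (hu.map (f.app V).hom) := by
  unfold chartHom
  rw [← Scheme.Opens.toSpecΓ_naturality_assoc, ← Spec.map_comp_assoc]
  congr 3
  ext b
  exact congrArg (fun ψ => ψ b) (comp_awayLift 𝒜 (f.app V).hom φ a hu)

end Chart

section Sec
variable (k : Type u) [Field k] {X Y : Scheme.{u}} (sX : X ⟶ Spec (CommRingCat.of k))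

theorem app_comp_secMap (f : Y ⟶ X) (V : X.Opens) :
    (f.app V).hom.comp (secMap k sX V) = secMap k (f ≫ sX) (f ⁻¹ᵁ V) := by
  ext c
  unfold secMap Coh.toGlobal
  simp only [RingHom.comp_apply]
  rw [app_res' f (le_top : V ≤ ⊤)]
  rw [Scheme.Hom.comp_appTop]
  rfl

theorem app_comp_eval₂ (f : Y ⟶ X) (V : X.Opens) (t : Γ(X, V)) :
    (f.app V).hom.comp (Polynomial.eval₂RingHom (secMap k sX V) t) =
      Polynomial.eval₂RingHom (secMap k (f ≫ sX) (f ⁻¹ᵁ V)) ((f.app V).hom t) := by
  apply Polynomial.ringHom_ext
  · intro c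
    rw [RingHom.comp_apply, Polynomial.coe_eval₂RingHom, Polynomial.eval₂_C,
      Polynomial.coe_eval₂RingHom, Polynomial.eval₂_C, ← app_comp_secMap]
    rfl
  · rw [RingHom.comp_apply, Polynomial.coe_eval₂RingHom, Polynomial.eval₂_X,
      Polynomial.coe_eval₂RingHom, Polynomial.eval₂_X]

end Sec

section Expand
variable (k : Type u) [CommRing k]

theorem isIntegral_expand (M : ℕ) (hM : 0 < M) :
    (Polynomial.expand k M : Polynomial k →+* Polynomial k).IsIntegral := by
  intro p
  induction p using Polynomial.induction_on with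
  | C a =>
    have : (Polynomial.expand k M : Polynomial k →+* Polynomial k) (Polynomial.C a) =
      Polynomial.C a := Polynomial.expand_C M a
    rw [← this]
    exact RingHom.isIntegralElem_map _
  | add p q hp hq => exact RingHom.IsIntegralElem.add _ hp hq
  | monomial n a h =>
    have hX : (Polynomial.expand k M : Polynomial k →+* Polynomial k).IsIntegralElem
        Polynomial.X := by
      have h1 : (Polynomial.expand k M : Polynomial k →+* Polynomial k).IsIntegralElem
          (Polynomial.X ^ M) := by
        have : (Polynomial.expand k M : Polynomial k →+* Polynomial k) Polynomial.X =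
          Polynomial.X ^ M := Polynomial.expand_X M
        rw [← this]
        exact RingHom.isIntegralElem_map _
      letI := (Polynomial.expand k M : Polynomial k →+* Polynomial k).toAlgebra
      exact IsIntegral.of_pow hM h1
    have hC : (Polynomial.expand k M : Polynomial k →+* Polynomial k).IsIntegralElem
        (Polynomial.C a) := by
      have : (Polynomial.expand k M : Polynomial k →+* Polynomial k) (Polynomial.C a) =
        Polynomial.C a := Polynomial.expand_C M a
      rw [← this]
      exact RingHom.isIntegralElem_map _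
    letI := (Polynomial.expand k M : Polynomial k →+* Polynomial k).toAlgebra
    exact IsIntegral.mul hC (IsIntegral.pow hX _)

theorem finite_expand (M : ℕ) (hM : 0 < M) :
    (Polynomial.expand k M : Polynomial k →+* Polynomial k).Finite := by
  refine RingHom.IsIntegral.to_finite (isIntegral_expand k M hM) ?_
  have h1 : ((Polynomial.expand k M : Polynomial k →+* Polynomial k).comp
      (Polynomial.C : k →+* Polynomial k)).FiniteType := by
    have : (Polynomial.expand k M : Polynomial k →+* Polynomial k).comp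
        (Polynomial.C : k →+* Polynomial k) = algebraMap k (Polynomial k) := by
      ext c
      simp
    rw [this]
    exact RingHom.finiteType_algebraMap.mpr inferInstance
  exact RingHom.FiniteType.of_comp_finiteType h1

theorem finite_eval₂_pow {B : Type u} [CommRing B] (c : k →+* B) (b : B) (M : ℕ) (hM : 0 < M)
    (h : (Polynomial.eval₂RingHom c b).Finite) : (Polynomial.eval₂RingHom c (b ^ M)).Finite := by
  have : Polynomial.eval₂RingHom c (b ^ M) = (Polynomial.eval₂RingHom c b).comp
      (Polynomial.expand k M : Polynomial k →+* Polynomial k) := by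
    apply Polynomial.ringHom_ext
    · intro r
      simp
    · simp
  rw [this]
  exact h.comp (finite_expand k M hM)

end Expand

section LQF
variable (k : Type u) [Field k] (X : Scheme.{u}) (sX : X ⟶ Spec (CommRingCat.of k))
  [LocallyOfFiniteType sX]

open MvPolynomial in
theorem finite_awayLift_red (U : X.Opens) (t : Γ(X, U))
    (t₀ : Γ(X.nilradical.subscheme, X.nilradical.subschemeι ⁻¹ᵁ U)) (M : ℕ) (hM : 0 < M)
    (ht : (X.nilradical.subschemeι.app U).hom t = t₀ ^ M)
    (hfin : (Polynomial.eval₂RingHom (secMap k (X.nilradical.subschemeι ≫ sX)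
        (X.nilradical.subschemeι ⁻¹ᵁ U)) t₀).Finite) :
    (awayLift (CohB1.polyGrading 1 k)
      ((X.nilradical.subschemeι.app U).hom.comp (polyMap k sX U t)) (MvPolynomial.X 0)
      ((isUnit_polyMap_X0 k X sX U t).map (X.nilradical.subschemeι.app U).hom)).Finite := by
  rw [← comp_awayLift (CohB1.polyGrading 1 k) (X.nilradical.subschemeι.app U).hom (polyMap k sX U t)
    (MvPolynomial.X 0) (isUnit_polyMap_X0 k X sX U t), awayLift_polyMap_eq, ← RingHom.comp_assoc,
    app_comp_eval₂, ht]
  refine (finite_eval₂_pow k _ t₀ M hM hfin).comp ?_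
  exact RingHom.Finite.of_surjective _ (P1.chartEquiv k 0).surjective

open MvPolynomial in
theorem locallyQuasiFinite_toP1 (U : X.Opens) (hU : IsAffineOpen U) (t : Γ(X, U))
    (t₀ : Γ(X.nilradical.subscheme, X.nilradical.subschemeι ⁻¹ᵁ U)) (M : ℕ) (hM : 0 < M)
    (ht : (X.nilradical.subschemeι.app U).hom t = t₀ ^ M)
    (hfin : (Polynomial.eval₂RingHom (secMap k (X.nilradical.subschemeι ≫ sX)
        (X.nilradical.subschemeι ⁻¹ᵁ U)) t₀).Finite) :
    LocallyQuasiFinite (toP1 k sX U t) := by
  haveI : LocallyOfFiniteType (toP1 k sX U t) := by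
    haveI : LocallyOfFiniteType (toP1 k sX U t ≫ CohB1.ProjSpace.toSpec 1 k) := by
      rw [toP1_toSpec]; infer_instance
    exact locallyOfFiniteType_of_comp _ (CohB1.ProjSpace.toSpec 1 k)
  apply LocallyQuasiFinite.of_finite_preimage_singleton
  intro y
  have hr := morphismRestrict_chartHom (CohB1.polyGrading 1 k) X.nilradical.subschemeι U
    (polyMap k sX U t) (isHomogeneous_X k 0) Nat.one_pos (isUnit_polyMap_X0 k X sX U t)
  have hρ := finite_awayLift_red k X sX U t t₀ M hM ht hfin
  have hU' : IsAffineOpen (X.nilradical.subschemeι ⁻¹ᵁ U) := hU.preimage _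
  haveI : IsIso (X.nilradical.subschemeι ⁻¹ᵁ U).toSpecΓ := by
    rw [← hU'.isoSpec_hom]; infer_instance
  haveI : IsFinite (Spec.map (CommRingCat.ofHom (awayLift (CohB1.polyGrading 1 k)
      ((X.nilradical.subschemeι.app U).hom.comp (polyMap k sX U t)) (MvPolynomial.X 0)
      ((isUnit_polyMap_X0 k X sX U t).map (X.nilradical.subschemeι.app U).hom)))) := by
    rw [IsFinite.SpecMap_iff]
    exact hρ
  have hfib : ((chartHom (CohB1.polyGrading 1 k) (X.nilradical.subschemeι ⁻¹ᵁ U)
      ((X.nilradical.subschemeι.app U).hom.comp (polyMap k sX U t)) (isHomogeneous_X k 0)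
      Nat.one_pos ((isUnit_polyMap_X0 k X sX U t).map (X.nilradical.subschemeι.app U).hom)) ⁻¹'
      {y}).Finite := by
    unfold chartHom
    haveI hq : QuasiCompact (Proj.awayι (CohB1.polyGrading 1 k) (MvPolynomial.X 0)
        (isHomogeneous_X k 0) Nat.one_pos) := by
      haveI : QuasiCompact (Proj.awayι (CohB1.polyGrading 1 k) (MvPolynomial.X 0)
        (isHomogeneous_X k 0) Nat.one_pos ≫ Proj.toSpecZero (CohB1.polyGrading 1 k)) := by
        rw [Proj.awayι_toSpecZero]; infer_instance
      exact QuasiCompact.of_comp _ (Proj.toSpecZero (CohB1.polyGrading 1 k))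
    haveI h1 : LocallyQuasiFinite (Spec.map (CommRingCat.ofHom (awayLift (CohB1.polyGrading 1 k)
      ((X.nilradical.subschemeι.app U).hom.comp (polyMap k sX U t)) (MvPolynomial.X 0)
      ((isUnit_polyMap_X0 k X sX U t).map (X.nilradical.subschemeι.app U).hom)))) :=
      inferInstance
    haveI h2 : LocallyQuasiFinite (Proj.awayι (CohB1.polyGrading 1 k) (MvPolynomial.X 0)
        (isHomogeneous_X k 0) Nat.one_pos) := inferInstance
    haveI h3 : LocallyQuasiFinite (X.nilradical.subschemeι ⁻¹ᵁ U).toSpecΓ := inferInstance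
    haveI h4 := MorphismProperty.comp_mem _ _ _ h1 h2
    haveI h5 := MorphismProperty.comp_mem _ _ _ h3 h4
    haveI q1 : QuasiCompact (Spec.map (CommRingCat.ofHom (awayLift (CohB1.polyGrading 1 k)
      ((X.nilradical.subschemeι.app U).hom.comp (polyMap k sX U t)) (MvPolynomial.X 0)
      ((isUnit_polyMap_X0 k X sX U t).map (X.nilradical.subschemeι.app U).hom)))) :=
      inferInstance
    haveI q3 : QuasiCompact (X.nilradical.subschemeι ⁻¹ᵁ U).toSpecΓ := inferInstance
    haveI q4 := MorphismProperty.comp_mem _ _ _ q1 hq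
    haveI q5 := MorphismProperty.comp_mem _ _ _ q3 q4
    exact @Scheme.Hom.finite_preimage_singleton _ _ _ h5 q5 y
  rw [← hr] at hfib
  haveI : Surjective (X.nilradical.subschemeι ∣_ U) :=
    MorphismProperty.of_isPullback (P := @Surjective)
      (isPullback_morphismRestrict X.nilradical.subschemeι U).flip inferInstance
  refine (hfib.image (X.nilradical.subschemeι ∣_ U)).subset ?_
  intro x hx
  obtain ⟨z, rfl⟩ := (X.nilradical.subschemeι ∣_ U).surjective x
  exact ⟨z, hx, rfl⟩

end LQF

end Groth.Agent.Lib.Helper21.PC
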