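import Groth.Agent.Lib.Helper21.PC13
import Groth.Agent.Lib.Helper21.QfCodim4
import Groth.Agent.Lib.Helper21.CurveH0a
import Groth.Agent.Lib.Helper18.JacDim1
import Groth.Agent.S10829

/-!
# Projective completion of curves XIV: a quasi-finite morphism to `ℙ¹`
-/

set_option autoImplicit false
set_option linter.style.haveILetI false
set_option linter.unusedSectionVars false
universe u
open CategoryTheory CategoryTheory.Limits AlgebraicGeometry TopologicalSpace

namespace Groth.Agent.Lib.Helper21.PC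

open Groth.Agent.Lib.Helper21.CurveRiem

variable (k : Type u) [Field k] (X : Scheme.{u}) (sX : X ⟶ Spec (CommRingCat.of k))
  [IsSeparated sX] [LocallyOfFiniteType sX] [QuasiCompact sX]

/-- a separated scheme of finite type and of dimension `≤ 1` over a field has a quasi-finite
morphism to `ℙ¹` -/
theorem exists_quasiFinite_P1 (hdim : topologicalKrullDim X ≤ 1) :
    ∃ g : X ⟶ CohB1.ProjSpace 1 k, g ≫ CohB1.ProjSpace.toSpec 1 k = sX ∧
      LocallyQuasiFinite g := by
  obtain ⟨U, t₀, t, M, g, hU, hd, hfin, hcl, ht₀, hM, ht, hg1, hg2⟩ :=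
    exists_morphism_P1 k X sX hdim
  haveI : LocallyOfFiniteType g := by
    haveI : LocallyOfFiniteType (g ≫ CohB1.ProjSpace.toSpec 1 k) := by rw [hg2]; infer_instance
    exact locallyOfFiniteType_of_comp g (CohB1.ProjSpace.toSpec 1 k)
  refine ⟨g, hg2, ?_⟩
  haveI : LocallyQuasiFinite (U.ι ≫ g) := by
    rw [hg1]
    exact locallyQuasiFinite_toP1 k X sX U hU t t₀ M hM ht ht₀
  have hUq : ∀ x ∈ U, g.QuasiFiniteAt x := fun x hx => by
    have := (U.ι ≫ g).quasiFiniteAt ⟨x, hx⟩
    rwa [Scheme.Hom.quasiFiniteAt_comp_iff_of_isOpenImmersion] at this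
  haveI : IsLocallyNoetherian X := LocallyOfFiniteType.isLocallyNoetherian sX
  have hgen : ∀ Z ∈ irreducibleComponents (X : Type u), ∀ η : X, IsGenericPoint η Z →
      g.QuasiFiniteAt η := fun Z hZ η hη =>
    hUq η (Groth.Agent.Lib.Helper18.JacDim.genericPoint_mem_of_dense Z hZ η hη U U.isOpen hd)
  haveI hprop : IsProper (CohB1.ProjSpace.toSpec 1 k) := Groth.Agent.S9705.isProper_toSpec 1 k
  haveI : IsLocallyNoetherian (CohB1.ProjSpace 1 k) :=
    LocallyOfFiniteType.isLocallyNoetherian (CohB1.ProjSpace.toSpec 1 k)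
  rw [← Scheme.Hom.quasiFiniteLocus_eq_top_iff, eq_top_iff]
  intro x _
  change g.QuasiFiniteAt x
  refine Groth.Agent.Lib.Helper21.QfCodim.quasiFiniteAt_of_fibre g hgen x ?_
  refine (Groth.Agent.Lib.Helper21.CurveH0.ringKrullDim_stalk_le _ _).trans ?_
  rw [Groth.Agent.S10829.result k 1]
  rfl

end Groth.Agent.Lib.Helper21.PC
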