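import Groth.Agent.Lib.Helper21.ChartPt3
import Groth.Agent.Lib.Helper18.JacDim1

/-!
# Projective completion of curves XVI: the boundary of a dense open curve
-/

set_option autoImplicit false
set_option linter.style.haveILetI false
set_option linter.unusedSectionVars false
universe u
open CategoryTheory CategoryTheory.Limits AlgebraicGeometry TopologicalSpace

namespace Groth.Agent.Lib.Helper21.PC

open Groth.Agent.Lib.Helper21.NagDvr Groth.Agent.Lib.Helper20.DimTrdeg
  Groth.Agent.Lib.Helper21.ChartPt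

section Closed
variable (k : Type u) [Field k] (Y : Scheme.{u}) [Y.Over (Spec (CommRingCat.of k))]
  [LocallyOfFiniteType (Y ↘ Spec (CommRingCat.of k))]

include k in
/-- a point whose prime ideal in an affine chart is maximal is closed -/
theorem isClosed_singleton_of_isMaximal {W : Y.Opens} (hW : IsAffineOpen W) (y : Y) (hy : y ∈ W)
    (hmax : (hW.primeIdealOf ⟨y, hy⟩).asIdeal.IsMaximal) : IsClosed ({y} : Set Y) := by
  haveI : JacobsonSpace Y := LocallyOfFiniteType.jacobsonSpace (Y ↘ Spec (CommRingCat.of k))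
  have hcl : IsClosed ({(⟨y, hy⟩ : W)} : Set W) := by
    rw [← closure_subset_iff_isClosed]
    intro z hz
    have hsp : (⟨y, hy⟩ : W) ⤳ z := specializes_iff_mem_closure.mpr hz
    have hsp' : (y : Y) ⤳ (z.1 : Y) := (subtype_specializes_iff _ _).mp hsp
    have hle := (specializes_iff_primeIdealOf_le hW ⟨y, hy⟩ z).mp hsp'
    have heq : hW.primeIdealOf ⟨y, hy⟩ = hW.primeIdealOf z :=
      PrimeSpectrum.ext (hmax.eq_of_le (hW.primeIdealOf z).2.ne_top hle)
    exact (primeIdealOf_injective hW heq).symm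
  have h1 : (⟨y, hy⟩ : W) ∈ closedPoints W := mem_closedPoints_iff.mpr hcl
  have h2 : (⟨y, hy⟩ : W) ∈ W.ι ⁻¹' closedPoints Y := by
    rw [W.ι.isOpenEmbedding.preimage_closedPoints]
    exact h1
  exact mem_closedPoints_iff.mp h2

include k in
/-- a proper specialisation of a point of an open of dimension `≤ 1` is a closed point -/
theorem isClosed_singleton_of_specializes (X' : Y.Opens)
    (hdim : topologicalKrullDim (X' : Set Y) ≤ 1) {η y : Y} (hη : η ∈ X') (hsp : η ⤳ y)
    (hne : η ≠ y) : IsClosed ({y} : Set Y) := by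
  obtain ⟨_, ⟨W', hW', rfl⟩, hηW', hW'X'⟩ :=
    Y.isBasis_affineOpens.exists_subset_of_mem_open hη X'.isOpen
  have hW' : IsAffineOpen W' := hW'
  obtain ⟨_, ⟨W, hW, rfl⟩, hyW, -⟩ :=
    Y.isBasis_affineOpens.exists_subset_of_mem_open (Set.mem_univ y) isOpen_univ
  have hW : IsAffineOpen W := hW
  have hyW : y ∈ W := hyW
  have hηW : η ∈ W := hsp.mem_open W.isOpen hyW
  obtain ⟨s, hs1, hs2⟩ := exists_nat_trdeg_eq_and_dim_quotient k Y hW' η hηW'
  obtain ⟨s', hs1', hs2'⟩ := exists_nat_trdeg_eq_and_dim_quotient k Y hW η hηW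
  have hss : s = s' := by exact_mod_cast (hs1.symm.trans hs1')
  have h1 : ((s : ℕ) : WithBot ℕ∞) ≤ 1 := by
    rw [← hs2]
    calc ringKrullDim (Γ(Y, W') ⧸ (hW'.primeIdealOf ⟨η, hηW'⟩).asIdeal)
        ≤ ringKrullDim Γ(Y, W') := ringKrullDim_quotient_le _
      _ = topologicalKrullDim (W' : Set Y) := (topologicalKrullDim_opens_eq W' hW').symm
      _ ≤ topologicalKrullDim (X' : Set Y) :=
          (Topology.IsEmbedding.inclusion hW'X').isInducing.topologicalKrullDim_le
      _ ≤ 1 := hdim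
  have hdimA : Ring.KrullDimLE 1 (Γ(Y, W) ⧸ (hW.primeIdealOf ⟨η, hηW⟩).asIdeal) :=
    Ring.krullDimLE_iff.mpr (by rw [hs2', ← hss]; exact h1)
  have hle := (specializes_iff_primeIdealOf_le hW ⟨η, hηW⟩ ⟨y, hyW⟩).mp hsp
  have hsurj : Function.Surjective (Ideal.Quotient.mk (hW.primeIdealOf ⟨η, hηW⟩).asIdeal) :=
    Ideal.Quotient.mk_surjective
  have hker : RingHom.ker (Ideal.Quotient.mk (hW.primeIdealOf ⟨η, hηW⟩).asIdeal) ≤
      (hW.primeIdealOf ⟨y, hyW⟩).asIdeal := by
    rw [Ideal.mk_ker]; exact hle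
  have hIprime : ((hW.primeIdealOf ⟨y, hyW⟩).asIdeal.map
      (Ideal.Quotient.mk (hW.primeIdealOf ⟨η, hηW⟩).asIdeal)).IsPrime :=
    Ideal.map_isPrime_of_surjective hsurj hker
  have hcm : ((hW.primeIdealOf ⟨y, hyW⟩).asIdeal.map
      (Ideal.Quotient.mk (hW.primeIdealOf ⟨η, hηW⟩).asIdeal)).comap
      (Ideal.Quotient.mk (hW.primeIdealOf ⟨η, hηW⟩).asIdeal) =
      (hW.primeIdealOf ⟨y, hyW⟩).asIdeal := by
    rw [Ideal.comap_map_of_surjective' _ hsurj]
    exact sup_eq_left.mpr hker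
  have hI : (hW.primeIdealOf ⟨y, hyW⟩).asIdeal.map
      (Ideal.Quotient.mk (hW.primeIdealOf ⟨η, hηW⟩).asIdeal) ≠ ⊥ := by
    intro hI
    have hle' : (hW.primeIdealOf ⟨y, hyW⟩).asIdeal ≤ (hW.primeIdealOf ⟨η, hηW⟩).asIdeal := by
      have := (Ideal.map_eq_bot_iff_le_ker _).mp hI
      rwa [Ideal.mk_ker] at this
    have heq : hW.primeIdealOf ⟨y, hyW⟩ = hW.primeIdealOf ⟨η, hηW⟩ :=
      PrimeSpectrum.ext (le_antisymm hle' hle)
    exact hne (congrArg Subtype.val (primeIdealOf_injective hW heq)).symm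
  have hImax := Ideal.IsPrime.isMaximal_of_ne_bot hIprime hI
  have hymax : (hW.primeIdealOf ⟨y, hyW⟩).asIdeal.IsMaximal := by
    rw [← hcm]
    exact Ideal.comap_isMaximal_of_surjective _ hsurj
  exact isClosed_singleton_of_isMaximal k Y hW y hyW hymax

include k in
/-- **the boundary of a dense open curve** consists of finitely many closed points -/
theorem finite_compl_and_isClosed [QuasiCompact (Y ↘ Spec (CommRingCat.of k))] (X' : Y.Opens)
    (hd : Dense (X' : Set Y)) (hdim : topologicalKrullDim (X' : Set Y) ≤ 1) :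
    ((X' : Set Y)ᶜ).Finite ∧ ∀ y ∉ X', IsClosed ({y} : Set Y) := by
  haveI : IsLocallyNoetherian Y :=
    LocallyOfFiniteType.isLocallyNoetherian (Y ↘ Spec (CommRingCat.of k))
  haveI : CompactSpace Y :=
    QuasiCompact.compactSpace_of_compactSpace (Y ↘ Spec (CommRingCat.of k))
  haveI : IsNoetherian Y := { }
  have hcl : ∀ y ∉ X', IsClosed ({y} : Set Y) := by
    intro y hy
    obtain ⟨Z, hZ, hyZ⟩ := exists_mem_irreducibleComponents_subset_of_isIrreducible
      ({y} : Set Y) isIrreducible_singleton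
    have hZc : IsClosed Z := isClosed_of_mem_irreducibleComponents Z hZ
    have hη : IsGenericPoint hZ.1.genericPoint Z := hZ.1.isGenericPoint_genericPoint hZc
    have hηX' : hZ.1.genericPoint ∈ X' :=
      Groth.Agent.Lib.Helper18.JacDim.genericPoint_mem_of_dense Z hZ _ hη X' X'.isOpen hd
    have hsp : hZ.1.genericPoint ⤳ y := hη.specializes (hyZ rfl)
    have hne : hZ.1.genericPoint ≠ y := fun h => hy (h ▸ hηX')
    exact isClosed_singleton_of_specializes k Y X' hdim hηX' hsp hne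
  refine ⟨?_, hcl⟩
  have hC : IsClosed ((X' : Set Y)ᶜ) := X'.isOpen.isClosed_compl
  obtain ⟨S, hSf, hSc, hSi, hSU⟩ := NoetherianSpace.exists_finite_set_isClosed_irreducible hC
  rw [hSU]
  refine Set.Finite.sUnion hSf fun t ht => ?_
  have hη : IsGenericPoint (hSi t ht).genericPoint t :=
    (hSi t ht).isGenericPoint_genericPoint (hSc t ht)
  have hmem : (hSi t ht).genericPoint ∈ (X' : Set Y)ᶜ := by
    rw [hSU]
    exact ⟨t, ht, hη.mem⟩
  have hclη := hcl _ hmem
  have : t = {(hSi t ht).genericPoint} := hη.def.symm.trans hclη.closure_eq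
  exact this ▸ Set.finite_singleton _

end Closed

end Groth.Agent.Lib.Helper21.PC
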