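import Groth.Agent.Lib.Helper21.PC15
import Groth.Agent.Lib.Helper21.PC16

/-!
# Projective completion of curves XVII: the projective completion
-/

set_option autoImplicit false
set_option linter.style.haveILetI false
set_option linter.unusedSectionVars false
universe u
open CategoryTheory CategoryTheory.Limits AlgebraicGeometry TopologicalSpace

namespace Groth.Agent.Lib.Helper21.PC

variable (k : Type u) [Field k] (X : Scheme.{u}) (sX : X ⟶ Spec (CommRingCat.of k))
  [IsSeparated sX] [LocallyOfFiniteType sX] [QuasiCompact sX]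

/-- **projective completion** of a separated scheme of finite type and dimension `≤ 1` over a
field -/
theorem exists_projective_completion (hdim : topologicalKrullDim X ≤ 1) :
    ∃ (d : ℕ) (Y : Scheme.{u}) (c : Y ⟶ CohB1.ProjSpace d k) (j : X ⟶ Y),
      IsClosedImmersion c ∧ IsOpenImmersion j ∧
      j ≫ c ≫ CohB1.ProjSpace.toSpec d k = sX ∧ Dense (Set.range j.base) ∧
      IsSchemeTheoreticallyDominant j ∧
      (Set.range j.base)ᶜ.Finite ∧ ∀ y ∈ (Set.range j.base)ᶜ, IsClosed ({y} : Set Y) := by
  obtain ⟨n, i, hi, hqc, his⟩ := exists_immersion k X sX hdim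
  haveI := hi
  haveI := hqc
  haveI hprop : IsProper (CohB1.ProjSpace.toSpec n k) := Groth.Agent.S9705.isProper_toSpec n k
  letI : i.image.Over (Spec (CommRingCat.of k)) := ⟨i.imageι ≫ CohB1.ProjSpace.toSpec n k⟩
  have hov : (i.image ↘ Spec (CommRingCat.of k)) = i.imageι ≫ CohB1.ProjSpace.toSpec n k := rfl
  haveI : LocallyOfFiniteType (i.image ↘ Spec (CommRingCat.of k)) := by
    rw [hov]; infer_instance
  haveI : QuasiCompact (i.image ↘ Spec (CommRingCat.of k)) := by
    rw [hov]; infer_instance
  have hd : Dense (Set.range i.toImage.base) := i.toImage.denseRange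
  have hdim' : topologicalKrullDim ((i.toImage.opensRange : i.image.Opens) : Set i.image) ≤ 1 := by
    have e := i.toImage.isOpenEmbedding.isEmbedding.toHomeomorph
    have h1 := IsHomeomorph.topologicalKrullDim_eq _ e.isHomeomorph
    change topologicalKrullDim ↥(Set.range i.toImage.base) ≤ 1
    rw [← h1]
    exact hdim
  obtain ⟨h1, h2⟩ := finite_compl_and_isClosed k i.image i.toImage.opensRange hd hdim'
  refine ⟨n, i.image, i.imageι, i.toImage, inferInstance, inferInstance, ?_, hd,
    Groth.Agent.Lib.Lead.ToImageDominant.isSchemeTheoreticallyDominant_toImage i, h1,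
    fun y hy => h2 y hy⟩
  rw [← Category.assoc, i.toImage_imageι, his]

end Groth.Agent.Lib.Helper21.PC
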