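import Groth.Agent.Lib.Helper21.PC2
import Groth.Agent.Lib.Helper21.CoheightOne

/-!
# Projective completion of curves XVIII: one-dimensional irreducible closed subsets are components
-/

set_option autoImplicit false
set_option linter.style.haveILetI false
set_option linter.unusedSectionVars false
universe u
open CategoryTheory CategoryTheory.Limits AlgebraicGeometry TopologicalSpace

namespace Groth.Agent.Lib.Helper21.PC

open Groth.Agent.Lib.Helper21.CurveH0

/-- in a scheme of dimension `≤ 1`, an irreducible closed subset with more than one point is an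
irreducible component of dimension one -/
theorem mem_irreducibleComponents_of_not_subsingleton (X : Scheme.{u})
    (hdim : topologicalKrullDim X ≤ 1) (Z : Closeds X) (hirr : IsIrreducible (Z : Set X))
    (hns : ¬ (Z : Set X).Subsingleton) :
    (Z : Set X) ∈ irreducibleComponents (X : Type u) ∧ topologicalKrullDim ↥(Z : Set X) = 1 := by
  have hζ : IsGenericPoint hirr.genericPoint (Z : Set X) :=
    hirr.isGenericPoint_genericPoint Z.isClosed
  obtain ⟨a, haZ, hne⟩ : ∃ a ∈ (Z : Set X), a ≠ hirr.genericPoint := by
    by_contra hcon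
    push Not at hcon
    exact hns fun x hx y hy => (hcon x hx).trans (hcon y hy).symm
  have hsp : hirr.genericPoint ⤳ a := hζ.specializes haZ
  have hncl : ¬ IsClosed ({hirr.genericPoint} : Set X) := by
    intro hcl
    have : a ∈ closure ({hirr.genericPoint} : Set X) := specializes_iff_mem_closure.mp hsp
    rw [hcl.closure_eq] at this
    exact hne this
  haveI : Nonempty X := ⟨a⟩
  have h1 : ((Order.height hirr.genericPoint + Order.coheight hirr.genericPoint : ℕ∞) :
      WithBot ℕ∞) ≤ 1 := by
    rw [← krullDim_eq_topologicalKrullDim,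
      Order.krullDim_eq_iSup_height_add_coheight_of_nonempty] at hdim
    refine le_trans ?_ hdim
    rw [WithBot.coe_le_coe]
    exact le_iSup (fun a : X => Order.height a + Order.coheight a) hirr.genericPoint
  have h2 : Order.height hirr.genericPoint + Order.coheight hirr.genericPoint ≤ 1 := by
    exact_mod_cast h1
  have h3 : 1 ≤ Order.height hirr.genericPoint := by
    rw [Order.one_le_iff_ne_zero, Ne, Order.height_eq_zero, ← isClosed_singleton_iff_isMin]
    exact hncl
  have h4 : Order.coheight hirr.genericPoint = 0 := by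
    by_contra hc
    have h5 : 1 ≤ Order.coheight hirr.genericPoint := Order.one_le_iff_ne_zero.mpr hc
    have h6 : (1 : ℕ∞) + 1 ≤ 1 := (add_le_add h3 h5).trans h2
    exact absurd h6 (by decide)
  have hmax : IsMax hirr.genericPoint := Order.coheight_eq_zero.mp h4
  have hcomp := Groth.Agent.Lib.Helper21.closure_singleton_mem_irreducibleComponents_of_isMax hmax
  rw [hζ.def] at hcomp
  refine ⟨hcomp, le_antisymm ((topologicalKrullDim_subspace_le X (Z : Set X)).trans hdim) ?_⟩
  unfold topologicalKrullDim
  rw [Order.one_le_krullDim_iff]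
  have h1' : (⟨hirr.genericPoint, hζ.mem⟩ : ↥(Z : Set X)) ⤳ (⟨a, haZ⟩ : ↥(Z : Set X)) :=
    Topology.IsInducing.subtypeVal.specializes_iff.mp hsp
  refine ⟨⟨closure {(⟨a, haZ⟩ : ↥(Z : Set X))}, isIrreducible_singleton.closure, isClosed_closure⟩,
    ⟨closure {(⟨hirr.genericPoint, hζ.mem⟩ : ↥(Z : Set X))}, isIrreducible_singleton.closure,
      isClosed_closure⟩, ?_⟩
  rw [SetLike.lt_iff_le_and_exists]
  refine ⟨?_, ⟨hirr.genericPoint, hζ.mem⟩, subset_closure rfl, ?_⟩
  · exact specializes_iff_closure_subset.mp h1'
  · intro hmem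
    have h2 : (⟨a, haZ⟩ : ↥(Z : Set X)) ⤳ ⟨hirr.genericPoint, hζ.mem⟩ :=
      specializes_iff_mem_closure.mpr hmem
    have h3 : a ⤳ hirr.genericPoint := Topology.IsInducing.subtypeVal.specializes_iff.mpr h2
    exact hne (h3.antisymm hsp).eq

end Groth.Agent.Lib.Helper21.PC
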