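import Mathlib

/-!
# Projective completion of curves XIX: commutative algebra of normal boundary points
-/

set_option autoImplicit false
set_option linter.style.haveILetI false
open IsLocalRing Polynomial

namespace Groth.Agent.Lib.Helper21.PC

/-- a Noetherian local ring whose maximal ideal is generated by a nonzerodivisor is a discrete
valuation ring -/
theorem isDVR_of_maximalIdeal_eq_span {R : Type*} [CommRing R] [IsNoetherianRing R]
    [IsLocalRing R] (z : R) (hz : maximalIdeal R = Ideal.span {z})
    (hreg : ∀ a : R, z * a = 0 → a = 0) :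
    ∃ _ : IsDomain R, IsDiscreteValuationRing R := by
  have hregpow : ∀ (n : ℕ) (a : R), z ^ n * a = 0 → a = 0 := by
    intro n
    induction n with
    | zero => intro a ha; simpa using ha
    | succ n ih =>
      intro a ha
      apply hreg
      apply ih
      rw [← mul_assoc, ← pow_succ]; exact ha
  have hpow : ∀ n : ℕ, maximalIdeal R ^ n = Ideal.span {z ^ n} := by
    intro n; rw [hz, Ideal.span_singleton_pow]
  have hfac : ∀ a : R, a ≠ 0 → ∃ (n : ℕ) (u : R), IsUnit u ∧ a = u * z ^ n := by
    intro a ha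
    have hbot : ⨅ i, maximalIdeal R ^ i = ⊥ :=
      Ideal.iInf_pow_eq_bot_of_isLocalRing _ (maximalIdeal.isMaximal R).ne_top
    have hex : ∃ n : ℕ, a ∉ maximalIdeal R ^ n := by
      by_contra hcon
      push Not at hcon
      apply ha
      have : a ∈ ⨅ i, maximalIdeal R ^ i := by
        rw [Ideal.mem_iInf]; exact hcon
      rw [hbot] at this
      exact this
    classical
    let n := Nat.find hex
    have hn : a ∉ maximalIdeal R ^ n := Nat.find_spec hex
    have hn0 : n ≠ 0 := by
      intro h0
      apply hn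
      rw [h0, pow_zero, Ideal.one_eq_top]; trivial
    obtain ⟨m, hm⟩ := Nat.exists_eq_succ_of_ne_zero hn0
    have hmem : a ∈ maximalIdeal R ^ m := by
      by_contra hcon
      have := Nat.find_min' hex hcon
      change n ≤ m at this
      omega
    rw [hpow, Ideal.mem_span_singleton'] at hmem
    obtain ⟨u, hu⟩ := hmem
    refine ⟨m, u, ?_, hu.symm⟩
    by_contra hunit
    have hum : u ∈ maximalIdeal R := (mem_maximalIdeal u).mpr hunit
    rw [hz, Ideal.mem_span_singleton'] at hum
    obtain ⟨v, hv⟩ := hum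
    apply hn
    rw [hm, hpow, Ideal.mem_span_singleton']
    refine ⟨v, ?_⟩
    rw [← hu, ← hv, pow_succ]; ring
  have hdom : NoZeroDivisors R := by
    refine ⟨fun {a b} hab => ?_⟩
    by_contra hcon
    push Not at hcon
    obtain ⟨n, u, hu, rfl⟩ := hfac a hcon.1
    obtain ⟨l, v, hv, rfl⟩ := hfac b hcon.2
    have h1 : z ^ (n + l) * (u * v) = 0 := by
      rw [← hab, pow_add]; ring
    have h2 := hregpow _ _ h1
    exact (hu.mul hv).ne_zero h2
  haveI : IsDomain R := NoZeroDivisors.to_isDomain R
  refine ⟨inferInstance, ?_⟩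
  have hz0 : z ≠ 0 := by
    intro h0
    have := hreg 1 (by rw [h0, zero_mul])
    exact one_ne_zero this
  have hnf : ¬ IsField R := by
    rw [isField_iff_maximalIdeal_eq, hz]
    intro h
    rw [Ideal.span_singleton_eq_bot] at h
    exact hz0 h
  have hprinc : (maximalIdeal R).IsPrincipal := ⟨⟨z, hz⟩⟩
  exact ((IsDiscreteValuationRing.TFAE R hnf).out 0 4).mpr hprinc


theorem isIntegral_of_mul_mem {R S : Type*} [CommRing R] [IsNoetherianRing R] [CommRing S]
    [Algebra R S] (N : Submodule R S) (hN : N.FG) (h1 : (1 : S) ∈ N) (x : S)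
    (hx : ∀ n ∈ N, x * n ∈ N) : IsIntegral R x := by
  have hpow : ∀ i : ℕ, x ^ i ∈ N := by
    intro i
    induction i with
    | zero => simpa using h1
    | succ i ih => rw [pow_succ']; exact hx _ ih
  have hle : Subalgebra.toSubmodule (Algebra.adjoin R {x}) ≤ N := by
    rw [Algebra.adjoin_eq_span, Submodule.span_le]
    intro s hs
    obtain ⟨i, rfl⟩ := Submonoid.mem_closure_singleton.mp hs
    exact hpow i
  haveI : IsNoetherian R N := isNoetherian_of_fg_of_noetherian N hN
  have hfg : (Subalgebra.toSubmodule (Algebra.adjoin R {x})).FG :=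
    isNoetherian_submodule.mp inferInstance _ hle
  exact IsIntegral.of_mem_of_fg _ hfg x (Algebra.subset_adjoin rfl)

theorem isDVR_of_integrallyClosed {R S : Type*} [CommRing R] [IsNoetherianRing R] [IsLocalRing R]
    [CommRing S] [Algebra R S] (π : R) (hπ : π ∈ maximalIdeal R)
    (hunit : IsUnit (algebraMap R S π))
    (hinj : Function.Injective (algebraMap R S))
    (hic : ∀ s : S, IsIntegral R s → s ∈ (algebraMap R S).range)
    (hrad : ∀ P : Ideal R, P.IsPrime → π ∈ P → P = maximalIdeal R) :
    ∃ _ : IsDomain R, IsDiscreteValuationRing R := by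
  have hπreg : ∀ a : R, π * a = 0 → a = 0 := by
    intro a ha
    apply hinj
    rw [map_zero]
    have h1 : algebraMap R S π * algebraMap R S a = 0 := by rw [← map_mul, ha, map_zero]
    exact (hunit.mul_right_eq_zero).mp h1
  have hle : maximalIdeal R ≤ (Ideal.span {π}).radical := by
    rw [Ideal.radical_eq_sInf]
    refine le_sInf fun J hJ => ?_
    have := hrad J hJ.2 (hJ.1 (Ideal.mem_span_singleton_self π))
    rw [this]
  have hex : ∃ n : ℕ, maximalIdeal R ^ n ≤ Ideal.span {π} :=
    Ideal.exists_pow_le_of_le_radical_of_fg hle (IsNoetherian.noetherian _)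
  classical
  let n := Nat.find hex
  have hn : maximalIdeal R ^ n ≤ Ideal.span {π} := Nat.find_spec hex
  have hn0 : n ≠ 0 := by
    intro h0
    rw [h0, pow_zero, Ideal.one_eq_top, top_le_iff, Ideal.span_singleton_eq_top] at hn
    exact (mem_maximalIdeal π).mp hπ hn
  obtain ⟨m, hm⟩ := Nat.exists_eq_succ_of_ne_zero hn0
  have hnot : ¬ maximalIdeal R ^ m ≤ Ideal.span {π} := by
    intro hcon
    have := Nat.find_min' hex hcon
    change n ≤ m at this
    omega
  obtain ⟨y, hym, hyπ⟩ := SetLike.not_le_iff_exists.mp hnot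
  have hymul : ∀ z ∈ maximalIdeal R, ∃ r : R, π * r = y * z := by
    intro z hz
    have h1 : y * z ∈ maximalIdeal R ^ n := by
      rw [hm, pow_succ]
      exact Ideal.mul_mem_mul hym hz
    have h2 := hn h1
    rw [Ideal.mem_span_singleton'] at h2
    obtain ⟨r, hr⟩ := h2
    exact ⟨r, by rw [← hr, mul_comm]⟩
  by_cases hcase : ∃ z ∈ maximalIdeal R, ∃ r : R, π * r = y * z ∧ IsUnit r
  · obtain ⟨z₀, hz₀, r₀, hr₀, hur₀⟩ := hcase
    have hyreg : ∀ a : R, y * a = 0 → a = 0 := by
      intro a ha
      have h1 : π * (r₀ * a) = 0 := by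
        rw [← mul_assoc, hr₀, mul_right_comm, ha, zero_mul]
      have h2 := hπreg _ h1
      exact (hur₀.mul_right_eq_zero).mp h2
    have hz₀reg : ∀ a : R, z₀ * a = 0 → a = 0 := by
      intro a ha
      have h1 : π * (r₀ * a) = 0 := by
        rw [← mul_assoc, hr₀, mul_assoc, ha, mul_zero]
      have h2 := hπreg _ h1
      exact (hur₀.mul_right_eq_zero).mp h2
    refine isDVR_of_maximalIdeal_eq_span z₀ ?_ hz₀reg
    apply le_antisymm
    · intro z hz
      obtain ⟨r, hr⟩ := hymul z hz
      have h1 : y * (z * r₀ - z₀ * r) = 0 := by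
        have e1 : y * (z * r₀) = π * r * r₀ := by rw [hr]; ring
        have e2 : y * (z₀ * r) = π * r₀ * r := by rw [hr₀]; ring
        rw [mul_sub, e1, e2]; ring
      have h2 := hyreg _ h1
      obtain ⟨v, hv⟩ := hur₀.exists_right_inv
      rw [Ideal.mem_span_singleton']
      refine ⟨r * v, ?_⟩
      have h3 : z * r₀ = z₀ * r := sub_eq_zero.mp h2
      calc r * v * z₀ = (z₀ * r) * v := by ring
        _ = z * r₀ * v := by rw [h3]
        _ = z * (r₀ * v) := by ring
        _ = z := by rw [hv, mul_one]
    · rw [Ideal.span_singleton_le_iff_mem]; exact hz₀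
  · exfalso
    push Not at hcase
    have hmem : ∀ z ∈ maximalIdeal R, ∀ r : R, π * r = y * z → r ∈ maximalIdeal R :=
      fun z hz r hr => (mem_maximalIdeal r).mpr (hcase z hz r hr)
    set u : S := algebraMap R S π with hu
    obtain ⟨ui, hui⟩ := hunit.exists_right_inv
    let x : S := ui * algebraMap R S y
    let N : Submodule R S := Submodule.map ((LinearMap.mulLeft R ui).comp (Algebra.linearMap R S))
      (maximalIdeal R)
    have hNfg : N.FG := Submodule.FG.map _ (IsNoetherian.noetherian _)
    have h1N : (1 : S) ∈ N := by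
      refine ⟨π, hπ, ?_⟩
      simp only [LinearMap.coe_comp, Function.comp_apply, Algebra.linearMap_apply,
        LinearMap.mulLeft_apply]
      rw [mul_comm]; exact hui
    have hxN : ∀ s ∈ N, x * s ∈ N := by
      rintro s ⟨z, hz, rfl⟩
      obtain ⟨r, hr⟩ := hymul z hz
      refine ⟨r, hmem z hz r hr, ?_⟩
      simp only [LinearMap.coe_comp, Function.comp_apply, Algebra.linearMap_apply,
        LinearMap.mulLeft_apply]
      have e1 : algebraMap R S y * algebraMap R S z = u * algebraMap R S r := by
        rw [hu, ← map_mul, ← map_mul, hr]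
      calc ui * algebraMap R S r = ui * (u * ui) * algebraMap R S r := by rw [hui, mul_one]
        _ = ui * ui * (u * algebraMap R S r) := by ring
        _ = ui * ui * (algebraMap R S y * algebraMap R S z) := by rw [e1]
        _ = x * (ui * algebraMap R S z) := by simp only [x]; ring
    have hint : IsIntegral R x := isIntegral_of_mul_mem N hNfg h1N x hxN
    obtain ⟨r₁, hr₁⟩ := hic x hint
    apply hyπ
    rw [Ideal.mem_span_singleton']
    refine ⟨r₁, ?_⟩
    apply hinj
    rw [map_mul, hr₁]
    simp only [x]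
    calc ui * algebraMap R S y * algebraMap R S π = (u * ui) * algebraMap R S y := by
          rw [hu]; ring
      _ = algebraMap R S y := by rw [hui, one_mul]

theorem mem_range_of_isIntegral_localization {B C R S : Type*} [CommRing B] [CommRing C]
    [Algebra B C] (M : Submonoid B) [CommRing R] [Algebra B R] [IsLocalization M R] [CommRing S]
    [Algebra C S] [Algebra B S] [IsScalarTower B C S]
    [IsLocalization (Algebra.algebraMapSubmonoid C M) S] [Algebra R S] [IsScalarTower B R S]
    (hic : ∀ c : C, IsIntegral B c → c ∈ (algebraMap B C).range) (s : S) (hs : IsIntegral R s) :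
    s ∈ (algebraMap R S).range := by
  obtain ⟨m, hm⟩ := IsIntegral.exists_multiple_integral_of_isLocalization M s hs
  obtain ⟨c, ⟨_, u, hu, rfl⟩, hcs⟩ :=
    IsLocalization.exists_mk'_eq (Algebra.algebraMapSubmonoid C M) s
  -- s * algebraMap C S (algebraMap B C u) = algebraMap C S c
  have h1 : s * algebraMap C S (algebraMap B C u) = algebraMap C S c := by
    rw [← hcs]
    exact IsLocalization.mk'_spec S c _
  have h2 : IsIntegral B (algebraMap C S ((m : B) • c)) := by
    have e : algebraMap C S ((m : B) • c) = u • ((m : B) • s) := by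
      rw [Algebra.smul_def, map_mul, ← h1, Algebra.smul_def, Algebra.smul_def,
        ← IsScalarTower.algebraMap_apply B C S, ← IsScalarTower.algebraMap_apply B C S]
      ring
    rw [e]
    exact IsIntegral.smul u hm
  obtain ⟨m', hm', h3⟩ := IsLocalization.exists_isIntegral_smul_of_isIntegral_map M h2
  obtain ⟨b, hb⟩ := hic _ h3
  have hden : m' * (m : B) * u ∈ M := M.mul_mem (M.mul_mem hm' m.2) hu
  refine ⟨IsLocalization.mk' R b ⟨_, hden⟩, ?_⟩
  have hunit : IsUnit (algebraMap B S (m' * (m : B) * u)) := by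
    rw [IsScalarTower.algebraMap_apply B R S]
    exact (IsLocalization.map_units R (⟨_, hden⟩ : M)).map _
  apply hunit.mul_right_cancel
  have e1 : algebraMap R S (IsLocalization.mk' R b ⟨_, hden⟩) * algebraMap B S (m' * (m : B) * u)
      = algebraMap B S b := by
    rw [IsScalarTower.algebraMap_apply B R S, ← map_mul, IsLocalization.mk'_spec,
      ← IsScalarTower.algebraMap_apply B R S]
  rw [e1, IsScalarTower.algebraMap_apply B C S b, hb]
  rw [Algebra.smul_def, Algebra.smul_def, map_mul, map_mul, ← h1,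
    IsScalarTower.algebraMap_apply B C S (m' * (m : B) * u), map_mul, map_mul, map_mul, map_mul]
  ring

theorem isDVR_of_atPrime {B C R : Type*} [CommRing B] [IsNoetherianRing B] [CommRing C]
    [Algebra B C] (t : B) (ht : IsUnit (algebraMap B C t))
    (hinj : Function.Injective (algebraMap B C))
    (hic : ∀ c : C, IsIntegral B c → c ∈ (algebraMap B C).range)
    (Q : Ideal B) [Q.IsPrime] (htQ : t ∈ Q)
    (hQ : ∀ P : Ideal B, P.IsPrime → t ∈ P → P ≤ Q → P = Q)
    [CommRing R] [Algebra B R] [IsLocalization.AtPrime R Q] :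
    ∃ _ : IsDomain R, IsDiscreteValuationRing R := by
  haveI : IsLocalRing R := IsLocalization.AtPrime.isLocalRing R Q
  haveI : IsNoetherianRing R := IsLocalization.isNoetherianRing Q.primeCompl R inferInstance
  let S := Localization (Algebra.algebraMapSubmonoid C Q.primeCompl)
  have hunits : ∀ y : Q.primeCompl, IsUnit (algebraMap B S y) := by
    intro y
    rw [IsScalarTower.algebraMap_apply B C S]
    exact IsLocalization.map_units S
      (⟨algebraMap B C y, y, y.2, rfl⟩ : Algebra.algebraMapSubmonoid C Q.primeCompl)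
  letI : Algebra R S := (IsLocalization.lift (M := Q.primeCompl) (g := algebraMap B S)
    hunits).toAlgebra
  haveI : IsScalarTower B R S := IsScalarTower.of_algebraMap_eq' (by
    rw [RingHom.algebraMap_toAlgebra, IsLocalization.lift_comp])
  refine isDVR_of_integrallyClosed (S := S) (algebraMap B R t) ?_ ?_ ?_ ?_ ?_
  · exact (IsLocalization.AtPrime.to_map_mem_maximal_iff R Q t).mpr htQ
  · rw [← IsScalarTower.algebraMap_apply B R S, IsScalarTower.algebraMap_apply B C S]
    exact ht.map _
  · rw [injective_iff_map_eq_zero]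
    intro r hr
    obtain ⟨b, u, rfl⟩ := IsLocalization.exists_mk'_eq Q.primeCompl r
    have h1 : algebraMap B S b = 0 := by
      have := IsLocalization.mk'_spec R b u
      have h2 := congrArg (algebraMap R S) this
      rw [map_mul, hr, zero_mul, ← IsScalarTower.algebraMap_apply B R S] at h2
      exact h2.symm
    rw [IsScalarTower.algebraMap_apply B C S,
      IsLocalization.map_eq_zero_iff (Algebra.algebraMapSubmonoid C Q.primeCompl)] at h1
    obtain ⟨⟨_, m', hm', rfl⟩, hm⟩ := h1
    rw [← map_mul] at hm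
    have h3 : m' * b = 0 := hinj (by rw [hm, map_zero])
    rw [IsLocalization.mk'_eq_zero_iff]
    exact ⟨⟨m', hm'⟩, h3⟩
  · exact fun s hs => mem_range_of_isIntegral_localization (B := B) (C := C) Q.primeCompl hic s hs
  · intro P hP hπP
    have hP' : (P.comap (algebraMap B R)).IsPrime := Ideal.comap_isPrime _ P
    have hle : P.comap (algebraMap B R) ≤ Q := by
      intro x hx
      by_contra hxQ
      have hu : IsUnit (algebraMap B R x) := IsLocalization.map_units R (⟨x, hxQ⟩ : Q.primeCompl)
      exact hP.ne_top (Ideal.eq_top_of_isUnit_mem _ hx hu)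
    have heq := hQ _ hP' hπP hle
    have h5 := IsLocalization.map_under Q.primeCompl R P
    rw [← h5]
    change Ideal.map (algebraMap B R) (P.comap (algebraMap B R)) = _
    rw [heq, IsLocalization.AtPrime.map_eq_maximalIdeal]

theorem exists_isolating_pair {A : Type*} [CommRing A] [IsNoetherianRing A] (q : Ideal A)
    [hq : q.IsMaximal] (hmin : q ∉ minimalPrimes A)
    (hdim : ∀ p₀ p : Ideal A, p₀.IsPrime → p.IsPrime → p₀ < p → p.IsMaximal) :
    ∃ t ∈ q, ∃ b, b ∉ q ∧ ∀ P : Ideal A, P.IsPrime → t ∈ P → b ∉ P → P = q := by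
  classical
  have hfin : (minimalPrimes A).Finite := minimalPrimes.finite_of_isNoetherianRing A
  have hav : ¬ ((q : Set A) ⊆ ⋃ p ∈ (↑hfin.toFinset : Set (Ideal A)), (p : Set A)) := by
    intro hsub
    rw [Ideal.subset_union_prime (f := fun p : Ideal A => p) ⊥ ⊥] at hsub
    · obtain ⟨p, hp, hqp⟩ := hsub
      rw [Set.Finite.mem_toFinset] at hp
      have : q = p := hq.eq_of_le hp.1.1.ne_top hqp
      exact hmin (this ▸ hp)
    · intro p hp _ _
      rw [Set.Finite.mem_toFinset] at hp
      exact hp.1.1
  obtain ⟨t, htq, htn⟩ := Set.not_subset.mp hav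
  have htmin : ∀ p ∈ minimalPrimes A, t ∉ p := by
    intro p hp htp
    apply htn
    simp only [Set.mem_iUnion]
    exact ⟨p, by simpa using hp, htp⟩
  have hmax : ∀ P : Ideal A, P.IsPrime → t ∈ P → P.IsMaximal := by
    intro P hP htP
    obtain ⟨p₀, hp₀, hle⟩ := Ideal.exists_minimalPrimes_le (bot_le : (⊥ : Ideal A) ≤ P)
    have hne : p₀ ≠ P := fun h => htmin p₀ hp₀ (h ▸ htP)
    exact hdim p₀ P hp₀.1.1 hP (lt_of_le_of_ne hle hne)
  have hfin2 : ((Ideal.span {t}).minimalPrimes).Finite :=
    Ideal.finite_minimalPrimes_of_isNoetherianRing A _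
  let F : Finset (Ideal A) := hfin2.toFinset.erase q
  have hF : ¬ (F.inf (fun P => P) ≤ q) := by
    intro hle
    rw [Ideal.IsPrime.inf_le' hq.isPrime] at hle
    obtain ⟨P, hPF, hPq⟩ := hle
    rw [Finset.mem_erase, Set.Finite.mem_toFinset] at hPF
    have hPmax : P.IsMaximal :=
      hmax P hPF.2.1.1 (hPF.2.1.2 (Ideal.mem_span_singleton_self t))
    exact hPF.1 (hPmax.eq_of_le hq.ne_top hPq)
  obtain ⟨b, hbF, hbq⟩ := SetLike.not_le_iff_exists.mp hF
  refine ⟨t, htq, b, hbq, fun P hP htP hbP => ?_⟩
  have hspan : Ideal.span {t} ≤ P := by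
    rw [Ideal.span_singleton_le_iff_mem]; exact htP
  obtain ⟨P₁, hP₁, hle⟩ := Ideal.exists_minimalPrimes_le hspan
  by_cases h1 : P₁ = q
  · subst h1
    exact (hq.eq_of_le hP.ne_top hle).symm
  · exfalso
    apply hbP
    apply hle
    have hmem : P₁ ∈ F := by
      rw [Finset.mem_erase, Set.Finite.mem_toFinset]
      exact ⟨h1, hP₁⟩
    exact (Finset.inf_le hmem : F.inf (fun P => P) ≤ P₁) hbF

end Groth.Agent.Lib.Helper21.PC
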