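import Groth.Agent.S0593
import Groth.Agent.Lib.Helper21.CurveRiem5
import Groth.Agent.Lib.Helper12.Dev6

/-!
# Projective completion of curves II: schemes of dimension `≤ 1` over a field without proper
components are affine
-/

set_option autoImplicit false
set_option linter.style.haveILetI false
set_option linter.unusedSectionVars false
universe u
open CategoryTheory CategoryTheory.Limits AlgebraicGeometry TopologicalSpace

namespace Groth.Agent.Lib.Helper21.PC

/-- a scheme covered by two affine closed subschemes is affine -/
theorem isAffine_of_closed_cover₂ {X Z₁ Z₂ : Scheme.{u}} (i₁ : Z₁ ⟶ X) (i₂ : Z₂ ⟶ X)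
    [IsClosedImmersion i₁] [IsClosedImmersion i₂] [IsAffine Z₁] [IsAffine Z₂]
    (h : Set.range i₁.base ∪ Set.range i₂.base = Set.univ) : IsAffine X := by
  haveI : IsFinite (coprod.desc i₁ i₂) := inferInstance
  haveI : Surjective (coprod.desc i₁ i₂) := ⟨fun x => by
    have hx : x ∈ Set.range i₁.base ∪ Set.range i₂.base := h ▸ Set.mem_univ x
    rcases hx with ⟨z, rfl⟩ | ⟨z, rfl⟩
    · refine ⟨(coprod.inl : Z₁ ⟶ Z₁ ⨿ Z₂) z, ?_⟩
      rw [← Scheme.Hom.comp_apply, coprod.inl_desc]
    · refine ⟨(coprod.inr : Z₂ ⟶ Z₁ ⨿ Z₂) z, ?_⟩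
      rw [← Scheme.Hom.comp_apply, coprod.inr_desc]⟩
  exact Groth.Agent.S0593.result (Z₁ ⨿ Z₂) X (coprod.desc i₁ i₂)

attribute [local instance] specializationPreorder in
/-- closed points of a non-trivial integral scheme of dimension `≤ 1` have one-dimensional local
rings -/
theorem hcurve_of_dim_le (X : Scheme.{u}) [IsIntegral X] (hdim : topologicalKrullDim X ≤ 1)
    (hns : ¬ Subsingleton X) (x : X)
    (hx : IsClosed ({x} : Set X)) : ringKrullDim (X.presheaf.stalk x) = 1 := by
  refine le_antisymm ((Groth.Agent.Lib.Helper21.CurveH0.ringKrullDim_stalk_le X x).trans hdim) ?_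
  rw [ringKrullDim_stalk_eq_coheight]
  have h1 : Order.coheight x ≠ 0 := by
    intro h0
    rw [Order.coheight_eq_zero] at h0
    have hsp : genericPoint X ⤳ x := (genericPoint_spec X).specializes (Set.mem_univ x)
    have hle : x ≤ genericPoint X := hsp
    have hge : genericPoint X ≤ x := h0 hle
    have heq : x = genericPoint X := (Specializes.antisymm hge hsp).eq
    apply hns
    constructor
    intro a b
    have ha : a ∈ closure ({x} : Set X) := by
      rw [heq, (genericPoint_spec X).def]; trivial
    have hb : b ∈ closure ({x} : Set X) := by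
      rw [heq, (genericPoint_spec X).def]; trivial
    rw [hx.closure_eq, Set.mem_singleton_iff] at ha hb
    rw [ha, hb]
  have h2 : (1 : ℕ∞) ≤ Order.coheight x := Order.one_le_iff_ne_zero.mpr h1
  exact_mod_cast h2

section Aff
variable (k : Type u) [Field k] (T : Scheme.{u}) (sT : T ⟶ Spec (CommRingCat.of k))
  [IsSeparated sT] [LocallyOfFiniteType sT] [QuasiCompact sT]

open Scheme.IdealSheafData in
/-- the reduced structure on an irreducible closed subset which is not proper is affine -/
theorem isAffine_subscheme_of_irreducible (hdim : topologicalKrullDim T ≤ 1)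
    (Z : Closeds T) (hirr : IsIrreducible (Z : Set T))
    (hnp : ¬ (Z : Set T).Subsingleton →
      ¬ IsProper ((vanishingIdeal Z).subschemeι ≫ sT)) :
    IsAffine (vanishingIdeal Z).subscheme := by
  haveI : IsIntegral (vanishingIdeal Z).subscheme :=
    Groth.Agent.Lib.Helper12.H12Dev.isIntegral_subscheme_vanishingIdeal Z hirr
  by_cases hs : Subsingleton ↥(vanishingIdeal Z).subscheme
  · infer_instance
  · have hr := Groth.Agent.Lib.Helper12.H12Dev.range_subschemeι_vanishingIdeal Z
    have hemb : Topology.IsEmbedding (vanishingIdeal Z).subschemeι :=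
      (vanishingIdeal Z).subschemeι.isEmbedding
    have hZs : ¬ (Z : Set T).Subsingleton := by
      intro hZ
      apply hs
      constructor
      intro a b
      apply hemb.injective
      apply hZ
      · rw [← hr]; exact ⟨a, rfl⟩
      · rw [← hr]; exact ⟨b, rfl⟩
    letI ov : (vanishingIdeal Z).subscheme.Over (Spec (CommRingCat.of k)) :=
      ⟨(vanishingIdeal Z).subschemeι ≫ sT⟩
    have hov : (vanishingIdeal Z).subscheme ↘ Spec (CommRingCat.of k) =
        (vanishingIdeal Z).subschemeι ≫ sT := rfl
    haveI : LocallyOfFiniteType ((vanishingIdeal Z).subscheme ↘ Spec (CommRingCat.of k)) := by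
      rw [hov]; infer_instance
    haveI : QuasiCompact ((vanishingIdeal Z).subscheme ↘ Spec (CommRingCat.of k)) := by
      rw [hov]; infer_instance
    haveI : IsSeparated ((vanishingIdeal Z).subscheme ↘ Spec (CommRingCat.of k)) := by
      rw [hov]; infer_instance
    have hdimW : topologicalKrullDim ↥(vanishingIdeal Z).subscheme ≤ 1 :=
      hemb.isInducing.topologicalKrullDim_le.trans hdim
    have hcurve := hcurve_of_dim_le (vanishingIdeal Z).subscheme hdimW hs
    exact Groth.Agent.Lib.Helper21.CurveRiem.isAffine_of_not_isProper k _ hcurve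
      (by rw [hov]; exact hnp hZs)

open Scheme.IdealSheafData in
/-- a separated scheme of finite type and dimension `≤ 1` over a field, none of whose
one-dimensional irreducible closed subsets is proper, has affine reduced closed subschemes -/
theorem isAffine_subscheme_of_closeds (hdim : topologicalKrullDim T ≤ 1)
    (H : ∀ Z : Closeds T, IsIrreducible (Z : Set T) → ¬ (Z : Set T).Subsingleton →
      ¬ IsProper ((vanishingIdeal Z).subschemeι ≫ sT))
    (Z : Closeds T) : IsAffine (vanishingIdeal Z).subscheme := by
  haveI : IsLocallyNoetherian T := LocallyOfFiniteType.isLocallyNoetherian sT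
  haveI : CompactSpace T := QuasiCompact.compactSpace_of_compactSpace sT
  haveI : IsNoetherian T := { }
  obtain ⟨S, hSfin, hSirr, rfl⟩ := NoetherianSpace.exists_finite_set_closeds_irreducible Z
  induction S, hSfin using Set.Finite.induction_on with
  | empty =>
    rw [sSup_empty, vanishingIdeal_bot]
    infer_instance
  | @insert a S' _ _ ih =>
    rw [sSup_insert]
    have ha : IsAffine (vanishingIdeal a).subscheme :=
      isAffine_subscheme_of_irreducible k T sT hdim a (hSirr a (Set.mem_insert _ _))
        (H a (hSirr a (Set.mem_insert _ _)))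
    have hS' : IsAffine (vanishingIdeal (sSup S')).subscheme :=
      ih fun t ht => hSirr t (Set.mem_insert_of_mem _ ht)
    have hle₁ : vanishingIdeal (X := T) (a ⊔ sSup S') ≤ vanishingIdeal a :=
      vanishingIdeal_antimono le_sup_left
    have hle₂ : vanishingIdeal (X := T) (a ⊔ sSup S') ≤ vanishingIdeal (sSup S') :=
      vanishingIdeal_antimono le_sup_right
    haveI : IsClosedImmersion (inclusion hle₁) := by
      haveI : IsClosedImmersion (inclusion hle₁ ≫ (vanishingIdeal (a ⊔ sSup S')).subschemeι) := by
        rw [inclusion_subschemeι]; infer_instance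
      exact IsClosedImmersion.of_comp _ (vanishingIdeal (a ⊔ sSup S')).subschemeι
    haveI : IsClosedImmersion (inclusion hle₂) := by
      haveI : IsClosedImmersion (inclusion hle₂ ≫ (vanishingIdeal (a ⊔ sSup S')).subschemeι) := by
        rw [inclusion_subschemeι]; infer_instance
      exact IsClosedImmersion.of_comp _ (vanishingIdeal (a ⊔ sSup S')).subschemeι
    refine isAffine_of_closed_cover₂ (inclusion hle₁) (inclusion hle₂) ?_
    rw [Set.eq_univ_iff_forall]
    intro x
    have hx : (vanishingIdeal (a ⊔ sSup S')).subschemeι x ∈ ((a ⊔ sSup S' : Closeds T) : Set T) := by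
      rw [← Groth.Agent.Lib.Helper12.H12Dev.range_subschemeι_vanishingIdeal]
      exact ⟨x, rfl⟩
    rw [Closeds.coe_sup] at hx
    have hinj : Function.Injective (vanishingIdeal (a ⊔ sSup S')).subschemeι :=
      (vanishingIdeal (a ⊔ sSup S')).subschemeι.isEmbedding.injective
    rcases hx with hx | hx
    · left
      rw [← Groth.Agent.Lib.Helper12.H12Dev.range_subschemeι_vanishingIdeal] at hx
      obtain ⟨z, hz⟩ := hx
      refine ⟨z, hinj ?_⟩
      rw [← hz, ← Scheme.Hom.comp_apply, inclusion_subschemeι]
    · right
      rw [← Groth.Agent.Lib.Helper12.H12Dev.range_subschemeι_vanishingIdeal] at hx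
      obtain ⟨z, hz⟩ := hx
      refine ⟨z, hinj ?_⟩
      rw [← hz, ← Scheme.Hom.comp_apply, inclusion_subschemeι]

open Scheme.IdealSheafData in
/-- **a separated scheme of finite type and dimension `≤ 1` over a field none of whose
one-dimensional irreducible closed subsets is proper is affine** -/
theorem isAffine_of_forall_not_isProper (hdim : topologicalKrullDim T ≤ 1)
    (H : ∀ Z : Closeds T, IsIrreducible (Z : Set T) → ¬ (Z : Set T).Subsingleton →
      ¬ IsProper ((vanishingIdeal Z).subschemeι ≫ sT)) : IsAffine T := by
  have h1 := isAffine_subscheme_of_closeds k T sT hdim H ⊤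
  haveI : Surjective (vanishingIdeal (X := T) ⊤).subschemeι := ⟨fun x => by
    have : x ∈ Set.range (vanishingIdeal (X := T) ⊤).subschemeι := by
      rw [Groth.Agent.Lib.Helper12.H12Dev.range_subschemeι_vanishingIdeal]; trivial
    exact this⟩
  exact Groth.Agent.S0593.result _ T (vanishingIdeal (X := T) ⊤).subschemeι

end Aff

end Groth.Agent.Lib.Helper21.PC
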