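import Groth.Agent.Lib.Helper21.PC17
import Groth.Agent.Lib.Helper21.NagDvr6
import Groth.Agent.Lib.Helper21.NagFin6
import Groth.Agent.Lib.Helper21.CurveH0a
import Groth.Agent.Lib.Helper29.PullTensor

/-!
# Projective completion of curves XX: the normal projective completion of a reduced curve
-/

set_option autoImplicit false
set_option linter.style.haveILetI false
set_option linter.unusedSectionVars false
universe u
open CategoryTheory CategoryTheory.Limits AlgebraicGeometry TopologicalSpace
open Groth.Agent.Lib.Helper29.QCoh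

namespace Groth.Agent.Lib.Helper21.PC

open Groth.Agent.Lib.Helper21.CurveH0

/-- a point with a proper generisation, in a scheme where every proper specialisation is a closed
point, has a local ring of dimension one -/
theorem ringKrullDim_stalk_eq_one (Y : Scheme.{u}) (y : Y) (hgen : ∃ η : Y, η ⤳ y ∧ η ≠ y)
    (hdim : ∀ η z : Y, η ⤳ z → η ≠ z → IsClosed ({z} : Set Y)) :
    ringKrullDim (Y.presheaf.stalk y) = 1 := by
  rw [ringKrullDim_stalk_eq_coheight]
  have hle : ∀ a b : Y, a ≤ b ↔ b ⤳ a := fun a b => Iff.rfl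
  have h1 : Order.coheight y ≤ ((1 : ℕ) : ℕ∞) := by
    rw [Order.coheight_le_coe_iff]
    intro b hb
    have hby : b ⤳ y := (hle y b).mp hb.le
    have hne : b ≠ y := fun h => (lt_irrefl _ (h ▸ hb))
    have hmax : IsMax b := by
      intro c hc
      by_contra hcon
      have hcb : c ⤳ b := (hle b c).mp hc
      have hne' : c ≠ b := fun h => hcon (h ▸ le_refl _)
      have hcl := hdim c b hcb hne'
      have hmin := (isClosed_singleton_iff_isMin Y b).mp hcl
      have h5 : y ⤳ b := (hle b y).mp (hmin hb.le)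
      exact hne (hby.antisymm h5).eq
    rw [Order.coheight_eq_zero.mpr hmax]
    exact zero_lt_one
  have h2 : 1 ≤ Order.coheight y := by
    rw [Order.one_le_iff_ne_zero, Ne, Order.coheight_eq_zero]
    intro hmax
    obtain ⟨η, hη, hne⟩ := hgen
    have h3 : y ≤ η := (hle y η).mpr hη
    have h5 : y ⤳ η := (hle η y).mp (hmax h3)
    exact hne (hη.antisymm h5).eq
  have h3 : Order.coheight y = 1 := le_antisymm (by exact_mod_cast h1) h2
  rw [h3]
  rfl

section Boundary
variable (k : Type u) [Field k] (Y : Scheme.{u}) [Y.Over (Spec (CommRingCat.of k))]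
  [LocallyOfFiniteType (Y ↘ Spec (CommRingCat.of k))]
  [QuasiCompact (Y ↘ Spec (CommRingCat.of k))]

include k in
/-- the local ring at a boundary point of a dense open curve has dimension one -/
theorem ringKrullDim_stalk_eq_one_of_notMem (X' : Y.Opens) (hd : Dense (X' : Set Y))
    (hdim : topologicalKrullDim (X' : Set Y) ≤ 1) (y : Y) (hy : y ∉ X') :
    ringKrullDim (Y.presheaf.stalk y) = 1 := by
  haveI : IsLocallyNoetherian Y :=
    LocallyOfFiniteType.isLocallyNoetherian (Y ↘ Spec (CommRingCat.of k))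
  obtain ⟨-, hcl⟩ := finite_compl_and_isClosed k Y X' hd hdim
  refine ringKrullDim_stalk_eq_one Y y ?_ ?_
  · obtain ⟨Z, hZ, hyZ⟩ := exists_mem_irreducibleComponents_subset_of_isIrreducible
      ({y} : Set Y) isIrreducible_singleton
    have hZc : IsClosed Z := isClosed_of_mem_irreducibleComponents Z hZ
    have hη : IsGenericPoint hZ.1.genericPoint Z := hZ.1.isGenericPoint_genericPoint hZc
    have hηX' : hZ.1.genericPoint ∈ X' :=
      Groth.Agent.Lib.Helper18.JacDim.genericPoint_mem_of_dense Z hZ _ hη X' X'.isOpen hd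
    exact ⟨hZ.1.genericPoint, hη.specializes (hyZ rfl), fun h => hy (h ▸ hηX')⟩
  · intro η z hsp hne
    by_cases hη : η ∈ X'
    · exact isClosed_singleton_of_specializes k Y X' hdim hη hsp hne
    · exfalso
      have h1 : z ∈ closure ({η} : Set Y) := hsp.mem_closure
      rw [(hcl η hη).closure_eq] at h1
      exact hne (Set.mem_singleton_iff.mp h1).symm

end Boundary

variable (k : Type u) [Field k] (X : Scheme.{u}) (sX : X ⟶ Spec (CommRingCat.of k))
  [IsSeparated sX] [LocallyOfFiniteType sX] [QuasiCompact sX] [IsReduced X]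

/-- **normal projective completion** of a reduced separated scheme of finite type and dimension
`≤ 1` over a field: the local rings at the boundary points are discrete valuation rings -/
theorem exists_projective_completion_dvr (hdim : topologicalKrullDim X ≤ 1) :
    ∃ (d : ℕ) (Y : Scheme.{u}) (c : Y ⟶ CohB1.ProjSpace d k) (j : X ⟶ Y),
      IsClosedImmersion c ∧ IsOpenImmersion j ∧
      j ≫ c ≫ CohB1.ProjSpace.toSpec d k = sX ∧ Dense (Set.range j.base) ∧
      IsSchemeTheoreticallyDominant j ∧
      (Set.range j.base)ᶜ.Finite ∧ ∀ y ∈ (Set.range j.base)ᶜ, IsClosed ({y} : Set Y) ∧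
        ∃ _ : IsDomain (Y.presheaf.stalk y), IsDiscreteValuationRing (Y.presheaf.stalk y) := by
  obtain ⟨d₀, Y₀, c₀, j₀, hc₀, hj₀, hcomp₀, -, -, -, -⟩ :=
    exists_projective_completion k X sX hdim
  haveI := hc₀
  haveI := hj₀
  haveI hprop₀ : IsProper (CohB1.ProjSpace.toSpec d₀ k) :=
    Groth.Agent.S9705.isProper_toSpec d₀ k
  let sY₀ : Y₀ ⟶ Spec (CommRingCat.of k) := c₀ ≫ CohB1.ProjSpace.toSpec d₀ k
  haveI : IsProper sY₀ := by dsimp only [sY₀]; infer_instance
  have hj₀s : j₀ ≫ sY₀ = sX := hcomp₀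
  haveI : QuasiCompact (j₀ ≫ sY₀) := by rw [hj₀s]; infer_instance
  haveI : QuasiCompact j₀ := QuasiCompact.of_comp j₀ sY₀
  -- the normalisation
  let Y := j₀.normalization
  let ν : Y ⟶ Y₀ := j₀.fromNormalization
  let j : X ⟶ Y := j₀.toNormalization
  have hjν : j ≫ ν = j₀ := j₀.toNormalization_fromNormalization
  haveI : IsOpenImmersion j := by dsimp only [j]; infer_instance
  have hNag : ∀ U : Y₀.affineOpens, CAlg.IsNagata Γ(Y₀, U) := fun U =>
    Groth.Agent.Lib.Helper21.NagFin.isNagata_sections_of_locallyOfFiniteType_field k Y₀ sY₀ U.1 U.2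
  haveI hfin : IsFinite ν :=
    Groth.Agent.Lib.Helper21.NagFin.isFinite_fromNormalization_of_finiteType j₀ hNag
  let sY : Y ⟶ Spec (CommRingCat.of k) := ν ≫ sY₀
  haveI : IsProper sY := by dsimp only [sY]; infer_instance
  haveI : CompactSpace Y := QuasiCompact.compactSpace_of_compactSpace sY
  -- projectivity
  have h1 : CohB1.IsAmple (Twist.twist (CohB1.polyGrading d₀ k) 1) :=
    isAmple_twist_one_of_cover (projSpace_degree_one_cover d₀ k)
  haveI : IsAffineHom (ν ≫ c₀) := inferInstance
  have hA := isAmple_pullback_of_isAffineHom (ν ≫ c₀) h1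
  obtain ⟨d, c', hc', hcs'⟩ :=
    exists_closedImmersion_proj_of_isProper sY (isRelAmple_of_isAmple sY hA)
  let c : Y ⟶ CohB1.ProjSpace d k := c'
  have hc : IsClosedImmersion c := hc'
  have hcs : c ≫ CohB1.ProjSpace.toSpec d k = sY := hcs'
  have hjs : j ≫ sY = sX := by
    dsimp only [sY]
    rw [← Category.assoc, hjν, hj₀s]
  -- the boundary
  letI : Y.Over (Spec (CommRingCat.of k)) := ⟨sY⟩
  have hov : (Y ↘ Spec (CommRingCat.of k)) = sY := rfl
  haveI : LocallyOfFiniteType (Y ↘ Spec (CommRingCat.of k)) := by rw [hov]; infer_instance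
  haveI : QuasiCompact (Y ↘ Spec (CommRingCat.of k)) := by rw [hov]; infer_instance
  have hd : Dense (Set.range j.base) := j.denseRange
  have hdim' : topologicalKrullDim ((j.opensRange : Y.Opens) : Set Y) ≤ 1 := by
    have e := j.isOpenEmbedding.isEmbedding.toHomeomorph
    have h1 := IsHomeomorph.topologicalKrullDim_eq _ e.isHomeomorph
    change topologicalKrullDim ↥(Set.range j.base) ≤ 1
    rw [← h1]
    exact hdim
  obtain ⟨h1, h2⟩ := finite_compl_and_isClosed k Y j.opensRange hd hdim'
  refine ⟨d, Y, c, j, hc, inferInstance, ?_, hd, ⟨j₀.ker_toNormalization⟩, h1,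
    fun y hy => ⟨h2 y hy, ?_⟩⟩
  · rw [hcs, hjs]
  · have hdim1 : ringKrullDim (Y.presheaf.stalk y) = 1 :=
      ringKrullDim_stalk_eq_one_of_notMem k Y j.opensRange hd hdim' y hy
    exact Groth.Agent.Lib.Helper21.NagDvr.dvr_stalk_normalization j₀ hNag y hdim1 hy

end Groth.Agent.Lib.Helper21.PC
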