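import Groth.Agent.Lib.Helper21.PC20

/-!
# Projective completion of curves XXI: the integral case
-/

set_option autoImplicit false
set_option linter.style.haveILetI false
set_option linter.unusedSectionVars false
universe u
open CategoryTheory CategoryTheory.Limits AlgebraicGeometry TopologicalSpace
open Groth.Agent.Lib.Helper29.QCoh

namespace Groth.Agent.Lib.Helper21.PC

open Groth.Agent.Lib.Helper21.CurveH0

/-- if all local rings of a scheme have dimension `≤ n` then so has the scheme -/
theorem topologicalKrullDim_le_of_forall_stalk (Y : Scheme.{u}) (n : ℕ)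
    (h : ∀ y : Y, ringKrullDim (Y.presheaf.stalk y) ≤ n) : topologicalKrullDim Y ≤ n := by
  rw [← krullDim_eq_topologicalKrullDim, Order.krullDim_eq_iSup_coheight]
  refine iSup_le fun y => ?_
  have := h y
  rw [ringKrullDim_stalk_eq_coheight] at this
  exact this

variable (k : Type u) [Field k] (X : Scheme.{u}) (sX : X ⟶ Spec (CommRingCat.of k))
  [IsSeparated sX] [LocallyOfFiniteType sX] [QuasiCompact sX] [IsIntegral X]

/-- **normal projective completion of an integral curve** -/
theorem exists_projective_completion_dvr_integral (hdim : topologicalKrullDim X ≤ 1) :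
    ∃ (d : ℕ) (Y : Scheme.{u}) (c : Y ⟶ CohB1.ProjSpace d k) (j : X ⟶ Y),
      IsClosedImmersion c ∧ IsOpenImmersion j ∧
      j ≫ c ≫ CohB1.ProjSpace.toSpec d k = sX ∧ Dense (Set.range j.base) ∧
      IsSchemeTheoreticallyDominant j ∧ IsIntegral Y ∧ topologicalKrullDim Y ≤ 1 ∧
      (Set.range j.base)ᶜ.Finite ∧ ∀ y ∈ (Set.range j.base)ᶜ, IsClosed ({y} : Set Y) ∧
        ∃ _ : IsDomain (Y.presheaf.stalk y), IsDiscreteValuationRing (Y.presheaf.stalk y) := by
  obtain ⟨d₀, Y₀, c₀, j₀, hc₀, hj₀, hcomp₀, -, -, -, -⟩ :=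
    exists_projective_completion k X sX hdim
  haveI := hc₀
  haveI := hj₀
  haveI hprop₀ : IsProper (CohB1.ProjSpace.toSpec d₀ k) :=
    Groth.Agent.S9705.isProper_toSpec d₀ k
  let sY₀ : Y₀ ⟶ Spec (CommRingCat.of k) := c₀ ≫ CohB1.ProjSpace.toSpec d₀ k
  haveI : IsProper sY₀ := by dsimp only [sY₀]; infer_instance
  have hj₀s : j₀ ≫ sY₀ = sX := hcomp₀
  haveI : QuasiCompact (j₀ ≫ sY₀) := by rw [hj₀s]; infer_instance
  haveI : QuasiCompact j₀ := QuasiCompact.of_comp j₀ sY₀
  -- the normalisation
  let Y := j₀.normalization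
  let ν : Y ⟶ Y₀ := j₀.fromNormalization
  let j : X ⟶ Y := j₀.toNormalization
  have hjν : j ≫ ν = j₀ := j₀.toNormalization_fromNormalization
  haveI : IsOpenImmersion j := by dsimp only [j]; infer_instance
  haveI : IsIntegral Y := by dsimp only [Y]; infer_instance
  have hNag : ∀ U : Y₀.affineOpens, CAlg.IsNagata Γ(Y₀, U) := fun U =>
    Groth.Agent.Lib.Helper21.NagFin.isNagata_sections_of_locallyOfFiniteType_field k Y₀ sY₀ U.1 U.2
  haveI hfin : IsFinite ν :=
    Groth.Agent.Lib.Helper21.NagFin.isFinite_fromNormalization_of_finiteType j₀ hNag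
  let sY : Y ⟶ Spec (CommRingCat.of k) := ν ≫ sY₀
  haveI : IsProper sY := by dsimp only [sY]; infer_instance
  haveI : CompactSpace Y := QuasiCompact.compactSpace_of_compactSpace sY
  -- projectivity
  have h1 : CohB1.IsAmple (Twist.twist (CohB1.polyGrading d₀ k) 1) :=
    isAmple_twist_one_of_cover (projSpace_degree_one_cover d₀ k)
  haveI : IsAffineHom (ν ≫ c₀) := inferInstance
  have hA := isAmple_pullback_of_isAffineHom (ν ≫ c₀) h1
  obtain ⟨d, c', hc', hcs'⟩ :=
    exists_closedImmersion_proj_of_isProper sY (isRelAmple_of_isAmple sY hA)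
  let c : Y ⟶ CohB1.ProjSpace d k := c'
  have hc : IsClosedImmersion c := hc'
  have hcs : c ≫ CohB1.ProjSpace.toSpec d k = sY := hcs'
  have hjs : j ≫ sY = sX := by
    dsimp only [sY]
    rw [← Category.assoc, hjν, hj₀s]
  -- the boundary
  letI : Y.Over (Spec (CommRingCat.of k)) := ⟨sY⟩
  have hov : (Y ↘ Spec (CommRingCat.of k)) = sY := rfl
  haveI : LocallyOfFiniteType (Y ↘ Spec (CommRingCat.of k)) := by rw [hov]; infer_instance
  haveI : QuasiCompact (Y ↘ Spec (CommRingCat.of k)) := by rw [hov]; infer_instance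
  have hd : Dense (Set.range j.base) := j.denseRange
  have hdim' : topologicalKrullDim ((j.opensRange : Y.Opens) : Set Y) ≤ 1 := by
    have e := j.isOpenEmbedding.isEmbedding.toHomeomorph
    have h1 := IsHomeomorph.topologicalKrullDim_eq _ e.isHomeomorph
    change topologicalKrullDim ↥(Set.range j.base) ≤ 1
    rw [← h1]
    exact hdim
  obtain ⟨h1, h2⟩ := finite_compl_and_isClosed k Y j.opensRange hd hdim'
  have hdimY : topologicalKrullDim Y ≤ 1 := by
    refine topologicalKrullDim_le_of_forall_stalk Y 1 fun y => ?_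
    by_cases hy : y ∈ Set.range j.base
    · obtain ⟨x, rfl⟩ := hy
      haveI : IsIso (j.stalkMap x) := inferInstance
      have e : Y.presheaf.stalk (j x) ≃+* X.presheaf.stalk x :=
        (asIso (j.stalkMap x)).commRingCatIsoToRingEquiv
      rw [ringKrullDim_eq_of_ringEquiv e]
      exact (ringKrullDim_stalk_le X x).trans hdim
    · rw [ringKrullDim_stalk_eq_one_of_notMem k Y j.opensRange hd hdim' y hy]
      rfl
  refine ⟨d, Y, c, j, hc, inferInstance, ?_, hd, ⟨j₀.ker_toNormalization⟩, inferInstance, hdimY, h1,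
    fun y hy => ⟨h2 y hy, ?_⟩⟩
  · rw [hcs, hjs]
  · have hdim1 : ringKrullDim (Y.presheaf.stalk y) = 1 :=
      ringKrullDim_stalk_eq_one_of_notMem k Y j.opensRange hd hdim' y hy
    exact Groth.Agent.Lib.Helper21.NagDvr.dvr_stalk_normalization j₀ hNag y hdim1 hy

end Groth.Agent.Lib.Helper21.PC
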