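import Groth.Agent.Lib.Helper21.PC21
import Groth.Agent.S1556

/-!
# Projective completion of curves XXII: smooth completion over an algebraically closed field
-/

set_option autoImplicit false
set_option linter.style.haveILetI false
set_option linter.unusedSectionVars false
universe u
open CategoryTheory CategoryTheory.Limits AlgebraicGeometry TopologicalSpace

namespace Groth.Agent.Lib.Helper21.PC

open Groth.Agent.Lib.Helper21.NagDvr Groth.Agent.Lib.Helper21.ChartPt

/-- a closed point of an affine chart corresponds to a maximal ideal -/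
theorem isMaximal_primeIdealOf_of_isClosed {Y : Scheme.{u}} {W : Y.Opens} (hW : IsAffineOpen W)
    (y : Y) (hy : y ∈ W) (hcl : IsClosed ({y} : Set Y)) :
    (hW.primeIdealOf ⟨y, hy⟩).asIdeal.IsMaximal := by
  obtain ⟨M, hM, hle⟩ := Ideal.exists_le_maximal _ (hW.primeIdealOf ⟨y, hy⟩).isPrime.ne_top
  obtain ⟨z, hz⟩ := exists_primeIdealOf_eq hW ⟨M, hM.isPrime⟩
  have hsp : (y : Y) ⤳ (z : Y) := by
    rw [specializes_iff_primeIdealOf_le hW ⟨y, hy⟩ z, hz]
    exact hle
  have h1 : (z : Y) ∈ closure ({y} : Set Y) := hsp.mem_closure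
  rw [hcl.closure_eq] at h1
  have h2 : z = ⟨y, hy⟩ := Subtype.ext (Set.mem_singleton_iff.mp h1)
  rw [h2] at hz
  rw [hz]
  exact hM

section Sep
variable (k : Type u) [Field k] [IsAlgClosed k] (Y : Scheme.{u}) [Y.Over (Spec (CommRingCat.of k))]
  [LocallyOfFiniteType (Y ↘ Spec (CommRingCat.of k))]

/-- over an algebraically closed field the residue field of a closed point is separable -/
theorem isSeparable_residueField_of_isClosed (y : Y) (hcl : IsClosed ({y} : Set Y)) :
    @Algebra.IsSeparable k (Y.residueField y) _ _ (Curv2.resAlgebra k Y y) := by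
  letI := Curv2.resAlgebra k Y y
  obtain ⟨_, ⟨W, hW, rfl⟩, hyW, -⟩ :=
    Y.isBasis_affineOpens.exists_subset_of_mem_open (Set.mem_univ y) isOpen_univ
  have hW : IsAffineOpen W := hW
  have hyW : y ∈ W := hyW
  obtain ⟨s, hs1, hs2⟩ := exists_nat_trdeg_eq_and_dim_quotient k Y hW y hyW
  haveI hmax := isMaximal_primeIdealOf_of_isClosed hW y hyW hcl
  have h0 : ringKrullDim (Γ(Y, W) ⧸ (hW.primeIdealOf ⟨y, hyW⟩).asIdeal) = 0 := by
    letI : Field (Γ(Y, W) ⧸ (hW.primeIdealOf ⟨y, hyW⟩).asIdeal) := Ideal.Quotient.field _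
    exact ringKrullDim_eq_zero_of_field _
  have hs0 : s = 0 := by
    rw [h0] at hs2
    exact_mod_cast hs2.symm
  rw [hs0] at hs1
  have halg : Algebra.IsAlgebraic k (Y.residueField y) := by
    rw [← trdeg_eq_zero_iff]
    exact_mod_cast hs1
  haveI : Algebra.IsIntegral k (Y.residueField y) := Algebra.IsAlgebraic.isIntegral
  have hbij : Function.Bijective (algebraMap k (Y.residueField y)) :=
    IsAlgClosed.algebraMap_bijective_of_isIntegral
  let e : k ≃ₐ[k] Y.residueField y := AlgEquiv.ofBijective (Algebra.ofId k _) hbij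
  exact Algebra.IsSeparable.of_algHom k k e.symm.toAlgHom

end Sep

section Smooth
variable (k : Type u) [Field k] [IsAlgClosed k]
  (X : Scheme.{u}) [X.Over (Spec (CommRingCat.of k))] [IsIntegral X]
  [IsSeparated (X ↘ (Spec (CommRingCat.of k)))]
  [LocallyOfFiniteType (X ↘ (Spec (CommRingCat.of k)))]
  [QuasiCompact (X ↘ (Spec (CommRingCat.of k)))] [Smooth (X ↘ (Spec (CommRingCat.of k)))]

attribute [local instance] Curv2.resAlgebra in
/-- **smooth projective completion** of a smooth curve over an algebraically closed field -/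
theorem exists_smooth_projective_completion (hdimX : topologicalKrullDim X = 1) :
    ∃ (Y : Scheme.{u}) (_ : Y.Over (Spec (CommRingCat.of k))) (j : X ⟶ Y), IsOpenImmersion j ∧
      j ≫ (Y ↘ (Spec (CommRingCat.of k))) = X ↘ (Spec (CommRingCat.of k)) ∧ IsIntegral Y ∧
      Smooth (Y ↘ (Spec (CommRingCat.of k))) ∧ topologicalKrullDim Y = 1 ∧
      ∃ (n : ℕ) (i : Y ⟶ CohB1.ProjSpace n k), IsClosedImmersion i ∧
        i ≫ CohB1.ProjSpace.toSpec n k = Y ↘ (Spec (CommRingCat.of k)) := by
  obtain ⟨d, Y, c, j, hc, hj, hcomp, hd, -, hint, hdimY, -, hbd⟩ :=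
    exists_projective_completion_dvr_integral k X (X ↘ (Spec (CommRingCat.of k))) hdimX.le
  haveI := hc
  haveI := hj
  haveI := hint
  haveI hprop : IsProper (CohB1.ProjSpace.toSpec d k) := Groth.Agent.S9705.isProper_toSpec d k
  letI instOver : Y.Over (Spec (CommRingCat.of k)) := ⟨c ≫ CohB1.ProjSpace.toSpec d k⟩
  have hov : (Y ↘ Spec (CommRingCat.of k)) = c ≫ CohB1.ProjSpace.toSpec d k := rfl
  haveI : IsProper (Y ↘ Spec (CommRingCat.of k)) := by rw [hov]; infer_instance
  haveI : LocallyOfFinitePresentation (Y ↘ Spec (CommRingCat.of k)) :=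
    LocallyOfFinitePresentation.iff_locallyOfFiniteType.mpr inferInstance
  have hdimY1 : topologicalKrullDim Y = 1 := by
    refine le_antisymm hdimY ?_
    rw [← hdimX]
    exact j.isOpenEmbedding.isInducing.topologicalKrullDim_le
  refine ⟨Y, instOver, j, hj, hcomp, hint, ?_, hdimY1, d, c, hc, rfl⟩
  rw [← Scheme.Hom.smoothLocus_eq_top_iff]
  refine top_le_iff.mp fun y _ => ?_
  by_cases hy : y ∈ Set.range j.base
  · obtain ⟨x, rfl⟩ := hy
    have h1 := Scheme.Hom.preimage_smoothLocus_eq j (Y ↘ Spec (CommRingCat.of k))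
    have h2 : (j ≫ (Y ↘ Spec (CommRingCat.of k))).smoothLocus = ⊤ := by
      have : Smooth (j ≫ (Y ↘ Spec (CommRingCat.of k))) := by
        rw [hov, hcomp]; infer_instance
      exact Scheme.Hom.smoothLocus_eq_top _
    have h3 : x ∈ j ⁻¹ᵁ (Y ↘ Spec (CommRingCat.of k)).smoothLocus := by
      rw [h1, h2]; trivial
    exact h3
  · obtain ⟨hcl, hdom, hdvr⟩ := hbd y hy
    haveI := isSeparable_residueField_of_isClosed k Y y hcl
    exact (Groth.Agent.S1556.result k Y hdimY1 y hcl).mp hdvr

end Smooth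

end Groth.Agent.Lib.Helper21.PC
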