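import Groth.Agent.Lib.Helper21.RatExt2

/-!
# Integral neighbourhoods of points with integral local ring, on reduced schemes with finitely
many irreducible components
-/

set_option autoImplicit false
universe u
open AlgebraicGeometry CategoryTheory Limits TopologicalSpace

namespace Groth.Agent.Lib.Helper21.RatExt

variable {X : Scheme.{u}}

/-- On a reduced scheme with finitely many irreducible components, a point whose local ring is a
domain has an integral open neighbourhood. -/
theorem exists_integral_nhd_of_finite_irreducibleComponents [IsReduced X]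
    (hfin : (irreducibleComponents (X : Type u)).Finite) (x : X)
    [IsDomain (X.presheaf.stalk x)] :
    ∃ U : X.Opens, x ∈ U ∧ IsIntegral (U : Scheme.{u}) := by
  set η₀ : X := X.fromSpecStalk x (⟨⊥, Ideal.isPrime_bot⟩ : PrimeSpectrum (X.presheaf.stalk x))
    with hη₀
  have hη₀x : η₀ ⤳ x := by
    have : η₀ ∈ Set.range (X.fromSpecStalk x) := ⟨_, rfl⟩
    rwa [Scheme.range_fromSpecStalk] at this
  -- every irreducible component through `x` is `closure {η₀}`
  have hclaim : ∀ Z ∈ irreducibleComponents (X : Type u), x ∈ Z → Z = closure {η₀} := by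
    intro Z hZ hxZ
    have hZcl : IsClosed Z := isClosed_of_mem_irreducibleComponents Z hZ
    obtain ⟨ξ, hξ⟩ := QuasiSober.sober hZ.1 hZcl
    have hξx : ξ ⤳ x := by
      rw [specializes_iff_mem_closure, hξ.def]; exact hxZ
    have hξr : ξ ∈ Set.range (X.fromSpecStalk x) := by
      rw [Scheme.range_fromSpecStalk]; exact hξx
    obtain ⟨p, hp⟩ := hξr
    have h1 : (⟨⊥, Ideal.isPrime_bot⟩ : PrimeSpectrum (X.presheaf.stalk x)) ⤳ p := by
      rw [← PrimeSpectrum.le_iff_specializes]
      exact bot_le (a := p.asIdeal)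
    have h2 : η₀ ⤳ ξ := by
      rw [← hp]
      exact h1.map (X.fromSpecStalk x).continuous
    have hsub : Z ⊆ closure {η₀} := by
      rw [← hξ.def]
      exact specializes_iff_closure_subset.mp h2
    exact le_antisymm hsub (hZ.2 isIrreducible_singleton.closure hsub)
  -- the complement of the other components
  set C : Set X := ⋃ Z ∈ {Z ∈ irreducibleComponents (X : Type u) | Z ≠ closure {η₀}}, Z with hC
  have hCcl : IsClosed C := by
    refine Set.Finite.isClosed_biUnion (hfin.subset fun Z hZ => hZ.1) fun Z hZ => ?_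
    exact isClosed_of_mem_irreducibleComponents Z hZ.1
  have hxC : x ∉ C := by
    intro hx
    simp only [hC, Set.mem_iUnion, Set.mem_ofPred_eq] at hx
    obtain ⟨Z, ⟨hZ, hne⟩, hxZ⟩ := hx
    exact hne (hclaim Z hZ hxZ)
  let W : X.Opens := ⟨Cᶜ, hCcl.isOpen_compl⟩
  have hWsub : (W : Set X) ⊆ closure {η₀} := by
    intro w hw
    by_contra hcon
    apply hw
    simp only [hC, Set.mem_iUnion, Set.mem_ofPred_eq]
    refine ⟨irreducibleComponent w, ⟨irreducibleComponent_mem_irreducibleComponents w, ?_⟩,
      mem_irreducibleComponent⟩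
    intro h
    exact hcon (h ▸ mem_irreducibleComponent)
  refine ⟨W, hxC, ?_⟩
  have hred : IsReduced (W : Scheme.{u}) := isReduced_of_isOpenImmersion W.ι
  have hirr : IsIrreducible (W : Set X) :=
    ⟨⟨x, hxC⟩, (isIrreducible_singleton (x := η₀)).closure.isPreirreducible.open_subset W.2 hWsub⟩
  have : IrreducibleSpace (W : Scheme.{u}) :=
    (isIrreducible_iff_irreducibleSpace (s := (W : Set X))).mp hirr
  exact isIntegral_of_irreducibleSpace_of_isReduced _

/-- A point with an integral open neighbourhood has arbitrarily small integral affine open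
neighbourhoods. -/
theorem exists_affine_integral_nhd_of_integral_nhd (x : X) (W₀ : X.Opens) (hxW₀ : x ∈ W₀)
    [IsIntegral (W₀ : Scheme.{u})] (U' : X.Opens) (hxU' : x ∈ U') :
    ∃ W₁ : X.Opens, IsAffineOpen W₁ ∧ x ∈ W₁ ∧ W₁ ≤ U' ∧ IsIntegral (W₁ : Scheme.{u}) := by
  obtain ⟨W₁, hW₁, hxW₁, hW₁le⟩ := Opens.isBasis_iff_nbhd.mp X.isBasis_affineOpens
    (show x ∈ W₀ ⊓ U' from ⟨hxW₀, hxU'⟩)
  have : Nonempty (W₁ : Scheme.{u}) := ⟨⟨x, hxW₁⟩⟩
  exact ⟨W₁, hW₁, hxW₁, hW₁le.trans inf_le_right,
    isIntegral_of_isOpenImmersion (X.homOfLE (hW₁le.trans inf_le_left))⟩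

end Groth.Agent.Lib.Helper21.RatExt
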