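import Groth.Agent.Lib.Helper21.PC3
import Groth.Agent.Lib.Helper21.RatExt3

/-!
# Projective completion of curves IV: choice of good closed points on the curve components
-/

set_option autoImplicit false
set_option linter.style.haveILetI false
set_option linter.unusedSectionVars false
universe u
open CategoryTheory CategoryTheory.Limits AlgebraicGeometry TopologicalSpace

namespace Groth.Agent.Lib.Helper21.PC

variable (k : Type u) [Field k] (R : Scheme.{u}) (sR : R ⟶ Spec (CommRingCat.of k))
  [IsReduced R] [IsSeparated sR] [LocallyOfFiniteType sR] [QuasiCompact sR]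

attribute [local instance] specializationPreorder in
include k sR in
/-- on the closure of a non-closed point of a reduced curve there is a closed point at which
the curve is normal -/
theorem exists_good_point (hdim : topologicalKrullDim R ≤ 1) (η : R)
    (hη : ¬ IsClosed ({η} : Set R)) :
    ∃ p : R, IsClosed ({p} : Set R) ∧ p ∈ closure ({η} : Set R) ∧
      ∃ _ : IsDomain (R.presheaf.stalk p), ValuationRing (R.presheaf.stalk p) := by
  haveI : IsLocallyNoetherian R := LocallyOfFiniteType.isLocallyNoetherian sR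
  haveI : CompactSpace R := QuasiCompact.compactSpace_of_compactSpace sR
  haveI : IsNoetherian R := { }
  haveI : JacobsonSpace R := LocallyOfFiniteType.jacobsonSpace sR
  -- the local ring at `η` is a field
  have h0 : ringKrullDim (R.presheaf.stalk η) = 0 :=
    Groth.Agent.Lib.Helper21.CurveH0.ringKrullDim_stalk_eq_zero_of_not_isClosed R hdim η hη
  haveI : Ring.KrullDimLE 0 (R.presheaf.stalk η) := Ring.krullDimLE_iff.mpr h0.le
  have hfld : IsField (R.presheaf.stalk η) := Ring.KrullDimLE.isField_of_isReduced
  haveI : IsDomain (R.presheaf.stalk η) := hfld.isDomain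
  have hmax : IsMax η := by
    rw [ringKrullDim_stalk_eq_coheight] at h0
    have : Order.coheight η = 0 := by exact_mod_cast h0
    exact Order.coheight_eq_zero.mp this
  obtain ⟨V, hηV, hVint⟩ :=
    Groth.Agent.Lib.Helper21.RatExt.exists_integral_nhd_of_finite_irreducibleComponents
      (NoetherianSpace.finite_irreducibleComponents (α := R)) η
  -- `V` is an integral curve over `k`
  letI ov : (V : Scheme.{u}).Over (Spec (CommRingCat.of k)) := ⟨V.ι ≫ sR⟩
  have hov : (V : Scheme.{u}) ↘ Spec (CommRingCat.of k) = V.ι ≫ sR := rfl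
  haveI : LocallyOfFiniteType ((V : Scheme.{u}) ↘ Spec (CommRingCat.of k)) := by
    rw [hov]; infer_instance
  haveI : QuasiCompact ((V : Scheme.{u}) ↘ Spec (CommRingCat.of k)) := by
    rw [hov]; infer_instance
  haveI : IsSeparated ((V : Scheme.{u}) ↘ Spec (CommRingCat.of k)) := by
    rw [hov]; infer_instance
  obtain ⟨x₀, hx₀c, hx₀n⟩ :=
    Groth.Agent.Lib.Helper21.CurveRiem.exists_closed_normal_point k (V : Scheme.{u})
  have hpc : IsClosed ({V.ι x₀} : Set R) := by
    have h1 : x₀ ∈ V.ι ⁻¹' closedPoints R := by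
      rw [V.ι.isOpenEmbedding.preimage_closedPoints]
      exact hx₀c
    exact h1
  refine ⟨V.ι x₀, hpc, ?_, ?_⟩
  · -- the generic point of `V` is `η`
    have h1 : genericPoint (V : Scheme.{u}) ⤳ (⟨η, hηV⟩ : (V : Scheme.{u})) :=
      genericPoint_specializes _
    have h2 : V.ι (genericPoint (V : Scheme.{u})) ⤳ η := h1.map V.ι.continuous
    have h3 : η ⤳ V.ι (genericPoint (V : Scheme.{u})) := hmax (b := V.ι (genericPoint _)) h2
    have h4 : V.ι (genericPoint (V : Scheme.{u})) = η := (h2.antisymm h3).eq
    have h5 : genericPoint (V : Scheme.{u}) ⤳ x₀ := genericPoint_specializes _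
    have h6 : η ⤳ V.ι x₀ := h4 ▸ h5.map V.ι.continuous
    exact specializes_iff_mem_closure.mp h6
  · let e : (V : Scheme.{u}).presheaf.stalk x₀ ≃+* R.presheaf.stalk (V.ι x₀) :=
      (V.stalkIso x₀).commRingCatIsoToRingEquiv
    haveI hd : IsDomain (R.presheaf.stalk (V.ι x₀)) :=
      MulEquiv.isDomain ((V : Scheme.{u}).presheaf.stalk x₀) e.symm.toMulEquiv
    have hic : IsIntegrallyClosed (R.presheaf.stalk (V.ι x₀)) :=
      IsIntegrallyClosed.of_equiv e
    refine ⟨hd, ?_⟩
    exact Groth.Agent.Lib.Helper21.RatExt.valuationRing_of_isIntegrallyClosed_of_dim_le_one _ hic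
      ((Groth.Agent.Lib.Helper21.CurveH0.ringKrullDim_stalk_le R _).trans hdim)

include k sR in
/-- a finite set of good closed points meeting the closure of every non-closed point -/
theorem exists_good_points (hdim : topologicalKrullDim R ≤ 1) :
    ∃ F : Set R, F.Finite ∧ (∀ p ∈ F, IsClosed ({p} : Set R)) ∧
      (∀ p ∈ F, ∃ _ : IsDomain (R.presheaf.stalk p), ValuationRing (R.presheaf.stalk p)) ∧
      (∀ p ∈ F, ∃ η : R, ¬ IsClosed ({η} : Set R) ∧ p ∈ closure ({η} : Set R)) ∧
      (∀ η : R, ¬ IsClosed ({η} : Set R) → ∃ p ∈ F, p ∈ closure ({η} : Set R)) := by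
  haveI : IsLocallyNoetherian R := LocallyOfFiniteType.isLocallyNoetherian sR
  haveI : CompactSpace R := QuasiCompact.compactSpace_of_compactSpace sR
  haveI : IsNoetherian R := { }
  have hNC : {η : R | ¬ IsClosed ({η} : Set R)}.Finite := by
    have hfin := NoetherianSpace.finite_irreducibleComponents (α := R)
    refine Set.Finite.of_finite_image (f := fun η : R => closure ({η} : Set R))
      (hfin.subset ?_) ?_
    · rintro _ ⟨η, hη, rfl⟩
      have h0 := Groth.Agent.Lib.Helper21.CurveH0.ringKrullDim_stalk_eq_zero_of_not_isClosed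
        R hdim η hη
      rw [ringKrullDim_stalk_eq_coheight] at h0
      have h1 : Order.coheight η = 0 := by exact_mod_cast h0
      exact Groth.Agent.Lib.Helper21.closure_singleton_mem_irreducibleComponents_of_isMax
        (Order.coheight_eq_zero.mp h1)
    · intro a _ b _ hab
      have hab' : closure ({a} : Set R) = closure {b} := hab
      have h1 : a ⤳ b := by
        rw [specializes_iff_closure_subset, hab']
      have h2 : b ⤳ a := by
        rw [specializes_iff_closure_subset, hab']
      exact (h1.antisymm h2).eq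
  choose! P hP1 hP2 hP3 using exists_good_point k R sR hdim
  refine ⟨P '' {η : R | ¬ IsClosed ({η} : Set R)}, hNC.image P, ?_, ?_, ?_, ?_⟩
  · rintro _ ⟨η, hη, rfl⟩
    exact hP1 η hη
  · rintro _ ⟨η, hη, rfl⟩
    exact hP3 η hη
  · rintro _ ⟨η, hη, rfl⟩
    exact ⟨η, hη, hP2 η hη⟩
  · intro η hη
    exact ⟨P η, ⟨η, hη, rfl⟩, hP2 η hη⟩

end Groth.Agent.Lib.Helper21.PC
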