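import Mathlib
import Groth.Agent.Lib.Helper22.FibreDim

/-!
# Projective completion of curves V: Noether normalization in dimension `≤ 1`
-/

set_option autoImplicit false
set_option linter.style.haveILetI false
set_option linter.unusedSectionVars false
universe u

namespace Groth.Agent.Lib.Helper21.PC

open Polynomial

/-- a finite type algebra of dimension `≤ 1` over a field is finite over a polynomial ring in one
variable -/
theorem exists_finite_aeval {k A : Type u} [Field k] [CommRing A] [Algebra k A]
    [Algebra.FiniteType k A] (hdim : ringKrullDim A ≤ 1) :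
    ∃ t : A, (Polynomial.aeval (R := k) t).toRingHom.Finite := by
  rcases subsingleton_or_nontrivial A with hA | hA
  · refine ⟨0, ?_⟩
    letI := (Polynomial.aeval (R := k) (0 : A)).toRingHom.toAlgebra
    show Module.Finite k[X] A
    infer_instance
  · obtain ⟨s, g, hinj, hfin⟩ := exists_finite_inj_algHom_of_fg k A
    have hs : ringKrullDim A = s :=
      Groth.Agent.Lib.Helper22.ringKrullDim_eq_of_finite_inj s g hinj
        (fun a => (RingHom.Finite.to_isIntegral hfin) a)
    rw [hs] at hdim
    have hs1 : s ≤ 1 := by exact_mod_cast hdim
    -- the element `t`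
    let t : A := ∑ i : Fin s, g (MvPolynomial.X i)
    have ht : ∀ i : Fin s, g (MvPolynomial.X i) = t := by
      intro i
      interval_cases s
      · exact i.elim0
      · have : i = 0 := Subsingleton.elim _ _
        subst this
        simp [t]
    let ψ : MvPolynomial (Fin s) k →ₐ[k] k[X] := MvPolynomial.aeval (fun _ => Polynomial.X)
    have hcomp : g = (Polynomial.aeval (R := k) t).comp ψ := by
      apply MvPolynomial.algHom_ext
      intro i
      simp only [AlgHom.comp_apply, ψ, MvPolynomial.aeval_X, Polynomial.aeval_X]
      exact ht i
    refine ⟨t, ?_⟩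
    have h1 : ((Polynomial.aeval (R := k) t).toRingHom.comp ψ.toRingHom).Finite := by
      have : (Polynomial.aeval (R := k) t).toRingHom.comp ψ.toRingHom = g.toRingHom := by
        rw [hcomp]; rfl
      rw [this]
      exact hfin
    exact RingHom.Finite.of_comp_finite h1

end Groth.Agent.Lib.Helper21.PC
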