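import Groth.Agent.Lib.Helper21.PC4
import Groth.Agent.Lib.Helper21.PC5
import Groth.Agent.Lib.Helper20.DimTrdeg

/-!
# Projective completion of curves VI: a dense affine open of a reduced curve with finite
complement consisting of normal closed points, and a function on it finite over `k[t]`
-/

set_option autoImplicit false
set_option linter.style.haveILetI false
set_option linter.unusedSectionVars false
universe u
open CategoryTheory CategoryTheory.Limits AlgebraicGeometry TopologicalSpace

namespace Groth.Agent.Lib.Helper21.PC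

open Groth.Agent.Lib.Helper21.CurveRiem

section FT
variable (k : Type u) [Field k] (X : Scheme.{u}) (sX : X ⟶ Spec (CommRingCat.of k))
  [LocallyOfFiniteType sX]

/-- sections over affine opens are algebras of finite type over the base field -/
theorem finiteType_secMap (U : X.Opens) (hU : IsAffineOpen U) :
    (secMap k sX U).FiniteType := by
  have h1 : (sX.appLE ⊤ U le_top).hom.FiniteType :=
    sX.finiteType_appLE (isAffineOpen_top _) hU le_top
  have h2 : secMap k sX U =
      (sX.appLE ⊤ U le_top).hom.comp (Scheme.ΓSpecIso (CommRingCat.of k)).inv.hom := by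
    ext c
    unfold secMap Coh.toGlobal
    simp only [RingHom.comp_apply]
    rw [Scheme.Hom.appLE]
    rfl
  rw [h2]
  exact h1.comp (RingHom.FiniteType.of_surjective _
    (Scheme.ΓSpecIso (CommRingCat.of k)).symm.commRingCatIsoToRingEquiv.surjective)

/-- Noether normalization on an affine open of a curve -/
theorem exists_finite_section (hdim : topologicalKrullDim X ≤ 1) (U : X.Opens)
    (hU : IsAffineOpen U) :
    ∃ t₀ : Γ(X, U), (Polynomial.eval₂RingHom (secMap k sX U) t₀).Finite := by
  letI alg : Algebra k Γ(X, U) := (secMap k sX U).toAlgebra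
  haveI : Algebra.FiniteType k Γ(X, U) := finiteType_secMap k X sX U hU
  have hd : ringKrullDim Γ(X, U) ≤ 1 := by
    rw [← Groth.Agent.Lib.Helper20.DimTrdeg.topologicalKrullDim_opens_eq U hU]
    exact (topologicalKrullDim_subspace_le X _).trans hdim
  obtain ⟨t, ht⟩ := exists_finite_aeval (k := k) hd
  refine ⟨t, ?_⟩
  have : Polynomial.eval₂RingHom (secMap k sX U) t = (Polynomial.aeval (R := k) t).toRingHom := by
    ext p
    · simp [Polynomial.aeval_def]; rfl
    · simp
  rw [this]
  exact ht

end FT

section Red
variable (k : Type u) [Field k] (R : Scheme.{u}) (sR : R ⟶ Spec (CommRingCat.of k))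
  [IsReduced R] [IsSeparated sR] [LocallyOfFiniteType sR] [QuasiCompact sR]

include k sR in
/-- a dense affine open with finite complement consisting of normal closed points -/
theorem exists_affine_dense_open (hdim : topologicalKrullDim R ≤ 1) :
    ∃ U : R.Opens, IsAffineOpen U ∧ Dense (U : Set R) ∧ ((U : Set R)ᶜ).Finite ∧
      (∀ x ∉ U, IsClosed ({x} : Set R)) ∧
      (∀ x ∉ U, ∃ _ : IsDomain (R.presheaf.stalk x), ValuationRing (R.presheaf.stalk x)) := by
  obtain ⟨F, hFfin, hFc, hFv, hFη, hF⟩ := exists_good_points k R sR hdim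
  have hFcl : IsClosed F := by
    have : F = ⋃ p ∈ F, ({p} : Set R) := by ext z; simp
    rw [this]
    exact Set.Finite.isClosed_biUnion hFfin hFc
  let U : R.Opens := ⟨Fᶜ, hFcl.isOpen_compl⟩
  have hUc : (U : Set R)ᶜ = F := compl_compl F
  refine ⟨U, ?_, ?_, by rw [hUc]; exact hFfin, ?_, ?_⟩
  · apply isAffineOpen_of_forall_exists_notMem k R sR hdim U
    intro x _ hx
    obtain ⟨p, hpF, hp⟩ := hF x hx
    exact ⟨p, hp, fun h => h hpF⟩
  · rw [dense_iff_inter_open]
    intro O hO ⟨y, hy⟩
    by_cases hyF : y ∈ F
    · obtain ⟨η, hη, hyη⟩ := hFη y hyF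
      have hsp : η ⤳ y := specializes_iff_mem_closure.mpr hyη
      refine ⟨η, hsp.mem_open hO hy, ?_⟩
      intro hηF
      exact hη (hFc η hηF)
    · exact ⟨y, hy, hyF⟩
  · intro x hx
    have : x ∈ F := by
      by_contra h
      exact hx h
    exact hFc x this
  · intro x hx
    have : x ∈ F := by
      by_contra h
      exact hx h
    exact hFv x this

end Red

end Groth.Agent.Lib.Helper21.PC
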