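import Groth.Agent.Lib.Helper21.PC6
import Groth.Agent.Lib.Helper21.CurveRiem4
import Groth.Agent.Lib.Helper21.GlueFam

/-!
# Projective completion of curves VII: the pole function near the points at infinity (reduced case)
-/

set_option autoImplicit false
set_option linter.style.haveILetI false
set_option linter.unusedSectionVars false
universe u
open CategoryTheory CategoryTheory.Limits AlgebraicGeometry TopologicalSpace
open HomogeneousLocalization MvPolynomial Groth.Agent.Lib.Helper29.QCoh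

namespace Groth.Agent.Lib.Helper21.PC

open Groth.Agent.Lib.Helper21.CurveRiem Groth.Agent.Lib.Helper21

theorem app_res_eq {X Y : Scheme.{u}} (f : X ⟶ Y) {V' V : Y.Opens} (hV : V' ≤ V) {W : X.Opens}
    (hW : W ≤ f ⁻¹ᵁ V') (s : Γ(Y, V)) :
    (X.presheaf.map (homOfLE hW).op).hom ((f.app V').hom ((Y.presheaf.map (homOfLE hV).op).hom s)) =
      (f.appLE V W (hW.trans (f.preimage_mono hV))).hom s := by
  have h := Scheme.Hom.map_appLE f (hW) (homOfLE hV).op
  rw [← h]
  simp only [Scheme.Hom.appLE, CommRingCat.hom_comp, RingHom.comp_apply]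

theorem res_res_app {X Y : Scheme.{u}} (f : X ⟶ Y) {V : Y.Opens} {W' W : X.Opens}
    (h1 : W ≤ f ⁻¹ᵁ V) (h2 : W' ≤ W) (s : Γ(Y, V)) :
    (X.presheaf.map (homOfLE h2).op).hom ((X.presheaf.map (homOfLE h1).op).hom ((f.app V).hom s)) =
      (f.appLE V W' (h2.trans h1)).hom s := by
  simp only [Scheme.Hom.appLE, CommRingCat.hom_comp, RingHom.comp_apply]
  rw [← RingHom.comp_apply, ← CommRingCat.hom_comp, ← Functor.map_comp]
  rfl

theorem res_app {X Y : Scheme.{u}} (f : X ⟶ Y) {V : Y.Opens} {W : X.Opens}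
    (h1 : W ≤ f ⁻¹ᵁ V) (s : Γ(Y, V)) :
    (X.presheaf.map (homOfLE h1).op).hom ((f.app V).hom s) = (f.appLE V W h1).hom s := by
  simp only [Scheme.Hom.appLE, CommRingCat.hom_comp, RingHom.comp_apply]

section Red
variable (k : Type u) [Field k] (R : Scheme.{u}) (sR : R ⟶ Spec (CommRingCat.of k))

/-- `X₀` is sent to a unit by `polyMap` -/
theorem isUnit_polyMap_X0 (U : R.Opens) (a : Γ(R, U)) : IsUnit (polyMap k sR U a (X 0)) := by
  rw [polyMap_X0]; exact isUnit_one

theorem toP1_eq_chartHom (U : R.Opens) (a : Γ(R, U)) :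
    toP1 k sR U a = chartHom (CohB1.polyGrading 1 k) U (polyMap k sR U a) (isHomogeneous_X k 0)
      Nat.one_pos (isUnit_polyMap_X0 k R sR U a) := rfl

theorem awayLift_polyMap_eq (U : R.Opens) (a : Γ(R, U)) :
    awayLift (CohB1.polyGrading 1 k) (polyMap k sR U a) (X 0) (isUnit_polyMap_X0 k R sR U a) =
      (Polynomial.eval₂RingHom (secMap k sR U) a).comp (P1.chartTo k 0) := by
  have h1 := awayLift_polyMap_comp_chartFrom k sR U a
  rw [← h1, RingHom.comp_assoc, P1.chartFrom_chartTo, RingHom.comp_id]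

theorem awayLift_polyMap_xFrac (U : R.Opens) (a : Γ(R, U)) :
    awayLift (CohB1.polyGrading 1 k) (polyMap k sR U a) (X 0) (isUnit_polyMap_X0 k R sR U a)
      (xFrac 1 k 0 1) = a := by
  have h1 := awayLift_polyMap_comp_chartFrom k sR U a
  have h2 := congrArg (fun ψ => ψ Polynomial.X) h1
  simp only [RingHom.comp_apply, Polynomial.coe_eval₂RingHom, Polynomial.eval₂_X] at h2
  rw [P1.chartFrom_X] at h2
  exact h2

end Red

section Main
variable (k : Type u) [Field k] (R : Scheme.{u}) (sR : R ⟶ Spec (CommRingCat.of k))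
  [IsReduced R] [IsSeparated sR] [LocallyOfFiniteType sR] [QuasiCompact sR]

/-- the preimage of the finite chart under an extension of a finite map is the original open -/
theorem preimage_stdOpen_le (U : R.Opens) (hU : IsAffineOpen U) (hd : Dense (U : Set R))
    (t₀ : Γ(R, U)) (hfin : (Polynomial.eval₂RingHom (secMap k sR U) t₀).Finite)
    (g₀ : R ⟶ CohB1.ProjSpace 1 k) (hg₀U : U.ι ≫ g₀ = toP1 k sR U t₀)
    (hg₀s : g₀ ≫ CohB1.ProjSpace.toSpec 1 k = sR) :
    g₀ ⁻¹ᵁ P1.stdOpen k 0 ≤ U := by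
  have hr : U.ι ≫ g₀ = chartHom (CohB1.polyGrading 1 k) U (polyMap k sR U t₀)
      (isHomogeneous_X k 0) Nat.one_pos (isUnit_polyMap_X0 k R sR U t₀) := hg₀U
  have hle : U ≤ g₀ ⁻¹ᵁ P1.stdOpen k 0 :=
    le_preimage_of_ι_comp_eq (CohB1.polyGrading 1 k) g₀ _ (isHomogeneous_X k 0) Nat.one_pos _ hr
  -- the restricted map is finite
  have hcomp : R.homOfLE hle ≫ (g₀ ∣_ P1.stdOpen k 0) =
      U.toSpecΓ ≫ Spec.map (CommRingCat.ofHom (awayLift (CohB1.polyGrading 1 k)
        (polyMap k sR U t₀) (X 0) (isUnit_polyMap_X0 k R sR U t₀))) ≫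
        (Proj.basicOpenIsoSpec (CohB1.polyGrading 1 k) (X 0) (isHomogeneous_X k 0)
          Nat.one_pos).inv := by
    rw [← cancel_mono (P1.stdOpen k 0).ι]
    have h1 := chartHom_eq (CohB1.polyGrading 1 k) U (polyMap k sR U t₀) (isHomogeneous_X k 0)
      Nat.one_pos (isUnit_polyMap_X0 k R sR U t₀)
    rw [Category.assoc, morphismRestrict_ι, ← Category.assoc, Scheme.homOfLE_ι, hr, h1]
    simp only [Category.assoc]
    rfl
  haveI : IsIso U.toSpecΓ := by rw [← hU.isoSpec_hom]; infer_instance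
  haveI : IsFinite (Spec.map (CommRingCat.ofHom (awayLift (CohB1.polyGrading 1 k)
      (polyMap k sR U t₀) (X 0) (isUnit_polyMap_X0 k R sR U t₀)))) := by
    rw [IsFinite.SpecMap_iff, CommRingCat.hom_ofHom, awayLift_polyMap_eq]
    exact hfin.comp (RingHom.Finite.of_surjective _ (P1.chartEquiv k 0).surjective)
  haveI : IsFinite (R.homOfLE hle ≫ (g₀ ∣_ P1.stdOpen k 0)) := by
    rw [hcomp]
    haveI h3 : IsFinite (Proj.basicOpenIsoSpec (CohB1.polyGrading 1 k) (X 0) (isHomogeneous_X k 0)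
          Nat.one_pos).inv := inferInstance
    haveI h4 : IsFinite U.toSpecΓ := inferInstance
    exact MorphismProperty.comp_mem _ _ _ h4 (MorphismProperty.comp_mem _ _ _ ‹_› h3)
  haveI : IsSeparated g₀ := by
    haveI : IsSeparated (g₀ ≫ CohB1.ProjSpace.toSpec 1 k) := by rw [hg₀s]; infer_instance
    exact IsSeparated.of_comp g₀ (CohB1.ProjSpace.toSpec 1 k)
  haveI : IsProper (R.homOfLE hle) := IsProper.of_comp (R.homOfLE hle) (g₀ ∣_ P1.stdOpen k 0)
  have hcl : IsClosed (Set.range (R.homOfLE hle).base) := (R.homOfLE hle).isClosedMap.isClosed_range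
  haveI := Groth.Agent.Lib.Helper21.DVRExt.isDominant_homOfLE hle hd
  have hdr : DenseRange (R.homOfLE hle).base := (R.homOfLE hle).denseRange
  have huniv : Set.range (R.homOfLE hle).base = Set.univ := by
    rw [← hcl.closure_eq]; exact hdr.closure_range
  intro x hx
  have : (⟨x, hx⟩ : (g₀ ⁻¹ᵁ P1.stdOpen k 0 : R.Opens)) ∈ Set.range (R.homOfLE hle).base := by
    rw [huniv]; trivial
  obtain ⟨y, hy⟩ := this
  have h2 := congrArg (fun z => (g₀ ⁻¹ᵁ P1.stdOpen k 0).ι z) hy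
  simp only at h2
  rw [← Scheme.Hom.comp_apply, Scheme.homOfLE_ι] at h2
  have : x = U.ι y := h2.symm
  rw [this]
  exact y.2

/-- `X₀/X₁` is invertible exactly on the intersection of the two charts -/
theorem basicOpen_coord_one_zero :
    (CohB1.ProjSpace 1 k).basicOpen (P1.coord k 1 0) = P1.stdOpen k 0 ⊓ P1.stdOpen k 1 := by
  apply le_antisymm
  · exact le_inf (P1.basicOpen_coord_le k 1 0) ((CohB1.ProjSpace 1 k).basicOpen_le _)
  · have h := P1.res_coord_mul k (P1.stdOpen k 0 ⊓ P1.stdOpen k 1) inf_le_left inf_le_right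
    have hu : IsUnit (((CohB1.ProjSpace 1 k).presheaf.map
        (homOfLE (inf_le_right : P1.stdOpen k 0 ⊓ P1.stdOpen k 1 ≤ P1.stdOpen k 1)).op).hom
        (P1.coord k 1 0)) := IsUnit.of_mul_eq_one _ (by rw [mul_comm]; exact h)
    have h2 := (CohB1.ProjSpace 1 k).basicOpen_res (P1.coord k 1 0)
      (homOfLE (inf_le_right : P1.stdOpen k 0 ⊓ P1.stdOpen k 1 ≤ P1.stdOpen k 1)).op
    have h3 := (CohB1.ProjSpace 1 k).basicOpen_of_isUnit hu
    rw [h3] at h2
    intro x hx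
    have : x ∈ (P1.stdOpen k 0 ⊓ P1.stdOpen k 1) ⊓
        (CohB1.ProjSpace 1 k).basicOpen (P1.coord k 1 0) := by
      rw [← h2]; exact hx
    exact this.2

include k sR in
/-- **the reduced case**: a dense affine open `U`, a function `t₀` on it over which it is finite,
and a neighbourhood `N` of the complement on which `1/t₀` is regular. -/
theorem exists_reduced_data (hdim : topologicalKrullDim R ≤ 1) :
    ∃ (U N : R.Opens) (t₀ : Γ(R, U)) (σ₀ : Γ(R, N)),
      IsAffineOpen U ∧ Dense (U : Set R) ∧ U ⊔ N = ⊤ ∧ ((U : Set R)ᶜ).Finite ∧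
      (∀ x ∉ U, IsClosed ({x} : Set R)) ∧
      (Polynomial.eval₂RingHom (secMap k sR U) t₀).Finite ∧
      (R.presheaf.map (homOfLE (inf_le_left : U ⊓ N ≤ U)).op).hom t₀ *
        (R.presheaf.map (homOfLE (inf_le_right : U ⊓ N ≤ N)).op).hom σ₀ = 1 ∧
      R.basicOpen σ₀ = U ⊓ N := by
  obtain ⟨U, hU, hd, hfinc, hcl, hval⟩ := exists_affine_dense_open k R sR hdim
  obtain ⟨t₀, ht₀⟩ := exists_finite_section k R sR hdim U hU
  haveI : IsLocallyNoetherian R := LocallyOfFiniteType.isLocallyNoetherian sR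
  haveI hprop : IsProper (CohB1.ProjSpace.toSpec 1 k) :=
    Groth.Agent.S9705.isProper_toSpec 1 k
  obtain ⟨g₀, hg₀U, hg₀s⟩ := RatExt.exists_extension_of_valuationRing_off sR
    (CohB1.ProjSpace.toSpec 1 k) U hd hval (toP1 k sR U t₀) (toP1_toSpec k sR U t₀)
  have hr : U.ι ≫ g₀ = chartHom (CohB1.polyGrading 1 k) U (polyMap k sR U t₀)
      (isHomogeneous_X k 0) Nat.one_pos (isUnit_polyMap_X0 k R sR U t₀) := hg₀U
  have hle : U ≤ g₀ ⁻¹ᵁ P1.stdOpen k 0 :=
    le_preimage_of_ι_comp_eq (CohB1.polyGrading 1 k) g₀ _ (isHomogeneous_X k 0) Nat.one_pos _ hr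
  have hge : g₀ ⁻¹ᵁ P1.stdOpen k 0 ≤ U :=
    preimage_stdOpen_le k R sR U hU hd t₀ ht₀ g₀ hg₀U hg₀s
  have hN₀ : g₀ ⁻¹ᵁ P1.stdOpen k 0 = U := le_antisymm hge hle
  set N : R.Opens := g₀ ⁻¹ᵁ P1.stdOpen k 1 with hN
  set σ₀ : Γ(R, N) := (g₀.app (P1.stdOpen k 1)).hom (P1.coord k 1 0) with hσ₀
  have hcov : U ⊔ N = ⊤ := by
    rw [← hN₀, hN, eq_top_iff]
    intro x _
    obtain ⟨i, hi⟩ := P1.exists_mem_stdOpen k (g₀ x)
    fin_cases i
    · exact Or.inl hi
    · exact Or.inr hi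
  -- the pull back of `X₁/X₀` restricts to `t₀`
  have ht : (R.presheaf.map (homOfLE hle).op).hom
      ((g₀.app (P1.stdOpen k 0)).hom (P1.coord k 0 1)) = t₀ := by
    have h1 := awayToSection_app_res (CohB1.polyGrading 1 k) g₀ (polyMap k sR U t₀)
      (isHomogeneous_X k 0) Nat.one_pos (isUnit_polyMap_X0 k R sR U t₀) hr
    have h2 := congrArg (fun ψ => ψ.hom (xFrac 1 k 0 1)) h1
    simp only [CommRingCat.hom_comp, RingHom.comp_apply, CommRingCat.hom_ofHom] at h2
    rw [awayLift_polyMap_xFrac] at h2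
    exact h2
  refine ⟨U, N, t₀, σ₀, hU, hd, hcov, hfinc, hcl, ht₀, ?_, ?_⟩
  · -- the product is one
    have hUN : U ⊓ N ≤ g₀ ⁻¹ᵁ (P1.stdOpen k 0 ⊓ P1.stdOpen k 1) := by
      intro x hx
      exact ⟨hle hx.1, hx.2⟩
    have h1 := P1.res_coord_mul k (P1.stdOpen k 0 ⊓ P1.stdOpen k 1) inf_le_left inf_le_right
    have h2 := congrArg (fun z => (R.presheaf.map (homOfLE hUN).op).hom
      ((g₀.app (P1.stdOpen k 0 ⊓ P1.stdOpen k 1)).hom z)) h1
    simp only [map_mul, map_one] at h2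
    rw [← h2, ← ht]
    congr 1
    · rw [res_res_app g₀ hle inf_le_left, app_res_eq g₀ inf_le_left hUN]
    · rw [hσ₀, res_app g₀ (inf_le_right : U ⊓ N ≤ N), app_res_eq g₀ inf_le_right hUN]
  · rw [hσ₀, ← Scheme.preimage_basicOpen, basicOpen_coord_one_zero, Scheme.Hom.preimage_inf, hN₀]

end Main

end Groth.Agent.Lib.Helper21.PC
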