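import Groth.Agent.Lib.Helper21.PC7

/-!
# Projective completion of curves VIII: the reduction of a scheme
-/

set_option autoImplicit false
set_option linter.style.haveILetI false
set_option linter.unusedSectionVars false
universe u
open CategoryTheory CategoryTheory.Limits AlgebraicGeometry TopologicalSpace

namespace Groth.Agent.Lib.Helper21.PC

variable (X : Scheme.{u})

theorem isReduced_red : IsReduced X.nilradical.subscheme := by
  rw [IsReduced.iff_of_openCover (𝒰 := X.nilradical.subschemeCover.openCover)]
  change (∀ U : X.affineOpens,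
    IsReduced (Spec (CommRingCat.of (Γ(X, U) ⧸ X.nilradical.ideal U))))
  intro U
  rw [affine_isReduced_iff]
  change _root_.IsReduced (Γ(X, U) ⧸ X.nilradical.ideal U)
  rw [← Ideal.isRadical_iff_quotient_reduced]
  exact Ideal.radical_isRadical _

theorem surjective_redι : Function.Surjective X.nilradical.subschemeι := by
  intro x
  have : x ∈ Set.range X.nilradical.subschemeι := by
    rw [Scheme.IdealSheafData.range_subschemeι, Scheme.support_nilradical]; trivial
  exact this

instance : Surjective X.nilradical.subschemeι := ⟨surjective_redι X⟩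

theorem isHomeomorph_redι : IsHomeomorph X.nilradical.subschemeι :=
  isHomeomorph_iff_isEmbedding_surjective.mpr
    ⟨X.nilradical.subschemeι.isEmbedding, surjective_redι X⟩

theorem exists_preimage_eq (O : X.nilradical.subscheme.Opens) :
    ∃ O' : X.Opens, X.nilradical.subschemeι ⁻¹ᵁ O' = O := by
  refine ⟨⟨X.nilradical.subschemeι '' (O : Set X.nilradical.subscheme),
    (isHomeomorph_redι X).isOpenMap _ O.2⟩, ?_⟩
  ext x
  constructor
  · rintro ⟨y, hy, hxy⟩
    have := X.nilradical.subschemeι.isEmbedding.injective hxy
    rw [← this]; exact hy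
  · intro hx
    exact ⟨x, hx, rfl⟩

theorem preimage_le_iff (O O' : X.Opens) :
    X.nilradical.subschemeι ⁻¹ᵁ O ≤ X.nilradical.subschemeι ⁻¹ᵁ O' ↔ O ≤ O' := by
  constructor
  · intro h x hx
    obtain ⟨y, rfl⟩ := surjective_redι X x
    exact h hx
  · intro h
    exact X.nilradical.subschemeι.preimage_mono h

theorem preimage_injective {O O' : X.Opens}
    (h : X.nilradical.subschemeι ⁻¹ᵁ O = X.nilradical.subschemeι ⁻¹ᵁ O') : O = O' :=
  le_antisymm ((preimage_le_iff X O O').mp h.le) ((preimage_le_iff X O' O).mp h.ge)

theorem isNilpotent_of_app_eq_zero (V : X.Opens) (hV : IsAffineOpen V) (a : Γ(X, V))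
    (h : (X.nilradical.subschemeι.app V).hom a = 0) : IsNilpotent a := by
  have h1 : a ∈ RingHom.ker (X.nilradical.subschemeι.app V).hom := h
  have h2 := X.nilradical.ker_subschemeι_app ⟨V, hV⟩
  rw [h2] at h1
  have h3 : a ∈ (⊥ : Ideal Γ(X, V)).radical := h1
  obtain ⟨n, hn⟩ := h3
  exact ⟨n, hn⟩

theorem app_surjective (V : X.Opens) (hV : IsAffineOpen V) :
    Function.Surjective (X.nilradical.subschemeι.app V).hom :=
  X.nilradical.subschemeι_app_surjective ⟨V, hV⟩

/-- an open of `X` is affine as soon as the corresponding open of the reduction is -/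
theorem isAffineOpen_of_preimage (V : X.Opens)
    (h : IsAffineOpen (X.nilradical.subschemeι ⁻¹ᵁ V)) : IsAffineOpen V := by
  haveI : IsAffine ((X.nilradical.subschemeι ⁻¹ᵁ V : X.nilradical.subscheme.Opens) :
      Scheme.{u}) := h
  haveI : Surjective (X.nilradical.subschemeι ∣_ V) :=
    MorphismProperty.of_isPullback (P := @Surjective)
      (isPullback_morphismRestrict X.nilradical.subschemeι V).flip inferInstance
  exact Groth.Agent.S0593.result _ _ (X.nilradical.subschemeι ∣_ V)

end Groth.Agent.Lib.Helper21.PC
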