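import Groth.Agent.Lib.Helper21.PC8

/-!
# Projective completion of curves IX: transferring the reduced data to the scheme itself
-/

set_option autoImplicit false
set_option linter.style.haveILetI false
set_option linter.unusedSectionVars false
universe u
open CategoryTheory CategoryTheory.Limits AlgebraicGeometry TopologicalSpace

namespace Groth.Agent.Lib.Helper21.PC

open Groth.Agent.Lib.Helper21.CurveRiem

variable (k : Type u) [Field k] (X : Scheme.{u}) (sX : X ⟶ Spec (CommRingCat.of k))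
  [IsSeparated sX] [LocallyOfFiniteType sX] [QuasiCompact sX]

include k sX in
theorem exists_data (hdim : topologicalKrullDim X ≤ 1) :
    ∃ (U N : X.Opens) (t₀ : Γ(X.nilradical.subscheme, X.nilradical.subschemeι ⁻¹ᵁ U))
      (σ₀ : Γ(X.nilradical.subscheme, X.nilradical.subschemeι ⁻¹ᵁ N)),
      IsAffineOpen U ∧ Dense (U : Set X) ∧ U ⊔ N = ⊤ ∧ ((U : Set X)ᶜ).Finite ∧
      (∀ x ∉ U, IsClosed ({x} : Set X)) ∧
      (Polynomial.eval₂RingHom (secMap k (X.nilradical.subschemeι ≫ sX)
        (X.nilradical.subschemeι ⁻¹ᵁ U)) t₀).Finite ∧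
      (X.nilradical.subscheme.presheaf.map (homOfLE (inf_le_left :
          X.nilradical.subschemeι ⁻¹ᵁ U ⊓ X.nilradical.subschemeι ⁻¹ᵁ N ≤
            X.nilradical.subschemeι ⁻¹ᵁ U)).op).hom t₀ *
        (X.nilradical.subscheme.presheaf.map (homOfLE (inf_le_right :
          X.nilradical.subschemeι ⁻¹ᵁ U ⊓ X.nilradical.subschemeι ⁻¹ᵁ N ≤
            X.nilradical.subschemeι ⁻¹ᵁ N)).op).hom σ₀ = 1 ∧
      X.nilradical.subscheme.basicOpen σ₀ =
        X.nilradical.subschemeι ⁻¹ᵁ U ⊓ X.nilradical.subschemeι ⁻¹ᵁ N := by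
  haveI := isReduced_red X
  have hemb : Topology.IsEmbedding X.nilradical.subschemeι :=
    X.nilradical.subschemeι.isEmbedding
  have hdimR : topologicalKrullDim ↥X.nilradical.subscheme ≤ 1 :=
    hemb.isInducing.topologicalKrullDim_le.trans hdim
  obtain ⟨U', N', t₀, σ₀, hU, hd, hcov, hfin, hcl, ht₀, hmul, hbo⟩ :=
    exists_reduced_data k X.nilradical.subscheme (X.nilradical.subschemeι ≫ sX) hdimR
  obtain ⟨U, rfl⟩ := exists_preimage_eq X U'
  obtain ⟨N, rfl⟩ := exists_preimage_eq X N'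
  have hsurj := surjective_redι X
  refine ⟨U, N, t₀, σ₀, isAffineOpen_of_preimage X U hU, ?_, ?_, ?_, ?_, ht₀, hmul, hbo⟩
  · rw [dense_iff_inter_open]
    rintro O hO ⟨x, hx⟩
    obtain ⟨y, rfl⟩ := hsurj x
    obtain ⟨z, hzO, hzU⟩ := hd.inter_open_nonempty _
      (hO.preimage X.nilradical.subschemeι.continuous) ⟨y, hx⟩
    exact ⟨X.nilradical.subschemeι z, hzO, hzU⟩
  · apply preimage_injective X
    rw [Scheme.Hom.preimage_sup, hcov, Scheme.Hom.preimage_top]
  · refine (hfin.image X.nilradical.subschemeι).subset ?_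
    intro x hx
    obtain ⟨y, rfl⟩ := hsurj x
    exact ⟨y, fun hy => hx hy, rfl⟩
  · intro x hx
    obtain ⟨y, rfl⟩ := hsurj x
    have hy : IsClosed ({y} : Set X.nilradical.subscheme) := hcl y (fun hy => hx hy)
    have := X.nilradical.subschemeι.isClosedEmbedding.isClosedMap _ hy
    rwa [Set.image_singleton] at this

end Groth.Agent.Lib.Helper21.PC
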