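import Mathlib
import Groth.Agent.Lib.Helper18.PISep

/-!
# `K ⊗ P` is Artinian iff the reduction of `k' ⊗ K` is geometrically reduced for some finite purely
inseparable `k'` (`P` a perfect closure of `k`)
-/

set_option autoImplicit false
set_option linter.style.haveILetI false
set_option linter.unusedSectionVars false
universe u

open TensorProduct

namespace Groth.Agent.Lib.Helper21.PerfArt

/-- a ring with a single prime ideal whose nilradical is finitely generated is Artinian -/
theorem isArtinianRing_of_subsingleton_of_fg (T : Type*) [CommRing T]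
    [Subsingleton (PrimeSpectrum T)] (h : (nilradical T).FG) : IsArtinianRing T := by
  have hq : ∀ q : Ideal T, q.IsPrime → q = nilradical T := by
    intro q hq
    refine le_antisymm ?_ (nilradical_le_prime q)
    intro x hx
    rw [nilradical_eq_sInf, Ideal.mem_sInf]
    intro J hJ
    have : (⟨J, hJ⟩ : PrimeSpectrum T) = ⟨q, hq⟩ := Subsingleton.elim _ _
    have hJq : J = q := congrArg PrimeSpectrum.asIdeal this
    rw [hJq]
    exact hx
  rw [isArtinianRing_iff_isNoetherianRing_krullDimLE_zero]
  refine ⟨IsNoetherianRing.of_prime fun q hq' => ?_, Ring.KrullDimLE.mk₀ fun q hq' => ?_⟩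
  · rw [hq q hq']
    exact h
  · obtain ⟨M, hM, hqM⟩ := Ideal.exists_le_maximal q hq'.ne_top
    have : M = q := (hq M hM.isPrime).trans (hq q hq').symm
    rw [← this]
    exact hM

variable (k K P : Type u) [Field k] [Field K] [Field P] [Algebra k K] [Algebra k P]

theorem subsingleton_primeSpectrum_tensor [IsPurelyInseparable k P] :
    Subsingleton (PrimeSpectrum (K ⊗[k] P)) := by
  have h := PrimeSpectrum.isHomeomorph_comap_of_isPurelyInseparable k P K
  exact h.injective.subsingleton

open Groth.Agent.Lib.Helper18.PISep in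
theorem exists_of_isArtinianRing [PerfectField P] [IsPurelyInseparable k P]
    (h : IsArtinianRing (K ⊗[k] P)) :
    ∃ (k' : Type u) (_ : Field k') (_ : Algebra k k'), Module.Finite k k' ∧
      IsPurelyInseparable k k' ∧
      Algebra.IsGeometricallyReduced k' ((k' ⊗[k] K) ⧸ nilradical (k' ⊗[k] K)) := by
  classical
  haveI : IsArtinianRing (P ⊗[k] K) :=
    RingEquiv.isArtinianRing (Algebra.TensorProduct.comm k K P).toRingEquiv
  haveI : IsNoetherianRing (P ⊗[k] K) := inferInstance
  obtain ⟨G, hG⟩ : (nilradical (P ⊗[k] K)).FG := IsNoetherian.noetherian _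
  haveI : Algebra.IsAlgebraic k P := inferInstance
  obtain ⟨F, hFfin, hFG⟩ := exists_finite_intermediateField_finset (k := k) (L := P) (R := K) G
  haveI : Algebra.IsAlgebraic F P := Algebra.IsAlgebraic.tower_top (K := k) F
  refine ⟨F, inferInstance, inferInstance, hFfin, IsPurelyInseparable.tower_bot k F P, ?_⟩
  exact geomReduced_of_span k K F P G hG hFG

set_option maxHeartbeats 1600000 in
theorem isArtinianRing_of_exists (p : ℕ) [Fact p.Prime] [CharP k p] [PerfectRing P p]
    [IsPurelyInseparable k P]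
    (k' : Type u) [Field k'] [Algebra k k'] [Module.Finite k k'] [IsPurelyInseparable k k']
    [hgr : Algebra.IsGeometricallyReduced k' ((k' ⊗[k] K) ⧸ nilradical (k' ⊗[k] K))] :
    IsArtinianRing (K ⊗[k] P) := by
  haveI : ExpChar k p := ExpChar.prime Fact.out
  haveI : ExpChar k' p := expChar_of_injective_algebraMap (algebraMap k k').injective p
  haveI : ExpChar P p := expChar_of_injective_algebraMap (algebraMap k P).injective p
  let ι : k' →+* P := PerfectRing.lift (algebraMap k k') (algebraMap k P) p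
  have hι : ι.comp (algebraMap k k') = algebraMap k P := PerfectRing.lift_comp _ _ _
  letI : Algebra k' P := ι.toAlgebra
  haveI : IsScalarTower k k' P := IsScalarTower.of_algebraMap_eq' hι.symm
  haveI : Algebra.IsAlgebraic k P := inferInstance
  haveI : Algebra.IsAlgebraic k' P := Algebra.IsAlgebraic.tower_top (K := k) k'
  -- `k' ⊗ K` is Noetherian
  haveI : IsNoetherianRing (K ⊗[k] k') :=
    Algebra.FiniteType.isNoetherianRing K (K ⊗[k] k')
  haveI : IsNoetherianRing (k' ⊗[k] K) :=
    isNoetherianRing_of_ringEquiv (K ⊗[k] k') (Algebra.TensorProduct.comm k K k').toRingEquiv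
  have hNfg : (nilradical (k' ⊗[k] K)).FG := IsNoetherian.noetherian _
  -- the ring `P ⊗[k'] (k' ⊗[k] K)`
  let π : P ⊗[k'] (k' ⊗[k] K) →ₐ[k'] P ⊗[k'] ((k' ⊗[k] K) ⧸ nilradical (k' ⊗[k] K)) :=
    Algebra.TensorProduct.map (AlgHom.id k' P) (Ideal.Quotient.mkₐ k' (nilradical (k' ⊗[k] K)))
  have hker : RingHom.ker π = (nilradical (k' ⊗[k] K)).map
      (Algebra.TensorProduct.includeRight : (k' ⊗[k] K) →ₐ[k'] P ⊗[k'] (k' ⊗[k] K)) := by
    have := Algebra.TensorProduct.lTensor_ker (A := P)
      (Ideal.Quotient.mkₐ k' (nilradical (k' ⊗[k] K)))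
      (Ideal.Quotient.mkₐ_surjective k' (nilradical (k' ⊗[k] K)))
    have hk : RingHom.ker (Ideal.Quotient.mkₐ k' (nilradical (k' ⊗[k] K))) =
        nilradical (k' ⊗[k] K) := Ideal.Quotient.mkₐ_ker k' _
    rw [hk] at this
    exact this
  haveI : IsReduced (P ⊗[k'] ((k' ⊗[k] K) ⧸ nilradical (k' ⊗[k] K))) := inferInstance
  have hnil : nilradical (P ⊗[k'] (k' ⊗[k] K)) = (nilradical (k' ⊗[k] K)).map
      (Algebra.TensorProduct.includeRight : (k' ⊗[k] K) →ₐ[k'] P ⊗[k'] (k' ⊗[k] K)) := by
    apply le_antisymm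
    · intro x hx
      rw [← hker, RingHom.mem_ker]
      have hx' : IsNilpotent x := mem_nilradical.mp hx
      exact (hx'.map π).eq_zero
    · rw [Ideal.map_le_iff_le_comap]
      intro n hn
      rw [Ideal.mem_comap, mem_nilradical]
      exact (mem_nilradical.mp hn).map _
  have hfg : (nilradical (P ⊗[k'] (k' ⊗[k] K))).FG := by
    rw [hnil]
    exact hNfg.map _
  let E : P ⊗[k'] (k' ⊗[k] K) ≃+* K ⊗[k] P :=
    ((Algebra.TensorProduct.cancelBaseChange k k' P P K).toRingEquiv).trans
      (Algebra.TensorProduct.comm k P K).toRingEquiv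
  haveI := subsingleton_primeSpectrum_tensor k K P
  haveI : Subsingleton (PrimeSpectrum (P ⊗[k'] (k' ⊗[k] K))) :=
    (PrimeSpectrum.comapEquiv E).toEquiv.subsingleton
  haveI := isArtinianRing_of_subsingleton_of_fg (P ⊗[k'] (k' ⊗[k] K)) hfg
  exact RingEquiv.isArtinianRing E

end Groth.Agent.Lib.Helper21.PerfArt
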