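import Groth.Agent.Lib.Helper21.BaseChg4
import Groth.Agent.Lib.Helper21.FibDim13
import Groth.Agent.Lib.Helper21.ChartPt6

/-!
# Dimension of a product of schemes locally of finite type over a field
-/

set_option autoImplicit false
set_option linter.style.haveILetI false
set_option linter.unusedSectionVars false
universe u

open AlgebraicGeometry CategoryTheory Limits TopologicalSpace

namespace Groth.Agent.Lib.Helper21.ProdDim

open Groth.Agent.Lib.Helper21.FibDim Groth.Agent.Lib.Helper21.BaseChg

section

variable (k : Type u) [Field k] {X Y P : Scheme.{u}} (f : X ⟶ Spec (.of k))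
  (g : Y ⟶ Spec (.of k)) [LocallyOfFiniteType g]

/-- over a field the local fibre dimension of the structure morphism is the local dimension -/
theorem fibreDimAt_field (η : Y) : FlatMor.fibreDimAt g η = FlatMor.localDim Y η := by
  have hpb : IsPullback (g.fiberι (g η)) (g.fiberToSpecResidueField (g η)) g
      ((Spec (.of k)).fromSpecResidueField (g η)) := IsPullback.of_hasPullback _ _
  have := localDim_eq_of_isPullback_field k ((Spec (.of k)).residueField (g η)) g _
    (g.fiberι _) (g.fiberToSpecResidueField _) hpb (g.asFiber η)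
  rw [Scheme.Hom.fiberι_asFiber] at this
  exact this

variable (p : P ⟶ X) (q : P ⟶ Y) (hsq : IsPullback p q f g)

include hsq

/-- the local fibre dimension of the first projection of a product is the local dimension of the
second factor -/
theorem fibreDimAt_fst (ζ : P) : FlatMor.fibreDimAt p ζ = FlatMor.localDim Y (q ζ) := by
  rw [fibreDimAt_eq_of_isPullback hsq.flip ζ]
  exact fibreDimAt_field k g (q ζ)

variable [LocallyOfFiniteType f]

/-- **Local dimension of a product** of schemes locally of finite type over a field -/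
theorem localDim_eq_add (ζ : P) :
    FlatMor.localDim P ζ = FlatMor.localDim X (p ζ) + FlatMor.localDim Y (q ζ) := by
  haveI : Flat g := inferInstance
  haveI : Flat p := MorphismProperty.of_isPullback hsq.flip (inferInstance : Flat g)
  haveI : LocallyOfFiniteType p :=
    MorphismProperty.of_isPullback hsq.flip (inferInstance : LocallyOfFiniteType g)
  letI : X.Over (Spec (CommRingCat.of k)) := ⟨f⟩
  letI : P.Over (Spec (CommRingCat.of k)) := ⟨p ≫ f⟩
  haveI : LocallyOfFiniteType (X ↘ Spec (CommRingCat.of k)) := ‹LocallyOfFiniteType f›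
  haveI : LocallyOfFiniteType (P ↘ Spec (CommRingCat.of k)) :=
    (inferInstance : LocallyOfFiniteType (p ≫ f))
  haveI : IsLocallyNoetherian X := LocallyOfFiniteType.isLocallyNoetherian f
  haveI : IsLocallyNoetherian P := LocallyOfFiniteType.isLocallyNoetherian (p ≫ f)
  obtain ⟨c, b', hc, hb', hloc⟩ := exists_fibreDimAt_eq_add p ζ
  obtain ⟨a, ha⟩ := exists_nat_trdeg k X (p ζ)
  obtain ⟨b, hb⟩ := Groth.Agent.Lib.Helper18.SerreReg.exists_ringKrullDim_eq_nat
    (X.presheaf.stalk (p ζ))
  have hac := trdeg_add_of_comp k P X p rfl ζ a c ha hc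
  have hdim := ringKrullDim_stalk_eq_add_fibre_of_flat p ζ
  rw [hb, hb'] at hdim
  have hdim' : ringKrullDim (P.presheaf.stalk ζ) = ((b + b' : ℕ) : WithBot ℕ∞) := by
    rw [hdim]; push_cast; rfl
  rw [Groth.Agent.Lib.Helper21.ChartPt.localDim_eq_add k P ζ (a + c) (b + b') hac hdim',
    Groth.Agent.Lib.Helper21.ChartPt.localDim_eq_add k X (p ζ) a b ha hb,
    ← fibreDimAt_fst k f g p q hsq ζ, hloc]
  have : a + c + (b + b') = a + b + (c + b') := by omega
  rw [this]
  push_cast
  rfl

end

end Groth.Agent.Lib.Helper21.ProdDim
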