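import Groth.Agent.Lib.Helper21.ProdDim1
import Groth.Agent.Lib.Helper21.FibDim9
import Groth.Agent.Lib.Helper18.TopDim

/-!
# Dimension of a product of schemes locally of finite type over a field, II
-/

set_option autoImplicit false
set_option linter.style.haveILetI false
set_option linter.unusedSectionVars false
universe u

open AlgebraicGeometry CategoryTheory Limits TopologicalSpace

namespace Groth.Agent.Lib.Helper21.ProdDim

open Groth.Agent.Lib.Helper21.FibDim Groth.Agent.Lib.Helper21.BaseChg

/-- sups of natural-number valued families add up -/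
theorem iSup_add_iSup_le {ι κ : Sort*} (A : ι → WithBot ℕ∞) (B : κ → WithBot ℕ∞)
    (c : WithBot ℕ∞) (_hA : ∀ i, ∃ n : ℕ, A i = n) (hB : ∀ j, ∃ n : ℕ, B j = n)
    (h : ∀ i j, A i + B j ≤ c) : (⨆ i, A i) + (⨆ j, B j) ≤ c := by
  have step1 : ∀ j, (⨆ i, A i) + B j ≤ c := by
    intro j
    obtain ⟨n, hn⟩ := hB j
    rw [hn]
    exact iSup_add_nat_le A n c (fun i => by rw [← hn]; exact h i j)
  induction hS : (⨆ i, A i) using WithBot.recBotCoe with
  | bot => rw [WithBot.bot_add]; exact bot_le
  | coe s =>
    induction s using ENat.recTopCoe with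
    | top =>
      by_cases hκ : IsEmpty κ
      · have : (⨆ j, B j) = ⊥ := by
          rw [iSup_eq_bot]; exact fun j => (hκ.false j).elim
        rw [this, WithBot.add_bot]
        exact bot_le
      · rw [not_isEmpty_iff] at hκ
        obtain ⟨j⟩ := hκ
        have h1 := step1 j
        obtain ⟨n, hn⟩ := hB j
        rw [hS, hn] at h1
        have h2 : ((⊤ : ℕ∞) : WithBot ℕ∞) + ((n : ℕ) : WithBot ℕ∞) = ((⊤ : ℕ∞) : WithBot ℕ∞) := by
          have : ((n : ℕ) : WithBot ℕ∞) = ((n : ℕ∞) : WithBot ℕ∞) := rfl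
          rw [this, ← WithBot.coe_add, top_add]
        rw [h2] at h1
        refine le_trans ?_ h1
        exact le_top (a := ((⊤ : ℕ∞) : WithBot ℕ∞) + ⨆ j, B j)
    | coe s =>
      rw [add_comm]
      refine iSup_add_nat_le B s c (fun j => ?_)
      have := step1 j
      rw [hS, add_comm] at this
      exact this

section

variable (k : Type u) [Field k] {X Y P : Scheme.{u}} (f : X ⟶ Spec (.of k))
  (g : Y ⟶ Spec (.of k)) [LocallyOfFiniteType f] [LocallyOfFiniteType g]
  (p : P ⟶ X) (q : P ⟶ Y) (hsq : IsPullback p q f g)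

/-- local dimensions of schemes locally of finite type over a field are finite -/
theorem exists_nat_localDim (k : Type u) [Field k] {X : Scheme.{u}} (f : X ⟶ Spec (.of k))
    [LocallyOfFiniteType f] (x : X) : ∃ n : ℕ, FlatMor.localDim X x = n := by
  letI : X.Over (Spec (CommRingCat.of k)) := ⟨f⟩
  haveI : LocallyOfFiniteType (X ↘ Spec (CommRingCat.of k)) := ‹LocallyOfFiniteType f›
  haveI : IsLocallyNoetherian X := LocallyOfFiniteType.isLocallyNoetherian f
  obtain ⟨a, ha⟩ := exists_nat_trdeg k X x
  obtain ⟨b, hb⟩ := Groth.Agent.Lib.Helper18.SerreReg.exists_ringKrullDim_eq_nat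
    (X.presheaf.stalk x)
  exact ⟨a + b, Groth.Agent.Lib.Helper21.ChartPt.localDim_eq_add k X x a b ha hb⟩

include hsq

/-- **Dimension of a product** of schemes locally of finite type over a field -/
theorem topologicalKrullDim_eq_add :
    topologicalKrullDim P = topologicalKrullDim X + topologicalKrullDim Y := by
  rw [Groth.Agent.Lib.Helper18.TopDim.topologicalKrullDim_eq_iSup_localDim (X := P),
    Groth.Agent.Lib.Helper18.TopDim.topologicalKrullDim_eq_iSup_localDim (X := X),
    Groth.Agent.Lib.Helper18.TopDim.topologicalKrullDim_eq_iSup_localDim (X := Y)]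
  apply le_antisymm
  · refine iSup_le fun ζ => ?_
    rw [localDim_eq_add k f g p q hsq ζ]
    exact add_le_add (le_iSup (fun x => FlatMor.localDim X x) (p ζ))
      (le_iSup (fun y => FlatMor.localDim Y y) (q ζ))
  · refine iSup_add_iSup_le _ _ _ (exists_nat_localDim k f) (exists_nat_localDim k g) ?_
    intro ξ η
    obtain ⟨ζ, hζ1, hζ2⟩ := Scheme.Pullback.exists_preimage_pullback (f := f) (g := g) ξ η
      (Subsingleton.elim _ _)
    have h1 : p (hsq.isoPullback.inv ζ) = ξ := by
      rw [← hζ1, ← Scheme.Hom.comp_apply]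
      exact congrArg (fun φ : pullback f g ⟶ X => φ ζ) hsq.isoPullback_inv_fst
    have h2 : q (hsq.isoPullback.inv ζ) = η := by
      rw [← hζ2, ← Scheme.Hom.comp_apply]
      exact congrArg (fun φ : pullback f g ⟶ Y => φ ζ) hsq.isoPullback_inv_snd
    rw [← h1, ← h2, ← localDim_eq_add k f g p q hsq (hsq.isoPullback.inv ζ)]
    exact le_iSup (fun z => FlatMor.localDim P z) (hsq.isoPullback.inv ζ)

end

end Groth.Agent.Lib.Helper21.ProdDim
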