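import Groth.Agent.Lib.Helper21.ProdDim2
import Groth.Agent.Lib.Helper21.FibDim8

/-!
# Irreducible components of a product over a field
-/

set_option autoImplicit false
set_option linter.style.haveILetI false
set_option linter.unusedSectionVars false
universe u

open AlgebraicGeometry CategoryTheory Limits TopologicalSpace

namespace Groth.Agent.Lib.Helper21.ProdDim

open Groth.Agent.Lib.Helper21.FibDim

variable {k : Type u} [Field k] {X Y P : Scheme.{u}} (f : X ⟶ Spec (.of k))
  (g : Y ⟶ Spec (.of k)) (p : P ⟶ X) (q : P ⟶ Y) (hsq : IsPullback p q f g)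

include hsq

/-- **Going-down in a product over a field**, staying over a closed subset of the second
factor. -/
theorem exists_generization_fst (Y' : Set Y) (hY' : IsClosed Y') (w : P) (hw : q w ∈ Y')
    (ξ' : X) (hξ' : ξ' ⤳ p w) : ∃ w₁ : P, w₁ ⤳ w ∧ p w₁ = ξ' ∧ q w₁ ∈ Y' := by
  let I := Scheme.IdealSheafData.vanishingIdeal ⟨Y', hY'⟩
  let ι := I.subschemeι
  have hr : Set.range ι = Y' := by
    rw [Scheme.IdealSheafData.range_subschemeι, Scheme.IdealSheafData.coe_support_vanishingIdeal]
    rfl
  have h1 : IsPullback (pullback.fst q ι) (pullback.snd q ι) q ι := IsPullback.of_hasPullback q ι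
  have h2 : IsPullback (pullback.fst q ι ≫ p) (pullback.snd q ι) f (ι ≫ g) := h1.paste_horiz hsq
  haveI : Flat (ι ≫ g) := inferInstance
  haveI : Flat (pullback.fst q ι ≫ p) :=
    MorphismProperty.of_isPullback h2.flip (inferInstance : Flat (ι ≫ g))
  have hwr : w ∈ Set.range (pullback.fst q ι) := by
    rw [Scheme.Pullback.range_fst, hr]
    exact hw
  obtain ⟨w', rfl⟩ := hwr
  obtain ⟨w₁', hw₁', hw₁'p⟩ := Flat.generalizingMap (pullback.fst q ι ≫ p) (a := w') hξ'
  refine ⟨pullback.fst q ι w₁', hw₁'.map (pullback.fst q ι).continuous, hw₁'p, ?_⟩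
  rw [← hr]
  refine ⟨pullback.snd q ι w₁', ?_⟩
  have := congrArg (fun φ : pullback q ι ⟶ Y => φ w₁') (pullback.condition (f := q) (g := ι))
  exact this.symm

end Groth.Agent.Lib.Helper21.ProdDim
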