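import Groth.Agent.Lib.Helper1.AffThick

/-!
# Square-zero thickenings: lifting powers of sections (helper21)

`i : T ⟶ X` a closed immersion, surjective on points, whose ideal is square-zero.  If `f` is a
global section of `T` with `T_f` affine, then some power `f ^ (N + 1)` lifts to a global section of
`X` (`exists_lift_pow`).  Elementary Čech argument (no cohomology).
-/

set_option autoImplicit false

universe u

namespace Groth.Agent.Lib.Helper21.QAThick

open AlgebraicGeometry CategoryTheory TopologicalSpace Opposite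
open Groth.Agent.Lib.Helper1.AffThick

/-- Ring lemma: if `e * e = 0` then `(a - e)^(n+1) = a^(n+1) - (n+1) a^n e`. -/
lemma sub_pow_succ_of_sq_zero {R : Type*} [CommRing R] (a e : R) (he : e * e = 0) (n : ℕ) :
    (a - e) ^ (n + 1) = a ^ (n + 1) - ((n + 1 : ℕ) : R) * a ^ n * e := by
  induction n with
  | zero => simp
  | succ n ih =>
    rw [pow_succ, ih]
    have : (a ^ (n + 1) - ((n + 1 : ℕ) : R) * a ^ n * e) * (a - e) =
        a ^ (n + 1 + 1) - ((n + 1 + 1 : ℕ) : R) * a ^ (n + 1) * e +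
          ((n + 1 : ℕ) : R) * a ^ n * (e * e) := by
      push_cast
      ring
    rw [this, he, mul_zero, add_zero]

variable {T X : Scheme.{u}} (i : T ⟶ X)

/-- The ideal of `i` is square-zero (sectionwise, on all opens). -/
def SqZero : Prop :=
  ∀ (U : X.Opens) (a b : Γ(X, U)), i.app U a = 0 → i.app U b = 0 → a * b = 0

variable {i}

lemma SqZero.pow_sub_pow_mul (h : SqZero i) {U : X.Opens} (a b c : Γ(X, U))
    (hab : i.app U (a - b) = 0) (hc : i.app U c = 0) (n : ℕ) : (a ^ n - b ^ n) * c = 0 := by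
  refine h U _ _ ?_ hc
  have : a ^ n - b ^ n = (a - b) * ∑ k ∈ Finset.range n, a ^ k * b ^ (n - 1 - k) := by
    rw [mul_comm]; exact (Commute.all a b).geom_sum₂_mul n |>.symm
  rw [this, map_mul, hab, zero_mul]

variable (i)

/-- Sections of the ideal over a basic open of an affine open extend after multiplying by a power. -/
lemma exists_extension [IsClosedImmersion i] {U : X.Opens} (hU : IsAffineOpen U) (g : Γ(X, U))
    (κ' : Γ(X, X.basicOpen g)) (hκ' : i.app (X.basicOpen g) κ' = 0) :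
    ∃ (M : ℕ) (κ : Γ(X, U)), i.app U κ = 0 ∧
      res X (X.basicOpen_le g) κ = (res X (X.basicOpen_le g) g) ^ M * κ' := by
  obtain ⟨n, y, hy⟩ := exists_eq_pow_mul_of_isAffineOpen X U hU g κ'
  have hy' : res X (X.basicOpen_le g) y = (res X (X.basicOpen_le g) g) ^ n * κ' := hy
  have hcomp : IsCompact ((i ⁻¹ᵁ U : T.Opens) : Set T) := (hU.preimage i).isCompact
  have hpre : i ⁻¹ᵁ (X.basicOpen g) = T.basicOpen (i.app U g) := Scheme.preimage_basicOpen i g
  have h0 : res T (i.preimage_mono (X.basicOpen_le g)) (i.app U y) = 0 := by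
    rw [← app_res i (X.basicOpen_le g), hy', map_mul, hκ', mul_zero]
  have hz : res T (T.basicOpen_le (i.app U g)) (i.app U y) = 0 := by
    have := congrArg (res T hpre.ge) h0
    rwa [res_res, map_zero] at this
  obtain ⟨m, hm⟩ := exists_pow_mul_eq_zero_of_res_basicOpen_eq_zero_of_isCompact T hcomp
    (i.app U y) (i.app U g) hz
  refine ⟨n + m, g ^ m * y, by rw [map_mul, map_pow, hm], ?_⟩
  rw [map_mul, map_pow, hy', pow_add]
  ring

lemma app_res_top {W : X.Opens} (a : Γ(X, ⊤)) :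
    i.app W (res X le_top a) = res T le_top (i.app ⊤ a) :=
  app_res i (le_top : W ≤ ⊤) a

variable (hs : Function.Surjective i)

include hs in
/-- **Key lemma**: for a square-zero thickening `T ⟶ X` with `X` quasi-separated and covered by
finitely many affine opens, a power of any `f ∈ Γ(T, ⊤)` with `T_f` affine lifts to `X`. -/
theorem exists_lift_pow [IsClosedImmersion i] (hsq : SqZero i) [QuasiSeparatedSpace X]
    {ι : Type} [Finite ι] (𝒰 : ι → X.Opens) (h𝒰 : ∀ l, IsAffineOpen (𝒰 l))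
    (hcov : ⨆ l, 𝒰 l = ⊤) (f : Γ(T, ⊤)) (hf : IsAffineOpen (T.basicOpen f)) :
    ∃ (N : ℕ) (a : Γ(X, ⊤)), i.app ⊤ a = f ^ (N + 1) := by
  classical
  cases nonempty_fintype ι
  -- the affine open `V` of `X` over `T_f`
  let V : X.Opens := img i hs (T.basicOpen f)
  have hpreV : i ⁻¹ᵁ V = T.basicOpen f := preimage_img i hs _
  have hV : IsAffineOpen V := by
    apply isAffineOpen_of_preimage i hs V
    rw [hpreV]; exact hf
  -- lifts of `f`
  obtain ⟨gV, hgV⟩ := i.app_surjective V hV (res T le_top f)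
  choose g hg using fun l => i.app_surjective (𝒰 l) (h𝒰 l) (res T le_top f)
  have hbo : ∀ l, X.basicOpen (g l) = 𝒰 l ⊓ V := by
    intro l
    apply opens_eq_of_preimage_eq i hs
    rw [Scheme.preimage_basicOpen, hg, basicOpen_res', ← hpreV]
    rfl
  have hDU : ∀ l, X.basicOpen (g l) ≤ 𝒰 l := fun l => X.basicOpen_le _
  have hDV : ∀ l, X.basicOpen (g l) ≤ V := fun l => (hbo l).le.trans inf_le_right
  -- the local trivialisation on `V`
  obtain ⟨κ', hκ'def⟩ : ∃ κ' : ∀ l, Γ(X, X.basicOpen (g l)),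
      ∀ l, κ' l = res X (hDU l) (g l) - res X (hDV l) gV := ⟨_, fun _ => rfl⟩
  have hκ' : ∀ l, i.app (X.basicOpen (g l)) (κ' l) = 0 := by
    intro l
    rw [hκ'def, map_sub, app_res, app_res, hg, hgV, res_res, res_res, sub_self]
  choose M₀ κ₀ hκ₀ hκ₀' using fun l => exists_extension i (h𝒰 l) (g l) (κ' l) (hκ' l)
  obtain ⟨M, hM⟩ : ∃ M : ℕ, ∀ l, M₀ l ≤ M :=
    ⟨∑ l, M₀ l, fun l => Finset.single_le_sum (fun _ _ => Nat.zero_le _) (Finset.mem_univ l)⟩
  obtain ⟨κ₁, hκ₁, hκ₁'⟩ : ∃ κ₁ : ∀ l, Γ(X, 𝒰 l), (∀ l, i.app (𝒰 l) (κ₁ l) = 0) ∧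
      ∀ l, res X (hDU l) (κ₁ l) = (res X (hDU l) (g l)) ^ M * κ' l := by
    refine ⟨fun l => g l ^ (M - M₀ l) * κ₀ l, fun l => ?_, fun l => ?_⟩
    · rw [map_mul, hκ₀, mul_zero]
    · rw [map_mul, map_pow, hκ₀', ← mul_assoc, ← pow_add, Nat.sub_add_cancel (hM l)]
  -- pairwise overlaps
  obtain ⟨aa, haa⟩ : ∃ aa : ∀ l k, Γ(X, 𝒰 l ⊓ 𝒰 k), ∀ l k, aa l k = res X inf_le_left (g l) :=
    ⟨_, fun _ _ => rfl⟩
  obtain ⟨bb, hbb⟩ : ∃ bb : ∀ l k, Γ(X, 𝒰 l ⊓ 𝒰 k), ∀ l k, bb l k = res X inf_le_right (g k) :=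
    ⟨_, fun _ _ => rfl⟩
  have hab : ∀ l k, i.app (𝒰 l ⊓ 𝒰 k) (aa l k - bb l k) = 0 := fun l k => by
    rw [haa, hbb, map_sub, app_res, app_res, hg, hg, res_res, res_res, sub_self]
  obtain ⟨θ, hθdef⟩ : ∃ θ : ∀ l k, Γ(X, 𝒰 l ⊓ 𝒰 k), ∀ l k, θ l k =
      res X inf_le_left (κ₁ l) - res X inf_le_right (κ₁ k) - aa l k ^ M * (aa l k - bb l k) :=
    ⟨_, fun _ _ => rfl⟩
  have hθ0 : ∀ l k, res X (X.basicOpen_le (aa l k)) (θ l k) = 0 := by
    intro l k
    have hD'eq : X.basicOpen (aa l k) = (𝒰 l ⊓ 𝒰 k) ⊓ X.basicOpen (g l) := by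
      rw [haa]; exact basicOpen_res' X inf_le_left (g l)
    have hD'l : X.basicOpen (aa l k) ≤ X.basicOpen (g l) := hD'eq.le.trans inf_le_right
    have hD'k : X.basicOpen (aa l k) ≤ X.basicOpen (g k) := by
      rw [hbo k]
      exact le_inf ((X.basicOpen_le (aa l k)).trans inf_le_right) (hD'l.trans (hDV l))
    obtain ⟨a', ha'⟩ : ∃ a', a' = res X (hD'l.trans (hDU l)) (g l) := ⟨_, rfl⟩
    obtain ⟨b', hb'⟩ : ∃ b', b' = res X (hD'k.trans (hDU k)) (g k) := ⟨_, rfl⟩
    obtain ⟨v, hv⟩ : ∃ v, v = res X (hD'l.trans (hDV l)) gV := ⟨_, rfl⟩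
    have h1 : res X (X.basicOpen_le (aa l k)) (res X inf_le_left (κ₁ l)) = a' ^ M * (a' - v) := by
      rw [res_res]
      have := congrArg (res X hD'l) (hκ₁' l)
      rw [res_res, map_mul, map_pow, res_res, hκ'def, map_sub, res_res, res_res] at this
      rw [this, ha', hv]
    have h2 : res X (X.basicOpen_le (aa l k)) (res X inf_le_right (κ₁ k)) = b' ^ M * (b' - v) := by
      rw [res_res]
      have := congrArg (res X hD'k) (hκ₁' k)
      rw [res_res, map_mul, map_pow, res_res, hκ'def, map_sub, res_res, res_res] at this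
      rw [this, hb', hv]
    have h3 : res X (X.basicOpen_le (aa l k)) (aa l k) = a' := by
      have := res_res X (X.basicOpen_le (aa l k)) inf_le_left (g l)
      rw [← haa l k] at this
      rw [ha', this]
    have h4 : res X (X.basicOpen_le (aa l k)) (bb l k) = b' := by
      rw [hb', hbb]
      exact res_res X _ _ _
    have hab' : i.app (X.basicOpen (aa l k)) (a' - b') = 0 := by
      rw [map_sub, ha', hb', app_res, app_res, hg, hg, res_res, res_res, sub_self]
    have hc' : i.app (X.basicOpen (aa l k)) (b' - v) = 0 := by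
      rw [map_sub, hb', hv, app_res, app_res, hg, hgV, res_res, res_res, sub_self]
    rw [hθdef, map_sub, map_sub, map_mul, map_pow, map_sub, h1, h2, h3, h4]
    have : a' ^ M * (a' - v) - b' ^ M * (b' - v) - a' ^ M * (a' - b') =
        (a' ^ M - b' ^ M) * (b' - v) := by ring
    rw [this]
    exact hsq.pow_sub_pow_mul a' b' (b' - v) hab' hc' M
  -- kill `θ` by a power
  have hWc : ∀ l k, IsCompact ((𝒰 l ⊓ 𝒰 k : X.Opens) : Set X) := fun l k =>
    QuasiSeparatedSpace.inter_isCompact _ _ (𝒰 l).2 (h𝒰 l).isCompact (𝒰 k).2 (h𝒰 k).isCompact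
  choose s₀ hs₀ using fun l k =>
    exists_pow_mul_eq_zero_of_res_basicOpen_eq_zero_of_isCompact X (hWc l k) (θ l k) (aa l k)
      (hθ0 l k)
  obtain ⟨s, hsle⟩ : ∃ s : ℕ, ∀ l k, s₀ l k ≤ s :=
    ⟨∑ l, ∑ k, s₀ l k, fun l k =>
      (Finset.single_le_sum (fun _ _ => Nat.zero_le _) (Finset.mem_univ k)).trans
        (Finset.single_le_sum (f := fun l => ∑ k, s₀ l k) (fun _ _ => Nat.zero_le _)
          (Finset.mem_univ l))⟩
  have hsθ : ∀ l k, aa l k ^ s * θ l k = 0 := fun l k => by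
    rw [← Nat.sub_add_cancel (hsle l k), pow_add, mul_assoc, hs₀, mul_zero]
  obtain ⟨κ₂, hκ₂, hκ₂'⟩ : ∃ κ₂ : ∀ l, Γ(X, 𝒰 l), (∀ l, i.app (𝒰 l) (κ₂ l) = 0) ∧
      ∀ l k, res X inf_le_left (κ₂ l) - res X inf_le_right (κ₂ k) =
        aa l k ^ (M + s) * (aa l k - bb l k) := by
    refine ⟨fun l => g l ^ s * κ₁ l, fun l => ?_, fun l k => ?_⟩
    · rw [map_mul, hκ₁, mul_zero]
    · rw [map_mul, map_mul, map_pow, map_pow, ← haa, ← hbb]
      have h0 : (aa l k ^ s - bb l k ^ s) * res X inf_le_right (κ₁ k) = 0 :=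
        hsq.pow_sub_pow_mul _ _ _ (hab l k) (by rw [app_res, hκ₁, map_zero]) s
      have h1 := hsθ l k
      rw [hθdef] at h1
      linear_combination h0 + h1
  obtain ⟨N, hN⟩ : ∃ N, N = M + s := ⟨_, rfl⟩
  obtain ⟨al, hal⟩ : ∃ al : ∀ l, Γ(X, 𝒰 l),
      ∀ l, al l = g l ^ (N + 1) - ((N + 1 : ℕ) : Γ(X, 𝒰 l)) * κ₂ l := ⟨_, fun _ => rfl⟩
  have hcompat : ∀ l k, res X inf_le_left (al l) = res X inf_le_right (al k) := by
    intro l k
    rw [hal, hal, map_sub, map_sub, map_mul, map_mul, map_pow, map_pow, map_natCast,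
      map_natCast, ← haa, ← hbb]
    have he : (aa l k - bb l k) * (aa l k - bb l k) = 0 := hsq _ _ _ (hab l k) (hab l k)
    have hb : aa l k - (aa l k - bb l k) = bb l k := by ring
    have h2 := sub_pow_succ_of_sq_zero (aa l k) (aa l k - bb l k) he N
    rw [hb] at h2
    have h3 := hκ₂' l k
    rw [← hN] at h3
    linear_combination (-1 : Γ(X, 𝒰 l ⊓ 𝒰 k)) * h2 - ((N + 1 : ℕ) : Γ(X, 𝒰 l ⊓ 𝒰 k)) * h3
  have hcompat' : TopCat.Presheaf.IsCompatible X.sheaf.1 𝒰 al := fun l k => hcompat l k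
  obtain ⟨a, ha, -⟩ := X.sheaf.existsUnique_gluing' 𝒰 ⊤ (fun l => homOfLE le_top)
    (by rw [hcov]) al hcompat'
  refine ⟨N, a, ?_⟩
  refine T.sheaf.eq_of_locally_eq' (fun l => i ⁻¹ᵁ 𝒰 l) ⊤ (fun l => homOfLE le_top) ?_ _ _
    (fun l => ?_)
  · intro t _
    have : i t ∈ (⨆ l, 𝒰 l) := by rw [hcov]; trivial
    obtain ⟨l, hl⟩ := Opens.mem_iSup.mp this
    exact Opens.mem_iSup.mpr ⟨l, hl⟩
  · change res T le_top (i.app ⊤ a) = res T le_top (f ^ (N + 1))
    have hal' : res X le_top a = al l := ha l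
    rw [← app_res_top, hal', hal, map_sub, map_mul, map_pow, hg, hκ₂, mul_zero, sub_zero,
      map_pow]

include hs in
lemma compactSpace_of_surjective [CompactSpace T] : CompactSpace X := by
  constructor
  rw [← hs.range_eq]
  exact isCompact_range i.continuous

include hs in
lemma quasiSeparatedSpace_of_homeo [IsClosedImmersion i] [QuasiSeparatedSpace T] :
    QuasiSeparatedSpace X := by
  have h1 : Topology.IsClosedEmbedding i := i.isClosedEmbedding
  have h2 : IsHomeomorph i := isHomeomorph_iff_isEmbedding_surjective.mpr ⟨h1.isEmbedding, hs⟩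
  let e := h2.homeomorph
  exact QuasiSeparatedSpace.of_isOpenEmbedding (f := e.symm) e.symm.isOpenEmbedding

include hs in
/-- A square-zero thickening of a quasi-affine scheme is quasi-affine. -/
theorem isQuasiAffine_of_sqZero [IsClosedImmersion i] (hsq : SqZero i) [T.IsQuasiAffine] :
    X.IsQuasiAffine := by
  have : CompactSpace X := compactSpace_of_surjective i hs
  have : QuasiSeparatedSpace X := quasiSeparatedSpace_of_homeo i hs
  -- a finite affine cover
  obtain ⟨t, ht⟩ := isCompact_univ.elim_finite_subcover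
    (fun W : X.affineOpens => ((W : X.Opens) : Set X)) (fun W => W.1.2) (by
      intro y _
      obtain ⟨_, ⟨W, hW, rfl⟩, hyW, -⟩ :=
        X.isBasis_affineOpens.exists_subset_of_mem_open (Set.mem_univ y) isOpen_univ
      exact Set.mem_iUnion.mpr ⟨⟨W, hW⟩, hyW⟩)
  have hfin : Finite (Fin t.card) := inferInstance
  let e := t.equivFin.symm
  let 𝒰 : Fin t.card → X.Opens := fun l => ((e l : t) : X.affineOpens).1
  have h𝒰 : ∀ l, IsAffineOpen (𝒰 l) := fun l => ((e l : t) : X.affineOpens).2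
  have hcov : ⨆ l, 𝒰 l = ⊤ := by
    rw [eq_top_iff]
    intro x _
    have := ht (Set.mem_univ x)
    simp only [Set.mem_iUnion] at this
    obtain ⟨W, hW, hxW⟩ := this
    refine Opens.mem_iSup.mpr ⟨e.symm ⟨W, hW⟩, ?_⟩
    change x ∈ ((e (e.symm ⟨W, hW⟩) : t) : X.affineOpens).1
    rw [Equiv.apply_symm_apply]
    exact hxW
  refine Scheme.IsQuasiAffine.of_forall_exists_mem_basicOpen X fun x => ?_
  obtain ⟨z, rfl⟩ := hs x
  obtain ⟨_, ⟨_, ⟨f, hf, rfl⟩, rfl⟩, hzf, -⟩ := (Scheme.IsQuasiAffine.isBasis_basicOpen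
    T).exists_subset_of_mem_open (Set.mem_univ z) isOpen_univ
  obtain ⟨N, a, ha⟩ := exists_lift_pow i hs hsq 𝒰 h𝒰 hcov f hf
  have hpre : i ⁻¹ᵁ (X.basicOpen a) = T.basicOpen f := by
    rw [Scheme.preimage_basicOpen, ha]
    exact Scheme.basicOpen_pow (X := T) f (Nat.succ_pos N)
  refine ⟨a, ?_, ?_⟩
  · apply isAffineOpen_of_preimage i hs
    rw [hpre]; exact hf
  · have : z ∈ i ⁻¹ᵁ (X.basicOpen a) := by rw [hpre]; exact hzf
    exact this

end Groth.Agent.Lib.Helper21.QAThick
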