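import Groth.Agent.Lib.Helper21.QAThick1

/-!
# Nilpotent thickenings of quasi-affine schemes (helper21)

`i : T ⟶ X` a surjective closed immersion whose ideal sheaf is nilpotent (e.g. `X` Noetherian).
If `T` is quasi-affine then so is `X`.
-/

set_option autoImplicit false

universe u

namespace Groth.Agent.Lib.Helper21.QAThick

open AlgebraicGeometry CategoryTheory TopologicalSpace Opposite Scheme
open Groth.Agent.Lib.Helper1.AffThick

variable {T X : Scheme.{u}} (i : T ⟶ X)

/-- If `ker i * ker i = ⊥` then `i` is square-zero in the sectionwise sense. -/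
lemma sqZero_of_ker_mul_ker [QuasiCompact i] (h : i.ker * i.ker = ⊥) : SqZero i := by
  intro U a b ha hb
  apply X.IsSheaf.section_ext
  rintro x hxU
  obtain ⟨W, hW, hxW, hWU⟩ := exists_isAffineOpen_mem_and_subset (X := X) (x := x) (U := U) hxU
  refine ⟨W, hWU, hxW, ?_⟩
  change res X hWU (a * b) = res X hWU 0
  rw [map_mul, map_zero]
  have ha' : res X hWU a ∈ i.ker.ideal ⟨W, hW⟩ := by
    rw [Scheme.Hom.ker_apply, RingHom.mem_ker]
    change i.app W (res X hWU a) = 0
    rw [app_res, ha, map_zero]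
  have hb' : res X hWU b ∈ i.ker.ideal ⟨W, hW⟩ := by
    rw [Scheme.Hom.ker_apply, RingHom.mem_ker]
    change i.app W (res X hWU b) = 0
    rw [app_res, hb, map_zero]
  have : res X hWU a * res X hWU b ∈ (i.ker * i.ker).ideal ⟨W, hW⟩ :=
    Ideal.mul_mem_mul ha' hb'
  rw [h] at this
  exact this

/-- If `i = i' ≫ j` with `j` a closed immersion and `(ker i)^n ≤ ker j`, then `(ker i')^n = ⊥`. -/
lemma ker_pow_eq_bot_of_fac {Y : Scheme.{u}} (j : Y ⟶ X) [IsClosedImmersion j] (i' : T ⟶ Y)
    [QuasiCompact i'] (hfac : i' ≫ j = i) (n : ℕ) (hn : i.ker ^ n ≤ j.ker) : i'.ker ^ n = ⊥ := by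
  refine IdealSheafData.ext_of_iSup_eq_top
    (fun W : X.affineOpens => (⟨j ⁻¹ᵁ W.1, W.2.preimage j⟩ : Y.affineOpens))
    (j.iSup_preimage_eq_top (iSup_affineOpens_eq_top X)) fun W => ?_
  have h1 : i.ker.ideal W = (i'.ker.ideal ⟨j ⁻¹ᵁ W.1, W.2.preimage j⟩).comap (j.app W.1).hom := by
    rw [← hfac, Scheme.Hom.ker_comp, IdealSheafData.ideal_map _ _ _ (W.2.preimage j)]
  have hsurj : Function.Surjective (j.app W.1).hom := j.app_surjective W.1 W.2
  have h2 : i'.ker.ideal ⟨j ⁻¹ᵁ W.1, W.2.preimage j⟩ = (i.ker.ideal W).map (j.app W.1).hom := by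
    rw [h1, Ideal.map_comap_of_surjective _ hsurj]
  rw [IdealSheafData.ideal_pow, Pi.pow_apply, h2, ← Ideal.map_pow, IdealSheafData.ideal_bot,
    Pi.bot_apply, eq_bot_iff, Ideal.map_le_iff_le_comap]
  intro a ha
  have h3 : a ∈ j.ker.ideal W := hn W ha
  rw [Scheme.Hom.ker_apply, RingHom.mem_ker] at h3
  rw [Ideal.mem_comap, h3]
  exact Ideal.zero_mem _

/-- A surjective closed immersion with nilpotent ideal sheaf into `X` from a quasi-affine scheme:
`X` is quasi-affine. -/
theorem isQuasiAffine_of_ker_pow (n : ℕ) : ∀ {T X : Scheme.{u}} (i : T ⟶ X) [IsClosedImmersion i]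
    (_ : Function.Surjective i) (_ : i.ker ^ (n + 1) = ⊥) [T.IsQuasiAffine], X.IsQuasiAffine := by
  induction n with
  | zero =>
    intro T X i _ hs hn _
    have h0 : i.ker = ⊥ := by simpa using hn
    exact isQuasiAffine_of_sqZero i hs (sqZero_of_ker_mul_ker i (by rw [h0]; simp))
  | succ n ih =>
    intro T X i _ hs hn _
    obtain ⟨J, hJdef⟩ : ∃ J : X.IdealSheafData, J = i.ker ^ (n + 1) := ⟨_, rfl⟩
    have hJ : J ≤ i.ker := by
      rw [hJdef]
      exact fun U => Ideal.pow_le_self (by omega)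
    have hker : J.subschemeι.ker ≤ i.ker := by rw [IdealSheafData.ker_subschemeι]; exact hJ
    have hfac : IsClosedImmersion.lift J.subschemeι i hker ≫ J.subschemeι = i :=
      IsClosedImmersion.lift_fac _ _ _
    obtain ⟨i', hi'⟩ : ∃ i', i' = IsClosedImmersion.lift J.subschemeι i hker := ⟨_, rfl⟩
    rw [← hi'] at hfac
    have hcl : IsClosedImmersion i' := by
      have : IsClosedImmersion (i' ≫ J.subschemeι) := by rw [hfac]; infer_instance
      exact IsClosedImmersion.of_comp_isClosedImmersion i' J.subschemeι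
    have hinj : Function.Injective J.subschemeι := J.subschemeι.isClosedEmbedding.injective
    have hs' : Function.Surjective i' := by
      intro y
      obtain ⟨t, ht⟩ := hs (J.subschemeι y)
      refine ⟨t, hinj ?_⟩
      rw [← ht, ← hfac]
      rfl
    have hsι : Function.Surjective J.subschemeι := by
      intro x
      obtain ⟨t, ht⟩ := hs x
      refine ⟨i' t, ?_⟩
      rw [← ht, ← hfac]
      rfl
    have hpow : i'.ker ^ (n + 1) = ⊥ :=
      ker_pow_eq_bot_of_fac i J.subschemeι i' hfac (n + 1) (by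
        rw [IdealSheafData.ker_subschemeι, hJdef])
    have hqa : J.subscheme.IsQuasiAffine := ih i' hs' hpow
    have hsq : J.subschemeι.ker * J.subschemeι.ker = ⊥ := by
      rw [IdealSheafData.ker_subschemeι, hJdef, ← pow_add, eq_bot_iff, ← hn]
      exact fun U => Ideal.pow_le_pow_right (by omega)
    exact isQuasiAffine_of_sqZero J.subschemeι hsι (sqZero_of_ker_mul_ker _ hsq)

/-- The ideal sheaf of a surjective closed immersion is contained in the nilradical. -/
lemma ker_le_nilradical [IsClosedImmersion i] (hs : Function.Surjective i) :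
    i.ker ≤ X.nilradical := by
  intro U a ha
  rw [Scheme.Hom.ker_apply, RingHom.mem_ker] at ha
  have : IsNilpotent a := isNilpotent_of_app_eq_zero i hs U.2.isCompact a ha
  change a ∈ (⊥ : Ideal Γ(X, U.1)).radical
  exact mem_nilradical.mpr this

/-- The nilradical of a Noetherian scheme is nilpotent. -/
lemma exists_nilradical_pow_eq_bot (X : Scheme.{u}) [IsNoetherian X] :
    ∃ n : ℕ, X.nilradical ^ (n + 1) = ⊥ := by
  classical
  obtain ⟨t, ht⟩ := isCompact_univ.elim_finite_subcover
    (fun W : X.affineOpens => ((W : X.Opens) : Set X)) (fun W => W.1.2) (by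
      intro y _
      obtain ⟨_, ⟨W, hW, rfl⟩, hyW, -⟩ :=
        X.isBasis_affineOpens.exists_subset_of_mem_open (Set.mem_univ y) isOpen_univ
      exact Set.mem_iUnion.mpr ⟨⟨W, hW⟩, hyW⟩)
  have hnil : ∀ W : X.affineOpens, ∃ k : ℕ, (nilradical Γ(X, W.1)) ^ k = ⊥ := fun W => by
    have : IsNoetherianRing Γ(X, W.1) := IsLocallyNoetherian.component_noetherian W
    exact IsNoetherianRing.isNilpotent_nilradical _
  choose k hk using hnil
  refine ⟨∑ W ∈ t, k W, ?_⟩
  rw [eq_bot_iff]
  refine IdealSheafData.le_of_iSup_eq_top (fun W : t => (W.1 : X.affineOpens)) ?_ fun W => ?_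
  · rw [eq_top_iff]
    intro x _
    have := ht (Set.mem_univ x)
    simp only [Set.mem_iUnion] at this
    obtain ⟨W, hW, hxW⟩ := this
    exact Opens.mem_iSup.mpr ⟨⟨W, hW⟩, hxW⟩
  · change (nilradical Γ(X, W.1.1)) ^ (∑ W ∈ t, k W + 1) ≤ ⊥
    rw [← hk W.1]
    exact Ideal.pow_le_pow_right ((Finset.single_le_sum (f := k) (fun _ _ => Nat.zero_le _)
      W.2).trans (Nat.le_succ _))

/-- **Noetherian case**: a Noetherian scheme receiving a surjective closed immersion from a
quasi-affine scheme is quasi-affine. -/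
theorem isQuasiAffine_of_isNoetherian [IsNoetherian X] [IsClosedImmersion i]
    (hs : Function.Surjective i) [T.IsQuasiAffine] : X.IsQuasiAffine := by
  obtain ⟨n, hn⟩ := exists_nilradical_pow_eq_bot X
  refine isQuasiAffine_of_ker_pow n i hs ?_
  rw [eq_bot_iff, ← hn]
  have h := ker_le_nilradical i hs
  exact fun U => Ideal.pow_right_mono (h U) _

end Groth.Agent.Lib.Helper21.QAThick
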