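import Groth.Agent.Lib.Helper21.QAThick2

/-!
# Thickenings of quasi-affine schemes: the finitely many obstructions (helper21)

`i : Z ⟶ X` a surjective closed immersion with `Z` quasi-affine.  We produce finitely many nilpotent
sections `e a ∈ Γ(X, W a)` on affine opens such that every affine morphism `q : P ⟶ X` killing
all the `e a` has quasi-affine source.
-/

set_option autoImplicit false

universe u

namespace Groth.Agent.Lib.Helper21.QAThick

open AlgebraicGeometry CategoryTheory TopologicalSpace Opposite Scheme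
open Groth.Agent.Lib.Helper1.AffThick

variable {Z X : Scheme.{u}} (i : Z ⟶ X)

theorem exists_nilpotent_family [IsClosedImmersion i] (hs : Function.Surjective i)
    [Z.IsQuasiAffine] :
    ∃ (ι : Type) (_ : Finite ι) (W : ι → X.Opens) (e : ∀ a, Γ(X, W a)),
      (∀ a, IsAffineOpen (W a)) ∧ (∀ a, IsNilpotent (e a)) ∧
      ∀ {P : Scheme.{u}} (q : P ⟶ X) [IsAffineHom q], (∀ a, q.app (W a) (e a) = 0) →
        P.IsQuasiAffine := by
  classical
  have : CompactSpace X := compactSpace_of_surjective i hs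
  -- a finite cover of `Z` by affine basic opens
  have H : ∀ z : Z, ∃ f : Γ(Z, ⊤), IsAffineOpen (Z.basicOpen f) ∧ z ∈ Z.basicOpen f := by
    intro z
    obtain ⟨_, ⟨_, ⟨f, hf, rfl⟩, rfl⟩, hzf, -⟩ := (Scheme.IsQuasiAffine.isBasis_basicOpen
      Z).exists_subset_of_mem_open (Set.mem_univ z) isOpen_univ
    exact ⟨f, hf, hzf⟩
  choose F hF hzF using H
  obtain ⟨σ, hσ⟩ := CompactSpace.elim_nhds_subcover (fun z => ((Z.basicOpen (F z) : Z.Opens) : Set Z))
    (fun z => (Z.basicOpen (F z)).2.mem_nhds (hzF z))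
  let J := Fin σ.card
  let E : J ≃ σ := σ.equivFin.symm
  obtain ⟨f, hfdef⟩ : ∃ f : J → Γ(Z, ⊤), ∀ j, f j = F (E j).1 := ⟨_, fun _ => rfl⟩
  have hf : ∀ j, IsAffineOpen (Z.basicOpen (f j)) := fun j => by rw [hfdef]; exact hF _
  have hcovZ : ∀ z : Z, ∃ j, z ∈ Z.basicOpen (f j) := by
    intro z
    have := hσ.ge (Set.mem_univ z)
    simp only [Set.mem_iUnion] at this
    obtain ⟨w, hw, hzw⟩ := this
    refine ⟨E.symm ⟨w, hw⟩, ?_⟩
    rw [hfdef, Equiv.apply_symm_apply]
    exact hzw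
  -- the corresponding affine opens of `X`
  obtain ⟨V, hVdef⟩ : ∃ V : J → X.Opens, ∀ j, V j = img i hs (Z.basicOpen (f j)) :=
    ⟨_, fun _ => rfl⟩
  have hpre : ∀ j, i ⁻¹ᵁ V j = Z.basicOpen (f j) := fun j => by
    rw [hVdef]; exact preimage_img i hs _
  have hV : ∀ j, IsAffineOpen (V j) := fun j => by
    apply isAffineOpen_of_preimage i hs
    rw [hpre]; exact hf j
  have hcovX : ∀ x : X, ∃ j, x ∈ V j := by
    intro x
    obtain ⟨z, rfl⟩ := hs x
    obtain ⟨j, hj⟩ := hcovZ z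
    refine ⟨j, ?_⟩
    have : z ∈ i ⁻¹ᵁ V j := by rw [hpre]; exact hj
    exact this
  -- lifts
  choose g hg using fun (j l : J) => i.app_surjective (V l) (hV l) (res Z le_top (f j))
  have hbo : ∀ j l, X.basicOpen (g j l) = V l ⊓ V j := by
    intro j l
    apply opens_eq_of_preimage_eq i hs
    rw [Scheme.preimage_basicOpen, hg, basicOpen_res', ← hpre j]
    rfl
  have hWaff : ∀ l k, IsAffineOpen (V l ⊓ V k) := by
    intro l k
    apply isAffineOpen_of_preimage i hs
    have h1 : i ⁻¹ᵁ (V l ⊓ V k) = Z.basicOpen (res Z (le_top : Z.basicOpen (f l) ≤ ⊤) (f k)) := by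
      rw [basicOpen_res', ← hpre l, ← hpre k]
      rfl
    rw [h1]
    exact (hf l).basicOpen _
  refine ⟨J × J × J, inferInstance, fun a => V a.2.1 ⊓ V a.2.2,
    fun a => res X inf_le_left (g a.1 a.2.1) - res X inf_le_right (g a.1 a.2.2),
    fun a => hWaff _ _, fun a => ?_, ?_⟩
  · apply isNilpotent_of_app_eq_zero i hs (hWaff _ _).isCompact
    rw [map_sub, app_res, app_res, hg, hg, res_res, res_res, sub_self]
  intro P q _ hq
  have : CompactSpace P := QuasiCompact.compactSpace_of_compactSpace q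
  have hcovP : ⨆ l, q ⁻¹ᵁ V l = ⊤ := by
    rw [eq_top_iff]
    intro x _
    obtain ⟨l, hl⟩ := hcovX (q x)
    exact Opens.mem_iSup.mpr ⟨l, hl⟩
  -- glue
  have hglue : ∀ j, ∃ fp : Γ(P, ⊤), ∀ l, res P le_top fp = q.app (V l) (g j l) := by
    intro j
    have hcompat : ∀ l k, res P (inf_le_left : q ⁻¹ᵁ V l ⊓ q ⁻¹ᵁ V k ≤ q ⁻¹ᵁ V l)
        (q.app (V l) (g j l)) = res P inf_le_right (q.app (V k) (g j k)) := by
      intro l k
      have h0 := hq (j, l, k)
      rw [map_sub, sub_eq_zero, app_res, app_res] at h0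
      exact h0
    have hcompat' : TopCat.Presheaf.IsCompatible P.sheaf.1 (fun l => q ⁻¹ᵁ V l)
        (fun l => q.app (V l) (g j l)) := fun l k => hcompat l k
    obtain ⟨a, ha, -⟩ := P.sheaf.existsUnique_gluing' (fun l => q ⁻¹ᵁ V l) ⊤
      (fun l => homOfLE le_top) (by rw [hcovP]) _ hcompat'
    exact ⟨a, ha⟩
  choose fp hfp using hglue
  have hbasic : ∀ j, P.basicOpen (fp j) = q ⁻¹ᵁ V j := by
    intro j
    ext x
    obtain ⟨l, hl⟩ := hcovX (q x)
    have hxl : x ∈ q ⁻¹ᵁ V l := hl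
    have h1 : P.basicOpen (res P (le_top : q ⁻¹ᵁ V l ≤ ⊤) (fp j)) = q ⁻¹ᵁ (V l ⊓ V j) := by
      rw [hfp, ← Scheme.preimage_basicOpen, hbo]
    rw [basicOpen_res'] at h1
    constructor
    · intro hx
      have : x ∈ q ⁻¹ᵁ V l ⊓ P.basicOpen (fp j) := ⟨hxl, hx⟩
      rw [h1] at this
      exact this.2
    · intro hx
      have : x ∈ q ⁻¹ᵁ (V l ⊓ V j) := ⟨hl, hx⟩
      rw [← h1] at this
      exact this.2
  refine Scheme.IsQuasiAffine.of_forall_exists_mem_basicOpen P fun x => ?_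
  obtain ⟨j, hj⟩ := hcovX (q x)
  refine ⟨fp j, ?_, ?_⟩
  · rw [hbasic]; exact (hV j).preimage q
  · rw [hbasic]; exact hj

end Groth.Agent.Lib.Helper21.QAThick
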