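import Groth.Agent.Lib.Helper21.QAThick3
import Groth.Agent.Lib.Helper5.LimitBaseChange
import Groth.Agent.S0590

/-!
# Thickenings of quasi-affine schemes are quasi-affine (helper21)

General (non-Noetherian) case by Noetherian approximation.
-/

set_option autoImplicit false

universe u

namespace Groth.Agent.Lib.Helper21.QAThick

open AlgebraicGeometry CategoryTheory CategoryTheory.Limits TopologicalSpace Opposite Scheme
open Groth.Agent.Lib.Helper1.AffThick Groth.Agent.Lib.Helper5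

lemma appLE_congr_hom {P B : Scheme.{u}} {φ ψ : P ⟶ B} (h : φ = ψ) (U : B.Opens) (V : P.Opens)
    (e : V ≤ φ ⁻¹ᵁ U) : φ.appLE U V e = ψ.appLE U V (h ▸ e) := by
  subst h; rfl

lemma app_appLE_eq_zero {A B R P : Scheme.{u}} (π : A ⟶ B) (ρ : R ⟶ B) (q : P ⟶ A) (p₂ : P ⟶ R)
    (w : q ≫ π = p₂ ≫ ρ) (U : B.Opens) (W : A.Opens) (h : W ≤ π ⁻¹ᵁ U) (s : Γ(B, U))
    (hs : ρ.app U s = 0) : q.app W (π.appLE U W h s) = 0 := by
  rw [Scheme.Hom.app_eq_appLE, ← CommRingCat.comp_apply, Scheme.Hom.appLE_comp_appLE,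
    appLE_congr_hom w, Scheme.Hom.comp_appLE, CommRingCat.comp_apply, hs, map_zero]

lemma app_eq_zero_of_comp {A B C : Scheme.{u}} (a : A ⟶ B) (b : B ⟶ C) (ab : A ⟶ C)
    (h : ab = a ≫ b) (U : C.Opens) (x : Γ(C, U)) (hx : b.app U x = 0) : ab.app U x = 0 := by
  subst h
  change a.app (b ⁻¹ᵁ U) (b.app U x) = 0
  rw [hx, map_zero]

lemma nilradical_subschemeι_app_eq_zero {B : Scheme.{u}} {U : B.Opens} (hU : IsAffineOpen U)
    (s : Γ(B, U)) (hs : IsNilpotent s) : B.nilradical.subschemeι.app U s = 0 := by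
  have hker := B.nilradical.ker_subschemeι_app ⟨U, hU⟩
  have hmem : s ∈ B.nilradical.ideal ⟨U, hU⟩ := by
    change s ∈ (⊥ : Ideal Γ(B, U)).radical
    exact mem_nilradical.mpr hs
  rw [← hker, RingHom.mem_ker] at hmem
  exact hmem

section limit

variable {I : Type u} [SmallCategory I] [IsCofiltered I] (D : I ⥤ Scheme.{u}) (c : Cone D)
  (hc : IsLimit c) [∀ {i j} (f : i ⟶ j), IsAffineHom (D.map f)]

set_option backward.defeqAttrib.useBackward true in
set_option backward.isDefEq.respectTransparency false in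
open Scheme.Opens in
include hc in
/-- A section of the limit over the preimage of an affine open comes from a stage. -/
lemma exists_appLE_π_eq (i : I) (V : (D.obj i).Opens) (hV : IsAffineOpen V)
    (r : Γ(c.pt, c.π.app i ⁻¹ᵁ V)) :
    ∃ (j : Over i) (s : Γ(D.obj j.left, D.map j.hom ⁻¹ᵁ V))
      (h : c.π.app i ⁻¹ᵁ V ≤ c.π.app j.left ⁻¹ᵁ D.map j.hom ⁻¹ᵁ V),
      r = (c.π.app j.left).appLE (D.map j.hom ⁻¹ᵁ V) (c.π.app i ⁻¹ᵁ V) h s := by
  have (j : _) : IsAffine ((opensDiagram D i V).op.obj j).unop := hV.preimage _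
  have (j : _) : IsAffine ((opensDiagram D i V).obj j) := hV.preimage _
  obtain ⟨⟨j⟩, s, hs⟩ := (Types.jointly_surjective_of_isColimit (isColimitOfPreserves
    (Scheme.Γ ⋙ forget _) (isLimitOpensCone D c hc i V).op) ((c.π.app i ⁻¹ᵁ V).topIso.inv r))
  obtain ⟨s, rfl⟩ := (D.map j.hom ⁻¹ᵁ V).topIso.symm.commRingCatIsoToRingEquiv.surjective s
  have h : c.π.app j.left ⁻¹ᵁ D.map j.hom ⁻¹ᵁ V = c.π.app i ⁻¹ᵁ V := congr($(c.w j.hom) ⁻¹ᵁ V)
  refine ⟨j, s, h.ge, ?_⟩
  convert!
    show r = ((Scheme.Opens.topIso _).inv ≫ ((opensCone D c i V).π.app j).appTop ≫ (Scheme.Opens.topIso _).hom) s from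
      (c.π.app i ⁻¹ᵁ V).topIso.commRingCatIsoToRingEquiv.symm_apply_eq.mp hs.symm using 3
  simp [Scheme.Hom.app_eq_appLE, Scheme.Hom.resLE_appLE]

include hc in
lemma exists_stage_kill_aux (j : I) (U : (D.obj j).Opens) (hU : IsAffineOpen U) (W : c.pt.Opens)
    (h : W ≤ c.π.app j ⁻¹ᵁ U) (h' : c.π.app j ⁻¹ᵁ U ≤ W) (s : Γ(D.obj j, U))
    (he : IsNilpotent ((c.π.app j).appLE U W h s)) :
    ∃ k : I, ∀ (l : I) (_ : l ⟶ k),
      (pullback.fst (c.π.app l) (D.obj l).nilradical.subschemeι).app W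
        ((c.π.app j).appLE U W h s) = 0 := by
  obtain ⟨m, hm⟩ := he
  have h0 : (c.π.app j).app U (s ^ m) = 0 := by
    have : (c.π.app j).app U = (c.π.app j).appLE U W h ≫ c.pt.presheaf.map (homOfLE h').op := by
      rw [Scheme.Hom.app_eq_appLE]
      exact (Scheme.Hom.appLE_map (c.π.app j) h (homOfLE h').op).symm
    rw [this, CommRingCat.comp_apply, map_pow, hm, map_zero]
  obtain ⟨k, f, hk⟩ := exists_app_map_eq_zero_of_isLimit D c hc hU.isCompact (s ^ m) h0
  refine ⟨k, fun l φ => ?_⟩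
  obtain ⟨ψ, hψ⟩ : ∃ ψ : l ⟶ j, ψ = φ ≫ f := ⟨_, rfl⟩
  have hUl : IsAffineOpen (D.map ψ ⁻¹ᵁ U) := hU.preimage _
  have hsl : IsNilpotent ((D.map ψ).app U s) := ⟨m, by
    rw [← map_pow]
    exact app_eq_zero_of_comp (D.map φ) (D.map f) (D.map ψ) (by rw [hψ, D.map_comp]) U _ hk⟩
  have hρ := nilradical_subschemeι_app_eq_zero hUl _ hsl
  have hw : c.π.app l ≫ D.map ψ = c.π.app j := c.w ψ
  have hle : W ≤ c.π.app l ⁻¹ᵁ (D.map ψ ⁻¹ᵁ U) := by
    rw [← Scheme.Hom.comp_preimage, hw]; exact h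
  have he : (c.π.app j).appLE U W h s =
      (c.π.app l).appLE (D.map ψ ⁻¹ᵁ U) W hle ((D.map ψ).app U s) := by
    rw [← CommRingCat.comp_apply, ← Scheme.Hom.comp_appLE, appLE_congr_hom hw.symm U W h]
  rw [he]
  exact app_appLE_eq_zero (c.π.app l) _ (pullback.fst _ _) (pullback.snd _ _) pullback.condition
    _ _ _ _ hρ

include hc in
/-- A nilpotent section over an affine open of the limit is killed on the pullback of the reduction
of all sufficiently fine stages. -/
theorem exists_stage_kill [∀ i, QuasiSeparatedSpace (D.obj i)] (W : c.pt.Opens)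
    (hW : IsAffineOpen W) (e : Γ(c.pt, W)) (he : IsNilpotent e) :
    ∃ k : I, ∀ (l : I) (_ : l ⟶ k),
      (pullback.fst (c.π.app l) (D.obj l).nilradical.subschemeι).app W e = 0 := by
  obtain ⟨i, V, hV, rfl⟩ := exists_isAffineOpen_preimage_eq D c hc W hW
  obtain ⟨j, s, h, rfl⟩ := exists_appLE_π_eq D c hc i V hV e
  exact exists_stage_kill_aux D c hc j.left (D.map j.hom ⁻¹ᵁ V) (hV.preimage _) _ h
    (congr($(c.w j.hom) ⁻¹ᵁ V)).le s he

include hc in
/-- If a quasi-affine scheme maps onto the limit by a closed immersion, the pullback to the limit of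
the reduction of some stage is quasi-affine. -/
theorem exists_stage_isQuasiAffine [∀ i, QuasiSeparatedSpace (D.obj i)]
    {Z : Scheme.{u}} (i : Z ⟶ c.pt) [IsClosedImmersion i] (hs : Function.Surjective i)
    [Z.IsQuasiAffine] :
    ∃ l : I, (pullback (c.π.app l) (D.obj l).nilradical.subschemeι).IsQuasiAffine := by
  classical
  obtain ⟨ι, _, W, e, hW, he, H⟩ := exists_nilpotent_family i hs
  choose k hk using fun a => exists_stage_kill D c hc (W a) (hW a) (e a) (he a)
  cases nonempty_fintype ι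
  obtain ⟨l, hl⟩ := IsCofiltered.inf_objs_exists (Finset.univ.image k)
  have φ : ∀ a, l ⟶ k a := fun a => (hl (Finset.mem_image_of_mem k (Finset.mem_univ a))).some
  exact ⟨l, H (pullback.fst _ _) fun a => hk a l (φ a)⟩

end limit

/-- **Thickenings of quasi-affine schemes are quasi-affine** (Stacks 0B7L): if `i : Z ⟶ X` is a
surjective closed immersion and `Z` is quasi-affine, then `X` is quasi-affine. -/
theorem isQuasiAffine_of_thickening {Z X : Scheme.{u}} (i : Z ⟶ X) [IsClosedImmersion i]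
    (hs : Function.Surjective i) [Z.IsQuasiAffine] : X.IsQuasiAffine := by
  have : CompactSpace X := compactSpace_of_surjective i hs
  have : QuasiSeparatedSpace X := quasiSeparatedSpace_of_homeo i hs
  obtain ⟨I, _, _, _, D, c, hc, hD, hst, ⟨e⟩⟩ := Groth.Agent.S0590.result X
  have : IsFiltered I := isFiltered_of_directed_le_nonempty I
  have : IsCofiltered Iᵒᵖ := inferInstance
  have hD' : ∀ {i j : Iᵒᵖ} (f : i ⟶ j), IsAffineHom (D.map f) := fun f => hD _ _ f
  have hcomp : ∀ i, CompactSpace (D.obj i) := fun i => (hst i).1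
  have : IsNoetherianRing (ULift.{u} ℤ) := isNoetherianRing_of_ringEquiv ℤ ULift.ringEquiv.symm
  have hnoeth : ∀ i, IsLocallyNoetherian (D.obj i) := fun i => by
    have := (hst i).2
    exact LocallyOfFiniteType.isLocallyNoetherian
      (Limits.IsTerminal.from specULiftZIsTerminal (D.obj i))
  have hqs : ∀ i, QuasiSeparatedSpace (D.obj i) := fun i => inferInstance
  -- transport to the limit
  have hs' : Function.Surjective (i ≫ e.inv) := by
    rw [Scheme.Hom.comp_base, TopCat.coe_comp]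
    exact (e.symm.hom.homeomorph.surjective).comp hs
  obtain ⟨l, hl⟩ := exists_stage_isQuasiAffine D c hc (i ≫ e.inv) hs'
  -- the pullback of the reduction of `D.obj l` is a limit
  obtain ⟨ρ, hρ⟩ : ∃ ρ : (D.obj l).nilradical.subscheme ⟶ D.obj l,
    ρ = (D.obj l).nilradical.subschemeι := ⟨_, rfl⟩
  rw [← hρ] at hl
  have hρcl : IsClosedImmersion ρ := by rw [hρ]; infer_instance
  have hρs : Surjective ρ := by
    rw [hρ]
    refine ⟨fun x => ?_⟩
    have : x ∈ Set.range (D.obj l).nilradical.subschemeι := by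
      rw [IdealSheafData.range_subschemeι, Scheme.support_nilradical]; trivial
    exact this
  let DX := bcDiagram D l ρ
  let cX := bcCone D c l ρ
  let hcX : IsLimit cX := isLimitBcCone D c hc l ρ
  have hfst : ∀ j : Over l, IsClosedImmersion (pullback.fst (D.map j.hom) ρ) := fun j =>
    inferInstance
  have : ∀ j, CompactSpace (DX.obj j) := fun j => by
    have := hfst j
    have h := QuasiCompact.compactSpace_of_compactSpace (pullback.fst (D.map j.hom) ρ)
    exact h
  have : ∀ j, QuasiSeparatedSpace (DX.obj j) := fun j => by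
    have := hfst j
    have h := quasiSeparatedSpace_of_quasiSeparated (pullback.fst (D.map j.hom) ρ)
    exact h
  have : IsQuasiAffine cX.pt := hl
  obtain ⟨j, hj⟩ := Scheme.exists_isQuasiAffine_of_isLimit DX cX hcX
  -- Noetherian case at stage `j`
  have : IsNoetherian (D.obj j.left) := {}
  have hj' : (pullback (D.map j.hom) ρ).IsQuasiAffine := hj
  have hsurj : Surjective (pullback.fst (D.map j.hom) ρ) := inferInstance
  have hQ : (D.obj j.left).IsQuasiAffine :=
    isQuasiAffine_of_isNoetherian (pullback.fst (D.map j.hom) ρ)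
      (pullback.fst (D.map j.hom) ρ).surjective
  have := isAffineHom_π_app D c hc j.left
  have : c.pt.IsQuasiAffine := Scheme.IsQuasiAffine.of_isAffineHom (c.π.app j.left)
  exact Scheme.IsQuasiAffine.of_isAffineHom e.inv


end Groth.Agent.Lib.Helper21.QAThick
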