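import Groth.Agent.Lib.Helper21.ChartPt1

/-!
# The prime of the local ring at `w` attached to a generisation `z ⤳ w`
-/

set_option autoImplicit false
set_option linter.style.haveILetI false
set_option linter.unusedSectionVars false
universe u
open AlgebraicGeometry CategoryTheory Limits TopologicalSpace

namespace Groth.Agent.Lib.Helper21.QfCodim

open Groth.Agent.Lib.Helper21.NagDvr Groth.Agent.Lib.Helper21.ChartPt

variable {X Y : Scheme.{u}}

/-- For a generisation `z ⤳ w`: the map `𝒪_{X,w} → 𝒪_{X,z} → κ(z)`. -/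
noncomputable def rho {z w : X} (h : z ⤳ w) : X.presheaf.stalk w →+* X.residueField z :=
  (X.residue z).hom.comp (X.presheaf.stalkSpecializes h).hom

theorem rho_germ {z w : X} (h : z ⤳ w) (U : X.Opens) (hw : w ∈ U) (s : Γ(X, U)) :
    rho h (X.presheaf.germ U w hw s) =
      (X.evaluation U z (h.mem_open U.isOpen hw)).hom s := by
  unfold rho
  rw [RingHom.comp_apply]
  have h1 := TopCat.Presheaf.germ_stalkSpecializes_apply X.presheaf hw h s
  erw [h1]
  rfl

instance {z w : X} (h : z ⤳ w) : (RingHom.ker (rho h)).IsPrime := RingHom.ker_isPrime _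

/-- More special points give bigger primes. -/
theorem ker_rho_le {z z' w : X} (hz : z ⤳ z') (hz' : z' ⤳ w) :
    RingHom.ker (rho (hz.trans hz')) ≤ RingHom.ker (rho hz') := by
  intro t ht
  obtain ⟨U, hw, s, rfl⟩ := TopCat.Presheaf.exists_germ_eq X.presheaf t
  rw [RingHom.mem_ker, rho_germ] at ht ⊢
  rw [Scheme.evaluation_eq_zero_iff_notMem_basicOpen] at ht ⊢
  intro h
  exact ht (hz.mem_open (X.basicOpen s).isOpen h)

/-- In an affine chart the prime of `z` is the preimage of `ker (rho h)`. -/
theorem comap_germ_ker_rho {z w : X} (h : z ⤳ w) {U : X.Opens} (hU : IsAffineOpen U)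
    (hw : w ∈ U) :
    (RingHom.ker (rho h)).comap (X.presheaf.germ U w hw).hom =
      (hU.primeIdealOf ⟨z, h.mem_open U.isOpen hw⟩).asIdeal := by
  ext s
  rw [Ideal.mem_comap, RingHom.mem_ker, ← ker_evaluation hU z (h.mem_open U.isOpen hw),
    RingHom.mem_ker]
  exact Eq.congr_left (rho_germ h U hw s)

/-- The point is determined by its prime. -/
theorem eq_of_ker_rho_eq {z z' w : X} (h : z ⤳ w) (h' : z' ⤳ w)
    (heq : RingHom.ker (rho h) = RingHom.ker (rho h')) : z = z' := by
  obtain ⟨_, ⟨(U : X.Opens), hU, rfl⟩, hwU, -⟩ :=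
    X.isBasis_affineOpens.exists_subset_of_mem_open (Set.mem_univ w) isOpen_univ
  have hU : IsAffineOpen U := hU
  have hwU : w ∈ U := hwU
  have h1 := comap_germ_ker_rho h hU hwU
  have h2 := comap_germ_ker_rho h' hU hwU
  rw [heq, h2] at h1
  have h3 : hU.primeIdealOf ⟨z', h'.mem_open U.isOpen hwU⟩ =
      hU.primeIdealOf ⟨z, h.mem_open U.isOpen hwU⟩ := PrimeSpectrum.ext h1
  exact (congrArg Subtype.val (primeIdealOf_injective hU h3)).symm

theorem ker_rho_refl (w : X) :
    RingHom.ker (rho (specializes_refl w)) = IsLocalRing.maximalIdeal (X.presheaf.stalk w) := by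
  unfold rho
  rw [TopCat.Presheaf.stalkSpecializes_refl]
  ext t
  rw [RingHom.mem_ker]
  change (X.residue w).hom t = 0 ↔ _
  exact IsLocalRing.residue_eq_zero_iff t

theorem ker_rho_eq_maximalIdeal_of_eq {z w : X} (h : z ⤳ w) (hzw : z = w) :
    RingHom.ker (rho h) = IsLocalRing.maximalIdeal (X.presheaf.stalk w) := by
  subst hzw
  exact ker_rho_refl z

theorem eq_of_ker_rho_eq_maximalIdeal {z w : X} (h : z ⤳ w)
    (heq : RingHom.ker (rho h) = IsLocalRing.maximalIdeal (X.presheaf.stalk w)) : z = w :=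
  eq_of_ker_rho_eq h (specializes_refl w) (heq.trans (ker_rho_refl w).symm)

/-- Naturality of `rho`. -/
theorem residueFieldMap_comp_rho (f : X ⟶ Y) {z w : X} (h : z ⤳ w) :
    (f.residueFieldMap z).hom.comp (rho (h.map f.continuous)) =
      (rho h).comp (f.stalkMap w).hom := by
  unfold rho
  have h1 := Scheme.Hom.stalkSpecializes_stalkMap f z w h
  have h2 := Scheme.residue_residueFieldMap f z
  ext t
  simp only [RingHom.comp_apply]
  have e1 := congrArg (fun g => g.hom ((Y.presheaf.stalkSpecializes (h.map f.continuous)).hom t)) h2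
  simp only [CommRingCat.hom_comp, RingHom.comp_apply] at e1
  have e2 := congrArg (fun g => g.hom t) h1
  simp only [CommRingCat.hom_comp, RingHom.comp_apply] at e2
  erw [e1, e2]

theorem comap_ker_rho (f : X ⟶ Y) {z w : X} (h : z ⤳ w) :
    (RingHom.ker (rho h)).comap (f.stalkMap w).hom = RingHom.ker (rho (h.map f.continuous)) := by
  ext t
  rw [Ideal.mem_comap, RingHom.mem_ker, RingHom.mem_ker]
  have h1 := congrArg (fun g => g t) (residueFieldMap_comp_rho f h)
  simp only [RingHom.comp_apply] at h1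
  rw [← h1]
  exact map_eq_zero_iff _ (f.residueFieldMap z).hom.injective

end Groth.Agent.Lib.Helper21.QfCodim
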