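import Groth.Agent.Lib.Helper21.QfCodim1

/-!
# `κ(z)` is the fraction field of `𝒪_{X,w} ⧸ 𝔭_z` for a generisation `z ⤳ w`
-/

set_option autoImplicit false
set_option linter.style.haveILetI false
set_option linter.unusedSectionVars false
universe u
open AlgebraicGeometry CategoryTheory Limits TopologicalSpace

namespace Groth.Agent.Lib.Helper21.QfCodim

open Groth.Agent.Lib.Helper21.NagDvr Groth.Agent.Lib.Helper21.ChartPt

variable {X Y : Scheme.{u}}

/-- The injection `𝒪_{X,w} ⧸ 𝔭_z → κ(z)`. -/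
noncomputable def rhoQ {z w : X} (h : z ⤳ w) :
    X.presheaf.stalk w ⧸ RingHom.ker (rho h) →+* X.residueField z :=
  RingHom.kerLift (rho h)

@[simp]
theorem rhoQ_mk {z w : X} (h : z ⤳ w) (t : X.presheaf.stalk w) :
    rhoQ h (Ideal.Quotient.mk _ t) = rho h t := rfl

theorem rhoQ_injective {z w : X} (h : z ⤳ w) : Function.Injective (rhoQ h) :=
  RingHom.kerLift_injective _

theorem isFractionRing_rhoQ {z w : X} (h : z ⤳ w) :
    @IsFractionRing (X.presheaf.stalk w ⧸ RingHom.ker (rho h)) _ (X.residueField z) _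
      (rhoQ h).toAlgebra := by
  letI := (rhoQ h).toAlgebra
  obtain ⟨_, ⟨(U : X.Opens), hU, rfl⟩, hwU, -⟩ :=
    X.isBasis_affineOpens.exists_subset_of_mem_open (Set.mem_univ w) isOpen_univ
  have hU : IsAffineOpen U := hU
  have hwU : w ∈ U := hwU
  have hzU : z ∈ U := h.mem_open U.isOpen hwU
  letI algSt := X.presheaf.algebra_section_stalk ⟨z, hzU⟩
  haveI hloc := hU.isLocalization_stalk ⟨z, hzU⟩
  refine ⟨?_, ?_, ?_⟩
  · rintro ⟨s, hs⟩
    apply IsUnit.mk0
    intro h0
    have : s = 0 := rhoQ_injective h (by rw [map_zero]; exact h0)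
    exact (nonZeroDivisors.ne_zero hs) this
  · intro t
    obtain ⟨g, rfl⟩ := X.residue_surjective z t
    obtain ⟨a, s, rfl⟩ := IsLocalization.exists_mk'_eq
      (hU.primeIdealOf ⟨z, hzU⟩).asIdeal.primeCompl g
    have hs0 : rho h (X.presheaf.germ U w hwU (s : Γ(X, U))) ≠ 0 := by
      rw [rho_germ, Ne, ← RingHom.mem_ker, ker_evaluation hU z hzU]
      exact s.2
    have hs : (Ideal.Quotient.mk (RingHom.ker (rho h))
        (X.presheaf.germ U w hwU (s : Γ(X, U)))) ∈
        nonZeroDivisors (X.presheaf.stalk w ⧸ RingHom.ker (rho h)) := by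
      rw [mem_nonZeroDivisors_iff_ne_zero, Ne, Ideal.Quotient.eq_zero_iff_mem, RingHom.mem_ker]
      exact hs0
    refine ⟨⟨Ideal.Quotient.mk _ (X.presheaf.germ U w hwU a), ⟨_, hs⟩⟩, ?_⟩
    change (X.residue z).hom _ * rho h (X.presheaf.germ U w hwU (s : Γ(X, U))) =
      rho h (X.presheaf.germ U w hwU a)
    rw [rho_germ, rho_germ]
    have h1 : ∀ b : Γ(X, U), (X.evaluation U z hzU).hom b =
        (X.residue z).hom (algebraMap Γ(X, U) (X.presheaf.stalk z) b) := fun b => rfl
    rw [h1, h1, ← map_mul, IsLocalization.mk'_spec]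
  · intro a b hab
    exact ⟨1, by rw [rhoQ_injective h hab]⟩

end Groth.Agent.Lib.Helper21.QfCodim
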