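import Groth.Agent.Lib.Helper21.QfCodim2
import Groth.Agent.Lib.Helper21.KA4
import Groth.Agent.Lib.Helper6.EtLocInsepScheme1

/-!
# Krull–Akizuki for chains of specialisations over a point of codimension at most one
-/

set_option autoImplicit false
set_option linter.style.haveILetI false
set_option linter.unusedSectionVars false
universe u
open AlgebraicGeometry CategoryTheory Limits TopologicalSpace

namespace Groth.Agent.Lib.Helper21.QfCodim

variable {X Y : Scheme.{u}}

/-- Let `η ⤳ w' ⤳ w` in `X`, with `f` quasi-finite at `η` and the local ring of `Y` at `f w`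
Noetherian of dimension at most one. Then `w' = η` or `w' = w`. -/
theorem eq_or_eq_of_specializes_of_quasiFiniteAt (f : X ⟶ Y) {η w' w : X} (h1 : η ⤳ w')
    (h2 : w' ⤳ w) [IsNoetherianRing (Y.presheaf.stalk (f w))]
    (hdim : ringKrullDim (Y.presheaf.stalk (f w)) ≤ 1) (hη : f.QuasiFiniteAt η) :
    w' = η ∨ w' = w := by
  have hηw : η ⤳ w := h1.trans h2
  have hY : f η ⤳ f w := hηw.map f.continuous
  -- the rings
  letI : Algebra (Y.presheaf.stalk (f w) ⧸ RingHom.ker (rho hY)) (Y.residueField (f η)) :=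
    (rhoQ hY).toAlgebra
  haveI := isFractionRing_rhoQ hY
  letI : Algebra (Y.residueField (f η)) (X.residueField η) := (f.residueFieldMap η).hom.toAlgebra
  haveI : FiniteDimensional (Y.residueField (f η)) (X.residueField η) :=
    Groth.Agent.Lib.Helper6.EtLoc.finite_residueField_of_quasiFiniteAt f η hη
  letI : Algebra (X.presheaf.stalk w ⧸ RingHom.ker (rho hηw)) (X.residueField η) :=
    (rhoQ hηw).toAlgebra
  have hle : RingHom.ker (rho hY) ≤ (RingHom.ker (rho hηw)).comap (f.stalkMap w).hom := by
    rw [comap_ker_rho f hηw]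
  letI : Algebra (Y.presheaf.stalk (f w) ⧸ RingHom.ker (rho hY))
      (X.presheaf.stalk w ⧸ RingHom.ker (rho hηw)) :=
    (Ideal.quotientMap (RingHom.ker (rho hηw)) (f.stalkMap w).hom hle).toAlgebra
  letI : Algebra (Y.presheaf.stalk (f w) ⧸ RingHom.ker (rho hY)) (X.residueField η) :=
    ((algebraMap (Y.residueField (f η)) (X.residueField η)).comp
      (algebraMap (Y.presheaf.stalk (f w) ⧸ RingHom.ker (rho hY)) (Y.residueField (f η)))).toAlgebra
  haveI : IsScalarTower (Y.presheaf.stalk (f w) ⧸ RingHom.ker (rho hY)) (Y.residueField (f η))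
      (X.residueField η) := IsScalarTower.of_algebraMap_eq fun _ => rfl
  haveI : IsScalarTower (Y.presheaf.stalk (f w) ⧸ RingHom.ker (rho hY))
      (X.presheaf.stalk w ⧸ RingHom.ker (rho hηw)) (X.residueField η) := by
    refine IsScalarTower.of_algebraMap_eq fun t => ?_
    obtain ⟨t, rfl⟩ := Ideal.Quotient.mk_surjective t
    change (f.residueFieldMap η).hom (rho hY t) = rho hηw ((f.stalkMap w).hom t)
    exact congrArg (fun g => g t) (residueFieldMap_comp_rho f hηw)
  haveI : Ring.KrullDimLE 1 (Y.presheaf.stalk (f w) ⧸ RingHom.ker (rho hY)) :=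
    Ring.krullDimLE_iff.mpr ((ringKrullDim_quotient_le _).trans hdim)
  have hKA : Ring.KrullDimLE 1 (X.presheaf.stalk w ⧸ RingHom.ker (rho hηw)) :=
    Groth.Agent.Lib.Helper21.KA.krullDimLE_one_of_injective
      (Y.presheaf.stalk (f w) ⧸ RingHom.ker (rho hY)) (Y.residueField (f η)) (X.residueField η)
      (X.presheaf.stalk w ⧸ RingHom.ker (rho hηw)) (rhoQ_injective hηw)
  -- the chain
  have hle' : RingHom.ker (rho hηw) ≤ RingHom.ker (rho h2) := ker_rho_le h1 h2
  by_cases hbot : (RingHom.ker (rho h2)).map (Ideal.Quotient.mk (RingHom.ker (rho hηw))) = ⊥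
  · left
    have h3 : RingHom.ker (rho h2) ≤ RingHom.ker (rho hηw) := by
      have := (Ideal.map_eq_bot_iff_le_ker _).mp hbot
      rwa [Ideal.mk_ker] at this
    exact eq_of_ker_rho_eq h2 hηw (le_antisymm h3 hle')
  · right
    have hsurj : Function.Surjective (Ideal.Quotient.mk (RingHom.ker (rho hηw))) :=
      Ideal.Quotient.mk_surjective
    have hker : RingHom.ker (Ideal.Quotient.mk (RingHom.ker (rho hηw))) ≤ RingHom.ker (rho h2) := by
      rw [Ideal.mk_ker]; exact hle'
    have hprime : ((RingHom.ker (rho h2)).map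
        (Ideal.Quotient.mk (RingHom.ker (rho hηw)))).IsPrime :=
      Ideal.map_isPrime_of_surjective hsurj hker
    have hmax := Ideal.IsPrime.isMaximal_of_ne_bot hprime hbot
    have hcm : ((RingHom.ker (rho h2)).map (Ideal.Quotient.mk (RingHom.ker (rho hηw)))).comap
        (Ideal.Quotient.mk (RingHom.ker (rho hηw))) = RingHom.ker (rho h2) := by
      rw [Ideal.comap_map_of_surjective' _ hsurj]
      exact sup_eq_left.mpr hker
    have hmax' : (RingHom.ker (rho h2)).IsMaximal := by
      rw [← hcm]
      exact Ideal.comap_isMaximal_of_surjective _ hsurj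
    exact eq_of_ker_rho_eq_maximalIdeal h2 (IsLocalRing.eq_maximalIdeal hmax')

end Groth.Agent.Lib.Helper21.QfCodim
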