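import Mathlib

/-!
# N-2 ascends along quasi-finite finite type extensions (via Zariski's main theorem)
-/

set_option autoImplicit false
set_option linter.style.haveILetI false
universe u

namespace Groth.Agent.Lib.Helper21.QfN2

open Polynomial

/-- Scaling an integral element by a power of `r` to make it integral over the smaller ring. -/
theorem exists_pow_mul_isIntegral {R S L : Type*} [CommRing R] [CommRing S] [CommRing L]
    [Algebra R S] [Algebra S L] [Algebra R L] [IsScalarTower R S L]
    (r : S) (hr : IsIntegral R r) (h : ∀ x : S, ∃ m, IsIntegral R (r ^ m * x))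
    (d : L) (hd : IsIntegral S d) :
    ∃ M : ℕ, IsIntegral R (algebraMap S L (r ^ M) * d) := by
  obtain ⟨p, hpm, hp⟩ := hd
  choose m hm using h
  set n := p.natDegree with hn
  set M := ∑ i ∈ Finset.range n, m (p.coeff i) with hM
  have hcoeff : ∀ i < n, IsIntegral R (r ^ M * p.coeff i) := by
    intro i hi
    have hle : m (p.coeff i) ≤ M :=
      Finset.single_le_sum (f := fun i => m (p.coeff i)) (fun _ _ => Nat.zero_le _)
        (Finset.mem_range.mpr hi)
    have : r ^ M * p.coeff i = r ^ (M - m (p.coeff i)) * (r ^ m (p.coeff i) * p.coeff i) := by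
      rw [← mul_assoc, ← pow_add, Nat.sub_add_cancel hle]
    rw [this]
    exact (hr.pow _).mul (hm _)
  refine ⟨M, ?_⟩
  set q := scaleRoots p (r ^ M) with hq
  have hqm : q.Monic := (monic_scaleRoots_iff _).mpr hpm
  have hqroot : eval₂ (algebraMap S L) (algebraMap S L (r ^ M) * d) q = 0 := by
    rw [hq, scaleRoots_eval₂_mul, hp, mul_zero]
  set A := integralClosure R S with hA
  have hqcoeffs : (↑q.coeffs : Set S) ⊆ A.toSubring := by
    intro c hc
    obtain ⟨i, -, rfl⟩ := Polynomial.mem_coeffs_iff.mp hc
    change IsIntegral R (q.coeff i)
    rw [hq, coeff_scaleRoots]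
    rcases lt_trichotomy i n with hi | hi | hi
    · have : p.coeff i * (r ^ M) ^ (p.natDegree - i) =
          (r ^ M * p.coeff i) * (r ^ M) ^ (p.natDegree - i - 1) := by
        have h1 : p.natDegree - i = (p.natDegree - i - 1) + 1 := by omega
        rw [h1, pow_succ]
        simp only [Nat.add_sub_cancel]
        ring
      rw [this]
      exact (hcoeff i hi).mul ((hr.pow _).pow _)
    · rw [hi, hn, Nat.sub_self, pow_zero, mul_one, coeff_natDegree, hpm.leadingCoeff]
      exact isIntegral_one
    · rw [coeff_eq_zero_of_natDegree_lt hi, zero_mul]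
      exact isIntegral_zero
  set q' : A[X] := q.toSubring A.toSubring hqcoeffs with hq'
  have hq'm : q'.Monic := (monic_toSubring q A.toSubring hqcoeffs).mpr hqm
  have hAL : IsIntegral A (algebraMap S L (r ^ M) * d) := by
    refine ⟨q', hq'm, ?_⟩
    have h1 : algebraMap A L = (algebraMap S L).comp (Subring.subtype A.toSubring) := rfl
    rw [h1, ← eval₂_map, hq', map_toSubring]
    exact hqroot
  exact isIntegral_trans (R := R) (A := A) _ hAL

/-- If the integral closure of `R` in `L` is a finite `R`-module and `S` is a quasi-finite finite
type `R`-algebra mapping to `L`, then the integral closure of `S` in `L` is a finite `S`-module. -/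
theorem finite_integralClosure_of_quasiFinite {R S L : Type u} [CommRing R] [CommRing S]
    [CommRing L] [Algebra R S] [Algebra S L] [Algebra R L] [IsScalarTower R S L]
    [Algebra.FiniteType R S] [Algebra.QuasiFinite R S]
    (hC : Module.Finite R (integralClosure R L)) : Module.Finite S (integralClosure S L) := by
  obtain ⟨n, c, hc⟩ := Module.Finite.exists_fin (R := R) (M := integralClosure R L)
  set N : Submodule S L := Submodule.span S (Set.range fun i => ((c i : integralClosure R L) : L))
    with hN
  have hCN : ∀ e : integralClosure R L, (e : L) ∈ N := by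
    intro e
    have he : e ∈ Submodule.span R (Set.range c) := by rw [hc]; trivial
    have h1 : (e : L) ∈ Submodule.map (integralClosure R L).val.toLinearMap
        (Submodule.span R (Set.range c)) := ⟨e, he, rfl⟩
    rw [Submodule.map_span, ← Set.range_comp] at h1
    exact Submodule.span_le_restrictScalars R S _ h1
  have hND : N = Subalgebra.toSubmodule (integralClosure S L) := by
    apply le_antisymm
    · rw [hN, Submodule.span_le]
      rintro _ ⟨i, rfl⟩
      exact (c i).2.tower_top
    · intro d hd
      have hd' : IsIntegral S d := hd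
      by_contra hdN
      set I : Ideal S := N.colon ({d} : Set L) with hI
      have hIne : I ≠ ⊤ := by
        intro h
        have h1 : (1 : S) ∈ I := by rw [h]; trivial
        rw [hI, Submodule.mem_colon_singleton, one_smul] at h1
        exact hdN h1
      obtain ⟨q, hqmax, hIq⟩ := Ideal.exists_le_maximal I hIne
      haveI := hqmax.isPrime
      obtain ⟨r, hrq, hrint, hr⟩ := Algebra.zariskisMainProperty_iff.mp
        (Algebra.ZariskisMainProperty.of_finiteType (R := R) q)
      obtain ⟨M, hM⟩ := exists_pow_mul_isIntegral r hrint hr d hd'
      have h2 : algebraMap S L (r ^ M) * d ∈ N := hCN ⟨_, hM⟩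
      have h3 : r ^ M ∈ I := by
        rw [hI, Submodule.mem_colon_singleton, Algebra.smul_def]
        exact h2
      exact hrq (hqmax.isPrime.mem_of_pow_mem M (hIq h3))
  have hfg : (Subalgebra.toSubmodule (integralClosure S L)).FG := by
    rw [← hND, hN]
    exact Submodule.fg_span (Set.finite_range _)
  exact Module.Finite.of_fg hfg

end Groth.Agent.Lib.Helper21.QfN2
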