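import Groth.Agent.Lib.Helper22.QuasiHomeo

/-! Quasi-constructible sets (finite unions of locally closed sets) and quasi-homeomorphisms. -/

set_option autoImplicit false

namespace Groth.Agent.Lib.Helper21

open Set Topology
open Groth.Agent.Lib.Helper22

universe u v

variable {X : Type u} {Y : Type v} [TopologicalSpace X] [TopologicalSpace Y]

/-- quasi-constructible: a finite union of locally closed subsets -/
def QC (Z : Set Y) : Prop :=
  ∃ T : Set (Set Y), T.Finite ∧ (∀ t ∈ T, IsLocallyClosed t) ∧ Z = ⋃₀ T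

theorem QC.of_isLocallyClosed {s : Set Y} (hs : IsLocallyClosed s) : QC s :=
  ⟨{s}, finite_singleton _, by rintro t rfl; exact hs, by simp⟩

theorem QC.empty : QC (∅ : Set Y) := ⟨∅, finite_empty, by simp, by simp⟩

theorem QC.univ : QC (Set.univ : Set Y) := QC.of_isLocallyClosed isOpen_univ.isLocallyClosed

theorem QC.union {A B : Set Y} (hA : QC A) (hB : QC B) : QC (A ∪ B) := by
  obtain ⟨T, hTf, hT, rfl⟩ := hA
  obtain ⟨S, hSf, hS, rfl⟩ := hB
  refine ⟨T ∪ S, hTf.union hSf, ?_, (sUnion_union T S).symm⟩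
  rintro t (ht | ht)
  · exact hT t ht
  · exact hS t ht

theorem QC.inter_isLocallyClosed {A s : Set Y} (hA : QC A) (hs : IsLocallyClosed s) :
    QC (A ∩ s) := by
  obtain ⟨T, hTf, hT, rfl⟩ := hA
  refine ⟨(fun t => t ∩ s) '' T, hTf.image _, ?_, ?_⟩
  · rintro _ ⟨t, ht, rfl⟩
    exact (hT t ht).inter hs
  · rw [sUnion_image, sUnion_eq_biUnion, iUnion₂_inter]

theorem QC.inter {A B : Set Y} (hA : QC A) (hB : QC B) : QC (A ∩ B) := by
  obtain ⟨S, hSf, hS, rfl⟩ := hB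
  induction S, hSf using Set.Finite.induction_on with
  | empty => simpa using QC.empty
  | @insert s S _ _ ih =>
    rw [sUnion_insert, inter_union_distrib_left]
    exact (hA.inter_isLocallyClosed (hS s (mem_insert _ _))).union
      (ih fun t ht => hS t (mem_insert_of_mem _ ht))

theorem QC.compl_of_isLocallyClosed {s : Set Y} (hs : IsLocallyClosed s) : QC sᶜ := by
  obtain ⟨U, C, hU, hC, rfl⟩ := hs
  rw [compl_inter]
  exact (QC.of_isLocallyClosed hU.isClosed_compl.isLocallyClosed).union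
    (QC.of_isLocallyClosed hC.isOpen_compl.isLocallyClosed)

theorem QC.compl {A : Set Y} (hA : QC A) : QC Aᶜ := by
  obtain ⟨T, hTf, hT, rfl⟩ := hA
  induction T, hTf using Set.Finite.induction_on with
  | empty => simpa using QC.univ
  | @insert s S _ _ ih =>
    rw [sUnion_insert, compl_union]
    exact (QC.compl_of_isLocallyClosed (hT s (mem_insert _ _))).inter
      (ih fun t ht => hT t (mem_insert_of_mem _ ht))

theorem QC.sdiff {A B : Set Y} (hA : QC A) (hB : QC B) : QC (A \ B) := by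
  rw [sdiff_eq]; exact hA.inter hB.compl

theorem QC.preimage {A : Set Y} (hA : QC A) {f : X → Y} (hf : Continuous f) : QC (f ⁻¹' A) := by
  obtain ⟨T, hTf, hT, rfl⟩ := hA
  refine ⟨(fun t => f ⁻¹' t) '' T, hTf.image _, ?_, ?_⟩
  · rintro _ ⟨t, ht, rfl⟩
    exact (hT t ht).preimage hf
  · rw [sUnion_image, preimage_sUnion]

variable {f : X → Y}

theorem QH.eq_empty_of_qc (h : QH f) {A : Set Y} (hA : QC A) (he : f ⁻¹' A = ∅) : A = ∅ := by
  obtain ⟨T, -, hT, rfl⟩ := hA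
  rw [sUnion_eq_empty]
  intro t ht
  apply h.eq_empty_of_isLocallyClosed (hT t ht)
  apply eq_empty_of_subset_empty
  rw [← he]
  exact preimage_mono (subset_sUnion_of_mem ht)

theorem QH.subset_of_qc (h : QH f) {A B : Set Y} (hA : QC A) (hB : QC B)
    (hsub : f ⁻¹' A ⊆ f ⁻¹' B) : A ⊆ B := by
  rw [← sdiff_eq_empty]
  apply QH.eq_empty_of_qc h (hA.sdiff hB)
  rw [preimage_sdiff, sdiff_eq_empty]
  exact hsub

theorem QH.eq_of_qc (h : QH f) {A B : Set Y} (hA : QC A) (hB : QC B)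
    (he : f ⁻¹' A = f ⁻¹' B) : A = B :=
  Subset.antisymm (QH.subset_of_qc h hA hB he.subset) (QH.subset_of_qc h hB hA he.symm.subset)

theorem QH.exists_isLocallyClosed_preimage_eq (h : QH f) {t : Set X} (ht : IsLocallyClosed t) :
    ∃ s : Set Y, IsLocallyClosed s ∧ f ⁻¹' s = t := by
  obtain ⟨U', C', hU', hC', rfl⟩ := ht
  obtain ⟨U, hU, rfl⟩ := h.2 U' hU'
  obtain ⟨D, hD, hDC⟩ := h.2 C'ᶜ hC'.isOpen_compl
  refine ⟨U ∩ Dᶜ, ⟨U, Dᶜ, hU, hD.isClosed_compl, rfl⟩, ?_⟩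
  rw [preimage_inter, preimage_compl, hDC, compl_compl]

theorem QH.exists_qc_preimage_eq (h : QH f) {Z : Set X} (hZ : QC Z) :
    ∃ A : Set Y, QC A ∧ f ⁻¹' A = Z := by
  obtain ⟨T, hTf, hT, rfl⟩ := hZ
  have key : ∀ t ∈ T, ∃ s : Set Y, IsLocallyClosed s ∧ f ⁻¹' s = t := fun t ht =>
    QH.exists_isLocallyClosed_preimage_eq h (hT t ht)
  choose! g hg hgt using key
  refine ⟨⋃₀ (g '' T), ⟨g '' T, hTf.image _, ?_, rfl⟩, ?_⟩
  · rintro _ ⟨t, ht, rfl⟩
    exact hg t ht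
  · rw [sUnion_image, preimage_iUnion₂, sUnion_eq_biUnion]
    exact iUnion₂_congr hgt

/-- EGA IV 10.3.x: a quasi-homeomorphism induces a bijection on quasi-constructible subsets. -/
theorem QH.bijOn_qc (h : QH f) (hf : Continuous f) :
    BijOn (fun Z : Set Y => f ⁻¹' Z) {Z | QC Z} {Z | QC Z} :=
  ⟨fun _ hZ => hZ.preimage hf, fun _ hA _ hB he => QH.eq_of_qc h hA hB he,
    fun _ hZ => by
      obtain ⟨A, hA, hAZ⟩ := QH.exists_qc_preimage_eq h hZ
      exact ⟨A, hA, hAZ⟩⟩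

theorem lqc_iff {Z : Set Y} : LQC Z ↔ ∀ y : Y, ∃ U : Set Y, IsOpen U ∧ y ∈ U ∧ QC (U ∩ Z) :=
  Iff.rfl

theorem LQC.sdiff {A B : Set Y} (hA : LQC A) (hB : LQC B) : LQC (A \ B) := by
  rw [lqc_iff] at *
  intro y
  obtain ⟨U₁, hU₁, hy₁, h₁⟩ := hA y
  obtain ⟨U₂, hU₂, hy₂, h₂⟩ := hB y
  refine ⟨U₁ ∩ U₂, hU₁.inter hU₂, ⟨hy₁, hy₂⟩, ?_⟩
  have : (U₁ ∩ U₂) ∩ (A \ B) = ((U₁ ∩ A) \ (U₂ ∩ B)) ∩ (U₁ ∩ U₂) := by
    ext z
    simp only [mem_inter_iff, mem_sdiff]
    tauto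
  rw [this]
  exact (h₁.sdiff h₂).inter_isLocallyClosed (hU₁.inter hU₂).isLocallyClosed

/-- "quasi-constructible in the open subspace `V`" in ambient terms -/
theorem qc_preimage_val_iff {V : Set Y} (hV : IsOpen V) {Z : Set Y} :
    (∃ T : Set (Set V), T.Finite ∧ (∀ t ∈ T, IsLocallyClosed t) ∧
      (Subtype.val ⁻¹' Z : Set V) = ⋃₀ T) ↔ QC (V ∩ Z) := by
  constructor
  · rintro ⟨T, hTf, hT, hZT⟩
    refine ⟨(fun t => Subtype.val '' t) '' T, hTf.image _, ?_, ?_⟩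
    · rintro _ ⟨t, ht, rfl⟩
      exact (hT t ht).image IsInducing.subtypeVal
        (by rw [Subtype.range_coe]; exact hV.isLocallyClosed)
    · rw [← Subtype.image_preimage_coe, hZT, image_sUnion, sUnion_image]
  · intro hq
    have := hq.preimage (continuous_subtype_val (p := (· ∈ V)))
    rwa [Subtype.preimage_coe_self_inter] at this

/-- the subtype form of local quasi-constructibility agrees with `LQC` -/
theorem lqc_iff_subtype {Z : Set Y} :
    (∀ y : Y, ∃ V : Set Y, IsOpen V ∧ y ∈ V ∧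
      ∃ T : Set (Set V), T.Finite ∧ (∀ t ∈ T, IsLocallyClosed t) ∧
        (Subtype.val ⁻¹' Z : Set V) = ⋃₀ T) ↔ LQC Z := by
  rw [lqc_iff]
  refine forall_congr' fun y => exists_congr fun V => ?_
  constructor
  · rintro ⟨hV, hy, hT⟩
    exact ⟨hV, hy, (qc_preimage_val_iff hV).mp hT⟩
  · rintro ⟨hV, hy, hT⟩
    exact ⟨hV, hy, (qc_preimage_val_iff hV).mpr hT⟩

theorem LQC.preimage {Z : Set Y} (hZ : LQC Z) (hf : Continuous f) : LQC (f ⁻¹' Z) := by
  rw [lqc_iff] at *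
  intro x
  obtain ⟨U, hU, hxU, hq⟩ := hZ (f x)
  refine ⟨f ⁻¹' U, hU.preimage hf, hxU, ?_⟩
  rw [← preimage_inter]
  exact hq.preimage hf

theorem QH.eq_of_lqc (h : QH f) {A B : Set Y} (hA : LQC A) (hB : LQC B)
    (he : f ⁻¹' A = f ⁻¹' B) : A = B := by
  apply Subset.antisymm
  · rw [← sdiff_eq_empty]
    apply h.eq_empty_of_lqc (LQC.sdiff hA hB)
    rw [preimage_sdiff, he, Set.sdiff_self]
  · rw [← sdiff_eq_empty]
    apply h.eq_empty_of_lqc (LQC.sdiff hB hA)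
    rw [preimage_sdiff, he, Set.sdiff_self]

theorem QH.exists_lqc_preimage_eq (h : QH f) {Z' : Set X} (hZ' : LQC Z') :
    ∃ Z : Set Y, LQC Z ∧ f ⁻¹' Z = Z' := by
  rw [lqc_iff] at hZ'
  choose V' hV'o hxV' hV'q using hZ'
  have h1 : ∀ x, ∃ V : Set Y, IsOpen V ∧ f ⁻¹' V = V' x := fun x => h.2 _ (hV'o x)
  choose V hVo hVV' using h1
  have h2 : ∀ x, ∃ W : Set Y, QC W ∧ f ⁻¹' W = V' x ∩ Z' := fun x =>
    QH.exists_qc_preimage_eq h (hV'q x)
  choose W hWq hWV' using h2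
  have hcov : ⋃ x, V x = univ := by
    apply h.1 _ _ (isOpen_iUnion hVo) isOpen_univ
    rw [preimage_iUnion, preimage_univ, eq_univ_iff_forall]
    intro x
    exact mem_iUnion.mpr ⟨x, by rw [hVV']; exact hxV' x⟩
  refine ⟨⋃ x, W x, ?_, ?_⟩
  · rw [lqc_iff]
    intro y
    have hy : y ∈ ⋃ x, V x := by rw [hcov]; trivial
    obtain ⟨x, hyx⟩ := mem_iUnion.mp hy
    refine ⟨V x, hVo x, hyx, ?_⟩
    have : V x ∩ ⋃ x', W x' = W x ∩ V x := by
      apply Subset.antisymm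
      · rintro z ⟨hzV, hzW⟩
        obtain ⟨x', hzx'⟩ := mem_iUnion.mp hzW
        refine ⟨?_, hzV⟩
        have hsub : W x' ∩ V x ⊆ W x := by
          apply QH.subset_of_qc h ((hWq x').inter_isLocallyClosed (hVo x).isLocallyClosed) (hWq x)
          rw [preimage_inter, hWV', hWV', hVV']
          rintro a ⟨⟨-, haZ⟩, haV⟩
          exact ⟨haV, haZ⟩
        exact hsub ⟨hzx', hzV⟩
      · rintro z ⟨hzW, hzV⟩
        exact ⟨hzV, mem_iUnion.mpr ⟨x, hzW⟩⟩
    rw [this]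
    exact (hWq x).inter_isLocallyClosed (hVo x).isLocallyClosed
  · rw [preimage_iUnion]
    ext a
    simp only [mem_iUnion, hWV', mem_inter_iff]
    constructor
    · rintro ⟨x, -, ha⟩; exact ha
    · intro ha; exact ⟨a, hxV' a, ha⟩

/-- a quasi-homeomorphism induces a bijection on locally quasi-constructible subsets. -/
theorem QH.bijOn_lqc (h : QH f) (hf : Continuous f) :
    BijOn (fun Z : Set Y => f ⁻¹' Z) {Z | LQC Z} {Z | LQC Z} :=
  ⟨fun _ hZ => LQC.preimage hZ hf, fun _ hA _ hB he => QH.eq_of_lqc h hA hB he,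
    fun _ hZ => by
      obtain ⟨A, hA, hAZ⟩ := QH.exists_lqc_preimage_eq h hZ
      exact ⟨A, hA, hAZ⟩⟩

end Groth.Agent.Lib.Helper21
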