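import Groth.Agent.Lib.Helper21.ValSec2
import Groth.Agent.Lib.Helper21.GlueFam
import Groth.Agent.Lib.Helper21.DVRExt4
import Groth.Agent.Lib.Helper21.RegularLocal
import Mathlib.AlgebraicGeometry.SpreadingOut
import Mathlib.RingTheory.DiscreteValuationRing.TFAE

/-!
# Extending rational sections of closed separated morphisms over points whose local ring is a
valuation ring (EGA II 7.3.5–7.3.7 style)
-/

set_option autoImplicit false
universe u
open AlgebraicGeometry CategoryTheory Limits TopologicalSpace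

namespace Groth.Agent.Lib.Helper21.RatExt

open Groth.Agent.Lib.Helper21.DVRExt

variable {B T : Scheme.{u}}

/-- A regular local ring of dimension at most one is a valuation ring. -/
theorem valuationRing_of_isRegularLocalRing (R : Type u) [CommRing R] [IsRegularLocalRing R]
    (h : ringKrullDim R ≤ 1) : ∃ _ : IsDomain R, ValuationRing R := by
  have hd := Groth.Agent.Lib.Helper21.isDomain_of_isRegularLocalRing R
  have h1 := (IsRegularLocalRing.iff_finrank_cotangentSpace R).mp inferInstance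
  have h2 : Module.finrank (IsLocalRing.ResidueField R) (IsLocalRing.CotangentSpace R) ≤ 1 := by
    rw [← h1] at h
    exact_mod_cast h
  exact ⟨hd, ((tfae_of_isNoetherianRing_of_isLocalRing_of_isDomain R).out 1 5).mpr h2⟩

/-- `V ⊓ W` is dense in `W` when `V` is dense. -/
theorem isDominant_homOfLE_inf (V W : B.Opens) (hV : Dense (V : Set B)) :
    IsDominant (B.homOfLE (inf_le_right : V ⊓ W ≤ W)) := by
  constructor
  rw [DenseRange, dense_iff_inter_open]
  intro O hO hOne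
  obtain ⟨w, hw⟩ := hOne
  have hO' : IsOpen (W.ι '' O) := W.ι.isOpenEmbedding.isOpenMap O hO
  obtain ⟨z, hzO, hzV⟩ := hV.inter_open_nonempty _ hO' ⟨W.ι w, w, hw, rfl⟩
  obtain ⟨w', hw'O, rfl⟩ := hzO
  refine ⟨w', hw'O, ⟨⟨W.ι w', hzV, w'.2⟩, ?_⟩⟩
  apply W.ι.isOpenEmbedding.injective
  rw [← Scheme.Hom.comp_apply, Scheme.homOfLE_ι]
  rfl

/-- **Local step**: over a point whose local ring is a valuation ring, a rational section of a
closed, separated, locally finite type morphism extends to a neighbourhood. -/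
theorem exists_local_extension [IsLocallyNoetherian B] (q : T ⟶ B) [IsSeparated q]
    [LocallyOfFiniteType q] (hq : IsClosedMap q) (V : B.Opens) (hV : Dense (V : Set B))
    (s : (V : Scheme.{u}) ⟶ T) (hs : s ≫ q = V.ι) (y : B) [IsDomain (B.presheaf.stalk y)]
    [ValuationRing (B.presheaf.stalk y)] :
    ∃ (N : B.Opens) (k : (N : Scheme.{u}) ⟶ T), y ∈ N ∧ k ≫ q = N.ι ∧
      B.homOfLE (inf_le_right : V ⊓ N ≤ N) ≫ k = B.homOfLE (inf_le_left : V ⊓ N ≤ V) ≫ s := by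
  obtain ⟨N₀, hN₀, hyN₀, -, hint⟩ := exists_affine_integral_nhd y ⊤ trivial
  have hdom : IsDomain Γ(B, N₀) := ZMTExt.isDomain_of_isIntegral_opens N₀
  -- the generic point of `Spec 𝒪_y` lies in every open meeting `N₀`
  have hgen : ∀ O : B.Opens, ((O ⊓ N₀ : B.Opens) : Set B).Nonempty →
      B.fromSpecStalk y (⟨⊥, Ideal.isPrime_bot⟩ : PrimeSpectrum (B.presheaf.stalk y)) ∈ O := by
    intro O hO
    have h1 := fromSpecStalk_generic_mem y N₀ hN₀ hyN₀ O hO (𝟙 (B.presheaf.stalk y))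
      (fun _ _ h => h)
    rwa [Spec.map_id, Category.id_comp] at h1
  have hneV : ((V ⊓ N₀ : B.Opens) : Set B).Nonempty := by
    obtain ⟨z, hzN, hzV⟩ := hV.inter_open_nonempty N₀ N₀.isOpen ⟨y, hyN₀⟩
    exact ⟨z, hzV, hzN⟩
  let K := FractionRing (B.presheaf.stalk y)
  obtain ⟨jK, hjK⟩ := @exists_generic_lift B (B.presheaf.stalk y) _ inferInstance (B.fromSpecStalk y) V
    (hgen V hneV)
  have hx : (jK ≫ s) ≫ q = Spec.map (CommRingCat.ofHom (algebraMap (B.presheaf.stalk y) K)) ≫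
      B.fromSpecStalk y := by
    rw [Category.assoc, hs, hjK]
  obtain ⟨l₀, hl₀q, hl₀K⟩ := exists_lift_of_isClosedMap q hq y K (jK ≫ s) hx
  obtain ⟨N₁, hyN₁, k₁, hk₁, hk₁q⟩ := spread_out_of_isGermInjective' (𝟙 B) q l₀
    (by rw [hl₀q, Category.comp_id])
  rw [Category.comp_id] at hk₁q
  refine ⟨N₁ ⊓ N₀, B.homOfLE inf_le_left ≫ k₁, ⟨hyN₁, hyN₀⟩, ?_, ?_⟩
  · rw [Category.assoc, hk₁q, Scheme.homOfLE_ι]
  · -- agreement on `D = V ⊓ (N₁ ⊓ N₀)`, tested on the generic point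
    have hneD : (((V ⊓ (N₁ ⊓ N₀)) ⊓ N₀ : B.Opens) : Set B).Nonempty := by
      obtain ⟨z, hzN, hzV⟩ := hV.inter_open_nonempty (N₁ ⊓ N₀ : B.Opens) (N₁ ⊓ N₀ : B.Opens).isOpen
        ⟨y, hyN₁, hyN₀⟩
      exact ⟨z, ⟨hzV, hzN⟩, hzN.2⟩
    obtain ⟨jD, hjD⟩ := @exists_generic_lift B (B.presheaf.stalk y) _ inferInstance
      (B.fromSpecStalk y) (V ⊓ (N₁ ⊓ N₀)) (hgen _ hneD)
    have hdomD : IsDominant jD := by
      constructor
      rw [DenseRange, dense_iff_inter_open]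
      intro O hO hOne
      obtain ⟨w, hw⟩ := hOne
      have hO' : IsOpen ((V ⊓ (N₁ ⊓ N₀) : B.Opens).ι '' O) :=
        (V ⊓ (N₁ ⊓ N₀) : B.Opens).ι.isOpenEmbedding.isOpenMap O hO
      have h1 := hgen ⟨_, hO'⟩ ⟨(V ⊓ (N₁ ⊓ N₀) : B.Opens).ι w, ⟨w, hw, rfl⟩, w.2.2.2⟩
      obtain ⟨w', hw'O, hw'⟩ := h1
      refine ⟨w', hw'O, ⟨IsLocalRing.closedPoint _, ?_⟩⟩
      apply (V ⊓ (N₁ ⊓ N₀) : B.Opens).ι.isOpenEmbedding.injective
      rw [hw', ← Scheme.Hom.comp_apply, hjD, Scheme.Hom.comp_apply, specMap_fractionRing_apply]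
    have hredD : IsReduced ((V ⊓ (N₁ ⊓ N₀) : B.Opens) : Scheme.{u}) :=
      isReduced_of_isOpenImmersion (B.homOfLE (inf_le_right.trans inf_le_right :
        V ⊓ (N₁ ⊓ N₀) ≤ N₀))
    refine ext_of_isDominant_of_isSeparated q ?_ jD ?_
    · rw [Category.assoc, Category.assoc, Category.assoc, hk₁q, hs, Scheme.homOfLE_ι,
        Scheme.homOfLE_ι, Scheme.homOfLE_ι]
    · -- both sides are the `K`-point `jK ≫ s`
      have hL : jD ≫ B.homOfLE (inf_le_left : V ⊓ (N₁ ⊓ N₀) ≤ V) = jK := by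
        rw [← cancel_mono V.ι, Category.assoc, Scheme.homOfLE_ι, hjD, hjK]
      have hR : jD ≫ B.homOfLE (inf_le_right : V ⊓ (N₁ ⊓ N₀) ≤ N₁ ⊓ N₀) ≫
          B.homOfLE (inf_le_left : N₁ ⊓ N₀ ≤ N₁) =
          Spec.map (CommRingCat.ofHom (algebraMap (B.presheaf.stalk y) K)) ≫
            N₁.fromSpecStalkOfMem y hyN₁ := by
        rw [← cancel_mono N₁.ι, Category.assoc, Category.assoc, Scheme.homOfLE_ι,
          Scheme.homOfLE_ι, hjD, Category.assoc, Scheme.Opens.fromSpecStalkOfMem_ι]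
      calc jD ≫ B.homOfLE inf_le_right ≫ B.homOfLE inf_le_left ≫ k₁
          = (jD ≫ B.homOfLE inf_le_right ≫ B.homOfLE inf_le_left) ≫ k₁ := by
            simp only [Category.assoc]
        _ = Spec.map (CommRingCat.ofHom (algebraMap (B.presheaf.stalk y) K)) ≫ l₀ := by
            rw [hR, Category.assoc, ← hk₁]
        _ = jK ≫ s := hl₀K
        _ = jD ≫ B.homOfLE inf_le_left ≫ s := by rw [← Category.assoc, hL]

/-- **Globalisation**: local extensions of a rational section of a separated morphism over a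
reduced base glue. -/
theorem exists_extension_of_forall_local [IsReduced B] (q : T ⟶ B) [IsSeparated q]
    (V : B.Opens) (hV : Dense (V : Set B)) (s : (V : Scheme.{u}) ⟶ T) (hs : s ≫ q = V.ι)
    (P : B → Prop)
    (hloc : ∀ y, P y → ∃ (N : B.Opens) (k : (N : Scheme.{u}) ⟶ T), y ∈ N ∧ k ≫ q = N.ι ∧
      B.homOfLE (inf_le_right : V ⊓ N ≤ N) ≫ k = B.homOfLE (inf_le_left : V ⊓ N ≤ V) ≫ s) :
    ∃ (U : B.Opens) (hVU : V ≤ U) (s' : (U : Scheme.{u}) ⟶ T), s' ≫ q = U.ι ∧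
      B.homOfLE hVU ≫ s' = s ∧ ∀ y, P y → y ∈ U := by
  let I : Type u := {p : Σ W : B.Opens, ((W : Scheme.{u}) ⟶ T) //
    p.2 ≫ q = p.1.ι ∧ B.homOfLE (inf_le_right : V ⊓ p.1 ≤ p.1) ≫ p.2 =
      B.homOfLE (inf_le_left : V ⊓ p.1 ≤ V) ≫ s}
  let W : I → B.Opens := fun i => i.1.1
  let h : ∀ i : I, (W i : Scheme.{u}) ⟶ T := fun i => i.1.2
  have hcompat : ∀ i j : I, B.homOfLE (inf_le_left : W i ⊓ W j ≤ W i) ≫ h i =
      B.homOfLE (inf_le_right : W i ⊓ W j ≤ W j) ≫ h j := by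
    intro i j
    have hdomD := isDominant_homOfLE_inf V (W i ⊓ W j) hV
    refine ext_of_isDominant_of_isSeparated q ?_
      (B.homOfLE (inf_le_right : V ⊓ (W i ⊓ W j) ≤ W i ⊓ W j)) ?_
    · rw [Category.assoc, Category.assoc, i.2.1, j.2.1, Scheme.homOfLE_ι, Scheme.homOfLE_ι]
    · have hi : B.homOfLE (inf_le_right : V ⊓ (W i ⊓ W j) ≤ W i ⊓ W j) ≫
          B.homOfLE (inf_le_left : W i ⊓ W j ≤ W i) ≫ h i =
          B.homOfLE (inf_le_left : V ⊓ (W i ⊓ W j) ≤ V) ≫ s := by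
        have e1 : B.homOfLE (inf_le_right : V ⊓ (W i ⊓ W j) ≤ W i ⊓ W j) ≫
            B.homOfLE (inf_le_left : W i ⊓ W j ≤ W i) =
            B.homOfLE (le_inf inf_le_left (inf_le_right.trans inf_le_left) :
              V ⊓ (W i ⊓ W j) ≤ V ⊓ W i) ≫ B.homOfLE (inf_le_right : V ⊓ W i ≤ W i) := by
          rw [Scheme.homOfLE_homOfLE, Scheme.homOfLE_homOfLE]
        rw [← Category.assoc, e1, Category.assoc]
        erw [i.2.2]
        rw [← Category.assoc, Scheme.homOfLE_homOfLE]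
      have hj : B.homOfLE (inf_le_right : V ⊓ (W i ⊓ W j) ≤ W i ⊓ W j) ≫
          B.homOfLE (inf_le_right : W i ⊓ W j ≤ W j) ≫ h j =
          B.homOfLE (inf_le_left : V ⊓ (W i ⊓ W j) ≤ V) ≫ s := by
        have e1 : B.homOfLE (inf_le_right : V ⊓ (W i ⊓ W j) ≤ W i ⊓ W j) ≫
            B.homOfLE (inf_le_right : W i ⊓ W j ≤ W j) =
            B.homOfLE (le_inf inf_le_left (inf_le_right.trans inf_le_right) :
              V ⊓ (W i ⊓ W j) ≤ V ⊓ W j) ≫ B.homOfLE (inf_le_right : V ⊓ W j ≤ W j) := by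
          rw [Scheme.homOfLE_homOfLE, Scheme.homOfLE_homOfLE]
        rw [← Category.assoc, e1, Category.assoc]
        erw [j.2.2]
        rw [← Category.assoc, Scheme.homOfLE_homOfLE]
      rw [hi, hj]
  obtain ⟨k, hk, hkext⟩ := exists_glue_family W h hcompat
  let iV : I := ⟨⟨V, s⟩, hs, rfl⟩
  have hkq : k ≫ q = (⨆ i, W i).ι := by
    apply hkext
    intro i
    rw [← Category.assoc, hk i, Scheme.homOfLE_ι]
    exact i.2.1
  refine ⟨⨆ i, W i, le_iSup W iV, k, hkq, hk iV, ?_⟩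
  intro y hy
  obtain ⟨N, kN, hyN, hkN, hkNs⟩ := hloc y hy
  exact Opens.mem_iSup.mpr ⟨⟨⟨N, kN⟩, hkN, hkNs⟩, hyN⟩

/-- **EGA II 7.3.5-style extension over points of codimension ≤ 1.** -/
theorem exists_extension_codim_one [IsLocallyNoetherian B] [IsReduced B]
    (hreg : ∀ y : B, ringKrullDim (B.presheaf.stalk y) ≤ 1 →
      IsRegularLocalRing (B.presheaf.stalk y))
    (q : T ⟶ B) [IsSeparated q] [LocallyOfFiniteType q] (hq : IsClosedMap q)
    (V : B.Opens) (hV : Dense (V : Set B)) (s : (V : Scheme.{u}) ⟶ T) (hs : s ≫ q = V.ι) :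
    ∃ (U : B.Opens) (hVU : V ≤ U) (s' : (U : Scheme.{u}) ⟶ T), s' ≫ q = U.ι ∧
      B.homOfLE hVU ≫ s' = s ∧ ∀ y : B, ringKrullDim (B.presheaf.stalk y) ≤ 1 → y ∈ U := by
  refine exists_extension_of_forall_local q V hV s hs
    (fun y => ringKrullDim (B.presheaf.stalk y) ≤ 1) ?_
  intro y hy
  have := hreg y hy
  obtain ⟨hd, hv⟩ := valuationRing_of_isRegularLocalRing (B.presheaf.stalk y) hy
  exact exists_local_extension q hq V hV s hs y

end Groth.Agent.Lib.Helper21.RatExt
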