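import Groth.Agent.Lib.Helper21.RatExt

/-!
# Extending a rational section over a point whose local ring is a valuation ring
(version with an integral affine neighbourhood given, the open only required to accumulate at
the point)
-/

set_option autoImplicit false
universe u
open AlgebraicGeometry CategoryTheory Limits TopologicalSpace

namespace Groth.Agent.Lib.Helper21.RatExt

open Groth.Agent.Lib.Helper21.DVRExt

variable {B T : Scheme.{u}}

/-- A point with an integral open neighbourhood is germ-injective. -/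
theorem isGermInjectiveAt_of_isIntegral_nhd (y : B) (N₀ : B.Opens) (hyN₀ : y ∈ N₀)
    [IsIntegral (N₀ : Scheme.{u})] : B.IsGermInjectiveAt y := by
  have h : (N₀ : Scheme.{u}).IsGermInjectiveAt (⟨y, hyN₀⟩ : N₀) := inferInstance
  exact (isGermInjectiveAt_iff_of_isOpenImmersion (f := N₀.ι) (x := ⟨y, hyN₀⟩)).mpr h

theorem exists_local_extension' (q : T ⟶ B) [IsSeparated q]
    [LocallyOfFiniteType q] (hq : IsClosedMap q) (V : B.Opens)
    (s : (V : Scheme.{u}) ⟶ T) (hs : s ≫ q = V.ι) (y : B) (hyV : y ∈ closure (V : Set B))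
    [IsDomain (B.presheaf.stalk y)]
    [ValuationRing (B.presheaf.stalk y)]
    (N₀ : B.Opens) (hN₀ : IsAffineOpen N₀) (hyN₀ : y ∈ N₀) (hint : IsIntegral (N₀ : Scheme.{u})) :
    ∃ (N : B.Opens) (k : (N : Scheme.{u}) ⟶ T), y ∈ N ∧ k ≫ q = N.ι ∧
      B.homOfLE (inf_le_right : V ⊓ N ≤ N) ≫ k = B.homOfLE (inf_le_left : V ⊓ N ≤ V) ≫ s := by
  have hdom : IsDomain Γ(B, N₀) := ZMTExt.isDomain_of_isIntegral_opens N₀
  haveI : B.IsGermInjectiveAt y := isGermInjectiveAt_of_isIntegral_nhd y N₀ hyN₀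
  -- the generic point of `Spec 𝒪_y` lies in every open meeting `N₀`
  have hgen : ∀ O : B.Opens, ((O ⊓ N₀ : B.Opens) : Set B).Nonempty →
      B.fromSpecStalk y (⟨⊥, Ideal.isPrime_bot⟩ : PrimeSpectrum (B.presheaf.stalk y)) ∈ O := by
    intro O hO
    have h1 := fromSpecStalk_generic_mem y N₀ hN₀ hyN₀ O hO (𝟙 (B.presheaf.stalk y))
      (fun _ _ h => h)
    rwa [Spec.map_id, Category.id_comp] at h1
  have hneV : ((V ⊓ N₀ : B.Opens) : Set B).Nonempty := by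
    obtain ⟨z, hzN, hzV⟩ := mem_closure_iff.mp hyV N₀ N₀.isOpen hyN₀
    exact ⟨z, hzV, hzN⟩
  let K := FractionRing (B.presheaf.stalk y)
  obtain ⟨jK, hjK⟩ := @exists_generic_lift B (B.presheaf.stalk y) _ inferInstance (B.fromSpecStalk y) V
    (hgen V hneV)
  have hx : (jK ≫ s) ≫ q = Spec.map (CommRingCat.ofHom (algebraMap (B.presheaf.stalk y) K)) ≫
      B.fromSpecStalk y := by
    rw [Category.assoc, hs, hjK]
  obtain ⟨l₀, hl₀q, hl₀K⟩ := exists_lift_of_isClosedMap q hq y K (jK ≫ s) hx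
  obtain ⟨N₁, hyN₁, k₁, hk₁, hk₁q⟩ := spread_out_of_isGermInjective' (𝟙 B) q l₀
    (by rw [hl₀q, Category.comp_id])
  rw [Category.comp_id] at hk₁q
  refine ⟨N₁ ⊓ N₀, B.homOfLE inf_le_left ≫ k₁, ⟨hyN₁, hyN₀⟩, ?_, ?_⟩
  · rw [Category.assoc, hk₁q, Scheme.homOfLE_ι]
  · -- agreement on `D = V ⊓ (N₁ ⊓ N₀)`, tested on the generic point
    have hneD : (((V ⊓ (N₁ ⊓ N₀)) ⊓ N₀ : B.Opens) : Set B).Nonempty := by
      obtain ⟨z, hzN, hzV⟩ := mem_closure_iff.mp hyV (N₁ ⊓ N₀ : B.Opens)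
        (N₁ ⊓ N₀ : B.Opens).isOpen ⟨hyN₁, hyN₀⟩
      exact ⟨z, ⟨hzV, hzN⟩, hzN.2⟩
    obtain ⟨jD, hjD⟩ := @exists_generic_lift B (B.presheaf.stalk y) _ inferInstance
      (B.fromSpecStalk y) (V ⊓ (N₁ ⊓ N₀)) (hgen _ hneD)
    have hdomD : IsDominant jD := by
      constructor
      rw [DenseRange, dense_iff_inter_open]
      intro O hO hOne
      obtain ⟨w, hw⟩ := hOne
      have hO' : IsOpen ((V ⊓ (N₁ ⊓ N₀) : B.Opens).ι '' O) :=
        (V ⊓ (N₁ ⊓ N₀) : B.Opens).ι.isOpenEmbedding.isOpenMap O hO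
      have h1 := hgen ⟨_, hO'⟩ ⟨(V ⊓ (N₁ ⊓ N₀) : B.Opens).ι w, ⟨w, hw, rfl⟩, w.2.2.2⟩
      obtain ⟨w', hw'O, hw'⟩ := h1
      refine ⟨w', hw'O, ⟨IsLocalRing.closedPoint _, ?_⟩⟩
      apply (V ⊓ (N₁ ⊓ N₀) : B.Opens).ι.isOpenEmbedding.injective
      rw [hw', ← Scheme.Hom.comp_apply, hjD, Scheme.Hom.comp_apply, specMap_fractionRing_apply]
    have hredD : IsReduced ((V ⊓ (N₁ ⊓ N₀) : B.Opens) : Scheme.{u}) :=
      isReduced_of_isOpenImmersion (B.homOfLE (inf_le_right.trans inf_le_right :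
        V ⊓ (N₁ ⊓ N₀) ≤ N₀))
    refine ext_of_isDominant_of_isSeparated q ?_ jD ?_
    · rw [Category.assoc, Category.assoc, Category.assoc, hk₁q, hs, Scheme.homOfLE_ι,
        Scheme.homOfLE_ι, Scheme.homOfLE_ι]
    · -- both sides are the `K`-point `jK ≫ s`
      have hL : jD ≫ B.homOfLE (inf_le_left : V ⊓ (N₁ ⊓ N₀) ≤ V) = jK := by
        rw [← cancel_mono V.ι, Category.assoc, Scheme.homOfLE_ι, hjD, hjK]
      have hR : jD ≫ B.homOfLE (inf_le_right : V ⊓ (N₁ ⊓ N₀) ≤ N₁ ⊓ N₀) ≫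
          B.homOfLE (inf_le_left : N₁ ⊓ N₀ ≤ N₁) =
          Spec.map (CommRingCat.ofHom (algebraMap (B.presheaf.stalk y) K)) ≫
            N₁.fromSpecStalkOfMem y hyN₁ := by
        rw [← cancel_mono N₁.ι, Category.assoc, Category.assoc, Scheme.homOfLE_ι,
          Scheme.homOfLE_ι, hjD, Category.assoc, Scheme.Opens.fromSpecStalkOfMem_ι]
      calc jD ≫ B.homOfLE inf_le_right ≫ B.homOfLE inf_le_left ≫ k₁
          = (jD ≫ B.homOfLE inf_le_right ≫ B.homOfLE inf_le_left) ≫ k₁ := by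
            simp only [Category.assoc]
        _ = Spec.map (CommRingCat.ofHom (algebraMap (B.presheaf.stalk y) K)) ≫ l₀ := by
            rw [hR, Category.assoc, ← hk₁]
        _ = jK ≫ s := hl₀K
        _ = jD ≫ B.homOfLE inf_le_left ≫ s := by rw [← Category.assoc, hL]

end Groth.Agent.Lib.Helper21.RatExt
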