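import Mathlib
import Groth.Agent.Lib.Helper1.FlatStage2

/-!
# Flat algebras of finite presentation with reduced fibres over a reduced ring are reduced
-/

set_option autoImplicit false
set_option linter.style.haveILetI false
set_option linter.unusedSectionVars false
open TensorProduct Function MvPolynomial

universe u

namespace Groth.Agent.Lib.Helper21.RedFib


/-- over a reduced Noetherian ring, an element of a flat module vanishes as soon as it vanishes in
the fibres over the minimal primes -/
theorem eq_zero_of_forall_minimalPrimes_tmul {S M : Type*} [CommRing S] [IsNoetherianRing S]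
    [IsReduced S] [AddCommGroup M] [Module S M] [Module.Flat S M] (x : M)
    (H : ∀ (𝔭 : Ideal S) [𝔭.IsPrime], 𝔭 ∈ minimalPrimes S →
      x ⊗ₜ[S] (1 : 𝔭.ResidueField) = 0) : x = 0 := by
  classical
  have hfin : (minimalPrimes S).Finite := minimalPrimes.finite_of_isNoetherianRing S
  haveI : Fintype ↥(minimalPrimes S) := hfin.fintype
  haveI hpr : ∀ i : ↥(minimalPrimes S), i.1.IsPrime := fun i => i.2.1.1
  let φ : S →ₗ[S] (∀ i : ↥(minimalPrimes S), i.1.ResidueField) :=
    LinearMap.pi (fun i => Algebra.linearMap S i.1.ResidueField)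
  have hφ : Function.Injective φ := by
    rw [injective_iff_map_eq_zero]
    intro a ha
    have h1 : a ∈ sInf (minimalPrimes S) := by
      rw [Submodule.mem_sInf]
      intro (p : Ideal S) hp
      haveI : p.IsPrime := hp.1.1
      have := congrFun ha ⟨p, hp⟩
      simp only [φ, LinearMap.pi_apply, Algebra.linearMap_apply, Pi.zero_apply] at this
      exact (Ideal.algebraMap_residueField_eq_zero).mp this
    have h2 : sInf (minimalPrimes S) = (⊥ : Ideal S) := by
      rw [minimalPrimes, Ideal.sInf_minimalPrimes]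
      exact nilradical_eq_zero S
    rw [h2] at h1
    exact h1
  have h1 := Module.Flat.lTensor_preserves_injective_linearMap (M := M) φ hφ
  have h2 : φ.lTensor M (x ⊗ₜ 1) = 0 := by
    apply (TensorProduct.piRight S S M (fun i : ↥(minimalPrimes S) => i.1.ResidueField)).injective
    rw [map_zero]
    ext i
    simp only [LinearMap.lTensor_tmul, TensorProduct.piRight_apply, TensorProduct.piRightHom_tmul,
      Pi.zero_apply]
    have : φ 1 i = 1 := by simp [φ]
    rw [this]
    exact H i.1 i.2
  have h3 : x ⊗ₜ[S] (1 : S) = 0 := h1 (by rw [h2, map_zero])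
  have := congrArg (TensorProduct.rid S M) h3
  simpa using this



theorem tmul_one_eq_zero_of_algHom {S M K L : Type*} [CommRing S] [AddCommGroup M] [Module S M]
    [Module.Flat S M] [CommRing K] [CommRing L] [Algebra S K] [Algebra S L] (f : K →ₐ[S] L)
    (hf : Function.Injective f) (x : M) (hx : x ⊗ₜ[S] (1 : L) = 0) : x ⊗ₜ[S] (1 : K) = 0 := by
  have h1 := Module.Flat.lTensor_preserves_injective_linearMap (M := M) f.toLinearMap hf
  apply h1
  rw [map_zero, LinearMap.lTensor_tmul]
  simpa using hx



open Groth.Agent.Lib.Helper18.Fl Groth.Agent.Lib27.BCPres Groth.Agent.Lib.Helper1.FlatStage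

attribute [local instance] MvPolynomial.algebraMvPolynomial

variable {σ : Type} {R₀ R₁ : Type u} [CommRing R₀] [CommRing R₁] [Algebra R₀ R₁] {m r : ℕ}
  (g₀ : Fin m → Fin r → MvPolynomial σ R₀)

theorem presEquiv_tmul (c : R₁) (v : Fin r → MvPolynomial σ R₀) :
    presEquiv (R₁ := R₁) g₀ (c ⊗ₜ (Submodule.Quotient.mk v)) =
      c • (Submodule.Quotient.mk (mapVec (algebraMap R₀ R₁) v) :
        (Fin r → MvPolynomial σ R₁) ⧸ Kspan (fun i => mapVec (algebraMap R₀ R₁) (g₀ i))) := by
  unfold presEquiv
  rw [LinearEquiv.trans_apply, Algebra.IsPushout.cancelBaseChange_symm_tmul,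
    LinearEquiv.restrictScalars_apply, IsBaseChange.equiv_tmul, presMap_mk,
    ← algebraMap_smul (MvPolynomial σ R₁) c]


theorem mem_Kspan_one_iff {T : Type u} [CommRing T] (g : Fin m → Fin 1 → MvPolynomial σ T)
    (v : Fin 1 → MvPolynomial σ T) :
    v ∈ Kspan g ↔ v 0 ∈ Ideal.span (Set.range (fun i => g i 0)) := by
  have hK : Kspan g = Submodule.map (LinearEquiv.funUnique (Fin 1)
      (MvPolynomial σ T) (MvPolynomial σ T)).symm.toLinearMap
      (Ideal.span (Set.range (fun i => g i 0))) := by
    rw [Ideal.span, Submodule.map_span, ← Set.range_comp]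
    congr 1
    ext w k : 2
    rw [Subsingleton.elim k 0]
    rfl
  have hv : v = (LinearEquiv.funUnique (Fin 1) (MvPolynomial σ T)
      (MvPolynomial σ T)).symm (v 0) := by
    funext k
    rw [Subsingleton.elim k 0]
    rfl
  rw [hK]
  constructor
  · rintro ⟨p, hp, hpv⟩
    have : v 0 = p := by rw [← hpv]; rfl
    rw [this]
    exact hp
  · intro h
    rw [hv]
    exact Submodule.mem_map_of_mem h


theorem tmul_one_eq_zero_iff {T K : Type u} [CommRing T] [CommRing K] [Algebra T K]
    (g : Fin m → Fin 1 → MvPolynomial σ T) (q : MvPolynomial σ T) :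
    (Submodule.Quotient.mk (fun _ => q) : (Fin 1 → MvPolynomial σ T) ⧸ Kspan g) ⊗ₜ[T] (1 : K) = 0 ↔
      MvPolynomial.map (algebraMap T K) q ∈
        Ideal.span (Set.range (fun i => MvPolynomial.map (algebraMap T K) (g i 0))) := by
  have h1 : (Submodule.Quotient.mk (fun _ => q) : (Fin 1 → MvPolynomial σ T) ⧸ Kspan g) ⊗ₜ[T]
      (1 : K) = 0 ↔ (1 : K) ⊗ₜ[T] (Submodule.Quotient.mk (fun _ => q) :
        (Fin 1 → MvPolynomial σ T) ⧸ Kspan g) = 0 := by
    rw [← (TensorProduct.comm T _ K).map_eq_zero_iff, TensorProduct.comm_tmul]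
  rw [h1, ← (presEquiv (R₁ := K) g).map_eq_zero_iff, presEquiv_tmul, one_smul,
    Submodule.Quotient.mk_eq_zero, mem_Kspan_one_iff]
  rfl

end Groth.Agent.Lib.Helper21.RedFib
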