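import Mathlib
import Groth.Agent.Lib.Helper21.RedFib1

set_option autoImplicit false
set_option linter.style.haveILetI false
set_option linter.unusedSectionVars false
open TensorProduct Function MvPolynomial

universe u

namespace Groth.Agent.Lib.Helper21.RedFib

open Groth.Agent.Lib.Helper18.Fl Groth.Agent.Lib27.BCPres Groth.Agent.Lib.Helper1.FlatStage

/-- **presentation form**: over a reduced ring, if the module presented by the relations `gen` is
flat and the relations generate a radical ideal in all fibres, they generate a radical ideal -/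
theorem isRadical_span_of_flat_of_fibres {R : Type u} [CommRing R] [IsReduced R] {n m : ℕ}
    (gen : Fin m → MvPolynomial (Fin n) R)
    (hflat : Module.Flat R ((Fin 1 → MvPolynomial (Fin n) R) ⧸ Kspan (gen1 gen)))
    (H : ∀ (P : Ideal R) [P.IsPrime], (Ideal.span (Set.range (fun i =>
      MvPolynomial.map (algebraMap R P.ResidueField) (gen i)))).IsRadical) :
    (Ideal.span (Set.range gen)).IsRadical := by
  classical
  intro p hp
  obtain ⟨k, hk⟩ := hp
  -- the subalgebra generated by the coefficients of the relations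
  obtain ⟨T₀, hT₀def⟩ : ∃ T₀ : Set R, T₀ = ⋃ i, ((gen i).coeffs : Set R) := ⟨_, rfl⟩
  have hT₀ : T₀.Finite := by
    rw [hT₀def]
    exact Set.finite_iUnion fun i => Finset.finite_toSet _
  obtain ⟨S₀, hS₀def⟩ : ∃ S₀ : Subalgebra ℤ R, S₀ = Algebra.adjoin ℤ T₀ := ⟨_, rfl⟩
  have hS₀ : S₀.FG := by
    rw [hS₀def]
    exact Subalgebra.fg_def.2 ⟨T₀, hT₀, rfl⟩
  have hgS₀ : ∀ i, ((gen i).coeffs : Set R) ⊆ S₀ := fun i x hx => by
    rw [hS₀def]
    exact Algebra.subset_adjoin (by rw [hT₀def]; exact Set.mem_iUnion.mpr ⟨i, hx⟩)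
  choose g₀' hg₀' using fun i => exists_map_eq_of_coeffs_subset S₀ (gen i) (hgS₀ i)
  let g₀ : Fin m → Fin 1 → MvPolynomial (Fin n) S₀ := gen1 g₀'
  have hg₀ : ∀ i, mapVec (inc S₀) (g₀ i) = gen1 gen i := fun i => funext fun _ => hg₀' i
  haveI := hflat
  obtain ⟨S₂, h02, hS₂, hflat₂⟩ := exists_flat_level_global (gen1 gen) S₀ hS₀ g₀ hg₀
  -- enlarge to contain the coefficients of `p`
  obtain ⟨T₂, hT₂⟩ := hS₂
  obtain ⟨T₃, hT₃def⟩ : ∃ T₃ : Set R, T₃ = (T₂ : Set R) ∪ (p.coeffs : Set R) := ⟨_, rfl⟩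
  have hT₃ : T₃.Finite := by
    rw [hT₃def]
    exact (Finset.finite_toSet _).union (Finset.finite_toSet _)
  obtain ⟨S₃, hS₃def⟩ : ∃ S₃ : Subalgebra ℤ R, S₃ = Algebra.adjoin ℤ T₃ := ⟨_, rfl⟩
  have hS₃ : S₃.FG := by
    rw [hS₃def]
    exact Subalgebra.fg_def.2 ⟨T₃, hT₃, rfl⟩
  have h23 : S₂ ≤ S₃ := by
    rw [← hT₂, hS₃def]
    exact Algebra.adjoin_mono (by rw [hT₃def]; exact Set.subset_union_left)
  have h03 : S₀ ≤ S₃ := h02.trans h23
  obtain ⟨p₃, hp₃⟩ := exists_map_eq_of_coeffs_subset S₃ p (fun x hx => by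
    rw [hS₃def]
    exact Algebra.subset_adjoin (by rw [hT₃def]; exact Or.inr hx))
  let g₃ : Fin m → Fin 1 → MvPolynomial (Fin n) S₃ := fun i => mapVec (incl h03) (g₀ i)
  have hg₃ : ∀ i, MvPolynomial.map (inc S₃) (g₃ i 0) = gen i := by
    intro i
    show MvPolynomial.map (inc S₃) (MvPolynomial.map (incl h03) (g₀' i)) = gen i
    rw [MvPolynomial.map_map, inc_comp_incl]
    exact hg₀' i
  have hflat₃ : Module.Flat S₃ ((Fin 1 → MvPolynomial (Fin n) S₃) ⧸ Kspan g₃) := by
    letI : Algebra S₂ S₃ := (incl h23).toAlgebra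
    haveI := hflat₂
    have key := flat_pres_of_flat (R₀ := ↥S₂) (R₁ := ↥S₃) (fun i => mapVec (incl h02) (g₀ i))
    have heq : (fun i => mapVec (algebraMap ↥S₂ ↥S₃) (mapVec (incl h02) (g₀ i))) = g₃ := by
      funext i
      rw [mapVec_mapVec]
      rfl
    rw [heq] at key
    exact key
  haveI := isNoetherianRing_of_fg S₃ hS₃
  haveI : IsReduced S₃ := isReduced_of_injective (inc S₃) (inc_injective S₃)
  haveI := hflat₃
  have hx₃ : (Submodule.Quotient.mk (fun _ => p₃) :
      (Fin 1 → MvPolynomial (Fin n) S₃) ⧸ Kspan g₃) = 0 := by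
    apply eq_zero_of_forall_minimalPrimes_tmul (S := ↥S₃)
    intro 𝔭 _ h𝔭
    obtain ⟨P, hP, hP𝔭⟩ := Ideal.exists_comap_eq_of_mem_minimalPrimes_of_injective
      (f := inc S₃) (inc_injective S₃) 𝔭 h𝔭
    haveI := hP
    letI : Algebra S₃ P.ResidueField := ((algebraMap R P.ResidueField).comp (inc S₃)).toAlgebra
    let fκ : 𝔭.ResidueField →+* P.ResidueField := Ideal.ResidueField.map 𝔭 P (inc S₃) hP𝔭.symm
    let fκa : 𝔭.ResidueField →ₐ[S₃] P.ResidueField :=
      { fκ with
        commutes' := fun r => by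
          show fκ (algebraMap _ _ r) = _
          rw [Ideal.ResidueField.map_algebraMap]
          rfl }
    apply tmul_one_eq_zero_of_algHom fκa fκ.injective
    rw [tmul_one_eq_zero_iff]
    have e1 : ∀ q : MvPolynomial (Fin n) S₃, MvPolynomial.map (algebraMap S₃ P.ResidueField) q =
        MvPolynomial.map (algebraMap R P.ResidueField) (MvPolynomial.map (inc S₃) q) := fun q => by
      rw [MvPolynomial.map_map]
      rfl
    rw [e1, hp₃]
    simp_rw [e1, hg₃]
    apply H P
    refine ⟨k, ?_⟩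
    rw [← map_pow]
    have := Ideal.mem_map_of_mem (MvPolynomial.map (algebraMap R P.ResidueField)) hk
    rw [Ideal.map_span, ← Set.range_comp] at this
    exact this
  rw [Submodule.Quotient.mk_eq_zero, mem_Kspan_one_iff] at hx₃
  have := Ideal.mem_map_of_mem (MvPolynomial.map (inc S₃)) hx₃
  rw [Ideal.map_span, ← Set.range_comp, hp₃] at this
  have heq : (⇑(MvPolynomial.map (inc S₃)) ∘ fun i => g₃ i 0) = gen := funext hg₃
  rw [heq] at this
  exact this

end Groth.Agent.Lib.Helper21.RedFib
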