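import Mathlib
import Groth.Agent.Lib.Helper21.RedFib2

set_option autoImplicit false
set_option linter.style.haveILetI false
set_option linter.unusedSectionVars false
open TensorProduct Function MvPolynomial

universe u

namespace Groth.Agent.Lib.Helper21.RedFib

open Groth.Agent.Lib.Helper18.Fl Groth.Agent.Lib27.BCPres Groth.Agent.Lib.Helper1.FlatStage

theorem presLinearEquiv_mk {A₀ B₀ : Type u} [CommRing A₀] [CommRing B₀] [Algebra A₀ B₀] {n m : ℕ}
    (f : MvPolynomial (Fin n) A₀ →ₐ[A₀] B₀) (hf : Surjective f)
    (gen : Fin m → MvPolynomial (Fin n) A₀)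
    (hgen : Ideal.span (Set.range gen) = RingHom.ker f.toRingHom)
    (v : Fin 1 → MvPolynomial (Fin n) A₀) :
    presLinearEquiv f hf gen hgen (Submodule.Quotient.mk v) = f (v 0) := rfl

theorem presLinearEquiv_symm_apply {A₀ B₀ : Type u} [CommRing A₀] [CommRing B₀] [Algebra A₀ B₀]
    {n m : ℕ} (f : MvPolynomial (Fin n) A₀ →ₐ[A₀] B₀) (hf : Surjective f)
    (gen : Fin m → MvPolynomial (Fin n) A₀)
    (hgen : Ideal.span (Set.range gen) = RingHom.ker f.toRingHom)
    (p : MvPolynomial (Fin n) A₀) :
    (presLinearEquiv f hf gen hgen).symm (f p) = Submodule.Quotient.mk (fun _ => p) := by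
  rw [LinearEquiv.symm_apply_eq, presLinearEquiv_mk]


/-- **a flat algebra of finite presentation over a reduced ring with reduced fibres is reduced** -/
theorem isReduced_of_flat_of_reduced_fibres {A B : Type u} [CommRing A] [CommRing B] [Algebra A B]
    [IsReduced A] [Module.Flat A B] [Algebra.FinitePresentation A B]
    (H : ∀ (P : Ideal A) [P.IsPrime], IsReduced (P.ResidueField ⊗[A] B)) : IsReduced B := by
  classical
  obtain ⟨n, f, hf, s, hs⟩ := Algebra.FinitePresentation.out (R := A) (A := B)
  let m := s.card
  let gen : Fin m → MvPolynomial (Fin n) A := fun i => (s.equivFin.symm i : MvPolynomial (Fin n) A)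
  have hrange : Set.range gen = (s : Set (MvPolynomial (Fin n) A)) := by
    ext p
    constructor
    · rintro ⟨i, rfl⟩
      exact (s.equivFin.symm i).2
    · intro hp
      exact ⟨s.equivFin ⟨p, hp⟩, by simp [gen]⟩
  have hgen : Ideal.span (Set.range gen) = RingHom.ker f.toRingHom := by rw [hrange, hs]
  have hflat : Module.Flat A ((Fin 1 → MvPolynomial (Fin n) A) ⧸ Kspan (gen1 gen)) :=
    Module.Flat.of_linearEquiv (presLinearEquiv f hf gen hgen)
  have hrad : (Ideal.span (Set.range gen)).IsRadical := by
    apply isRadical_span_of_flat_of_fibres gen hflat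
    intro P _
    haveI := H P
    intro q hq
    obtain ⟨k, hk⟩ := hq
    let Φ : MvPolynomial (Fin n) P.ResidueField →ₐ[P.ResidueField] P.ResidueField ⊗[A] B :=
      MvPolynomial.aeval (fun i => (1 : P.ResidueField) ⊗ₜ[A] f (X i))
    have hΦ : ∀ p : MvPolynomial (Fin n) A,
        Φ (MvPolynomial.map (algebraMap A P.ResidueField) p) = 1 ⊗ₜ f p := by
      intro p
      have : (Φ.toRingHom.comp (MvPolynomial.map (algebraMap A P.ResidueField))) =
          (Algebra.TensorProduct.includeRight (R := A) (A := P.ResidueField) (B := B)).toRingHom.comp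
            f.toRingHom := by
        refine MvPolynomial.ringHom_ext (fun a => ?_) (fun i => ?_)
        · have h1 : f (C a) = algebraMap A B a := by
            rw [← MvPolynomial.algebraMap_eq]
            exact f.commutes a
          have h2 : Φ (C (algebraMap A P.ResidueField a)) =
              algebraMap P.ResidueField (P.ResidueField ⊗[A] B) (algebraMap A P.ResidueField a) :=
            MvPolynomial.aeval_C _ _
          show Φ (MvPolynomial.map _ (C a)) = (1 : P.ResidueField) ⊗ₜ[A] f (C a)
          rw [MvPolynomial.map_C, h2, h1, Algebra.TensorProduct.algebraMap_apply,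
            Algebra.algebraMap_self_apply, Algebra.algebraMap_eq_smul_one a,
            Algebra.algebraMap_eq_smul_one a, TensorProduct.smul_tmul]
        · simp [Φ]
      exact congrArg (fun φ : MvPolynomial (Fin n) A →+* P.ResidueField ⊗[A] B => φ p) this
    have hΦgen : ∀ i, Φ (MvPolynomial.map (algebraMap A P.ResidueField) (gen i)) = 0 := by
      intro i
      rw [hΦ]
      have : f (gen i) = 0 := by
        have : gen i ∈ RingHom.ker f.toRingHom := by
          rw [← hgen]
          exact Ideal.subset_span ⟨i, rfl⟩
        exact this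
      rw [this, TensorProduct.tmul_zero]
    have hΦq : Φ q = 0 := by
      have h1 : Φ (q ^ k) = 0 := by
        have hle : Ideal.span (Set.range fun i =>
            MvPolynomial.map (algebraMap A P.ResidueField) (gen i)) ≤ RingHom.ker Φ.toRingHom := by
          rw [Ideal.span_le]
          rintro _ ⟨i, rfl⟩
          exact hΦgen i
        exact hle hk
      rw [map_pow] at h1
      exact IsNilpotent.eq_zero ⟨k, h1⟩
    let e : P.ResidueField ⊗[A] B ≃ₗ[P.ResidueField]
        ((Fin 1 → MvPolynomial (Fin n) P.ResidueField) ⧸
          Kspan (fun i => mapVec (algebraMap A P.ResidueField) (gen1 gen i))) :=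
      (TensorProduct.AlgebraTensorModule.congr (LinearEquiv.refl P.ResidueField P.ResidueField)
        (presLinearEquiv f hf gen hgen).symm) ≪≫ₗ presEquiv (R₁ := P.ResidueField) (gen1 gen)
    have he : ∀ q' : MvPolynomial (Fin n) P.ResidueField,
        e (Φ q') = Submodule.Quotient.mk (fun _ => q') := by
      intro q'
      induction q' using MvPolynomial.induction_on' with
      | monomial α c =>
        have h1 : (monomial α c : MvPolynomial (Fin n) P.ResidueField) =
            c • MvPolynomial.map (algebraMap A P.ResidueField) (monomial α 1) := by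
          rw [MvPolynomial.map_monomial, map_one, MvPolynomial.smul_monomial, smul_eq_mul, mul_one]
        rw [h1, map_smul, hΦ, map_smul]
        simp only [e, LinearEquiv.trans_apply, TensorProduct.AlgebraTensorModule.congr_tmul,
          LinearEquiv.refl_apply, presLinearEquiv_symm_apply, presEquiv_tmul, one_smul]
        rfl
      | add p q hp hq =>
        rw [map_add, map_add, hp, hq]
        rfl
    have h3 := he q
    rw [hΦq, map_zero] at h3
    have hmem := (Submodule.Quotient.mk_eq_zero _).mp h3.symm
    rw [mem_Kspan_one_iff] at hmem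
    exact hmem
  constructor
  intro b hb
  obtain ⟨p, rfl⟩ := hf b
  obtain ⟨k, hk⟩ := hb
  have h1 : p ^ k ∈ Ideal.span (Set.range gen) := by
    rw [hgen, RingHom.mem_ker]
    show f (p ^ k) = 0
    rw [map_pow]
    exact hk
  have h2 := hrad ⟨k, h1⟩
  rw [hgen] at h2
  exact h2

end Groth.Agent.Lib.Helper21.RedFib
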