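import Groth.Agent.Lib.Helper28.RelFP
import Mathlib.RingTheory.IsTensorProduct
import Mathlib.RingTheory.TensorProduct.MvPolynomial
import Mathlib.Algebra.Module.FinitePresentation

/-! Base change of "finitely presented relative to `R`" (Stacks 05GY-like). -/

set_option autoImplicit false
set_option linter.style.haveILetI false

namespace Groth.Agent.Lib.Helper21

open TensorProduct Function
open Groth.Agent.Lib.Helper28

section Abstract

variable {P A P' A' : Type*} [CommRing P] [CommRing A] [CommRing P'] [CommRing A']
  [Algebra P A] [Algebra P P'] [Algebra A A'] [Algebra P' A'] [Algebra P A']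
  [IsScalarTower P A A'] [IsScalarTower P P' A'] (M : Type*) [AddCommGroup M] [Module A M]
  [Module P M] [IsScalarTower P A M]

/-- If `A' = P' ⊗[P] A` then `A' ⊗[A] M = P' ⊗[P] M` is finitely presented over `P'` whenever `M`
is finitely presented over `P`. -/
theorem finitePresentation_tensor_of_isPushout [Algebra.IsPushout P A P' A']
    [Module.FinitePresentation P M] : Module.FinitePresentation P' (A' ⊗[A] M) := by
  haveI : Algebra.IsPushout P P' A A' := Algebra.IsPushout.symm inferInstance
  exact Module.FinitePresentation.of_equiv (Algebra.IsPushout.cancelBaseChange P P' A A' M).symm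

end Abstract

section MvPoly

variable {R A R' A' : Type*} [CommRing R] [CommRing A] [CommRing R'] [CommRing A']
  [Algebra R A] [Algebra R R'] [Algebra A A'] [Algebra R' A'] [Algebra R A']
  [IsScalarTower R A A'] [IsScalarTower R R' A'] {σ : Type*}

/-- the base change of a presentation map -/
noncomputable def baseChangePres (α : MvPolynomial σ R →ₐ[R] A) : MvPolynomial σ R' →ₐ[R'] A' :=
  MvPolynomial.aeval (fun i => algebraMap A A' (α (MvPolynomial.X i)))

theorem baseChangePres_comp_map (α : MvPolynomial σ R →ₐ[R] A) :
    (baseChangePres (R' := R') (A' := A') α).toRingHom.comp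
      (MvPolynomial.map (algebraMap R R')) = (algebraMap A A').comp α.toRingHom := by
  apply MvPolynomial.ringHom_ext
  · intro r
    simp only [baseChangePres, AlgHom.toRingHom_eq_coe, RingHom.coe_comp, RingHom.coe_coe,
      comp_apply, MvPolynomial.map_C, MvPolynomial.aeval_C]
    rw [← MvPolynomial.algebraMap_eq, AlgHom.commutes, ← IsScalarTower.algebraMap_apply,
      ← IsScalarTower.algebraMap_apply]
  · intro i
    simp [baseChangePres]

theorem baseChangePres_surjective [Algebra.IsPushout R A R' A'] (α : MvPolynomial σ R →ₐ[R] A)
    (hα : Surjective α) : Surjective (baseChangePres (R' := R') (A' := A') α) := by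
  intro x
  have hbc : IsBaseChange A (IsScalarTower.toAlgHom R R' A').toLinearMap :=
    Algebra.IsPushout.out
  induction x using hbc.inductionOn with
  | zero => exact ⟨0, map_zero _⟩
  | tmul r' =>
    refine ⟨MvPolynomial.C r', ?_⟩
    simp [baseChangePres]
  | smul a x hx =>
    obtain ⟨p, rfl⟩ := hα a
    obtain ⟨q, rfl⟩ := hx
    refine ⟨MvPolynomial.map (algebraMap R R') p * q, ?_⟩
    rw [map_mul, Algebra.smul_def]
    congr 1
    exact congr($(baseChangePres_comp_map (R' := R') (A' := A') α) p)
  | add x y hx hy =>
    obtain ⟨p, rfl⟩ := hx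
    obtain ⟨q, rfl⟩ := hy
    exact ⟨p + q, map_add _ _ _⟩

attribute [local instance] MvPolynomial.algebraMvPolynomial in
/-- base change of relative finite presentation, for the base-changed presentation -/
theorem fpVia_baseChangePres [Algebra.IsPushout R A R' A'] (M : Type*) [AddCommGroup M]
    [Module A M] (α : MvPolynomial σ R →ₐ[R] A) (h : FPVia α.toRingHom M) :
    FPVia (baseChangePres (R' := R') (A' := A') α).toRingHom (A' ⊗[A] M) := by
  have hcomm := baseChangePres_comp_map (R' := R') (A' := A') α
  set α' : MvPolynomial σ R' →ₐ[R'] A' := baseChangePres α with hα'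
  letI i1 : Algebra (MvPolynomial σ R) A := α.toRingHom.toAlgebra
  letI i2 : Algebra (MvPolynomial σ R') A' := α'.toRingHom.toAlgebra
  letI i3 : Algebra (MvPolynomial σ R) A' := ((algebraMap A A').comp α.toRingHom).toAlgebra
  letI i4 : Module (MvPolynomial σ R) M := Module.compHom M α.toRingHom
  haveI : IsScalarTower (MvPolynomial σ R) A M := ⟨fun p a m => by
    change (α p * a) • m = α p • (a • m)
    rw [mul_smul]⟩
  haveI : IsScalarTower (MvPolynomial σ R) A A' := IsScalarTower.of_algebraMap_eq fun x => rfl
  haveI : IsScalarTower (MvPolynomial σ R) (MvPolynomial σ R') A' :=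
    IsScalarTower.of_algebraMap_eq fun x => (congr($hcomm x)).symm
  haveI : IsScalarTower R (MvPolynomial σ R) A :=
    IsScalarTower.of_algebraMap_eq fun x => (α.commutes x).symm
  haveI : IsScalarTower R' (MvPolynomial σ R') A' :=
    IsScalarTower.of_algebraMap_eq fun x => (α'.commutes x).symm
  haveI : IsScalarTower R (MvPolynomial σ R) A' := IsScalarTower.of_algebraMap_eq fun x => by
    change algebraMap R A' x = algebraMap A A' (α (algebraMap R _ x))
    rw [α.commutes, ← IsScalarTower.algebraMap_apply]
  haveI : IsScalarTower R (MvPolynomial σ R') A' := IsScalarTower.of_algebraMap_eq fun x => by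
    rw [IsScalarTower.algebraMap_apply R R' (MvPolynomial σ R'),
      ← IsScalarTower.algebraMap_apply R' (MvPolynomial σ R') A',
      ← IsScalarTower.algebraMap_apply R R' A']
  haveI hpo : Algebra.IsPushout (MvPolynomial σ R) A (MvPolynomial σ R') A' :=
    (Algebra.IsPushout.comp_iff R (MvPolynomial σ R) R' (S' := MvPolynomial σ R') (T := A)
      (T' := A')).mp inferInstance
  haveI : Module.FinitePresentation (MvPolynomial σ R) M := h
  have key : Module.FinitePresentation (MvPolynomial σ R') (A' ⊗[A] M) :=
    finitePresentation_tensor_of_isPushout (P := MvPolynomial σ R) (A := A)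
      (P' := MvPolynomial σ R') (A' := A') M
  have hmod : Module.compHom (A' ⊗[A] M) α'.toRingHom =
      (TensorProduct.leftModule : Module (MvPolynomial σ R') (A' ⊗[A] M)) := by
    refine Module.ext' _ _ fun p t => ?_
    change α' p • t = p • t
    rw [← one_smul A' t, ← smul_assoc, ← smul_assoc, smul_eq_mul, mul_one, Algebra.smul_def,
      mul_one]
    rfl
  unfold FPVia
  rw [hmod]
  exact key

end MvPoly

end Groth.Agent.Lib.Helper21
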