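import Groth.Agent.Lib.Helper21.BPF
import Groth.Agent.Lib.Helper1.GeomIrrGeneric

/-!
# `H⁰(X, O_X / m_x) = κ(x)` as `k`-vector spaces, for a closed point `x`
-/

set_option autoImplicit false
set_option linter.style.haveILetI false
set_option linter.unusedSectionVars false
universe u
open CategoryTheory CategoryTheory.Limits AlgebraicGeometry TopologicalSpace Opposite

namespace Groth.Agent.Lib.Helper21.ResPt

open Groth.Agent.Lib.Helper29.QCoh Groth.Agent.Lib.Lead.LinLES Groth.Agent.Lib.Lead.TwistExact
  Groth.Agent.Lib.Helper21.CDeg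

attribute [local instance] Curv2.resAlgebra

variable (k : Type u) [Field k] (X : Scheme.{u}) [X.Over (Spec (CommRingCat.of k))]

/-- the ring map `Γ(Z, ⊤) → κ(x)` for `Z` the scheme-theoretic image of `Spec κ(x) → X` -/
noncomputable def evHom (x : X) :
    Γ((X.fromSpecResidueField x).ker.subscheme, ⊤) →+* X.residueField x :=
  (Scheme.ΓSpecIso (X.residueField x)).hom.hom.comp (X.fromSpecResidueField x).toImage.appTop.hom

theorem evHom_bijective (x : X) (hx : IsClosed ({x} : Set X)) :
    Function.Bijective (evHom X x) := by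
  haveI : IsClosedImmersion (X.fromSpecResidueField x) :=
    isClosed_singleton_iff_isClosedImmersion.mp hx
  have h1 : Function.Bijective (X.fromSpecResidueField x).toImage.appTop.hom :=
    (ConcreteCategory.isIso_iff_bijective _).mp
      (show IsIso ((X.fromSpecResidueField x).toImage.app ⊤) from inferInstance)
  have h2 : Function.Bijective (Scheme.ΓSpecIso (X.residueField x)).hom.hom :=
    (ConcreteCategory.isIso_iff_bijective _).mp inferInstance
  exact h2.comp h1

theorem evHom_toGlobal (x : X) (c : k) :
    evHom X x (((X.fromSpecResidueField x).ker.subschemeι.appTop).hom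
      (Coh.toGlobal (X ↘ Spec (CommRingCat.of k)) c)) = Curv2.resMap k X x c := by
  have h1 := Groth.Agent.Lib.Helper1.GeomIrrGeneric.specMap_resMap k X x
  have h2 : (X.fromSpecResidueField x).toImage ≫ (X.fromSpecResidueField x).ker.subschemeι =
      X.fromSpecResidueField x := (X.fromSpecResidueField x).toImage_imageι
  have e1 : (X.fromSpecResidueField x).ker.subschemeι.appTop ≫
      (X.fromSpecResidueField x).toImage.appTop = (X.fromSpecResidueField x).appTop := by
    rw [← Scheme.Hom.comp_appTop, h2]
  have e2 : (X ↘ Spec (CommRingCat.of k)).appTop ≫ (X.fromSpecResidueField x).appTop =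
      (Spec.map (CommRingCat.ofHom (Curv2.resMap k X x))).appTop := by
    rw [← Scheme.Hom.comp_appTop, ← h1]
  have h3 : ((X.fromSpecResidueField x).toImage.appTop).hom
      (((X.fromSpecResidueField x).ker.subschemeι.appTop).hom
        (Coh.toGlobal (X ↘ Spec (CommRingCat.of k)) c)) =
      ((Spec.map (CommRingCat.ofHom (Curv2.resMap k X x))).appTop).hom
        ((Scheme.ΓSpecIso (CommRingCat.of k)).inv.hom c) := by
    have h0 : Coh.toGlobal (X ↘ Spec (CommRingCat.of k)) c =
        ((X ↘ Spec (CommRingCat.of k)).appTop).hom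
          ((Scheme.ΓSpecIso (CommRingCat.of k)).inv.hom c) := rfl
    rw [h0, ← e2, ← e1]
    rfl
  change (Scheme.ΓSpecIso (X.residueField x)).hom.hom
    (((X.fromSpecResidueField x).toImage.appTop).hom _) = _
  rw [h3]
  have h4 := Scheme.ΓSpecIso_inv_naturality (CommRingCat.ofHom (Curv2.resMap k X x))
  have h5 := congrArg (fun φ => φ.hom c) h4
  simp only [CommRingCat.hom_comp, RingHom.comp_apply] at h5
  rw [← h5]
  change ((Scheme.ΓSpecIso (X.residueField x)).inv ≫ (Scheme.ΓSpecIso (X.residueField x)).hom).hom
    _ = _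
  rw [Iso.inv_hom_id]
  rfl

/-- **`H⁰(X, O_X / m_x) ≅ κ(x)`** as `k`-vector spaces -/
theorem finrank_HH_zero_quotMod_ker (x : X) (hx : IsClosed ({x} : Set X)) :
    Module.finrank k (Coh.HH X (ClSub.quotMod (X.fromSpecResidueField x).ker) 0) =
      Module.finrank k (X.residueField x) := by
  let φ : Coh.HH X (ClSub.quotMod (X.fromSpecResidueField x).ker) 0 → X.residueField x :=
    fun v => evHom X x
      (show Γ((X.fromSpecResidueField x).ker.subscheme, ⊤) from
        hh0 (ClSub.quotMod (X.fromSpecResidueField x).ker) v)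
  have hadd : ∀ v w, φ (v + w) = φ v + φ w := by
    intro v w
    change evHom X x (show Γ((X.fromSpecResidueField x).ker.subscheme, ⊤) from
        hh0 (ClSub.quotMod (X.fromSpecResidueField x).ker) (v + w)) = _
    rw [map_add]
    exact map_add (evHom X x) _ _
  have hsmul : ∀ (c : k) v, φ (c • v) = c • φ v := by
    intro c v
    have e0 : c • v = (Coh.toGlobal (X ↘ Spec (CommRingCat.of k)) c) • v := rfl
    change evHom X x (show Γ((X.fromSpecResidueField x).ker.subscheme, ⊤) from
        hh0 (ClSub.quotMod (X.fromSpecResidueField x).ker) (c • v)) = _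
    rw [e0, hh0_smul]
    have h1 : (show Γ((X.fromSpecResidueField x).ker.subscheme, ⊤) from
        ((show Γ(X, ⊤) from Coh.toGlobal (X ↘ Spec (CommRingCat.of k)) c) •
          hh0 (ClSub.quotMod (X.fromSpecResidueField x).ker) v)) =
        ((X.fromSpecResidueField x).ker.subschemeι.appTop).hom
          (Coh.toGlobal (X ↘ Spec (CommRingCat.of k)) c) *
        (show Γ((X.fromSpecResidueField x).ker.subscheme, ⊤) from
          hh0 (ClSub.quotMod (X.fromSpecResidueField x).ker) v) := rfl
    rw [h1, map_mul, evHom_toGlobal, Algebra.smul_def]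
    rfl
  have hbij : Function.Bijective φ := by
    have h1 := evHom_bijective X x hx
    exact h1.comp (hh0 (ClSub.quotMod (X.fromSpecResidueField x).ker)).bijective
  let e : Coh.HH X (ClSub.quotMod (X.fromSpecResidueField x).ker) 0 ≃ₗ[k] X.residueField x :=
    LinearEquiv.ofBijective ⟨⟨φ, hadd⟩, hsmul⟩ hbij
  exact e.finrank_eq

end Groth.Agent.Lib.Helper21.ResPt
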