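import Mathlib

/-!
# Quotient of a free module over a local principal ideal domain by a non-vanishing vector
-/

set_option autoImplicit false

namespace Groth.Agent.Lib.Helper21.Rk2Alg

open Module

variable {R E : Type*} [CommRing R] [IsDomain R] [IsLocalRing R] [IsPrincipalIdealRing R]
  [AddCommGroup E] [Module R E] [IsTorsionFree R E]

/-- saturation of the line spanned by a vector not in `𝔪E` -/
theorem mem_span_of_smul_mem (v : E)
    (hv : v ∉ (IsLocalRing.maximalIdeal R) • (⊤ : Submodule R E)) (a : R) (ha : a ≠ 0) (m : E)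
    (h : a • m ∈ Submodule.span R {v}) : m ∈ Submodule.span R {v} := by
  obtain ⟨c, hc⟩ := Submodule.mem_span_singleton.mp h
  obtain ⟨d, hd⟩ := (IsPrincipalIdealRing.principal (Ideal.span {a, c})).principal
  have hd' : Ideal.span {a, c} = Ideal.span {d} := hd
  have had : a ∈ Ideal.span {d} := hd' ▸ Ideal.subset_span (by simp)
  have hcd : c ∈ Ideal.span {d} := hd' ▸ Ideal.subset_span (by simp)
  obtain ⟨a₁, ha₁⟩ := Ideal.mem_span_singleton'.mp had
  obtain ⟨c₁, hc₁⟩ := Ideal.mem_span_singleton'.mp hcd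
  have hdmem : d ∈ Ideal.span {a, c} := hd'.symm ▸ Ideal.mem_span_singleton_self d
  obtain ⟨x, y, hxy⟩ := Ideal.mem_span_pair.mp hdmem
  have hd0 : d ≠ 0 := by
    rintro rfl
    rw [mul_zero] at ha₁
    exact ha ha₁.symm
  have h1 : x * a₁ + y * c₁ = 1 := by
    apply mul_right_cancel₀ hd0
    rw [← ha₁, ← hc₁] at hxy
    linear_combination hxy
  have h2 : a₁ • m = c₁ • v := by
    have h3 : d • (a₁ • m - c₁ • v) = 0 := by
      rw [smul_sub, smul_smul, smul_smul, mul_comm d a₁, mul_comm d c₁, ha₁, hc₁, hc, sub_self]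
    rcases smul_eq_zero.mp h3 with h | h
    · exact absurd h hd0
    · exact sub_eq_zero.mp h
  by_cases hu : IsUnit a₁
  · obtain ⟨u, rfl⟩ := hu
    rw [Submodule.mem_span_singleton]
    refine ⟨↑u⁻¹ * c₁, ?_⟩
    rw [mul_smul, ← h2, smul_smul, Units.inv_mul, one_smul]
  · exfalso
    have ha₁m : a₁ ∈ IsLocalRing.maximalIdeal R := (IsLocalRing.mem_maximalIdeal _).mpr hu
    have hcu : IsUnit c₁ := by
      by_contra hc'
      have hc₁m : c₁ ∈ IsLocalRing.maximalIdeal R := (IsLocalRing.mem_maximalIdeal _).mpr hc'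
      have h1m : (1 : R) ∈ IsLocalRing.maximalIdeal R := by
        rw [← h1]
        exact Ideal.add_mem _ (Ideal.mul_mem_left _ _ ha₁m) (Ideal.mul_mem_left _ _ hc₁m)
      exact (IsLocalRing.maximalIdeal.isMaximal R).ne_top ((Ideal.eq_top_iff_one _).mpr h1m)
    obtain ⟨u, rfl⟩ := hcu
    apply hv
    have hveq : v = (↑u⁻¹ * a₁) • m := by
      rw [mul_smul, h2, smul_smul, Units.inv_mul, one_smul]
    rw [hveq]
    exact Submodule.smul_mem_smul (Ideal.mul_mem_left _ _ ha₁m) trivial

/-- the quotient by such a line is torsion free -/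
theorem isTorsionFree_quotient (v : E)
    (hv : v ∉ (IsLocalRing.maximalIdeal R) • (⊤ : Submodule R E)) :
    IsTorsionFree R (E ⧸ Submodule.span R {v}) := by
  rw [Module.isTorsionFree_iff_smul_eq_zero]
  intro a q hq
  by_cases ha : a = 0
  · exact Or.inl ha
  · right
    obtain ⟨m, rfl⟩ := Submodule.Quotient.mk_surjective _ q
    rw [← Submodule.Quotient.mk_smul, Submodule.Quotient.mk_eq_zero] at hq
    rw [Submodule.Quotient.mk_eq_zero]
    exact mem_span_of_smul_mem v hv a ha m hq

/-- the quotient of a free module of rank two by a non-vanishing vector is free of rank one -/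
theorem free_quotient [Module.Finite R E] (hE : Module.finrank R E = 2) (v : E)
    (hv : v ∉ (IsLocalRing.maximalIdeal R) • (⊤ : Submodule R E)) :
    Module.Free R (E ⧸ Submodule.span R {v}) ∧
      Module.finrank R (E ⧸ Submodule.span R {v}) = 1 := by
  have := isTorsionFree_quotient v hv
  refine ⟨inferInstance, ?_⟩
  have hv0 : v ≠ 0 := by
    rintro rfl
    exact hv (Submodule.zero_mem _)
  have h1 := Submodule.finrank_quotient_add_finrank (Submodule.span R {v})
  have h2 : Module.finrank R (Submodule.span R {v}) = 1 := by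
    rw [← (LinearEquiv.toSpanNonzeroSingleton R E v hv0).finrank_eq, Module.finrank_self]
  rw [h2, hE] at h1
  omega

end Groth.Agent.Lib.Helper21.Rk2Alg
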