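import Groth.Agent.Lib.Helper21.CDeg9
import Groth.Agent.Lib.Helper25.SuppTensor
import Groth.Agent.Lib.Helper2.DegAdd.Basic

/-!
# Modules with zero-dimensional support: global sections are the product of the stalks, and
tensoring with a locally free module of rank `n` multiplies `h^0` by `n`
-/

set_option autoImplicit false
set_option linter.style.haveILetI false
set_option linter.unusedSectionVars false
universe u
open CategoryTheory CategoryTheory.Limits AlgebraicGeometry TopologicalSpace Opposite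

namespace Groth.Agent.Lib.Helper21.ZSupp

open Groth.Agent.Lib.Helper29.QCoh Groth.Agent.Lib.Helper21.CDeg

variable {X : Scheme.{u}}

/-- germs at all points -/
noncomputable def germPi (Q : X.Modules) : Γ(Q, ⊤) →+ ∀ x : X, Q.presheaf.stalk x where
  toFun σ x := Q.presheaf.germ ⊤ x trivial σ
  map_zero' := by funext x; exact map_zero _
  map_add' a b := by funext x; exact map_add _ a b

theorem germPi_apply (Q : X.Modules) (σ : Γ(Q, ⊤)) (x : X) :
    germPi Q σ x = Q.presheaf.germ ⊤ x trivial σ := rfl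

/-- for a module concentrated on a set all of whose subsets are closed, global sections are the
families of germs -/
theorem germPi_bijective (Q : X.Modules) (Z : Set X) (hZ : ∀ T : Set X, T ⊆ Z → IsClosed T)
    (hQ : ∀ x, x ∉ Z → Subsingleton (Q.presheaf.stalk x)) :
    Function.Bijective (germPi Q) := by
  constructor
  · intro a b hab
    rw [← sub_eq_zero]
    refine eq_zero_of_germ_eq_zero Q (a - b) (fun x hx => ?_)
    rw [map_sub, sub_eq_zero]
    exact congrFun hab x
  · intro t
    have hex : ∀ x : X, ∃ (W : X.Opens) (hxW : x ∈ W) (τ : Γ(Q, W)),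
        Q.presheaf.germ W x hxW τ = t x :=
      fun x => TopCat.Presheaf.exists_germ_eq Q.presheaf (t x)
    choose W hxW τ hτ using hex
    let O : X → X.Opens := fun y => ⟨(Z \ {y})ᶜ, (hZ _ Set.sdiff_subset).isOpen_compl⟩
    have hyO : ∀ y, y ∈ O y := fun y h => h.2 rfl
    let V : X → X.Opens := fun y => W y ⊓ O y
    have hxV : ∀ y, y ∈ V y := fun y => ⟨hxW y, hyO y⟩
    have huniq : ∀ y, ∀ z ∈ V y, z ∈ Z → z = y := by
      intro y z hz hzZ
      by_contra hne
      exact hz.2 ⟨hzZ, hne⟩
    have hVW : ∀ y, V y ≤ W y := fun y => inf_le_left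
    obtain ⟨σ, hσ⟩ := (restrictPi_bijective Q Z hQ V hxV huniq).2
      (fun y => Groth.Agent.Lib.Helper29.QCoh.res Q (hVW y) (τ y))
    refine ⟨σ, ?_⟩
    funext x
    have h1 := congrFun hσ x
    rw [restrictPi_apply] at h1
    rw [germPi_apply, ← germ_res Q (le_top : V x ≤ ⊤) x (hxV x) σ, h1,
      germ_res Q (hVW x) x (hxV x) (τ x), hτ]

/-- `(F ⊗ E)_x ≅ (F_x)^n` for `E` finite locally free of rank `n` -/
theorem exists_stalk_equiv (F E : X.Modules) (n : ℕ) (hE : FlatMod.IsFinLocFreeOfRank n E)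
    (x : X) :
    ∃ T : (Fin n → F.presheaf.stalk x) ≃+ (CohB1.tensorMod F E).presheaf.stalk x,
      ∀ (a : X.presheaf.stalk x) (v : Fin n → F.presheaf.stalk x), T (a • v) = a • T v := by
  obtain ⟨hfree, hfin⟩ := Groth.Agent.Lib.Helper28.DCohRes.stalkFF_of_isFinLocFree
    (isFinLocFree_of_isFinLocFreeOfRank hE) x
  have hrank := Groth.Agent.Lib.Helper2.DegAdd.finrank_stalk_of_isFinLocFreeOfRank hE x
  let b : Module.Basis (Fin n) (X.presheaf.stalk x) (E.presheaf.stalk x) :=
    Module.finBasisOfFinrankEq _ _ hrank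
  let e1 : (CohB1.tensorMod F E).presheaf.stalk x ≃ₗ[X.presheaf.stalk x]
      TensorProduct (X.presheaf.stalk x) (F.presheaf.stalk x) (E.presheaf.stalk x) :=
    (Groth.Agent.Lib.Helper28.StalkTensor.stalkTensorIso x F E).toLinearEquiv
  let e2 : TensorProduct (X.presheaf.stalk x) (F.presheaf.stalk x) (E.presheaf.stalk x)
      ≃ₗ[X.presheaf.stalk x]
      TensorProduct (X.presheaf.stalk x) (F.presheaf.stalk x) (Fin n → X.presheaf.stalk x) :=
    LinearEquiv.lTensor _ b.equivFun
  let e3 := TensorProduct.piScalarRight (X.presheaf.stalk x) (X.presheaf.stalk x)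
    (F.presheaf.stalk x) (Fin n)
  let T := ((e1.trans e2).trans e3).symm
  exact ⟨T.toAddEquiv, fun a v => T.map_smul a v⟩

/-- exchanging the two families of indices -/
def piSwap (A : X → Type u) [∀ x, AddCommGroup (A x)] (n : ℕ) :
    (Fin n → ∀ x, A x) ≃+ (∀ x, Fin n → A x) where
  toFun v x i := v i x
  invFun w i x := w x i
  left_inv _ := rfl
  right_inv _ := rfl
  map_add' _ _ := rfl

/-- **global sections of `F ⊗ E`** for `F` concentrated on a set all of whose subsets are closed
and `E` finite locally free of rank `n`: `n` copies of the global sections of `F`, compatibly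
with the action of global functions -/
theorem exists_addEquiv_tensor (F E : X.Modules) (n : ℕ) (hE : FlatMod.IsFinLocFreeOfRank n E)
    (Z : Set X) (hZ : ∀ T : Set X, T ⊆ Z → IsClosed T)
    (hF : ∀ x, x ∉ Z → Subsingleton (F.presheaf.stalk x)) :
    ∃ Φ : (Fin n → Γ(F, ⊤)) ≃+ Γ(CohB1.tensorMod F E, ⊤),
      ∀ (r : Γ(X, ⊤)) (v : Fin n → Γ(F, ⊤)), Φ (fun i => r • v i) = r • Φ v := by
  have hF' : ∀ x, x ∉ Z → Subsingleton ((CohB1.tensorMod F E).presheaf.stalk x) :=
    fun x hx => Groth.Agent.Lib.Helper25.SuppTensor.subsingleton_stalk_tensorMod F E x (hF x hx)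
  let G := AddEquiv.ofBijective (germPi F) (germPi_bijective F Z hZ hF)
  let G' := AddEquiv.ofBijective (germPi (CohB1.tensorMod F E))
    (germPi_bijective (CohB1.tensorMod F E) Z hZ hF')
  choose T hT using fun x => exists_stalk_equiv F E n hE x
  let Φ : (Fin n → Γ(F, ⊤)) ≃+ Γ(CohB1.tensorMod F E, ⊤) :=
    ((AddEquiv.piCongrRight (fun _ : Fin n => G)).trans
      (piSwap (fun x => F.presheaf.stalk x) n)).trans ((AddEquiv.piCongrRight T).trans G'.symm)
  have hΦ : ∀ (w : Fin n → Γ(F, ⊤)) (x : X),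
      (CohB1.tensorMod F E).presheaf.germ ⊤ x trivial (Φ w) =
        T x (fun i => F.presheaf.germ ⊤ x trivial (w i)) := by
    intro w x
    have h1 : G' (Φ w) = (AddEquiv.piCongrRight T) ((piSwap (fun x => F.presheaf.stalk x) n)
        ((AddEquiv.piCongrRight (fun _ : Fin n => G)) w)) := by
      change G' (G'.symm _) = _
      rw [AddEquiv.apply_symm_apply]
      rfl
    exact congrFun h1 x
  refine ⟨Φ, fun r v => ?_⟩
  apply G'.injective
  funext x
  change (CohB1.tensorMod F E).presheaf.germ ⊤ x trivial (Φ fun i => r • v i) =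
    (CohB1.tensorMod F E).presheaf.germ ⊤ x trivial (r • Φ v)
  rw [hΦ, germ_smul, hΦ, ← hT]
  congr 1
  funext i
  exact germ_smul F x ⊤ trivial r (v i)

section Euler

variable (k : Type u) [Field k] (X : Scheme.{u}) [X.Over (Spec (CommRingCat.of k))]

/-- `H^0(F ⊗ E) ≅ H^0(F)^n`, linearly over the base field -/
theorem nonempty_linearEquiv_HH_zero (F E : X.Modules) (n : ℕ)
    (hE : FlatMod.IsFinLocFreeOfRank n E) (Z : Set X) (hZ : ∀ T : Set X, T ⊆ Z → IsClosed T)
    (hF : ∀ x, x ∉ Z → Subsingleton (F.presheaf.stalk x)) :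
    Nonempty ((Fin n → Coh.HH X F 0) ≃ₗ[k] Coh.HH X (CohB1.tensorMod F E) 0) := by
  obtain ⟨Φ, hΦ⟩ := exists_addEquiv_tensor F E n hE Z hZ hF
  let Ψ : (Fin n → Coh.HH X F 0) ≃+ Coh.HH X (CohB1.tensorMod F E) 0 :=
    (AddEquiv.piCongrRight (fun _ : Fin n => hh0 F)).trans
      (Φ.trans (hh0 (CohB1.tensorMod F E)).symm)
  have hΨ : ∀ v : Fin n → Coh.HH X F 0,
      hh0 (CohB1.tensorMod F E) (Ψ v) = Φ (fun i => hh0 F (v i)) := by
    intro v
    change hh0 (CohB1.tensorMod F E) ((hh0 (CohB1.tensorMod F E)).symm _) = _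
    rw [AddEquiv.apply_symm_apply]
    rfl
  refine ⟨{ Ψ with map_smul' := fun c v => ?_ }⟩
  apply (hh0 (CohB1.tensorMod F E)).injective
  change hh0 (CohB1.tensorMod F E) (Ψ (c • v)) = hh0 (CohB1.tensorMod F E) (c • Ψ v)
  have h3 : c • Ψ v = (Coh.toGlobal (X ↘ Spec (CommRingCat.of k)) c) • Ψ v := rfl
  rw [h3, hh0_smul, hΨ, hΨ, ← hΦ]
  congr 1
  funext i
  have h2 : (c • v) i = (Coh.toGlobal (X ↘ Spec (CommRingCat.of k)) c) • v i := rfl
  rw [h2, hh0_smul]

/-- the Euler characteristic of a module without higher cohomology -/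
theorem euler_eq_finrank_zero (M : X.Modules) (h : ∀ i : ℕ, Subsingleton (Coh.HH X M (i + 1))) :
    Curv2.euler k X M = (Module.finrank k (Coh.HH X M 0) : ℤ) := by
  unfold Curv2.euler
  rw [finsum_eq_single _ 0]
  · simp
  · intro i hi
    obtain ⟨j, rfl⟩ : ∃ j, i = j + 1 := ⟨i - 1, by omega⟩
    haveI := h j
    rw [Module.finrank_zero_of_subsingleton]
    simp

variable [IsProper (X ↘ (Spec (CommRingCat.of k)))]

/-- **`χ(F ⊗ E) = n · χ(F)`** for `F` coherent with support all of whose subsets are closed and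
`E` finite locally free of rank `n`, on a proper scheme over a field -/
theorem euler_tensorMod' (F : X.Modules) (hF : Coh.IsCoh F)
    (hZ : ∀ T : Set X, T ⊆ CohB1.support F → IsClosed T) (n : ℕ) (E : X.Modules)
    (hE : FlatMod.IsFinLocFreeOfRank n E) :
    Curv2.euler k X (CohB1.tensorMod F E) = n * Curv2.euler k X F := by
  have hFZ : ∀ x, x ∉ CohB1.support F → Subsingleton (F.presheaf.stalk x) := by
    intro x hx
    by_contra h
    exact hx h
  have hv : ∀ i : ℕ, Subsingleton (Coh.HH X F (i + 1)) :=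
    fun i => subsingleton_HH_succ_of_support_hereditarily_closed F hZ i
  have hv' : ∀ i : ℕ, Subsingleton (Coh.HH X (CohB1.tensorMod F E) (i + 1)) :=
    fun i => subsingleton_HH_succ_of_support_hereditarily_closed _
      (fun T hT => hZ T (hT.trans
        (Groth.Agent.Lib.Helper25.SuppTensor.support_tensorMod_subset F E))) i
  rw [euler_eq_finrank_zero k X F hv, euler_eq_finrank_zero k X _ hv']
  obtain ⟨e⟩ := nonempty_linearEquiv_HH_zero k X F E n hE (CohB1.support F) hZ hFZ
  haveI : Module.Finite k (Coh.HH X F 0) := Groth.Agent.S0002.result k X F hF 0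
  rw [← e.finrank_eq, Module.finrank_pi_fintype]
  simp

/-- **`χ(F ⊗ E) = n · χ(F)`** for `F` coherent with support of dimension `≤ 0` and `E` finite
locally free of rank `n`, on a proper scheme over a field -/
theorem euler_tensorMod (F : X.Modules) (hF : Coh.IsCoh F)
    (hsupp : topologicalKrullDim (CohB1.support F) ≤ 0) (n : ℕ) (E : X.Modules)
    (hE : FlatMod.IsFinLocFreeOfRank n E) :
    Curv2.euler k X (CohB1.tensorMod F E) = n * Curv2.euler k X F := by
  haveI : IsLocallyNoetherian X :=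
    LocallyOfFiniteType.isLocallyNoetherian (X ↘ Spec (CommRingCat.of k))
  haveI : F.IsFiniteType := hF.2
  have hcl : IsClosed (CohB1.support F) := isClosed_support_of_isFiniteType F
  have hpt := forall_isClosed_singleton_of_dim_le_zero hcl hsupp
  exact euler_tensorMod' k X F hF (support_hereditarily_closed F hpt) n E hE

end Euler

end Groth.Agent.Lib.Helper21.ZSupp
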