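import Groth.Agent.Lib.Helper21.GenusZero
import Groth.Agent.Lib.Helper21.NagNorm5
import Groth.Agent.Lib.Helper21.ZSupp1

/-!
# Sections of a locally free module vanishing at a closed point
-/

set_option autoImplicit false
set_option linter.style.haveILetI false
set_option linter.unusedSectionVars false
universe u
open CategoryTheory CategoryTheory.Limits AlgebraicGeometry TopologicalSpace Opposite

namespace Groth.Agent.Lib.Helper21.Rk2Geo

open Groth.Agent.Lib.Helper29.QCoh Groth.Agent.Lib.Lead.LinLES Groth.Agent.Lib.Lead.TwistExact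
  Groth.Agent.Lib.Helper21.CDeg Groth.Agent.Lib.Helper25.HypTwist
  Groth.Agent.Lib.Helper21.TwistDown

section Stalk

variable {X : Scheme.{u}}

/-- The stalk of the cokernel of `φ : O_X ⟶ M` is the quotient of `M_x` by the germ of `φ(1)`. -/
theorem nonempty_stalk_cokernel_equiv {M : X.Modules} (φ : unitM X ⟶ M) (x : X) :
    Nonempty ((M.presheaf.stalk x ⧸
        Submodule.span (X.presheaf.stalk x) {M.presheaf.germ ⊤ x trivial (φ.app ⊤ (toUnit 1))})
      ≃ₗ[X.presheaf.stalk x] (cokernel φ).presheaf.stalk x) := by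
  let πx : M.presheaf.stalk x →ₗ[X.presheaf.stalk x] (cokernel φ).presheaf.stalk x :=
    { toFun := stalkMap (cokernel.π φ) x
      map_add' := map_add _
      map_smul' := fun r t => stalkMap_smul (cokernel.π φ) x r t }
  have hsurj : Function.Surjective πx :=
    (epi_iff_stalkMap_surjective (cokernel.π φ)).mp inferInstance x
  have hex : Function.Exact (stalkMap φ x) (stalkMap (cokernel.π φ) x) :=
    (exact_iff_stalk_function_exact
      (ShortComplex.mk φ (cokernel.π φ) (cokernel.condition φ))).mp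
      (ShortComplex.exact_cokernel φ) x
  have hker : LinearMap.ker πx =
      Submodule.span (X.presheaf.stalk x) {M.presheaf.germ ⊤ x trivial (φ.app ⊤ (toUnit 1))} := by
    ext t
    rw [LinearMap.mem_ker, Submodule.mem_span_singleton]
    change stalkMap (cokernel.π φ) x t = 0 ↔ _
    rw [hex t]
    constructor
    · rintro ⟨u, rfl⟩
      obtain ⟨a, ha⟩ := stalkMap_unit_eq_smul φ x u
      exact ⟨a, ha.symm⟩
    · rintro ⟨a, rfl⟩
      refine ⟨a • (unitM X).presheaf.germ ⊤ x trivial (toUnit 1), ?_⟩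
      rw [stalkMap_smul, stalkMap_germ]
  exact ⟨(Submodule.quotEquivOfEq _ _ hker.symm).trans
    (LinearMap.quotKerEquivOfSurjective πx hsurj)⟩

end Stalk

section Van

variable {X : Scheme.{u}}

/-- the maximal ideal of the local ring at a closed point kills the stalk of `O/m_q` -/
theorem maximalIdeal_smul_stalk_quotMod (q : X) (hq : IsClosed ({q} : Set X))
    (a : X.presheaf.stalk q) (ha : a ∈ IsLocalRing.maximalIdeal (X.presheaf.stalk q))
    (z : (ClSub.quotMod (Scheme.IdealSheafData.vanishingIdeal ⟨{q}, hq⟩)).presheaf.stalk q) :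
    a • z = 0 := by
  obtain ⟨V₀, hqV₀, b₀, rfl⟩ := X.presheaf.exists_germ_eq (x := q) a
  obtain ⟨V, hV, hqV, hVV₀⟩ := exists_isAffineOpen_mem_and_subset (x := q) (U := V₀) hqV₀
  have hle : V ≤ V₀ := hVV₀
  have hb : X.presheaf.germ V₀ q hqV₀ b₀ = X.presheaf.germ V q hqV (rres X hle b₀) :=
    (X.presheaf.germ_res_apply (homOfLE hle) q hqV b₀).symm
  rw [hb] at ha ⊢
  have hqb : q ∉ X.basicOpen (rres X hle b₀) := by
    rw [Scheme.mem_basicOpen _ _ _ hqV]
    exact (IsLocalRing.mem_maximalIdeal _).mp ha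
  have hbD := (Groth.Agent.Lib.Helper21.RegPt.mem_vanishingIdeal_point_iff q hq hV hqV
    (rres X hle b₀)).mpr hqb
  exact Groth.Agent.Lib.Helper21.BasePt.germ_smul_stalk_quotMod _ q hV hqV _ hbD z

/-- a section of a finite locally free module whose germ at the closed point `q` lies in
`m_q E_q` vanishes in `E ⊗ κ(q)` -/
theorem comp_eq_zero_of_germ_mem (q : X) (hq : IsClosed ({q} : Set X)) (E : X.Modules) (n : ℕ)
    (hE : FlatMod.IsFinLocFreeOfRank n E) (σ : unitM X ⟶ E)
    (hmem : E.presheaf.germ ⊤ q trivial (σ.app ⊤ (toUnit 1)) ∈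
      (IsLocalRing.maximalIdeal (X.presheaf.stalk q)) •
        (⊤ : Submodule (X.presheaf.stalk q) (E.presheaf.stalk q))) :
    (σ ≫ (tensorUnitL E).inv) ≫ (show CohB1.tensorMod (unitM X) E ⟶ CohB1.tensorMod
        (ClSub.quotMod (Scheme.IdealSheafData.vanishingIdeal ⟨{q}, hq⟩)) E from
      ((idealSeq (Scheme.IdealSheafData.vanishingIdeal ⟨{q}, hq⟩)).map (tensorRight E)).g) =
      0 := by
  have hQst : ∀ x, x ∉ ({q} : Set X) → Subsingleton ((ClSub.quotMod
      (Scheme.IdealSheafData.vanishingIdeal ⟨{q}, hq⟩)).presheaf.stalk x) :=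
    fun x hx => Groth.Agent.Lib.Helper21.RegPt.subsingleton_stalk_quotMod_point X q hq x hx
  have hK : ∀ (a : X.presheaf.stalk q), a ∈ IsLocalRing.maximalIdeal (X.presheaf.stalk q) →
      ∀ z : (CohB1.tensorMod (ClSub.quotMod (Scheme.IdealSheafData.vanishingIdeal ⟨{q}, hq⟩))
        E).presheaf.stalk q, a • z = 0 := by
    intro a ha z
    obtain ⟨T, hT⟩ := Groth.Agent.Lib.Helper21.ZSupp.exists_stalk_equiv
      (ClSub.quotMod (Scheme.IdealSheafData.vanishingIdeal ⟨{q}, hq⟩)) E n hE q
    obtain ⟨v, rfl⟩ := T.surjective z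
    rw [← hT]
    have hzero : a • v = 0 := by
      funext i
      exact maximalIdeal_smul_stalk_quotMod q hq a ha (v i)
    rw [hzero, map_zero]
  generalize (show CohB1.tensorMod (unitM X) E ⟶ CohB1.tensorMod
      (ClSub.quotMod (Scheme.IdealSheafData.vanishingIdeal ⟨{q}, hq⟩)) E from
      ((idealSeq (Scheme.IdealSheafData.vanishingIdeal ⟨{q}, hq⟩)).map (tensorRight E)).g) = g
    at hK ⊢
  have hP : ∀ w ∈ (IsLocalRing.maximalIdeal (X.presheaf.stalk q)) •
        (⊤ : Submodule (X.presheaf.stalk q) (E.presheaf.stalk q)),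
      stalkMap g q (stalkMap (tensorUnitL E).inv q w) = 0 := by
    intro w hw
    refine Submodule.smul_induction_on hw (fun a ha w' _ => ?_) (fun w₁ w₂ h₁ h₂ => ?_)
    · rw [stalkMap_smul, stalkMap_smul]
      exact hK a ha _
    · rw [map_add, map_add, h₁, h₂, add_zero]
  apply hom_ext_of_sval
  have h0 : sval (0 : unitM X ⟶ CohB1.tensorMod (ClSub.quotMod
      (Scheme.IdealSheafData.vanishingIdeal ⟨{q}, hq⟩)) E) ⊤ = 0 := rfl
  rw [h0]
  refine eq_zero_of_germ_eq_zero _ _ (fun x hx => ?_)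
  by_cases hxq : x = q
  · subst hxq
    rw [sval_comp, sval_comp, ← app_toUnit_one σ ⊤, ← stalkMap_germ, ← stalkMap_germ]
    exact hP _ hmem
  · haveI := Groth.Agent.Lib.Helper25.SuppTensor.subsingleton_stalk_tensorMod _ E x
      (hQst x hxq)
    exact Subsingleton.elim _ _

end Van

end Groth.Agent.Lib.Helper21.Rk2Geo
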