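import Groth.Agent.Lib.Helper21.Rk2Geo1
import Groth.Agent.Lib.Helper21.Rk2Alg
import Groth.Agent.Lib.Helper9.RefStalk5
import Groth.Agent.Lib.Helper9.TFGen2
import Groth.Agent.Lib.Helper12.Dev2

/-!
# The cokernel of a section of a normalized rank two bundle on a smooth curve is invertible
-/

set_option autoImplicit false
set_option linter.style.haveILetI false
set_option linter.unusedSectionVars false
universe u
open CategoryTheory CategoryTheory.Limits AlgebraicGeometry TopologicalSpace Opposite

namespace Groth.Agent.Lib.Helper21.Rk2Geo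

open Groth.Agent.Lib.Helper29.QCoh Groth.Agent.Lib.Lead.LinLES Groth.Agent.Lib.Lead.TwistExact
  Groth.Agent.Lib.Helper21.CDeg Groth.Agent.Lib.Helper25.HypTwist
  Groth.Agent.Lib.Helper21.TwistDown

section Gen

variable {X : Scheme.{u}}

/-- a nonzero section of a finite locally free module on an integral scheme has a nonzero germ at
the generic point -/
theorem germ_generic_ne_zero [IsIntegral X] [IsLocallyNoetherian X] (E : X.Modules)
    (hE : FlatMod.IsFinLocFree E) (σ : unitM X ⟶ E) (hσ : σ ≠ 0) :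
    E.presheaf.germ ⊤ (genericPoint X) trivial (σ.app ⊤ (toUnit 1)) ≠ 0 := by
  intro h0
  haveI := isQuasicoherent_of_isFinLocFree hE
  obtain ⟨W, hWU, hηW, hres⟩ := exists_res_eq_zero_of_germ_eq_zero E (U := ⊤) (genericPoint X)
    trivial _ h0
  have hWd : Dense (W : Set X) := W.isOpen.dense ⟨_, hηW⟩
  have htF : TorSh.IsTorsionFree E := fun x => by
    obtain ⟨hfree, -⟩ := Groth.Agent.Lib.Helper28.DCohRes.stalkFF_of_isFinLocFree hE x
    infer_instance
  have hz : σ.app ⊤ (toUnit 1) = 0 :=
    Groth.Agent.Lib.Helper9.TFGen.eq_zero_of_germ_generic_eq_zero E htF ⊤ _ (fun y hy hfield => by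
      have hyW := Groth.Agent.Lib.Helper9.TFGen.mem_of_dense_of_isField W hWd y hfield
      rw [← germ_res E hWU y hyW, hres, map_zero])
  apply hσ
  apply hom_ext_of_sval
  rw [← app_toUnit_one, hz]
  rfl

/-- a finitely presented module with free stalks of rank one on an integral scheme is invertible -/
theorem isInvertible_of_free_stalks [IsIntegral X] (F : X.Modules) [F.IsQuasicoherent]
    [F.IsFinitePresentation]
    (hfree : ∀ x : X, Module.Free (X.presheaf.stalk x) (F.presheaf.stalk x))
    (hrank : ∀ x : X, Module.rank (X.presheaf.stalk x) (F.presheaf.stalk x) = 1) :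
    PicF.IsInvertible F := by
  rw [isInvertible_iff_isFinLocFreeOfRank_one, isFinLocFreeOfRank_iff_exists_affine]
  intro x
  have := hfree x
  obtain ⟨V, n, hV, hxV, ⟨ε⟩⟩ := exists_affine_linearEquiv_of_free_stalk F x
  have : Nonempty ↥V := ⟨⟨x, hxV⟩⟩
  have h1 : Module.rank Γ(X, V) Γ(F, V) = 1 := by
    rw [← Groth.Agent.Lib.Helper9.RefStalk.rank_stalk_eq F hV x hxV]
    exact hrank x
  have h2 : Module.rank Γ(X, V) Γ(F, V) = n := by
    rw [ε.rank_eq]
    simp
  have hn : n = 1 := by
    rw [h1] at h2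
    exact_mod_cast h2.symm
  subst hn
  exact ⟨V, hV, hxV, ⟨ε⟩⟩

end Gen

section Main

variable (k : Type u) [Field k] [IsAlgClosed k] (X : Scheme.{u}) [X.Over (Spec (CommRingCat.of k))]
  [IsIntegral X] [IsProper (X ↘ (Spec (CommRingCat.of k)))]

/-- a nonzero section of a normalized bundle does not vanish at any closed point -/
theorem germ_notMem_of_normalized (hdim : topologicalKrullDim X = 1)
    (hreg : ∀ x : X, IsRegularLocalRing (X.presheaf.stalk x))
    (E : X.Modules) (n : ℕ) (hE : FlatMod.IsFinLocFreeOfRank n E)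
    (hEneg : ∀ M : X.Modules, PicF.IsInvertible M → Curv2.deg k X M 1 < 0 →
      Subsingleton (Coh.HH X (CohB1.tensorMod E M) 0))
    (σ : unitM X ⟶ E) (hσ : σ ≠ 0) (q : X) (hq : IsClosed ({q} : Set X)) :
    E.presheaf.germ ⊤ q trivial (σ.app ⊤ (toUnit 1)) ∉
      (IsLocalRing.maximalIdeal (X.presheaf.stalk q)) •
        (⊤ : Submodule (X.presheaf.stalk q) (E.presheaf.stalk q)) := by
  intro hmem
  haveI : IsLocallyNoetherian X :=
    LocallyOfFiniteType.isLocallyNoetherian (X ↘ Spec (CommRingCat.of k))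
  have hpid : IsPrincipalIdealRing (X.presheaf.stalk q) := by
    have := hreg q
    exact isPrincipalIdealRing_of_isRegularLocalRing_of_dim_le_one _
      ((ringKrullDim_stalk_le_topologicalKrullDim X q).trans hdim.le)
  have hnf := Groth.Agent.Lib.Helper21.RegPt.not_isField_stalk_of_isClosed hdim q hq
  have hcart := Groth.Agent.Lib.Helper21.RegPt.isEffCartierIdeal_vanishingIdeal_point q hq
    hpid hnf
  have hJ := Groth.Agent.Lib.Helper21.TwistDown.isInvertible_idealMod _ hcart
  have dJ := Groth.Agent.Lib.Helper21.GenusZero.deg_idealMod_point k X hdim q hq hcart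
  have hsub := hEneg _ hJ (by rw [dJ]; norm_num)
  have hz := comp_eq_zero_of_germ_mem q hq E n hE σ hmem
  have hS := shortExact_idealSeq (Scheme.IdealSheafData.vanishingIdeal ⟨{q}, hq⟩)
  have hS' := shortExact_map_tensorRight
    (Groth.Agent.Lib.Helper28.DCohRes.isFlat_of_isFinLocFree
      (isFinLocFree_of_isFinLocFreeOfRank hE)) _ hS
  haveI : Mono ((idealSeq (Scheme.IdealSheafData.vanishingIdeal ⟨{q}, hq⟩)).map
    (tensorRight E)).f := hS'.mono_f
  let τ : unitM X ⟶ CohB1.tensorMod
      (ClSub.idealMod (Scheme.IdealSheafData.vanishingIdeal ⟨{q}, hq⟩)) E :=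
    hS'.exact.lift (σ ≫ (tensorUnitL E).inv) hz
  have hτ : τ ≫ ((idealSeq (Scheme.IdealSheafData.vanishingIdeal ⟨{q}, hq⟩)).map
      (tensorRight E)).f = σ ≫ (tensorUnitL E).inv := hS'.exact.lift_f _ hz
  have hτ0 : τ ≠ 0 := by
    intro h
    rw [h, zero_comp] at hτ
    apply hσ
    have h2 := congrArg (fun φ => φ ≫ (tensorUnitL E).hom) hτ
    simp only [Category.assoc, Iso.inv_hom_id, Category.comp_id] at h2
    exact h2.symm.trans zero_comp
  let τ' : unitM X ⟶ CohB1.tensorMod E
      (ClSub.idealMod (Scheme.IdealSheafData.vanishingIdeal ⟨{q}, hq⟩)) :=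
    τ ≫ (tensorBraid _ E).hom
  have hτ'0 : τ' ≠ 0 := by
    intro h
    apply hτ0
    have h2 := congrArg (fun φ => φ ≫ (tensorBraid _ E).inv) h
    simp only [τ', zero_comp, Category.assoc, Iso.hom_inv_id, Category.comp_id] at h2
    exact h2
  apply hτ'0
  apply hom_ext_of_sval
  have h0 : sval (0 : unitM X ⟶ CohB1.tensorMod E
      (ClSub.idealMod (Scheme.IdealSheafData.vanishingIdeal ⟨{q}, hq⟩))) ⊤ = 0 := rfl
  rw [h0]
  have h3 : (hh0 _).symm (sval τ' ⊤) = (hh0 _).symm 0 := Subsingleton.elim _ _
  exact (hh0 _).symm.injective h3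

/-- **the cokernel of a nonzero section of a normalized bundle of rank two is invertible** -/
theorem isInvertible_cokernel (hdim : topologicalKrullDim X = 1)
    (hreg : ∀ x : X, IsRegularLocalRing (X.presheaf.stalk x))
    (E : X.Modules) (hE : FlatMod.IsFinLocFreeOfRank 2 E)
    (hEneg : ∀ M : X.Modules, PicF.IsInvertible M → Curv2.deg k X M 1 < 0 →
      Subsingleton (Coh.HH X (CohB1.tensorMod E M) 0))
    (σ : unitM X ⟶ E) (hσ : σ ≠ 0) : PicF.IsInvertible (cokernel σ) := by
  haveI : IsLocallyNoetherian X :=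
    LocallyOfFiniteType.isLocallyNoetherian (X ↘ Spec (CommRingCat.of k))
  have hElf := isFinLocFree_of_isFinLocFreeOfRank hE
  haveI := isQuasicoherent_of_isFinLocFree hElf
  haveI := isFinitePresentation_of_isFinLocFree hElf
  have cO : Coh.IsCoh (unitM X) := Groth.Agent.Lib.Helper12.H12Dev.isCoh_unitM X
  have cE : Coh.IsCoh E := ⟨inferInstance, inferInstance⟩
  have cF := Groth.Agent.Lib.Helper12.H12Dev.isCoh_cokernel σ cO cE
  haveI := cF.1
  haveI := isFinitePresentation_of_isCoh (cokernel σ) cF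
  -- the germ of the section is nowhere in `m E`
  have hnv : ∀ x : X, E.presheaf.germ ⊤ x trivial (σ.app ⊤ (toUnit 1)) ∉
      (IsLocalRing.maximalIdeal (X.presheaf.stalk x)) •
        (⊤ : Submodule (X.presheaf.stalk x) (E.presheaf.stalk x)) := by
    intro x
    by_cases hx : x = genericPoint X
    · subst hx
      have hfield : IsField (X.presheaf.stalk (genericPoint X)) :=
        Field.toIsField X.functionField
      have hm : IsLocalRing.maximalIdeal (X.presheaf.stalk (genericPoint X)) = ⊥ :=
        IsLocalRing.isField_iff_maximalIdeal_eq.mp hfield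
      rw [hm, Submodule.bot_smul, Submodule.mem_bot]
      exact germ_generic_ne_zero E hElf σ hσ
    · exact germ_notMem_of_normalized k X hdim hreg E 2 hE hEneg σ hσ x
        (isClosed_singleton_of_ne_genericPoint X hdim.le x hx)
  have key : ∀ x : X, Module.Free (X.presheaf.stalk x) ((cokernel σ).presheaf.stalk x) ∧
      Module.rank (X.presheaf.stalk x) ((cokernel σ).presheaf.stalk x) = 1 := by
    intro x
    have hpid : IsPrincipalIdealRing (X.presheaf.stalk x) := by
      have := hreg x
      exact isPrincipalIdealRing_of_isRegularLocalRing_of_dim_le_one _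
        ((ringKrullDim_stalk_le_topologicalKrullDim X x).trans hdim.le)
    obtain ⟨hfree, hfin⟩ := Groth.Agent.Lib.Helper28.DCohRes.stalkFF_of_isFinLocFree hElf x
    have hrank := Groth.Agent.Lib.Helper2.DegAdd.finrank_stalk_of_isFinLocFreeOfRank hE x
    obtain ⟨hQfree, hQrank⟩ := Groth.Agent.Lib.Helper21.Rk2Alg.free_quotient hrank _ (hnv x)
    obtain ⟨e⟩ := nonempty_stalk_cokernel_equiv σ x
    refine ⟨Module.Free.of_equiv e, ?_⟩
    rw [← e.rank_eq, ← Module.finrank_eq_rank, hQrank]
    rfl
  exact isInvertible_of_free_stalks (cokernel σ) (fun x => (key x).1) (fun x => (key x).2)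

end Main

end Groth.Agent.Lib.Helper21.Rk2Geo
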