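import Mathlib
import Groth.Agent.Lib.Helper21.SCmp14
import Groth.Agent.Lib.Helper14.UnivOpenAt

/-!
# Universal openness at a point under restriction; chains of opens in a connected set
-/

set_option autoImplicit false
set_option linter.style.haveILetI false
set_option linter.unusedSectionVars false
universe u

open AlgebraicGeometry CategoryTheory Limits TopologicalSpace Topology IsLocalRing

namespace Groth.Agent.Lib.Helper21.SCmp

open EGA43 Groth.Agent.Lib.Helper14.UOA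

theorem isPullback_comp_mono {C : Type*} [Category C] {P X Y W Z : C} {fst : P ⟶ X}
    {snd : P ⟶ Y} {f : X ⟶ W} {g : Y ⟶ W} (h : IsPullback fst snd f g) (i : W ⟶ Z) [Mono i] :
    IsPullback fst snd (f ≫ i) (g ≫ i) := by
  refine ⟨⟨by rw [← Category.assoc, h.w, Category.assoc]⟩, ⟨PullbackCone.IsLimit.mk _
    (fun s => h.lift s.fst s.snd (by
      apply (cancel_mono i).mp
      simpa using s.condition)) (fun s => by simp) (fun s => by simp) ?_⟩⟩
  intro s m h1 h2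
  apply h.hom_ext
  · simpa using h1
  · simpa using h2

/-- universal openness at a point passes to open subschemes of the source -/
theorem isUnivOpenAt_ι_comp {U X Y : Scheme.{u}} (ι : U ⟶ X) [IsOpenImmersion ι] (f : X ⟶ Y)
    (ξ : U) (h : IsUnivOpenAt f (ι ξ)) : IsUnivOpenAt (ι ≫ f) ξ := by
  intro T g x' hx'
  haveI h1 : IsOpenImmersion (pullback.snd ι (pullback.fst f g)) := inferInstance
  haveI h2 : IsOpenImmersion (pullbackRightPullbackFstIso f g ι).inv := inferInstance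
  have hθ : IsOpenImmersion ((pullbackRightPullbackFstIso f g ι).inv ≫
    pullback.snd ι (pullback.fst f g)) := inferInstance
  set θ : pullback (ι ≫ f) g ⟶ pullback f g := (pullbackRightPullbackFstIso f g ι).inv ≫
    pullback.snd ι (pullback.fst f g) with hθdef
  have e1 : θ ≫ pullback.fst f g = pullback.fst (ι ≫ f) g ≫ ι := by
    rw [hθdef, Category.assoc]
    exact pullbackRightPullbackFstIso_inv_snd_fst f g ι
  have e2 : θ ≫ pullback.snd f g = pullback.snd (ι ≫ f) g := by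
    rw [hθdef, Category.assoc]
    exact pullbackRightPullbackFstIso_inv_snd_snd f g ι
  rw [← e2, comp_base_eq]
  refine isOpenAt_comp _ _ _ (isOpenAt_of_isOpenMap _ θ.isOpenEmbedding.isOpenMap _) (h T g _ ?_)
  have h3 := congrArg (fun φ : pullback (ι ≫ f) g ⟶ X => φ.base x') e1
  simp only [Scheme.Hom.comp_apply] at h3
  rw [h3]
  exact congrArg ι.base hx'

/-- universal openness at a point passes to a monomorphic restriction of the target -/
theorem isUnivOpenAt_of_comp_mono {X Y Z : Scheme.{u}} (f : X ⟶ Y) (i : Y ⟶ Z) [Mono i] (ξ : X)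
    (h : IsUnivOpenAt (f ≫ i) ξ) : IsUnivOpenAt f ξ := by
  intro T g x' hx'
  have sq : IsPullback (pullback.fst f g) (pullback.snd f g) f g := IsPullback.of_hasPullback f g
  exact isOpenAt_snd_of_isUnivOpenAt h (isPullback_comp_mono sq i) x' hx'

/-- **chains of opens**: in a locally connected subspace `F`, two points of the same connected
component are joined by a preconnected set contained in finitely many members of a given open
cover -/
theorem exists_finite_preconnected {α : Type*} [TopologicalSpace α] (F : Set α)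
    [LocallyConnectedSpace F] (𝓑 : Set (Set α)) (h𝓑o : ∀ B ∈ 𝓑, IsOpen B)
    (h𝓑c : F ⊆ ⋃₀ 𝓑) (p : α) (hp : p ∈ F) (q : α) (hq : q ∈ connectedComponentIn F p) :
    ∃ (𝓑' : Set (Set α)) (K : Set α), 𝓑'.Finite ∧ 𝓑' ⊆ 𝓑 ∧ _root_.IsPreconnected K ∧
      K ⊆ (⋃₀ 𝓑') ∩ F ∧ p ∈ K ∧ q ∈ K := by
  classical
  set S : Set α := {q | ∃ (𝓑' : Set (Set α)) (K : Set α), 𝓑'.Finite ∧ 𝓑' ⊆ 𝓑 ∧
    _root_.IsPreconnected K ∧ K ⊆ (⋃₀ 𝓑') ∩ F ∧ p ∈ K ∧ q ∈ K} with hS
  -- small connected neighbourhoods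
  have hloc : ∀ q ∈ F, ∀ B, IsOpen B → q ∈ B → ∃ N : Set α, IsOpen N ∧ q ∈ N ∧ N ⊆ B ∧
      _root_.IsPreconnected (N ∩ F) := by
    intro q hq B hB hqB
    have hnhds : (Subtype.val ⁻¹' B : Set F) ∈ 𝓝 (⟨q, hq⟩ : F) :=
      (hB.preimage continuous_subtype_val).mem_nhds hqB
    obtain ⟨V, hVB, hVo, hqV, hVc⟩ :=
      (locallyConnectedSpace_iff_subsets_isOpen_isConnected.mp ‹_› (⟨q, hq⟩ : F) _ hnhds)
    obtain ⟨N₀, hN₀, hN₀V⟩ := isOpen_induced_iff.mp hVo
    refine ⟨N₀ ∩ B, hN₀.inter hB, ⟨?_, hqB⟩, Set.inter_subset_right, ?_⟩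
    · have : (⟨q, hq⟩ : F) ∈ Subtype.val ⁻¹' N₀ := by rw [hN₀V]; exact hqV
      exact this
    · have himg : (N₀ ∩ B) ∩ F = Subtype.val '' V := by
        ext z
        constructor
        · rintro ⟨⟨hz1, hz2⟩, hz3⟩
          refine ⟨⟨z, hz3⟩, ?_, rfl⟩
          rw [← hN₀V]; exact hz1
        · rintro ⟨w, hw, rfl⟩
          refine ⟨⟨?_, hVB hw⟩, w.2⟩
          have : w ∈ Subtype.val ⁻¹' N₀ := by rw [hN₀V]; exact hw
          exact this
      rw [himg]
      exact hVc.isPreconnected.image _ continuous_subtype_val.continuousOn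
  have hpS : p ∈ S := by
    obtain ⟨B, hB, hpB⟩ := h𝓑c hp
    refine ⟨{B}, {p}, Set.finite_singleton B, Set.singleton_subset_iff.mpr hB,
      isPreconnected_singleton, ?_, rfl, rfl⟩
    rintro _ rfl
    exact ⟨⟨B, rfl, hpB⟩, hp⟩
  have hSF : S ⊆ F := by
    rintro q ⟨𝓑', K, -, -, -, hK, -, hqK⟩
    exact (hK hqK).2
  -- `S` is relatively open
  have hopen : ∀ q ∈ S, ∃ N : Set α, IsOpen N ∧ q ∈ N ∧ N ∩ F ⊆ S := by
    rintro q ⟨𝓑', K, hfin, hsub, hKpre, hK, hpK, hqK⟩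
    obtain ⟨B, hB', hqB⟩ := (hK hqK).1
    obtain ⟨N, hN, hqN, hNB, hNpre⟩ := hloc q (hK hqK).2 B (h𝓑o B (hsub hB')) hqB
    refine ⟨N, hN, hqN, ?_⟩
    intro q' hq'
    refine ⟨𝓑', K ∪ (N ∩ F), hfin, hsub, ?_, ?_, Or.inl hpK, Or.inr hq'⟩
    · exact hKpre.union q hqK ⟨hqN, (hK hqK).2⟩ hNpre
    · rintro z (hz | hz)
      · exact hK hz
      · exact ⟨⟨B, hB', hNB hz.1⟩, hz.2⟩
  -- the complement of `S` in `F` is relatively open
  have hclosed : ∀ q ∈ F, q ∉ S → ∃ N : Set α, IsOpen N ∧ q ∈ N ∧ N ∩ F ∩ S = ∅ := by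
    intro q hqF hqS
    obtain ⟨B, hB, hqB⟩ := h𝓑c hqF
    obtain ⟨N, hN, hqN, hNB, hNpre⟩ := hloc q hqF B (h𝓑o B hB) hqB
    refine ⟨N, hN, hqN, ?_⟩
    rw [Set.eq_empty_iff_forall_notMem]
    rintro q' ⟨hq'N, 𝓑', K, hfin, hsub, hKpre, hK, hpK, hq'K⟩
    apply hqS
    refine ⟨insert B 𝓑', K ∪ (N ∩ F), hfin.insert B, Set.insert_subset hB hsub, ?_, ?_,
      Or.inl hpK, Or.inr ⟨hqN, hqF⟩⟩
    · exact hKpre.union q' hq'K hq'N hNpre
    · rintro z (hz | hz)
      · obtain ⟨⟨B', hB', hzB'⟩, hzF⟩ := hK hz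
        exact ⟨⟨B', Set.mem_insert_of_mem _ hB', hzB'⟩, hzF⟩
      · exact ⟨⟨B, Set.mem_insert _ _, hNB hz.1⟩, hz.2⟩
  -- conclude by connectedness
  let u : Set α := ⋃ (q : α) (_ : q ∈ S), Classical.choose (hopen q ‹_›)
  let v : Set α := ⋃ (q : α) (h : q ∈ F ∧ q ∉ S), Classical.choose (hclosed q h.1 h.2)
  have hu : IsOpen u := isOpen_iUnion fun q => isOpen_iUnion fun hq =>
    (Classical.choose_spec (hopen q hq)).1
  have hv : IsOpen v := isOpen_iUnion fun q => isOpen_iUnion fun hq =>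
    (Classical.choose_spec (hclosed q hq.1 hq.2)).1
  have huS : u ∩ F ⊆ S := by
    rintro z ⟨hz, hzF⟩
    simp only [u, Set.mem_iUnion] at hz
    obtain ⟨q, hq, hzq⟩ := hz
    exact (Classical.choose_spec (hopen q hq)).2.2 ⟨hzq, hzF⟩
  have hSu : S ⊆ u := by
    intro q hq
    simp only [u, Set.mem_iUnion]
    exact ⟨q, hq, (Classical.choose_spec (hopen q hq)).2.1⟩
  have hvS : ∀ z ∈ v ∩ F, z ∉ S := by
    rintro z ⟨hz, hzF⟩ hzS
    simp only [v, Set.mem_iUnion] at hz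
    obtain ⟨q, hq, hzq⟩ := hz
    have := (Classical.choose_spec (hclosed q hq.1 hq.2)).2.2
    rw [Set.eq_empty_iff_forall_notMem] at this
    exact this z ⟨⟨hzq, hzF⟩, hzS⟩
  have hFv : ∀ z ∈ F, z ∉ S → z ∈ v := by
    intro z hzF hzS
    simp only [v, Set.mem_iUnion]
    exact ⟨z, ⟨hzF, hzS⟩, (Classical.choose_spec (hclosed z hzF hzS)).2.1⟩
  have hCpre : _root_.IsPreconnected (connectedComponentIn F p) :=
    isPreconnected_connectedComponentIn
  have hCF : connectedComponentIn F p ⊆ F := connectedComponentIn_subset F p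
  by_contra hcon
  have hqS : q ∉ S := hcon
  have hcover : connectedComponentIn F p ⊆ u ∪ v := by
    intro z hz
    by_cases hzS : z ∈ S
    · exact Or.inl (hSu hzS)
    · exact Or.inr (hFv z (hCF hz) hzS)
  obtain ⟨z, hzC, hzu, hzv⟩ := hCpre u v hu hv hcover
    ⟨p, mem_connectedComponentIn hp, hSu hpS⟩ ⟨q, hq, hFv q (hCF hq) hqS⟩
  exact hvS z ⟨hzv, hCF hzC⟩ (huS ⟨hzu, hCF hzC⟩)

end Groth.Agent.Lib.Helper21.SCmp
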