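import Mathlib
import Groth.Agent.Lib.Helper21.SCmp15

/-!
# Section components: universally open morphisms locally of finite type over a locally
Noetherian base (EGA IV 15.6.7)
-/

set_option autoImplicit false
set_option linter.style.haveILetI false
set_option linter.unusedSectionVars false
universe u

open AlgebraicGeometry CategoryTheory Limits TopologicalSpace Topology IsLocalRing

namespace Groth.Agent.Lib.Helper21.SCmp

open EGA43 Groth.Agent.Lib.Helper14.UOA

/-- restriction to open subschemes of source and target -/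
theorem image_subset_interior_of_restrict {X Y X'' Y' : Scheme.{u}} (f : X ⟶ Y)
    [LocallyOfFiniteType f] (s : Y ⟶ X) (hs : s ≫ f = 𝟙 Y)
    (ιX : X'' ⟶ X) (ιY : Y' ⟶ Y) [IsOpenImmersion ιX] [IsOpenImmersion ιY]
    (f'' : X'' ⟶ Y') (s'' : Y' ⟶ X'') (hf : f'' ≫ ιY = ιX ≫ f) (hss : s'' ≫ ιX = ιY ≫ s)
    [IsLocallyNoetherian Y'] [NoetherianSpace X''] (y'' : Y')
    (H : ∀ x ∈ connectedComponentIn (f ⁻¹' {ιY y''}) (s (ιY y'')),
      EGA43.IsUnivOpenAt f x ∧ GRAt f x) :
    ιX '' connectedComponentIn (f'' ⁻¹' {y''}) (s'' y'') ⊆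
      interior (MoreMor.sectionComponents f s) := by
  have hs'' : s'' ≫ f'' = 𝟙 Y' := by
    apply (cancel_mono ιY).mp
    rw [Category.assoc, hf, ← Category.assoc, hss, Category.assoc, hs, Category.comp_id,
      Category.id_comp]
  haveI : LocallyOfFiniteType (f'' ≫ ιY) := by rw [hf]; infer_instance
  haveI : LocallyOfFiniteType f'' := locallyOfFiniteType_of_comp f'' ιY
  haveI : QuasiCompact f'' := ⟨fun U _ _ => NoetherianSpace.isCompact _⟩
  have hfι : ∀ x'' : X'', f (ιX x'') = ιY (f'' x'') := by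
    intro x''
    rw [← Scheme.Hom.comp_apply, ← hf, Scheme.Hom.comp_apply]
  have hsι : ∀ v : Y', ιX (s'' v) = s (ιY v) := by
    intro v
    rw [← Scheme.Hom.comp_apply, hss, Scheme.Hom.comp_apply]
  have hmaps : ∀ v : Y', ιX '' connectedComponentIn (f'' ⁻¹' {v}) (s'' v) ⊆
      connectedComponentIn (f ⁻¹' {ιY v}) (s (ιY v)) := by
    intro v
    have hpre : _root_.IsPreconnected (ιX '' connectedComponentIn (f'' ⁻¹' {v}) (s'' v)) :=
      isPreconnected_connectedComponentIn.image _ ιX.continuous.continuousOn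
    refine hpre.subset_connectedComponentIn ?_ ?_
    · rw [← hsι]
      exact ⟨s'' v, mem_connectedComponentIn (section_apply f'' s'' hs'' v), rfl⟩
    · rintro _ ⟨z, hz, rfl⟩
      have hz' : z ∈ f'' ⁻¹' {v} := connectedComponentIn_subset _ _ hz
      have hz'' : f'' z = v := hz'
      change f (ιX z) = ιY v
      rw [hfι, hz'']
  have hSC : ∀ x'' ∈ MoreMor.sectionComponents f'' s'', ιX x'' ∈ MoreMor.sectionComponents f s := by
    intro x'' hx''
    have h1 := hmaps (f'' x'') ⟨x'', hx'', rfl⟩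
    rw [← hfι] at h1
    exact h1
  have H'' : ∀ ξ ∈ connectedComponentIn (f'' ⁻¹' {y''}) (s'' y''), EGA43.IsUnivOpenAt f'' ξ ∧
      FBase.IsGeomReducedAt (f''.fiberToSpecResidueField (f'' ξ)) (f''.asFiber ξ) := by
    intro ξ hξ
    obtain ⟨h1, h2⟩ := H (ιX ξ) (hmaps y'' ⟨ξ, hξ, rfl⟩)
    constructor
    · have h3 := isUnivOpenAt_ι_comp ιX f ξ h1
      rw [← hf] at h3
      exact isUnivOpenAt_of_comp_mono f'' ιY ξ h3
    · have sq : IsPullback (𝟙 X'') f'' (f'' ≫ ιY) ιY := by
        have := isPullback_comp_mono (IsPullback.id_horiz f'') ιY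
        rwa [Category.id_comp] at this
      have h4 := gRAt_iff_of_isPullback sq ξ
      have h5 : (𝟙 X'' : X'' ⟶ X'') ξ = ξ := rfl
      rw [h5, hf, gRAt_ι_comp_iff ιX f ξ] at h4
      exact h4.mpr h2
  have key := connectedComponentIn_subset_interior_of_noetherian' f'' s'' hs'' y'' H''
  have hopen : IsOpen (ιX '' interior (MoreMor.sectionComponents f'' s'')) :=
    ιX.isOpenEmbedding.isOpenMap _ isOpen_interior
  have hsub : ιX '' interior (MoreMor.sectionComponents f'' s'') ⊆
      MoreMor.sectionComponents f s := by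
    rintro _ ⟨z, hz, rfl⟩
    exact hSC z (interior_subset hz)
  rintro _ ⟨z, hz, rfl⟩
  exact interior_maximal hsub hopen ⟨z, key hz, rfl⟩

/-- **EGA IV 15.6.7**: over a locally Noetherian base, if a morphism locally of finite type
with a section is universally open at the points of the component of the section in the fibre
over `y`, and this fibre is geometrically reduced at these points, the section components are a
neighbourhood of this component -/
theorem subset_interior_of_isUnivOpenAt {X Y : Scheme.{u}} [IsLocallyNoetherian Y] (f : X ⟶ Y)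
    [LocallyOfFiniteType f] (s : Y ⟶ X) (hs : s ≫ f = 𝟙 Y) (y : Y)
    (H : ∀ x ∈ connectedComponentIn (f ⁻¹' {y}) (s y), EGA43.IsUnivOpenAt f x ∧ GRAt f x) :
    connectedComponentIn (f ⁻¹' {y}) (s y) ⊆ interior (MoreMor.sectionComponents f s) := by
  intro x hx
  haveI : IsLocallyNoetherian X := LocallyOfFiniteType.isLocallyNoetherian f
  have hfs : ∀ v, f (s v) = v := section_apply f s hs
  -- the fibre is locally connected
  haveI : LocallyOfFiniteType (f.fiberToSpecResidueField y) :=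
    MorphismProperty.pullback_snd _ _ inferInstance
  haveI : IsLocallyNoetherian (f.fiber y) :=
    LocallyOfFiniteType.isLocallyNoetherian (f.fiberToSpecResidueField y)
  haveI : LocallyConnectedSpace (f.fiber y) := locallyConnectedSpace_of_isLocallyNoetherian _
  haveI : LocallyConnectedSpace (f ⁻¹' {y} : Set X) :=
    (f.fiberHomeo y).symm.isOpenEmbedding.locallyConnectedSpace
  -- the cover by affine opens
  let 𝓑 : Set (Set X) := {B | ∃ U : X.Opens, IsAffineOpen U ∧ B = (U : Set X)}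
  have h𝓑o : ∀ B ∈ 𝓑, IsOpen B := by
    rintro _ ⟨U, -, rfl⟩
    exact U.2
  have h𝓑c : f ⁻¹' {y} ⊆ ⋃₀ 𝓑 := by
    intro z _
    obtain ⟨_, ⟨U, hU, rfl⟩, hzU, -⟩ := X.isBasis_affineOpens.exists_subset_of_mem_open
      (Set.mem_univ z) isOpen_univ
    exact ⟨U, ⟨U, hU, rfl⟩, hzU⟩
  obtain ⟨𝓑', K, hfin, hsub, hKpre, hK, hpK, hqK⟩ :=
    exists_finite_preconnected (f ⁻¹' {y}) 𝓑 h𝓑o h𝓑c (s y) (hfs y) x hx
  have hX'open : IsOpen (⋃₀ 𝓑') := isOpen_sUnion fun B hB => h𝓑o B (hsub hB)
  have hX'compact : IsCompact (⋃₀ 𝓑') := by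
    refine hfin.isCompact_sUnion ?_
    intro B hB
    obtain ⟨U, hU, rfl⟩ := hsub hB
    exact hU.isCompact
  let X'o : X.Opens := ⟨⋃₀ 𝓑', hX'open⟩
  let Y'o : Y.Opens := s ⁻¹ᵁ X'o
  let X''o : X.Opens := X'o ⊓ f ⁻¹ᵁ Y'o
  have hyY' : y ∈ Y'o := (hK hpK).1
  have hKX'' : K ⊆ (X''o : Set X) := by
    intro z hz
    refine ⟨(hK hz).1, ?_⟩
    change f z ∈ Y'o
    have : f z = y := (hK hz).2
    rw [this]
    exact hyY'
  have hrange1 : Set.range (X''o.ι ≫ f) ⊆ Set.range Y'o.ι := by
    rintro _ ⟨z, rfl⟩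
    rw [Scheme.Opens.range_ι]
    exact z.2.2
  have hrange2 : Set.range (Y'o.ι ≫ s) ⊆ Set.range X''o.ι := by
    rintro _ ⟨v, rfl⟩
    rw [Scheme.Opens.range_ι]
    refine ⟨v.2, ?_⟩
    change f ((Y'o.ι ≫ s) v) ∈ Y'o
    rw [Scheme.Hom.comp_apply, hfs]
    exact v.2
  let f'' : X''o.toScheme ⟶ Y'o.toScheme := IsOpenImmersion.lift Y'o.ι (X''o.ι ≫ f) hrange1
  have hf : f'' ≫ Y'o.ι = X''o.ι ≫ f := IsOpenImmersion.lift_fac _ _ _
  let s'' : Y'o.toScheme ⟶ X''o.toScheme := IsOpenImmersion.lift X''o.ι (Y'o.ι ≫ s) hrange2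
  have hss : s'' ≫ X''o.ι = Y'o.ι ≫ s := IsOpenImmersion.lift_fac _ _ _
  -- Noetherianity
  haveI : NoetherianSpace X''o := by
    haveI : CompactSpace X'o := isCompact_iff_compactSpace.mp hX'compact
    haveI : AlgebraicGeometry.IsNoetherian X'o.toScheme := { }
    haveI h1 : NoetherianSpace X'o := inferInstance
    have h2 := (noetherianSpace_set_iff (X'o : Set X)).mp h1
    exact (noetherianSpace_set_iff (X''o : Set X)).mpr fun t ht =>
      h2 t (ht.trans Set.inter_subset_left)
  let y'' : Y'o.toScheme := ⟨y, hyY'⟩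
  have hy'' : Y'o.ι y'' = y := rfl
  have hxX'' : x ∈ X''o := hKX'' hqK
  let x'' : X''o.toScheme := ⟨x, hxX''⟩
  have hx'' : X''o.ι x'' = x := rfl
  have hs'' : s'' ≫ f'' = 𝟙 _ := by
    apply (cancel_mono Y'o.ι).mp
    rw [Category.assoc, hf, ← Category.assoc, hss, Category.assoc, hs, Category.comp_id,
      Category.id_comp]
  have hfι : ∀ z : X''o.toScheme, f (X''o.ι z) = Y'o.ι (f'' z) := by
    intro z
    rw [← Scheme.Hom.comp_apply, ← hf, Scheme.Hom.comp_apply]
  have hsι : ∀ v : Y'o.toScheme, X''o.ι (s'' v) = s (Y'o.ι v) := by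
    intro v
    rw [← Scheme.Hom.comp_apply, hss, Scheme.Hom.comp_apply]
  -- the point `x''` lies in the component of the section
  have hx''C : x'' ∈ connectedComponentIn (f'' ⁻¹' {y''}) (s'' y'') := by
    have hK'' : _root_.IsPreconnected (X''o.ι ⁻¹' K) := by
      rw [← X''o.ι.isEmbedding.isInducing.isPreconnected_image, Set.image_preimage_eq_of_subset]
      · exact hKpre
      · rw [Scheme.Opens.range_ι]; exact hKX''
    refine hK''.subset_connectedComponentIn ?_ ?_ ?_
    · change X''o.ι (s'' y'') ∈ K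
      rw [hsι, hy'']
      exact hpK
    · intro z hz
      have hz' : X''o.ι z ∈ K := hz
      have h1 : f (X''o.ι z) = y := (hK hz').2
      rw [hfι] at h1
      exact Y'o.ι.isOpenEmbedding.injective (h1.trans hy''.symm)
    · change X''o.ι x'' ∈ K
      rw [hx'']
      exact hqK
  have key := image_subset_interior_of_restrict f s hs X''o.ι Y'o.ι f'' s'' hf hss y''
    (by rw [hy'']; exact H)
  exact key ⟨x'', hx''C, hx''⟩

/-- **EGA IV 15.6.7, second part** -/
theorem isOpen_sectionComponents_of_universallyOpen {X Y : Scheme.{u}} [IsLocallyNoetherian Y]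
    (f : X ⟶ Y) [LocallyOfFiniteType f] (s : Y ⟶ X) (hs : s ≫ f = 𝟙 Y) [UniversallyOpen f]
    (H : ∀ x ∈ MoreMor.sectionComponents f s, GRAt f x) :
    IsOpen (MoreMor.sectionComponents f s) := by
  rw [← subset_interior_iff_isOpen]
  intro x hx
  have hx' : x ∈ connectedComponentIn (f ⁻¹' {f x}) (s (f x)) := hx
  refine subset_interior_of_isUnivOpenAt f s hs (f x) ?_ hx'
  intro x₁ hx₁
  have hfx₁0 : x₁ ∈ f ⁻¹' {f x} := connectedComponentIn_subset _ _ hx₁
  have hfx₁ : f x₁ = f x := hfx₁0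
  constructor
  · intro T g x' _
    haveI : UniversallyOpen (pullback.snd f g) := MorphismProperty.pullback_snd _ _ inferInstance
    exact isOpenAt_of_isOpenMap _ (pullback.snd f g).isOpenMap x'
  · apply H
    change x₁ ∈ connectedComponentIn (f ⁻¹' {f x₁}) (s (f x₁))
    rw [hfx₁]
    exact hx₁

end Groth.Agent.Lib.Helper21.SCmp
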