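import Mathlib
import Groth.Agent.Lib.Helper21.SCmp16
import Groth.Agent.Lib.Helper21.SCmp8

/-!
# Section components of a flat morphism of finite presentation whose fibre is geometrically
reduced along the component of the section
-/

set_option autoImplicit false
set_option linter.style.haveILetI false
set_option linter.unusedSectionVars false
universe u

open AlgebraicGeometry CategoryTheory Limits TopologicalSpace Topology Set.Notation

namespace Groth.Agent.Lib.Helper21.SCmp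

open EGA43 Groth.Agent.Lib.Helper14.UOA

theorem isUnivOpenAt_of_universallyOpen {X Y : Scheme.{u}} (f : X ⟶ Y) [UniversallyOpen f]
    (x : X) : EGA43.IsUnivOpenAt f x := by
  intro T g x' _
  haveI : UniversallyOpen (pullback.snd f g) := MorphismProperty.pullback_snd _ _ inferInstance
  exact isOpenAt_of_isOpenMap _ (pullback.snd f g).isOpenMap x'

/-- **quasi-compact quasi-separated base**, via a flat Noetherian model and the diagonal trick -/
theorem subset_interior_of_qcqs' {X Y : Scheme.{u}} [CompactSpace Y]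
    [QuasiSeparatedSpace Y] (f : X ⟶ Y) [LocallyOfFinitePresentation f] [QuasiCompact f]
    [QuasiSeparated f] [Flat f] (s : Y ⟶ X) (hs : s ≫ f = 𝟙 Y) (y : Y)
    (H : ∀ x ∈ connectedComponentIn (f ⁻¹' {y}) (s y), GRAt f x) :
    connectedComponentIn (f ⁻¹' {y}) (s y) ⊆ interior (MoreMor.sectionComponents f s) := by
  obtain ⟨X₀, S₀, f₀, g, g', hpb, hS₀, h1, h2, h3, h4⟩ := exists_flat_noetherian_model f
  haveI : LocallyOfFiniteType f₀ := inferInstance
  let σ : Y ⟶ X₀ := s ≫ g'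
  have hσ : σ ≫ f₀ = g := by
    rw [Category.assoc, hpb.w, ← Category.assoc, hs, Category.id_comp]
  let pr₁ := pullback.fst f₀ f₀
  let pr₂ := pullback.snd f₀ f₀
  let Δ : X₀ ⟶ pullback f₀ f₀ := pullback.lift (𝟙 X₀) (𝟙 X₀) rfl
  have hΔ : Δ ≫ pr₂ = 𝟙 X₀ := pullback.lift_snd _ _ _
  have hΔ1 : Δ ≫ pr₁ = 𝟙 X₀ := pullback.lift_fst _ _ _
  let ρ₁ : X ⟶ pullback f₀ f₀ := pullback.lift g' (f ≫ σ) (by rw [hpb.w, Category.assoc, hσ])
  have hρ1 : ρ₁ ≫ pr₁ = g' := pullback.lift_fst _ _ _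
  have hρ2 : ρ₁ ≫ pr₂ = f ≫ σ := pullback.lift_snd _ _ _
  have hright : IsPullback pr₁ pr₂ f₀ f₀ := IsPullback.of_hasPullback f₀ f₀
  have hleft : IsPullback ρ₁ f pr₂ σ := by
    refine IsPullback.of_right ?_ hρ2 hright
    rw [hρ1, hσ]
    exact hpb
  have hss : s ≫ ρ₁ = σ ≫ Δ := by
    apply pullback.hom_ext
    · rw [Category.assoc, Category.assoc]
      change s ≫ ρ₁ ≫ pr₁ = σ ≫ Δ ≫ pr₁
      rw [hρ1, hΔ1, Category.comp_id]
    · rw [Category.assoc, Category.assoc]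
      change s ≫ ρ₁ ≫ pr₂ = σ ≫ Δ ≫ pr₂
      rw [hρ2, hΔ, Category.comp_id, ← Category.assoc, hs, Category.id_comp]
  haveI : LocallyOfFinitePresentation pr₂ := MorphismProperty.pullback_snd _ _ inferInstance
  haveI : LocallyOfFiniteType pr₂ := inferInstance
  haveI : QuasiCompact pr₂ := MorphismProperty.pullback_snd _ _ inferInstance
  haveI : Flat pr₂ := MorphismProperty.pullback_snd _ _ h4
  haveI : UniversallyOpen pr₂ := inferInstance
  haveI : IsLocallyNoetherian X₀ := LocallyOfFiniteType.isLocallyNoetherian f₀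
  haveI : CompactSpace X₀ := QuasiCompact.compactSpace_of_compactSpace f₀
  haveI : IsLocallyNoetherian (pullback f₀ f₀) := LocallyOfFiniteType.isLocallyNoetherian pr₂
  haveI : CompactSpace ↥(pullback f₀ f₀) := QuasiCompact.compactSpace_of_compactSpace pr₂
  haveI : AlgebraicGeometry.IsNoetherian (pullback f₀ f₀) := { }
  have hCC := connectedComponentIn_of_isPullback hleft Δ hΔ s hs hss y
  have H' : ∀ w ∈ connectedComponentIn (pr₂ ⁻¹' {σ y}) (Δ (σ y)), EGA43.IsUnivOpenAt pr₂ w ∧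
      FBase.IsGeomReducedAt (pr₂.fiberToSpecResidueField (pr₂ w)) (pr₂.asFiber w) := by
    intro w hw
    refine ⟨isUnivOpenAt_of_universallyOpen pr₂ w, ?_⟩
    have hw0 : w ∈ pr₂ ⁻¹' {σ y} := connectedComponentIn_subset _ _ hw
    have hw1 : pr₂ w = σ y := hw0
    obtain ⟨x, hx1, hx2⟩ := exists_preimage_of_isPullback hleft w y hw1
    have hxC : x ∈ connectedComponentIn (f ⁻¹' {y}) (s y) := by
      rw [hCC]
      refine ⟨?_, hx2⟩
      change ρ₁ x ∈ connectedComponentIn (pr₂ ⁻¹' {σ y}) (Δ (σ y))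
      have : ρ₁ x = w := hx1
      rw [this]
      exact hw
    have h5 := (gRAt_iff_of_isPullback hleft x).mp (H x hxC)
    have : ρ₁ x = w := hx1
    rw [this] at h5
    exact h5
  have key := connectedComponentIn_subset_interior_of_noetherian' pr₂ Δ hΔ (σ y) H'
  exact subset_interior_of_isPullback hleft Δ hΔ s hs hss y key

/-- **main theorem**, pointwise form -/
theorem subset_interior_sectionComponents' {X Y : Scheme.{u}} (f : X ⟶ Y)
    [LocallyOfFinitePresentation f] [QuasiCompact f] [QuasiSeparated f] [Flat f] (s : Y ⟶ X)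
    (hs : s ≫ f = 𝟙 Y) (y : Y)
    (H : ∀ x ∈ connectedComponentIn (f ⁻¹' {y}) (s y), GRAt f x) :
    connectedComponentIn (f ⁻¹' {y}) (s y) ⊆ interior (MoreMor.sectionComponents f s) := by
  obtain ⟨_, ⟨U, hU, rfl⟩, hyU, -⟩ := Y.isBasis_affineOpens.exists_subset_of_mem_open
    (Set.mem_univ y) isOpen_univ
  have key : ∀ (V : Y.Opens), IsAffineOpen V → y ∈ V →
      connectedComponentIn (f ⁻¹' {y}) (s y) ⊆ interior (MoreMor.sectionComponents f s) := by
    intro V hV hyV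
    haveI : IsAffine V.toScheme := hV
    obtain ⟨s₀, hs₀, hss⟩ := exists_restrict_section f s hs V
    have hpb : IsPullback (f ⁻¹ᵁ V).ι (f ∣_ V) f V.ι := (isPullback_morphismRestrict f V).flip
    have hSC : MoreMor.sectionComponents (f ∣_ V) s₀ =
        (f ⁻¹ᵁ V).ι ⁻¹' MoreMor.sectionComponents f s :=
      sectionComponents_of_isPullback hpb s hs s₀ hs₀ hss
    let y₀ : V.toScheme := ⟨y, hyV⟩
    have hy₀ : V.ι y₀ = y := rfl
    have hCC := connectedComponentIn_of_isPullback hpb s hs s₀ hs₀ hss y₀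
    have H₀ : ∀ x₀ ∈ connectedComponentIn ((f ∣_ V) ⁻¹' {y₀}) (s₀ y₀), GRAt (f ∣_ V) x₀ := by
      intro x₀ hx₀
      rw [hCC] at hx₀
      have h1 : (f ⁻¹ᵁ V).ι x₀ ∈ connectedComponentIn (f ⁻¹' {V.ι y₀}) (s (V.ι y₀)) := hx₀.1
      rw [hy₀] at h1
      exact (gRAt_iff_of_isPullback hpb x₀).mpr (H _ h1)
    have h1 := subset_interior_of_qcqs' (f ∣_ V) s₀ hs₀ y₀ H₀
    rw [hSC] at h1
    intro x hx
    have hfx0 : x ∈ f ⁻¹' {y} := connectedComponentIn_subset _ _ hx
    have hfx : f x = y := hfx0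
    have hxV : x ∈ f ⁻¹ᵁ V := by
      change f x ∈ V
      rw [hfx]; exact hyV
    let x₀ : (f ⁻¹ᵁ V).toScheme := ⟨x, hxV⟩
    have hx₀ : (f ⁻¹ᵁ V).ι x₀ = x := rfl
    have hfx₀ : (f ∣_ V) x₀ = y₀ := by
      apply V.ι.isOpenEmbedding.injective
      rw [← Scheme.Hom.comp_apply, ← hpb.w, Scheme.Hom.comp_apply, hx₀, hfx, hy₀]
    have hx₀C : x₀ ∈ connectedComponentIn ((f ∣_ V) ⁻¹' {y₀}) (s₀ y₀) := by
      rw [hCC]
      refine ⟨?_, hfx₀⟩
      change (f ⁻¹ᵁ V).ι x₀ ∈ connectedComponentIn (f ⁻¹' {V.ι y₀}) (s (V.ι y₀))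
      rw [hx₀, hy₀]
      exact hx
    have h2 := h1 hx₀C
    have hopen : IsOpen ((f ⁻¹ᵁ V).ι '' interior ((f ⁻¹ᵁ V).ι ⁻¹' MoreMor.sectionComponents f s)) :=
      (f ⁻¹ᵁ V).ι.isOpenEmbedding.isOpenMap _ isOpen_interior
    have hsub : (f ⁻¹ᵁ V).ι '' interior ((f ⁻¹ᵁ V).ι ⁻¹' MoreMor.sectionComponents f s) ⊆
        MoreMor.sectionComponents f s := by
      rintro _ ⟨z, hz, rfl⟩
      have hz' : z ∈ (f ⁻¹ᵁ V).ι ⁻¹' MoreMor.sectionComponents f s := interior_subset hz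
      exact hz'
    exact interior_maximal hsub hopen ⟨x₀, h2, hx₀⟩
  exact key U hU hyU

end Groth.Agent.Lib.Helper21.SCmp
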