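import Mathlib
import Groth.Agent.Lib.Helper21.SCmp2

/-!
# Section components commute with arbitrary base change (no finiteness hypotheses)
-/

set_option autoImplicit false
set_option linter.style.haveILetI false
set_option linter.unusedSectionVars false
universe u

open AlgebraicGeometry CategoryTheory Limits TopologicalSpace Topology

namespace Groth.Agent.Lib.Helper21.SCmp

open Groth.Agent.Lib.Helper21.GIS

/-- a connected scheme over a field through which a rational point factors is geometrically
connected -/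
theorem geometricallyConnected_of_section' {k : Type u} [Field k] {F Z : Scheme.{u}}
    (h : F ⟶ Spec (CommRingCat.of k)) (ι : Z ⟶ F) (σZ : Spec (CommRingCat.of k) ⟶ Z)
    (hσ : σZ ≫ ι ≫ h = 𝟙 _) [ConnectedSpace Z] :
    GeometricallyConnected (ι ≫ h) := by
  let c : Z := σZ (IsLocalRing.closedPoint k)
  obtain ⟨ψ, hψ⟩ := exists_factor σZ c rfl
  let φ : CommRingCat.of k ⟶ Z.residueField c :=
    Spec.preimage (Z.fromSpecResidueField c ≫ ι ≫ h)
  have hφ : Spec.map φ = Z.fromSpecResidueField c ≫ ι ≫ h := Spec.map_preimage _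
  have hcomp : φ ≫ ψ = 𝟙 _ := by
    apply Spec.map_injective
    rw [Spec.map_comp, hφ, ← Category.assoc, hψ, hσ, Spec.map_id]
  have hψinj : Function.Injective ψ.hom := ψ.hom.injective
  refine Groth.Agent.Lib.Helper1.GeomConnPoint.geometricallyConnected_of_point' (ι ≫ h) c
    φ.hom ?_ ?_
  · rw [← hφ]
    rfl
  · intro α _
    refine ⟨ψ.hom α, ?_⟩
    apply hψinj
    have := congrArg (fun t => t.hom (ψ.hom α)) hcomp
    exact this

variable {X Y : Scheme.{u}}

/-- the connected component of the section in a fibre, as a closed subscheme of the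
scheme-theoretic fibre -/
theorem exists_closed_fiber (f : X ⟶ Y) (s : Y ⟶ X) (hs : s ≫ f = 𝟙 Y) (v : Y) :
    ∃ (Z : Scheme.{u}) (ι : Z ⟶ f.fiber v), Set.range ι =
        (f.fiberι v) ⁻¹' (connectedComponentIn (f ⁻¹' {v}) (s v)) ∧
      GeometricallyConnected (ι ≫ f.fiberToSpecResidueField v) := by
  let σ : Spec (Y.residueField v) ⟶ f.fiber v :=
    pullback.lift (Y.fromSpecResidueField v ≫ s) (𝟙 _) (by rw [Category.assoc, hs]; simp)
  have hσ1 : σ ≫ f.fiberToSpecResidueField v = 𝟙 _ := pullback.lift_snd _ _ _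
  have hσ2 : σ ≫ f.fiberι v = Y.fromSpecResidueField v ≫ s := pullback.lift_fst _ _ _
  let c₀ : f.fiber v := σ (IsLocalRing.closedPoint (Y.residueField v))
  have hc₀ : f.fiberι v c₀ = s v := by
    change (σ ≫ f.fiberι v) _ = _
    rw [hσ2, Scheme.Hom.comp_apply, Scheme.fromSpecResidueField_apply]
  have hsv : s v ∈ f ⁻¹' {v} := section_apply f s hs v
  have hpre : (f.fiberι v) ⁻¹' (connectedComponentIn (f ⁻¹' {v}) (s v)) =
      connectedComponent c₀ := by
    have h1 : (f.fiberHomeo v) '' connectedComponent c₀ =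
        connectedComponent (f.fiberHomeo v c₀) := by
      have := (f.fiberHomeo v).image_connectedComponentIn (s := Set.univ) (x := c₀) trivial
      rwa [connectedComponentIn_univ, Set.image_univ, (f.fiberHomeo v).surjective.range_eq,
        connectedComponentIn_univ] at this
    have hc' : (⟨s v, hsv⟩ : f ⁻¹' {v}) = f.fiberHomeo v c₀ := Subtype.ext hc₀.symm
    ext z
    rw [Set.mem_preimage, connectedComponentIn_eq_image hsv, hc', ← h1]
    constructor
    · rintro ⟨w, ⟨z', hz', rfl⟩, hwz⟩
      have : z' = z := (f.fiberι v).isEmbedding.injective hwz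
      rw [← this]
      exact hz'
    · intro hz
      exact ⟨f.fiberHomeo v z, ⟨z, hz, rfl⟩, rfl⟩
  let Zc : Closeds (f.fiber v) := ⟨connectedComponent c₀, isClosed_connectedComponent⟩
  let I := Scheme.IdealSheafData.vanishingIdeal Zc
  have hrange : Set.range I.subschemeι = connectedComponent c₀ := by
    rw [Scheme.IdealSheafData.range_subschemeι]
    change ((Scheme.IdealSheafData.vanishingIdeal Zc).support : Set (f.fiber v)) = _
    rw [Scheme.IdealSheafData.coe_support_vanishingIdeal]
    rfl
  -- the subscheme is connected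
  haveI : ConnectedSpace I.subscheme := by
    have h1 : _root_.IsPreconnected (I.subschemeι '' Set.univ) := by
      rw [Set.image_univ, hrange]
      exact isPreconnected_connectedComponent
    rw [I.subschemeι.isEmbedding.isInducing.isPreconnected_image] at h1
    have h2 : c₀ ∈ Set.range I.subschemeι := by
      rw [hrange]; exact mem_connectedComponent
    obtain ⟨z₀, -⟩ := h2
    exact { toPreconnectedSpace := ⟨h1⟩, toNonempty := ⟨z₀⟩ }
  -- the rational point factors through the subscheme
  have hker : I.subschemeι.ker ≤ σ.ker := by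
    rw [Scheme.IdealSheafData.ker_subschemeι, ← Scheme.IdealSheafData.map_bot,
      ← Scheme.nilradical_eq_bot, ← Scheme.IdealSheafData.vanishingIdeal_top,
      Scheme.IdealSheafData.map_vanishingIdeal]
    apply Scheme.IdealSheafData.vanishingIdeal_antimono
    rw [TopologicalSpace.Closeds.closure_le]
    rintro _ ⟨z, -, rfl⟩
    have hz : z = IsLocalRing.closedPoint (Y.residueField v) :=
      Subsingleton.elim (α := PrimeSpectrum (Y.residueField v)) _ _
    rw [hz]
    exact mem_connectedComponent
  let σZ : Spec (Y.residueField v) ⟶ I.subscheme := IsClosedImmersion.lift I.subschemeι σ hker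
  have hσZ : σZ ≫ I.subschemeι = σ := IsClosedImmersion.lift_fac _ _ _
  refine ⟨I.subscheme, I.subschemeι, hrange.trans hpre.symm, ?_⟩
  refine geometricallyConnected_of_section' (k := Y.residueField v)
    (f.fiberToSpecResidueField v) I.subschemeι σZ ?_
  rw [← Category.assoc, hσZ, hσ1]
  rfl

/-- the component of the section in a fibre of a base change is the preimage of the component of
the section in the fibre of the original morphism -/
theorem connectedComponentIn_of_isPullback' {X' Y' : Scheme.{u}} {f : X ⟶ Y} {f' : X' ⟶ Y'}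
    {ρ : X' ⟶ X} {g : Y' ⟶ Y} (hc : IsPullback ρ f' f g)
    (s : Y ⟶ X) (hs : s ≫ f = 𝟙 Y) (s' : Y' ⟶ X') (hs' : s' ≫ f' = 𝟙 Y')
    (hss : s' ≫ ρ = g ≫ s) (v' : Y') :
    connectedComponentIn (f' ⁻¹' {v'}) (s' v') =
      ρ ⁻¹' (connectedComponentIn (f ⁻¹' {g v'}) (s (g v'))) ∩ f' ⁻¹' {v'} := by
  have hρs : ρ (s' v') = s (g v') := by
    rw [← Scheme.Hom.comp_apply, hss, Scheme.Hom.comp_apply]
  have hfρ : ∀ x' : X', f (ρ x') = g (f' x') := by
    intro x'
    rw [← Scheme.Hom.comp_apply, hc.w, Scheme.Hom.comp_apply]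
  have hs'v' : s' v' ∈ f' ⁻¹' {v'} := section_apply f' s' hs' v'
  have hsv : s (g v') ∈ f ⁻¹' {g v'} := section_apply f s hs (g v')
  apply Set.Subset.antisymm
  · intro x' hx'
    have hx'F : x' ∈ f' ⁻¹' {v'} := connectedComponentIn_subset _ _ hx'
    refine ⟨?_, hx'F⟩
    have hpre : _root_.IsPreconnected (ρ '' connectedComponentIn (f' ⁻¹' {v'}) (s' v')) :=
      isPreconnected_connectedComponentIn.image _ ρ.continuous.continuousOn
    have hsub : ρ '' connectedComponentIn (f' ⁻¹' {v'}) (s' v') ⊆ f ⁻¹' {g v'} := by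
      rintro _ ⟨x'', hx'', rfl⟩
      have hx''F : x'' ∈ f' ⁻¹' {v'} := connectedComponentIn_subset _ _ hx''
      have : f' x'' = v' := hx''F
      change f (ρ x'') = g v'
      rw [hfρ, this]
    have hmem : s (g v') ∈ ρ '' connectedComponentIn (f' ⁻¹' {v'}) (s' v') :=
      ⟨s' v', mem_connectedComponentIn hs'v', hρs⟩
    exact hpre.subset_connectedComponentIn hmem hsub ⟨x', hx', rfl⟩
  · obtain ⟨Z, ι, hZ, hgc⟩ := exists_closed_fiber f s hs (g v')
    let m : f'.fiber v' ⟶ f.fiber (g v') :=
      pullback.map _ _ _ _ ρ (Spec.map (g.residueFieldMap v')) g hc.w.symm (by simp)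
    have hB : IsPullback m (f'.fiberToSpecResidueField v') (f.fiberToSpecResidueField (g v'))
        (Spec.map (g.residueFieldMap v')) := isPullback_fiberToSpecResidueField_of_isPullback hc v'
    have hA : IsPullback (pullback.fst ι m) (pullback.snd ι m) ι m := IsPullback.of_hasPullback ι m
    have hAB := hA.paste_vert hB
    haveI : ConnectedSpace ↥(pullback ι m) :=
      hgc.geometrically_connectedSpace (K := Y'.residueField v')
        (Spec.map (g.residueFieldMap v')) _ _ hAB
    have hmι : m ≫ f.fiberι (g v') = f'.fiberι v' ≫ ρ := pullback.lift_fst _ _ _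
    have hmz : ∀ z : f'.fiber v', f.fiberι (g v') (m z) = ρ (f'.fiberι v' z) := by
      intro z
      rw [← Scheme.Hom.comp_apply, hmι, Scheme.Hom.comp_apply]
    have hrs : Set.range (pullback.snd ι m) = m ⁻¹' Set.range ι := Scheme.Pullback.range_snd ι m
    have hD : ρ ⁻¹' (connectedComponentIn (f ⁻¹' {g v'}) (s (g v'))) ∩ f' ⁻¹' {v'} =
        (f'.fiberι v') '' (Set.range (pullback.snd ι m)) := by
      ext x'
      constructor
      · rintro ⟨hx1, hx2⟩
        rw [← f'.range_fiberι v'] at hx2
        obtain ⟨z, rfl⟩ := hx2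
        refine ⟨z, ?_, rfl⟩
        rw [hrs, Set.mem_preimage, hZ, Set.mem_preimage, hmz]
        exact hx1
      · rintro ⟨z, hz, rfl⟩
        refine ⟨?_, ?_⟩
        · rw [hrs, Set.mem_preimage, hZ, Set.mem_preimage, hmz] at hz
          exact hz
        · rw [← f'.range_fiberι v']
          exact ⟨z, rfl⟩
    have hDconn : _root_.IsPreconnected
        (ρ ⁻¹' (connectedComponentIn (f ⁻¹' {g v'}) (s (g v'))) ∩ f' ⁻¹' {v'}) := by
      rw [hD, ← Set.image_univ]
      have h1 : _root_.IsPreconnected (Set.univ : Set ↥(pullback ι m)) := isPreconnected_univ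
      exact (h1.image _ (pullback.snd ι m).continuous.continuousOn).image _
        (f'.fiberι v').continuous.continuousOn
    refine hDconn.subset_connectedComponentIn ⟨?_, hs'v'⟩ Set.inter_subset_right
    change ρ (s' v') ∈ connectedComponentIn (f ⁻¹' {g v'}) (s (g v'))
    rw [hρs]
    exact mem_connectedComponentIn hsv

/-- **section components commute with arbitrary base change** -/
theorem sectionComponents_of_isPullback' {X' Y' : Scheme.{u}} {f : X ⟶ Y} {f' : X' ⟶ Y'}
    {ρ : X' ⟶ X} {g : Y' ⟶ Y} (hc : IsPullback ρ f' f g)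
    (s : Y ⟶ X) (hs : s ≫ f = 𝟙 Y) (s' : Y' ⟶ X') (hs' : s' ≫ f' = 𝟙 Y')
    (hss : s' ≫ ρ = g ≫ s) :
    MoreMor.sectionComponents f' s' = ρ ⁻¹' MoreMor.sectionComponents f s := by
  have hfρ : ∀ x' : X', f (ρ x') = g (f' x') := by
    intro x'
    rw [← Scheme.Hom.comp_apply, hc.w, Scheme.Hom.comp_apply]
  ext x'
  change x' ∈ connectedComponentIn (f' ⁻¹' {f' x'}) (s' (f' x')) ↔
    ρ x' ∈ connectedComponentIn (f ⁻¹' {f (ρ x')}) (s (f (ρ x')))
  rw [connectedComponentIn_of_isPullback' hc s hs s' hs' hss (f' x'), hfρ]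
  exact ⟨fun h => h.1, fun h => ⟨h, rfl⟩⟩

end Groth.Agent.Lib.Helper21.SCmp
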