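import Mathlib
import Groth.Agent.Lib.Helper21.SCmp17
import Groth.Agent.Lib.Helper21.SCmp18
import Groth.Agent.Lib.Helper8.RedStalk

/-!
# Section components of a smooth morphism are open
-/

set_option autoImplicit false
set_option linter.style.haveILetI false
set_option linter.unusedSectionVars false
universe u

open AlgebraicGeometry CategoryTheory Limits TopologicalSpace Topology IsLocalRing

namespace Groth.Agent.Lib.Helper21.SCmp

/-- the fibres of a smooth morphism are geometrically reduced at every point -/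
theorem gRAt_of_smooth {X Y : Scheme.{u}} (f : X ⟶ Y) [Smooth f] (x : X) : GRAt f x := by
  intro K _ _ x' _
  haveI : Smooth (f.fiberToSpecResidueField (f x)) :=
    show Smooth (pullback.snd f (Y.fromSpecResidueField (f x))) from inferInstance
  haveI : Smooth (FBase.bcStr (f.fiberToSpecResidueField (f x)) K) :=
    show Smooth (pullback.snd (f.fiberToSpecResidueField (f x))
      (Spec.map (CommRingCat.ofHom (algebraMap _ K)))) from inferInstance
  refine Groth.Agent.Lib.Helper8.RedStalk.isReduced_stalk_of_smooth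
    (FBase.bcStr (f.fiberToSpecResidueField (f x)) K) x' ?_
  infer_instance

/-- restriction to open subschemes of source and target: topological part -/
theorem image_subset_interior_of_restrict' {X Y X'' Y' : Scheme.{u}} (f : X ⟶ Y)
    (s : Y ⟶ X) (ιX : X'' ⟶ X) (ιY : Y' ⟶ Y) [IsOpenImmersion ιX] [IsOpenImmersion ιY]
    (f'' : X'' ⟶ Y') (s'' : Y' ⟶ X'') (hf : f'' ≫ ιY = ιX ≫ f) (hss : s'' ≫ ιX = ιY ≫ s)
    (hs'' : s'' ≫ f'' = 𝟙 Y') (y'' : Y')
    (key : connectedComponentIn (f'' ⁻¹' {y''}) (s'' y'') ⊆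
      interior (MoreMor.sectionComponents f'' s'')) :
    ιX '' connectedComponentIn (f'' ⁻¹' {y''}) (s'' y'') ⊆
      interior (MoreMor.sectionComponents f s) := by
  have hfι : ∀ x'' : X'', f (ιX x'') = ιY (f'' x'') := by
    intro x''
    rw [← Scheme.Hom.comp_apply, ← hf, Scheme.Hom.comp_apply]
  have hsι : ∀ v : Y', ιX (s'' v) = s (ιY v) := by
    intro v
    rw [← Scheme.Hom.comp_apply, hss, Scheme.Hom.comp_apply]
  have hmaps : ∀ v : Y', ιX '' connectedComponentIn (f'' ⁻¹' {v}) (s'' v) ⊆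
      connectedComponentIn (f ⁻¹' {ιY v}) (s (ιY v)) := by
    intro v
    have hpre : _root_.IsPreconnected (ιX '' connectedComponentIn (f'' ⁻¹' {v}) (s'' v)) :=
      isPreconnected_connectedComponentIn.image _ ιX.continuous.continuousOn
    refine hpre.subset_connectedComponentIn ?_ ?_
    · rw [← hsι]
      exact ⟨s'' v, mem_connectedComponentIn (section_apply f'' s'' hs'' v), rfl⟩
    · rintro _ ⟨z, hz, rfl⟩
      have hz' : z ∈ f'' ⁻¹' {v} := connectedComponentIn_subset _ _ hz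
      have hz'' : f'' z = v := hz'
      change f (ιX z) = ιY v
      rw [hfι, hz'']
  have hSC : ∀ x'' ∈ MoreMor.sectionComponents f'' s'', ιX x'' ∈ MoreMor.sectionComponents f s := by
    intro x'' hx''
    have h1 := hmaps (f'' x'') ⟨x'', hx'', rfl⟩
    rw [← hfι] at h1
    exact h1
  have hopen : IsOpen (ιX '' interior (MoreMor.sectionComponents f'' s'')) :=
    ιX.isOpenEmbedding.isOpenMap _ isOpen_interior
  have hsub : ιX '' interior (MoreMor.sectionComponents f'' s'') ⊆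
      MoreMor.sectionComponents f s := by
    rintro _ ⟨z, hz, rfl⟩
    exact hSC z (interior_subset hz)
  rintro _ ⟨z, hz, rfl⟩
  exact interior_maximal hsub hopen ⟨z, key hz, rfl⟩

/-- **smooth morphisms, affine base** -/
theorem subset_interior_of_smooth_of_isAffine {X Y : Scheme.{u}} [IsAffine Y]
    [QuasiSeparatedSpace X] (f : X ⟶ Y) [Smooth f] (s : Y ⟶ X) (hs : s ≫ f = 𝟙 Y) (y : Y) :
    connectedComponentIn (f ⁻¹' {y}) (s y) ⊆ interior (MoreMor.sectionComponents f s) := by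
  intro x hx
  have hfs : ∀ v, f (s v) = v := section_apply f s hs
  haveI : LocallyOfFiniteType f := inferInstance
  -- the fibre is locally connected
  haveI : LocallyOfFiniteType (f.fiberToSpecResidueField y) :=
    MorphismProperty.pullback_snd _ _ inferInstance
  haveI : IsLocallyNoetherian (f.fiber y) :=
    LocallyOfFiniteType.isLocallyNoetherian (f.fiberToSpecResidueField y)
  haveI : LocallyConnectedSpace (f.fiber y) := locallyConnectedSpace_of_isLocallyNoetherian _
  haveI : LocallyConnectedSpace (f ⁻¹' {y} : Set X) :=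
    (f.fiberHomeo y).symm.isOpenEmbedding.locallyConnectedSpace
  -- the cover by affine opens
  let 𝓑 : Set (Set X) := {B | ∃ U : X.Opens, IsAffineOpen U ∧ B = (U : Set X)}
  have h𝓑o : ∀ B ∈ 𝓑, IsOpen B := by
    rintro _ ⟨U, -, rfl⟩
    exact U.2
  have h𝓑c : f ⁻¹' {y} ⊆ ⋃₀ 𝓑 := by
    intro z _
    obtain ⟨_, ⟨U, hU, rfl⟩, hzU, -⟩ := X.isBasis_affineOpens.exists_subset_of_mem_open
      (Set.mem_univ z) isOpen_univ
    exact ⟨U, ⟨U, hU, rfl⟩, hzU⟩
  obtain ⟨𝓑', K, hfin, hsub, hKpre, hK, hpK, hqK⟩ :=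
    exists_finite_preconnected (f ⁻¹' {y}) 𝓑 h𝓑o h𝓑c (s y) (hfs y) x hx
  have hX'open : IsOpen (⋃₀ 𝓑') := isOpen_sUnion fun B hB => h𝓑o B (hsub hB)
  have hX'compact : IsCompact (⋃₀ 𝓑') := by
    refine hfin.isCompact_sUnion ?_
    intro B hB
    obtain ⟨U, hU, rfl⟩ := hsub hB
    exact hU.isCompact
  let X'o : X.Opens := ⟨⋃₀ 𝓑', hX'open⟩
  have hyX' : y ∈ s ⁻¹ᵁ X'o := (hK hpK).1
  obtain ⟨_, ⟨Y'o₀, hY'o, rfl⟩, hyY'₀, hY'sub₀⟩ :=
    Y.isBasis_affineOpens.exists_subset_of_mem_open hyX' (s ⁻¹ᵁ X'o).2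
  suffices main : ∀ (Y'o : Y.Opens), IsAffineOpen Y'o → y ∈ Y'o →
      (Y'o : Set Y) ⊆ ((s ⁻¹ᵁ X'o : Y.Opens) : Set Y) →
      x ∈ interior (MoreMor.sectionComponents f s) from main Y'o₀ hY'o hyY'₀ hY'sub₀
  intro Y'o hY'aff hyY' hY'sub
  let X''o : X.Opens := X'o ⊓ f ⁻¹ᵁ Y'o
  have hKX'' : K ⊆ (X''o : Set X) := by
    intro z hz
    refine ⟨(hK hz).1, ?_⟩
    change f z ∈ Y'o
    have : f z = y := (hK hz).2
    rw [this]
    exact hyY'
  have hrange1 : Set.range (X''o.ι ≫ f) ⊆ Set.range Y'o.ι := by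
    rintro _ ⟨z, rfl⟩
    rw [Scheme.Opens.range_ι]
    exact z.2.2
  have hrange2 : Set.range (Y'o.ι ≫ s) ⊆ Set.range X''o.ι := by
    rintro _ ⟨v, rfl⟩
    rw [Scheme.Opens.range_ι]
    refine ⟨hY'sub v.2, ?_⟩
    change f ((Y'o.ι ≫ s) v) ∈ Y'o
    rw [Scheme.Hom.comp_apply, hfs]
    exact v.2
  let f'' : X''o.toScheme ⟶ Y'o.toScheme := IsOpenImmersion.lift Y'o.ι (X''o.ι ≫ f) hrange1
  have hf : f'' ≫ Y'o.ι = X''o.ι ≫ f := IsOpenImmersion.lift_fac _ _ _
  let s'' : Y'o.toScheme ⟶ X''o.toScheme := IsOpenImmersion.lift X''o.ι (Y'o.ι ≫ s) hrange2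
  have hss : s'' ≫ X''o.ι = Y'o.ι ≫ s := IsOpenImmersion.lift_fac _ _ _
  have hs'' : s'' ≫ f'' = 𝟙 _ := by
    apply (cancel_mono Y'o.ι).mp
    rw [Category.assoc, hf, ← Category.assoc, hss, Category.assoc, hs, Category.comp_id,
      Category.id_comp]
  -- finiteness properties of the restriction
  haveI : IsAffine Y'o.toScheme := hY'aff
  have sq : IsPullback (𝟙 X''o.toScheme) f'' (f'' ≫ Y'o.ι) Y'o.ι := by
    have := isPullback_comp_mono (IsPullback.id_horiz f'') Y'o.ι
    rwa [Category.id_comp] at this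
  haveI : Smooth (f'' ≫ Y'o.ι) := by rw [hf]; infer_instance
  haveI : Smooth f'' := MorphismProperty.of_isPullback (P := @Smooth) sq inferInstance
  haveI : LocallyOfFinitePresentation f'' := inferInstance
  haveI : Flat f'' := inferInstance
  haveI : QuasiSeparatedSpace X''o.toScheme := X''o.ι.isOpenEmbedding.quasiSeparatedSpace
  haveI : QuasiSeparated f'' := (quasiSeparated_iff_quasiSeparatedSpace f'').mpr inferInstance
  haveI : CompactSpace X''o.toScheme := by
    haveI : CompactSpace X'o := isCompact_iff_compactSpace.mp hX'compact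
    have hqc : QuasiCompact (X'o.ι ≫ f) := (quasiCompact_iff_compactSpace _).mpr inferInstance
    have h1 : IsCompact ((X'o.ι ≫ f) ⁻¹' (Y'o : Set Y)) :=
      hqc.isCompact_preimage _ Y'o.2 hY'aff.isCompact
    have h2 : (X''o : Set X) = X'o.ι '' ((X'o.ι ≫ f) ⁻¹' (Y'o : Set Y)) := by
      ext z
      constructor
      · rintro ⟨hz1, hz2⟩
        exact ⟨⟨z, hz1⟩, hz2, rfl⟩
      · rintro ⟨w, hw, rfl⟩
        exact ⟨w.2, hw⟩
    have h3 : IsCompact (X''o : Set X) := by
      rw [h2]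
      exact h1.image X'o.ι.continuous
    exact isCompact_iff_compactSpace.mp h3
  haveI : QuasiCompact f'' := (quasiCompact_iff_compactSpace f'').mpr inferInstance
  let y'' : Y'o.toScheme := ⟨y, hyY'⟩
  have hy'' : Y'o.ι y'' = y := rfl
  have hxX'' : x ∈ X''o := hKX'' hqK
  let x'' : X''o.toScheme := ⟨x, hxX''⟩
  have hx'' : X''o.ι x'' = x := rfl
  have hfι : ∀ z : X''o.toScheme, f (X''o.ι z) = Y'o.ι (f'' z) := by
    intro z
    rw [← Scheme.Hom.comp_apply, ← hf, Scheme.Hom.comp_apply]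
  have hsι : ∀ v : Y'o.toScheme, X''o.ι (s'' v) = s (Y'o.ι v) := by
    intro v
    rw [← Scheme.Hom.comp_apply, hss, Scheme.Hom.comp_apply]
  -- the point `x''` lies in the component of the section
  have hx''C : x'' ∈ connectedComponentIn (f'' ⁻¹' {y''}) (s'' y'') := by
    have hK'' : _root_.IsPreconnected (X''o.ι ⁻¹' K) := by
      rw [← X''o.ι.isEmbedding.isInducing.isPreconnected_image, Set.image_preimage_eq_of_subset]
      · exact hKpre
      · rw [Scheme.Opens.range_ι]; exact hKX''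
    refine hK''.subset_connectedComponentIn ?_ ?_ ?_
    · change X''o.ι (s'' y'') ∈ K
      rw [hsι, hy'']
      exact hpK
    · intro z hz
      have hz' : X''o.ι z ∈ K := hz
      have h1 : f (X''o.ι z) = y := (hK hz').2
      rw [hfι] at h1
      exact Y'o.ι.isOpenEmbedding.injective (h1.trans hy''.symm)
    · change X''o.ι x'' ∈ K
      rw [hx'']
      exact hqK
  have key := subset_interior_sectionComponents' f'' s'' hs'' y''
    (fun z _ => gRAt_of_smooth f'' z)
  have key2 := image_subset_interior_of_restrict' f s X''o.ι Y'o.ι f'' s'' hf hss hs'' y'' key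
  exact key2 ⟨x'', hx''C, hx''⟩

/-- **the section components of a smooth morphism with quasi-separated source are open** -/
theorem isOpen_sectionComponents_of_smooth {X Y : Scheme.{u}} [QuasiSeparatedSpace X]
    (f : X ⟶ Y) [Smooth f] (s : Y ⟶ X) (hs : s ≫ f = 𝟙 Y) :
    IsOpen (MoreMor.sectionComponents f s) := by
  rw [isOpen_iff_mem_nhds]
  intro x hx
  obtain ⟨_, ⟨V, hV, rfl⟩, hxV, -⟩ := Y.isBasis_affineOpens.exists_subset_of_mem_open
    (Set.mem_univ (f x)) isOpen_univ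
  have key : ∀ (V : Y.Opens), IsAffineOpen V → f x ∈ V →
      MoreMor.sectionComponents f s ∈ 𝓝 x := by
    intro V hV hxV
    haveI : IsAffine V.toScheme := hV
    obtain ⟨s₀, hs₀, hss⟩ := exists_restrict_section f s hs V
    have hpb : IsPullback (f ⁻¹ᵁ V).ι (f ∣_ V) f V.ι := (isPullback_morphismRestrict f V).flip
    have hSC : MoreMor.sectionComponents (f ∣_ V) s₀ =
        (f ⁻¹ᵁ V).ι ⁻¹' MoreMor.sectionComponents f s :=
      sectionComponents_of_isPullback' hpb s hs s₀ hs₀ hss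
    haveI : QuasiSeparatedSpace (f ⁻¹ᵁ V).toScheme :=
      (f ⁻¹ᵁ V).ι.isOpenEmbedding.quasiSeparatedSpace
    let x₀ : (f ⁻¹ᵁ V).toScheme := ⟨x, hxV⟩
    have hx₀ : (f ⁻¹ᵁ V).ι x₀ = x := rfl
    have hx₀SC : x₀ ∈ MoreMor.sectionComponents (f ∣_ V) s₀ := by
      rw [hSC]
      exact hx
    have h1 := subset_interior_of_smooth_of_isAffine (f ∣_ V) s₀ hs₀ ((f ∣_ V) x₀) hx₀SC
    rw [hSC] at h1
    have hopen : IsOpen ((f ⁻¹ᵁ V).ι '' interior ((f ⁻¹ᵁ V).ι ⁻¹' MoreMor.sectionComponents f s)) :=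
      (f ⁻¹ᵁ V).ι.isOpenEmbedding.isOpenMap _ isOpen_interior
    have hsub : (f ⁻¹ᵁ V).ι '' interior ((f ⁻¹ᵁ V).ι ⁻¹' MoreMor.sectionComponents f s) ⊆
        MoreMor.sectionComponents f s := by
      rintro _ ⟨z, hz, rfl⟩
      have hz' : z ∈ (f ⁻¹ᵁ V).ι ⁻¹' MoreMor.sectionComponents f s := interior_subset hz
      exact hz'
    exact Filter.mem_of_superset (hopen.mem_nhds ⟨x₀, h1, hx₀⟩) hsub
  exact key V hV hxV

end Groth.Agent.Lib.Helper21.SCmp
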