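import Mathlib
import Groth.Agent.Lib.Helper21.SCmp19
import Groth.Agent.Lib.Helper12.GeomComp2

/-!
# The image of a connected component under a field extension is a connected component
-/

set_option autoImplicit false
set_option linter.style.haveILetI false
set_option linter.unusedSectionVars false
universe u

open AlgebraicGeometry CategoryTheory Limits TopologicalSpace Topology IsLocalRing

namespace Groth.Agent.Lib.Helper21.SCmp

open H12GeomComp

/-- **images of connected components under field extensions**: for a scheme locally of finite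
type over a field `k` and a field extension `K`, the image of the connected component of a
point of the base change contains the connected component of its image -/
theorem connectedComponent_subset_image_bcπ {k : Type u} [Field k] {F : Scheme.{u}}
    (f : F ⟶ Spec (CommRingCat.of k)) [LocallyOfFiniteType f] (K : Type u) [Field K]
    [Algebra k K] (x' : ↥(FBase.bc f K)) :
    connectedComponent ((FBase.bcπ f K) x') ⊆ (FBase.bcπ f K) '' connectedComponent x' := by
  let Ω := AlgebraicClosure K
  let kb := AlgebraicClosure k
  letI : Algebra k Ω := ((algebraMap K Ω).comp (algebraMap k K)).toAlgebra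
  let ψ : kb →ₐ[k] Ω := IsAlgClosed.lift
  obtain ⟨qK, hqK1, hqK2⟩ := exists_bcChange f (algebraMap K Ω) rfl
  obtain ⟨r, hr1, hr2⟩ := exists_bcChange f ψ.toRingHom ψ.comp_algebraMap
  obtain ⟨hKs, -⟩ := bcChange_props (algebraMap K Ω) qK _ _ hqK2
  obtain ⟨hrs, hro⟩ := bcChange_props ψ.toRingHom r _ _ hr2
  haveI := bcChange_geomIrred ψ.toRingHom r _ _ hr2
  haveI : GeometricallyConnected r :=
    H12S2501.geometricallyConnected_of_geometricallyIrreducible r
  -- the projection from the algebraic closure
  have hπ : IsOpenMap (FBase.bcπ f kb) ∧ IsClosedMap (FBase.bcπ f kb) := by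
    set g := Spec.map (CommRingCat.ofHom (algebraMap k kb)) with hg
    haveI : IsIntegralHom g := by
      rw [hg, IsIntegralHom.SpecMap_iff]
      exact algebraMap_isIntegral_iff.mpr inferInstance
    show IsOpenMap (pullback.fst f g) ∧ IsClosedMap (pullback.fst f g)
    exact ⟨(pullback.fst f g).isOpenMap, (pullback.fst f g).isClosedMap⟩
  -- local connectedness
  haveI : LocallyOfFiniteType (FBase.bcStr f kb) :=
    show LocallyOfFiniteType (pullback.snd f _) from inferInstance
  haveI : IsLocallyNoetherian (FBase.bc f kb) :=
    LocallyOfFiniteType.isLocallyNoetherian (FBase.bcStr f kb)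
  haveI : LocallyConnectedSpace ↥(FBase.bc f kb) := locallyConnectedSpace_of_isLocallyNoetherian _
  obtain ⟨xΩ, hxΩ⟩ := hKs x'
  set xb := r xΩ with hxb
  have hpx : (FBase.bcπ f kb) xb = (FBase.bcπ f K) x' := by
    rw [hxb, ← Scheme.Hom.comp_apply, hr1, ← hqK1, Scheme.Hom.comp_apply, hxΩ]
  -- step 3
  have h3 : connectedComponent ((FBase.bcπ f K) x') ⊆
      (FBase.bcπ f kb) '' connectedComponent xb := by
    have hclopen : IsClopen ((FBase.bcπ f kb) '' connectedComponent xb) :=
      ⟨hπ.2 _ isClosed_connectedComponent, hπ.1 _ isOpen_connectedComponent⟩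
    refine hclopen.connectedComponent_subset ?_
    rw [← hpx]
    exact ⟨xb, mem_connectedComponent, rfl⟩
  -- step 2
  have h2 : r ⁻¹' connectedComponent xb ⊆ connectedComponent xΩ := by
    have hconn : _root_.IsConnected (r ⁻¹' connectedComponent xb) :=
      r.isConnected_preimage hro isConnected_connectedComponent isClosed_connectedComponent
    exact hconn.isPreconnected.subset_connectedComponent
      (show r xΩ ∈ connectedComponent xb from mem_connectedComponent)
  -- step 1
  have h1 : qK '' connectedComponent xΩ ⊆ connectedComponent x' := by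
    have hpre : _root_.IsPreconnected (qK '' connectedComponent xΩ) :=
      isPreconnected_connectedComponent.image _ qK.continuous.continuousOn
    exact hpre.subset_connectedComponent ⟨xΩ, mem_connectedComponent, hxΩ⟩
  intro z hz
  obtain ⟨w, hw, rfl⟩ := h3 hz
  obtain ⟨v, rfl⟩ := hrs w
  have hv : v ∈ connectedComponent xΩ := h2 hw
  refine ⟨qK v, h1 ⟨v, hv, rfl⟩, ?_⟩
  rw [← Scheme.Hom.comp_apply, hqK1, ← hr1, Scheme.Hom.comp_apply]

end Groth.Agent.Lib.Helper21.SCmp
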