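import Mathlib
import Groth.Agent.Lib.Helper21.SCmp20

/-!
# Components of the fibres of a smooth morphism meeting the image of a universally open
morphism
-/

set_option autoImplicit false
set_option linter.style.haveILetI false
set_option linter.unusedSectionVars false
universe u

open AlgebraicGeometry CategoryTheory Limits TopologicalSpace Topology IsLocalRing

namespace Groth.Agent.Lib.Helper21.SCmp

open Groth.Agent.Lib.Helper21.BaseChg

/-- connected components of a fibre: subspace versus scheme-theoretic fibre -/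
theorem preimage_connectedComponentIn_fiberι {X Y : Scheme.{u}} (f : X ⟶ Y) (v : Y)
    (c : f.fiber v) :
    (f.fiberι v) ⁻¹' (connectedComponentIn (f ⁻¹' {v}) (f.fiberι v c)) =
      connectedComponent c := by
  have hsv : f.fiberι v c ∈ f ⁻¹' {v} := (f.fiberHomeo v c).2
  have h1 : (f.fiberHomeo v) '' connectedComponent c =
      connectedComponent (f.fiberHomeo v c) := by
    have := (f.fiberHomeo v).image_connectedComponentIn (s := Set.univ) (x := c) trivial
    rwa [connectedComponentIn_univ, Set.image_univ, (f.fiberHomeo v).surjective.range_eq,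
      connectedComponentIn_univ] at this
  have hc' : (⟨f.fiberι v c, hsv⟩ : f ⁻¹' {v}) = f.fiberHomeo v c := rfl
  ext z
  rw [Set.mem_preimage, connectedComponentIn_eq_image hsv, hc', ← h1]
  constructor
  · rintro ⟨w, ⟨z', hz', rfl⟩, hwz⟩
    have : z' = z := (f.fiberι v).isEmbedding.injective hwz
    rw [← this]
    exact hz'
  · intro hz
    exact ⟨f.fiberHomeo v z, ⟨z, hz, rfl⟩, rfl⟩

/-- **the section components of a smooth quasi-separated morphism are open** -/
theorem isOpen_sectionComponents_of_smooth' {X Y : Scheme.{u}}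
    (f : X ⟶ Y) [Smooth f] [QuasiSeparated f] (s : Y ⟶ X) (hs : s ≫ f = 𝟙 Y) :
    IsOpen (MoreMor.sectionComponents f s) := by
  rw [isOpen_iff_mem_nhds]
  intro x hx
  obtain ⟨_, ⟨V, hV, rfl⟩, hxV, -⟩ := Y.isBasis_affineOpens.exists_subset_of_mem_open
    (Set.mem_univ (f x)) isOpen_univ
  have key : ∀ (V : Y.Opens), IsAffineOpen V → f x ∈ V →
      MoreMor.sectionComponents f s ∈ 𝓝 x := by
    intro V hV hxV
    haveI : IsAffine V.toScheme := hV
    obtain ⟨s₀, hs₀, hss⟩ := exists_restrict_section f s hs V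
    have hpb : IsPullback (f ⁻¹ᵁ V).ι (f ∣_ V) f V.ι := (isPullback_morphismRestrict f V).flip
    have hSC : MoreMor.sectionComponents (f ∣_ V) s₀ =
        (f ⁻¹ᵁ V).ι ⁻¹' MoreMor.sectionComponents f s :=
      sectionComponents_of_isPullback' hpb s hs s₀ hs₀ hss
    haveI : QuasiSeparated (f ∣_ V) := inferInstance
    haveI : QuasiSeparatedSpace (f ⁻¹ᵁ V).toScheme :=
      (quasiSeparated_iff_quasiSeparatedSpace (f ∣_ V)).mp inferInstance
    let x₀ : (f ⁻¹ᵁ V).toScheme := ⟨x, hxV⟩
    have hx₀ : (f ⁻¹ᵁ V).ι x₀ = x := rfl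
    have hx₀SC : x₀ ∈ MoreMor.sectionComponents (f ∣_ V) s₀ := by
      rw [hSC]
      exact hx
    have h1 := subset_interior_of_smooth_of_isAffine (f ∣_ V) s₀ hs₀ ((f ∣_ V) x₀) hx₀SC
    rw [hSC] at h1
    have hopen : IsOpen ((f ⁻¹ᵁ V).ι '' interior ((f ⁻¹ᵁ V).ι ⁻¹' MoreMor.sectionComponents f s)) :=
      (f ⁻¹ᵁ V).ι.isOpenEmbedding.isOpenMap _ isOpen_interior
    have hsub : (f ⁻¹ᵁ V).ι '' interior ((f ⁻¹ᵁ V).ι ⁻¹' MoreMor.sectionComponents f s) ⊆
        MoreMor.sectionComponents f s := by
      rintro _ ⟨z, hz, rfl⟩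
      have hz' : z ∈ (f ⁻¹ᵁ V).ι ⁻¹' MoreMor.sectionComponents f s := interior_subset hz
      exact hz'
    exact Filter.mem_of_superset (hopen.mem_nhds ⟨x₀, h1, hx₀⟩) hsub
  exact key V hV hxV

/-- the image of the component of a point of a fibre of a base change contains the component
of the image point -/
theorem connectedComponentIn_subset_image_of_isPullback {X Y X' Y' : Scheme.{u}} {f : X ⟶ Y}
    {f' : X' ⟶ Y'} {p : X' ⟶ X} {g : Y' ⟶ Y} [LocallyOfFiniteType f]
    (hsq : IsPullback p f' f g) (s' : Y') (x' : X') (hx' : f' x' = s') :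
    connectedComponentIn (f ⁻¹' {g s'}) (p x') ⊆
      p '' connectedComponentIn (f' ⁻¹' {s'}) x' := by
  subst hx'
  obtain ⟨t, hpb, ht⟩ := exists_fiber_isPullback hsq (f' x')
  letI alg : Algebra (IsLocalRing.ResidueField (Y.presheaf.stalk (g (f' x'))))
      (Y'.residueField (f' x')) := (g.residueFieldMap (f' x')).hom.toAlgebra
  let φ : f.fiber (g (f' x')) ⟶ Spec (CommRingCat.of (IsLocalRing.ResidueField
      (Y.presheaf.stalk (g (f' x'))))) := f.fiberToSpecResidueField (g (f' x'))
  haveI hφlft : LocallyOfFiniteType φ :=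
    show LocallyOfFiniteType (pullback.snd f (Y.fromSpecResidueField (g (f' x')))) from
      inferInstance
  have hpb' : IsPullback t (f'.fiberToSpecResidueField (f' x')) φ
      (Spec.map (CommRingCat.ofHom (algebraMap (IsLocalRing.ResidueField
        (Y.presheaf.stalk (g (f' x')))) (Y'.residueField (f' x'))))) := hpb
  let e : f'.fiber (f' x') ≅ FBase.bc φ (Y'.residueField (f' x')) := hpb'.isoPullback
  have he1 : e.hom ≫ FBase.bcπ φ (Y'.residueField (f' x')) = t := hpb'.isoPullback_hom_fst
  have htz : ∀ w : f'.fiber (f' x'), f.fiberι (g (f' x')) (t w) = p (f'.fiberι (f' x') w) := by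
    intro w
    rw [← Scheme.Hom.comp_apply, ht, Scheme.Hom.comp_apply]
  let c' : f'.fiber (f' x') := f'.asFiber x'
  have hc' : f'.fiberι (f' x') c' = x' := f'.fiberι_asFiber x'
  have hc : f.fiberι (g (f' x')) (t c') = p x' := by rw [htz, hc']
  intro z hz
  have hzF0 : z ∈ f ⁻¹' {g (f' x')} := connectedComponentIn_subset _ _ hz
  obtain ⟨zf, hzf⟩ : z ∈ Set.range (f.fiberι (g (f' x'))) := by
    rw [Scheme.Hom.range_fiberι]; exact hzF0
  have hzf' : zf ∈ connectedComponent (t c') := by
    rw [← preimage_connectedComponentIn_fiberι, Set.mem_preimage, hzf, hc]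
    exact hz
  have hbc := connectedComponent_subset_image_bcπ φ (Y'.residueField (f' x')) (e.hom c')
  have h1 : (FBase.bcπ φ (Y'.residueField (f' x'))) (e.hom c') = t c' := by
    have h := congrArg (fun ψ : f'.fiber (f' x') ⟶ f.fiber (g (f' x')) => ψ c') he1
    simpa using h
  rw [h1] at hbc
  obtain ⟨w, hw, hwz⟩ := hbc hzf'
  -- transport back along the isomorphism
  have hw' : e.inv w ∈ connectedComponent c' := by
    have h2 : e.inv '' connectedComponent (e.hom c') ⊆ connectedComponent (e.inv (e.hom c')) :=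
      (isPreconnected_connectedComponent.image _ e.inv.continuous.continuousOn
        ).subset_connectedComponent ⟨e.hom c', mem_connectedComponent, rfl⟩
    have h3 : e.inv (e.hom c') = c' := by
      rw [← Scheme.Hom.comp_apply, e.hom_inv_id]
      rfl
    rw [h3] at h2
    exact h2 ⟨w, hw, rfl⟩
  have h4 : t (e.inv w) = zf := by
    rw [← he1, Scheme.Hom.comp_apply, ← Scheme.Hom.comp_apply e.inv e.hom, e.inv_hom_id]
    exact hwz
  refine ⟨f'.fiberι (f' x') (e.inv w), ?_, ?_⟩
  · have h5 : e.inv w ∈ (f'.fiberι (f' x')) ⁻¹'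
        (connectedComponentIn (f' ⁻¹' {f' x'}) (f'.fiberι (f' x') c')) := by
      rw [preimage_connectedComponentIn_fiberι]
      exact hw'
    rw [hc'] at h5
    exact h5
  · rw [← htz, h4, hzf]

/-- **components of the fibres meeting the image of a universally open morphism** -/
theorem exists_opens_components {S S' X : Scheme.{u}} (f : X ⟶ S) [Smooth f] [QuasiCompact f]
    [QuasiSeparated f] (g : S' ⟶ S) [UniversallyOpen g] (e : S' ⟶ X) (he : e ≫ f = g) :
    ∃ U : X.Opens, ∀ s : S, (U : Set ↥X) ∩ f.base ⁻¹' {s} =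
      ⋃ x ∈ Set.range e.base ∩ f.base ⁻¹' {s}, connectedComponentIn (f.base ⁻¹' {s}) x := by
  let f' := pullback.snd f g
  let p := pullback.fst f g
  have hsq : IsPullback p f' f g := IsPullback.of_hasPullback f g
  let e' : S' ⟶ pullback f g := pullback.lift e (𝟙 S') (by rw [he, Category.id_comp])
  have he'1 : e' ≫ f' = 𝟙 S' := pullback.lift_snd _ _ _
  have he'2 : e' ≫ p = e := pullback.lift_fst _ _ _
  haveI : Smooth f' := inferInstance
  haveI : QuasiSeparated f' := inferInstance
  haveI : UniversallyOpen p := inferInstance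
  have hopen : IsOpen (MoreMor.sectionComponents f' e') :=
    isOpen_sectionComponents_of_smooth' f' e' he'1
  have hfp : ∀ z' : ↥(pullback f g), f (p z') = g (f' z') := by
    intro z'
    rw [← Scheme.Hom.comp_apply, hsq.w, Scheme.Hom.comp_apply]
  have hpe : ∀ s' : S', p (e' s') = e s' := by
    intro s'
    rw [← Scheme.Hom.comp_apply, he'2]
  have hfe : ∀ s' : S', f (e s') = g s' := by
    intro s'
    rw [← Scheme.Hom.comp_apply, he]
  have hf'e' : ∀ s' : S', f' (e' s') = s' := section_apply f' e' he'1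
  refine ⟨⟨p '' MoreMor.sectionComponents f' e', p.isOpenMap _ hopen⟩, fun s => ?_⟩
  apply Set.Subset.antisymm
  · rintro z ⟨⟨z', hz', rfl⟩, hzs⟩
    have hzs' : f (p z') = s := hzs
    set s' := f' z' with hs'
    have hz'C : z' ∈ connectedComponentIn (f' ⁻¹' {s'}) (e' s') := hz'
    have hgs : g s' = s := by rw [← hfp, hzs']
    refine Set.mem_iUnion₂.mpr ⟨e s', ⟨⟨s', rfl⟩, ?_⟩, ?_⟩
    · change f (e s') = s
      rw [hfe, hgs]
    · have hpre : _root_.IsPreconnected (p '' connectedComponentIn (f' ⁻¹' {s'}) (e' s')) :=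
        isPreconnected_connectedComponentIn.image _ p.continuous.continuousOn
      refine hpre.subset_connectedComponentIn ?_ ?_ ⟨z', hz'C, rfl⟩
      · rw [← hpe]
        exact ⟨e' s', mem_connectedComponentIn (hf'e' s'), rfl⟩
      · rintro _ ⟨w, hw, rfl⟩
        have hw0 : w ∈ f' ⁻¹' {s'} := connectedComponentIn_subset _ _ hw
        have hw1 : f' w = s' := hw0
        change f (p w) = s
        rw [hfp, hw1, hgs]
  · intro z hz
    obtain ⟨x, ⟨⟨s', rfl⟩, hxs⟩, hzC⟩ := Set.mem_iUnion₂.mp hz
    have hxs' : f (e s') = s := hxs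
    have hgs : g s' = s := by rw [← hfe, hxs']
    subst hgs
    have hzF0 : z ∈ f ⁻¹' {g s'} := connectedComponentIn_subset _ _ hzC
    refine ⟨?_, hzF0⟩
    have key := connectedComponentIn_subset_image_of_isPullback hsq s' (e' s') (hf'e' s')
    rw [hpe] at key
    obtain ⟨z', hz', rfl⟩ := key hzC
    refine ⟨z', ?_, rfl⟩
    have hz'0 : z' ∈ f' ⁻¹' {s'} := connectedComponentIn_subset _ _ hz'
    have hz'1 : f' z' = s' := hz'0
    change z' ∈ connectedComponentIn (f' ⁻¹' {f' z'}) (e' (f' z'))
    rw [hz'1]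
    exact hz'

end Groth.Agent.Lib.Helper21.SCmp
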