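import Mathlib
import Groth.Agent.Lib.Helper21.SCmp28
import Groth.Agent.Lib.Helper21.RedFib3
import Groth.Agent.Lib.Helper21.SCmp15

set_option autoImplicit false
set_option linter.style.haveILetI false
set_option linter.unusedSectionVars false
universe u
open AlgebraicGeometry CategoryTheory Limits TopologicalSpace IsLocalRing TensorProduct

namespace Groth.Agent.Lib.Helper21.SCmp

/-- cancelling a monomorphism on the target -/
theorem gRAt_comp_mono_iff {X Y Z : Scheme.{u}} (g : X ⟶ Y) (i : Y ⟶ Z) [Mono i] (ξ : X) :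
    GRAt (g ≫ i) ξ ↔ GRAt g ξ := by
  have h0 : IsPullback (𝟙 X) g g (𝟙 Y) := IsPullback.of_id_fst
  have h1 := isPullback_comp_mono h0 i
  rw [Category.id_comp] at h1
  exact (gRAt_iff_of_isPullback h1 ξ).symm

/-- the image of the point of the spectrum of a field -/
theorem specMap_field_asIdeal {R K : Type u} [CommRing R] [Field K] (χ : R →+* K)
    (t : Spec (CommRingCat.of K)) :
    (show PrimeSpectrum R from (Spec.map (CommRingCat.ofHom χ)) t).asIdeal = RingHom.ker χ := by
  have ht : (show PrimeSpectrum K from t).asIdeal = ⊥ := by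
    have := (show PrimeSpectrum K from t).2
    exact (Ideal.eq_bot_or_top _).resolve_right this.ne_top
  change Ideal.comap χ (show PrimeSpectrum K from t).asIdeal = _
  rw [ht, RingHom.ker_eq_comap_bot]


/-- affine core: reducedness of local rings of the source of a flat finitely presented morphism
with geometrically reduced fibres, over the points where the target is reduced -/
theorem isReduced_stalk_of_spec {A' B' A : Type u} [CommRing A'] [CommRing B'] [CommRing A]
    [Algebra A' B'] [Algebra A' A] [Module.Flat A' B'] [Algebra.FinitePresentation A' B']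
    [_root_.IsReduced A]
    [Flat (Spec.map (CommRingCat.ofHom (algebraMap A' A)))]
    [IsPreimmersion (Spec.map (CommRingCat.ofHom (algebraMap A' A)))]
    (hall : ∀ ξ, GRAt (Spec.map (CommRingCat.ofHom (algebraMap A' B'))) ξ)
    (q : Spec (CommRingCat.of B')) (s : Spec (CommRingCat.of A))
    (hq : (Spec.map (CommRingCat.ofHom (algebraMap A' B'))) q =
      (Spec.map (CommRingCat.ofHom (algebraMap A' A))) s) :
    _root_.IsReduced ((Spec (CommRingCat.of B')).presheaf.stalk q) := by
  let g := Spec.map (CommRingCat.ofHom (algebraMap A' B'))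
  let a := Spec.map (CommRingCat.ofHom (algebraMap A' A))
  let gA := Spec.map (CommRingCat.ofHom (algebraMap A (A ⊗[A'] B')))
  let j' := Spec.map (CommRingCat.ofHom
    (Algebra.TensorProduct.includeRight (R := A') (A := A) (B := B')).toRingHom)
  have hpb0 : IsPullback gA j' a g :=
    isPullback_SpecMap_of_isPushout _ _ _ _ (CommRingCat.isPushout_tensorProduct A' A B')
  have hpb : IsPullback j' gA g a := hpb0.flip
  haveI : Flat j' := MorphismProperty.of_isPullback (P := @Flat) hpb0 inferInstance
  haveI : IsPreimmersion j' := MorphismProperty.of_isPullback (P := @IsPreimmersion) hpb0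
    inferInstance
  have hallA : ∀ ξ, GRAt gA ξ := fun ξ => (gRAt_iff_of_isPullback hpb ξ).mpr (hall _)
  -- the fibres of `gA` are reduced
  have hfib : ∀ (P : Ideal A) [P.IsPrime], _root_.IsReduced (P.ResidueField ⊗[A] (A ⊗[A'] B')) := by
    intro P _
    let sP : Spec (CommRingCat.of A) := (⟨P, inferInstance⟩ : PrimeSpectrum A)
    have hg : GeometricallyReduced (gA.fiberToSpecResidueField sP) := by
      refine (geometricallyReduced_iff_forall
        (k := (Spec (CommRingCat.of A)).residueField sP) _).mpr ?_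
      intro z
      exact (gRAt_iff_of_fiberι gA sP z).mp (hallA _)
    let ψ := Spec.map (CommRingCat.ofHom (algebraMap A P.ResidueField))
    have hψ : ∀ t, ψ t = sP := by
      intro t
      apply PrimeSpectrum.ext
      rw [specMap_field_asIdeal]
      exact Ideal.ker_algebraMap_residueField P
    have h1 : IsReduced (pullback gA ψ) :=
      Groth.Agent.Lib.Helper12.H12GeomRedNear.isReduced_pullback_of_geometricallyReduced_fiber gA sP
        hg P.ResidueField ψ (⊥ : PrimeSpectrum P.ResidueField) (hψ _)
    have h2 : _root_.IsReduced ((A ⊗[A'] B') ⊗[A] P.ResidueField) :=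
      (Groth.Agent.Lib.Helper12.H12GeomRedGen.isReduced_pullback_Spec_iff A (A ⊗[A'] B')
        P.ResidueField).mp h1
    exact isReduced_of_injective (Algebra.TensorProduct.comm A P.ResidueField (A ⊗[A'] B'))
      (Algebra.TensorProduct.comm A P.ResidueField (A ⊗[A'] B')).injective
  haveI : _root_.IsReduced (A ⊗[A'] B') := RedFib.isReduced_of_flat_of_reduced_fibres hfib
  obtain ⟨ξ, hξ1, hξ2⟩ := Scheme.exists_preimage_of_isPullback hpb q s hq
  have hbij := Groth.Agent.Lib.Helper1.FPS.stalkMap_bijective j' ξ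
  have hred : _root_.IsReduced ((Spec (CommRingCat.of B')).presheaf.stalk (j' ξ)) :=
    isReduced_of_injective (j'.stalkMap ξ).hom hbij.1
  have key : ∀ q', q' = q → _root_.IsReduced ((Spec (CommRingCat.of B')).presheaf.stalk q') →
      _root_.IsReduced ((Spec (CommRingCat.of B')).presheaf.stalk q) := by
    intro q' h
    subst h
    exact id
  exact key _ hξ1 hred


/-- **reducedness of the source**: for a flat morphism locally of finite presentation, if the
local ring of the target at `f x` is reduced and the fibre is geometrically reduced at `x`, the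
local ring of the source at `x` is reduced -/
theorem isReduced_stalk_of_gRAt {X Y : Scheme.{u}} (f : X ⟶ Y) [Flat f]
    [LocallyOfFinitePresentation f] (x : X)
    (hy : _root_.IsReduced (Y.presheaf.stalk (f x))) (hx : GRAt f x) :
    _root_.IsReduced (X.presheaf.stalk x) := by
  have hE := isOpen_gRAt f
  obtain ⟨_, ⟨(V : Y.Opens), hV', rfl⟩, hfxV, -⟩ :=
    Y.isBasis_affineOpens.exists_subset_of_mem_open (Set.mem_univ (f x)) isOpen_univ
  have hV : IsAffineOpen V := hV'
  have hxmem : x ∈ {x | GRAt f x} ∩ ((f ⁻¹ᵁ V : X.Opens) : Set X) := ⟨hx, hfxV⟩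
  obtain ⟨_, ⟨(U : X.Opens), hU', rfl⟩, hxU, hUsub⟩ :=
    X.isBasis_affineOpens.exists_subset_of_mem_open hxmem (hE.inter (f ⁻¹ᵁ V).2)
  have hU : IsAffineOpen U := hU'
  have e : U ≤ f ⁻¹ᵁ V := fun z hz => (hUsub hz).2
  let φ := f.appLE V U e
  have hφflat : φ.hom.Flat :=
    HasRingHomProperty.appLE (P := @Flat) f inferInstance ⟨V, hV⟩ ⟨U, hU⟩ e
  have hφfp : φ.hom.FinitePresentation :=
    HasRingHomProperty.appLE (P := @LocallyOfFinitePresentation) f inferInstance ⟨V, hV⟩ ⟨U, hU⟩ e
  letI : Algebra Γ(Y, V) Γ(X, U) := φ.hom.toAlgebra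
  haveI : Module.Flat Γ(Y, V) Γ(X, U) := hφflat
  haveI : Algebra.FinitePresentation Γ(Y, V) Γ(X, U) := hφfp
  letI : Algebra Γ(Y, V) (Y.presheaf.stalk (f x)) := Y.presheaf.algebra_section_stalk ⟨f x, hfxV⟩
  haveI := hV.isLocalization_stalk ⟨f x, hfxV⟩
  let a := Spec.map (CommRingCat.ofHom (algebraMap Γ(Y, V) (Y.presheaf.stalk (f x))))
  let g := Spec.map (CommRingCat.ofHom (algebraMap Γ(Y, V) Γ(X, U)))
  have ha : a ≫ hV.fromSpec = Y.fromSpecStalk (f x) := hV.fromSpecStalk_eq_fromSpecStalk hfxV
  have hg : g ≫ hV.fromSpec = hU.fromSpec ≫ f := hV.SpecMap_appLE_fromSpec f hU e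
  haveI : IsPreimmersion (a ≫ hV.fromSpec) := by rw [ha]; infer_instance
  haveI : IsPreimmersion a := IsPreimmersion.of_comp a hV.fromSpec
  haveI : Flat a := by
    refine Flat.SpecMap_iff.mpr ?_
    show Module.Flat Γ(Y, V) (Y.presheaf.stalk (f x))
    exact IsLocalization.flat _ (hV.primeIdealOf ⟨f x, hfxV⟩).asIdeal.primeCompl
  have hall : ∀ ξ, GRAt g ξ := by
    intro ξ
    rw [← gRAt_comp_mono_iff g hV.fromSpec, hg, gRAt_ι_comp_iff]
    have : hU.fromSpec ξ ∈ (U : Set X) := by
      rw [← hU.range_fromSpec]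
      exact ⟨ξ, rfl⟩
    exact (hUsub this).1
  let q : Spec Γ(X, U) := hU.primeIdealOf ⟨x, hxU⟩
  have hq : hU.fromSpec q = x := hU.fromSpec_primeIdealOf ⟨x, hxU⟩
  let s : Spec (Y.presheaf.stalk (f x)) := closedPoint (Y.presheaf.stalk (f x))
  have hqs : g q = a s := by
    apply hV.fromSpec.isOpenEmbedding.injective
    rw [← Scheme.Hom.comp_apply, ← Scheme.Hom.comp_apply, hg, ha, Scheme.Hom.comp_apply, hq,
      Scheme.fromSpecStalk_closedPoint]
  have hred := isReduced_stalk_of_spec (A' := Γ(Y, V)) (B' := Γ(X, U))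
    (A := Y.presheaf.stalk (f x)) hall q s hqs
  have hbij : Function.Bijective (hU.fromSpec.stalkMap q).hom :=
    ConcreteCategory.bijective_of_isIso _
  have h1 : _root_.IsReduced (X.presheaf.stalk (hU.fromSpec q)) :=
    isReduced_of_injective (hU.fromSpec.stalkMap q).hom hbij.1
  have key : ∀ x', x' = x → _root_.IsReduced (X.presheaf.stalk x') →
      _root_.IsReduced (X.presheaf.stalk x) := by
    intro x' h
    subst h
    exact id
  exact key _ hq h1

end Groth.Agent.Lib.Helper21.SCmp
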