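import Groth.Agent.Lib.Helper21.GGCrit

/-!
# `h⁰(M) + h⁰(N) ≤ h⁰(M ⊗ N) + 1` on an integral proper curve over an algebraically closed field

By induction on `h⁰(N)`, twisting `N` down by a general point.
-/

set_option autoImplicit false
set_option linter.style.haveILetI false
set_option linter.unusedSectionVars false
universe u
open CategoryTheory CategoryTheory.Limits AlgebraicGeometry TopologicalSpace Opposite

namespace Groth.Agent.Lib.Helper21.SecAdd

open Groth.Agent.Lib.Helper29.QCoh Groth.Agent.Lib.Lead.LinLES Groth.Agent.Lib.Lead.TwistExact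
  Groth.Agent.Lib.Helper21.CDeg Groth.Agent.Lib.Helper25.HypTwist
  Groth.Agent.Lib.Helper21.TwistDown Groth.Agent.Lib.Helper21.GGCrit

variable (k : Type u) [Field k] [IsAlgClosed k] (X : Scheme.{u}) [X.Over (Spec (CommRingCat.of k))]
  [IsIntegral X] [IsProper (X ↘ (Spec (CommRingCat.of k)))]

theorem finite_HH_zero (N : X.Modules) (hN : PicF.IsInvertible N) :
    Module.Finite k (Coh.HH X N 0) :=
  Groth.Agent.S0002.result k X _
    ⟨isQuasicoherent_of_isInvertible hN, isFiniteType_of_isInvertible hN⟩ 0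

/-- multiplication by a nonzero section does not decrease `h⁰` -/
theorem finrank_le_tensor (M N : X.Modules) (hM : PicF.IsInvertible M)
    (hN : PicF.IsInvertible N) (t : unitM X ⟶ N) (ht : t ≠ 0) :
    Module.finrank k (Coh.HH X M 0) ≤ Module.finrank k (Coh.HH X (CohB1.tensorMod M N) 0) := by
  haveI := finite_HH_zero k X _ (isInvertible_tensorMod hM hN)
  have h0 : tmulRightHom M t ≠ 0 := tmulRightHom_ne_zero hM hN t ht
  haveI hmono : Mono (tmulRightHom M t) :=
    mono_of_ne_zero hM (isInvertible_tensorMod hM hN) _ h0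
  have hinj : Function.Injective (Canon.HHlin k (tmulRightHom M t) 0) := by
    have happ := (mono_iff_app_injective (tmulRightHom M t)).mp hmono ⊤
    intro x y hxy
    apply (hh0 _).injective
    apply happ
    rw [← hh0_map k (tmulRightHom M t), ← hh0_map k (tmulRightHom M t), hxy]
  exact LinearMap.finrank_le_finrank_of_injective hinj

theorem aux (hdim : topologicalKrullDim X = 1) : ∀ (a : ℕ) (N : X.Modules)
    (_ : PicF.IsInvertible N), Module.finrank k (Coh.HH X N 0) = a + 1 →
    ∀ (M : X.Modules) (_ : PicF.IsInvertible M), 0 < Module.finrank k (Coh.HH X M 0) →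
      Module.finrank k (Coh.HH X M 0) + (a + 1) ≤
        Module.finrank k (Coh.HH X (CohB1.tensorMod M N) 0) + 1 := by
  intro a
  induction a with
  | zero =>
    intro N hN hNa M hM _
    obtain ⟨t, ht⟩ := exists_section_ne_zero k X N (by omega)
    have := finrank_le_tensor k X M N hM hN t ht
    omega
  | succ a ih =>
    intro N hN hNa M hM hMpos
    obtain ⟨t, ht⟩ := exists_section_ne_zero k X N (by omega)
    obtain ⟨σ, hσ⟩ := exists_section_ne_zero k X M hMpos
    have hξ : genericPoint X ∈ CohB1.genLocus M σ ⊓ CohB1.genLocus N t :=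
      ⟨genericPoint_mem_genLocus hM σ hσ, genericPoint_mem_genLocus hN t ht⟩
    obtain ⟨q, hq, hqV, hcart⟩ := Groth.Agent.Lib.Helper21.RegPt.exists_closed_cartier_point k X
      hdim (CohB1.genLocus M σ ⊓ CohB1.genLocus N t) ⟨_, hξ⟩
    have hJ := isInvertible_idealMod _ hcart
    have hN1 := isInvertible_tensorMod hJ hN
    have hMN := isInvertible_tensorMod hM hN
    have e1 := (finrank_eq_iff_exists_mem_genLocus k X q hq N hN).mpr ⟨t, hqV.2⟩
    have e2 := (finrank_eq_iff_exists_mem_genLocus k X q hq (CohB1.tensorMod M N) hMN).mpr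
      ⟨SecTwist.tmulHom σ t, by rw [genLocus_tmulHom hM hN]; exact hqV⟩
    have h1 := ih _ hN1 (by omega) M hM hMpos
    have e3 : Module.finrank k (Coh.HH X (CohB1.tensorMod M (CohB1.tensorMod
        (ClSub.idealMod (Scheme.IdealSheafData.vanishingIdeal ⟨{q}, hq⟩)) N)) 0) =
        Module.finrank k (Coh.HH X (CohB1.tensorMod
          (ClSub.idealMod (Scheme.IdealSheafData.vanishingIdeal ⟨{q}, hq⟩))
          (CohB1.tensorMod M N)) 0) :=
      (HHlinEquiv k ((tensorAssoc M _ N).symm ≪≫
        tensorCongr (tensorBraid M _) (Iso.refl N) ≪≫ tensorAssoc _ M N) 0).finrank_eq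
    omega

theorem main (hdim : topologicalKrullDim X = 1) (L L' : X.Modules) (hL : PicF.IsInvertible L)
    (hL' : PicF.IsInvertible L') (hs : Nontrivial (Coh.HH X L 0))
    (hs' : Nontrivial (Coh.HH X L' 0)) :
    Module.finrank k (Coh.HH X L 0) + Module.finrank k (Coh.HH X L' 0) ≤
      Module.finrank k (Coh.HH X (CohB1.tensorMod L L') 0) + 1 := by
  haveI := finite_HH_zero k X L hL
  haveI := finite_HH_zero k X L' hL'
  have h1 : 0 < Module.finrank k (Coh.HH X L 0) := Module.finrank_pos
  have h2 : 0 < Module.finrank k (Coh.HH X L' 0) := Module.finrank_pos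
  obtain ⟨a, ha⟩ : ∃ a, Module.finrank k (Coh.HH X L' 0) = a + 1 := ⟨_, (Nat.sub_add_cancel h2).symm⟩
  have := aux k X hdim a L' hL' ha L hL h1
  omega

end Groth.Agent.Lib.Helper21.SecAdd
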