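import Mathlib
import Groth.Agent.Lib.Helper12.ConstrTop

/-!
# A neighbourhood criterion in (locally) Noetherian spaces
-/

set_option autoImplicit false
set_option linter.style.haveILetI false
set_option linter.unusedSectionVars false
universe u

open AlgebraicGeometry CategoryTheory Limits TopologicalSpace

namespace Groth.Agent.Lib.Helper21.SecOpen

/-- in a Noetherian space, `E` is a neighbourhood of `x` as soon as `E` contains a nonempty open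
subset of every irreducible closed subset through `x` -/
theorem mem_nhds_of_forall_irreducible_closed {X : Type u} [TopologicalSpace X] [NoetherianSpace X]
    (x : X) {E : Set X}
    (H : ∀ Z : Set X, IsClosed Z → IsIrreducible Z → x ∈ Z →
      ∃ U : Set X, IsOpen U ∧ (U ∩ Z).Nonempty ∧ U ∩ Z ⊆ E) : E ∈ nhds x := by
  have key : ∀ Z : Set X, IsClosed Z → x ∈ Z → ∃ V : Set X, IsOpen V ∧ x ∈ V ∧ V ∩ Z ⊆ E := by
    apply Groth.Agent.Lib.Helper12.closed_induction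
    · intro h; exact h.elim
    · intro Z₁ Z₂ hZ₁ hZ₂ h₁ h₂ hx
      by_cases hx₁ : x ∈ Z₁ <;> by_cases hx₂ : x ∈ Z₂
      · obtain ⟨V₁, hV₁, hxV₁, hVE₁⟩ := h₁ hx₁
        obtain ⟨V₂, hV₂, hxV₂, hVE₂⟩ := h₂ hx₂
        refine ⟨V₁ ∩ V₂, hV₁.inter hV₂, ⟨hxV₁, hxV₂⟩, ?_⟩
        rintro z ⟨⟨hz₁, hz₂⟩, hz | hz⟩
        · exact hVE₁ ⟨hz₁, hz⟩
        · exact hVE₂ ⟨hz₂, hz⟩
      · obtain ⟨V₁, hV₁, hxV₁, hVE₁⟩ := h₁ hx₁
        refine ⟨V₁ ∩ Z₂ᶜ, hV₁.inter hZ₂.isOpen_compl, ⟨hxV₁, hx₂⟩, ?_⟩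
        rintro z ⟨⟨hz₁, hz₂⟩, hz | hz⟩
        · exact hVE₁ ⟨hz₁, hz⟩
        · exact (hz₂ hz).elim
      · obtain ⟨V₂, hV₂, hxV₂, hVE₂⟩ := h₂ hx₂
        refine ⟨V₂ ∩ Z₁ᶜ, hV₂.inter hZ₁.isOpen_compl, ⟨hxV₂, hx₁⟩, ?_⟩
        rintro z ⟨⟨hz₁, hz₂⟩, hz | hz⟩
        · exact (hz₂ hz).elim
        · exact hVE₂ ⟨hz₁, hz⟩
      · exact (hx.elim hx₁ hx₂).elim
    · intro Z hZ hZirr ih hx
      obtain ⟨U, hU, hne, hUE⟩ := H Z hZ hZirr hx
      by_cases hxU : x ∈ U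
      · exact ⟨U, hU, hxU, hUE⟩
      · obtain ⟨V, hV, hxV, hVE⟩ := ih (Z \ U) (hZ.sdiff hU) (by
          refine ⟨Set.sdiff_subset, fun h => ?_⟩
          obtain ⟨y, hyU, hyZ⟩ := hne
          exact (h hyZ).2 hyU) ⟨hx, hxU⟩
        refine ⟨V, hV, hxV, ?_⟩
        rintro z ⟨hzV, hzZ⟩
        by_cases hzU : z ∈ U
        · exact hUE ⟨hzU, hzZ⟩
        · exact hVE ⟨hzV, hzZ, hzU⟩
  obtain ⟨V, hV, hxV, hVE⟩ := key Set.univ isClosed_univ (Set.mem_univ x)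
  rw [Set.inter_univ] at hVE
  exact Filter.mem_of_superset (hV.mem_nhds hxV) hVE

/-- the same criterion in a locally Noetherian scheme -/
theorem mem_nhds_of_forall_irreducible_closed_scheme {X : Scheme.{u}} [IsLocallyNoetherian X]
    (x : X) {E : Set X}
    (H : ∀ Z : Set X, IsClosed Z → IsIrreducible Z → x ∈ Z →
      ∃ U : Set X, IsOpen U ∧ (U ∩ Z).Nonempty ∧ U ∩ Z ⊆ E) : E ∈ nhds x := by
  obtain ⟨W, hW, hxW, -⟩ := Opens.isBasis_iff_nbhd.mp X.isBasis_affineOpens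
    (show x ∈ (⊤ : X.Opens) from trivial)
  have hW : IsAffineOpen W := hW
  haveI : IsNoetherianRing Γ(X, W) := IsLocallyNoetherian.component_noetherian ⟨W, hW⟩
  haveI : NoetherianSpace ↥W := noetherianSpace_of_isAffineOpen W hW
  let x' : ↥W := ⟨x, hxW⟩
  have h1 : (Subtype.val ⁻¹' E : Set ↥W) ∈ nhds x' := by
    refine mem_nhds_of_forall_irreducible_closed x' ?_
    intro Z' hZ'cl hZ'irr hxZ'
    have hZirr : IsIrreducible (closure (Subtype.val '' Z' : Set X)) :=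
      (hZ'irr.image _ continuous_subtype_val.continuousOn).closure
    obtain ⟨U, hU, hne, hUE⟩ := H _ isClosed_closure hZirr
      (subset_closure ⟨x', hxZ', rfl⟩)
    refine ⟨Subtype.val ⁻¹' U, hU.preimage continuous_subtype_val, ?_, ?_⟩
    · obtain ⟨z, hzU, hzZ⟩ := hne
      obtain ⟨w, hwU, w', hw'Z, rfl⟩ := mem_closure_iff.mp hzZ U hU hzU
      exact ⟨w', hwU, hw'Z⟩
    · rintro z ⟨hzU, hzZ⟩
      exact hUE ⟨hzU, subset_closure ⟨z, hzZ, rfl⟩⟩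
  have h2 : Subtype.val '' (Subtype.val ⁻¹' E : Set ↥W) ∈ nhds x :=
    W.2.isOpenEmbedding_subtypeVal.isOpenMap.image_mem_nhds h1
  refine Filter.mem_of_superset h2 ?_
  rintro _ ⟨z, hz, rfl⟩
  exact hz

end Groth.Agent.Lib.Helper21.SecOpen
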