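import Mathlib
import Groth.Agent.Lib.Helper21.SecOpen4
import Groth.Agent.Lib.Helper21.GI14
import Groth.Agent.Lib.Helper18.GFl5

/-!
# Spreading out the generic component
-/

set_option autoImplicit false
set_option linter.style.haveILetI false
set_option linter.unusedSectionVars false
universe u

open AlgebraicGeometry CategoryTheory Limits TopologicalSpace IsLocalRing

namespace Groth.Agent.Lib.Helper21.SecOpen

open Groth.Agent.Lib.Helper21.OpenAt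

variable {X Y : Scheme.{u}}

set_option maxHeartbeats 1600000 in
/-- **spreading out**: the traces of `closure {ξ}` on the fibres over a neighbourhood of `τ` are
irreducible or empty on a given affine open -/
theorem exists_spread (f : X ⟶ Y) [LocallyOfFiniteType f] (g : Y ⟶ X)
    (hgi : ∀ (y : Y) (K : Type u) [Field K]
      [Algebra (IsLocalRing.ResidueField (Y.presheaf.stalk y)) K],
      IsIrreducible ((FBase.bcπ (f.fiberToSpecResidueField y) K ≫ f.fiberι y).base ⁻¹'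
        (connectedComponentIn (f.base ⁻¹' {y}) (g.base y))))
    (hred : ∀ (y : Y) (K : Type u) [Field K]
      [Algebra (IsLocalRing.ResidueField (Y.presheaf.stalk y)) K]
      (x' : ↥(FBase.bc (f.fiberToSpecResidueField y) K)),
      (FBase.bcπ (f.fiberToSpecResidueField y) K ≫ f.fiberι y).base x' ∈
        connectedComponentIn (f.base ⁻¹' {y}) (g.base y) →
      _root_.IsReduced ((FBase.bc (f.fiberToSpecResidueField y) K).presheaf.stalk x'))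
    (τ : Y) (ξ : X) (hξC : ξ ∈ connectedComponentIn (f.base ⁻¹' {τ}) (g.base τ))
    (hCeq : connectedComponentIn (f.base ⁻¹' {τ}) (g.base τ) = closure {ξ} ∩ f.base ⁻¹' {τ})
    (V₀ : Y.Opens) (hV₀ : IsAffineOpen V₀) (U₀ : X.Opens) (hU₀ : IsAffineOpen U₀)
    (hξU₀ : ξ ∈ U₀) (e : U₀ ≤ f ⁻¹ᵁ V₀) (W : Set X) (hW : IsOpen W) (hξW : ξ ∈ W) :
    ∃ V : Set Y, IsOpen V ∧ τ ∈ V ∧ ∀ t ∈ V,
      IsPreirreducible {z : X | z ∈ U₀ ∧ z ∈ closure ({ξ} : Set X) ∧ f z = t} ∧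
      ((∃ z : X, z ∈ U₀ ∧ z ∈ closure ({ξ} : Set X) ∧ f z = t) →
        ∃ z : X, z ∈ U₀ ∧ z ∈ closure ({ξ} : Set X) ∧ f z = t ∧ z ∈ W) := by
  classical
  have hfξ' : ξ ∈ f.base ⁻¹' {τ} := connectedComponentIn_subset _ _ hξC
  have hfξ : f ξ = τ := hfξ'
  have hτV₀ : τ ∈ V₀ := by rw [← hfξ]; exact e hξU₀
  -- the geometric point
  let Ω := AlgebraicClosure (IsLocalRing.ResidueField (Y.presheaf.stalk τ))
  let φτ := f.fiberToSpecResidueField τ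
  let p : FBase.bc φτ Ω ⟶ X := FBase.bcπ φτ Ω ≫ f.fiberι τ
  let q : FBase.bc φτ Ω ⟶ Spec (CommRingCat.of Ω) := FBase.bcStr φτ Ω
  let a : Spec (CommRingCat.of Ω) ⟶ Y :=
    Spec.map (CommRingCat.ofHom (algebraMap (IsLocalRing.ResidueField (Y.presheaf.stalk τ)) Ω)) ≫
      Y.fromSpecResidueField τ
  have H : IsPullback p q f a :=
    (IsPullback.of_hasPullback φτ _).paste_horiz
      (IsPullback.of_hasPullback f (Y.fromSpecResidueField τ))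
  have haτ : ∀ s, a s = τ := fun s => by
    change (Spec.map _ ≫ Y.fromSpecResidueField τ) s = τ
    rw [Scheme.Hom.comp_apply, Scheme.fromSpecResidueField_apply]
  have hfp : ∀ x' : ↥(FBase.bc φτ Ω), f (p x') = τ := fun x' => by
    have := congrArg (fun φ : FBase.bc φτ Ω ⟶ Y => φ x') H.w
    simp only [Scheme.Hom.comp_apply] at this
    rw [this, haτ]
  have hirrC : IsIrreducible (p.base ⁻¹' connectedComponentIn (f.base ⁻¹' {τ}) (g.base τ)) :=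
    hgi τ Ω
  have hredC : ∀ x' : ↥(FBase.bc φτ Ω),
      p x' ∈ connectedComponentIn (f.base ⁻¹' {τ}) (g.base τ) →
      _root_.IsReduced ((FBase.bc φτ Ω).presheaf.stalk x') := hred τ Ω
  have hpC : ∀ x' : ↥(FBase.bc φτ Ω),
      p x' ∈ connectedComponentIn (f.base ⁻¹' {τ}) (g.base τ) ↔ ξ ⤳ p x' := by
    intro x'
    rw [hCeq, specializes_iff_mem_closure]
    exact ⟨fun h => h.1, fun h => ⟨h, hfp x'⟩⟩
  -- the affine open of the base change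
  let UY : (FBase.bc φτ Ω).Opens := p ⁻¹ᵁ U₀ ⊓ q ⁻¹ᵁ ⊤
  have hUST : (⊤ : (Spec (CommRingCat.of Ω)).Opens) ≤ a ⁻¹ᵁ V₀ := fun s _ => by
    change a s ∈ V₀
    rw [haτ]
    exact hτV₀
  have hUY : IsAffineOpen UY :=
    Groth.Agent.Lib.Helper18.GFl.isAffineOpen_of_isPullback H hV₀ (isAffineOpen_top _) hU₀ hUST e rfl
  have hpush := Groth.Agent.Lib.Helper18.GFl.isPushout_appLE_of_isPullback H hV₀
    (isAffineOpen_top _) hU₀ hUST e (rfl : UY = p ⁻¹ᵁ U₀ ⊓ q ⁻¹ᵁ ⊤)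
  have hUYle : UY ≤ p ⁻¹ᵁ U₀ := inf_le_left
  have hUYmem : ∀ x' : ↥(FBase.bc φτ Ω), x' ∈ UY ↔ p x' ∈ U₀ := by
    intro x'
    exact ⟨fun h => h.1, fun h => ⟨h, trivial⟩⟩
  -- replace `Γ(Spec Ω, ⊤)` by `Ω`
  let eΩ := Scheme.ΓSpecIso (CommRingCat.of Ω)
  have hpush' : IsPushout (f.appLE V₀ U₀ e) (a.appLE V₀ ⊤ hUST ≫ eΩ.hom)
      (p.appLE U₀ UY hUYle) (eΩ.inv ≫ q.appLE ⊤ UY inf_le_right) := by
    refine hpush.of_iso (Iso.refl _) (Iso.refl _) eΩ (Iso.refl _) ?_ ?_ ?_ ?_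
    · simp
    · simp
    · simp
    · simp
  -- the primes
  obtain ⟨𝔮pt, h𝔮pt⟩ := exists_fromSpec_eq hU₀ ξ hξU₀
  haveI : 𝔮pt.asIdeal.IsPrime := 𝔮pt.isPrime
  have hpj : ∀ r : PrimeSpectrum Γ(FBase.bc φτ Ω, UY),
      p (hUY.fromSpec r) = hU₀.fromSpec (PrimeSpectrum.comap (p.appLE U₀ UY hUYle).hom r) :=
    fun r => map_fromSpec p hUY hU₀ hUYle r
  have hzl : ∀ r : PrimeSpectrum Γ(FBase.bc φτ Ω, UY),
      𝔮pt.asIdeal.map (p.appLE U₀ UY hUYle).hom ≤ r.asIdeal ↔ ξ ⤳ p (hUY.fromSpec r) := by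
    intro r
    rw [Ideal.map_le_iff_le_comap, hpj, ← h𝔮pt, fromSpec_specializes_iff]
    rfl
  have hzl' : ∀ r : PrimeSpectrum Γ(FBase.bc φτ Ω, UY),
      𝔮pt.asIdeal.map (p.appLE U₀ UY hUYle).hom ≤ r.asIdeal ↔
        p (hUY.fromSpec r) ∈ connectedComponentIn (f.base ⁻¹' {τ}) (g.base τ) := by
    intro r
    rw [hzl, hpC]
  -- irreducibility
  have hirr : IsIrreducible (PrimeSpectrum.zeroLocus
      (𝔮pt.asIdeal.map (p.appLE U₀ UY hUYle).hom : Set Γ(FBase.bc φτ Ω, UY))) := by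
    have hset : PrimeSpectrum.zeroLocus
        (𝔮pt.asIdeal.map (p.appLE U₀ UY hUYle).hom : Set Γ(FBase.bc φτ Ω, UY)) =
        hUY.fromSpec.base ⁻¹'
          (p.base ⁻¹' connectedComponentIn (f.base ⁻¹' {τ}) (g.base τ)) := by
      ext r
      rw [PrimeSpectrum.mem_zeroLocus, SetLike.coe_subset_coe, hzl']
      rfl
    rw [hset]
    refine ⟨?_, hirrC.isPreirreducible.preimage hUY.fromSpec.isOpenEmbedding⟩
    -- a point above `ξ`
    obtain ⟨s₀⟩ : Nonempty ↥(Spec (CommRingCat.of Ω)) := inferInstance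
    obtain ⟨z, hz1, -⟩ := Scheme.Pullback.exists_preimage_pullback (f := f) (g := a) ξ s₀
      (by rw [hfξ, haτ])
    let x' : ↥(FBase.bc φτ Ω) := H.isoPullback.inv z
    have hx' : p x' = ξ := by
      change p (H.isoPullback.inv z) = ξ
      rw [← Scheme.Hom.comp_apply, H.isoPullback_inv_fst]
      exact hz1
    have hx'UY : x' ∈ UY := (hUYmem x').mpr (by rw [hx']; exact hξU₀)
    obtain ⟨r, hr⟩ := exists_fromSpec_eq hUY x' hx'UY
    refine ⟨r, ?_⟩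
    change p (hUY.fromSpec r) ∈ connectedComponentIn (f.base ⁻¹' {τ}) (g.base τ)
    rw [hr, hx']
    exact hξC
  -- stability under generisation
  have hgen : ∀ r r' : PrimeSpectrum Γ(FBase.bc φτ Ω, UY),
      𝔮pt.asIdeal.map (p.appLE U₀ UY hUYle).hom ≤ r.asIdeal → r'.asIdeal ≤ r.asIdeal →
      𝔮pt.asIdeal.map (p.appLE U₀ UY hUYle).hom ≤ r'.asIdeal := by
    intro r r' hr hr'r
    rw [hzl'] at hr ⊢
    have hsp : hUY.fromSpec r' ⤳ hUY.fromSpec r := (fromSpec_specializes_iff hUY r' r).mpr hr'r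
    have hsp' : p (hUY.fromSpec r') ⤳ p (hUY.fromSpec r) := hsp.map p.continuous
    have h1 := closure_inter_fiber_subset_connectedComponentIn f _ _ hsp'
      (by rw [hfp, hfp])
    have h2 := h1 ⟨subset_closure rfl, show f (p (hUY.fromSpec r')) = f (p (hUY.fromSpec r)) by
      rw [hfp, hfp]⟩
    rw [hfp, ← connectedComponentIn_eq hr] at h2
    exact h2
  -- reducedness
  have hredR : ∀ r : PrimeSpectrum Γ(FBase.bc φτ Ω, UY),
      𝔮pt.asIdeal.map (p.appLE U₀ UY hUYle).hom ≤ r.asIdeal →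
      _root_.IsReduced (Localization.AtPrime r.asIdeal) := by
    intro r hr
    rw [hzl'] at hr
    haveI hst : _root_.IsReduced ((FBase.bc φτ Ω).presheaf.stalk (hUY.fromSpec r)) :=
      hredC _ hr
    letI := TopCat.Presheaf.algebra_section_stalk (FBase.bc φτ Ω).presheaf
      ⟨hUY.fromSpec r, fromSpec_mem hUY r⟩
    haveI hloc : IsLocalization r.asIdeal.primeCompl
        ((FBase.bc φτ Ω).presheaf.stalk (hUY.fromSpec r)) :=
      hUY.isLocalization_stalk' r (fromSpec_mem hUY r)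
    let eL : Localization.AtPrime r.asIdeal ≃ₐ[Γ(FBase.bc φτ Ω, UY)]
        (FBase.bc φτ Ω).presheaf.stalk (hUY.fromSpec r) :=
      IsLocalization.algEquiv r.asIdeal.primeCompl _ _
    exact isReduced_of_injective eL.toAlgHom.toRingHom eL.injective
  -- the kernel
  have hker : RingHom.ker (a.appLE V₀ ⊤ hUST ≫ eΩ.hom).hom =
      𝔮pt.asIdeal.comap (f.appLE V₀ U₀ e).hom := by
    obtain ⟨s₀⟩ : Nonempty ↥(Spec (CommRingCat.of Ω)) := inferInstance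
    have h1 : hV₀.fromSpec (PrimeSpectrum.comap (f.appLE V₀ U₀ e).hom 𝔮pt) = τ := by
      rw [← map_fromSpec f hU₀ hV₀ e 𝔮pt, h𝔮pt, hfξ]
    have h2 : hV₀.fromSpec ((Spec.map (a.appLE V₀ ⊤ hUST ≫ eΩ.hom)) s₀) = τ := by
      rw [← Scheme.Hom.comp_apply, Spec.map_comp, Category.assoc,
        IsAffineOpen.SpecMap_appLE_fromSpec a hV₀ (isAffineOpen_top _) hUST,
        Scheme.Hom.comp_apply, Scheme.Hom.comp_apply, haτ]
    have h3 := fromSpec_injective hV₀ (h1.trans h2.symm)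
    have h4 : (PrimeSpectrum.comap (f.appLE V₀ U₀ e).hom 𝔮pt).asIdeal =
        ((Spec.map (a.appLE V₀ ⊤ hUST ≫ eΩ.hom)) s₀).asIdeal := congrArg _ h3
    have h5 : ((Spec.map (a.appLE V₀ ⊤ hUST ≫ eΩ.hom)) s₀).asIdeal =
        s₀.asIdeal.comap (a.appLE V₀ ⊤ hUST ≫ eΩ.hom).hom := rfl
    have h6 : s₀.asIdeal = ⊥ := by
      have := s₀.isPrime
      rcases Ideal.eq_bot_or_top s₀.asIdeal with h | h
      · exact h
      · exact absurd h this.ne_top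
    rw [RingHom.ker_eq_comap_bot, ← h6, ← h5, ← h4]
    rfl
  -- finite type
  have hft : (f.appLE V₀ U₀ e).hom.FiniteType :=
    HasRingHomProperty.appLE (P := @LocallyOfFiniteType) f inferInstance ⟨V₀, hV₀⟩ ⟨U₀, hU₀⟩ e
  -- the element `g₁`
  obtain ⟨g₁, hg₁W, hξg₁⟩ := hU₀.exists_basicOpen_le (V := ⟨W, hW⟩) ⟨ξ, hξW⟩ hξU₀
  have hg₁𝔮 : g₁ ∉ 𝔮pt.asIdeal := by
    rw [← fromSpec_mem_basicOpen_iff hU₀ g₁ 𝔮pt, h𝔮pt]
    exact hξg₁
  haveI : IsAlgClosed Ω := inferInstance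
  obtain ⟨a₀, ha₀, Hmain⟩ := Groth.Agent.Lib.Helper21.GI.exists_isPreirreducible_fibre_of_isPushout
    (f.appLE V₀ U₀ e).hom hft (a.appLE V₀ ⊤ hUST ≫ eΩ.hom).hom (p.appLE U₀ UY hUYle).hom
    (eΩ.inv ≫ q.appLE ⊤ UY inf_le_right).hom hpush' 𝔮pt.asIdeal hker hirr hgen hredR g₁ hg₁𝔮
  -- the open subset of `Y`
  have h𝔭τ : hV₀.fromSpec (PrimeSpectrum.comap (f.appLE V₀ U₀ e).hom 𝔮pt) = τ := by
    rw [← map_fromSpec f hU₀ hV₀ e 𝔮pt, h𝔮pt, hfξ]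
  refine ⟨(Y.basicOpen a₀ : Set Y), (Y.basicOpen a₀).isOpen, ?_, ?_⟩
  · rw [← h𝔭τ]
    exact (fromSpec_mem_basicOpen_iff hV₀ a₀ _).mpr ha₀
  intro t ht
  have htV₀ : t ∈ V₀ := Y.basicOpen_le a₀ ht
  obtain ⟨𝔱, h𝔱⟩ := exists_fromSpec_eq hV₀ t htV₀
  have ha₀𝔱 : a₀ ∉ 𝔱.asIdeal := by
    rw [← fromSpec_mem_basicOpen_iff hV₀ a₀ 𝔱, h𝔱]
    exact ht
  obtain ⟨hpre, hne⟩ := Hmain 𝔱 ha₀𝔱
  -- translation of the set
  have hset : {z : X | z ∈ U₀ ∧ z ∈ closure ({ξ} : Set X) ∧ f z = t} =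
      hU₀.fromSpec.base '' {𝔷 : PrimeSpectrum Γ(X, U₀) | 𝔮pt.asIdeal ≤ 𝔷.asIdeal ∧
        PrimeSpectrum.comap (f.appLE V₀ U₀ e).hom 𝔷 = 𝔱} := by
    ext z
    constructor
    · rintro ⟨hzU, hzcl, hfz⟩
      obtain ⟨𝔷, rfl⟩ := exists_fromSpec_eq hU₀ z hzU
      refine ⟨𝔷, ⟨?_, ?_⟩, rfl⟩
      · rw [← fromSpec_specializes_iff hU₀, h𝔮pt]
        exact specializes_iff_mem_closure.mpr hzcl
      · apply fromSpec_injective hV₀
        rw [← map_fromSpec f hU₀ hV₀ e 𝔷, h𝔱]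
        exact hfz
    · rintro ⟨𝔷, ⟨h1, h2⟩, rfl⟩
      refine ⟨fromSpec_mem hU₀ 𝔷, ?_, ?_⟩
      · rw [← specializes_iff_mem_closure, ← h𝔮pt]
        exact (fromSpec_specializes_iff hU₀ 𝔮pt 𝔷).mpr h1
      · change f (hU₀.fromSpec 𝔷) = t
        rw [map_fromSpec f hU₀ hV₀ e 𝔷, h2, h𝔱]
  refine ⟨?_, ?_⟩
  · rw [hset]
    exact hpre.image _ hU₀.fromSpec.continuous.continuousOn
  · rintro ⟨z, hzU, hzcl, hfz⟩
    have hz : z ∈ {z : X | z ∈ U₀ ∧ z ∈ closure ({ξ} : Set X) ∧ f z = t} := ⟨hzU, hzcl, hfz⟩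
    rw [hset] at hz
    obtain ⟨𝔷, ⟨h1, h2⟩, -⟩ := hz
    obtain ⟨𝔷', h1', h2', h3'⟩ := hne ⟨𝔷, h1, h2⟩
    have hz' : hU₀.fromSpec 𝔷' ∈ {z : X | z ∈ U₀ ∧ z ∈ closure ({ξ} : Set X) ∧ f z = t} := by
      rw [hset]
      exact ⟨𝔷', ⟨h1', h2'⟩, rfl⟩
    refine ⟨hU₀.fromSpec 𝔷', hz'.1, hz'.2.1, hz'.2.2, ?_⟩
    exact hg₁W ((fromSpec_mem_basicOpen_iff hU₀ g₁ 𝔷').mpr h3')

end Groth.Agent.Lib.Helper21.SecOpen
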