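import Mathlib
import Groth.Agent.Lib.Helper21.SecOpen5
import Groth.Agent.Lib.Helper21.SecOpen2

/-!
# EGA IV 15.6.8, second part: openness of the union of the components through the section
-/

set_option autoImplicit false
set_option linter.style.haveILetI false
set_option linter.unusedSectionVars false
universe u

open AlgebraicGeometry CategoryTheory Limits TopologicalSpace IsLocalRing

namespace Groth.Agent.Lib.Helper21.SecOpen

open Groth.Agent.Lib.Helper21.OpenAt Groth.Agent.Lib.Helper21.SecBC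

variable {X Y : Scheme.{u}}

/-- around a point `ζ` of `X⁰`, the closure of the generic point of the component of the fibre
through `ζ` is contained in `X⁰` -/
theorem exists_open_inter_closure_subset (f : X ⟶ Y) [LocallyOfFiniteType f] (g : Y ⟶ X)
    (hg : g ≫ f = 𝟙 Y)
    (hgi : ∀ (y : Y) (K : Type u) [Field K]
      [Algebra (IsLocalRing.ResidueField (Y.presheaf.stalk y)) K],
      IsIrreducible ((FBase.bcπ (f.fiberToSpecResidueField y) K ≫ f.fiberι y).base ⁻¹'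
        (connectedComponentIn (f.base ⁻¹' {y}) (g.base y))))
    (hred : ∀ (y : Y) (K : Type u) [Field K]
      [Algebra (IsLocalRing.ResidueField (Y.presheaf.stalk y)) K]
      (x' : ↥(FBase.bc (f.fiberToSpecResidueField y) K)),
      (FBase.bcπ (f.fiberToSpecResidueField y) K ≫ f.fiberι y).base x' ∈
        connectedComponentIn (f.base ⁻¹' {y}) (g.base y) →
      _root_.IsReduced ((FBase.bc (f.fiberToSpecResidueField y) K).presheaf.stalk x'))
    (ζ : X) (hζ : ζ ∈ MoreMor.sectionComponents f g) :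
    ∃ (ξ : X) (O : Set X), IsOpen O ∧ ζ ∈ O ∧ ζ ∈ closure ({ξ} : Set X) ∧
      O ∩ closure ({ξ} : Set X) ⊆ MoreMor.sectionComponents f g := by
  classical
  have hfg : ∀ y : Y, f (g y) = y := fun y => section_apply f g hg y
  rw [mem_sectionComponents_iff] at hζ
  obtain ⟨τ, hτ⟩ : ∃ τ, f ζ = τ := ⟨_, rfl⟩
  rw [hτ] at hζ
  have hirr := isIrreducible_sectionComponent f g hgi τ
  obtain ⟨ξ, -, hξC, hCeq, -, -, -⟩ := exists_generic_sectionComponent f g hg τ hirr
  have hfξ' : ξ ∈ f.base ⁻¹' {τ} := connectedComponentIn_subset _ _ hξC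
  have hfξ : f ξ = τ := hfξ'
  have hζcl : ζ ∈ closure ({ξ} : Set X) := by
    rw [hCeq] at hζ
    exact hζ.1
  have hgτcl : g τ ∈ closure ({ξ} : Set X) := by
    have : g τ ∈ connectedComponentIn (f.base ⁻¹' {τ}) (g.base τ) :=
      mem_connectedComponentIn (hfg τ)
    rw [hCeq] at this
    exact this.1
  have hξζ : ξ ⤳ ζ := specializes_iff_mem_closure.mpr hζcl
  have hξgτ : ξ ⤳ g τ := specializes_iff_mem_closure.mpr hgτcl
  -- affine opens
  obtain ⟨V₀, hV₀, hτV₀, -⟩ := Opens.isBasis_iff_nbhd.mp Y.isBasis_affineOpens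
    (show τ ∈ (⊤ : Y.Opens) from trivial)
  have hV₀ : IsAffineOpen V₀ := hV₀
  obtain ⟨U₁, hU₁, hgτU₁, hU₁le⟩ := Opens.isBasis_iff_nbhd.mp X.isBasis_affineOpens
    (show g τ ∈ f ⁻¹ᵁ V₀ by change f (g τ) ∈ V₀; rw [hfg]; exact hτV₀)
  have hU₁ : IsAffineOpen U₁ := hU₁
  obtain ⟨U₀, hU₀, hζU₀, hU₀le⟩ := Opens.isBasis_iff_nbhd.mp X.isBasis_affineOpens
    (show ζ ∈ f ⁻¹ᵁ V₀ by change f ζ ∈ V₀; rw [hτ]; exact hτV₀)
  have hU₀ : IsAffineOpen U₀ := hU₀
  have hξU₁ : ξ ∈ U₁ := hξgτ.mem_open U₁.isOpen hgτU₁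
  have hξU₀ : ξ ∈ U₀ := hξζ.mem_open U₀.isOpen hζU₀
  -- a general fact: a preirreducible piece of a fibre meeting `X_t⁰` lies in `X_t⁰`
  have hpiece : ∀ (t : Y) (F : Set X), IsPreirreducible F → F ⊆ f.base ⁻¹' {t} →
      ∀ w ∈ F, w ∈ MoreMor.sectionComponents f g → ∀ z ∈ F,
        z ∈ MoreMor.sectionComponents f g := by
    intro t F hF hFt w hwF hw z hzF
    have hfw : f w = t := hFt hwF
    rw [mem_sectionComponents_iff, hfw] at hw
    have h1 : F ⊆ connectedComponentIn (f.base ⁻¹' {t}) w :=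
      hF.isPreconnected.subset_connectedComponentIn hwF hFt
    have h2 := h1 hzF
    rw [← connectedComponentIn_eq hw] at h2
    exact mem_sectionComponents_of_mem f g t z h2
  -- step 1: around `g τ`
  obtain ⟨V', hV'o, hτV', HV'⟩ := exists_spread f g hgi hred τ ξ hξC hCeq V₀ hV₀ U₁ hU₁ hξU₁
    hU₁le Set.univ isOpen_univ trivial
  let W' : Set X := (U₁ : Set X) ∩ f.base ⁻¹' (V' ∩ g.base ⁻¹' (U₁ : Set X))
  have hW'o : IsOpen W' :=
    U₁.isOpen.inter ((hV'o.inter (U₁.isOpen.preimage g.continuous)).preimage f.continuous)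
  have hξW' : ξ ∈ W' := by
    refine ⟨hξU₁, ?_, ?_⟩
    · change f ξ ∈ V'
      rw [hfξ]; exact hτV'
    · change g (f ξ) ∈ (U₁ : Set X)
      rw [hfξ]; exact hgτU₁
  have hW'sub : W' ∩ closure ({ξ} : Set X) ⊆ MoreMor.sectionComponents f g := by
    rintro z ⟨⟨hzU₁, hfzV', hgfz⟩, hzcl⟩
    have hfzV' : f z ∈ V' := hfzV'
    have hgfz : g (f z) ∈ (U₁ : Set X) := hgfz
    obtain ⟨hpre, -⟩ := HV' (f z) hfzV'
    have hξz : ξ ⤳ z := specializes_iff_mem_closure.mpr hzcl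
    have hgt : g (f z) ∈ closure ({ξ} : Set X) := by
      have h1 : f ξ ⤳ f z := hξz.map f.continuous
      rw [hfξ] at h1
      have h2 : g τ ⤳ g (f z) := h1.map g.continuous
      exact specializes_iff_mem_closure.mp (hξgτ.trans h2)
    refine hpiece (f z) _ hpre (fun w hw => hw.2.2) (g (f z)) ⟨hgfz, hgt, hfg _⟩ ?_ z
      ⟨hzU₁, hzcl, rfl⟩
    rw [mem_sectionComponents_iff, hfg]
    exact mem_connectedComponentIn (hfg _)
  -- step 2: around `ζ`
  obtain ⟨V, hVo, hτV, HV⟩ := exists_spread f g hgi hred τ ξ hξC hCeq V₀ hV₀ U₀ hU₀ hξU₀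
    hU₀le W' hW'o hξW'
  refine ⟨ξ, (U₀ : Set X) ∩ f.base ⁻¹' V, U₀.isOpen.inter (hVo.preimage f.continuous),
    ⟨hζU₀, by change f ζ ∈ V; rw [hτ]; exact hτV⟩, hζcl, ?_⟩
  rintro z ⟨⟨hzU₀, hfzV⟩, hzcl⟩
  have hfzV : f z ∈ V := hfzV
  obtain ⟨hpre, hne⟩ := HV (f z) hfzV
  obtain ⟨w, hwU₀, hwcl, hfw, hwW'⟩ := hne ⟨z, hzU₀, hzcl, rfl⟩
  exact hpiece (f z) _ hpre (fun w hw => hw.2.2) w ⟨hwU₀, hwcl, hfw⟩ (hW'sub ⟨hwW', hwcl⟩) z
    ⟨hzU₀, hzcl, rfl⟩

/-- **second part of EGA IV 15.6.8** -/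
theorem isOpen_sectionComponents [IsLocallyNoetherian Y] (f : X ⟶ Y) [LocallyOfFiniteType f]
    (g : Y ⟶ X) (hg : g ≫ f = 𝟙 Y)
    (hgi : ∀ (y : Y) (K : Type u) [Field K]
      [Algebra (IsLocalRing.ResidueField (Y.presheaf.stalk y)) K],
      IsIrreducible ((FBase.bcπ (f.fiberToSpecResidueField y) K ≫ f.fiberι y).base ⁻¹'
        (connectedComponentIn (f.base ⁻¹' {y}) (g.base y))))
    (hred : ∀ (y : Y) (K : Type u) [Field K]
      [Algebra (IsLocalRing.ResidueField (Y.presheaf.stalk y)) K]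
      (x' : ↥(FBase.bc (f.fiberToSpecResidueField y) K)),
      (FBase.bcπ (f.fiberToSpecResidueField y) K ≫ f.fiberι y).base x' ∈
        connectedComponentIn (f.base ⁻¹' {y}) (g.base y) →
      _root_.IsReduced ((FBase.bc (f.fiberToSpecResidueField y) K).presheaf.stalk x'))
    (hopen : ∀ x ∈ MoreMor.sectionComponents f g, EGA43.IsUnivOpenAt f x) :
    IsOpen (MoreMor.sectionComponents f g) := by
  haveI : IsLocallyNoetherian X := LocallyOfFiniteType.isLocallyNoetherian f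
  rw [isOpen_iff_mem_nhds]
  intro x hx
  refine mem_nhds_of_forall_irreducible_closed_scheme x ?_
  intro Z hZcl hZirr hxZ
  obtain ⟨ζ, hζ⟩ := QuasiSober.sober hZirr hZcl
  have hζx : ζ ⤳ x := by
    rw [specializes_iff_mem_closure, hζ.def]
    exact hxZ
  have hζmem := mem_sectionComponents_of_specializes f g hg hgi hred hopen x ζ hx hζx
  obtain ⟨ξ, O, hO, hζO, hζcl, hOsub⟩ :=
    exists_open_inter_closure_subset f g hg hgi hred ζ hζmem
  have hZsub : Z ⊆ closure ({ξ} : Set X) := by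
    rw [← hζ.def]
    exact closure_minimal (Set.singleton_subset_iff.mpr hζcl) isClosed_closure
  have hζZ : ζ ∈ Z := by
    rw [← hζ.def]
    exact subset_closure rfl
  exact ⟨O, hO, ⟨ζ, hζO, hζZ⟩, fun z hz => hOsub ⟨hz.1, hZsub hz.2⟩⟩

end Groth.Agent.Lib.Helper21.SecOpen
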