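import Mathlib.LinearAlgebra.Eigenspace.Semisimple
import Mathlib.LinearAlgebra.Eigenspace.Zero
import Mathlib.Algebra.DirectSum.Module
import Mathlib.LinearAlgebra.DFinsupp
import Mathlib.LinearAlgebra.Matrix.Charpoly.Univ
import Mathlib.LinearAlgebra.Charpoly.ToMatrix
import Mathlib.LinearAlgebra.Matrix.NonsingularInverse

/-!
# Semisimple endomorphisms over an algebraically closed field with equal characteristic polynomials
are conjugate; characteristic polynomial is constant on Zariski closures of conjugation orbits.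
-/

set_option autoImplicit false
open Module DirectSum

namespace Groth.Agent.Lib.Helper21

theorem exists_equiv_of_charpoly_eq {K V : Type*} [Field K] [IsAlgClosed K] [AddCommGroup V] [Module K V]
    [FiniteDimensional K V] (s₁ s₂ : Module.End K V) (h₁ : s₁.IsSemisimple) (h₂ : s₂.IsSemisimple)
    (hcp : s₁.charpoly = s₂.charpoly) :
    ∃ A : V ≃ₗ[K] V, A.toLinearMap ∘ₗ s₁ = s₂ ∘ₗ A.toLinearMap := by
  classical
  have hfin : ∀ μ : K, finrank K (s₁.eigenspace μ) = finrank K (s₂.eigenspace μ) := by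
    intro μ
    rw [← h₁.isFinitelySemisimple.maxGenEigenspace_eq_eigenspace μ,
      ← h₂.isFinitelySemisimple.maxGenEigenspace_eq_eigenspace μ,
      LinearMap.finrank_maxGenEigenspace_eq, LinearMap.finrank_maxGenEigenspace_eq, hcp]
  let e : ∀ μ : K, s₁.eigenspace μ ≃ₗ[K] s₂.eigenspace μ := fun μ => LinearEquiv.ofFinrankEq _ _ (hfin μ)
  have hI₁ : DirectSum.IsInternal (fun μ : K => s₁.eigenspace μ) :=
    DirectSum.isInternal_submodule_of_iSupIndep_of_iSup_eq_top s₁.eigenspaces_iSupIndep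
      h₁.iSup_eigenspace_eq_top
  have hI₂ : DirectSum.IsInternal (fun μ : K => s₂.eigenspace μ) :=
    DirectSum.isInternal_submodule_of_iSupIndep_of_iSup_eq_top s₂.eigenspaces_iSupIndep
      h₂.iSup_eigenspace_eq_top
  let Φ₁ : (⨁ μ : K, s₁.eigenspace μ) ≃ₗ[K] V := LinearEquiv.ofBijective (DirectSum.coeLinearMap _) hI₁
  let Φ₂ : (⨁ μ : K, s₂.eigenspace μ) ≃ₗ[K] V := LinearEquiv.ofBijective (DirectSum.coeLinearMap _) hI₂
  let M : (⨁ μ : K, s₁.eigenspace μ) ≃ₗ[K] (⨁ μ : K, s₂.eigenspace μ) := DFinsupp.mapRange.linearEquiv e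
  refine ⟨Φ₁.symm ≪≫ₗ M ≪≫ₗ Φ₂, ?_⟩
  -- check after precomposing with Φ₁
  have key : ∀ x : (⨁ μ : K, s₁.eigenspace μ), Φ₂ (M x) = (Φ₁.symm ≪≫ₗ M ≪≫ₗ Φ₂) (Φ₁ x) := by
    intro x; simp
  have hmain : ((Φ₁.symm ≪≫ₗ M ≪≫ₗ Φ₂).toLinearMap ∘ₗ s₁) ∘ₗ Φ₁.toLinearMap =
      (s₂ ∘ₗ (Φ₁.symm ≪≫ₗ M ≪≫ₗ Φ₂).toLinearMap) ∘ₗ Φ₁.toLinearMap := by
    apply DirectSum.linearMap_ext
    intro μ
    ext v
    have hv : s₁ (v : V) = μ • (v : V) := Module.End.mem_eigenspace_iff.mp v.2
    have hΦ₁ : Φ₁ (DirectSum.lof K K (fun μ : K => s₁.eigenspace μ) μ v) = (v : V) :=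
      DirectSum.coeLinearMap_of _ μ v
    have hM : M (DirectSum.lof K K (fun μ : K => s₁.eigenspace μ) μ v) =
        DirectSum.lof K K (fun μ : K => s₂.eigenspace μ) μ (e μ v) := by
      change DFinsupp.mapRange (fun i x => e i x) (fun i => (e i).map_zero) (DFinsupp.single μ v) =
        (DFinsupp.single μ (e μ v) : Π₀ μ : K, s₂.eigenspace μ)
      rw [DFinsupp.mapRange_single]
    have hΦ₂ : Φ₂ (DirectSum.lof K K (fun μ : K => s₂.eigenspace μ) μ (e μ v)) = ((e μ v : s₂.eigenspace μ) : V) :=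
      DirectSum.coeLinearMap_of _ μ (e μ v)
    have hA : (Φ₁.symm ≪≫ₗ M ≪≫ₗ Φ₂) (v : V) = ((e μ v : s₂.eigenspace μ) : V) := by
      rw [← hΦ₁, ← key, hM, hΦ₂]
    have hev : s₂ ((e μ v : s₂.eigenspace μ) : V) = μ • ((e μ v : s₂.eigenspace μ) : V) :=
      Module.End.mem_eigenspace_iff.mp (e μ v).2
    simp only [LinearMap.coe_comp, LinearEquiv.coe_coe, Function.comp_apply]
    rw [hΦ₁, hv, map_smul, hA, hev]
  ext x
  obtain ⟨y, rfl⟩ := Φ₁.surjective x
  exact congrArg (fun f => f y) hmain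

open Matrix

theorem charpoly_toLin'_eq {K : Type*} [Field K] {n : ℕ} (S : Matrix (Fin n) (Fin n) K) :
    (Matrix.toLin' S).charpoly = S.charpoly := by
  rw [← LinearMap.charpoly_toMatrix (Matrix.toLin' S) (Pi.basisFun K (Fin n)),
    LinearMap.toMatrix_eq_toMatrix', LinearMap.toMatrix'_toLin']

theorem exists_conj_of_charpoly_eq {K : Type*} [Field K] [IsAlgClosed K] {n : ℕ}
    (S₁ S₂ : Matrix (Fin n) (Fin n) K) (h₁ : Module.End.IsSemisimple (Matrix.toLin' S₁))
    (h₂ : Module.End.IsSemisimple (Matrix.toLin' S₂)) (hcp : S₁.charpoly = S₂.charpoly) :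
    ∃ A : Matrix (Fin n) (Fin n) K, IsUnit A.det ∧ A * S₁ * A⁻¹ = S₂ := by
  classical
  obtain ⟨Al, hAl⟩ := exists_equiv_of_charpoly_eq (Matrix.toLin' S₁) (Matrix.toLin' S₂) h₁ h₂
    (by rw [charpoly_toLin'_eq, charpoly_toLin'_eq, hcp])
  set A := LinearMap.toMatrix' Al.toLinearMap with hA
  set A' := LinearMap.toMatrix' Al.symm.toLinearMap with hA'
  have hAA' : A * A' = 1 := by
    rw [hA, hA', ← LinearMap.toMatrix'_comp]
    have : Al.toLinearMap ∘ₗ Al.symm.toLinearMap = LinearMap.id := by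
      ext x; simp
    rw [this, LinearMap.toMatrix'_id]
  have hdet : IsUnit A.det := by
    have : A.det * A'.det = 1 := by rw [← Matrix.det_mul, hAA', Matrix.det_one]
    exact IsUnit.of_mul_eq_one _ this
  refine ⟨A, hdet, ?_⟩
  have hcomm : A * S₁ = S₂ * A := by
    have := congrArg LinearMap.toMatrix' hAl
    rw [LinearMap.toMatrix'_comp, LinearMap.toMatrix'_comp, LinearMap.toMatrix'_toLin',
      LinearMap.toMatrix'_toLin'] at this
    exact this
  rw [hcomm, Matrix.mul_nonsing_inv_cancel_right _ _ hdet]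

theorem eval_univ_coeff {K : Type*} [Field K] {n : ℕ} (X : Matrix (Fin n) (Fin n) K) (j : ℕ) :
    MvPolynomial.eval (fun p : Fin n × Fin n => X p.1 p.2) ((Matrix.charpoly.univ K (Fin n)).coeff j) =
      X.charpoly.coeff j := by
  have := Matrix.charpoly.univ_coeff_eval₂Hom (Fin n) (RingHom.id K) (fun p : Fin n × Fin n => X p.1 p.2) j
  have hX : Matrix.of (Function.curry (fun p : Fin n × Fin n => X p.1 p.2)) = X := by
    ext a b; rfl
  rw [hX] at this
  exact this

theorem charpoly_eq_of_mem_closure {K : Type*} [Field K] {n : ℕ} (B C : Matrix (Fin n) (Fin n) K)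
    (hC : ∀ F : MvPolynomial (Fin n × Fin n) K,
      (∀ A : Matrix (Fin n) (Fin n) K, IsUnit A.det →
        MvPolynomial.eval (fun p => (A * B * A⁻¹) p.1 p.2) F = 0) →
      MvPolynomial.eval (fun p => C p.1 p.2) F = 0) :
    C.charpoly = B.charpoly := by
  ext j
  have h := hC ((Matrix.charpoly.univ K (Fin n)).coeff j - MvPolynomial.C (B.charpoly.coeff j)) (by
    intro A hA
    rw [map_sub, eval_univ_coeff, MvPolynomial.eval_C, sub_eq_zero]
    congr 1
    rw [Matrix.charpoly_mul_comm, ← Matrix.mul_assoc, Matrix.nonsing_inv_mul A hA, Matrix.one_mul])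
  rw [map_sub, eval_univ_coeff, MvPolynomial.eval_C, sub_eq_zero] at h
  exact h

end Groth.Agent.Lib.Helper21
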