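import Mathlib

/-!
# An algebraic field extension `K/k` with `Ω ⊗[k] K` reduced (`Ω` algebraically closed) is separable
-/

set_option autoImplicit false
set_option linter.style.haveILetI false
set_option linter.unusedSectionVars false
universe u

open TensorProduct Polynomial

namespace Groth.Agent.Lib.Helper21.SepRed

theorem isSeparable_of_isReduced_tensor (k K Ω : Type*) [Field k] [Field K] [Algebra k K]
    [Algebra.IsAlgebraic k K] [Field Ω] [Algebra k Ω] [IsAlgClosed Ω] [IsReduced (Ω ⊗[k] K)] :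
    Algebra.IsSeparable k K := by
  classical
  refine ⟨fun a => ?_⟩
  have hint : IsIntegral k a := (Algebra.IsAlgebraic.isAlgebraic a).isIntegral
  show (minpoly k a).Separable
  set μ := minpoly k a with hμ
  have hμ0 : μ ≠ 0 := minpoly.ne_zero hint
  rw [← Polynomial.separable_map (algebraMap k Ω), PerfectField.separable_iff_squarefree]
  intro g hg
  obtain ⟨h, hh⟩ := hg
  by_contra hgu
  have hmap0 : μ.map (algebraMap k Ω) ≠ 0 :=
    (Polynomial.map_ne_zero_iff (algebraMap k Ω).injective).mpr hμ0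
  have hg0 : g ≠ 0 := by
    rintro rfl
    rw [zero_mul, zero_mul] at hh
    exact hmap0 hh
  have hh0 : h ≠ 0 := by
    rintro rfl
    rw [mul_zero] at hh
    exact hmap0 hh
  have hdeg : 0 < g.natDegree := by
    rw [Nat.pos_iff_ne_zero]
    intro h0
    apply hgu
    rw [Polynomial.isUnit_iff]
    rw [Polynomial.natDegree_eq_zero] at h0
    obtain ⟨c, rfl⟩ := h0
    refine ⟨c, ?_, rfl⟩
    rw [isUnit_iff_ne_zero]
    rintro rfl
    simp at hg0
  set q := g * h with hq
  have hq0 : q ≠ 0 := mul_ne_zero hg0 hh0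
  have hqdeg : q.natDegree < μ.natDegree := by
    have h1 : (μ.map (algebraMap k Ω)).natDegree = μ.natDegree := Polynomial.natDegree_map _
    have h2 : μ.map (algebraMap k Ω) = g * q := by rw [hh, hq]; ring
    rw [← h1, h2, Polynomial.natDegree_mul hg0 hq0]
    omega
  set t : Ω ⊗[k] K := aeval ((1 : Ω) ⊗ₜ[k] a) q with ht
  have hμt : aeval ((1 : Ω) ⊗ₜ[k] a) (μ.map (algebraMap k Ω)) = 0 := by
    rw [Polynomial.aeval_map_algebraMap]
    have := Polynomial.aeval_algHom_apply
      (Algebra.TensorProduct.includeRight : K →ₐ[k] Ω ⊗[k] K) a μ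
    rw [Algebra.TensorProduct.includeRight_apply] at this
    rw [this, hμ, minpoly.aeval, map_zero]
  have ht2 : t * t = 0 := by
    have : q * q = μ.map (algebraMap k Ω) * h := by rw [hh, hq]; ring
    rw [ht, ← map_mul, this, map_mul, hμt, zero_mul]
  have ht0 : t = 0 := IsReduced.eq_zero _ ⟨2, by rw [sq]; exact ht2⟩
  have hli : LinearIndependent Ω
      (fun i : Fin μ.natDegree => (1 : Ω) ⊗ₜ[k] (a ^ (i : ℕ))) :=
    Module.Flat.linearIndependent_one_tmul (S := Ω) (linearIndependent_pow a)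
  have hsum : t = ∑ i : Fin μ.natDegree, q.coeff i • ((1 : Ω) ⊗ₜ[k] (a ^ (i : ℕ))) := by
    rw [ht, Polynomial.aeval_eq_sum_range' hqdeg, Finset.sum_range]
    refine Finset.sum_congr rfl fun i _ => ?_
    rw [Algebra.TensorProduct.tmul_pow, one_pow]
  have hc : ∀ i : Fin μ.natDegree, q.coeff i = 0 :=
    Fintype.linearIndependent_iff.mp hli _ (hsum ▸ ht0)
  apply hq0
  ext i
  rw [Polynomial.coeff_zero]
  by_cases hi : i < μ.natDegree
  · exact hc ⟨i, hi⟩
  · exact Polynomial.coeff_eq_zero_of_natDegree_lt (lt_of_lt_of_le hqdeg (not_lt.mp hi))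

end Groth.Agent.Lib.Helper21.SepRed
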