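import Groth.Prelude.Def_SpSeq
import Mathlib.Algebra.Homology.ShortComplex.ModuleCat
import Mathlib.Algebra.Homology.SpectralSequence.Basic
import Mathlib.LinearAlgebra.FiniteDimensional.Lemmas
import Mathlib.Algebra.Category.ModuleCat.Kernels
import Mathlib.Algebra.Category.ModuleCat.EpiMono
import Mathlib.Algebra.Category.ModuleCat.Subobject
import Mathlib.Data.Int.Interval
import Mathlib.Data.Int.SuccPred
import Mathlib.Algebra.Order.BigOperators.Group.Finset

/-!
# helper21: dimension counts for spectral sequences of finite-dimensional vector spaces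
-/

set_option autoImplicit false

universe v u

open CategoryTheory CategoryTheory.Limits

namespace Groth.Agent.Lib.Helper21.SSFin

variable {K : Type u} [Field K]

section ShortComplex

variable (S : ShortComplex (ModuleCat.{v} K))

theorem finite_homology [Module.Finite K S.X₂] : Module.Finite K S.homology := by
  have e : S.homology ≃ₗ[K] (LinearMap.ker S.g.hom ⧸ LinearMap.range S.moduleCatToCycles) :=
    S.moduleCatHomologyIso.toLinearEquiv
  exact Module.Finite.equiv e.symm

theorem finrank_homology_add [Module.Finite K S.X₂] :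
    Module.finrank K S.homology + Module.finrank K (LinearMap.range S.f.hom) +
      Module.finrank K (LinearMap.range S.g.hom) = Module.finrank K S.X₂ := by
  have e : S.homology ≃ₗ[K] (LinearMap.ker S.g.hom ⧸ LinearMap.range S.moduleCatToCycles) :=
    S.moduleCatHomologyIso.toLinearEquiv
  rw [e.finrank_eq]
  have h1 := Submodule.finrank_quotient_add_finrank (LinearMap.range S.moduleCatToCycles)
  have h2 : Module.finrank K (LinearMap.range S.moduleCatToCycles) =
      Module.finrank K (LinearMap.range S.f.hom) := by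
    have e2 := Submodule.equivMapOfInjective (LinearMap.ker S.g.hom).subtype
      (Submodule.subtype_injective _) (LinearMap.range S.moduleCatToCycles)
    have h3 : Submodule.map (LinearMap.ker S.g.hom).subtype
        (LinearMap.range S.moduleCatToCycles) = LinearMap.range S.f.hom := by
      rw [← LinearMap.range_comp]
      rfl
    rw [e2.finrank_eq, h3]
  have h3 := LinearMap.finrank_range_add_finrank_ker S.g.hom
  omega

theorem eq_zero_of_finrank_homology_eq [Module.Finite K S.X₂]
    (h : Module.finrank K S.homology = Module.finrank K S.X₂) : S.f = 0 ∧ S.g = 0 := by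
  have h0 := finrank_homology_add S
  have hf : Module.finrank K (LinearMap.range S.f.hom) = 0 := by omega
  have hg : Module.finrank K (LinearMap.range S.g.hom) = 0 := by omega
  rw [Submodule.finrank_eq_zero, LinearMap.range_eq_bot] at hf hg
  exact ⟨ModuleCat.hom_ext hf, ModuleCat.hom_ext hg⟩

theorem finrank_homology_le [Module.Finite K S.X₂] :
    Module.finrank K S.homology ≤ Module.finrank K S.X₂ := by
  have h0 := finrank_homology_add S
  omega

end ShortComplex

section Pages

variable {r₀ : ℤ} (E : CohomologicalSpectralSequence (ModuleCat.{v} K) r₀)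

theorem d_eq_zero_of_sc (r : ℤ) (hr : r₀ ≤ r) (pq : ℤ × ℤ)
    (hf : ((E.page r hr).sc pq).f = 0) (hg : ((E.page r hr).sc pq).g = 0) :
    (E.page r hr).d (pq - (r, 1 - r)) pq = 0 ∧ (E.page r hr).d pq (pq + (r, 1 - r)) = 0 := by
  have hprev : (ComplexShape.up' ((r, 1 - r) : ℤ × ℤ)).prev pq = pq - (r, 1 - r) :=
    ComplexShape.prev_eq' _ (by simp [ComplexShape.up'])
  have hnext : (ComplexShape.up' ((r, 1 - r) : ℤ × ℤ)).next pq = pq + (r, 1 - r) :=
    ComplexShape.next_eq' _ (by simp [ComplexShape.up'])
  constructor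
  · change (E.page r hr).d ((ComplexShape.up' ((r, 1 - r) : ℤ × ℤ)).prev pq) pq = 0 at hf
    rwa [hprev] at hf
  · change (E.page r hr).d pq ((ComplexShape.up' ((r, 1 - r) : ℤ × ℤ)).next pq) = 0 at hg
    rwa [hnext] at hg

/-- one step: finiteness, dimension drop, and vanishing of the differentials in case of
equality. -/
theorem step (r : ℤ) (hr : r₀ ≤ r) (pq : ℤ × ℤ) [Module.Finite K ((E.page r hr).X pq)] :
    Module.Finite K ((E.page (r + 1) (by lia)).X pq) ∧
      Module.finrank K ((E.page (r + 1) (by lia)).X pq) ≤ Module.finrank K ((E.page r hr).X pq) ∧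
      (Module.finrank K ((E.page (r + 1) (by lia)).X pq) = Module.finrank K ((E.page r hr).X pq) →
        (E.page r hr).d (pq - (r, 1 - r)) pq = 0 ∧ (E.page r hr).d pq (pq + (r, 1 - r)) = 0) := by
  have hfin : Module.Finite K ((E.page r hr).sc pq).X₂ := ‹_›
  have e : ((E.page r hr).sc pq).homology ≃ₗ[K] (E.page (r + 1) (by lia)).X pq :=
    (E.iso r (r + 1) pq rfl hr).toLinearEquiv
  have hfh := finite_homology ((E.page r hr).sc pq)
  refine ⟨Module.Finite.equiv e, ?_, ?_⟩
  · rw [← e.finrank_eq]
    exact finrank_homology_le ((E.page r hr).sc pq)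
  · intro h
    rw [← e.finrank_eq] at h
    obtain ⟨hf, hg⟩ := eq_zero_of_finrank_homology_eq ((E.page r hr).sc pq) h
    exact d_eq_zero_of_sc E r hr pq hf hg

/-- all pages are finite-dimensional, dimensions decrease, and equality of dimensions forces the
vanishing of all intermediate differentials. -/
theorem pages (pq : ℤ × ℤ) [Module.Finite K ((E.page r₀ le_rfl).X pq)] (R : ℤ) (hR : r₀ ≤ R) :
    Module.Finite K ((E.page R hR).X pq) ∧
      Module.finrank K ((E.page R hR).X pq) ≤ Module.finrank K ((E.page r₀ le_rfl).X pq) ∧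
      (Module.finrank K ((E.page R hR).X pq) = Module.finrank K ((E.page r₀ le_rfl).X pq) →
        ∀ (r' : ℤ) (h₀ : r₀ ≤ r'), r' < R →
          (E.page r' h₀).d (pq - (r', 1 - r')) pq = 0 ∧
            (E.page r' h₀).d pq (pq + (r', 1 - r')) = 0) := by
  induction R, hR using Int.le_induction with
  | base =>
    refine ⟨‹_›, le_rfl, ?_⟩
    intro _ r' h₀ hlt
    omega
  | succ R hR ih =>
    obtain ⟨hfin, hle, hzero⟩ := ih
    obtain ⟨hfin', hle', hzero'⟩ := step E R hR pq
    refine ⟨hfin', hle'.trans hle, ?_⟩
    intro heq r' h₀ hlt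
    have h1 : Module.finrank K ((E.page (R + 1) (by lia)).X pq) =
        Module.finrank K ((E.page R hR).X pq) := by omega
    have h2 : Module.finrank K ((E.page R hR).X pq) =
        Module.finrank K ((E.page r₀ le_rfl).X pq) := by omega
    rcases lt_or_eq_of_le (Int.lt_add_one_iff.mp hlt) with hlt' | rfl
    · exact hzero h2 r' h₀ hlt'
    · exact hzero' h1

end Pages

section Filtration

variable {X : ModuleCat.{v} K}

theorem finite_subobject [Module.Finite K X] (S : Subobject X) :
    Module.Finite K ((S : ModuleCat.{v} K)) :=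
  Module.Finite.of_injective S.arrow.hom ((ModuleCat.mono_iff_injective S.arrow).mp inferInstance)

theorem finrank_top :
    Module.finrank K (((⊤ : Subobject X) : ModuleCat.{v} K)) = Module.finrank K X := by
  have : IsIso (⊤ : Subobject X).arrow := Subobject.isIso_top_arrow
  exact (asIso (⊤ : Subobject X).arrow).toLinearEquiv.finrank_eq

theorem finrank_bot : Module.finrank K (((⊥ : Subobject X) : ModuleCat.{v} K)) = 0 := by
  have h1 : IsZero (((⊥ : Subobject X) : ModuleCat.{v} K)) :=
    IsZero.of_iso (isZero_zero _) Subobject.botCoeIsoZero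
  have := ModuleCat.isZero_iff_subsingleton.mp h1
  exact Module.finrank_zero_of_subsingleton

theorem finrank_subquot [Module.Finite K X] (Z B : Subobject X) (h : B ≤ Z) :
    Module.finrank K ((SpSeq.subquot Z B h : ModuleCat.{v} K)) + Module.finrank K ((B : ModuleCat.{v} K)) =
      Module.finrank K ((Z : ModuleCat.{v} K)) := by
  have hZ := finite_subobject Z
  unfold SpSeq.subquot
  have e : (cokernel (B.ofLE Z h) : ModuleCat.{v} K) ≃ₗ[K]
      ((Z : ModuleCat.{v} K) ⧸ LinearMap.range (B.ofLE Z h).hom) :=
    (ModuleCat.cokernelIsoRangeQuotient (B.ofLE Z h)).toLinearEquiv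
  rw [e.finrank_eq]
  have hinj : Function.Injective (B.ofLE Z h).hom :=
    (ModuleCat.mono_iff_injective (B.ofLE Z h)).mp inferInstance
  have e2 := LinearEquiv.ofInjective (B.ofLE Z h).hom hinj
  rw [e2.finrank_eq]
  exact Submodule.finrank_quotient_add_finrank _

theorem finrank_fil_eq [Module.Finite K X] (F : ℤ → Subobject X) (hF : Antitone F) (A : ℤ)
    (k : ℕ) :
    Module.finrank K ((F A : ModuleCat.{v} K)) =
      ∑ p ∈ Finset.Ico A (A + k), Module.finrank K ((SpSeq.grPiece F hF p : ModuleCat.{v} K)) +
        Module.finrank K ((F (A + k) : ModuleCat.{v} K)) := by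
  induction k with
  | zero =>
    rw [Nat.cast_zero, add_zero, Finset.Ico_self, Finset.sum_empty, zero_add]
  | succ k ih =>
    have h1 : A + ((k + 1 : ℕ) : ℤ) = (A + k) + 1 := by push_cast; ring
    rw [h1, ← Finset.insert_Ico_right_eq_Ico_add_one (by lia : A ≤ A + k),
      Finset.sum_insert (by simp), ih]
    have h2 := finrank_subquot (F (A + k)) (F (A + k + 1)) (hF (Int.le_add_one le_rfl))
    unfold SpSeq.grPiece
    omega

/-- For a finite filtration: `dim X = Σ dim gr^p`. -/
theorem finrank_eq_sum_gr [Module.Finite K X] (F : ℤ → Subobject X) (hF : Antitone F) (A B : ℤ)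
    (hAB : A ≤ B) (hA : F A = ⊤) (hB : F B = ⊥) :
    Module.finrank K X = ∑ p ∈ Finset.Ico A B, Module.finrank K ((SpSeq.grPiece F hF p : ModuleCat.{v} K)) := by
  obtain ⟨k, rfl⟩ : ∃ k : ℕ, B = A + k := ⟨(B - A).toNat, by lia⟩
  have h := finrank_fil_eq F hF A k
  rw [hA, hB, finrank_top, finrank_bot, add_zero] at h
  exact h

end Filtration

end Groth.Agent.Lib.Helper21.SSFin
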