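import Mathlib
import Groth.Agent.Lib.Helper21.RegularLocal

/-!
# A homomorphism of Noetherian local rings which is surjective on spectra does not lower the
dimension
-/

set_option autoImplicit false
set_option linter.style.haveILetI false
set_option linter.unusedSectionVars false
universe u v

open IsLocalRing
open scoped Pointwise

namespace Groth.Agent.Lib.Helper21.SpecSurjDim

/-- surjectivity on spectra passes to quotients -/
theorem comap_quotientMap_surjective {A : Type u} {B : Type v} [CommRing A] [CommRing B]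
    (φ : A →+* B) (I : Ideal A) (K : Ideal B) (hIK : I ≤ K.comap φ)
    (h : ∀ 𝔭 : PrimeSpectrum A, I ≤ 𝔭.asIdeal →
      ∃ 𝔮 : PrimeSpectrum B, K ≤ 𝔮.asIdeal ∧ PrimeSpectrum.comap φ 𝔮 = 𝔭) :
    Function.Surjective (PrimeSpectrum.comap (Ideal.quotientMap K φ hIK)) := by
  intro P
  have hP : I ≤ (PrimeSpectrum.comap (Ideal.Quotient.mk I) P).asIdeal := by
    intro x hx
    change Ideal.Quotient.mk I x ∈ P.asIdeal
    rw [Ideal.Quotient.eq_zero_iff_mem.mpr hx]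
    exact zero_mem _
  obtain ⟨𝔮, hK𝔮, h𝔮⟩ := h _ hP
  have hmem : 𝔮 ∈ Set.range (PrimeSpectrum.comap (Ideal.Quotient.mk K)) := by
    rw [range_comap_of_surjective _ _ Ideal.Quotient.mk_surjective,
      Ideal.mk_ker]
    exact hK𝔮
  obtain ⟨Q, hQ⟩ := hmem
  refine ⟨Q, ?_⟩
  apply PrimeSpectrum.comap_injective_of_surjective (Ideal.Quotient.mk I)
    Ideal.Quotient.mk_surjective
  rw [← h𝔮, ← hQ]
  apply PrimeSpectrum.ext
  ext x
  change Ideal.quotientMap K φ hIK (Ideal.Quotient.mk I x) ∈ Q.asIdeal ↔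
    Ideal.Quotient.mk K (φ x) ∈ Q.asIdeal
  rw [Ideal.quotientMap_mk]

/-- a ring homomorphism into a local ring which is surjective on spectra is local -/
theorem comap_closedPoint_of_surjective {A : Type u} {B : Type v} [CommRing A] [CommRing B]
    [IsLocalRing A] [IsLocalRing B] (φ : A →+* B)
    (hsurj : Function.Surjective (PrimeSpectrum.comap φ)) :
    (maximalIdeal B).comap φ = maximalIdeal A := by
  obtain ⟨𝔮, h𝔮⟩ := hsurj (closedPoint A)
  have h1 : maximalIdeal A ≤ (maximalIdeal B).comap φ := by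
    have : (PrimeSpectrum.comap φ 𝔮).asIdeal = maximalIdeal A := by rw [h𝔮]; rfl
    rw [← this]
    exact Ideal.comap_mono (le_maximalIdeal 𝔮.2.ne_top)
  have hne : (maximalIdeal B).comap φ ≠ ⊤ := (Ideal.comap_isPrime φ _).ne_top
  exact ((maximalIdeal.isMaximal A).eq_of_le hne h1).symm

/-- **surjectivity on spectra does not lower the dimension** -/
theorem le_ringKrullDim_of_comap_surjective (n : ℕ) :
    ∀ (A : Type u) (B : Type v) [CommRing A] [CommRing B] [IsNoetherianRing A] [IsLocalRing A]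
      [IsNoetherianRing B] [IsLocalRing B] (φ : A →+* B)
      (_ : Function.Surjective (PrimeSpectrum.comap φ)),
      (n : WithBot ℕ∞) ≤ ringKrullDim A → (n : WithBot ℕ∞) ≤ ringKrullDim B := by
  induction n with
  | zero =>
    intro A B _ _ _ _ _ _ φ _ _
    rw [Nat.cast_zero]
    exact ringKrullDim_nonneg_of_nontrivial
  | succ n ih =>
    intro A B _ _ _ _ _ _ φ hsurj hn
    have hloc := comap_closedPoint_of_surjective φ hsurj
    -- a prime strictly below the maximal ideal of `A`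
    have hht : (maximalIdeal A).height ≠ 0 := by
      intro h0
      have h1 : ringKrullDim A = 0 := by
        rw [← IsLocalRing.maximalIdeal_height_eq_ringKrullDim, h0]
        rfl
      rw [h1] at hn
      have h2 : ((n + 1 : ℕ) : WithBot ℕ∞) ≤ ((0 : ℕ) : WithBot ℕ∞) := by exact_mod_cast hn
      have h3 : n + 1 ≤ 0 := by exact_mod_cast h2
      omega
    -- the minimal primes of `B` not lying over the maximal ideal
    let Sg : Set (Ideal B) := {𝔮 | 𝔮 ∈ minimalPrimes B ∧ 𝔮.comap φ ≠ maximalIdeal A}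
    have hSfin : Sg.Finite := (minimalPrimes.finite_of_isNoetherianRing B).subset (fun _ h => h.1)
    have hSprime : ∀ 𝔮 ∈ Sg, 𝔮.IsPrime := fun 𝔮 h => h.1.1.1
    have hkey : ∀ 𝔭 : PrimeSpectrum A, 𝔭.asIdeal ≠ maximalIdeal A →
        ∃ 𝔮' : PrimeSpectrum B, PrimeSpectrum.comap φ 𝔮' = 𝔭 ∧ ∃ 𝔮 ∈ Sg, 𝔮 ≤ 𝔮'.asIdeal := by
      intro 𝔭 h𝔭
      obtain ⟨𝔮', h𝔮'⟩ := hsurj 𝔭
      obtain ⟨𝔮, h𝔮min, h𝔮le⟩ := Ideal.exists_minimalPrimes_le (bot_le : (⊥ : Ideal B) ≤ 𝔮'.asIdeal)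
      refine ⟨𝔮', h𝔮', 𝔮, ⟨h𝔮min, ?_⟩, h𝔮le⟩
      intro hcon
      apply h𝔭
      have h1 : maximalIdeal A ≤ 𝔭.asIdeal := by
        rw [← hcon, ← h𝔮']
        exact Ideal.comap_mono h𝔮le
      exact ((maximalIdeal.isMaximal A).eq_of_le 𝔭.2.ne_top h1).symm
    have hSne : Sg.Nonempty := by
      obtain ⟨𝔭, h𝔭min, h𝔭le⟩ :=
        Ideal.exists_minimalPrimes_le (bot_le : (⊥ : Ideal A) ≤ maximalIdeal A)
      haveI : 𝔭.IsPrime := h𝔭min.1.1
      have h𝔭ne : 𝔭 ≠ maximalIdeal A := by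
        intro h
        apply hht
        rw [← h]
        exact Ideal.height_eq_zero_iff.mpr h𝔭min
      obtain ⟨𝔮', -, 𝔮, h𝔮, -⟩ := hkey ⟨𝔭, inferInstance⟩ h𝔭ne
      exact ⟨𝔮, h𝔮⟩
    -- prime avoidance
    obtain ⟨a, ham, haS⟩ : ∃ a ∈ maximalIdeal A, ∀ 𝔮 ∈ Sg, φ a ∉ 𝔮 := by
      by_contra hcon
      push Not at hcon
      have hsub : ((maximalIdeal A : Ideal A) : Set A) ⊆
          ⋃ 𝔮 ∈ (hSfin.toFinset : Set (Ideal B)), ((𝔮.comap φ : Ideal A) : Set A) := by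
        intro a ha
        obtain ⟨𝔮, h𝔮, hmem⟩ := hcon a ha
        simp only [Set.mem_iUnion]
        exact ⟨𝔮, by simpa using h𝔮, hmem⟩
      obtain ⟨𝔮, h𝔮, hle⟩ := (Ideal.subset_union_prime (s := hSfin.toFinset)
        (f := fun 𝔮 => 𝔮.comap φ) ⊥ ⊥ (fun 𝔮 h𝔮 _ _ => by
          haveI := hSprime 𝔮 (hSfin.mem_toFinset.mp h𝔮)
          exact Ideal.comap_isPrime φ 𝔮)).mp hsub
      have h𝔮S := hSfin.mem_toFinset.mp h𝔮
      haveI := hSprime 𝔮 h𝔮S
      exact h𝔮S.2 ((maximalIdeal.isMaximal A).eq_of_le (Ideal.comap_isPrime φ 𝔮).ne_top hle).symm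
    let J : Ideal B := sInf Sg
    have hJle : ∀ 𝔮 ∈ Sg, J ≤ 𝔮 := fun 𝔮 h => sInf_le h
    have hJm : J ≤ maximalIdeal B := by
      obtain ⟨𝔮, h𝔮⟩ := hSne
      haveI := hSprime 𝔮 h𝔮
      exact (hJle 𝔮 h𝔮).trans (le_maximalIdeal (Ideal.IsPrime.ne_top inferInstance))
    haveI : IsLocalRing (B ⧸ J) := isLocalRing_quotient_of_le_maximalIdeal hJm
    let φ' : A →+* B ⧸ J := (Ideal.Quotient.mk J).comp φ
    have hsurj' : Function.Surjective (PrimeSpectrum.comap φ') := by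
      intro 𝔭
      obtain ⟨𝔮', h𝔮'𝔭, hJ𝔮'⟩ : ∃ 𝔮' : PrimeSpectrum B,
          PrimeSpectrum.comap φ 𝔮' = 𝔭 ∧ J ≤ 𝔮'.asIdeal := by
        by_cases h𝔭 : 𝔭.asIdeal = maximalIdeal A
        · refine ⟨closedPoint B, ?_, hJm⟩
          apply PrimeSpectrum.ext
          rw [h𝔭]
          exact hloc
        · obtain ⟨𝔮', h1, 𝔮, h𝔮, hle⟩ := hkey 𝔭 h𝔭
          exact ⟨𝔮', h1, (hJle 𝔮 h𝔮).trans hle⟩
      have hmem : 𝔮' ∈ Set.range (PrimeSpectrum.comap (Ideal.Quotient.mk J)) := by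
        rw [range_comap_of_surjective _ _ Ideal.Quotient.mk_surjective, Ideal.mk_ker]
        exact hJ𝔮'
      obtain ⟨Q, hQ⟩ := hmem
      refine ⟨Q, ?_⟩
      rw [← h𝔮'𝔭, ← hQ]
      rfl
    have hspanA : Ideal.span {a} = a • (⊤ : Ideal A) := by
      simp [← Submodule.ideal_span_singleton_smul]
    have hspanB : Ideal.span {φ' a} = (φ' a) • (⊤ : Ideal (B ⧸ J)) := by
      simp [← Submodule.ideal_span_singleton_smul]
    have haIm : a • (⊤ : Ideal A) ≤ maximalIdeal A := by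
      rw [← hspanA, Ideal.span_singleton_le_iff_mem]
      exact ham
    have hloc' := comap_closedPoint_of_surjective φ' hsurj'
    have hbm : φ' a ∈ maximalIdeal (B ⧸ J) := by
      have : a ∈ (maximalIdeal (B ⧸ J)).comap φ' := by rw [hloc']; exact ham
      exact this
    have hbIm : (φ' a) • (⊤ : Ideal (B ⧸ J)) ≤ maximalIdeal (B ⧸ J) := by
      rw [← hspanB, Ideal.span_singleton_le_iff_mem]
      exact hbm
    haveI : IsLocalRing (A ⧸ a • (⊤ : Ideal A)) := isLocalRing_quotient_of_le_maximalIdeal haIm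
    haveI : IsLocalRing ((B ⧸ J) ⧸ (φ' a) • (⊤ : Ideal (B ⧸ J))) :=
      isLocalRing_quotient_of_le_maximalIdeal hbIm
    have hIK : a • (⊤ : Ideal A) ≤ ((φ' a) • (⊤ : Ideal (B ⧸ J))).comap φ' := by
      rw [← hspanA, ← hspanB, Ideal.span_singleton_le_iff_mem, Ideal.mem_comap]
      exact Ideal.mem_span_singleton_self _
    have hsurj₁ := comap_quotientMap_surjective φ' _ _ hIK (by
      intro 𝔭 h𝔭
      obtain ⟨𝔮, h𝔮⟩ := hsurj' 𝔭
      refine ⟨𝔮, ?_, h𝔮⟩
      rw [← hspanB, Ideal.span_singleton_le_iff_mem]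
      have : a ∈ 𝔭.asIdeal := h𝔭 (by rw [← hspanA]; exact Ideal.mem_span_singleton_self a)
      rw [← h𝔮] at this
      exact this)
    have hd1 : ringKrullDim A ≤ ringKrullDim (A ⧸ a • (⊤ : Ideal A)) + 1 :=
      ringKrullDim_le_ringKrullDim_quotSMulTop_succ ham
    have hmin : ∀ p ∈ (Module.annihilator (B ⧸ J) (B ⧸ J)).minimalPrimes, φ' a ∉ p := by
      intro p hp hbp
      rw [Module.annihilator_eq_bot.mpr inferInstance] at hp
      have h1 : p.comap (Ideal.Quotient.mk J) ∈ J.minimalPrimes := by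
        rw [Ideal.minimalPrimes_eq_comap]
        exact ⟨p, hp, rfl⟩
      haveI : (p.comap (Ideal.Quotient.mk J)).IsPrime := h1.1.1
      obtain ⟨𝔮, h𝔮S, h𝔮le⟩ : ∃ 𝔮 ∈ Sg, 𝔮 ≤ p.comap (Ideal.Quotient.mk J) := by
        have h2 : sInf Sg ≤ p.comap (Ideal.Quotient.mk J) := h1.1.2
        have h3 : hSfin.toFinset.inf id ≤ p.comap (Ideal.Quotient.mk J) := by
          refine le_trans ?_ h2
          apply le_sInf
          intro 𝔮 h𝔮
          exact Finset.inf_le (f := id) (hSfin.mem_toFinset.mpr h𝔮)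
        obtain ⟨𝔮, h𝔮, hle⟩ := (Ideal.IsPrime.inf_le' inferInstance).mp h3
        exact ⟨𝔮, hSfin.mem_toFinset.mp h𝔮, hle⟩
      haveI := hSprime 𝔮 h𝔮S
      have h4 : p.comap (Ideal.Quotient.mk J) ≤ 𝔮 := h1.2 ⟨inferInstance, hJle 𝔮 h𝔮S⟩ h𝔮le
      exact haS 𝔮 h𝔮S (h4 hbp)
    have hd2 : ringKrullDim ((B ⧸ J) ⧸ (φ' a) • (⊤ : Ideal (B ⧸ J))) + 1 ≤
        ringKrullDim (B ⧸ J) := by
      have h := Module.supportDim_quotSMulTop_succ_le_of_notMem_minimalPrimes
        (R := B ⧸ J) (M := B ⧸ J) (x := φ' a) hmin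
      rw [Module.supportDim_self_eq_ringKrullDim] at h
      rw [← Module.supportDim_quotient_eq_ringKrullDim]
      exact h
    have hd3 : ringKrullDim (B ⧸ J) ≤ ringKrullDim B := ringKrullDim_quotient_le J
    obtain ⟨d, hd⟩ := exists_nat_eq_ringKrullDim (R := A ⧸ a • (⊤ : Ideal A))
    obtain ⟨d', hd'⟩ := exists_nat_eq_ringKrullDim
      (R := (B ⧸ J) ⧸ (φ' a) • (⊤ : Ideal (B ⧸ J)))
    have hn1 : (n : WithBot ℕ∞) ≤ ringKrullDim (A ⧸ a • (⊤ : Ideal A)) := by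
      have h1 := hn.trans hd1
      rw [hd] at h1 ⊢
      have h2 : n + 1 ≤ d + 1 := by exact_mod_cast h1
      have h3 : n ≤ d := by omega
      exact_mod_cast h3
    have h5 := ih _ _ (Ideal.quotientMap _ φ' hIK) hsurj₁ hn1
    rw [hd'] at h5 hd2
    have h6 : n ≤ d' := by exact_mod_cast h5
    have h7 : ((n + 1 : ℕ) : WithBot ℕ∞) ≤ ((d' : ℕ) : WithBot ℕ∞) + 1 := by
      have : n + 1 ≤ d' + 1 := by omega
      exact_mod_cast this
    exact h7.trans (hd2.trans hd3)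

/-- **surjectivity on spectra does not lower the dimension** -/
theorem ringKrullDim_le_of_comap_surjective (A : Type u) (B : Type v) [CommRing A] [CommRing B]
    [IsNoetherianRing A] [IsLocalRing A] [IsNoetherianRing B] [IsLocalRing B] (φ : A →+* B)
    (hsurj : Function.Surjective (PrimeSpectrum.comap φ)) :
    ringKrullDim A ≤ ringKrullDim B := by
  obtain ⟨d, hd⟩ := exists_nat_eq_ringKrullDim (R := A)
  rw [hd]
  exact le_ringKrullDim_of_comap_surjective d A B φ hsurj hd.ge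

end Groth.Agent.Lib.Helper21.SpecSurjDim
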