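import Groth.Agent.Lib.Helper17.ProCons
import Groth.Agent.Lib.Helper14.UnivOpenAt

/-!
# Universal openness at a point and base change to the local scheme (EGA IV 14.3.3)
-/

set_option autoImplicit false
set_option linter.style.haveILetI false
set_option linter.unusedSectionVars false
universe u

open AlgebraicGeometry CategoryTheory Limits TopologicalSpace IsLocalRing

namespace Groth.Agent.Lib.Helper21.StalkBC

open EGA43 Groth.Agent.Lib.Helper14.UOA

variable {X Y : Scheme.{u}}

/-- universal openness at a point can be tested after base change to the local scheme -/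
theorem isUnivOpenAt_of_fromSpecStalk (f : X ⟶ Y) [LocallyOfFinitePresentation f] (x : X) (y : Y)
    (hy : f.base x = y) (x₁ : ↥(pullback f (Y.fromSpecStalk y)))
    (hx₁ : (pullback.fst f (Y.fromSpecStalk y)).base x₁ = x)
    (h₁ : IsUnivOpenAt (pullback.snd f (Y.fromSpecStalk y)) x₁) : IsUnivOpenAt f x := by
  intro Y' g x' hx'
  obtain ⟨y', hy'⟩ : ∃ y' : Y', (pullback.snd f g).base x' = y' := ⟨_, rfl⟩
  have hgy : g.base y' = y := by
    have h1 := congrArg (fun φ : pullback f g ⟶ Y => φ.base x') (pullback.condition (f := f) (g := g))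
    simp only [Scheme.Hom.comp_apply] at h1
    rw [← hy', ← h1, hx', hy]
  subst hgy
  -- the local schemes
  let k : Spec (Y'.presheaf.stalk y') ⟶ Spec (Y.presheaf.stalk (g.base y')) :=
    Spec.map (g.stalkMap y')
  have hk : k ≫ Y.fromSpecStalk (g.base y') = Y'.fromSpecStalk y' ≫ g :=
    Scheme.SpecMap_stalkMap_fromSpecStalk g
  -- squares
  have sq1 : IsPullback (pullback.fst f (Y.fromSpecStalk (g.base y')))
      (pullback.snd f (Y.fromSpecStalk (g.base y'))) f (Y.fromSpecStalk (g.base y')) :=
    IsPullback.of_hasPullback _ _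
  have sq2 : IsPullback (pullback.fst (pullback.snd f (Y.fromSpecStalk (g.base y'))) k)
      (pullback.snd (pullback.snd f (Y.fromSpecStalk (g.base y'))) k)
      (pullback.snd f (Y.fromSpecStalk (g.base y'))) k := IsPullback.of_hasPullback _ _
  have sq3 : IsPullback (pullback.fst f g) (pullback.snd f g) f g := IsPullback.of_hasPullback _ _
  have big := sq2.flip.paste_vert sq1.flip
  rw [hk] at big
  -- `big : IsPullback snd₂ (fst₂ ≫ fst₁) (j' ≫ g) f`
  have top := IsPullback.of_bot' big sq3.flip
  set θ := sq3.flip.lift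
    (pullback.snd (pullback.snd f (Y.fromSpecStalk (g.base y'))) k ≫ Y'.fromSpecStalk y')
    (pullback.fst (pullback.snd f (Y.fromSpecStalk (g.base y'))) k ≫
      pullback.fst f (Y.fromSpecStalk (g.base y'))) (by rw [Category.assoc, big.w]) with hθ
  have hθ1 : θ ≫ pullback.snd f g =
      pullback.snd (pullback.snd f (Y.fromSpecStalk (g.base y'))) k ≫ Y'.fromSpecStalk y' :=
    sq3.flip.lift_fst _ _ _
  have hθ2 : θ ≫ pullback.fst f g =
      pullback.fst (pullback.snd f (Y.fromSpecStalk (g.base y'))) k ≫
        pullback.fst f (Y.fromSpecStalk (g.base y')) := sq3.flip.lift_snd _ _ _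
  -- the point over `x'` and the closed point
  obtain ⟨x'', hx''1, hx''2⟩ := exists_preimage_of_isPullback top
    (IsLocalRing.closedPoint (Y'.presheaf.stalk y')) x'
    (by rw [Scheme.fromSpecStalk_closedPoint, hy'])
  -- it lies over `x₁`
  haveI : IsPreimmersion (pullback.fst f (Y.fromSpecStalk (g.base y'))) :=
    MorphismProperty.pullback_fst (P := @IsPreimmersion) _ _ inferInstance
  have hpx : (pullback.fst (pullback.snd f (Y.fromSpecStalk (g.base y'))) k).base x'' = x₁ := by
    apply (pullback.fst f (Y.fromSpecStalk (g.base y'))).isEmbedding.injective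
    have h1 := congrArg (fun φ : pullback (pullback.snd f (Y.fromSpecStalk (g.base y'))) k ⟶ X =>
      φ.base x'') hθ2
    simp only [Scheme.Hom.comp_apply] at h1
    rw [← h1, hx₁]
    have : θ.base x'' = x' := hx''2
    rw [this, hx']
  have hop : IsOpenAt (pullback.snd (pullback.snd f (Y.fromSpecStalk (g.base y'))) k).base x'' :=
    h₁ _ k x'' hpx
  -- lifting generisations
  refine Groth.Agent.Lib.Helper17.ProConsLib.isOpenAt_of_generization_lift
    (pullback.snd f g) x' (fun η' hη' => ?_)
  obtain ⟨η'', hη''⟩ : η' ∈ Set.range (Y'.fromSpecStalk y') := by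
    rw [Scheme.range_fromSpecStalk, ← hy']
    exact hη'
  have hsp : η'' ⤳ (pullback.snd (pullback.snd f (Y.fromSpecStalk (g.base y'))) k).base x'' := by
    have : (pullback.snd (pullback.snd f (Y.fromSpecStalk (g.base y'))) k).base x'' =
        IsLocalRing.closedPoint (Y'.presheaf.stalk y') := hx''1
    rw [this]
    exact IsLocalRing.specializes_closedPoint η''
  obtain ⟨z'', hz'', hz''η⟩ := Groth.Agent.Lib.Helper17.ProConsLib.exists_generization_lift
    (pullback.snd (pullback.snd f (Y.fromSpecStalk (g.base y'))) k) x'' hop η'' hsp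
  refine ⟨θ.base z'', ?_, ?_⟩
  · have h1 := hz''.map θ.continuous
    have : θ.base x'' = x' := hx''2
    rw [this] at h1
    exact h1
  · have h1 := congrArg (fun φ : pullback (pullback.snd f (Y.fromSpecStalk (g.base y'))) k ⟶ Y' =>
      φ.base z'') hθ1
    simp only [Scheme.Hom.comp_apply] at h1
    rw [h1, hz''η]
    exact hη''

/-- universal openness at a point is stable under base change -/
theorem isUnivOpenAt_snd (f : X ⟶ Y) (x : X) (h : IsUnivOpenAt f x) {Y₁ : Scheme.{u}}
    (j : Y₁ ⟶ Y) (x₁ : ↥(pullback f j)) (hx₁ : (pullback.fst f j).base x₁ = x) :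
    IsUnivOpenAt (pullback.snd f j) x₁ := by
  intro Y₂ g₂ x₂ hx₂
  have sq1 : IsPullback (pullback.fst (pullback.snd f j) g₂) (pullback.snd (pullback.snd f j) g₂)
      (pullback.snd f j) g₂ := IsPullback.of_hasPullback _ _
  have sq2 : IsPullback (pullback.fst f j) (pullback.snd f j) f j := IsPullback.of_hasPullback _ _
  have sq := sq1.flip.paste_vert sq2.flip
  refine isOpenAt_snd_of_isUnivOpenAt h sq.flip x₂ ?_
  rw [Scheme.Hom.comp_apply]
  have : (pullback.fst (pullback.snd f j) g₂).base x₂ = x₁ := hx₂
  rw [this]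
  exact hx₁

end Groth.Agent.Lib.Helper21.StalkBC
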