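import Mathlib
import Groth.Prelude.Def_W4c5t1liftcy3defoArt
import Groth.Agent.Lib.Helper1.ArtFunDiag

universe u v
open CategoryTheory Polynomial

namespace Groth.Agent.Lib.Helper21.T1L
open T1Lift ArtFun ArtFun.Art

variable (k : Type u) [Field k]

lemma αAlg_mk (n : ℕ) (p : k[X]) :
    αAlg k n (AdjoinRoot.mk _ p) = AdjoinRoot.mk _ p := by
  unfold αAlg
  rw [AdjoinRoot.liftAlgHom_mk]
  have : (eval₂ (↑(Algebra.ofId k (Tr k n)) : k →+* Tr k n) (t k n) p) = aeval (t k n) p := rfl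
  rw [this, AdjoinRoot.aeval_eq]

lemma αAlg_surjective (n : ℕ) : Function.Surjective (αAlg k n) := by
  intro a
  obtain ⟨p, rfl⟩ := AdjoinRoot.mk_surjective a
  exact ⟨AdjoinRoot.mk _ p, αAlg_mk k n p⟩

/-- elements of the maximal ideal are multiples of `t`. -/
lemma eq_t_mul_of_resA_eq_zero (n : ℕ) (a : Tr k n) (h : resA k n a = 0) :
    ∃ b : Tr k n, a = t k n * b := by
  obtain ⟨b, hb⟩ := eq_algebraMap_add_t_mul k n a
  exact ⟨b, by rw [hb, h, map_zero, zero_add]⟩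

/-- the kernel of `k[t]/(t^(n+2)) → k[t]/(t^(n+1))` consists of the multiples `c t^(n+1)`. -/
lemma eq_smul_t_pow_of_αAlg_eq_zero (n : ℕ) (a : Tr k (n + 1)) (h : αAlg k n a = 0) :
    ∃ c : k, a = algebraMap k _ c * t k (n + 1) ^ (n + 1) := by
  obtain ⟨p, rfl⟩ := AdjoinRoot.mk_surjective a
  rw [αAlg_mk, AdjoinRoot.mk_eq_zero] at h
  obtain ⟨q, rfl⟩ := h
  obtain ⟨b, hb⟩ := eq_algebraMap_add_t_mul k (n + 1) (AdjoinRoot.mk _ q)
  refine ⟨resA k (n + 1) (AdjoinRoot.mk _ q), ?_⟩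
  rw [map_mul, map_pow, AdjoinRoot.mk_X]
  conv_lhs => rw [hb]
  have : t k (n + 1) ^ (n + 1) * (t k (n + 1) * b) = 0 := by
    rw [← mul_assoc, ← pow_succ, t_pow, zero_mul]
  rw [mul_add, this, add_zero, mul_comm]

lemma t_pow_ne_zero (n : ℕ) : t k n ^ n ≠ 0 := by
  intro h
  have h1 : AdjoinRoot.mk ((X : k[X]) ^ (n + 1)) (X ^ n) = 0 := by
    rw [map_pow, AdjoinRoot.mk_X]; exact h
  rw [AdjoinRoot.mk_eq_zero] at h1
  have := Polynomial.degree_le_of_dvd h1 (pow_ne_zero _ X_ne_zero)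
  rw [degree_X_pow, degree_X_pow] at this
  exact absurd (Nat.cast_le.mp this) (by omega)

lemma eq_zero_of_mul_t_pow_eq_zero (n : ℕ) (c : k)
    (h : algebraMap k (Tr k n) c * t k n ^ n = 0) : c = 0 := by
  by_contra hc
  apply t_pow_ne_zero k n
  have hu : IsUnit (algebraMap k (Tr k n) c) := (Ne.isUnit hc).map _
  exact (hu.mul_right_eq_zero).mp h

/-- `(t + y)^(n+1) = (n+1) t^n y` in `k[t,y]/(t^(n+1), y^2)`. -/
lemma inl_t_add_eps_pow_succ (n : ℕ) :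
    ((TrivSqZeroExt.inl (t k n) : DualNumber (Tr k n)) + DualNumber.eps) ^ (n + 1) =
      TrivSqZeroExt.inr (((n + 1 : ℕ) : Tr k n) * t k n ^ n) := by
  apply TrivSqZeroExt.ext
  · rw [TrivSqZeroExt.fst_pow, TrivSqZeroExt.fst_add, TrivSqZeroExt.fst_inl, DualNumber.fst_eps,
      add_zero, t_pow, TrivSqZeroExt.fst_inr]
  · rw [TrivSqZeroExt.snd_pow, TrivSqZeroExt.fst_add, TrivSqZeroExt.fst_inl, DualNumber.fst_eps,
      add_zero, TrivSqZeroExt.snd_add, TrivSqZeroExt.snd_inl, DualNumber.snd_eps, zero_add,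
      TrivSqZeroExt.snd_inr, Nat.pred_succ, smul_eq_mul, mul_one, nsmul_eq_mul]



open Groth.Agent.Lib.Helper1.ArtFunLib

lemma α_surjective (n : ℕ) : Function.Surjective (α k n) := αAlg_surjective k n

lemma α_apply (n : ℕ) (a : Tr k (n + 1)) : (α k n) a = αAlg k n a := rfl

lemma β_apply (n : ℕ) (z : DualNumber (Tr k n)) : (β k n) z = z.fst := rfl

lemma ξ_apply (n : ℕ) (z : DualNumber (Tr k (n + 1))) :
    (ξ k n) z = (αAlg k n z.fst, αAlg k n z.snd) := rfl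

lemma ε_apply (n : ℕ) (a : Tr k (n + 1)) : (ε k n) a = εAlg k n a := rfl

lemma ξ_comp_β (n : ℕ) : ξ k n ≫ β k n = β k (n + 1) ≫ α k n := by
  apply hom_ext; apply AlgHom.ext; intro x; rfl

lemma ε_comp_β (n : ℕ) : ε k n ≫ β k n = 𝟙 _ ≫ α k n := by
  apply hom_ext
  apply AdjoinRoot.algHom_ext
  change ((εAlg k n) (t k (n + 1))).fst = αAlg k n (t k (n + 1))
  rw [εAlg_t, αAlg_t, TrivSqZeroExt.fst_add, TrivSqZeroExt.fst_inl, DualNumber.fst_eps, add_zero]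

lemma ε_succ_comp_β (n : ℕ) : ε k (n + 1) ≫ β k (n + 1) = α k (n + 1) := by
  have := ε_comp_β k (n + 1)
  rwa [Category.id_comp] at this

lemma α_comp_ε (n : ℕ) : α k (n + 1) ≫ ε k n = ε k (n + 1) ≫ ξ k n := by
  apply hom_ext
  apply AdjoinRoot.algHom_ext
  change εAlg k n (αAlg k (n + 1) (t k (n + 2))) =
    (αAlg k n (εAlg k (n + 1) (t k (n + 2))).fst, αAlg k n (εAlg k (n + 1) (t k (n + 2))).snd)
  rw [αAlg_t, εAlg_t, εAlg_t]
  apply TrivSqZeroExt.ext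
  · change _ = αAlg k n _
    rw [TrivSqZeroExt.fst_add, TrivSqZeroExt.fst_inl, DualNumber.fst_eps, add_zero,
      TrivSqZeroExt.fst_add, TrivSqZeroExt.fst_inl, DualNumber.fst_eps, add_zero, αAlg_t]
  · change _ = αAlg k n _
    rw [TrivSqZeroExt.snd_add, TrivSqZeroExt.snd_inl, DualNumber.snd_eps, zero_add,
      TrivSqZeroExt.snd_add, TrivSqZeroExt.snd_inl, DualNumber.snd_eps, zero_add, map_one]

lemma mem_maximalIdeal_A (n : ℕ) (m : Tr k n) (hm : m ∈ IsLocalRing.maximalIdeal (A k n)) :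
    ∃ b : Tr k n, m = t k n * b :=
  eq_t_mul_of_resA_eq_zero k n m ((mem_maximalIdeal_iff (A k n) m).mp hm)

lemma isSemismallExt_α (n : ℕ) : IsSemismallExt (α k n) := by
  refine ⟨α_surjective k n, ?_⟩
  rw [eq_bot_iff, Ideal.mul_le]
  intro m hm a ha
  obtain ⟨b, rfl⟩ := mem_maximalIdeal_A k (n + 1) m hm
  obtain ⟨c, rfl⟩ := eq_smul_t_pow_of_αAlg_eq_zero k n a (RingHom.mem_ker.mp ha)
  rw [Ideal.mem_bot]
  have : t k (n + 1) * b * (algebraMap k _ c * t k (n + 1) ^ (n + 1)) =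
      b * algebraMap k _ c * t k (n + 1) ^ (n + 1 + 1) := by ring
  exact this.trans (by rw [t_pow, mul_zero]; rfl)



section Main

variable {k}

/-- the map `B_(n+1) → B_n ×_{A_n} A_(n+1)` -/
noncomputable def piHom {n : ℕ} {C : Art k k} {p₁ : C ⟶ B k n} {p₂ : C ⟶ A k (n + 1)}
    (hC : IsFibreProd p₁ p₂ (β k n) (α k n)) : B k (n + 1) ⟶ C :=
  fpLiftHom hC (ξ k n) (β k (n + 1)) (ξ_comp_β k n)

/-- the map `A_(n+1) → B_n ×_{A_n} A_(n+1)`, `(ε, id)` -/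
noncomputable def gHom {n : ℕ} {C : Art k k} {p₁ : C ⟶ B k n} {p₂ : C ⟶ A k (n + 1)}
    (hC : IsFibreProd p₁ p₂ (β k n) (α k n)) : A k (n + 1) ⟶ C :=
  fpLiftHom hC (ε k n) (𝟙 _) (ε_comp_β k n)

lemma sq {n : ℕ} {C : Art k k} {p₁ : C ⟶ B k n} {p₂ : C ⟶ A k (n + 1)}
    (hC : IsFibreProd p₁ p₂ (β k n) (α k n)) :
    α k (n + 1) ≫ gHom hC = ε k (n + 1) ≫ piHom hC := by
  apply hom_ext_of_isFibreProd hC
  · rw [Category.assoc, Category.assoc, gHom, piHom, fpLiftHom_fst, fpLiftHom_fst, α_comp_ε]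
  · rw [Category.assoc, Category.assoc, gHom, piHom, fpLiftHom_snd, fpLiftHom_snd,
      Category.comp_id, ε_succ_comp_β]

lemma piHom_surjective {n : ℕ} {C : Art k k} {p₁ : C ⟶ B k n} {p₂ : C ⟶ A k (n + 1)}
    (hC : IsFibreProd p₁ p₂ (β k n) (α k n)) : Function.Surjective (piHom hC) := by
  intro c
  obtain ⟨b', hb'⟩ := αAlg_surjective k n (p₁ c).snd
  let z : DualNumber (Tr k (n + 1)) := (p₂ c, b')
  refine ⟨z, hC.inj _ _ ?_ ?_⟩
  · have h1 : p₁ (piHom hC z) = (ξ k n) z := by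
      change (piHom hC ≫ p₁) z = _
      rw [piHom, fpLiftHom_fst]
    rw [h1, ξ_apply]
    have h2 : αAlg k n (p₂ c) = (p₁ c).fst := (hC.w_apply c).symm
    exact TrivSqZeroExt.ext h2 hb'
  · have h1 : p₂ (piHom hC z) = (β k (n + 1)) z := by
      change (piHom hC ≫ p₂) z = _
      rw [piHom, fpLiftHom_snd]
    rw [h1]; rfl

lemma ker_piHom {n : ℕ} {C : Art k k} {p₁ : C ⟶ B k n} {p₂ : C ⟶ A k (n + 1)}
    (hC : IsFibreProd p₁ p₂ (β k n) (α k n)) (z : DualNumber (Tr k (n + 1)))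
    (hz : z ∈ RingHom.ker (piHom hC).toAlgHom) :
    z.fst = 0 ∧ ∃ c : k, z.snd = algebraMap k _ c * t k (n + 1) ^ (n + 1) := by
  have hz0 : (piHom hC) z = 0 := RingHom.mem_ker.mp hz
  have h1 : (ξ k n) z = 0 := by
    have : (piHom hC ≫ p₁) z = 0 := by
      change p₁ ((piHom hC) z) = 0
      rw [hz0]; exact map_zero p₁.toAlgHom
    rwa [piHom, fpLiftHom_fst] at this
  have h2 : (β k (n + 1)) z = 0 := by
    have : (piHom hC ≫ p₂) z = 0 := by
      change p₂ ((piHom hC) z) = 0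
      rw [hz0]; exact map_zero p₂.toAlgHom
    rwa [piHom, fpLiftHom_snd] at this
  refine ⟨h2, eq_smul_t_pow_of_αAlg_eq_zero k n z.snd ?_⟩
  rw [ξ_apply] at h1
  exact congrArg TrivSqZeroExt.snd h1

lemma isSemismallExt_piHom {n : ℕ} {C : Art k k} {p₁ : C ⟶ B k n} {p₂ : C ⟶ A k (n + 1)}
    (hC : IsFibreProd p₁ p₂ (β k n) (α k n)) : IsSemismallExt (piHom hC) := by
  refine ⟨piHom_surjective hC, ?_⟩
  rw [eq_bot_iff, Ideal.mul_le]
  intro m hm z hz
  obtain ⟨hz1, c, hz2⟩ := ker_piHom hC z hz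
  have hm' : resA k (n + 1) (TrivSqZeroExt.fst m) = 0 :=
    (mem_maximalIdeal_iff (B k (n + 1)) m).mp hm
  obtain ⟨b, hb⟩ := eq_t_mul_of_resA_eq_zero k (n + 1) _ hm'
  rw [Ideal.mem_bot]
  apply TrivSqZeroExt.ext
  · change TrivSqZeroExt.fst m * TrivSqZeroExt.fst z = 0
    rw [hz1, mul_zero]
  · change TrivSqZeroExt.fst m • TrivSqZeroExt.snd z +
      MulOpposite.op (TrivSqZeroExt.fst z) • TrivSqZeroExt.snd m = 0
    rw [hz1, MulOpposite.op_zero, zero_smul, add_zero, hz2, hb, smul_eq_mul]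
    have : t k (n + 1) * b * (algebraMap k _ c * t k (n + 1) ^ (n + 1)) =
        b * algebraMap k _ c * t k (n + 1) ^ (n + 1 + 1) := by ring
    rw [this, t_pow, mul_zero]

/-- the comparison map on kernels, `j ↦ ε(j)` -/
noncomputable def ellMap {n : ℕ} {C : Art k k} {p₁ : C ⟶ B k n} {p₂ : C ⟶ A k (n + 1)}
    (hC : IsFibreProd p₁ p₂ (β k n) (α k n)) :
    ↥(RingHom.ker (α k (n + 1)).toAlgHom) →ₗ[k] ↥(RingHom.ker (piHom hC).toAlgHom) where
  toFun j := ⟨(ε k (n + 1)) j.1, by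
    rw [RingHom.mem_ker]
    have h1 : (ε k (n + 1) ≫ piHom hC) j.1 = 0 := by
      rw [← sq hC]
      change (gHom hC) ((α k (n + 1)) j.1) = 0
      have : (α k (n + 1)) j.1 = 0 := RingHom.mem_ker.mp j.2
      rw [this]; exact map_zero (gHom hC).toAlgHom
    exact h1⟩
  map_add' x y := Subtype.ext (map_add (ε k (n + 1)).toAlgHom _ _)
  map_smul' c x := Subtype.ext (map_smul (ε k (n + 1)).toAlgHom c x.1)

lemma ellMap_coe {n : ℕ} {C : Art k k} {p₁ : C ⟶ B k n} {p₂ : C ⟶ A k (n + 1)}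
    (hC : IsFibreProd p₁ p₂ (β k n) (α k n)) (j : ↥(RingHom.ker (α k (n + 1)).toAlgHom)) :
    ((ellMap hC j : ↥(RingHom.ker (piHom hC).toAlgHom)) : B k (n + 1)) = (ε k (n + 1)) j.1 := rfl

lemma ellMap_injective [CharZero k] {n : ℕ} {C : Art k k} {p₁ : C ⟶ B k n}
    {p₂ : C ⟶ A k (n + 1)} (hC : IsFibreProd p₁ p₂ (β k n) (α k n)) :
    Function.Injective (ellMap hC) := by
  rw [injective_iff_map_eq_zero]
  intro j hj
  have h1 : (ε k (n + 1)) j.1 = 0 := congrArg Subtype.val hj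
  obtain ⟨c, hc⟩ := eq_smul_t_pow_of_αAlg_eq_zero k (n + 1) j.1 (RingHom.mem_ker.mp j.2)
  have h1' : εAlg k (n + 1) j.1 = 0 := h1
  rw [hc, map_mul, AlgHom.commutes, map_pow, εAlg_t, inl_t_add_eps_pow_succ] at h1'
  have h2 := congrArg TrivSqZeroExt.snd h1'
  rw [TrivSqZeroExt.algebraMap_eq_inl', TrivSqZeroExt.snd_mul, TrivSqZeroExt.snd_inr,
    TrivSqZeroExt.fst_inl, TrivSqZeroExt.snd_inl, TrivSqZeroExt.fst_inr, TrivSqZeroExt.snd_zero,
    MulOpposite.op_zero, zero_smul, add_zero, smul_eq_mul, ← mul_assoc, ← map_natCast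
      (algebraMap k (Tr k (n + 1))), ← map_mul] at h2
  have h3 := eq_zero_of_mul_t_pow_eq_zero k (n + 1) _ h2
  have h4 : c = 0 := by
    rcases mul_eq_zero.mp h3 with h | h
    · exact h
    · exact absurd h (Nat.cast_ne_zero.mpr (by omega))
  apply Subtype.ext
  rw [hc, h4, map_zero, zero_mul]
  rfl

open TensorProduct in
theorem main (k : Type u) [Field k] [CharZero k]
    (F : ArtFun.Art k k ⥤ Type v)
    (hRS : ∀ ⦃P A A' A'' : ArtFun.Art k k⦄ (p' : P ⟶ A') (p'' : P ⟶ A'') (f' : A' ⟶ A)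
      (f'' : A'' ⟶ A) (h : ArtFun.Art.IsFibreProd p' p'' f' f''), Function.Surjective f'' →
      Function.Bijective (ArtFun.cmp F h))
    (V : Type u) [AddCommGroup V] [Module k V] (O : ArtFun.ObsTheory F V)
    (hnat : ∀ ⦃A' A C' C : ArtFun.Art k k⦄ (φ : A' ⟶ A) (hφ : ArtFun.Art.IsSemismallExt φ)
      (ψ : C' ⟶ C) (hψ : ArtFun.Art.IsSemismallExt ψ) (g' : A' ⟶ C') (g : A ⟶ C),
      φ ≫ g = g' ≫ ψ →
      ∀ (ℓ : ↥(RingHom.ker φ.toAlgHom) →ₗ[k] ↥(RingHom.ker ψ.toAlgHom)),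
        (∀ j : ↥(RingHom.ker φ.toAlgHom),
          ((ℓ j : ↥(RingHom.ker ψ.toAlgHom)) : C') = g' (j : A')) →
        ∀ u : F.obj A, O.obs ψ hψ (F.map g u) = LinearMap.lTensor V ℓ (O.obs φ hφ u))
    (n : ℕ) (X : F.obj (T1Lift.A k (n + 1))) :
    (∃ X' : F.obj (T1Lift.A k (n + 2)), F.map (T1Lift.α k (n + 1)) X' = X) ↔
      ∃ Y : F.obj (T1Lift.B k (n + 1)), F.map (T1Lift.β k (n + 1)) Y = X ∧
        F.map (T1Lift.ξ k n) Y = F.map (T1Lift.ε k n) X := by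
  constructor
  · rintro ⟨X', rfl⟩
    refine ⟨F.map (ε k (n + 1)) X', ?_, ?_⟩
    · rw [← Functor.map_comp_apply, ε_succ_comp_β]
    · rw [← Functor.map_comp_apply, ← Functor.map_comp_apply, α_comp_ε]
  · rintro ⟨Y, hY1, hY2⟩
    obtain ⟨C, p₁, p₂, hC⟩ := exists_isFibreProd_of_surjective (β k n) (α k n) (α_surjective k n)
    have hbij := hRS p₁ p₂ (β k n) (α k n) hC (α_surjective k n)
    have hZ : F.map (piHom hC) Y = F.map (gHom hC) X := by
      apply hbij.1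
      apply FibProd.ext
      · change F.map p₁ (F.map (piHom hC) Y) = F.map p₁ (F.map (gHom hC) X)
        rw [← Functor.map_comp_apply, ← Functor.map_comp_apply, piHom, gHom,
          fpLiftHom_fst, fpLiftHom_fst]
        exact hY2
      · change F.map p₂ (F.map (piHom hC) Y) = F.map p₂ (F.map (gHom hC) X)
        rw [← Functor.map_comp_apply, ← Functor.map_comp_apply, piHom, gHom,
          fpLiftHom_snd, fpLiftHom_snd, Functor.map_id_apply]
        exact hY1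
    have hπ := isSemismallExt_piHom hC
    have hα := isSemismallExt_α k (n + 1)
    have h1 : O.obs (piHom hC) hπ (F.map (gHom hC) X) = 0 :=
      (O.obs_eq_zero_iff (piHom hC) hπ _).mpr ⟨Y, hZ⟩
    rw [hnat (α k (n + 1)) hα (piHom hC) hπ (ε k (n + 1)) (gHom hC) (sq hC) (ellMap hC)
      (fun j => ellMap_coe hC j) X] at h1
    have hinj : Function.Injective (LinearMap.lTensor V (ellMap hC)) :=
      Module.Flat.lTensor_preserves_injective_linearMap _ (ellMap_injective hC)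
    have h2 : O.obs (α k (n + 1)) hα X = 0 := (injective_iff_map_eq_zero _).mp hinj _ h1
    exact (O.obs_eq_zero_iff _ hα X).mp h2

end Main

end Groth.Agent.Lib.Helper21.T1L
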