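import Mathlib

/-!
# Rings integrally closed in a product of algebraically closed fields ("TIC rings")
-/

set_option autoImplicit false
universe u
open Polynomial

namespace Groth.Agent.Lib.Helper21.TIC

/-- Data exhibiting `R` as a subring of a product of algebraically closed fields, integrally
closed in that product. -/
structure Data (R : Type u) [CommRing R] where
  I : Type u
  K : I → Type u
  [field : ∀ i, Field (K i)]
  [algClosed : ∀ i, IsAlgClosed (K i)]
  ι : R →+* (∀ i, K i)
  inj : Function.Injective ι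
  closed : ∀ y : (∀ i, K i), ι.IsIntegralElem y → y ∈ ι.range

attribute [instance] Data.field Data.algClosed

/-- `R` is integrally closed in some product of algebraically closed fields. -/
def IsTIC (R : Type u) [CommRing R] : Prop := Nonempty (Data R)

variable {R : Type u} [CommRing R]

theorem Data.eval₂_apply (D : Data R) (y : ∀ i, D.K i) (f : R[X]) (i : D.I) :
    (eval₂ D.ι y f) i = eval₂ ((Pi.evalRingHom D.K i).comp D.ι) (y i) f :=
  Polynomial.hom_eval₂ f D.ι (Pi.evalRingHom D.K i) y

/-- Monic polynomials of positive degree over a TIC ring have a root. -/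
theorem Data.exists_root (D : Data R) (f : R[X]) (hf : f.Monic) (hd : f.natDegree ≠ 0) :
    ∃ b : R, f.eval b = 0 := by
  have hroot : ∀ i : D.I, ∃ y : D.K i,
      eval₂ ((Pi.evalRingHom D.K i).comp D.ι) y f = 0 := by
    intro i
    have hm : (f.map ((Pi.evalRingHom D.K i).comp D.ι)).Monic := hf.map _
    have hdeg : (f.map ((Pi.evalRingHom D.K i).comp D.ι)).degree ≠ 0 := by
      rw [degree_eq_natDegree hm.ne_zero, hf.natDegree_map]
      exact_mod_cast hd
    obtain ⟨y, hy⟩ := IsAlgClosed.exists_root _ hdeg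
    exact ⟨y, by rwa [IsRoot, eval_map] at hy⟩
  choose y hy using hroot
  have hint : D.ι.IsIntegralElem y := ⟨f, hf, by
    funext i
    rw [D.eval₂_apply, hy i]
    rfl⟩
  obtain ⟨b, hb⟩ := D.closed y hint
  refine ⟨b, D.inj ?_⟩
  rw [map_zero, ← Polynomial.eval₂_at_apply, hb]
  funext i
  rw [D.eval₂_apply, hy i]
  rfl

/-- Monic polynomials over a TIC ring split into linear factors. -/
theorem Data.splits (D : Data R) : ∀ (n : ℕ) (f : R[X]), f.Monic → f.natDegree = n →
    ∃ l : Multiset R, f = (l.map fun b => X - C b).prod := by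
  intro n
  induction n with
  | zero =>
    intro f hf hn
    refine ⟨0, ?_⟩
    rw [Multiset.map_zero, Multiset.prod_zero]
    exact hf.natDegree_eq_zero.mp hn
  | succ n ih =>
    intro f hf hn
    obtain ⟨b, hb⟩ := D.exists_root f hf (by rw [hn]; exact Nat.succ_ne_zero n)
    have hdiv : (X - C b) * (f /ₘ (X - C b)) = f := mul_divByMonic_eq_iff_isRoot.mpr hb
    have hqm : (f /ₘ (X - C b)).Monic := by
      refine Monic.of_mul_monic_left (monic_X_sub_C b) ?_
      rw [hdiv]; exact hf
    have hqd : (f /ₘ (X - C b)).natDegree = n := by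
      haveI : Nontrivial R := by
        by_contra h
        rw [not_nontrivial_iff_subsingleton] at h
        have h0 : f = 0 := Subsingleton.elim _ _
        rw [h0, natDegree_zero] at hn
        omega
      have := congrArg natDegree hdiv
      rw [(monic_X_sub_C b).natDegree_mul hqm, natDegree_X_sub_C, hn] at this
      omega
    obtain ⟨l, hl⟩ := ih _ hqm hqd
    refine ⟨b ::ₘ l, ?_⟩
    rw [Multiset.map_cons, Multiset.prod_cons, ← hl, hdiv]

/-- Extension of a homomorphism to an algebraically closed field along an integral ring map,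
through a prescribed prime. -/
theorem exists_extension_of_isIntegral {R C K : Type u} [CommRing R] [CommRing C] [Field K]
    [IsAlgClosed K] (φ : R →+* C) (hint : φ.IsIntegral) (χ : R →+* K) (Q : Ideal C) [Q.IsPrime]
    (hQ : Q.comap φ = RingHom.ker χ) : ∃ ψ : C →+* K, ψ.comp φ = χ := by
  let J : Ideal R := Q.comap φ
  haveI : J.IsPrime := Ideal.IsPrime.comap φ
  let φ' : R ⧸ J →+* C ⧸ Q := Ideal.quotientMap Q φ le_rfl
  have hφ'inj : Function.Injective φ' := Ideal.quotientMap_injective' le_rfl
  have hφ'int : φ'.IsIntegral := hint.quotient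
  let χ' : R ⧸ J →+* K := Ideal.Quotient.lift J χ (fun a ha => by
    have : a ∈ RingHom.ker χ := hQ ▸ ha
    exact this)
  have hχ'inj : Function.Injective χ' :=
    RingHom.lift_injective_of_ker_le_ideal J _ (by rw [← hQ])
  letI := φ'.toAlgebra
  letI := χ'.toAlgebra
  have : Module.IsTorsionFree (R ⧸ J) (C ⧸ Q) :=
    Module.isTorsionFree_iff_algebraMap_injective.mpr hφ'inj
  have : Module.IsTorsionFree (R ⧸ J) K :=
    Module.isTorsionFree_iff_algebraMap_injective.mpr hχ'inj
  have : Algebra.IsIntegral (R ⧸ J) (C ⧸ Q) := ⟨hφ'int⟩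
  have : Algebra.IsAlgebraic (R ⧸ J) (C ⧸ Q) := Algebra.IsIntegral.isAlgebraic
  let L : (C ⧸ Q) →ₐ[R ⧸ J] K := IsAlgClosed.lift
  refine ⟨L.toRingHom.comp (Ideal.Quotient.mk Q), ?_⟩
  ext r
  have h1 : (Ideal.Quotient.mk Q) (φ r) = algebraMap (R ⧸ J) (C ⧸ Q) (Ideal.Quotient.mk J r) := by
    rw [RingHom.algebraMap_toAlgebra]
    exact (Ideal.quotientMap_mk (f := φ) (H := le_rfl)).symm
  simp only [RingHom.comp_apply, AlgHom.toRingHom_eq_coe, RingHom.coe_coe]
  rw [h1, L.commutes, RingHom.algebraMap_toAlgebra]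
  exact Ideal.Quotient.lift_mk J χ _

/-- Every integral algebra over a TIC ring which is surjective on spectra admits a retraction. -/
theorem Data.exists_retraction (D : Data R) {C : Type u} [CommRing C] (φ : R →+* C)
    (hint : φ.IsIntegral) (hsurj : Function.Surjective (PrimeSpectrum.comap φ)) :
    ∃ ρ : C →+* R, ρ.comp φ = RingHom.id R := by
  have hψ : ∀ i : D.I, ∃ ψ : C →+* D.K i, ψ.comp φ = (Pi.evalRingHom D.K i).comp D.ι := by
    intro i
    let χ : R →+* D.K i := (Pi.evalRingHom D.K i).comp D.ι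
    obtain ⟨Q, hQ⟩ := hsurj ⟨RingHom.ker χ, RingHom.ker_isPrime χ⟩
    have hQ' : Q.asIdeal.comap φ = RingHom.ker χ := congrArg PrimeSpectrum.asIdeal hQ
    exact exists_extension_of_isIntegral φ hint χ Q.asIdeal hQ'
  choose ψ hψ using hψ
  let Ψ : C →+* (∀ i, D.K i) := Pi.ringHom ψ
  have hΨφ : Ψ.comp φ = D.ι := by
    ext r i
    exact congrArg (fun f : R →+* D.K i => f r) (hψ i)
  have hmem : ∀ c : C, Ψ c ∈ D.ι.range := by
    intro c
    apply D.closed
    obtain ⟨p, hp, hpc⟩ := hint c
    refine ⟨p, hp, ?_⟩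
    rw [← hΨφ, ← Polynomial.hom_eval₂, hpc, map_zero]
  let e : R ≃+* D.ι.range :=
    RingEquiv.ofBijective D.ι.rangeRestrict
      ⟨fun a b h => D.inj (congrArg Subtype.val h), D.ι.rangeRestrict_surjective⟩
  have he : ∀ x : D.ι.range, D.ι (e.symm x) = x.1 := by
    intro x
    have : e (e.symm x) = x := e.apply_symm_apply x
    exact congrArg Subtype.val this
  refine ⟨e.symm.toRingHom.comp (Ψ.codRestrict D.ι.range hmem), ?_⟩
  ext r
  apply D.inj
  simp only [RingHom.comp_apply, RingEquiv.toRingHom_eq_coe, RingHom.coe_coe, RingHom.id_apply]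
  rw [he]
  exact congrArg (fun f : R →+* (∀ i, D.K i) => f r) hΨφ

end Groth.Agent.Lib.Helper21.TIC
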