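import Mathlib
import Groth.Agent.Lib.Helper21.TIC1

/-!
# Localizations of TIC rings are TIC
-/

set_option autoImplicit false
universe u
open Polynomial

namespace Groth.Agent.Lib.Helper21.TIC

variable {R : Type u} [CommRing R]

section away

variable (D : Data R) (h : R)

/-- index set of the localization -/
abbrev Data.awayI : Type u := {i : D.I // D.ι h i ≠ 0}

/-- the projection to the components where `h` does not vanish -/
def Data.awayProj : R →+* (∀ i : D.awayI h, D.K i.1) :=
  Pi.ringHom fun i => (Pi.evalRingHom D.K i.1).comp D.ι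

theorem Data.awayProj_apply (r : R) (i : D.awayI h) : D.awayProj h r i = D.ι r i.1 := rfl

theorem Data.isUnit_awayProj : IsUnit (D.awayProj h h) := by
  rw [Pi.isUnit_iff]
  intro i
  exact IsUnit.mk0 _ i.2

theorem Data.awayProj_eq_zero {r : R} (hr : D.awayProj h r = 0) : h * r = 0 := by
  apply D.inj
  rw [map_zero, map_mul]
  funext i
  by_cases hi : D.ι h i = 0
  · simp [hi]
  · have : D.awayProj h r ⟨i, hi⟩ = 0 := by rw [hr]; rfl
    rw [D.awayProj_apply] at this
    simp [this]

variable (Rh : Type u) [CommRing Rh] [Algebra R Rh] [IsLocalization.Away h Rh]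

/-- the induced embedding of the localization -/
noncomputable def Data.awayι : Rh →+* (∀ i : D.awayI h, D.K i.1) :=
  IsLocalization.Away.lift h (D.isUnit_awayProj h)

theorem Data.awayι_algebraMap (r : R) : D.awayι h Rh (algebraMap R Rh r) = D.awayProj h r :=
  IsLocalization.Away.lift_eq h (D.isUnit_awayProj h) r

theorem Data.awayι_injective : Function.Injective (D.awayι h Rh) := by
  rw [injective_iff_map_eq_zero]
  intro x hx
  obtain ⟨n, a, ha⟩ := IsLocalization.Away.surj h x
  have h1 : D.awayProj h a = 0 := by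
    rw [← D.awayι_algebraMap h Rh, ← ha, map_mul, hx, zero_mul]
  have h2 : h * a = 0 := D.awayProj_eq_zero h h1
  have hu : IsUnit (algebraMap R Rh h) := IsLocalization.Away.algebraMap_isUnit h
  have h3 : algebraMap R Rh a = 0 := by
    have := congrArg (algebraMap R Rh) h2
    rw [map_mul, map_zero] at this
    exact (hu.mul_right_eq_zero).mp this
  rw [h3] at ha
  exact ((hu.pow n).mul_left_eq_zero).mp ha

theorem Data.awayι_closed (y : ∀ i : D.awayI h, D.K i.1)
    (hy : (D.awayι h Rh).IsIntegralElem y) : y ∈ (D.awayι h Rh).range := by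
  classical
  rcases subsingleton_or_nontrivial R with hR | hR
  · haveI : IsEmpty (D.awayI h) := ⟨fun i => i.2 (by
      have h0 : D.ι h = 0 := by rw [Subsingleton.elim h 0, map_zero]
      exact congrFun h0 i.1)⟩
    exact ⟨0, Subsingleton.elim _ _⟩
  letI : Algebra R (∀ i : D.awayI h, D.K i.1) := (D.awayProj h).toAlgebra
  letI : Algebra Rh (∀ i : D.awayI h, D.K i.1) := (D.awayι h Rh).toAlgebra
  haveI : IsScalarTower R Rh (∀ i : D.awayI h, D.K i.1) :=
    .of_algebraMap_eq fun r => (D.awayι_algebraMap h Rh r).symm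
  obtain ⟨⟨m, n, rfl⟩, hm⟩ :=
    IsIntegral.exists_multiple_integral_of_isLocalization (Submonoid.powers h) y hy
  obtain ⟨P, hP, hPy⟩ := hm
  -- the element `y' = h^n • y`
  set y' : ∀ i : D.awayI h, D.K i.1 := D.awayProj h (h ^ n) * y with hy'
  have hPy' : eval₂ (D.awayProj h) y' P = 0 := by
    have : ((⟨h ^ n, n, rfl⟩ : Submonoid.powers h) • y : ∀ i : D.awayI h, D.K i.1) = y' := by
      rw [Submonoid.smul_def, Algebra.smul_def]
      rfl
    rw [← this]
    exact hPy
  -- make the degree positive and scale the roots by `h`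
  set P₁ : R[X] := X * P with hP₁
  have hP₁m : P₁.Monic := monic_X.mul hP
  have hP₁y : eval₂ (D.awayProj h) y' P₁ = 0 := by
    rw [hP₁, eval₂_mul, hPy', mul_zero]
  set P₂ : R[X] := scaleRoots P₁ h with hP₂
  have hP₂m : P₂.Monic := (monic_scaleRoots_iff h).mpr hP₁m
  have hP₂y : eval₂ (D.awayProj h) (D.awayProj h h * y') P₂ = 0 := by
    rw [hP₂, scaleRoots_eval₂_mul, hP₁y, mul_zero]
  have hdeg : P₁.natDegree ≠ 0 := by
    rw [hP₁, monic_X.natDegree_mul hP, natDegree_X]
    omega
  -- extension by zero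
  let z : ∀ i, D.K i := fun i =>
    if hi : D.ι h i ≠ 0 then (D.awayProj h h * y') ⟨i, hi⟩ else 0
  have hz : D.ι.IsIntegralElem z := by
    refine ⟨P₂, hP₂m, ?_⟩
    funext i
    rw [D.eval₂_apply]
    by_cases hi : D.ι h i ≠ 0
    · have hzi : z i = (D.awayProj h h * y') ⟨i, hi⟩ := dif_pos hi
      rw [hzi]
      have := congrArg (Pi.evalRingHom (fun i : D.awayI h => D.K i.1) ⟨i, hi⟩) hP₂y
      rw [Polynomial.hom_eval₂ P₂ (D.awayProj h)
        (Pi.evalRingHom (fun i : D.awayI h => D.K i.1) ⟨i, hi⟩), map_zero] at this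
      exact this
    · have hzi : z i = 0 := dif_neg hi
      rw [hzi, eval₂_at_zero, hP₂, coeff_scaleRoots]
      rw [not_not] at hi
      simp only [RingHom.comp_apply, map_mul, map_pow, Pi.evalRingHom_apply]
      rw [hi, tsub_zero, zero_pow hdeg, mul_zero]
      rfl
  obtain ⟨b, hb⟩ := D.closed z hz
  have hbz : D.awayProj h b = D.awayProj h h * y' := by
    funext i
    rw [D.awayProj_apply, hb]
    exact dif_pos i.2
  have hu : IsUnit (D.awayProj h (h ^ (n + 1))) := by
    rw [map_pow]; exact (D.isUnit_awayProj h).pow _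
  refine ⟨IsLocalization.mk' Rh b (⟨h ^ (n + 1), n + 1, rfl⟩ : Submonoid.powers h), ?_⟩
  have h1 : D.awayι h Rh (IsLocalization.mk' Rh b (⟨h ^ (n + 1), n + 1, rfl⟩ : Submonoid.powers h)) *
      D.awayProj h (h ^ (n + 1)) = D.awayProj h b := by
    rw [← D.awayι_algebraMap h Rh, ← map_mul, IsLocalization.mk'_spec, D.awayι_algebraMap]
  have h2 : D.awayProj h b = y * D.awayProj h (h ^ (n + 1)) := by
    rw [hbz, hy', pow_succ, map_mul]
    ring
  rw [h2] at h1
  exact hu.mul_left_injective h1

/-- The localization of a TIC ring at an element is TIC. -/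
noncomputable def Data.away : Data Rh where
  I := D.awayI h
  K := fun i => D.K i.1
  ι := D.awayι h Rh
  inj := D.awayι_injective h Rh
  closed := D.awayι_closed h Rh

end away


end Groth.Agent.Lib.Helper21.TIC
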