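import Mathlib
import Groth.Agent.Lib.Helper21.TIC1

/-!
# Étale algebras over TIC rings have Zariski-local sections
-/

set_option autoImplicit false
universe u
open Polynomial

namespace Groth.Agent.Lib.Helper21.TIC

variable {R : Type u} [CommRing R]

/-- Étale algebras over a TIC ring have sections Zariski-locally on the base, through any given
prime. -/
theorem Data.exists_algHom_away_of_etale (D : Data R) {S : Type u} [CommRing S] [Algebra R S]
    [Algebra.Etale R S] (Q : Ideal S) [Q.IsPrime] :
    ∃ h : R, h ∉ Q.comap (algebraMap R S) ∧ Nonempty (S →ₐ[R] Localization.Away h) := by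
  haveI : Algebra.IsEtaleAt R Q := by
    have := (Algebra.etaleLocus_eq_univ_iff_etale (R := R) (A := S)).mpr inferInstance
    have hmem : (⟨Q, inferInstance⟩ : PrimeSpectrum S) ∈ Algebra.etaleLocus R S := by
      rw [this]; trivial
    exact hmem
  obtain ⟨f, hfQ, hstd⟩ := Algebra.IsEtaleAt.exists_isStandardEtale (R := R) Q
  let P : StandardEtalePresentation R (Localization.Away f) :=
    hstd.nonempty_standardEtalePresentation.some
  -- the prime of the localization
  have hdisj : Disjoint (Submonoid.powers f : Set S) (Q : Set S) :=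
    (Ideal.disjoint_powers_iff_notMem_of_isPrime f).mpr hfQ
  let Q' : Ideal (Localization.Away f) := Q.map (algebraMap S (Localization.Away f))
  haveI hQ' : Q'.IsPrime :=
    IsLocalization.isPrime_of_isPrime_disjoint (Submonoid.powers f) _ Q inferInstance hdisj
  have hQ'c : Q'.comap (algebraMap S (Localization.Away f)) = Q :=
    IsLocalization.comap_map_of_isPrime_disjoint (Submonoid.powers f) _ inferInstance hdisj
  -- the residue domain
  let mk : Localization.Away f →ₐ[R] (Localization.Away f ⧸ Q') := Ideal.Quotient.mkₐ R Q'
  let ξ : Localization.Away f ⧸ Q' := mk P.x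
  have hξf : aeval ξ P.f = 0 := (P.hasMap.map mk).1
  have hξg : IsUnit (aeval ξ P.g) := (P.hasMap.map mk).2
  obtain ⟨l, hl⟩ := D.splits _ P.f P.monic_f rfl
  have hprod : (l.map fun b => ξ - algebraMap R _ b).prod = 0 := by
    rw [← hξf, hl, map_multiset_prod, Multiset.map_map]
    congr 1
    refine Multiset.map_congr rfl fun b _ => ?_
    simp
  rw [Multiset.prod_eq_zero_iff, Multiset.mem_map] at hprod
  obtain ⟨b, hbl, hb⟩ := hprod
  have hξb : ξ = algebraMap R _ b := sub_eq_zero.mp hb
  have hbroot : P.f.eval b = 0 := by
    rw [hl, eval_multiset_prod]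
    apply Multiset.prod_eq_zero
    rw [Multiset.mem_map]
    refine ⟨X - C b, Multiset.mem_map.mpr ⟨b, hbl, rfl⟩, ?_⟩
    simp
  let h : R := P.g.eval b
  have hh : algebraMap R (Localization.Away f ⧸ Q') h = aeval ξ P.g := by
    rw [hξb, aeval_algebraMap_apply]
    rfl
  refine ⟨h, ?_, ?_⟩
  · intro hmem
    rw [Ideal.mem_comap] at hmem
    have h0 : algebraMap R (Localization.Away f ⧸ Q') h = 0 := by
      rw [IsScalarTower.algebraMap_apply R (Localization.Away f) (Localization.Away f ⧸ Q'),
        IsScalarTower.algebraMap_apply R S (Localization.Away f)]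
      rw [Ideal.Quotient.algebraMap_eq, Ideal.Quotient.eq_zero_iff_mem]
      exact Ideal.mem_map_of_mem _ hmem
    rw [hh] at h0
    rw [h0] at hξg
    exact not_isUnit_zero hξg
  · have hmap : P.HasMap (algebraMap R (Localization.Away h) b) := by
      refine ⟨?_, ?_⟩
      · rw [aeval_algebraMap_apply]
        have : aeval b P.f = P.f.eval b := by simp
        rw [this, hbroot, map_zero]
      · rw [aeval_algebraMap_apply]
        have : aeval b P.g = h := by simp [h]
        rw [this]
        exact IsLocalization.Away.algebraMap_isUnit h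
    exact ⟨((P.lift _ hmap).comp P.equivRing.toAlgHom).comp
      (IsScalarTower.toAlgHom R S (Localization.Away f))⟩


end Groth.Agent.Lib.Helper21.TIC
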