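import Mathlib
import Groth.Agent.Lib.Helper21.TIC1

/-!
# The presheaf of TIC rings on a scheme

`U ↦` integral closure of `Γ(S, U)` in `∏_{s ∈ U} κ(s)^alg`; it is a quasi-coherent algebra
(`coequifibered_ticMap`) on an arbitrary scheme.
-/

set_option autoImplicit false
universe u
open CategoryTheory CategoryTheory.Limits AlgebraicGeometry Opposite Polynomial

namespace Groth.Agent.Lib.Helper21.TIC

variable (S : Scheme.{u})

/-- An algebraic closure of the residue field at a point. -/
abbrev Kbar (s : S) : Type u := AlgebraicClosure (S.residueField s)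

/-- The product of the algebraically closed fields over the points of an open. -/
abbrev PiK (U : S.Opens) : Type u := ∀ s : U, Kbar S s.1

/-- Evaluation of sections at all points. -/
noncomputable def evalHom (U : S.Opens) : Γ(S, U) →+* PiK S U :=
  Pi.ringHom fun s =>
    (algebraMap (S.residueField s.1) (Kbar S s.1)).comp (S.evaluation U s.1 s.2).hom

variable {S}

/-- Restriction of tuples. -/
noncomputable def resPi {U V : S.Opens} (h : V ≤ U) : PiK S U →+* PiK S V :=
  Pi.ringHom fun s => Pi.evalRingHom (fun s : U => Kbar S s.1) (⟨s.1, h s.2⟩ : U)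

theorem resPi_apply {U V : S.Opens} (h : V ≤ U) (x : PiK S U) (s : V) :
    resPi h x s = x ⟨s.1, h s.2⟩ := rfl

theorem resPi_comp_evalHom {U V : S.Opens} (h : V ≤ U) :
    (resPi h).comp (evalHom S U) = (evalHom S V).comp (S.presheaf.map (homOfLE h).op).hom := by
  ext x s
  have := TopCat.Presheaf.germ_res_apply S.presheaf (homOfLE h) s.1 s.2 x
  change algebraMap _ (Kbar S s.1) (S.residue s.1 (S.presheaf.germ U s.1 (h s.2) x)) =
    algebraMap _ (Kbar S s.1)
      (S.residue s.1 (S.presheaf.germ V s.1 s.2 (S.presheaf.map (homOfLE h).op x)))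
  rw [this]

theorem isIntegralElem_resPi {U V : S.Opens} (h : V ≤ U) {x : PiK S U}
    (hx : (evalHom S U).IsIntegralElem x) : (evalHom S V).IsIntegralElem (resPi h x) := by
  obtain ⟨p, hp, hpx⟩ := hx
  refine ⟨p.map (S.presheaf.map (homOfLE h).op).hom, hp.map _, ?_⟩
  rw [eval₂_map, ← resPi_comp_evalHom, ← Polynomial.hom_eval₂, hpx, map_zero]

/-- The projection to the factors where `a` does not vanish is the localization at `a`. -/
theorem isLocalization_resPi {U V : S.Opens} (h : V ≤ U) (a : PiK S U)
    (ha : ∀ s : U, a s ≠ 0 ↔ s.1 ∈ V) :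
    letI := (resPi h).toAlgebra
    IsLocalization.Away a (PiK S V) := by
  classical
  letI := (resPi h).toAlgebra
  rw [IsLocalization.Away, isLocalization_iff]
  refine ⟨?_, ?_, ?_⟩
  · rintro ⟨_, n, rfl⟩
    change IsUnit (resPi h (a ^ n))
    rw [Pi.isUnit_iff]
    intro s
    rw [resPi_apply, Pi.pow_apply]
    exact (IsUnit.mk0 _ ((ha _).mpr s.2)).pow n
  · intro z
    refine ⟨⟨fun s => if hs : s.1 ∈ V then z ⟨s.1, hs⟩ else 0, 1⟩, ?_⟩
    change z * resPi h (1 : PiK S U) = resPi h _
    rw [map_one, mul_one]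
    funext s
    rw [resPi_apply]
    change z s = if hs : s.1 ∈ V then z ⟨s.1, hs⟩ else 0
    rw [dif_pos s.2]
  · intro x y hxy
    refine ⟨⟨a, 1, pow_one a⟩, ?_⟩
    change a * x = a * y
    funext s
    by_cases hs : s.1 ∈ V
    · have := congrFun hxy ⟨s.1, hs⟩
      change resPi h x ⟨s.1, hs⟩ = resPi h y ⟨s.1, hs⟩ at this
      rw [resPi_apply, resPi_apply] at this
      rw [Pi.mul_apply, Pi.mul_apply, this]
    · have : a s = 0 := by
        by_contra hne
        exact hs ((ha s).mp hne)
      rw [Pi.mul_apply, Pi.mul_apply, this, zero_mul, zero_mul]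

variable (S)

/-- The presheaf `U ↦` integral closure of `Γ(S, U)` in `∏_{s ∈ U} κ(s)^alg`. -/
noncomputable def ticDiagram : S.Opensᵒᵖ ⥤ CommRingCat where
  obj U :=
    letI := (evalHom S U.unop).toAlgebra
    .of (integralClosure Γ(S, U.unop) (PiK S U.unop))
  map {V U} i :=
    CommRingCat.ofHom ((resPi i.unop.le).restrict _ _ fun x hx =>
      isIntegralElem_resPi i.unop.le hx)
  map_id U := by
    ext x
    rfl
  map_comp i j := by
    ext x
    rfl

/-- The structure map of the presheaf of TIC rings. -/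
noncomputable def ticMap : S.presheaf ⟶ ticDiagram S where
  app U :=
    letI := (evalHom S U.unop).toAlgebra
    CommRingCat.ofHom (algebraMap Γ(S, U.unop) (integralClosure Γ(S, U.unop) (PiK S U.unop)))
  naturality {U V} i := by
    ext x
    apply Subtype.ext
    exact (congrArg (fun f : Γ(S, U.unop) →+* PiK S V.unop => f x)
      (resPi_comp_evalHom i.unop.le)).symm

open AlgebraicGeometry.Scheme.AffineZariskiSite in
set_option backward.isDefEq.respectTransparency false in
theorem coequifibered_ticMap :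
    ((toOpensFunctor S).op.whiskerLeft (ticMap S)).Coequifibered := by
  refine coequifibered_iff_forall_isLocalizationAway.mpr fun U r ↦ ?_
  let : Algebra Γ(S, U.1) (PiK S U.1) := (evalHom S U.1).toAlgebra
  let : Algebra Γ(S, S.basicOpen r) (PiK S (S.basicOpen r)) :=
    (evalHom S (S.basicOpen r)).toAlgebra
  let : Algebra (integralClosure Γ(S, U.1) (PiK S U.1))
      (integralClosure Γ(S, S.basicOpen r) (PiK S (S.basicOpen r))) :=
    ((ticDiagram S).map (homOfLE (S.basicOpen_le r)).op).hom.toAlgebra
  let inst : Algebra (PiK S U.1) (PiK S (S.basicOpen r)) :=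
    (resPi (S.basicOpen_le r)).toAlgebra
  have : IsLocalization.Away r Γ(S, S.basicOpen r) :=
    U.2.isLocalization_basicOpen _
  have : IsLocalization.Away ((algebraMap ↑Γ(S, U.1) (PiK S U.1)) r)
      (PiK S (S.basicOpen r)) := by
    refine isLocalization_resPi (S.basicOpen_le r) _ fun s => ?_
    change (algebraMap (S.residueField s.1) (Kbar S s.1)) (S.evaluation U.1 s.1 s.2 r) ≠ 0 ↔ _
    rw [Ne, map_eq_zero_iff _ (algebraMap (S.residueField s.1) (Kbar S s.1)).injective]
    exact S.evaluation_ne_zero_iff_mem_basicOpen s.1 s.2 r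
  change IsLocalization.Away
    ((algebraMap Γ(S, U.1) (integralClosure Γ(S, U.1) (PiK S U.1))) r)
    (integralClosure Γ(S, S.basicOpen r) (PiK S (S.basicOpen r)))
  let : Algebra ↑Γ(S, U.1) (PiK S (S.basicOpen r)) :=
    ((resPi (S.basicOpen_le r)).comp (evalHom S U.1)).toAlgebra
  have : IsScalarTower Γ(S, U.1) (PiK S U.1) (PiK S (S.basicOpen r)) :=
    .of_algebraMap_eq' rfl
  have : IsScalarTower Γ(S, U.1) Γ(S, S.basicOpen r) (PiK S (S.basicOpen r)) :=
    .of_algebraMap_eq' (resPi_comp_evalHom (S.basicOpen_le r))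
  have : IsScalarTower (integralClosure Γ(S, U.1) (PiK S U.1))
    (integralClosure Γ(S, S.basicOpen r) (PiK S (S.basicOpen r)))
    (PiK S (S.basicOpen r)) := .of_algebraMap_eq' rfl
  have : IsScalarTower Γ(S, U.1) (integralClosure Γ(S, U.1) (PiK S U.1))
    (integralClosure Γ(S, S.basicOpen r) (PiK S (S.basicOpen r))) := .of_algebraMap_eq' rfl
  exact IsLocalization.Away.integralClosure r

end Groth.Agent.Lib.Helper21.TIC
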