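import Mathlib
import Groth.Agent.Lib.Helper21.TIC4

/-!
# The absolute integral closure of a scheme

`ticHom S : ticScheme S ⟶ S` is integral and surjective, and is covered by spectra of TIC rings.
-/

set_option autoImplicit false
universe u
open CategoryTheory CategoryTheory.Limits AlgebraicGeometry Opposite Polynomial

namespace Groth.Agent.Lib.Helper21.TIC

variable (S : Scheme.{u})

open AlgebraicGeometry.Scheme.AffineZariskiSite

/-- The gluing data for the "absolute integral closure" of a scheme. -/
noncomputable def ticGlueData := relativeGluingData (coequifibered_ticMap S)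

instance : ((ticGlueData S).functor ⋙ Scheme.forget).IsLocallyDirected :=
  Scheme.Cover.RelativeGluingData.instIsLocallyDirectedI₀CompFunctorForgetOfIsThin ..

/-- The "absolute integral closure" of a scheme. -/
noncomputable def ticScheme : Scheme.{u} := (ticGlueData S).glued

/-- The open cover of `ticScheme S` by spectra of TIC rings. -/
noncomputable def ticOpenCover : (ticScheme S).OpenCover := (ticGlueData S).cover

/-- The structure morphism. -/
noncomputable def ticHom : ticScheme S ⟶ S := (ticGlueData S).toBase

@[reassoc]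
lemma ι_ticHom (U : S.affineOpens) :
    (ticOpenCover S).f U ≫ ticHom S =
      Spec.map ((ticMap S).app (.op U.1)) ≫ U.2.fromSpec :=
  colimit.ι_desc _ _

set_option backward.isDefEq.respectTransparency.types false in
lemma ticHom_preimage (U : S.affineOpens) :
    ticHom S ⁻¹ᵁ U = ((ticOpenCover S).f U).opensRange := by
  simpa using! (ticGlueData S).toBase_preimage_eq_opensRange_ι U

set_option backward.isDefEq.respectTransparency false in
instance : IsIntegralHom (ticHom S) := by
  rw [IsZariskiLocalAtTarget.iff_of_iSup_eq_top (P := @IsIntegralHom) _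
    (iSup_affineOpens_eq_top _)]
  intro U
  let e := IsOpenImmersion.isoOfRangeEq (ticHom S ⁻¹ᵁ U).ι ((ticOpenCover S).f U)
      (by simpa using congr($(ticHom_preimage S U).1))
  rw [← MorphismProperty.cancel_left_of_respectsIso @IsIntegralHom e.inv,
    ← MorphismProperty.cancel_right_of_respectsIso @IsIntegralHom _ U.2.isoSpec.hom]
  have : ((ticMap S).app (.op U)).hom.IsIntegral := by
    let := (evalHom S U).toAlgebra
    change (algebraMap Γ(S, U) (integralClosure Γ(S, U) (PiK S U))).IsIntegral
    exact algebraMap_isIntegral_iff.mpr inferInstance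
  convert! IsIntegralHom.SpecMap_iff.mpr this
  rw [← cancel_mono U.2.fromSpec]
  simp [IsAffineOpen.isoSpec_hom, e, ι_ticHom]

/-- The TIC structure on the sections of the presheaf. -/
noncomputable def ticData (U : S.Opens) : Data ((ticDiagram S).obj (op U)) :=
  letI := (evalHom S U).toAlgebra
  { I := U
    K := fun s => Kbar S s.1
    ι := (integralClosure Γ(S, U) (PiK S U)).val.toRingHom
    inj := Subtype.val_injective
    closed := fun y hy => by
      have h1 : @_root_.IsIntegral (integralClosure Γ(S, U) (PiK S U)) (PiK S U) _ _ _ y := hy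
      have h2 : @_root_.IsIntegral Γ(S, U) (PiK S U) _ _ _ y := isIntegral_trans _ h1
      exact ⟨⟨y, h2⟩, rfl⟩ }

/-- the projection of the sections of the presheaf to the factor at a point -/
noncomputable def ticProj (U : S.Opens) (s : S) (hs : s ∈ U) :
    (ticDiagram S).obj (op U) →+* Kbar S s :=
  letI := (evalHom S U).toAlgebra
  (Pi.evalRingHom (fun s : U => Kbar S s.1) ⟨s, hs⟩).comp
    (integralClosure Γ(S, U) (PiK S U)).val.toRingHom

lemma ticProj_comp (U : S.Opens) (s : S) (hs : s ∈ U) :
    (ticProj S U s hs).comp ((ticMap S).app (op U)).hom =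
      (algebraMap (S.residueField s) (Kbar S s)).comp (S.evaluation U s hs).hom := rfl

open IsLocalRing in
lemma ker_evaluation {U : S.Opens} (hU : IsAffineOpen U) (s : S) (hs : s ∈ U) :
    RingHom.ker (S.evaluation U s hs).hom = (hU.primeIdealOf ⟨s, hs⟩).asIdeal := by
  rw [hU.primeIdealOf_eq_map_closedPoint]
  ext x
  change _ ↔ (S.presheaf.germ U s hs) x ∈ maximalIdeal _
  rw [RingHom.mem_ker, ← IsLocalRing.residue_eq_zero_iff]
  rfl

instance : Surjective (ticHom S) := by
  refine ⟨fun s => ?_⟩
  obtain ⟨_, ⟨U, hU : IsAffineOpen U, rfl⟩, hsU, -⟩ :=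
    S.isBasis_affineOpens.exists_subset_of_mem_open (Set.mem_univ s) isOpen_univ
  let q : Spec ((ticDiagram S).obj (op U)) :=
    ⟨RingHom.ker (ticProj S U s hsU), RingHom.ker_isPrime _⟩
  refine ⟨(ticOpenCover S).f ⟨U, hU⟩ q, ?_⟩
  have h0 : ((ticOpenCover S).f ⟨U, hU⟩ ≫ ticHom S) q =
      hU.fromSpec (Spec.map ((ticMap S).app (op U)) q) := by
    exact congr($(ι_ticHom S ⟨U, hU⟩) q)
  change ((ticOpenCover S).f ⟨U, hU⟩ ≫ ticHom S) q = s
  rw [h0]
  have h1 : Spec.map ((ticMap S).app (op U)) q = hU.primeIdealOf ⟨s, hsU⟩ := by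
    apply PrimeSpectrum.ext
    change Ideal.comap ((ticMap S).app (op U)).hom (RingHom.ker (ticProj S U s hsU)) = _
    rw [RingHom.comap_ker, ticProj_comp, ← ker_evaluation S hU s hsU]
    ext x
    simp only [RingHom.mem_ker, RingHom.comp_apply]
    exact map_eq_zero_iff _ (algebraMap (S.residueField s) (Kbar S s)).injective
  rw [h1]
  exact hU.fromSpec_primeIdealOf ⟨s, hsU⟩

end Groth.Agent.Lib.Helper21.TIC
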