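import Mathlib
import Groth.Agent.Lib.Helper21.TIC2
import Groth.Agent.Lib.Helper21.TIC3
import Groth.Agent.S1379

/-!
# fppf covers of the spectrum of a TIC ring have Zariski-local sections
-/

set_option autoImplicit false
universe u
open CategoryTheory CategoryTheory.Limits AlgebraicGeometry Opposite Polynomial

namespace Groth.Agent.Lib.Helper21.TIC

/-- Étale morphisms to the spectrum of a TIC ring have sections Zariski-locally on the base. -/
theorem exists_section_of_etale {B : Type u} [CommRing B] (D : Data B) {S'' : Scheme.{u}}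
    (e : S'' ⟶ Spec (CommRingCat.of B)) [Etale e] (q'' : S'') :
    ∃ (h : B) (σ₁ : Spec (CommRingCat.of (Localization.Away h)) ⟶ S''),
      h ∉ (e q'').asIdeal ∧
      σ₁ ≫ e = Spec.map (CommRingCat.ofHom (algebraMap B (Localization.Away h))) := by
  obtain ⟨_, ⟨U, hU : IsAffineOpen U, rfl⟩, hqU, -⟩ :=
    S''.isBasis_affineOpens.exists_subset_of_mem_open (Set.mem_univ q'') isOpen_univ
  let φc : CommRingCat.of B ⟶ Γ(S'', U) := Spec.preimage (hU.fromSpec ≫ e)
  have hφc : Spec.map φc = hU.fromSpec ≫ e := Spec.map_preimage _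
  have hEt : Etale (Spec.map φc) := by rw [hφc]; infer_instance
  have hEt' : φc.hom.Etale := (HasRingHomProperty.Spec_iff (P := @Etale)).mp hEt
  letI : Algebra B Γ(S'', U) := φc.hom.toAlgebra
  haveI : Algebra.Etale B Γ(S'', U) := hEt'
  let Qpt := hU.primeIdealOf ⟨q'', hqU⟩
  have hQpt : hU.fromSpec Qpt = q'' := hU.fromSpec_primeIdealOf ⟨q'', hqU⟩
  obtain ⟨h, hh, ⟨ψ⟩⟩ := D.exists_algHom_away_of_etale (S := Γ(S'', U)) Qpt.asIdeal
  refine ⟨h, Spec.map (CommRingCat.ofHom ψ.toRingHom) ≫ hU.fromSpec, ?_, ?_⟩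
  · have h1 : e q'' = Spec.map φc Qpt := by
      rw [hφc, Scheme.Hom.comp_apply, hQpt]
    rw [h1]
    exact hh
  · rw [Category.assoc, ← hφc, ← Spec.map_comp]
    congr 1
    ext x
    exact ψ.commutes x

/-- Integral surjective morphisms to the spectrum of a TIC ring have sections. -/
theorem exists_section_of_integral {R : Type u} [CommRing R] (D : Data R) {V₁ : Scheme.{u}}
    (p₁ : V₁ ⟶ Spec (CommRingCat.of R)) [IsIntegralHom p₁] [Surjective p₁] :
    ∃ σ : Spec (CommRingCat.of R) ⟶ V₁, σ ≫ p₁ = 𝟙 _ := by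
  haveI : IsAffine V₁ := isAffine_of_isAffineHom p₁
  let φ₁ : CommRingCat.of R ⟶ Γ(V₁, ⊤) := (Scheme.ΓSpecIso (CommRingCat.of R)).inv ≫ p₁.appTop
  have hfac : p₁ = V₁.isoSpec.hom ≫ Spec.map φ₁ := by
    have h1 := Scheme.isoSpec_hom_naturality p₁
    rw [Scheme.isoSpec_Spec_hom] at h1
    rw [Spec.map_comp, reassoc_of% h1, ← Spec.map_comp, Iso.inv_hom_id, Spec.map_id,
      Category.comp_id]
  have hint : IsIntegralHom (Spec.map φ₁) := by
    have : IsIntegralHom (V₁.isoSpec.hom ≫ Spec.map φ₁) := hfac ▸ inferInstance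
    exact (MorphismProperty.cancel_left_of_respectsIso @IsIntegralHom _ _).mp this
  have hsurj : Surjective (Spec.map φ₁) := by
    have : Surjective (V₁.isoSpec.hom ≫ Spec.map φ₁) := hfac ▸ inferInstance
    exact (MorphismProperty.cancel_left_of_respectsIso @Surjective _ _).mp this
  have hint' : φ₁.hom.IsIntegral := IsIntegralHom.SpecMap_iff.mp hint
  have hsurj' : Function.Surjective (PrimeSpectrum.comap φ₁.hom) := hsurj.surj
  obtain ⟨ρ, hρ⟩ := D.exists_retraction φ₁.hom hint' hsurj'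
  refine ⟨Spec.map (CommRingCat.ofHom ρ) ≫ V₁.isoSpec.inv, ?_⟩
  rw [hfac, Category.assoc, Iso.inv_hom_id_assoc, ← Spec.map_comp]
  have : φ₁ ≫ CommRingCat.ofHom ρ = 𝟙 _ := by
    ext x
    exact congrArg (fun f : R →+* R => f x) hρ
  rw [this, Spec.map_id]

/-- fppf covers of the spectrum of a TIC ring have sections Zariski-locally. -/
theorem exists_local_section {B : Type u} [CommRing B] (D : Data B) {X' : Scheme.{u}}
    (g' : X' ⟶ Spec (CommRingCat.of B)) [Flat g'] [LocallyOfFinitePresentation g']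
    [Surjective g'] (q : Spec (CommRingCat.of B)) :
    ∃ (N : (Spec (CommRingCat.of B)).Opens) (σ : (N : Scheme.{u}) ⟶ X'),
      q ∈ N ∧ σ ≫ g' = N.ι := by
  obtain ⟨S'', V, e, π, hEt, hq, hπs, hπf, -, -, hfac⟩ := Groth.Agent.S1379.result g' q
  obtain ⟨q'', rfl⟩ := hq
  obtain ⟨h, σ₁, hh, hσ₁⟩ := exists_section_of_etale D e q''
  -- base change the finite cover along the section
  let p₁ : pullback π σ₁ ⟶ Spec (CommRingCat.of (Localization.Away h)) := pullback.snd π σ₁
  obtain ⟨σ₂', hσ₂'⟩ := exists_section_of_integral (D.away h (Localization.Away h)) p₁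
  let σ₂ : Spec (CommRingCat.of (Localization.Away h)) ⟶ V := σ₂' ≫ pullback.fst π σ₁
  have hσ₂ : σ₂ ≫ π = σ₁ := by
    change (σ₂' ≫ pullback.fst π σ₁) ≫ π = σ₁
    rw [Category.assoc, pullback.condition, ← Category.assoc]
    change (σ₂' ≫ p₁) ≫ σ₁ = σ₁
    rw [hσ₂', Category.id_comp]
  -- the open immersion `Spec B_h ⟶ Spec B`
  let j : Spec (CommRingCat.of (Localization.Away h)) ⟶ Spec (CommRingCat.of B) :=
    Spec.map (CommRingCat.ofHom (algebraMap B (Localization.Away h)))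
  haveI : IsOpenImmersion j := IsOpenImmersion.of_isLocalization h
  have hqh : ∃ qh, j qh = e q'' := by
    have hr := PrimeSpectrum.localization_away_comap_range (Localization.Away h) h
    have hmem : e q'' ∈ (PrimeSpectrum.basicOpen h : Set (PrimeSpectrum B)) := hh
    rw [← hr] at hmem
    exact hmem
  obtain ⟨qh, hqh⟩ := hqh
  obtain ⟨W, r, hvW, hr⟩ := hfac (σ₂ qh)
  let N₀ : (Spec (CommRingCat.of (Localization.Away h))).Opens := σ₂ ⁻¹ᵁ W
  refine ⟨j ''ᵁ N₀, (j.isoImage N₀).inv ≫ σ₂.resLE W N₀ le_rfl ≫ r, ?_, ?_⟩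
  · rw [← hqh]
    exact ⟨qh, hvW, rfl⟩
  · rw [Category.assoc, Category.assoc, hr, Scheme.Hom.resLE_comp_ι_assoc, reassoc_of% hσ₂, hσ₁]
    exact j.isoImage_inv_ι N₀

end Groth.Agent.Lib.Helper21.TIC
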