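import Mathlib
import Groth.Agent.Lib.Helper21.TIC5
import Groth.Agent.Lib.Helper21.TIC6

/-!
# fppf covers are dominated Zariski-locally by the absolute integral closure
-/

set_option autoImplicit false
universe u
open CategoryTheory CategoryTheory.Limits AlgebraicGeometry Opposite Polynomial

namespace Groth.Agent.Lib.Helper21.TIC

/-- Every fppf cover of `S` has sections Zariski-locally on the absolute integral closure. -/
theorem exists_local_factorization {S' S : Scheme.{u}} (g : S' ⟶ S) [Flat g]
    [LocallyOfFinitePresentation g] [Surjective g] (t : ticScheme S) :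
    ∃ (V : (ticScheme S).Opens) (r : (V : Scheme.{u}) ⟶ S'),
      t ∈ V ∧ r ≫ g = V.ι ≫ ticHom S := by
  obtain ⟨U, q, rfl⟩ := (ticOpenCover S).exists_eq t
  let B : Type u := (ticDiagram S).obj (op (U : S.affineOpens).1)
  let D : Data B := ticData S (U : S.affineOpens).1
  let f : Spec (CommRingCat.of B) ⟶ ticScheme S := (ticOpenCover S).f U
  let ν : Spec (CommRingCat.of B) ⟶ S := f ≫ ticHom S
  let g' : pullback g ν ⟶ Spec (CommRingCat.of B) := pullback.snd g ν
  obtain ⟨N, σ, hqN, hσ⟩ := exists_local_section D g' q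
  haveI : IsOpenImmersion f := inferInstanceAs (IsOpenImmersion ((ticOpenCover S).f U))
  refine ⟨f ''ᵁ N, (f.isoImage N).inv ≫ σ ≫ pullback.fst g ν, ⟨q, hqN, rfl⟩, ?_⟩
  rw [Category.assoc, Category.assoc, pullback.condition]
  change (f.isoImage N).inv ≫ σ ≫ g' ≫ ν = _
  rw [reassoc_of% hσ]
  exact f.isoImage_inv_ι_assoc N (ticHom S)

end Groth.Agent.Lib.Helper21.TIC
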