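import Mathlib.RingTheory.TensorProduct.Free
import Mathlib.RingTheory.TensorProduct.Maps
import Mathlib.LinearAlgebra.Basis.VectorSpace
import Mathlib.LinearAlgebra.Matrix.Adjugate
import Mathlib.RingTheory.Ideal.Quotient.Operations

/-!
# Zero divisors on `R ⊗[k] A` whose reduction modulo a maximal ideal of `R` is regular

If `h * f = 0` in `R ⊗[k] A` and the image of `h` in the domain `(R ⧸ q) ⊗[k] A` is non-zero, for
a maximal ideal `q` of `R`, then some `r ∉ q` kills `f`.
-/

set_option autoImplicit false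

open TensorProduct

namespace Groth.Agent.Lib.Helper21

theorem exists_notMem_tmul_mul_eq_zero
    {k : Type*} [Field k] {A : Type*} [CommRing A] [Algebra k A]
    {R : Type*} [CommRing R] [Algebra k R] (q : Ideal R) [hq : q.IsMaximal]
    [NoZeroDivisors ((R ⧸ q) ⊗[k] A)]
    (f h : R ⊗[k] A) (hhf : h * f = 0)
    (hh : Algebra.TensorProduct.map (Ideal.Quotient.mkₐ k q) (AlgHom.id k A) h ≠ 0) :
    ∃ r : R, r ∉ q ∧ (r ⊗ₜ[k] (1 : A)) * f = 0 := by
  classical
  let _ : Field (R ⧸ q) := Ideal.Quotient.field q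
  let κ := R ⧸ q
  let b := Module.Basis.ofVectorSpace k A
  let 𝔟 := Algebra.TensorProduct.basis R b
  let 𝔟' := Algebra.TensorProduct.basis κ b
  set π := Algebra.TensorProduct.map (Ideal.Quotient.mkₐ k q) (AlgHom.id k A) with hπ
  have hπ𝔟 : ∀ i, π (𝔟 i) = 𝔟' i := by
    intro i
    simp [𝔟, 𝔟', hπ]
  have hπsmul : ∀ (r : R) (x : R ⊗[k] A), π (r • x) = (Ideal.Quotient.mk q r) • π x := by
    intro r x
    rw [Algebra.smul_def, Algebra.smul_def, map_mul]
    congr 1
  set S := (𝔟.repr f).support with hS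
  let r : S → R := fun s => 𝔟.repr f s
  have hf_sum : f = ∑ t : S, r t • 𝔟 t := by
    conv_lhs => rw [← 𝔟.linearCombination_repr f, Finsupp.linearCombination_apply, Finsupp.sum]
    rw [← Finset.sum_coe_sort]
  -- the injective linear map
  let lc : (S → κ) →ₗ[κ] (κ ⊗[k] A) := Fintype.linearCombination κ (fun s : S => 𝔟' s)
  let mbar : (S → κ) →ₗ[κ] (κ ⊗[k] A) := (LinearMap.mulLeft κ (π h)) ∘ₗ lc
  have hlc : Function.Injective lc :=
    (𝔟'.linearIndependent.comp _ Subtype.val_injective).fintypeLinearCombination_injective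
  have hmbar : Function.Injective mbar := by
    intro v w hvw
    apply hlc
    exact mul_left_cancel₀ hh hvw
  obtain ⟨ρ, hρ⟩ := LinearMap.exists_leftInverse_of_injective mbar (LinearMap.ker_eq_bot_of_injective hmbar)
  let σ : κ → R := Function.surjInv Ideal.Quotient.mk_surjective
  have hσ : ∀ c, Ideal.Quotient.mk q (σ c) = c := Function.surjInv_eq _
  let ρt : (R ⊗[k] A) →ₗ[R] (S → R) := 𝔟.constr R (fun i s => σ (ρ (𝔟' i) s))
  have claim1 : ∀ x s, Ideal.Quotient.mk q (ρt x s) = ρ (π x) s := by
    intro x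
    induction 𝔟.mem_span x using Submodule.span_induction with
    | mem x hx =>
      obtain ⟨i, rfl⟩ := hx
      intro s
      rw [Module.Basis.constr_basis, hσ, hπ𝔟]
    | zero => intro s; simp
    | add x y _ _ hx hy =>
      intro s
      rw [map_add, Pi.add_apply, map_add, hx, hy, map_add, map_add, Pi.add_apply]
    | smul a x _ hx =>
      intro s
      rw [map_smul, Pi.smul_apply, smul_eq_mul, map_mul, hx, hπsmul, map_smul, Pi.smul_apply,
        smul_eq_mul]
  let E : Matrix S S R := fun s t => ρt (h * 𝔟 t) s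
  have claim2 : E.mulVec r = 0 := by
    ext s
    rw [Matrix.mulVec, dotProduct, Pi.zero_apply]
    have : ∑ t, E s t * r t = ρt (h * f) s := by
      rw [hf_sum, Finset.mul_sum, map_sum, Finset.sum_apply]
      refine Finset.sum_congr rfl fun t _ => ?_
      rw [mul_smul_comm, map_smul, Pi.smul_apply, smul_eq_mul, mul_comm]
    rw [this, hhf, map_zero, Pi.zero_apply]
  have claim3 : E.map (Ideal.Quotient.mk q) = 1 := by
    ext s t
    rw [Matrix.map_apply, claim1, map_mul, hπ𝔟]
    have : π h * 𝔟' t = mbar (Pi.single t 1) := by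
      simp [mbar, lc]
    rw [this]
    have h2 : ρ (mbar (Pi.single t 1)) = Pi.single t 1 := by
      have := congrArg (fun g => g (Pi.single t 1)) hρ
      simpa using this
    rw [h2, Matrix.one_apply, Pi.single_apply]
  have hdet : Ideal.Quotient.mk q E.det = 1 := by
    rw [RingHom.map_det, RingHom.mapMatrix_apply, claim3, Matrix.det_one]
  have hdetq : E.det ∉ q := by
    intro hmem
    rw [Ideal.Quotient.eq_zero_iff_mem.mpr hmem] at hdet
    exact zero_ne_one hdet
  have hkill : ∀ t, E.det * r t = 0 := by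
    intro t
    have h1 : (E.adjugate * E).mulVec r = 0 := by
      rw [← Matrix.mulVec_mulVec, claim2, Matrix.mulVec_zero]
    rw [Matrix.adjugate_mul, Matrix.smul_mulVec, Matrix.one_mulVec] at h1
    have := congrFun h1 t
    simpa using this
  refine ⟨E.det, hdetq, ?_⟩
  have : (E.det ⊗ₜ[k] (1 : A)) * f = E.det • f := by
    rw [Algebra.smul_def, Algebra.TensorProduct.algebraMap_apply]
    rfl
  rw [this, hf_sum, Finset.smul_sum]
  refine Finset.sum_eq_zero fun t _ => ?_
  rw [smul_smul, hkill, zero_smul]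

end Groth.Agent.Lib.Helper21
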