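import Groth.Agent.Lib.Helper21.RegPt
import Groth.Agent.Lib.Helper21.CDeg12
import Groth.Agent.Lib.Helper25.HypTwist1
import Groth.Agent.Lib.Helper12.Fin14

/-!
# Twisting down by regular closed points on an integral proper curve over an algebraically
closed field
-/

set_option autoImplicit false
set_option linter.style.haveILetI false
set_option linter.unusedSectionVars false
universe u
open CategoryTheory CategoryTheory.Limits AlgebraicGeometry TopologicalSpace Opposite

namespace Groth.Agent.Lib.Helper21.TwistDown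

open Groth.Agent.Lib.Helper29.QCoh Groth.Agent.Lib.Lead.LinLES Groth.Agent.Lib.Lead.TwistExact
  Groth.Agent.Lib.Helper21.CDeg Groth.Agent.Lib.Helper25.HypTwist

section Inv

variable {X : Scheme.{u}}

/-- the ideal module of an effective Cartier divisor on an integral scheme is invertible -/
theorem isInvertible_idealMod [IsIntegral X] (D : X.IdealSheafData)
    (hD : BlowUp.IsEffCartierIdeal D) : PicF.IsInvertible (ClSub.idealMod D) := by
  refine Groth.Agent.Lib.Helper29.QCoh.Dual.isInvertible_of_isTriv' _ fun x => ?_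
  obtain ⟨U, hxU, a, ha, hI⟩ := hD x
  obtain ⟨α, hα⟩ := exists_ifun_eq D U a (by rw [hI]; exact Ideal.mem_span_singleton_self a)
  refine ⟨U.1, α, hxU, isTriv_idealMod D α ?_ ?_⟩
  · intro W h
    rw [hα, ← D.map_ideal (U := W) (V := U) h, hI, Ideal.map_span, Set.image_singleton]
    exact le_rfl
  · intro W h r hr
    rw [hα] at hr
    by_cases hW : Nonempty W
    · haveI := hW
      obtain ⟨y⟩ := hW
      haveI : Nonempty U.1 := ⟨⟨x, hxU⟩⟩
      have ha0 : a ≠ 0 := nonZeroDivisors.ne_zero ha
      have hra : rres X h a ≠ 0 := by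
        intro h0
        apply ha0
        apply germ_injective_of_isIntegral X y.1 (h y.2)
        rw [map_zero, ← TopCat.Presheaf.germ_res_apply X.presheaf (homOfLE h) y.1 y.2 a]
        change X.presheaf.germ W y.1 y.2 (rres X h a) = 0
        rw [h0, map_zero]
      rcases mul_eq_zero.mp hr with h1 | h1
      · exact h1
      · exact absurd h1 hra
    · rw [not_nonempty_iff] at hW
      haveI : Subsingleton Γ(X, W) := by
        have hbot : W = ⊥ := by
          ext y
          simp only [Opens.coe_bot, Set.mem_empty_iff_false, iff_false]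
          intro hy
          exact hW.false ⟨y, hy⟩
        rw [hbot]
        exact CommRingCat.subsingleton_of_isTerminal X.sheaf.isTerminalOfEmpty
      exact Subsingleton.elim _ _

end Inv

section Sec

variable (k : Type u) [Field k] (X : Scheme.{u}) [X.Over (Spec (CommRingCat.of k))]

/-- a module with `h⁰ > 0` has a nonzero section -/
theorem exists_section_ne_zero (L : X.Modules) (h : 0 < Module.finrank k (Coh.HH X L 0)) :
    ∃ σ : unitM X ⟶ L, σ ≠ 0 := by
  haveI : Nontrivial (Coh.HH X L 0) := Module.nontrivial_of_finrank_pos h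
  obtain ⟨x, hx⟩ := exists_ne (0 : Coh.HH X L 0)
  have ht : hh0 L x ≠ 0 := by
    intro h0
    apply hx
    apply (hh0 L).injective
    rw [h0, map_zero]
  refine ⟨homOfSection L (hh0 L x), fun h0 => ht ?_⟩
  have h1 := sval_homOfSection L (hh0 L x) ⊤
  rw [h0] at h1
  have h2 : Groth.Agent.Lib.Helper29.QCoh.res L (le_top : (⊤ : X.Opens) ≤ ⊤) (hh0 L x) = hh0 L x :=
    res_self L _
  rw [h2] at h1
  exact h1.symm

theorem stalkMap_zero_apply {X : Scheme.{u}} {M N : X.Modules} (x : X) (y : M.presheaf.stalk x) :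
    stalkMap (0 : M ⟶ N) x y = 0 := by
  obtain ⟨U, hxU, m, rfl⟩ := TopCat.Presheaf.exists_germ_eq M.presheaf y
  rw [stalkMap_germ]
  exact map_zero _

end Sec

section TD

variable (k : Type u) [Field k] [IsAlgClosed k] (X : Scheme.{u}) [X.Over (Spec (CommRingCat.of k))]
  [IsIntegral X] [IsProper (X ↘ (Spec (CommRingCat.of k)))]

/-- **twisting down by a general regular point**: from an invertible module with `h¹ = 0` and
`h⁰ = a + 1` one gets an invertible module with `h¹ = 0` and `h⁰ = a` -/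
theorem exists_twist_down (hdim : topologicalKrullDim X = 1) (L : X.Modules)
    (hL : PicF.IsInvertible L) (h1 : Subsingleton (Coh.HH X L 1)) (a : ℕ)
    (h0 : Module.finrank k (Coh.HH X L 0) = a + 1) :
    ∃ L' : X.Modules, PicF.IsInvertible L' ∧ Subsingleton (Coh.HH X L' 1) ∧
      Module.finrank k (Coh.HH X L' 0) = a := by
  haveI : IsLocallyNoetherian X :=
    LocallyOfFiniteType.isLocallyNoetherian (X ↘ Spec (CommRingCat.of k))
  obtain ⟨σ, hσ⟩ := exists_section_ne_zero k X L (by omega)
  have hξ : genericPoint X ∈ CohB1.genLocus L σ := genericPoint_mem_genLocus hL σ hσ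
  obtain ⟨q, hq, hqV, hD⟩ := Groth.Agent.Lib.Helper21.RegPt.exists_closed_cartier_point k X hdim
    (CohB1.genLocus L σ) ⟨_, hξ⟩
  have hQ0 := Groth.Agent.Lib.Helper21.RegPt.finrank_HH_zero_quotMod_point k X q hq
  have hQnt := Groth.Agent.Lib.Helper21.RegPt.nontrivial_stalk_quotMod_point k X q hq
  have hQst : ∀ x, x ∉ ({q} : Set X) → Subsingleton ((ClSub.quotMod
      (Scheme.IdealSheafData.vanishingIdeal ⟨{q}, hq⟩)).presheaf.stalk x) :=
    fun x hx => Groth.Agent.Lib.Helper21.RegPt.subsingleton_stalk_quotMod_point X q hq x hx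
  generalize Scheme.IdealSheafData.vanishingIdeal ⟨{q}, hq⟩ = D at hD hQ0 hQnt hQst
  have hJ : PicF.IsInvertible (ClSub.idealMod D) := isInvertible_idealMod D hD
  have hS := shortExact_idealSeq D
  have hS' := shortExact_map_tensorRight (isFlat_of_isInvertible hL) _ hS
  have hL1 := (isInvertible_iff_isFinLocFreeOfRank_one L).mp hL
  have cO : Coh.IsCoh (unitM X) := Groth.Agent.Lib.Helper12.H12Dev.isCoh_unitM X
  have cQ : Coh.IsCoh (ClSub.quotMod D) :=
    Groth.Agent.Lib.Helper17.ExtTorsionGeom.isCoh_pushforward_unit D.subschemeι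
  have cJ : Coh.IsCoh (ClSub.idealMod D) :=
    Groth.Agent.Lib.Helper12.H12Dev.isCoh_kernel _ cO cQ
  have cL : Coh.IsCoh L := ⟨isQuasicoherent_of_isInvertible hL, isFiniteType_of_isInvertible hL⟩
  have hZ : ∀ T : Set X, T ⊆ ({q} : Set X) → IsClosed T := by
    intro T hT
    rcases Set.subset_singleton_iff_eq.mp hT with h | h
    · rw [h]; exact isClosed_empty
    · rw [h]; exact hq
  haveI : (ClSub.quotMod D).IsQuasicoherent := cQ.1
  obtain ⟨Ψ⟩ := nonempty_linearEquiv_HH_zero_tensorMod k (ClSub.quotMod D) L hL {q} hZ hQst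
  have hQL0 : Module.finrank k (Coh.HH X (CohB1.tensorMod (ClSub.quotMod D) L) 0) = 1 := by
    rw [← Ψ.finrank_eq]; exact hQ0
  have hsuppQL : CohB1.support (CohB1.tensorMod (ClSub.quotMod D) L) ⊆ ({q} : Set X) := by
    intro x hx
    by_contra hxq
    exact hx (Groth.Agent.Lib.Helper25.SuppTensor.subsingleton_stalk_tensorMod _ L x (hQst x hxq))
  haveI hQL1 : Subsingleton (Coh.HH X (CohB1.tensorMod (ClSub.quotMod D) L) 1) :=
    subsingleton_HH_succ_of_support_hereditarily_closed _
      (fun T hT => hZ T (hT.trans hsuppQL)) 0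
  -- the section `σ` does not vanish at `q`
  let g : CohB1.tensorMod (unitM X) L ⟶ CohB1.tensorMod (ClSub.quotMod D) L :=
    ((idealSeq D).map (tensorRight L)).g
  haveI hgepi : Epi g := hS'.epi_g
  let σ' : unitM X ⟶ CohB1.tensorMod (unitM X) L := σ ≫ (tensorUnitL L).inv
  have hsurj_q : Function.Surjective (stalkMap (σ' ≫ g) q) := by
    intro y
    obtain ⟨y₁, rfl⟩ := (epi_iff_stalkMap_surjective g).mp hgepi q y
    obtain ⟨r, hr⟩ := stalkMap_surjective_of_mem_genLocus σ hqV
      (stalkMap (tensorUnitL L).hom q y₁)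
    refine ⟨r, ?_⟩
    have e1 : stalkMap (σ' ≫ g) q r =
        stalkMap g q (stalkMap (tensorUnitL L).inv q (stalkMap σ q r)) := by
      change stalkMap ((σ ≫ (tensorUnitL L).inv) ≫ g) q r = _
      rw [stalkMap_comp_apply, stalkMap_comp_apply]
    have e2 : stalkMap (tensorUnitL L).inv q (stalkMap (tensorUnitL L).hom q y₁) = y₁ := by
      rw [← stalkMap_comp_apply, (tensorUnitL L).hom_inv_id, stalkMap_id]
      rfl
    rw [e1, hr, e2]
  haveI hQLq : Nontrivial ((CohB1.tensorMod (ClSub.quotMod D) L).presheaf.stalk q) := by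
    obtain ⟨T, -⟩ := Groth.Agent.Lib.Helper21.ZSupp.exists_stalk_equiv (ClSub.quotMod D) L 1 hL1 q
    haveI := hQnt
    haveI : Nontrivial (Fin 1 → (ClSub.quotMod D).presheaf.stalk q) := Function.nontrivial
    exact T.symm.toEquiv.nontrivial
  have hψ : σ' ≫ g ≠ 0 := by
    intro h0
    obtain ⟨y, hy⟩ := exists_ne (0 : (CohB1.tensorMod (ClSub.quotMod D) L).presheaf.stalk q)
    obtain ⟨r, hr⟩ := hsurj_q y
    rw [h0, stalkMap_zero_apply] at hr
    exact hy hr.symm
  have hsv : sval (σ' ≫ g) ⊤ ≠ 0 := by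
    intro h0
    apply hψ
    apply hom_ext_of_sval
    rw [h0]
    rfl
  -- surjectivity on `H⁰`
  let x₀ : Coh.HH X (CohB1.tensorMod (unitM X) L) 0 := (hh0 _).symm (sval σ' ⊤)
  have hv : Canon.HHlin k g 0 x₀ ≠ 0 := by
    intro h0
    apply hsv
    have := congrArg (hh0 _) h0
    rw [hh0_map, AddEquiv.apply_symm_apply, map_zero] at this
    rw [sval_comp]
    exact this
  have hg₀ : Function.Surjective (Canon.HHlin k g 0) := by
    intro w
    obtain ⟨c, hc⟩ := (finrank_eq_one_iff_of_nonzero' _ hv).mp hQL0 w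
    exact ⟨c • x₀, by rw [map_smul, hc]⟩
  have hgΓ : Function.Surjective (g.app ⊤) := (surjective_app_top_iff k g).mpr hg₀
  have hinj := injective_HHlin_f_one k _ hS' hgΓ
  have hOL1 : Subsingleton (Coh.HH X (CohB1.tensorMod (unitM X) L) 1) :=
    (HHlinEquiv k (tensorUnitL L) 1).toEquiv.subsingleton
  have hJL1 : Subsingleton (Coh.HH X (CohB1.tensorMod (ClSub.idealMod D) L) 1) :=
    ⟨fun a b => hinj (hOL1.elim _ _)⟩
  refine ⟨CohB1.tensorMod (ClSub.idealMod D) L, isInvertible_tensorMod hJ hL, hJL1, ?_⟩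
  -- the count
  have hadd := Groth.Agent.S1524.result k X _ hS'
    (Groth.Agent.Lib.Helper12.H12Fin.isCoh_tensorMod' cJ cL)
    (Groth.Agent.Lib.Helper12.H12Fin.isCoh_tensorMod' cO cL)
    (Groth.Agent.Lib.Helper12.H12Fin.isCoh_tensorMod' cQ cL)
  change Curv2.euler k X (CohB1.tensorMod (unitM X) L) =
    Curv2.euler k X (CohB1.tensorMod (ClSub.idealMod D) L) +
      Curv2.euler k X (CohB1.tensorMod (ClSub.quotMod D) L) at hadd
  have z1 : Module.finrank k (Coh.HH X (CohB1.tensorMod (unitM X) L) 1) = 0 := by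
    haveI := hOL1; exact Module.finrank_zero_of_subsingleton
  have z2 : Module.finrank k (Coh.HH X (CohB1.tensorMod (ClSub.idealMod D) L) 1) = 0 := by
    haveI := hJL1; exact Module.finrank_zero_of_subsingleton
  have z3 : Module.finrank k (Coh.HH X (CohB1.tensorMod (ClSub.quotMod D) L) 1) = 0 := by
    haveI := hQL1; exact Module.finrank_zero_of_subsingleton
  rw [euler_eq_sub k X hdim.le, euler_eq_sub k X hdim.le, euler_eq_sub k X hdim.le,
    z1, z2, z3, hQL0, (HHlinEquiv k (tensorUnitL L) 0).finrank_eq, h0] at hadd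
  push_cast at hadd
  omega

end TD

end Groth.Agent.Lib.Helper21.TwistDown
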