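import Groth.Agent.Lib.Helper21.TwistDown2
import Groth.Agent.Lib.Helper21.FieldDvd

/-!
# Further consequences of twisting down by regular points
-/

set_option autoImplicit false
set_option linter.style.haveILetI false
set_option linter.unusedSectionVars false
universe u
open CategoryTheory CategoryTheory.Limits AlgebraicGeometry TopologicalSpace Opposite

namespace Groth.Agent.Lib.Helper21.TwistDown

open Groth.Agent.Lib.Helper29.QCoh Groth.Agent.Lib.Lead.LinLES Groth.Agent.Lib.Lead.TwistExact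
  Groth.Agent.Lib.Helper21.CDeg Groth.Agent.Lib.Helper25.HypTwist

section TD3

variable (k : Type u) [Field k] [IsAlgClosed k] (X : Scheme.{u}) [X.Over (Spec (CommRingCat.of k))]
  [IsIntegral X] [IsProper (X ↘ (Spec (CommRingCat.of k)))]

/-- `h⁰(O_X) = 1` on an integral proper scheme over an algebraically closed field -/
theorem finrank_HH_zero_unit :
    Module.finrank k (Coh.HH X (Coh.structureModule X) 0) = 1 := by
  letI := Groth.Agent.Lib.Helper21.FieldDvd.algΓ k X
  haveI := Groth.Agent.Lib.Helper21.FieldDvd.finite_Γ k X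
  haveI : Nonempty (⊤ : X.Opens) := ⟨⟨Classical.arbitrary X, trivial⟩⟩
  haveI : Algebra.IsIntegral k (Γ(X, ⊤) : Type u) := Algebra.IsIntegral.of_finite k _
  have hb := IsAlgClosed.algebraMap_bijective_of_isIntegral (k := k) (K := (Γ(X, ⊤) : Type u))
  rw [(Groth.Agent.Lib.Helper21.FieldDvd.hh0LinearEquiv k X).finrank_eq]
  exact (LinearEquiv.ofBijective (Algebra.linearMap k (Γ(X, ⊤) : Type u)) hb).finrank_eq.symm.trans
    (Module.finrank_self k)

/-- an invertible module of degree `g - 1` with `h⁰ = h¹ = 0` -/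
theorem exists_deg_genus_sub_one (hdim : topologicalKrullDim X = 1) :
    ∃ N : X.Modules, PicF.IsInvertible N ∧ Curv2.deg k X N 1 = (Curv2.genus k X : ℤ) - 1 ∧
      Subsingleton (Coh.HH X N 0) ∧ Subsingleton (Coh.HH X N 1) := by
  obtain ⟨N, hN, hN0, hN1⟩ := exists_h0_zero k X hdim
  refine ⟨N, hN, ?_, hN0, hN1⟩
  have z0 : Module.finrank k (Coh.HH X N 0) = 0 := by
    haveI := hN0; exact Module.finrank_zero_of_subsingleton
  have z1 : Module.finrank k (Coh.HH X N 1) = 0 := by
    haveI := hN1; exact Module.finrank_zero_of_subsingleton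
  have hO := finrank_HH_zero_unit k X
  unfold Curv2.deg
  rw [euler_eq_sub k X hdim.le N, euler_eq_sub k X hdim.le (Coh.structureModule X), z0, z1, hO]
  unfold Curv2.genus
  push_cast
  ring

/-- **twisting down by a general regular point, general form**: from an invertible module with
`h⁰ = a + 1` one gets an invertible module with `h⁰ = a` and the same `h¹` -/
theorem exists_twist_down' (hdim : topologicalKrullDim X = 1) (L : X.Modules)
    (hL : PicF.IsInvertible L) (a : ℕ)
    (h0 : Module.finrank k (Coh.HH X L 0) = a + 1) :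
    ∃ L' : X.Modules, PicF.IsInvertible L' ∧ Module.finrank k (Coh.HH X L' 0) = a ∧
      Module.finrank k (Coh.HH X L' 1) = Module.finrank k (Coh.HH X L 1) := by
  haveI : IsLocallyNoetherian X :=
    LocallyOfFiniteType.isLocallyNoetherian (X ↘ Spec (CommRingCat.of k))
  obtain ⟨σ, hσ⟩ := exists_section_ne_zero k X L (by omega)
  have hξ : genericPoint X ∈ CohB1.genLocus L σ := genericPoint_mem_genLocus hL σ hσ
  obtain ⟨q, hq, hqV, hD⟩ := Groth.Agent.Lib.Helper21.RegPt.exists_closed_cartier_point k X hdim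
    (CohB1.genLocus L σ) ⟨_, hξ⟩
  have hQ0 := Groth.Agent.Lib.Helper21.RegPt.finrank_HH_zero_quotMod_point k X q hq
  have hQnt := Groth.Agent.Lib.Helper21.RegPt.nontrivial_stalk_quotMod_point k X q hq
  have hQst : ∀ x, x ∉ ({q} : Set X) → Subsingleton ((ClSub.quotMod
      (Scheme.IdealSheafData.vanishingIdeal ⟨{q}, hq⟩)).presheaf.stalk x) :=
    fun x hx => Groth.Agent.Lib.Helper21.RegPt.subsingleton_stalk_quotMod_point X q hq x hx
  generalize Scheme.IdealSheafData.vanishingIdeal ⟨{q}, hq⟩ = D at hD hQ0 hQnt hQst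
  have hJ : PicF.IsInvertible (ClSub.idealMod D) := isInvertible_idealMod D hD
  have hS := shortExact_idealSeq D
  have hS' := shortExact_map_tensorRight (isFlat_of_isInvertible hL) _ hS
  have hL1 := (isInvertible_iff_isFinLocFreeOfRank_one L).mp hL
  have cO : Coh.IsCoh (unitM X) := Groth.Agent.Lib.Helper12.H12Dev.isCoh_unitM X
  have cQ : Coh.IsCoh (ClSub.quotMod D) :=
    Groth.Agent.Lib.Helper17.ExtTorsionGeom.isCoh_pushforward_unit D.subschemeι
  have cJ : Coh.IsCoh (ClSub.idealMod D) :=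
    Groth.Agent.Lib.Helper12.H12Dev.isCoh_kernel _ cO cQ
  have cL : Coh.IsCoh L := ⟨isQuasicoherent_of_isInvertible hL, isFiniteType_of_isInvertible hL⟩
  have hZ : ∀ T : Set X, T ⊆ ({q} : Set X) → IsClosed T := by
    intro T hT
    rcases Set.subset_singleton_iff_eq.mp hT with h | h
    · rw [h]; exact isClosed_empty
    · rw [h]; exact hq
  haveI : (ClSub.quotMod D).IsQuasicoherent := cQ.1
  obtain ⟨Ψ⟩ := nonempty_linearEquiv_HH_zero_tensorMod k (ClSub.quotMod D) L hL {q} hZ hQst
  have hQL0 : Module.finrank k (Coh.HH X (CohB1.tensorMod (ClSub.quotMod D) L) 0) = 1 := by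
    rw [← Ψ.finrank_eq]; exact hQ0
  have hsuppQL : CohB1.support (CohB1.tensorMod (ClSub.quotMod D) L) ⊆ ({q} : Set X) := by
    intro x hx
    by_contra hxq
    exact hx (Groth.Agent.Lib.Helper25.SuppTensor.subsingleton_stalk_tensorMod _ L x (hQst x hxq))
  haveI hQL1 : Subsingleton (Coh.HH X (CohB1.tensorMod (ClSub.quotMod D) L) 1) :=
    subsingleton_HH_succ_of_support_hereditarily_closed _
      (fun T hT => hZ T (hT.trans hsuppQL)) 0
  -- the section `σ` does not vanish at `q`
  let g : CohB1.tensorMod (unitM X) L ⟶ CohB1.tensorMod (ClSub.quotMod D) L :=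
    ((idealSeq D).map (tensorRight L)).g
  haveI hgepi : Epi g := hS'.epi_g
  let σ' : unitM X ⟶ CohB1.tensorMod (unitM X) L := σ ≫ (tensorUnitL L).inv
  have hsurj_q : Function.Surjective (stalkMap (σ' ≫ g) q) := by
    intro y
    obtain ⟨y₁, rfl⟩ := (epi_iff_stalkMap_surjective g).mp hgepi q y
    obtain ⟨r, hr⟩ := stalkMap_surjective_of_mem_genLocus σ hqV
      (stalkMap (tensorUnitL L).hom q y₁)
    refine ⟨r, ?_⟩
    have e1 : stalkMap (σ' ≫ g) q r =
        stalkMap g q (stalkMap (tensorUnitL L).inv q (stalkMap σ q r)) := by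
      change stalkMap ((σ ≫ (tensorUnitL L).inv) ≫ g) q r = _
      rw [stalkMap_comp_apply, stalkMap_comp_apply]
    have e2 : stalkMap (tensorUnitL L).inv q (stalkMap (tensorUnitL L).hom q y₁) = y₁ := by
      rw [← stalkMap_comp_apply, (tensorUnitL L).hom_inv_id, stalkMap_id]
      rfl
    rw [e1, hr, e2]
  haveI hQLq : Nontrivial ((CohB1.tensorMod (ClSub.quotMod D) L).presheaf.stalk q) := by
    obtain ⟨T, -⟩ := Groth.Agent.Lib.Helper21.ZSupp.exists_stalk_equiv (ClSub.quotMod D) L 1 hL1 q
    haveI := hQnt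
    haveI : Nontrivial (Fin 1 → (ClSub.quotMod D).presheaf.stalk q) := Function.nontrivial
    exact T.symm.toEquiv.nontrivial
  have hψ : σ' ≫ g ≠ 0 := by
    intro h0
    obtain ⟨y, hy⟩ := exists_ne (0 : (CohB1.tensorMod (ClSub.quotMod D) L).presheaf.stalk q)
    obtain ⟨r, hr⟩ := hsurj_q y
    rw [h0, stalkMap_zero_apply] at hr
    exact hy hr.symm
  have hsv : sval (σ' ≫ g) ⊤ ≠ 0 := by
    intro h0
    apply hψ
    apply hom_ext_of_sval
    rw [h0]
    rfl
  -- surjectivity on `H⁰`
  let x₀ : Coh.HH X (CohB1.tensorMod (unitM X) L) 0 := (hh0 _).symm (sval σ' ⊤)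
  have hv : Canon.HHlin k g 0 x₀ ≠ 0 := by
    intro h0
    apply hsv
    have := congrArg (hh0 _) h0
    rw [hh0_map, AddEquiv.apply_symm_apply, map_zero] at this
    rw [sval_comp]
    exact this
  have hg₀ : Function.Surjective (Canon.HHlin k g 0) := by
    intro w
    obtain ⟨c, hc⟩ := (finrank_eq_one_iff_of_nonzero' _ hv).mp hQL0 w
    exact ⟨c • x₀, by rw [map_smul, hc]⟩
  have hgΓ : Function.Surjective (g.app ⊤) := (surjective_app_top_iff k g).mpr hg₀
  have hinj := injective_HHlin_f_one k _ hS' hgΓ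
  have hsurj1 : Function.Surjective (Canon.HHlin k ((idealSeq D).map (tensorRight L)).f 1) := by
    intro x₂
    exact (exact₂ k _ hS' 1 x₂).1 (hQL1.elim _ _)
  have hJL1 : Module.finrank k (Coh.HH X (CohB1.tensorMod (ClSub.idealMod D) L) 1) =
      Module.finrank k (Coh.HH X (CohB1.tensorMod (unitM X) L) 1) :=
    (LinearEquiv.ofBijective (Canon.HHlin k ((idealSeq D).map (tensorRight L)).f 1)
      ⟨hinj, hsurj1⟩).finrank_eq
  have hOL1 : Module.finrank k (Coh.HH X (CohB1.tensorMod (unitM X) L) 1) =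
      Module.finrank k (Coh.HH X L 1) := (HHlinEquiv k (tensorUnitL L) 1).finrank_eq
  -- the count
  have hadd := Groth.Agent.S1524.result k X _ hS'
    (Groth.Agent.Lib.Helper12.H12Fin.isCoh_tensorMod' cJ cL)
    (Groth.Agent.Lib.Helper12.H12Fin.isCoh_tensorMod' cO cL)
    (Groth.Agent.Lib.Helper12.H12Fin.isCoh_tensorMod' cQ cL)
  change Curv2.euler k X (CohB1.tensorMod (unitM X) L) =
    Curv2.euler k X (CohB1.tensorMod (ClSub.idealMod D) L) +
      Curv2.euler k X (CohB1.tensorMod (ClSub.quotMod D) L) at hadd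
  have z3 : Module.finrank k (Coh.HH X (CohB1.tensorMod (ClSub.quotMod D) L) 1) = 0 := by
    haveI := hQL1; exact Module.finrank_zero_of_subsingleton
  rw [euler_eq_sub k X hdim.le, euler_eq_sub k X hdim.le, euler_eq_sub k X hdim.le,
    z3, hQL0, (HHlinEquiv k (tensorUnitL L) 0).finrank_eq, h0, hJL1] at hadd
  push_cast at hadd
  refine ⟨CohB1.tensorMod (ClSub.idealMod D) L, isInvertible_tensorMod hJ hL, ?_, hJL1.trans hOL1⟩
  omega

/-- **`deg L ≥ h⁰(L) - 1`** for an invertible module with a nonzero section -/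
theorem le_deg_of_finrank (hdim : topologicalKrullDim X = 1) (a : ℕ) :
    ∀ (L : X.Modules), PicF.IsInvertible L → Module.finrank k (Coh.HH X L 0) = a + 1 →
      (a : ℤ) ≤ Curv2.deg k X L 1 := by
  induction a with
  | zero =>
    intro L hL h0
    obtain ⟨σ, hσ⟩ := exists_section_ne_zero k X L (by omega)
    obtain ⟨h1, -⟩ := deg_eq_finrank_of_section k X hdim.le hL σ hσ
    rw [h1]
    positivity
  | succ a ih =>
    intro L hL h0
    obtain ⟨L', hL', h0', h1'⟩ := exists_twist_down' k X hdim L hL (a + 1) h0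
    have h := ih L' hL' h0'
    have hd : Curv2.deg k X L' 1 = Curv2.deg k X L 1 - 1 := by
      unfold Curv2.deg
      rw [euler_eq_sub k X hdim.le L', euler_eq_sub k X hdim.le L, h0', h1', h0]
      push_cast
      ring
    rw [hd] at h
    push_cast
    linarith

end TD3

end Groth.Agent.Lib.Helper21.TwistDown
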