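import Mathlib
import Groth.Agent.Lib.Helper21.GPI5

/-!
# Minimal primes of a Noetherian local ring with a regular parameter and reduced quotient

Let `B` be a Noetherian local ring and `t` a regular element of the maximal ideal such that `B/tB`
is reduced. Then every minimal prime `p` of `B` is contained in a minimal prime `q` over `tB`, and
`p` is the only minimal prime of `B` contained in `q` (the localisation `B_q` is a domain).
-/

set_option autoImplicit false
set_option linter.style.haveILetI false
set_option linter.unusedSectionVars false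

open IsLocalRing

namespace Groth.Agent.Lib.Helper21.USC

variable {B : Type*} [CommRing B]

theorem regular_pow {t : B} (hreg : ∀ b : B, t * b = 0 → b = 0) :
    ∀ (n : ℕ) (b : B), t ^ n * b = 0 → b = 0 := by
  intro n
  induction n with
  | zero => intro b hb; simpa using hb
  | succ n ih =>
    intro b hb
    apply ih
    apply hreg
    rw [← mul_assoc, ← pow_succ']
    exact hb

/-- Krull: a nonzero element of a Noetherian local ring is a power of `t` times an element outside
`tB` -/
theorem exists_pow_mul_of_ne_zero [IsNoetherianRing B] [IsLocalRing B] (t : B)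
    (hne : (Ideal.span {t} : Ideal B) ≠ ⊤) (a : B) (ha : a ≠ 0) :
    ∃ (n : ℕ) (c : B), a = t ^ n * c ∧ c ∉ (Ideal.span {t} : Ideal B) := by
  classical
  have hkrull := Ideal.iInf_pow_eq_bot_of_isLocalRing (Ideal.span {t} : Ideal B) hne
  have hex : ∃ n : ℕ, a ∉ (Ideal.span {t} : Ideal B) ^ n := by
    by_contra hcon
    push_neg at hcon
    apply ha
    have : a ∈ ⨅ n : ℕ, (Ideal.span {t} : Ideal B) ^ n := by
      rw [Ideal.mem_iInf]
      exact hcon
    rw [hkrull] at this
    exact this
  have hn0 : Nat.find hex ≠ 0 := by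
    intro h0
    have := Nat.find_spec hex
    rw [h0, pow_zero, Ideal.one_eq_top] at this
    exact this trivial
  obtain ⟨m, hm⟩ := Nat.exists_eq_succ_of_ne_zero hn0
  have hmem : a ∈ (Ideal.span {t} : Ideal B) ^ m := by
    by_contra hcon
    have := Nat.find_min' hex hcon
    omega
  rw [Ideal.span_singleton_pow, Ideal.mem_span_singleton'] at hmem
  obtain ⟨c, hc⟩ := hmem
  refine ⟨m, c, by rw [← hc, mul_comm], ?_⟩
  intro hcmem
  have hspec := Nat.find_spec hex
  apply hspec
  rw [hm, Ideal.span_singleton_pow, Ideal.mem_span_singleton']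
  rw [Ideal.mem_span_singleton'] at hcmem
  obtain ⟨d, hd⟩ := hcmem
  refine ⟨d, ?_⟩
  rw [← hc, ← hd, pow_succ]
  ring

/-- every minimal prime is contained in a minimal prime over `tB` -/
theorem exists_minimalPrimes_span_ge [IsNoetherianRing B] [IsLocalRing B] (t : B)
    (ht : t ∈ maximalIdeal B) (hreg : ∀ b : B, t * b = 0 → b = 0)
    (hrad : (Ideal.span {t} : Ideal B).IsRadical) (p : Ideal B) (hp : p ∈ minimalPrimes B) :
    ∃ q ∈ (Ideal.span {t} : Ideal B).minimalPrimes, p ≤ q := by
  classical
  by_contra hcon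
  push_neg at hcon
  have hne : (Ideal.span {t} : Ideal B) ≠ ⊤ := by
    intro htop
    have h1 : (Ideal.span {t} : Ideal B) ≤ maximalIdeal B :=
      (Ideal.span_singleton_le_iff_mem _).mpr ht
    rw [htop] at h1
    exact (IsLocalRing.maximalIdeal.isMaximal B).ne_top (top_le_iff.mp h1)
  have hfin : ((Ideal.span {t} : Ideal B).minimalPrimes).Finite :=
    Ideal.finite_minimalPrimes_of_isNoetherianRing B _
  have havoid : ¬ ((p : Set B) ⊆ ⋃ q ∈ (↑hfin.toFinset : Set (Ideal B)), (q : Set B)) := by
    intro hsub
    have := (Ideal.subset_union_prime (s := hfin.toFinset) (f := fun q : Ideal B => q) ⊤ ⊤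
      (fun q hq _ _ => by
        have : q ∈ (Ideal.span {t} : Ideal B).minimalPrimes := hfin.mem_toFinset.mp hq
        exact this.1.1) (I := p)).mp hsub
    obtain ⟨q, hq, hpq⟩ := this
    exact hcon q (hfin.mem_toFinset.mp hq) hpq
  rw [Set.not_subset] at havoid
  obtain ⟨x, hxp, hxn⟩ := havoid
  have hxq : ∀ q ∈ (Ideal.span {t} : Ideal B).minimalPrimes, x ∉ q := by
    intro q hq hxq
    apply hxn
    simp only [Set.mem_iUnion]
    exact ⟨q, by simpa using hq, hxq⟩
  obtain ⟨y, hy0, hxy⟩ := Ideal.exists_mul_mem_of_mem_minimalPrimes hp hxp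
  have hy0' : y ≠ 0 := fun h => hy0 (by rw [h]; exact Ideal.zero_mem _)
  have hxy' : x * y = 0 := by simpa using hxy
  obtain ⟨n, c, hyc, hc⟩ := exists_pow_mul_of_ne_zero t hne y hy0'
  have hxc : x * c = 0 := by
    apply regular_pow hreg n
    rw [← hxy', hyc]
    ring
  apply hc
  have : c ∈ (Ideal.span {t} : Ideal B).radical := by
    rw [← Ideal.sInf_minimalPrimes, Ideal.mem_sInf]
    intro q hq
    have hq' : q.IsPrime := hq.1.1
    have h0 : x * c ∈ q := by rw [hxc]; exact Ideal.zero_mem _
    exact (hq'.mem_or_mem h0).resolve_left (hxq q hq)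
  rwa [hrad.radical] at this

/-- the localisation at a minimal prime over `tB` is a domain -/
theorem isDomain_localization_of_minimalPrimes_span [IsNoetherianRing B] (t : B)
    (hreg : ∀ b : B, t * b = 0 → b = 0)
    (hrad : (Ideal.span {t} : Ideal B).IsRadical) (q : Ideal B) [hqp : q.IsPrime]
    (hq : q ∈ (Ideal.span {t} : Ideal B).minimalPrimes) :
    IsDomain (Localization.AtPrime q) := by
  let A := Localization.AtPrime q
  haveI : IsNoetherianRing A := IsLocalization.isNoetherianRing q.primeCompl A inferInstance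
  have htq : t ∈ q := hq.1.2 (Ideal.mem_span_singleton_self t)
  have ht' : algebraMap B A t ∈ maximalIdeal A :=
    (IsLocalization.AtPrime.to_map_mem_maximal_iff A q t).mpr htq
  have hnzd : t ∈ nonZeroDivisors B := by
    rw [mem_nonZeroDivisors_iff_right]
    intro b hb
    exact hreg b (by rw [mul_comm]; exact hb)
  have hnzd' : algebraMap B A t ∈ nonZeroDivisors A :=
    IsLocalization.map_nonZeroDivisors_le q.primeCompl A (Submonoid.mem_map_of_mem _ hnzd)
  have hreg' : ∀ b : A, algebraMap B A t * b = 0 → b = 0 := by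
    intro b hb
    rw [mem_nonZeroDivisors_iff_right] at hnzd'
    exact hnzd' b (by rw [mul_comm]; exact hb)
  have hspan : (Ideal.span {algebraMap B A t} : Ideal A) = maximalIdeal A := by
    have h1 : (Ideal.span {algebraMap B A t} : Ideal A) =
        (Ideal.span {t} : Ideal B).map (algebraMap B A) := by
      rw [Ideal.map_span, Set.image_singleton]
    have h2 := IsLocalization.AtPrime.radical_map_of_mem_minimalPrimes (A := A) q
      (Ideal.span {t} : Ideal B) hq
    have h3 := IsLocalization.map_radical q.primeCompl A (Ideal.span {t} : Ideal B)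
    rw [hrad.radical] at h3
    rw [h1, h3, h2, IsLocalization.AtPrime.map_eq_maximalIdeal]
  have hprime : (Ideal.span {algebraMap B A t} : Ideal A).IsPrime := by
    rw [hspan]
    exact (IsLocalRing.maximalIdeal.isMaximal A).isPrime
  exact Groth.Agent.Lib.Helper21.GPI.isDomain_of_regular_of_isPrime (algebraMap B A t) ht' hreg'
    hprime

/-- a prime whose localisation is a domain contains exactly one minimal prime -/
theorem minimalPrimes_eq_of_isDomain_localization (q : Ideal B) [q.IsPrime]
    [IsDomain (Localization.AtPrime q)] (p p' : Ideal B) (hp : p ∈ minimalPrimes B)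
    (hp' : p' ∈ minimalPrimes B) (hpq : p ≤ q) (hp'q : p' ≤ q) : p' = p := by
  let K : Ideal B := RingHom.ker (algebraMap B (Localization.AtPrime q))
  haveI hK : K.IsPrime := RingHom.ker_isPrime _
  have key : ∀ p₀ : Ideal B, p₀ ∈ minimalPrimes B → p₀ ≤ q → p₀ = K := by
    intro p₀ hp₀ hp₀q
    haveI : p₀.IsPrime := hp₀.1.1
    have hle : K ≤ p₀ := by
      intro a ha
      rw [RingHom.mem_ker, IsLocalization.map_eq_zero_iff q.primeCompl] at ha
      obtain ⟨u, hu⟩ := ha
      have h0 : (u : B) * a ∈ p₀ := by rw [hu]; exact Ideal.zero_mem _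
      refine (Ideal.IsPrime.mem_or_mem ‹p₀.IsPrime› h0).resolve_left ?_
      intro hup
      exact u.2 (hp₀q hup)
    exact le_antisymm (hp₀.2 ⟨hK, bot_le⟩ hle) hle
  rw [key p hp hpq, key p' hp' hp'q]

/-- **the main algebraic statement** -/
theorem exists_minimalPrimes_span_unique [IsNoetherianRing B] [IsLocalRing B] (t : B)
    (ht : t ∈ maximalIdeal B) (hreg : ∀ b : B, t * b = 0 → b = 0)
    (hrad : (Ideal.span {t} : Ideal B).IsRadical) (p : Ideal B) (hp : p ∈ minimalPrimes B) :
    ∃ q ∈ (Ideal.span {t} : Ideal B).minimalPrimes, p ≤ q ∧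
      ∀ p' ∈ minimalPrimes B, p' ≤ q → p' = p := by
  obtain ⟨q, hq, hpq⟩ := exists_minimalPrimes_span_ge t ht hreg hrad p hp
  haveI : q.IsPrime := hq.1.1
  haveI := isDomain_localization_of_minimalPrimes_span t hreg hrad q hq
  exact ⟨q, hq, hpq, fun p' hp' hp'q =>
    minimalPrimes_eq_of_isDomain_localization q p p' hp hp' hpq hp'q⟩

end Groth.Agent.Lib.Helper21.USC
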