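import Mathlib
import Groth.Agent.S9501
import Groth.Agent.Lib.Helper21.SCmp10
import Groth.Agent.Lib.Helper21.USC1

/-!
# Maximal points of a family with reduced fibre over a base with principal maximal ideal

Let `h : P ⟶ S` with `P` locally Noetherian, `x` a point of the fibre over `s` at which the fibre
is reduced, the maximal ideal of `O_{S,s}` principal, and such that every generisation of `x` in
the fibre has a generisation outside the fibre (e.g. `h` flat over a discrete valuation ring). Then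
every maximal point `ξ` of `P` specialising to `x` specialises to a maximal point `ζ` of the fibre,
generising `x`, such that `ξ` is the only maximal point of `P` specialising to `ζ`.
-/

set_option autoImplicit false
set_option linter.style.haveILetI false
set_option linter.unusedSectionVars false
universe u

open AlgebraicGeometry CategoryTheory Limits TopologicalSpace IsLocalRing

namespace Groth.Agent.Lib.Helper21.USC

open Groth.Agent.Lib.Helper21.SCmp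

set_option maxHeartbeats 800000 in
theorem exists_maximal_fibre_point {P S : Scheme.{u}} [IsLocallyNoetherian P] (h : P ⟶ S)
    (s : S) (y : h.fiber s) (ϖ₀ : S.presheaf.stalk (h ((h.fiberι s) y)))
    (hprin : maximalIdeal (S.presheaf.stalk (h ((h.fiberι s) y))) = Ideal.span {ϖ₀})
    (hred : _root_.IsReduced ((h.fiber s).presheaf.stalk y))
    (hgen : ∀ ξ : P, ξ ⤳ (h.fiberι s) y → h ξ = s → ∃ ξ' : P, ξ' ⤳ ξ ∧ h ξ' ≠ s)
    (ξ : P) (hξmax : ∀ ξ' : P, ξ' ⤳ ξ → ξ' = ξ) (hξ : ξ ⤳ (h.fiberι s) y) :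
    ∃ ζ : P, h ζ = s ∧ ξ ⤳ ζ ∧ ζ ⤳ (h.fiberι s) y ∧
      (∀ ζ' : P, h ζ' = s → ζ' ⤳ ζ → ζ' = ζ) ∧
      (∀ ξ' : P, (∀ ξ'' : P, ξ'' ⤳ ξ' → ξ'' = ξ') → ξ' ⤳ ζ → ξ' = ξ) := by
  have hp₀ : h ((h.fiberι s) y) = s := (h.fiberHomeo s y).2
  have hreg := stalk_regular_of_reduced_fibre h s y ϖ₀ hprin hred hgen
  obtain ⟨hsurj, hker⟩ := Groth.Agent.S9501.result h s y
  let B := P.presheaf.stalk ((h.fiberι s) y)
  let σ : S.presheaf.stalk (h ((h.fiberι s) y)) →+* B := (h.stalkMap ((h.fiberι s) y)).hom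
  let I : Ideal B := Ideal.map σ (maximalIdeal (S.presheaf.stalk (h ((h.fiberι s) y))))
  have hIrad : I.IsRadical := by
    change (Ideal.map (h.stalkMap ((h.fiberι s) y)).hom
      (maximalIdeal (S.presheaf.stalk (h ((h.fiberι s) y))))).IsRadical
    rw [← hker]
    exact RingHom.ker_isRadical_iff_reduced_of_surjective hsurj |>.mpr hred
  have hI : I = Ideal.span {σ ϖ₀} := by
    change Ideal.map σ (maximalIdeal (S.presheaf.stalk (h ((h.fiberι s) y)))) = _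
    rw [hprin, Ideal.map_span, Set.image_singleton]
  let φ := P.fromSpecStalk ((h.fiberι s) y)
  have hφemb : Topology.IsEmbedding φ.base := φ.isEmbedding
  have hrange : ∀ z : P, z ⤳ (h.fiberι s) y → ∃ 𝔯 : PrimeSpectrum B, φ.base 𝔯 = z := by
    intro z hz
    have : z ∈ Set.range φ.base := by
      rw [Scheme.range_fromSpecStalk]
      exact hz
    exact this
  have hspec : ∀ 𝔯 : PrimeSpectrum B, φ.base 𝔯 ⤳ (h.fiberι s) y := by
    intro 𝔯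
    have : φ.base 𝔯 ∈ Set.range φ.base := ⟨𝔯, rfl⟩
    rw [Scheme.range_fromSpecStalk] at this
    exact this
  have hle_iff : ∀ 𝔯₁ 𝔯₂ : PrimeSpectrum B, φ.base 𝔯₁ ⤳ φ.base 𝔯₂ ↔ 𝔯₁.asIdeal ≤ 𝔯₂.asIdeal := by
    intro 𝔯₁ 𝔯₂
    have h1 : φ.base 𝔯₁ ⤳ φ.base 𝔯₂ ↔ 𝔯₁ ⤳ 𝔯₂ := hφemb.isInducing.specializes_iff
    have h2 : 𝔯₁ ⤳ 𝔯₂ ↔ 𝔯₁ ≤ 𝔯₂ := (PrimeSpectrum.le_iff_specializes 𝔯₁ 𝔯₂).symm
    exact h1.trans h2
  -- points of the fibre
  have hfib : ∀ 𝔯 : PrimeSpectrum B, h (φ.base 𝔯) = s ↔ I ≤ 𝔯.asIdeal := by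
    intro 𝔯
    have hcomm : φ ≫ h = Spec.map (h.stalkMap ((h.fiberι s) y)) ≫
        S.fromSpecStalk (h ((h.fiberι s) y)) :=
      (Scheme.SpecMap_stalkMap_fromSpecStalk (f := h) (x := (h.fiberι s) y)).symm
    have h1 : h (φ.base 𝔯) = (S.fromSpecStalk (h ((h.fiberι s) y))).base
        ((Spec.map (h.stalkMap ((h.fiberι s) y))).base 𝔯) := by
      rw [← Scheme.Hom.comp_apply, ← Scheme.Hom.comp_apply, hcomm]
    let 𝔫 : PrimeSpectrum (S.presheaf.stalk (h ((h.fiberι s) y))) :=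
      (Spec.map (h.stalkMap ((h.fiberι s) y))).base 𝔯
    have h𝔫 : 𝔫.asIdeal = Ideal.comap σ 𝔯.asIdeal := rfl
    have hinj : Function.Injective (S.fromSpecStalk (h ((h.fiberι s) y))).base :=
      (S.fromSpecStalk (h ((h.fiberι s) y))).isEmbedding.injective
    have hcl : (S.fromSpecStalk (h ((h.fiberι s) y))).base
        (closedPoint (S.presheaf.stalk (h ((h.fiberι s) y)))) = h ((h.fiberι s) y) :=
      Scheme.fromSpecStalk_closedPoint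
    constructor
    · intro heq
      have heq' : (S.fromSpecStalk (h ((h.fiberι s) y))).base 𝔫 =
          (S.fromSpecStalk (h ((h.fiberι s) y))).base
            (closedPoint (S.presheaf.stalk (h ((h.fiberι s) y)))) :=
        (h1.symm.trans (heq.trans hp₀.symm)).trans hcl.symm
      have h2 : 𝔫 = closedPoint (S.presheaf.stalk (h ((h.fiberι s) y))) := hinj heq'
      have h3 : 𝔫.asIdeal = maximalIdeal _ := by rw [h2]; rfl
      rw [h𝔫] at h3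
      change Ideal.map σ _ ≤ _
      rw [Ideal.map_le_iff_le_comap, h3]
    · intro hle
      change Ideal.map σ _ ≤ _ at hle
      rw [Ideal.map_le_iff_le_comap, ← h𝔫] at hle
      have h3 : 𝔫.asIdeal = maximalIdeal _ :=
        ((IsLocalRing.maximalIdeal.isMaximal _).eq_of_le 𝔫.2.ne_top hle).symm
      have h2 : 𝔫 = closedPoint (S.presheaf.stalk (h ((h.fiberι s) y))) :=
        PrimeSpectrum.ext h3
      have h4 : (S.fromSpecStalk (h ((h.fiberι s) y))).base 𝔫 = h ((h.fiberι s) y) := by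
        rw [h2]; exact hcl
      exact (h1.trans h4).trans hp₀
  haveI : IsNoetherianRing B := inferInstance
  have hIne : I ≠ ⊤ := by
    intro htop
    have h1 : (1 : B) ∈ RingHom.ker ((h.fiberι s).stalkMap y).hom := by
      rw [hker]
      change (1 : B) ∈ I
      rw [htop]; trivial
    rw [RingHom.mem_ker, map_one] at h1
    exact one_ne_zero h1
  have ht : σ ϖ₀ ∈ maximalIdeal B := by
    have h1 : I ≤ maximalIdeal B := IsLocalRing.le_maximalIdeal hIne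
    apply h1
    rw [hI]
    exact Ideal.mem_span_singleton_self _
  -- the minimal prime of `ξ`
  obtain ⟨𝔭, h𝔭⟩ := hrange ξ hξ
  have h𝔭min : 𝔭.asIdeal ∈ minimalPrimes B := by
    refine ⟨⟨𝔭.2, bot_le⟩, ?_⟩
    rintro 𝔯 ⟨h𝔯p, -⟩ hle
    let 𝔯' : PrimeSpectrum B := ⟨𝔯, h𝔯p⟩
    have h1 : φ.base 𝔯' ⤳ φ.base 𝔭 := (hle_iff 𝔯' 𝔭).mpr hle
    rw [h𝔭] at h1
    have h2 : φ.base 𝔯' = φ.base 𝔭 := (hξmax _ h1).trans h𝔭.symm
    have h3 : 𝔯' = 𝔭 := hφemb.injective h2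
    rw [← h3]
  obtain ⟨𝔮, h𝔮min, h𝔭𝔮, huniq⟩ := exists_minimalPrimes_span_unique (σ ϖ₀) ht hreg
    (hI ▸ hIrad) 𝔭.asIdeal h𝔭min
  haveI h𝔮p : 𝔮.IsPrime := h𝔮min.1.1
  let 𝔮' : PrimeSpectrum B := ⟨𝔮, h𝔮p⟩
  have hI𝔮 : I ≤ 𝔮 := by
    rw [hI]
    exact h𝔮min.1.2
  refine ⟨φ.base 𝔮', (hfib 𝔮').mpr hI𝔮, ?_, hspec 𝔮', ?_, ?_⟩
  · rw [← h𝔭]
    exact (hle_iff 𝔭 𝔮').mpr h𝔭𝔮
  · intro ζ' hζ's hζ'
    obtain ⟨𝔯, h𝔯⟩ := hrange ζ' (hζ'.trans (hspec 𝔮'))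
    have hle : 𝔯.asIdeal ≤ 𝔮 := (hle_iff 𝔯 𝔮').mp (by rw [h𝔯]; exact hζ')
    have hI𝔯 : I ≤ 𝔯.asIdeal := (hfib 𝔯).mp (by rw [h𝔯]; exact hζ's)
    have hge : 𝔮 ≤ 𝔯.asIdeal := h𝔮min.2 ⟨𝔯.2, hI ▸ hI𝔯⟩ hle
    have : 𝔯 = 𝔮' := PrimeSpectrum.ext (le_antisymm hle hge)
    rw [← h𝔯, this]
  · intro ξ' hξ'max hξ'
    obtain ⟨𝔯, h𝔯⟩ := hrange ξ' (hξ'.trans (hspec 𝔮'))
    have hle : 𝔯.asIdeal ≤ 𝔮 := (hle_iff 𝔯 𝔮').mp (by rw [h𝔯]; exact hξ')
    have h𝔯min : 𝔯.asIdeal ∈ minimalPrimes B := by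
      refine ⟨⟨𝔯.2, bot_le⟩, ?_⟩
      rintro 𝔯₀ ⟨h𝔯₀p, -⟩ hle₀
      let 𝔯₀' : PrimeSpectrum B := ⟨𝔯₀, h𝔯₀p⟩
      have h1 : φ.base 𝔯₀' ⤳ φ.base 𝔯 := (hle_iff 𝔯₀' 𝔯).mpr hle₀
      rw [h𝔯] at h1
      have h2 : φ.base 𝔯₀' = φ.base 𝔯 := (hξ'max _ h1).trans h𝔯.symm
      have h3 : 𝔯₀' = 𝔯 := hφemb.injective h2
      rw [← h3]
    have h4 : 𝔯.asIdeal = 𝔭.asIdeal := huniq 𝔯.asIdeal h𝔯min hle
    have h5 : 𝔯 = 𝔭 := PrimeSpectrum.ext h4
    rw [← h𝔯, h5, h𝔭]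

end Groth.Agent.Lib.Helper21.USC
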