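import Mathlib

/-!
# Counting irreducible components: topological lemmas
-/

set_option autoImplicit false
set_option linter.style.haveILetI false
set_option linter.unusedSectionVars false

open TopologicalSpace

namespace Groth.Agent.Lib.Helper21.USC

variable {A B : Type*} [TopologicalSpace A] [TopologicalSpace B]

/-- every irreducible set is contained in an irreducible component -/
theorem exists_mem_irreducibleComponents_superset {s : Set A} (hs : IsIrreducible s) :
    ∃ T ∈ irreducibleComponents A, s ⊆ T := by
  obtain ⟨t, ht, hst, hmax⟩ := exists_preirreducible s hs.isPreirreducible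
  have htne : t.Nonempty := hs.nonempty.mono hst
  refine ⟨t, ⟨⟨htne, ht⟩, ?_⟩, hst⟩
  intro u hu htu
  exact (hmax u hu.isPreirreducible htu).le

/-- if the preimages of the (finitely many) irreducible components of `B` are irreducible, then
`A` has at most as many irreducible components as `B` -/
theorem encard_irreducibleComponents_le_of_preimage (π : A → B) (hπ : Continuous π)
    (hfin : (irreducibleComponents B).Finite)
    (H : ∀ Z ∈ irreducibleComponents B, IsPreirreducible (π ⁻¹' Z)) :
    (irreducibleComponents A).encard ≤ (irreducibleComponents B).encard := by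
  classical
  have key : ∀ T ∈ irreducibleComponents A, ∃ Z ∈ irreducibleComponents B, T = π ⁻¹' Z := by
    intro T hT
    have hcov : T ⊆ ⋃₀ ((hfin.toFinset.image fun Z => π ⁻¹' Z : Finset (Set A)) : Set (Set A)) := by
      intro a _
      have : π a ∈ ⋃₀ irreducibleComponents B := by
        rw [sUnion_irreducibleComponents]; trivial
      obtain ⟨Z, hZ, haZ⟩ := this
      refine ⟨π ⁻¹' Z, ?_, haZ⟩
      simp only [Finset.coe_image, Set.Finite.coe_toFinset, Set.mem_image]
      exact ⟨Z, hZ, rfl⟩
    obtain ⟨W, hW, hTW⟩ := isIrreducible_iff_sUnion_isClosed.mp hT.1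
      (hfin.toFinset.image fun Z => π ⁻¹' Z) (by
        intro W hW
        simp only [Finset.mem_image, Set.Finite.mem_toFinset] at hW
        obtain ⟨Z, hZ, rfl⟩ := hW
        exact (isClosed_of_mem_irreducibleComponents Z hZ).preimage hπ) hcov
    simp only [Finset.mem_image, Set.Finite.mem_toFinset] at hW
    obtain ⟨Z, hZ, rfl⟩ := hW
    refine ⟨Z, hZ, ?_⟩
    have hirr : IsIrreducible (π ⁻¹' Z) := ⟨hT.1.nonempty.mono hTW, H Z hZ⟩
    exact le_antisymm hTW (hT.2 hirr hTW)
  choose! g hg1 hg2 using key
  refine Set.encard_le_encard_of_injOn (f := g) (fun T hT => hg1 T hT) ?_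
  intro T hT T' hT' hTT'
  rw [hg2 T hT, hg2 T' hT', hTT']

/-- an open subspace has at most as many irreducible components as the ambient space -/
theorem encard_irreducibleComponents_le_of_isOpenEmbedding (j : A → B)
    (hj : Topology.IsOpenEmbedding j) :
    (irreducibleComponents A).encard ≤ (irreducibleComponents B).encard := by
  classical
  have key : ∀ T ∈ irreducibleComponents A, ∃ Z ∈ irreducibleComponents B, T = j ⁻¹' Z := by
    intro T hT
    have h1 : IsIrreducible (j '' T) := hT.1.image j hj.continuous.continuousOn
    obtain ⟨Z, hZ, hTZ⟩ := exists_mem_irreducibleComponents_superset h1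
    refine ⟨Z, hZ, ?_⟩
    have hsub : T ⊆ j ⁻¹' Z := fun a ha => hTZ ⟨a, ha, rfl⟩
    have hirr : IsIrreducible (j ⁻¹' Z) :=
      ⟨hT.1.nonempty.mono hsub, hZ.1.isPreirreducible.preimage hj⟩
    exact le_antisymm hsub (hT.2 hirr hsub)
  choose! g hg1 hg2 using key
  refine Set.encard_le_encard_of_injOn (f := g) (fun T hT => hg1 T hT) ?_
  intro T hT T' hT' hTT'
  rw [hg2 T hT, hg2 T' hT', hTT']

/-- a space surjecting onto a quasi-sober space has at least as many irreducible components -/
theorem encard_irreducibleComponents_le_of_surjective [QuasiSober B] (π : A → B)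
    (hπ : Continuous π) (hsurj : Function.Surjective π) :
    (irreducibleComponents B).encard ≤ (irreducibleComponents A).encard := by
  classical
  have key : ∀ Z ∈ irreducibleComponents B, ∃ T ∈ irreducibleComponents A,
      Z = closure (π '' T) := by
    intro Z hZ
    have hZcl : IsClosed Z := isClosed_of_mem_irreducibleComponents Z hZ
    obtain ⟨z, hz⟩ := QuasiSober.sober hZ.1 hZcl
    obtain ⟨a, rfl⟩ := hsurj z
    refine ⟨irreducibleComponent a, irreducibleComponent_mem_irreducibleComponents a, ?_⟩
    have h1 : IsIrreducible (closure (π '' irreducibleComponent a)) :=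
      (isIrreducible_irreducibleComponent.image π hπ.continuousOn).closure
    have h2 : Z ⊆ closure (π '' irreducibleComponent a) := by
      rw [← hz.def]
      apply closure_minimal _ isClosed_closure
      rw [Set.singleton_subset_iff]
      exact subset_closure ⟨a, mem_irreducibleComponent, rfl⟩
    exact le_antisymm h2 (hZ.2 h1 h2)
  choose! g hg1 hg2 using key
  refine Set.encard_le_encard_of_injOn (f := g) (fun T hT => hg1 T hT) ?_
  intro T hT T' hT' hTT'
  rw [hg2 T hT, hg2 T' hT', hTT']

/-- the set of maximal points (points without proper generisations) -/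
def maxPts (A : Type*) [TopologicalSpace A] : Set A := {x : A | ∀ x' : A, x' ⤳ x → x' = x}

/-- in a quasi-sober `T₀` space, irreducible components correspond to maximal points -/
theorem irreducibleComponents_eq_image_maxPts [QuasiSober A] [T0Space A] :
    irreducibleComponents A = (fun w : A => closure ({w} : Set A)) '' maxPts A := by
  ext T
  constructor
  · intro hT
    have hTcl : IsClosed T := isClosed_of_mem_irreducibleComponents T hT
    obtain ⟨w, hw⟩ := QuasiSober.sober hT.1 hTcl
    refine ⟨w, ?_, hw.def⟩
    intro w' hw'
    have h1 : IsIrreducible (closure ({w'} : Set A)) := isIrreducible_singleton.closure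
    have h2 : T ⊆ closure ({w'} : Set A) := by
      rw [← hw.def]
      apply closure_minimal _ isClosed_closure
      rw [Set.singleton_subset_iff]
      exact specializes_iff_mem_closure.mp hw'
    have h3 : closure ({w'} : Set A) = T := le_antisymm (hT.2 h1 h2) h2
    have h4 : IsGenericPoint w' T := h3
    exact h4.eq hw
  · rintro ⟨w, hw, rfl⟩
    refine ⟨isIrreducible_singleton.closure, ?_⟩
    intro s hs hsub
    obtain ⟨η, hη⟩ := QuasiSober.sober hs.closure isClosed_closure
    have h1 : w ∈ closure ({η} : Set A) := by
      rw [hη.def]
      exact subset_closure (hsub (subset_closure rfl))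
    have h2 : η = w := hw η (specializes_iff_mem_closure.mpr h1)
    change s ⊆ closure ({w} : Set A)
    rw [← h2, hη.def]
    exact subset_closure

theorem encard_irreducibleComponents_eq_encard_maxPts [QuasiSober A] [T0Space A] :
    (irreducibleComponents A).encard = (maxPts A).encard := by
  rw [irreducibleComponents_eq_image_maxPts]
  refine Set.InjOn.encard_image ?_
  intro w _ w' _ hww'
  have h1 : IsGenericPoint w (closure ({w'} : Set A)) := hww'
  have h2 : IsGenericPoint w' (closure ({w'} : Set A)) := rfl
  exact h1.eq h2

end Groth.Agent.Lib.Helper21.USC
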