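import Mathlib
import Groth.Agent.Lib.Helper21.USC2
import Groth.Agent.Lib.Helper21.USC3
import Groth.Agent.Lib.Helper21.GInt1

/-!
# A flat family over a discrete valuation ring with reduced closed fibre has at most as many
irreducible components as its closed fibre
-/

set_option autoImplicit false
set_option linter.style.haveILetI false
set_option linter.unusedSectionVars false
universe u

open AlgebraicGeometry CategoryTheory Limits TopologicalSpace IsLocalRing

attribute [local instance] Curv2.stalkAlgebra

namespace Groth.Agent.Lib.Helper21.USC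

open Groth.Agent.Lib.Helper21.GPI Groth.Agent.Lib.Helper21.SCmp Groth.Agent.Lib.Helper21.GInt

set_option maxHeartbeats 800000 in
/-- every maximal point of the total space specialises to a maximal point of the closed fibre
through which no other irreducible component of the total space passes -/
theorem exists_maxPt_fibre {R : Type u} [CommRing R] [IsDomain R]
    [IsDiscreteValuationRing R] {P : Scheme.{u}} (h : P ⟶ Spec (CommRingCat.of R))
    [LocallyOfFiniteType h] [Flat h] (hcl : IsClosedMap h)
    [hredF : IsReduced (h.fiber (closedPoint R))] (ξ : P) (hξ : ξ ∈ maxPts P) :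
    ∃ w ∈ maxPts (h.fiber (closedPoint R)), ξ ⤳ h.fiberι (closedPoint R) w ∧
      ∀ ξ' ∈ maxPts P, ξ' ⤳ h.fiberι (closedPoint R) w → ξ' = ξ := by
  haveI : IsLocallyNoetherian P := LocallyOfFiniteType.isLocallyNoetherian h
  obtain ⟨x₀, hsp, hx₀⟩ := exists_specializes_closed_fibre h hcl ξ
  obtain ⟨y, rfl⟩ : x₀ ∈ Set.range (h.fiberι (closedPoint R)) := by
    rw [Scheme.Hom.range_fiberι]
    exact hx₀
  have hred : _root_.IsReduced ((h.fiber (closedPoint R)).presheaf.stalk y) := inferInstance
  obtain ⟨π, hπ⟩ := IsDiscreteValuationRing.exists_irreducible R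
  have hmax : maximalIdeal R = Ideal.span {π} := hπ.maximalIdeal_eq
  have hx : h ((h.fiberι (closedPoint R)) y) = closedPoint R := (h.fiberHomeo (closedPoint R) y).2
  letI k : Algebra R ((Spec (CommRingCat.of R)).presheaf.stalk
      (h ((h.fiberι (closedPoint R)) y))) :=
    StructureSheaf.stalkAlgebra R (h ((h.fiberι (closedPoint R)) y))
  haveI hloc : IsLocalization.AtPrime ((Spec (CommRingCat.of R)).presheaf.stalk
      (h ((h.fiberι (closedPoint R)) y)))
      (show PrimeSpectrum R from h ((h.fiberι (closedPoint R)) y)).asIdeal :=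
    StructureSheaf.IsLocalization.to_stalk R (h ((h.fiberι (closedPoint R)) y))
  have hprin : maximalIdeal ((Spec (CommRingCat.of R)).presheaf.stalk
      (h ((h.fiberι (closedPoint R)) y))) = Ideal.span {algebraMap R _ π} := by
    rw [← IsLocalization.AtPrime.map_eq_maximalIdeal
      (show PrimeSpectrum R from h ((h.fiberι (closedPoint R)) y)).asIdeal]
    have : (show PrimeSpectrum R from h ((h.fiberι (closedPoint R)) y)).asIdeal =
        Ideal.span {π} := by
      rw [hx, ← hmax]; rfl
    rw [this, Ideal.map_span, Set.image_singleton]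
  have hgen : ∀ ξ : P, ξ ⤳ (h.fiberι (closedPoint R)) y → h ξ = closedPoint R →
      ∃ ξ' : P, ξ' ⤳ ξ ∧ h ξ' ≠ closedPoint R := by
    intro ξ _ hhξ
    have hG : GeneralizingMap h.base := Flat.generalizingMap h
    obtain ⟨ξ', h1, h2⟩ := hG (show gen R ⤳ h ξ by rw [hhξ]; exact gen_specializes R)
    refine ⟨ξ', h1, ?_⟩
    have h2' : h ξ' = gen R := h2
    rw [h2']
    exact gen_ne_closedPoint R
  obtain ⟨ζ, hζs, hξζ, -, hζmax, hζuniq⟩ := exists_maximal_fibre_point h (closedPoint R) y _ hprin
    hred hgen ξ hξ hsp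
  obtain ⟨w, rfl⟩ : ζ ∈ Set.range (h.fiberι (closedPoint R)) := by
    rw [Scheme.Hom.range_fiberι]
    exact hζs
  refine ⟨w, ?_, hξζ, fun ξ' hξ' hsp' => hζuniq ξ' hξ' hsp'⟩
  intro w' hw'
  have h1 : h.fiberι (closedPoint R) w' ⤳ h.fiberι (closedPoint R) w :=
    hw'.map (h.fiberι (closedPoint R)).continuous
  have h2 : h (h.fiberι (closedPoint R) w') = closedPoint R :=
    (h.fiberHomeo (closedPoint R) w').2
  have h3 := hζmax _ h2 h1
  exact (h.fiberι (closedPoint R)).isEmbedding.injective h3

/-- **the counting lemma** -/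
theorem encard_irreducibleComponents_le_closed_fibre {R : Type u} [CommRing R] [IsDomain R]
    [IsDiscreteValuationRing R] {P : Scheme.{u}} (h : P ⟶ Spec (CommRingCat.of R))
    [LocallyOfFiniteType h] [Flat h] (hcl : IsClosedMap h)
    [hredF : IsReduced (h.fiber (closedPoint R))] :
    (irreducibleComponents P).encard ≤
      (irreducibleComponents (h.fiber (closedPoint R))).encard := by
  classical
  rw [encard_irreducibleComponents_eq_encard_maxPts, encard_irreducibleComponents_eq_encard_maxPts]
  have key := fun ξ hξ => exists_maxPt_fibre h hcl ξ hξ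
  rcases isEmpty_or_nonempty ↥(h.fiber (closedPoint R)) with hE | hNE
  · have : maxPts P = ∅ := by
      ext ξ
      simp only [Set.mem_empty_iff_false, iff_false]
      intro hξ
      obtain ⟨w, -⟩ := key ξ hξ
      exact hE.false w
    rw [this, Set.encard_empty]
    exact zero_le
  choose! g hg1 hg2 hg3 using key
  refine Set.encard_le_encard_of_injOn (f := g) (fun ξ hξ => hg1 ξ hξ) ?_
  intro ξ hξ ξ' hξ' hgg
  have h1 : ξ' ⤳ h.fiberι (closedPoint R) (g ξ) := by
    rw [hgg]
    exact hg2 ξ' hξ'
  exact (hg3 ξ hξ ξ' hξ' h1).symm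

end Groth.Agent.Lib.Helper21.USC
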