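import Mathlib
import Groth.Agent.Lib.Helper21.USC4
import Groth.Agent.Lib.Helper21.GInt2
import Groth.Agent.Lib.Helper6.GC2
import Groth.Agent.S4646
import Groth.Agent.Lib.Helper1.ResSepFin
import Groth.Agent.Lib.Helper1.GalCount
import Groth.Agent.Lib.Helper12.GeomRedNear

/-!
# The number of geometric irreducible components goes down under generisation over a DVR
(proper flat families with geometrically reduced closed fibre)
-/

set_option autoImplicit false
set_option linter.style.haveILetI false
set_option linter.unusedSectionVars false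
universe u

open AlgebraicGeometry CategoryTheory Limits TopologicalSpace IsLocalRing

attribute [local instance] Curv2.stalkAlgebra

namespace Groth.Agent.Lib.Helper21.USC

open Groth.Agent.Lib.Helper21.GPI Groth.Agent.Lib.Helper21.SCmp Groth.Agent.Lib.Helper21.GIS
open Groth.Agent.Lib.Helper21.GInt Groth.Agent.Lib.Helper6

/-- a geometrically reduced fibre: all its base changes to field-valued points are reduced -/
theorem isReduced_of_isPullback {X Y : Scheme.{u}} (f : X ⟶ Y) (s : Y)
    (hg : GeometricallyReduced (f.fiberToSpecResidueField s)) {K : Type u} [Field K]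
    (a : Spec (CommRingCat.of K) ⟶ Y) (hs : a (IsLocalRing.closedPoint K) = s)
    {Z : Scheme.{u}} (fst : Z ⟶ X) (snd : Z ⟶ Spec (CommRingCat.of K))
    (hp : IsPullback fst snd f a) : IsReduced Z := by
  haveI : IsReduced (pullback f a) :=
    Groth.Agent.Lib.Helper12.H12GeomRedNear.isReduced_pullback_of_geometricallyReduced_fiber
      (f := f) s hg K a (IsLocalRing.closedPoint K) hs
  exact isReduced_of_isOpenImmersion hp.isoPullback.hom

/-- schemes of finite type over a field have finitely many irreducible components -/
theorem finite_irreducibleComponents_of_field {k : Type u} [Field k] {Q : Scheme.{u}}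
    (φ : Q ⟶ Spec (CommRingCat.of k)) [LocallyOfFiniteType φ] [QuasiCompact φ] :
    (irreducibleComponents Q).Finite := by
  haveI : IsLocallyNoetherian Q := LocallyOfFiniteType.isLocallyNoetherian φ
  haveI : CompactSpace Q := QuasiCompact.compactSpace_of_compactSpace φ
  haveI : AlgebraicGeometry.IsNoetherian Q := { }
  haveI : NoetherianSpace Q := inferInstance
  exact NoetherianSpace.finite_irreducibleComponents

set_option maxHeartbeats 1600000 in
/-- **generisation over a discrete valuation ring** -/
theorem nGeomIrredComp_gen_le {R : Type u} [CommRing R] [IsDomain R]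
    [IsDiscreteValuationRing R] {P : Scheme.{u}} (h : P ⟶ Spec (CommRingCat.of R))
    [IsProper h] [Flat h]
    (hs : GeometricallyReduced (h.fiberToSpecResidueField (closedPoint R))) :
    MoreMor.nGeomIrredComp h (gen R) ≤ MoreMor.nGeomIrredComp h (closedPoint R) := by
  let k := (Spec (CommRingCat.of R)).residueField (gen R)
  let φ : h.fiber (gen R) ⟶ Spec (CommRingCat.of k) := h.fiberToSpecResidueField (gen R)
  haveI : LocallyOfFiniteType φ := inferInstanceAs
    (LocallyOfFiniteType (h.fiberToSpecResidueField (gen R)))
  haveI : QuasiCompact φ := inferInstanceAs (QuasiCompact (h.fiberToSpecResidueField (gen R)))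
  -- a finite extension over which the components of the generic fibre are geometrically irreducible
  haveI : Finite ↥(irreducibleComponents ↥(h.fiber (gen R))) :=
    Set.finite_coe_iff.mpr (finite_irreducibleComponents_of_field φ)
  obtain ⟨k', _, _, hk'fin, -, hgeo⟩ := Groth.Agent.S4646.result (k := k) φ (by
    intro Z hZ
    obtain ⟨ψ, hψ⟩ := Groth.Agent.Lib.Helper1.GalCount.exists_resMap φ hZ.1.genericPoint
    exact ⟨ψ, hψ, Groth.Agent.Lib.Helper1.ResSepFin.finiteDimensional_separableClosure φ _ ψ hψ⟩)
  haveI : FiniteDimensional k k' := hk'fin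
  let φ₀ : R →+* k := toResidueField R (gen R)
  let ψ : R →+* k' := (algebraMap k k').comp φ₀
  have hφ₀inj : Function.Injective φ₀ := by
    rw [RingHom.injective_iff_ker_eq_bot, ker_toResidueField]
  have hψ : Function.Injective ψ := (algebraMap k k').injective.comp hφ₀inj
  obtain ⟨S, hS⟩ := exists_finset_closure_eq_top (k' := k') φ₀
    (closure_range_toResidueField R (gen R))
  obtain ⟨R', _, _, _, algR'L, hfrac, ι, hι, hloc⟩ := exists_dvr_in_field R k' ψ hψ S hS
  have hjinj : Function.Injective (algebraMap R' k') := IsFractionRing.injective R' k'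
  let v' : Spec (CommRingCat.of R') ⟶ Spec (CommRingCat.of R) := Spec.map (CommRingCat.ofHom ι)
  let h' := pullback.snd h v'
  let ρ' := pullback.fst h v'
  have hpb : IsPullback ρ' h' h v' := IsPullback.of_hasPullback h v'
  have hv'm : v' (closedPoint R') = closedPoint R := by
    haveI : IsLocalHom (CommRingCat.ofHom ι).hom := hloc
    exact Spec_closedPoint (f := CommRingCat.ofHom ι)
  haveI : Flat h' := inferInstance
  haveI : IsProper h' := inferInstance
  haveI : LocallyOfFiniteType h' := inferInstance
  haveI : QuasiCompact h' := inferInstance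
  -- the closed fibre of the base change is reduced
  haveI hredF : IsReduced (h'.fiber (closedPoint R')) := by
    refine isReduced_of_isPullback h (closedPoint R) hs
      ((Spec (CommRingCat.of R')).fromSpecResidueField (closedPoint R') ≫ v') ?_
      (h'.fiberι (closedPoint R') ≫ ρ') (h'.fiberToSpecResidueField (closedPoint R')) ?_
    · rw [Scheme.Hom.comp_apply]
      erw [Scheme.fromSpecResidueField_apply]
      exact hv'm
    · exact (IsPullback.of_hasPullback h'
        ((Spec (CommRingCat.of R')).fromSpecResidueField (closedPoint R'))).paste_horiz hpb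
  -- the comparison morphism from the base change of the fibre
  let g₀ : Spec (CommRingCat.of k') ⟶ Spec (CommRingCat.of R') :=
    Spec.map (CommRingCat.ofHom (algebraMap R' k'))
  have hbot : Spec.map (CommRingCat.ofHom (algebraMap k k')) ≫
      (Spec (CommRingCat.of R)).fromSpecResidueField (gen R) = g₀ ≫ v' := by
    rw [← specMap_toResidueField, ← Spec.map_comp, ← Spec.map_comp, ← CommRingCat.ofHom_comp,
      ← CommRingCat.ofHom_comp, hι]
  have hbig : IsPullback (FBase.bcπ φ k' ≫ h.fiberι (gen R)) (FBase.bcStr φ k') h (g₀ ≫ v') := by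
    have h1 : IsPullback (FBase.bcπ φ k') (FBase.bcStr φ k') φ
        (Spec.map (CommRingCat.ofHom (algebraMap k k'))) := IsPullback.of_hasPullback _ _
    have h2 : IsPullback (h.fiberι (gen R)) φ h
        ((Spec (CommRingCat.of R)).fromSpecResidueField (gen R)) := IsPullback.of_hasPullback _ _
    have := h1.paste_horiz h2
    rwa [hbot] at this
  let j : FBase.bc φ k' ⟶ pullback h v' :=
    pullback.lift (FBase.bcπ φ k' ≫ h.fiberι (gen R)) (FBase.bcStr φ k' ≫ g₀)
      (by rw [hbig.w, Category.assoc])
  have hj1 : j ≫ ρ' = FBase.bcπ φ k' ≫ h.fiberι (gen R) := pullback.lift_fst _ _ _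
  have hj2 : j ≫ h' = FBase.bcStr φ k' ≫ g₀ := pullback.lift_snd _ _ _
  have hjpb : IsPullback j (FBase.bcStr φ k') h' g₀ := by
    refine IsPullback.of_right ?_ hj2 hpb
    rw [hj1]
    exact hbig
  haveI hg₀pre : IsPreimmersion g₀ := IsPreimmersion.of_isLocalization (nonZeroDivisors R')
  haveI : IsPreimmersion j := MorphismProperty.of_isPullback (P := @IsPreimmersion) hjpb.flip hg₀pre
  -- the range of `j` is the generic fibre
  have hrange : Set.range j = h' ⁻¹' {gen R'} := by
    have e : Set.range j = h' ⁻¹' Set.range g₀ := by
      have h1 := Scheme.Pullback.range_fst h' g₀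
      have h2 : j = hjpb.isoPullback.hom ≫ pullback.fst h' g₀ := by
        rw [hjpb.isoPullback_hom_fst]
      have h3 : Set.range hjpb.isoPullback.hom = Set.univ :=
        Set.range_eq_univ.mpr hjpb.isoPullback.hom.homeomorph.surjective
      rw [h2, Scheme.Hom.comp_base, TopCat.coe_comp, Set.range_comp, h3, Set.image_univ]
      exact h1
    rw [e]
    congr 1
    ext p
    constructor
    · rintro ⟨t, rfl⟩
      exact specMap_field_apply (algebraMap R' k') hjinj t
    · rintro rfl
      obtain ⟨t⟩ : Nonempty (Spec (CommRingCat.of k')) := inferInstance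
      exact ⟨t, specMap_field_apply (algebraMap R' k') hjinj t⟩
  have hopen : IsOpen (h' ⁻¹' {gen R'}) := (isOpen_singleton_gen R').preimage h'.continuous
  have hjopen : Topology.IsOpenEmbedding j := ⟨j.isEmbedding, by rw [hrange]; exact hopen⟩
  -- the chain of inequalities
  let K := AlgebraicClosure k'
  let qK : Spec (CommRingCat.of K) ⟶ Spec (CommRingCat.of k') :=
    Spec.map (CommRingCat.ofHom (algebraMap k' K))
  let ξK : Spec (CommRingCat.of K) ⟶ Spec (CommRingCat.of R) := qK ≫ (g₀ ≫ v')
  have hξK : ξK (closedPoint K) = gen R := by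
    change (qK ≫ (g₀ ≫ v')) (closedPoint K) = gen R
    rw [← hbot, Scheme.Hom.comp_apply, Scheme.Hom.comp_apply]
    erw [Scheme.fromSpecResidueField_apply]
  have e1 : MoreMor.nGeomIrredComp h (gen R) = GC.irr h ξK := by
    rw [GC.nGeomIrredComp_eq_irr]
    exact ((GC.irr_conn_eq_sepPt h ξK (gen R) hξK).1).symm
  have hpbK : IsPullback (FBase.bcπ (FBase.bcStr φ k') K ≫ (FBase.bcπ φ k' ≫ h.fiberι (gen R)))
      (FBase.bcStr (FBase.bcStr φ k') K) h ξK :=
    (IsPullback.of_hasPullback (FBase.bcStr φ k') qK).paste_horiz hbig
  have e2 : GC.irr h ξK = (irreducibleComponents ↥(FBase.bc (FBase.bcStr φ k') K)).encard :=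
    GC.irr_eq_of_isPullback hpbK
  haveI : LocallyOfFiniteType (FBase.bcStr φ k') := inferInstanceAs
    (LocallyOfFiniteType (pullback.snd φ (Spec.map (CommRingCat.ofHom (algebraMap k k')))))
  haveI : QuasiCompact (FBase.bcStr φ k') := inferInstanceAs
    (QuasiCompact (pullback.snd φ (Spec.map (CommRingCat.ofHom (algebraMap k k')))))
  have e3 : (irreducibleComponents ↥(FBase.bc (FBase.bcStr φ k') K)).encard ≤
      (irreducibleComponents ↥(FBase.bc φ k')).encard :=
    encard_irreducibleComponents_le_of_preimage (FBase.bcπ (FBase.bcStr φ k') K)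
      (FBase.bcπ (FBase.bcStr φ k') K).continuous
      (finite_irreducibleComponents_of_field (FBase.bcStr φ k'))
      (fun Z hZ => (hgeo K Z hZ).isPreirreducible)
  have e4 : (irreducibleComponents ↥(FBase.bc φ k')).encard ≤
      (irreducibleComponents ↥(pullback h v')).encard :=
    encard_irreducibleComponents_le_of_isOpenEmbedding j hjopen
  have e5 : (irreducibleComponents ↥(pullback h v')).encard ≤
      (irreducibleComponents ↥(h'.fiber (closedPoint R'))).encard :=
    encard_irreducibleComponents_le_closed_fibre h' h'.isClosedMap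
  have e6 : (irreducibleComponents ↥(h'.fiber (closedPoint R'))).encard ≤
      MoreMor.nGeomIrredComp h' (closedPoint R') := by
    unfold MoreMor.nGeomIrredComp MoreMor.geomFiber
    haveI : Surjective (Spec.map (CommRingCat.ofHom (algebraMap
        ((Spec (CommRingCat.of R')).residueField (closedPoint R'))
        (SeparableClosure ((Spec (CommRingCat.of R')).residueField (closedPoint R')))))) :=
      Groth.Agent.Lib.Helper1.GeomIrrSep.surjective_of_field _
    have hsurj : Surjective (pullback.fst (h'.fiberToSpecResidueField (closedPoint R'))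
        (Spec.map (CommRingCat.ofHom (algebraMap
          ((Spec (CommRingCat.of R')).residueField (closedPoint R'))
          (SeparableClosure ((Spec (CommRingCat.of R')).residueField (closedPoint R'))))))) :=
      inferInstance
    exact encard_irreducibleComponents_le_of_surjective _
      (pullback.fst (h'.fiberToSpecResidueField (closedPoint R')) _).continuous hsurj.surj
  have e7 : MoreMor.nGeomIrredComp h' (closedPoint R') =
      MoreMor.nGeomIrredComp h (closedPoint R) := by
    rw [GC.nGeomIrredComp_baseChange hpb (closedPoint R'), hv'm]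
  rw [e1, e2, ← e7]
  exact e3.trans (e4.trans (e5.trans e6))

end Groth.Agent.Lib.Helper21.USC
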