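import Mathlib
import Groth.Agent.Lib.Helper21.USC5
import Groth.Agent.Lib.Helper21.GInt3

/-!
# Upper semicontinuity of the number of geometric irreducible components of the fibres of a
proper flat morphism with geometrically reduced fibres over the closed points (Noetherian base)
-/

set_option autoImplicit false
set_option linter.style.haveILetI false
set_option linter.unusedSectionVars false
universe u

open AlgebraicGeometry CategoryTheory Limits TopologicalSpace IsLocalRing Topology

namespace Groth.Agent.Lib.Helper21.USC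

open Groth.Agent.Lib.Helper21.GPI Groth.Agent.Lib.Helper21.SCmp Groth.Agent.Lib.Helper21.GIS
open Groth.Agent.Lib.Helper21.GInt Groth.Agent.Lib.Helper6
open Groth.Agent.Lib.Helper12.H12GeomRedConstr

variable {X Y : Scheme.{u}}

/-- geometric reducedness of the fibres is stable under generisation (proper flat case) -/
theorem mem_E_of_specializes [IsLocallyNoetherian Y] (f : X ⟶ Y) [IsProper f] [Flat f]
    (y y' : Y) (hsp : y' ⤳ y) (hy : y ∈ E f) : y' ∈ E f := by
  by_cases hne : y' = y
  · subst hne
    exact hy
  obtain ⟨R, _, _, _, u, hu1, hu2⟩ := DVRExt.exists_dvr_of_specializes y' y hsp hne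
  let h := pullback.snd f u
  have hpb : IsPullback (pullback.fst f u) h f u := IsPullback.of_hasPullback f u
  have hE := E_of_isPullback f u h (pullback.fst f u) hpb
  haveI : IsProper h := inferInstance
  haveI : Flat h := inferInstance
  have h1 : (closedPoint R : Spec (CommRingCat.of R)) ∈ E h := by
    rw [hE]
    change u (closedPoint R) ∈ E f
    rw [hu1]
    exact hy
  haveI : GeometricallyReduced (h.fiberToSpecResidueField (closedPoint R)) := h1
  have h2 : gen R ∈ E h := geometricallyReduced_generic_of_dvr h h.isClosedMap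
  rw [hE] at h2
  have h3 : u (gen R) ∈ E f := h2
  have : u (gen R) = y' := hu2
  rw [this] at h3
  exact h3

/-- if the fibres over the closed points are geometrically reduced, so are all fibres -/
theorem forall_mem_E [IsLocallyNoetherian Y] [CompactSpace Y] (f : X ⟶ Y) [IsProper f] [Flat f]
    (hred : ∀ y : Y, IsClosed ({y} : Set Y) → GeometricallyReduced (f.fiberToSpecResidueField y))
    (y' : Y) : y' ∈ E f := by
  obtain ⟨y, hy, hycl⟩ := (isClosed_closure (s := ({y'} : Set Y))).exists_closed_singleton
    ⟨y', subset_closure rfl⟩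
  exact mem_E_of_specializes f y y' (specializes_iff_mem_closure.mpr hy) (hred y hycl)

/-- the number of geometric irreducible components goes down under generisation -/
theorem nGeomIrredComp_le_of_specializes [IsLocallyNoetherian Y] (f : X ⟶ Y) [IsProper f] [Flat f]
    (y y' : Y) (hsp : y' ⤳ y) (hy : y ∈ E f) :
    MoreMor.nGeomIrredComp f y' ≤ MoreMor.nGeomIrredComp f y := by
  by_cases hne : y' = y
  · subst hne
    exact le_rfl
  obtain ⟨R, _, _, _, u, hu1, hu2⟩ := DVRExt.exists_dvr_of_specializes y' y hsp hne
  let h := pullback.snd f u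
  have hpb : IsPullback (pullback.fst f u) h f u := IsPullback.of_hasPullback f u
  have hE := E_of_isPullback f u h (pullback.fst f u) hpb
  haveI : IsProper h := inferInstance
  haveI : Flat h := inferInstance
  have h1 : (closedPoint R : Spec (CommRingCat.of R)) ∈ E h := by
    rw [hE]
    change u (closedPoint R) ∈ E f
    rw [hu1]
    exact hy
  have h2 := nGeomIrredComp_gen_le h h1
  rw [GC.nGeomIrredComp_baseChange hpb (gen R), GC.nGeomIrredComp_baseChange hpb (closedPoint R)]
    at h2
  have h3 : u (gen R) = y' := hu2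
  rw [h3, hu1] at h2
  exact h2

/-- **upper semicontinuity, Noetherian base** -/
theorem setOf_nGeomIrredComp_le_mem_nhds [IsLocallyNoetherian Y] [CompactSpace Y] (f : X ⟶ Y)
    [IsProper f] [Flat f]
    (hred : ∀ y : Y, IsClosed ({y} : Set Y) → GeometricallyReduced (f.fiberToSpecResidueField y))
    (y : Y) : {y' : Y | MoreMor.nGeomIrredComp f y' ≤ MoreMor.nGeomIrredComp f y} ∈ 𝓝 y := by
  haveI : AlgebraicGeometry.IsNoetherian Y := { }
  haveI : NoetherianSpace Y := inferInstance
  have hfinN : (Set.range fun y' : Y => MoreMor.nGeomIrredComp f y').Finite := by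
    have := (isConstructible_counts_of_noetherianSpace f).2.image Prod.fst
    refine this.subset ?_
    rintro _ ⟨y', rfl⟩
    exact ⟨_, ⟨y', rfl⟩, rfl⟩
  have hc : IsConstructible {y' : Y | MoreMor.nGeomIrredComp f y' ≤ MoreMor.nGeomIrredComp f y} := by
    have : {y' : Y | MoreMor.nGeomIrredComp f y' ≤ MoreMor.nGeomIrredComp f y} =
        ⋃ n ∈ {n ∈ Set.range fun y' : Y => MoreMor.nGeomIrredComp f y' |
          n ≤ MoreMor.nGeomIrredComp f y}, {y' : Y | MoreMor.nGeomIrredComp f y' = n} := by
      ext y'
      simp only [Set.mem_ofPred_eq, Set.mem_iUnion, exists_prop]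
      constructor
      · intro h
        exact ⟨_, ⟨⟨y', rfl⟩, h⟩, rfl⟩
      · rintro ⟨n, ⟨-, hn⟩, rfl⟩
        exact hn
    rw [this]
    exact IsConstructible.biUnion (hfinN.subset (Set.sep_subset _ _)) fun n _ =>
      isConstructible_nGeomIrredComp_of_noetherianSpace f n
  refine Groth.Agent.Lib.Helper12.mem_nhds_of_dense_on_irreducible_closed y hc ?_
  intro Z hZ hZirr hyZ
  obtain ⟨η, hη⟩ := QuasiSober.sober hZirr hZ
  have hsp : η ⤳ y := by
    rw [specializes_iff_mem_closure, hη.def]
    exact hyZ
  have hηE : η ∈ {y' : Y | MoreMor.nGeomIrredComp f y' ≤ MoreMor.nGeomIrredComp f y} :=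
    nGeomIrredComp_le_of_specializes f y η hsp (forall_mem_E f hred y)
  intro z hz
  rw [← hη.def] at hz
  have hsub : ({η} : Set Y) ⊆
      {y' : Y | MoreMor.nGeomIrredComp f y' ≤ MoreMor.nGeomIrredComp f y} ∩ Z :=
    Set.singleton_subset_iff.mpr ⟨hηE, hη.mem⟩
  exact closure_mono hsub hz

end Groth.Agent.Lib.Helper21.USC
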