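import Groth.Agent.Lib.Helper21.VE1

/-!
# Sections of separated closed morphisms over the spectrum of a valuation ring
-/

set_option autoImplicit false
universe u
open AlgebraicGeometry CategoryTheory Limits TopologicalSpace

namespace Groth.Agent.Lib.Helper21.DVRExt

/-- Ring-level key: `A` a valuation ring of `K`, `α : A → B`, `φ : B → K` with `φ ∘ α` the
canonical map, `𝔮` a prime of `B` containing `ker φ` and lying over the maximal ideal of `A`:
then `φ` has values in `A`. -/
theorem range_le_of_valuationRing (A : Type u) [CommRing A] [IsDomain A] [ValuationRing A]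
    (K : Type u) [Field K] [Algebra A K] [IsFractionRing A K] {B : Type u} [CommRing B]
    (α : A →+* B) (φ : B →+* K) (hαφ : ∀ a, φ (α a) = algebraMap A K a)
    (q : Ideal B) [q.IsPrime] (hker : RingHom.ker φ ≤ q)
    (hq : ∀ a : A, a ∈ IsLocalRing.maximalIdeal A → α a ∈ q) (b : B) :
    ∃ a : A, algebraMap A K a = φ b := by
  by_cases hb0 : φ b = 0
  · exact ⟨0, by rw [map_zero, hb0]⟩
  rcases ValuationRing.isInteger_or_isInteger A (φ b) with ⟨a, ha⟩ | ⟨a, ha⟩
  · exact ⟨a, ha⟩
  · by_cases hu : IsUnit a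
    · obtain ⟨a', ha'⟩ := hu.exists_right_inv
      refine ⟨a', ?_⟩
      have h1 : algebraMap A K a * algebraMap A K a' = 1 := by
        rw [← map_mul, ha', map_one]
      rw [ha] at h1
      field_simp at h1
      exact h1
    · exfalso
      have ham : a ∈ IsLocalRing.maximalIdeal A := (IsLocalRing.mem_maximalIdeal a).mpr hu
      have h1 : φ (α a * b - 1) = 0 := by
        rw [map_sub, map_mul, hαφ, ha, map_one, inv_mul_cancel₀ hb0, sub_self]
      have h2 : α a * b - 1 ∈ q := hker h1
      have h3 : α a * b ∈ q := Ideal.mul_mem_right _ _ (hq a ham)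
      have h4 : (1 : B) ∈ q := by
        have := q.sub_mem h3 h2
        simpa using this
      exact (Ideal.IsPrime.ne_top ‹_›) ((Ideal.eq_top_iff_one _).mpr h4)

/-- **Existence of sections over a valuation ring** for a closed morphism, extending a given
point of the generic fibre. -/
theorem exists_section_of_valuationRing (A : Type u) [CommRing A] [IsDomain A] [ValuationRing A]
    (K : Type u) [Field K] [Algebra A K] [IsFractionRing A K] (X : Scheme.{u})
    (f : X ⟶ Spec (CommRingCat.of A)) (hf : IsClosedMap f)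
    (x : Spec (CommRingCat.of K) ⟶ X)
    (hx : x ≫ f = Spec.map (CommRingCat.ofHom (algebraMap A K))) :
    ∃ s : Spec (CommRingCat.of A) ⟶ X, s ≫ f = 𝟙 _ ∧
      Spec.map (CommRingCat.ofHom (algebraMap A K)) ≫ s = x := by
  let x₀ : X := x (IsLocalRing.closedPoint K)
  -- a point `z` of the closure of `x₀` over the closed point
  have hmem : IsLocalRing.closedPoint A ∈ f '' closure {x₀} := by
    have hcl : IsClosed (f '' closure {x₀}) := hf _ isClosed_closure
    have h1 : f x₀ ∈ f '' closure {x₀} := ⟨x₀, subset_closure rfl, rfl⟩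
    have h2 : f x₀ ⤳ IsLocalRing.closedPoint A := IsLocalRing.specializes_closedPoint _
    exact h2.mem_closed hcl h1
  obtain ⟨z, hz, hfz⟩ := hmem
  have hsp : x₀ ⤳ z := specializes_iff_mem_closure.mpr hz
  obtain ⟨U, hU, hzU⟩ : ∃ U : X.Opens, IsAffineOpen U ∧ z ∈ U := by
    obtain ⟨W, h1, h2, -⟩ := Opens.isBasis_iff_nbhd.mp X.isBasis_affineOpens
      (show z ∈ (⊤ : X.Opens) from trivial)
    exact ⟨W, h1, h2⟩
  have hx₀U : x₀ ∈ U := hsp.mem_open U.isOpen hzU
  obtain ⟨φ, hφ⟩ := exists_factor_fromSpec x hU hx₀U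
  obtain ⟨α, hα⟩ := Spec.map_surjective (hU.fromSpec ≫ f)
  have hαφ : α ≫ φ = CommRingCat.ofHom (algebraMap A K) := by
    apply Spec.map_injective
    rw [Spec.map_comp, hα, ← Category.assoc, hφ, hx]
  obtain ⟨q, hq⟩ : ∃ q : Spec Γ(X, U), hU.fromSpec q = z := by
    have : z ∈ Set.range hU.fromSpec := by rw [hU.range_fromSpec]; exact hzU
    exact this
  let p₀ : Spec Γ(X, U) := Spec.map φ (IsLocalRing.closedPoint K)
  have hp₀ : hU.fromSpec p₀ = x₀ := by
    change (Spec.map φ ≫ hU.fromSpec) (IsLocalRing.closedPoint K) = _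
    rw [hφ]
  have hp₀q : p₀ ⤳ q := by
    rw [← hq, ← hp₀] at hsp
    exact (hU.fromSpec.isOpenEmbedding.isInducing.specializes_iff).mp hsp
  have hle : p₀.asIdeal ≤ q.asIdeal := (PrimeSpectrum.le_iff_specializes p₀ q).mpr hp₀q
  have hker : RingHom.ker φ.hom ≤ q.asIdeal := by
    intro b hb
    apply hle
    change b ∈ Ideal.comap φ.hom (IsLocalRing.closedPoint K).asIdeal
    rw [Ideal.mem_comap, (RingHom.mem_ker).mp hb]
    exact zero_mem _
  have hqm : ∀ a : A, a ∈ IsLocalRing.maximalIdeal A → α.hom a ∈ q.asIdeal := by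
    intro a ha
    have h1 : Spec.map α q = IsLocalRing.closedPoint A := by
      rw [hα, Scheme.Hom.comp_apply, hq, hfz]
    have h2 : (Spec.map α q).asIdeal = IsLocalRing.maximalIdeal A :=
      congrArg PrimeSpectrum.asIdeal h1
    rw [← h2] at ha
    exact ha
  have hrange := fun b => range_le_of_valuationRing A K α.hom φ.hom
    (fun a => congrArg (fun g => g.hom a) hαφ) q.asIdeal hker hqm b
  choose ψf hψf using hrange
  have hinj := IsFractionRing.injective A K
  let ψ : Γ(X, U) →+* A :=
    { toFun := ψf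
      map_one' := hinj (by rw [hψf, map_one, map_one])
      map_mul' := fun a b => hinj (by rw [hψf, map_mul, map_mul, hψf, hψf])
      map_zero' := hinj (by rw [hψf, map_zero, map_zero])
      map_add' := fun a b => hinj (by rw [hψf, map_add, map_add, hψf, hψf]) }
  refine ⟨Spec.map (CommRingCat.ofHom ψ) ≫ hU.fromSpec, ?_, ?_⟩
  · rw [Category.assoc, ← hα, ← Spec.map_comp]
    have h1 : α ≫ CommRingCat.ofHom ψ = 𝟙 _ := by
      ext a
      apply hinj
      change algebraMap A K (ψf (α.hom a)) = algebraMap A K a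
      rw [hψf]
      exact congrArg (fun g => g.hom a) hαφ
    rw [h1, Spec.map_id]
  · rw [← Category.assoc, ← Spec.map_comp]
    have h1 : CommRingCat.ofHom ψ ≫ CommRingCat.ofHom (algebraMap A K) = φ := by
      ext b
      exact hψf b
    rw [h1, hφ]

end Groth.Agent.Lib.Helper21.DVRExt
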