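import Groth.Agent.Lib.Helper21.ValSec

/-!
# Lifting the spectrum of a local ring which is a valuation ring along a closed morphism
-/

set_option autoImplicit false
universe u
open AlgebraicGeometry CategoryTheory Limits TopologicalSpace

namespace Groth.Agent.Lib.Helper21.DVRExt

/-- Ring-level key, relative version: `β : R → A` a localization-like map to a valuation ring. -/
theorem range_le_of_valuationRing' {R : Type u} [CommRing R] (A : Type u) [CommRing A] [IsDomain A]
    [ValuationRing A] (K : Type u) [Field K] [Algebra A K] [IsFractionRing A K] {B : Type u}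
    [CommRing B] (β : R →+* A) (hβ : ∀ a : A, ∃ r t : R, IsUnit (β t) ∧ a * β t = β r)
    (α : R →+* B) (φ : B →+* K) (hαφ : ∀ r, φ (α r) = algebraMap A K (β r))
    (q : Ideal B) [q.IsPrime] (hker : RingHom.ker φ ≤ q)
    (hq : ∀ r : R, α r ∈ q ↔ β r ∈ IsLocalRing.maximalIdeal A) (b : B) :
    ∃ a : A, algebraMap A K a = φ b := by
  by_cases hb0 : φ b = 0
  · exact ⟨0, by rw [map_zero, hb0]⟩
  rcases ValuationRing.isInteger_or_isInteger A (φ b) with ⟨a, ha⟩ | ⟨a, ha⟩
  · exact ⟨a, ha⟩
  · by_cases hu : IsUnit a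
    · obtain ⟨a', ha'⟩ := hu.exists_right_inv
      refine ⟨a', ?_⟩
      have h1 : algebraMap A K a * algebraMap A K a' = 1 := by
        rw [← map_mul, ha', map_one]
      rw [ha] at h1
      field_simp at h1
      exact h1
    · exfalso
      have ham : a ∈ IsLocalRing.maximalIdeal A := (IsLocalRing.mem_maximalIdeal a).mpr hu
      obtain ⟨r, t, htu, hrt⟩ := hβ a
      have hrm : β r ∈ IsLocalRing.maximalIdeal A := by
        rw [← hrt]
        exact Ideal.mul_mem_right _ _ ham
      have hαr : α r ∈ q := (hq r).mpr hrm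
      have h1 : φ (α r * b - α t) = 0 := by
        rw [map_sub, map_mul, hαφ, hαφ, ← hrt, map_mul, ha]
        field_simp
        ring
      have h2 : α r * b - α t ∈ q := hker h1
      have h3 : α r * b ∈ q := Ideal.mul_mem_right _ _ hαr
      have h4 : α t ∈ q := by
        have := q.sub_mem h3 h2
        simpa using this
      exact ((IsLocalRing.mem_maximalIdeal _).mp ((hq t).mp h4)) htu

variable {B T : Scheme.{u}}

/-- **Lifting along a closed morphism**: if the local ring of `B` at `y` is a valuation ring with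
fraction field `K`, every `K`-point of `T` over the generic point of `Spec 𝒪_{B,y}` extends to a
lift of `Spec 𝒪_{B,y} ⟶ B`. -/
theorem exists_lift_of_isClosedMap (q : T ⟶ B) (hq : IsClosedMap q) (y : B)
    [IsDomain (B.presheaf.stalk y)] [ValuationRing (B.presheaf.stalk y)] (K : Type u) [Field K]
    [Algebra (B.presheaf.stalk y) K] [IsFractionRing (B.presheaf.stalk y) K]
    (x : Spec (CommRingCat.of K) ⟶ T)
    (hx : x ≫ q = Spec.map (CommRingCat.ofHom (algebraMap (B.presheaf.stalk y) K)) ≫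
      B.fromSpecStalk y) :
    ∃ l : Spec (B.presheaf.stalk y) ⟶ T, l ≫ q = B.fromSpecStalk y ∧
      Spec.map (CommRingCat.ofHom (algebraMap (B.presheaf.stalk y) K)) ≫ l = x := by
  let x₀ : T := x (IsLocalRing.closedPoint K)
  have hqx₀ : q x₀ ⤳ y := by
    have h1 : q x₀ = B.fromSpecStalk y
        (Spec.map (CommRingCat.ofHom (algebraMap (B.presheaf.stalk y) K))
          (IsLocalRing.closedPoint K)) := by
      change (x ≫ q) (IsLocalRing.closedPoint K) = _
      rw [hx]
      rfl
    rw [h1]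
    have h2 := (IsLocalRing.specializes_closedPoint
      (Spec.map (CommRingCat.ofHom (algebraMap (B.presheaf.stalk y) K))
        (IsLocalRing.closedPoint K))).map (B.fromSpecStalk y).continuous
    rwa [Scheme.fromSpecStalk_closedPoint] at h2
  have hmem : y ∈ q '' closure {x₀} := by
    have hcl : IsClosed (q '' closure {x₀}) := hq _ isClosed_closure
    have h1 : q x₀ ∈ q '' closure {x₀} := ⟨x₀, subset_closure rfl, rfl⟩
    exact hqx₀.mem_closed hcl h1
  obtain ⟨z, hz, hqz⟩ := hmem
  have hsp : x₀ ⤳ z := specializes_iff_mem_closure.mpr hz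
  -- charts
  obtain ⟨W, hW, hyW⟩ : ∃ W : B.Opens, IsAffineOpen W ∧ y ∈ W := by
    obtain ⟨W, h1, h2, -⟩ := Opens.isBasis_iff_nbhd.mp B.isBasis_affineOpens
      (show y ∈ (⊤ : B.Opens) from trivial)
    exact ⟨W, h1, h2⟩
  obtain ⟨U, hU, hzU, hUW⟩ : ∃ U : T.Opens, IsAffineOpen U ∧ z ∈ U ∧ U ≤ q ⁻¹ᵁ W := by
    obtain ⟨U, h1, h2, h3⟩ := Opens.isBasis_iff_nbhd.mp T.isBasis_affineOpens
      (show z ∈ q ⁻¹ᵁ W by change q z ∈ W; rw [hqz]; exact hyW)
    exact ⟨U, h1, h2, h3⟩
  have hx₀U : x₀ ∈ U := hsp.mem_open U.isOpen hzU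
  obtain ⟨φ, hφ⟩ := exists_factor_fromSpec x hU hx₀U
  let α : Γ(B, W) ⟶ Γ(T, U) := q.appLE W U hUW
  have hα : Spec.map α ≫ hW.fromSpec = hU.fromSpec ≫ q :=
    IsAffineOpen.SpecMap_appLE_fromSpec q hW hU hUW
  let β : Γ(B, W) ⟶ B.presheaf.stalk y := B.presheaf.germ W y hyW
  have hβ : Spec.map β ≫ hW.fromSpec = B.fromSpecStalk y := by
    rw [← hW.fromSpecStalk_eq_fromSpecStalk hyW]
    rfl
  have hαφ : α ≫ φ = β ≫ CommRingCat.ofHom (algebraMap (B.presheaf.stalk y) K) := by
    apply specMap_fromSpec_cancel hW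
    rw [Spec.map_comp, Category.assoc, hα, ← Category.assoc, hφ, hx, Spec.map_comp,
      Category.assoc, hβ]
    rfl
  have hαφ' : ∀ r, φ.hom (α.hom r) = algebraMap (B.presheaf.stalk y) K (β.hom r) :=
    fun r => congrArg (fun g => g.hom r) hαφ
  -- the point `z` in the chart
  obtain ⟨qz, hqz'⟩ : ∃ qz : Spec Γ(T, U), hU.fromSpec qz = z := by
    have : z ∈ Set.range hU.fromSpec := by rw [hU.range_fromSpec]; exact hzU
    exact this
  let p₀ : Spec Γ(T, U) := Spec.map φ (IsLocalRing.closedPoint K)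
  have hp₀ : hU.fromSpec p₀ = x₀ := by
    change (Spec.map φ ≫ hU.fromSpec) (IsLocalRing.closedPoint K) = _
    rw [hφ]
  have hp₀q : p₀ ⤳ qz := by
    rw [← hqz', ← hp₀] at hsp
    exact (hU.fromSpec.isOpenEmbedding.isInducing.specializes_iff).mp hsp
  have hle : p₀.asIdeal ≤ qz.asIdeal := (PrimeSpectrum.le_iff_specializes p₀ qz).mpr hp₀q
  have hker : RingHom.ker φ.hom ≤ qz.asIdeal := by
    intro b hb
    apply hle
    change b ∈ Ideal.comap φ.hom (IsLocalRing.closedPoint K).asIdeal
    rw [Ideal.mem_comap, (RingHom.mem_ker).mp hb]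
    exact zero_mem _
  have hpts : Spec.map α qz = Spec.map β (IsLocalRing.closedPoint (B.presheaf.stalk y)) := by
    apply hW.fromSpec.isOpenEmbedding.injective
    rw [← Scheme.Hom.comp_apply, ← Scheme.Hom.comp_apply, hα, hβ, Scheme.Hom.comp_apply, hqz',
      hqz, Scheme.fromSpecStalk_closedPoint]
  have hqm : ∀ r : Γ(B, W), α.hom r ∈ qz.asIdeal ↔
      β.hom r ∈ IsLocalRing.maximalIdeal (B.presheaf.stalk y) := by
    intro r
    have h2 : (Spec.map α qz).asIdeal =
        (Spec.map β (IsLocalRing.closedPoint (B.presheaf.stalk y))).asIdeal :=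
      congrArg PrimeSpectrum.asIdeal hpts
    have h3 : r ∈ (Spec.map α qz).asIdeal ↔
        r ∈ (Spec.map β (IsLocalRing.closedPoint (B.presheaf.stalk y))).asIdeal := by rw [h2]
    exact h3
  have hβloc : ∀ a : B.presheaf.stalk y, ∃ r t : Γ(B, W), IsUnit (β.hom t) ∧
      a * β.hom t = β.hom r := by
    intro a
    let _ : Algebra Γ(B, W) (B.presheaf.stalk y) :=
      TopCat.Presheaf.algebra_section_stalk B.presheaf ⟨y, hyW⟩
    have hloc := hW.isLocalization_stalk ⟨y, hyW⟩
    obtain ⟨⟨r, t⟩, hrt⟩ := IsLocalization.surj (hW.primeIdealOf ⟨y, hyW⟩).asIdeal.primeCompl a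
    exact ⟨r, t.1, IsLocalization.map_units _ t, hrt⟩
  have hrange := fun b => range_le_of_valuationRing' (B.presheaf.stalk y) K β.hom hβloc α.hom
    φ.hom hαφ' qz.asIdeal hker hqm b
  choose ψf hψf using hrange
  have hinj := IsFractionRing.injective (B.presheaf.stalk y) K
  let ψ : Γ(T, U) →+* B.presheaf.stalk y :=
    { toFun := ψf
      map_one' := hinj (by rw [hψf, map_one, map_one])
      map_mul' := fun a b => hinj (by rw [hψf, map_mul, map_mul, hψf, hψf])
      map_zero' := hinj (by rw [hψf, map_zero, map_zero])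
      map_add' := fun a b => hinj (by rw [hψf, map_add, map_add, hψf, hψf]) }
  refine ⟨Spec.map (CommRingCat.ofHom ψ) ≫ hU.fromSpec, ?_, ?_⟩
  · have h1 : α ≫ CommRingCat.ofHom ψ = β := by
      ext r
      apply hinj
      change algebraMap _ K (ψf (α.hom r)) = algebraMap _ K (β.hom r)
      rw [hψf, hαφ']
    rw [Category.assoc, ← hα, ← Category.assoc, ← Spec.map_comp]
    exact (congrArg (fun z => Spec.map z ≫ hW.fromSpec) h1).trans hβ
  · have h1 : CommRingCat.ofHom ψ ≫ CommRingCat.ofHom (algebraMap (B.presheaf.stalk y) K) = φ := by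
      ext b
      exact hψf b
    rw [← Category.assoc, ← Spec.map_comp]
    exact (congrArg (fun z => Spec.map z ≫ hU.fromSpec) h1).trans hφ

end Groth.Agent.Lib.Helper21.DVRExt
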