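import Mathlib

/-!
# The vanishing sequence of a finite dimensional space of functions in a discrete valuation ring

An abstract counting lemma: a "valuation" on a vector space, with the property that two nonzero
vectors of equal value can be combined to a vector of larger value, takes exactly `dim W` values
on the nonzero vectors of a finite dimensional subspace `W`.  The instance for a discrete valuation
ring whose residue field is the base field.
-/

set_option autoImplicit false

namespace Groth.Agent.Lib.Helper21.VanSeq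

section Abstract

variable {k V : Type*} [Field k] [AddCommGroup V] [Module k V]

theorem encard_image_val (v : V → ℕ∞) (h0 : ∀ x, v x = ⊤ ↔ x = 0)
    (hadd : ∀ x y, min (v x) (v y) ≤ v (x + y))
    (hsmul : ∀ (c : k) x, c ≠ 0 → v (c • x) = v x)
    (hK : ∀ x y, x ≠ 0 → y ≠ 0 → v x = v y → ∃ c : k, v x < v (x - c • y)) :
    ∀ (m : ℕ) (W : Submodule k V), FiniteDimensional k W → Module.finrank k W = m →
      (v '' {x | x ∈ W ∧ x ≠ 0}).encard = m := by
  intro m
  induction m with
  | zero =>
    intro W _ hW
    have hb : W = ⊥ := Submodule.finrank_eq_zero.mp hW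
    subst hb
    have he : {x : V | x ∈ (⊥ : Submodule k V) ∧ x ≠ 0} = ∅ := by
      ext x
      simp only [Submodule.mem_bot, Set.mem_ofPred_eq, Set.mem_empty_iff_false, iff_false]
      exact fun h => h.2 h.1
    rw [he, Set.image_empty, Set.encard_empty]
    rfl
  | succ m ih =>
    intro W hfd hW
    have hne : W ≠ ⊥ := by
      rintro rfl
      rw [finrank_bot] at hW
      omega
    obtain ⟨x₁, hx₁W, hx₁0⟩ := Submodule.exists_mem_ne_zero_of_ne_bot hne
    have hSne : (v '' {x | x ∈ W ∧ x ≠ 0}).Nonempty := ⟨v x₁, x₁, ⟨hx₁W, hx₁0⟩, rfl⟩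
    obtain ⟨n₀, hn₀S, hmin⟩ := wellFounded_lt.has_min _ hSne
    obtain ⟨x₀, ⟨hx₀W, hx₀0⟩, hx₀⟩ := hn₀S
    have hle : ∀ x ∈ W, x ≠ 0 → n₀ ≤ v x := fun x hx hx0 =>
      not_lt.mp (hmin (v x) ⟨x, ⟨hx, hx0⟩, rfl⟩)
    have hn₀top : n₀ ≠ ⊤ := by
      rw [← hx₀]
      exact fun h => hx₀0 ((h0 x₀).mp h)
    have hv0 : n₀ < v 0 := by
      rw [(h0 0).mpr rfl]
      exact lt_top_iff_ne_top.mpr hn₀top
    let W' : Submodule k V :=
      { carrier := {x | x ∈ W ∧ n₀ < v x}
        zero_mem' := ⟨W.zero_mem, hv0⟩
        add_mem' := fun {a b} ha hb =>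
          ⟨W.add_mem ha.1 hb.1, lt_of_lt_of_le (lt_min ha.2 hb.2) (hadd a b)⟩
        smul_mem' := fun c a ha => by
          by_cases hc : c = 0
          · subst hc
            rw [zero_smul]
            exact ⟨W.zero_mem, hv0⟩
          · refine ⟨W.smul_mem c ha.1, ?_⟩
            rw [hsmul c a hc]
            exact ha.2 }
    have hW'mem : ∀ x, x ∈ W' ↔ (x ∈ W ∧ n₀ < v x) := fun x => Iff.rfl
    have hW'W : W' ≤ W := fun x hx => hx.1
    have : FiniteDimensional k W' := Submodule.finiteDimensional_of_le hW'W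
    have hsup : W' ⊔ Submodule.span k {x₀} = W := by
      apply le_antisymm
      · refine sup_le hW'W ?_
        rw [Submodule.span_singleton_le_iff_mem]
        exact hx₀W
      · intro x hx
        by_cases hx0 : x = 0
        · subst hx0
          exact Submodule.zero_mem _
        rcases (hle x hx hx0).lt_or_eq with hlt | heq
        · exact Submodule.mem_sup_left ((hW'mem x).mpr ⟨hx, hlt⟩)
        · obtain ⟨c, hc⟩ := hK x x₀ hx0 hx₀0 (heq.symm.trans hx₀.symm)
          have h1 : x - c • x₀ ∈ W' :=
            (hW'mem _).mpr ⟨W.sub_mem hx (W.smul_mem c hx₀W), by rw [heq]; exact hc⟩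
          have h2 : x = (x - c • x₀) + c • x₀ := by abel
          rw [h2]
          exact Submodule.add_mem _ (Submodule.mem_sup_left h1)
            (Submodule.mem_sup_right (Submodule.smul_mem _ c (Submodule.mem_span_singleton_self x₀)))
    have hinf : W' ⊓ Submodule.span k {x₀} = ⊥ := by
      rw [eq_bot_iff]
      intro x hx
      obtain ⟨hxW', hxs⟩ := Submodule.mem_inf.mp hx
      obtain ⟨c, rfl⟩ := Submodule.mem_span_singleton.mp hxs
      by_cases hc : c = 0
      · subst hc
        rw [zero_smul]
        exact Submodule.zero_mem _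
      · exfalso
        have := ((hW'mem _).mp hxW').2
        rw [hsmul c x₀ hc, hx₀] at this
        exact lt_irrefl _ this
    have hfr : Module.finrank k W' = m := by
      have h := Submodule.finrank_sup_add_finrank_inf_eq W' (Submodule.span k {x₀})
      rw [hsup, hinf, finrank_bot, finrank_span_singleton hx₀0, hW] at h
      omega
    have hih := ih W' inferInstance hfr
    have hset : v '' {x | x ∈ W ∧ x ≠ 0} = insert n₀ (v '' {x | x ∈ W' ∧ x ≠ 0}) := by
      ext n
      constructor
      · rintro ⟨x, ⟨hx, hx0⟩, rfl⟩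
        rcases (hle x hx hx0).lt_or_eq with hlt | heq
        · exact Set.mem_insert_of_mem _ ⟨x, ⟨(hW'mem x).mpr ⟨hx, hlt⟩, hx0⟩, rfl⟩
        · rw [← heq]
          exact Set.mem_insert _ _
      · intro hn
        rcases Set.mem_insert_iff.mp hn with rfl | ⟨x, ⟨hx, hx0⟩, rfl⟩
        · exact ⟨x₀, ⟨hx₀W, hx₀0⟩, hx₀⟩
        · exact ⟨x, ⟨hW'W hx, hx0⟩, rfl⟩
    have hnot : n₀ ∉ v '' {x | x ∈ W' ∧ x ≠ 0} := by
      rintro ⟨x, ⟨hx, -⟩, hxn⟩
      have := ((hW'mem x).mp hx).2
      rw [hxn] at this
      exact lt_irrefl _ this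
    rw [hset, Set.encard_insert_of_notMem hnot, hih]
    push_cast
    rfl

end Abstract

section DVR

open IsDiscreteValuationRing

variable {k R V : Type*} [Field k] [CommRing R] [IsDomain R] [IsDiscreteValuationRing R]
  [AddCommGroup V] [Module k V] [FiniteDimensional k V]

/-- a finite dimensional space of elements of a discrete valuation ring with residue field the
base field has exactly `dim` valuations -/
theorem encard_image_addVal (ι : k →+* R)
    (hres : ∀ t : R, ∃ c : k, t - ι c ∈ IsLocalRing.maximalIdeal R)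
    (φ : V →+ R) (hφs : ∀ (c : k) (x : V), φ (c • x) = ι c * φ x) (hφ : Function.Injective φ) :
    ((fun x : V => addVal R (φ x)) '' {x : V | x ≠ 0}).encard = Module.finrank k V := by
  have hunit : ∀ c : k, c ≠ 0 → addVal R (ι c) = 0 := by
    intro c hc
    rw [addVal_eq_zero_iff]
    exact (IsUnit.mk0 c hc).map ι
  have key := encard_image_val (k := k) (V := V) (fun x : V => addVal R (φ x))
    (fun x => by
      rw [addVal_eq_top_iff]
      exact ⟨fun h => hφ (h.trans (map_zero φ).symm), fun h => by rw [h, map_zero]⟩)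
    (fun x y => by
      rw [map_add]
      exact addVal_add)
    (fun c x hc => by
      show addVal R (φ (c • x)) = addVal R (φ x)
      rw [hφs, addVal_mul, hunit c hc, zero_add])
    (fun x y hx hy hxy => by
      have hxy' : addVal R (φ x) = addVal R (φ y) := hxy
      have hb0 : addVal R (φ y) ≠ ⊤ := by
        rw [Ne, addVal_eq_top_iff]
        exact fun h => hy (hφ (h.trans (map_zero φ).symm))
      obtain ⟨t, ht⟩ := addVal_le_iff_dvd.mp hxy'.ge
      obtain ⟨c, hc⟩ := hres t
      refine ⟨c, ?_⟩
      show addVal R (φ x) < addVal R (φ (x - c • y))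
      have h1 : φ (x - c • y) = φ y * (t - ι c) := by
        rw [map_sub, hφs, ht]
        ring
      have h2 : 1 ≤ addVal R (t - ι c) := by
        rw [Order.one_le_iff_ne_zero, Ne, addVal_eq_zero_iff]
        exact (IsLocalRing.mem_maximalIdeal _).mp hc
      rw [h1, addVal_mul, hxy']
      exact lt_of_lt_of_le ((ENat.add_one_le_iff hb0).mp le_rfl) (add_le_add_right h2 _))
    (Module.finrank k V) ⊤ inferInstance (finrank_top k V)
  have hs : {x : V | x ∈ (⊤ : Submodule k V) ∧ x ≠ 0} = {x : V | x ≠ 0} := by
    ext x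
    simp
  rw [hs] at key
  exact key

end DVR

end Groth.Agent.Lib.Helper21.VanSeq
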