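import Groth.Agent.Lib.Helper21.VanSeq
import Groth.Agent.Lib.Helper21.BasePt
import Groth.Agent.Lib.Helper18.InvStalk
import Groth.Agent.Lib.Helper29.IntegInv
import Groth.Prelude.Def_LinSer
import Groth.Prelude.Def_Curve

/-!
# The vanishing sequence of a linear series at a point of a smooth curve
-/

set_option autoImplicit false
set_option linter.style.haveILetI false
set_option linter.unusedSectionVars false
universe u
open CategoryTheory CategoryTheory.Limits AlgebraicGeometry TopologicalSpace Opposite

namespace Groth.Agent.Lib.Helper21.VanSeq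

open Groth.Agent.Lib.Helper29.QCoh

section Geo

variable {X : Scheme.{u}}

/-- on an integral scheme, the germ map of an invertible module is injective on global sections -/
theorem germ_top_injective [IsIntegral X] {L : X.Modules} (hL : PicF.IsInvertible L) (p : X)
    (σ : Γ(L, ⊤)) (h : L.presheaf.germ ⊤ p trivial σ = 0) : σ = 0 := by
  obtain ⟨W, hWU, hpW, hres⟩ := exists_res_eq_zero_of_germ_eq_zero L (U := ⊤) p trivial σ h
  exact eq_zero_of_res_eq_zero_of_isIntegral hL hWU ⟨p, hpW⟩ σ hres

end Geo

section Comb

variable (k : Type u) [Field k] (C : Scheme.{u}) [C.Over (Spec (CommRingCat.of k))]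
  {L : C.Modules} {n : ℕ} (s : Fin n → LinSer.Sect C L)

/-- the linear combination of sections with coefficients in the base field -/
noncomputable def comb (c : Fin n → k) : LinSer.Sect C L :=
  ∑ i, (Coh.toGlobal (C ↘ Spec (CommRingCat.of k)) (c i)) • s i

theorem comb_zero : comb k C s 0 = 0 := by
  unfold comb
  simp only [Pi.zero_apply, map_zero, zero_smul, Finset.sum_const_zero]

theorem comb_add (c c' : Fin n → k) : comb k C s (c + c') = comb k C s c + comb k C s c' := by
  unfold comb
  simp only [Pi.add_apply, map_add, add_smul, Finset.sum_add_distrib]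

theorem comb_smul (d : k) (c : Fin n → k) :
    comb k C s (d • c) = (Coh.toGlobal (C ↘ Spec (CommRingCat.of k)) d) • comb k C s c := by
  unfold comb
  simp only [Pi.smul_apply, smul_eq_mul, map_mul, mul_smul, Finset.smul_sum]

end Comb

section GermTop

variable {X : Scheme.{u}}

/-- the germ map on global sections, as an additive map -/
noncomputable def germTop (L : X.Modules) (p : X) : LinSer.Sect X L →+ L.presheaf.stalk p :=
  ConcreteCategory.hom (L.presheaf.germ ⊤ p trivial)

theorem germTop_smul (L : X.Modules) (p : X) (a : Coh.Γtop X) (σ : LinSer.Sect X L) :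
    germTop L p (a • σ) = (X.presheaf.germ ⊤ p trivial).hom a • germTop L p σ :=
  germ_smul L p ⊤ trivial a σ

end GermTop

section Main

variable (k : Type u) [Field k] [IsAlgClosed k] (C : Scheme.{u}) [C.Over (Spec (CommRingCat.of k))]

theorem main (hC : Curve.IsSmoothProperCurve k C (C ↘ (Spec (CommRingCat.of k))))
    (L : C.Modules) (hL : PicF.IsInvertible L) (r : ℕ) (s : Fin (r + 1) → LinSer.Sect C L)
    (hs : LinSer.LinIndep k C L s) (p : C) (hp : IsClosed ({p} : Set C)) :
    Set.ncard ((fun c : Fin (r + 1) → k =>
        Module.length (C.presheaf.stalk p)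
          (↥(L.presheaf.stalk p) ⧸ Submodule.span (C.presheaf.stalk p)
            {(L.presheaf.germ ⊤ p trivial) (∑ i, (Coh.toGlobal (C ↘ Spec (CommRingCat.of k)) (c i)) • s i)})) ''
        {c : Fin (r + 1) → k | c ≠ 0}) = r + 1 := by
  obtain ⟨hprop, hsm, hint, hdim⟩ := hC
  haveI := hprop
  haveI := hsm
  haveI := hint
  haveI : IsLocallyNoetherian C :=
    LocallyOfFiniteType.isLocallyNoetherian (C ↘ Spec (CommRingCat.of k))
  have hsl : p ∈ (C ↘ Spec (CommRingCat.of k)).smoothLocus := by
    rw [(Scheme.Hom.smoothLocus_eq_top_iff (f := C ↘ Spec (CommRingCat.of k))).mpr inferInstance]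
    trivial
  haveI := Groth.Agent.Lib.Helper21.RegPt.isRegularLocalRing_stalk_of_mem_smoothLocus
    (C ↘ Spec (CommRingCat.of k)) p hsl
  have hpid := isPrincipalIdealRing_of_isRegularLocalRing_of_dim_le_one (C.presheaf.stalk p)
    ((ringKrullDim_stalk_le_topologicalKrullDim C p).trans hdim.le)
  have hnf := Groth.Agent.Lib.Helper21.RegPt.not_isField_stalk_of_isClosed hdim p hp
  haveI : IsDiscreteValuationRing (C.presheaf.stalk p) :=
    { __ := hpid
      __ := (inferInstance : IsLocalRing (C.presheaf.stalk p))
      not_a_field' := fun h => hnf (IsLocalRing.isField_iff_maximalIdeal_eq.mpr h) }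
  -- a generator of the stalk
  obtain ⟨t, ht⟩ := Groth.Agent.Lib.Helper18.InvStalk.exists_generator hL p
  have hfree := Groth.Agent.Lib.Helper18.InvStalk.free_of_generator hL p t ht
  let e : (C.presheaf.stalk p) ≃ₗ[C.presheaf.stalk p] (L.presheaf.stalk p) :=
    LinearEquiv.ofBijective (LinearMap.toSpanSingleton (C.presheaf.stalk p) (L.presheaf.stalk p) t)
      ⟨(injective_iff_map_eq_zero _).mpr fun a ha => hfree a (by
          rwa [LinearMap.toSpanSingleton_apply] at ha),
        fun m => by
          have hm : m ∈ Submodule.span (C.presheaf.stalk p) {t} := by rw [ht]; trivial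
          obtain ⟨a, ha⟩ := Submodule.mem_span_singleton.mp hm
          exact ⟨a, by rw [LinearMap.toSpanSingleton_apply]; exact ha⟩⟩
  let φ : (Fin (r + 1) → k) →+ C.presheaf.stalk p :=
    { toFun := fun c => e.symm (germTop L p (comb k C s c))
      map_zero' := by rw [comb_zero, map_zero, map_zero]
      map_add' := fun c c' => by rw [comb_add, map_add, map_add] }
  have hφapp : ∀ c, φ c = e.symm (germTop L p (comb k C s c)) := fun _ => rfl
  have hlen : ∀ c : Fin (r + 1) → k,
      Module.length (C.presheaf.stalk p)
          (↥(L.presheaf.stalk p) ⧸ Submodule.span (C.presheaf.stalk p)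
            {germTop L p (comb k C s c)}) =
        IsDiscreteValuationRing.addVal (C.presheaf.stalk p) (φ c) := by
    intro c
    rw [← Ring.ord_eq_addVal]
    unfold Ring.ord
    refine (LinearEquiv.length_eq (Submodule.Quotient.equiv _ _ e ?_)).symm
    rw [Ideal.span, Submodule.map_span, Set.image_singleton, hφapp]
    congr 2
    exact e.apply_symm_apply _
  have hfun : (fun c : Fin (r + 1) → k =>
        Module.length (C.presheaf.stalk p)
          (↥(L.presheaf.stalk p) ⧸ Submodule.span (C.presheaf.stalk p)
            {(L.presheaf.germ ⊤ p trivial) (∑ i, (Coh.toGlobal (C ↘ Spec (CommRingCat.of k)) (c i)) • s i)})) =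
      fun c => IsDiscreteValuationRing.addVal (C.presheaf.stalk p) (φ c) := by
    funext c
    exact hlen c
  rw [hfun]
  have hres : ∀ t' : C.presheaf.stalk p, ∃ c : k,
      t' - Curv2.stalkMap k C p c ∈ IsLocalRing.maximalIdeal (C.presheaf.stalk p) := by
    intro t'
    obtain ⟨c, hc⟩ := (Groth.Agent.Lib.Helper21.RegPt.resMap_bijective_of_isClosed k C p hp).2
      ((C.residue p).hom t')
    refine ⟨c, ?_⟩
    rw [← IsLocalRing.residue_eq_zero_iff, map_sub, sub_eq_zero]
    exact hc.symm
  have hφs : ∀ (d : k) (c : Fin (r + 1) → k), φ (d • c) = Curv2.stalkMap k C p d * φ c := by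
    intro d c
    rw [hφapp, hφapp, comb_smul, germTop_smul, map_smul, smul_eq_mul]
    rfl
  have hφinj : Function.Injective φ := by
    rw [injective_iff_map_eq_zero]
    intro c hc
    have h1 : germTop L p (comb k C s c) = 0 := by
      have := congrArg e hc
      rw [hφapp, e.apply_symm_apply, map_zero] at this
      exact this
    exact hs c (germ_top_injective hL p (comb k C s c) h1)
  have key := encard_image_addVal (k := k) (R := C.presheaf.stalk p) (V := Fin (r + 1) → k)
    (Curv2.stalkMap k C p) hres φ hφs hφinj
  rw [Module.finrank_fin_fun] at key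
  unfold Set.ncard
  rw [key]
  rfl

end Main

end Groth.Agent.Lib.Helper21.VanSeq
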