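import Groth.Agent.Lib.Helper21.G1Even
import Groth.Agent.Lib.Helper2.DegAdd.KerIm
import Groth.Agent.Lib.Lead.TwistExact
import Groth.Agent.Lib.Helper29.PullTensor

/-!
# Nilpotent twisted endomorphisms of a rank two bundle and line subbundles

For a flat twisting module `K` on a smooth proper integral curve and a bundle `E` of rank two:
a non-zero `α : E → E ⊗ K` with `α ≫ (α ⊗ K) = 0` has invertible kernel `L` and invertible image,
and induces a non-zero map `E / L → L ⊗ K`; conversely a line subbundle `L` with a non-zero map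
`E / L → L ⊗ K` gives a non-zero nilpotent `α`.
-/

universe u

open CategoryTheory CategoryTheory.Limits AlgebraicGeometry
open Groth.Agent.Lib.Lead.TwistExact Groth.Agent.Lib.Helper29.QCoh

namespace Groth.Agent.Lib.Helper21.VeryStable

variable {X : Scheme.{u}}

/-- a subobject `L` of `E` with a non-zero map `E / L → L ⊗ K` gives a non-zero nilpotent
`E → E ⊗ K` -/
theorem nilpotent_of_sub (K : X.Modules) [PreservesFiniteLimits (tensorRight K)]
    {L E : X.Modules} (j : L ⟶ E) [Mono j] (β : cokernel j ⟶ (tensorRight K).obj L)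
    (hβ : β ≠ 0) :
    ∃ α : E ⟶ (tensorRight K).obj E, α ≫ (tensorRight K).map α = 0 ∧ α ≠ 0 := by
  refine ⟨cokernel.π j ≫ β ≫ (tensorRight K).map j, ?_, ?_⟩
  · have h1 : (tensorRight K).map j ≫ (tensorRight K).map (cokernel.π j) = 0 := by
      rw [← Functor.map_comp, cokernel.condition, Functor.map_zero]
    rw [Functor.map_comp, Category.assoc, Category.assoc, ← Category.assoc ((tensorRight K).map j),
      h1, zero_comp, comp_zero, comp_zero]
  · intro h0
    have hm : Mono ((tensorRight K).map j) := inferInstance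
    have h1 : β ≫ (tensorRight K).map j = 0 := by
      rw [← cancel_epi (cokernel.π j), h0, comp_zero]
    exact hβ ((cancel_mono ((tensorRight K).map j)).mp (h1.trans zero_comp.symm))

section Curve

variable (k : Type u) [Field k] [X.Over (Spec (CommRingCat.of k))]
  [IsIntegral X] [IsProper (X ↘ Spec (CommRingCat.of k))]
  [Smooth (X ↘ Spec (CommRingCat.of k))]

include k in
/-- a non-zero nilpotent `α : E → E ⊗ K` on a rank two bundle has invertible kernel and coimage and
induces a non-zero map from the coimage to `ker α ⊗ K` -/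
theorem sub_of_nilpotent (hdim : topologicalKrullDim X = 1) (K : X.Modules)
    (hK1 : FlatMod.IsFinLocFreeOfRank 1 K) [PreservesFiniteLimits (tensorRight K)]
    (E : X.Modules) (hE : FlatMod.IsFinLocFreeOfRank 2 E)
    (α : E ⟶ (tensorRight K).obj E) (hα2 : α ≫ (tensorRight K).map α = 0) (hα : α ≠ 0) :
    PicF.IsInvertible (kernel α) ∧ PicF.IsInvertible (cokernel (kernel.ι α)) ∧
      ∃ β : cokernel (kernel.ι α) ⟶ (tensorRight K).obj (kernel α), β ≠ 0 := by
  have hEK : FlatMod.IsFinLocFreeOfRank 2 ((tensorRight K).obj E) :=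
    Groth.Agent.Lib.Helper21.G1Even.isFinLocFreeOfRank_tensor E K hE hK1
  obtain ⟨a, b, ha, hb, hab, -⟩ :=
    Groth.Agent.Lib.Helper2.DegAdd.exists_ker_im_decomp k hdim.le 2 2 hE hEK α
  have hb0 : b ≠ 0 := by
    rintro rfl
    have hz := Groth.Agent.Lib.Helper2.DegAdd.isZero_of_rank_zero hb
    have h0 : Abelian.factorThruImage α = 0 := hz.eq_of_tgt _ _
    apply hα
    rw [← Abelian.image.fac α, h0, zero_comp]
  have ha0 : a ≠ 0 := by
    rintro rfl
    have hz := Groth.Agent.Lib.Helper2.DegAdd.isZero_of_rank_zero ha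
    have hmono : Mono α := Preadditive.mono_of_kernel_zero (hz.eq_of_src _ _)
    have hm1 : Mono ((tensorRight K).map α) := inferInstance
    have hm2 : Mono (α ≫ (tensorRight K).map α) := mono_comp _ _
    rw [hα2] at hm2
    exact hα ((@IsZero.of_mono_zero _ _ _ E _ hm2).eq_of_src _ _)
  have ha1 : a = 1 := by omega
  have hb1 : b = 1 := by omega
  subst ha1
  subst hb1
  have hLinv : PicF.IsInvertible (kernel α) :=
    (isInvertible_iff_isFinLocFreeOfRank_one _).mpr ha
  have hQinv : PicF.IsInvertible (cokernel (kernel.ι α)) :=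
    isInvertible_of_iso (Abelian.coimageIsoImage α).symm
      ((isInvertible_iff_isFinLocFreeOfRank_one _).mpr hb)
  refine ⟨hLinv, hQinv, ?_⟩
  have hγ : Abelian.factorThruCoimage α ≫ (tensorRight K).map α = 0 := by
    rw [← cancel_epi (Abelian.coimage.π α), ← Category.assoc, Abelian.coimage.fac, hα2, comp_zero]
  refine ⟨kernel.lift _ (Abelian.factorThruCoimage α) hγ ≫
    (PreservesKernel.iso (tensorRight K) α).inv, ?_⟩
  intro h0
  have h1 : kernel.lift _ (Abelian.factorThruCoimage α) hγ = 0 := by
    have h := congrArg (fun f => f ≫ (PreservesKernel.iso (tensorRight K) α).hom) h0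
    simpa using h
  have h2 : Abelian.factorThruCoimage α = 0 := by
    rw [← kernel.lift_ι _ (Abelian.factorThruCoimage α) hγ, h1, zero_comp]
  apply hα
  rw [← Abelian.coimage.fac α, h2, comp_zero]

end Curve

end Groth.Agent.Lib.Helper21.VeryStable
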