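import Mathlib.RingTheory.WittVector.Teichmuller
import Mathlib.RingTheory.WittVector.Truncated
import Mathlib.RingTheory.WittVector.Identities
import Mathlib.RingTheory.WittVector.InitTail
import Mathlib.RingTheory.WittVector.IsPoly

/-!
# helper21: multiplication by Teichmüller representatives in Witt vectors (any commutative ring)

* `coeff_mul_teichmuller`: `(x * [y])ₙ = xₙ * y ^ (p ^ n)`.
* `frobenius_teichmuller`: `F [y] = [y ^ p]`.
* `eq_teichmuller_add_verschiebung_shift`: `x = [x₀] + V (shift x 1)`.
-/

set_option autoImplicit false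

namespace Groth.Agent.Lib.Helper21.WT

open WittVector

variable {p : ℕ} [hp : Fact p.Prime]

local notation "𝕎" => WittVector p

private theorem aux_ghost {R : Type*} [CommRing R] (x : 𝕎 R) (y : R) (n : ℕ) :
    ghostComponent n (WittVector.mk p fun i => x.coeff i * y ^ p ^ i) =
      ghostComponent n x * y ^ p ^ n := by
  rw [ghostComponent_apply, ghostComponent_apply, aeval_wittPolynomial, aeval_wittPolynomial,
    Finset.sum_mul]
  refine Finset.sum_congr rfl fun i hi => ?_
  rw [Finset.mem_range] at hi
  rw [coeff_mk, mul_pow, ← pow_mul, ← pow_add, Nat.add_sub_cancel' (by omega : i ≤ n), mul_assoc]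

private theorem aux₁ {σ : Type*} (x : 𝕎 (MvPolynomial σ ℚ)) (y : MvPolynomial σ ℚ) :
    x * teichmuller p y = WittVector.mk p fun i => x.coeff i * y ^ p ^ i := by
  apply (ghostMap.bijective_of_invertible p (MvPolynomial σ ℚ)).1
  ext1 n
  rw [ghostMap_apply, ghostMap_apply, map_mul, ghostComponent_teichmuller, aux_ghost]

private theorem aux₂ {σ : Type*} (x : 𝕎 (MvPolynomial σ ℤ)) (y : MvPolynomial σ ℤ) :
    x * teichmuller p y = WittVector.mk p fun i => x.coeff i * y ^ p ^ i := by
  refine map_injective (MvPolynomial.map (Int.castRingHom ℚ))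
    (MvPolynomial.map_injective _ Int.cast_injective) ?_
  rw [map_mul, map_teichmuller, aux₁]
  ext n
  simp only [coeff_mk, map_coeff, map_mul, map_pow]

theorem mul_teichmuller_eq {R : Type*} [CommRing R] (x : 𝕎 R) (y : R) :
    x * teichmuller p y = WittVector.mk p fun i => x.coeff i * y ^ p ^ i := by
  obtain ⟨x', rfl⟩ := map_surjective _ (MvPolynomial.counit_surjective R) x
  obtain ⟨y', rfl⟩ := MvPolynomial.counit_surjective R y
  rw [← map_teichmuller, ← map_mul, aux₂]
  ext n
  simp only [coeff_mk, map_coeff, map_mul, map_pow]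

theorem coeff_mul_teichmuller {R : Type*} [CommRing R] (x : 𝕎 R) (y : R) (n : ℕ) :
    (x * teichmuller p y).coeff n = x.coeff n * y ^ p ^ n := by
  rw [mul_teichmuller_eq, coeff_mk]

theorem coeff_teichmuller_mul {R : Type*} [CommRing R] (x : 𝕎 R) (y : R) (n : ℕ) :
    (teichmuller p y * x).coeff n = y ^ p ^ n * x.coeff n := by
  rw [mul_comm, coeff_mul_teichmuller, mul_comm]

private theorem frob_aux₁ {σ : Type*} (y : MvPolynomial σ ℚ) :
    frobenius (teichmuller p y) = teichmuller p (y ^ p) := by
  apply (ghostMap.bijective_of_invertible p (MvPolynomial σ ℚ)).1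
  ext1 n
  rw [ghostMap_apply, ghostMap_apply, ghostComponent_frobenius, ghostComponent_teichmuller,
    ghostComponent_teichmuller, ← pow_mul, pow_succ']

private theorem frob_aux₂ {σ : Type*} (y : MvPolynomial σ ℤ) :
    frobenius (teichmuller p y) = teichmuller p (y ^ p) := by
  refine map_injective (MvPolynomial.map (Int.castRingHom ℚ))
    (MvPolynomial.map_injective _ Int.cast_injective) ?_
  rw [(frobenius_isPoly p).map, map_teichmuller, map_teichmuller, frob_aux₁]
  simp only [map_pow]

theorem frobenius_teichmuller {R : Type*} [CommRing R] (y : R) :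
    frobenius (teichmuller p y) = teichmuller p (y ^ p) := by
  obtain ⟨y', rfl⟩ := MvPolynomial.counit_surjective R y
  rw [← map_teichmuller, ← (frobenius_isPoly p).map, frob_aux₂, map_teichmuller]
  simp only [map_pow]

theorem iterate_frobenius_teichmuller {R : Type*} [CommRing R] (y : R) (s : ℕ) :
    (frobenius : 𝕎 R →+* 𝕎 R)^[s] (teichmuller p y) = teichmuller p (y ^ p ^ s) := by
  induction s generalizing y with
  | zero => simp
  | succ s ih =>
    rw [Function.iterate_succ_apply, frobenius_teichmuller, ih, ← pow_mul, pow_succ']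

theorem iterate_verschiebung_mul_iterate_frobenius {R : Type*} [CommRing R] (x y : 𝕎 R) (s : ℕ) :
    (verschiebung : 𝕎 R →+ 𝕎 R)^[s] (x * (frobenius : 𝕎 R →+* 𝕎 R)^[s] y) =
      (verschiebung : 𝕎 R →+ 𝕎 R)^[s] x * y := by
  induction s generalizing x y with
  | zero => simp
  | succ s ih =>
    rw [Function.iterate_succ_apply' (⇑(verschiebung : 𝕎 R →+ 𝕎 R)),
      Function.iterate_succ_apply (⇑(frobenius : 𝕎 R →+* 𝕎 R)),
      Function.iterate_succ_apply' (⇑(verschiebung : 𝕎 R →+ 𝕎 R)), ih, verschiebung_mul_frobenius]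

end Groth.Agent.Lib.Helper21.WT
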