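import Groth.Prelude.Def_W4c6katofiltaWFil
import Groth.Agent.Lib.Helper21.WittTeich
import Mathlib.RingTheory.UniqueFactorizationDomain.Multiplicity
import Mathlib.RingTheory.Localization.Away.Basic

/-!
# helper21: UFD lemmas for the filtered pieces `WittFil.fil` (localisation at a product of primes)
-/

set_option autoImplicit false
set_option linter.unusedSectionVars false

universe u

namespace Groth.Agent.Lib.Helper21.WF

section UFD

variable {A B : Type u} [CommRing A] [IsDomain A] [UniqueFactorizationMonoid A] [CommRing B]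
  [Algebra A B] {r : ℕ} (x : Fin r → A) (hx : ∀ i, Prime (x i))
  (hxa : ∀ i j, Associated (x i) (x j) → i = j) [IsLocalization.Away (∏ i, x i) B]

include hx in
theorem prod_ne_zero : (∏ i, x i) ≠ 0 :=
  Finset.prod_ne_zero_iff.mpr fun i _ => (hx i).ne_zero

include hx in
theorem algebraMap_injective : Function.Injective (algebraMap A B) :=
  IsLocalization.injective B (M := Submonoid.powers (∏ i, x i))
    (powers_le_nonZeroDivisors_of_noZeroDivisors (prod_ne_zero x hx))

theorem isUnit_prod : IsUnit (algebraMap A B (∏ i, x i)) :=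
  IsLocalization.Away.algebraMap_isUnit (∏ i, x i)

include hx hxa in
theorem prod_dvd_of_forall_dvd (s : Finset (Fin r)) (γ : A) (h : ∀ i ∈ s, x i ∣ γ) :
    ∏ i ∈ s, x i ∣ γ := by
  classical
  induction s using Finset.induction_on generalizing γ with
  | empty => simp
  | insert i s hi ih =>
    rw [Finset.prod_insert hi]
    obtain ⟨k, rfl⟩ := h i (Finset.mem_insert_self i s)
    refine mul_dvd_mul_left _ (ih k fun j hj => ?_)
    have hjd := h j (Finset.mem_insert_of_mem hj)
    refine ((hx j).dvd_or_dvd hjd).resolve_left fun hji => ?_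
    have := hxa j i ((hx j).associated_of_dvd (hx i) hji)
    exact hi (this ▸ hj)

include hx hxa in
theorem prod_dvd_of_forall_dvd_pow (γ : A) (N : ℕ) (h : ∀ i, x i ∣ γ ^ N) : ∏ i, x i ∣ γ :=
  prod_dvd_of_forall_dvd x hx hxa Finset.univ γ fun i _ => (hx i).dvd_of_dvd_pow (h i)

include hx in
theorem mem_range_of_pow_mem_range (y : B) (q : ℕ) (hq : q ≠ 0)
    (h : y ^ q ∈ (algebraMap A B).range) : y ∈ (algebraMap A B).range := by
  obtain ⟨α, hα⟩ := h
  obtain ⟨k, a, hka⟩ := IsLocalization.Away.surj (∏ i, x i) y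
  have h1 : a ^ q = α * ((∏ i, x i) ^ k) ^ q := by
    apply algebraMap_injective (B := B) x hx
    rw [map_pow, ← hka, map_mul, map_pow, map_pow, hα, mul_pow]
  have h2 : (∏ i, x i) ^ k ∣ a := by
    rw [← UniqueFactorizationMonoid.pow_dvd_pow_iff_dvd hq, h1]
    exact dvd_mul_left _ _
  obtain ⟨a', rfl⟩ := h2
  refine ⟨a', ?_⟩
  have hu : IsUnit (algebraMap A B (∏ i, x i) ^ k) := (isUnit_prod (B := B) x).pow k
  apply hu.mul_right_cancel
  rw [hka, map_mul, map_pow, mul_comm]

end UFD

section General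

theorem coeff_teich_mul (p : ℕ) [Fact p.Prime] {B : Type u} [CommRing B] (m : ℕ) (v : B)
    (a : TruncatedWittVector p m B) (j : Fin m) :
    TruncatedWittVector.coeff j (WittVector.truncate m (WittVector.teichmuller p v) * a) =
      v ^ p ^ (j : ℕ) * TruncatedWittVector.coeff j a := by
  obtain ⟨a', rfl⟩ := WittVector.truncate_surjective p m B a
  rw [← map_mul, WittVector.coeff_truncate, WittVector.coeff_truncate,
    Groth.Agent.Lib.Helper21.WT.coeff_teichmuller_mul]

theorem coeff_mul_teich (p : ℕ) [Fact p.Prime] {B : Type u} [CommRing B] (m : ℕ) (v : B)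
    (a : TruncatedWittVector p m B) (j : Fin m) :
    TruncatedWittVector.coeff j (a * WittVector.truncate m (WittVector.teichmuller p v)) =
      TruncatedWittVector.coeff j a * v ^ p ^ (j : ℕ) := by
  rw [mul_comm, coeff_teich_mul, mul_comm]

end General

section Zmon

variable {B : Type u} [CommRing B] {r : ℕ} (u : Fin r → Bˣ)

theorem zmon_add (n n' : Fin r → ℤ) :
    WittFil.zmon u (n + n') = WittFil.zmon u n * WittFil.zmon u n' := by
  unfold WittFil.zmon
  rw [← Units.val_mul, ← Finset.prod_mul_distrib]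
  congr 2
  ext i
  rw [Pi.add_apply, zpow_add]

theorem zmon_zero : WittFil.zmon u (0 : Fin r → ℤ) = 1 := by
  unfold WittFil.zmon
  simp

theorem zmon_natCast {A : Type u} [CommRing A] [Algebra A B] (x : Fin r → A)
    (hu : ∀ i, (u i : B) = algebraMap A B (x i)) (e : Fin r → ℕ) :
    WittFil.zmon u (fun i => (e i : ℤ)) = algebraMap A B (∏ i, x i ^ e i) := by
  unfold WittFil.zmon
  rw [map_prod, Units.coe_prod]
  refine Finset.prod_congr rfl fun i _ => ?_
  rw [zpow_natCast, Units.val_pow_eq_pow_val, hu, map_pow]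

theorem zmon_mul_zmon_neg (n : Fin r → ℤ) : WittFil.zmon u n * WittFil.zmon u (-n) = 1 := by
  rw [← zmon_add, add_neg_cancel, zmon_zero]

theorem zmon_nsmul (n : Fin r → ℤ) (k : ℕ) : WittFil.zmon u ((k : ℤ) • n) = WittFil.zmon u n ^ k := by
  unfold WittFil.zmon
  rw [← Units.val_pow_eq_pow_val, ← Finset.prod_pow]
  congr 2
  ext i
  rw [Pi.smul_apply, smul_eq_mul, mul_comm, zpow_mul, zpow_natCast]

end Zmon

end Groth.Agent.Lib.Helper21.WF
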