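import Groth.Agent.Lib.Helper21.WittFilLib
import Mathlib.FieldTheory.PerfectClosure
import Mathlib.RingTheory.IntegralClosure.IntegrallyClosed
import Mathlib.RingTheory.Polynomial.RationalRoot
import Mathlib.RingTheory.Localization.Integral

/-!
# helper21: the filtered pieces `WittFil.fil` are closed under subtraction and multiplication

Method: pass to an extension `B'` of `B = A[1/π]` containing a `p^(m-1)`-th root `t` of `c`
(the perfect closure); `a ∈ fil c` iff all coordinates of `[t] · a` are integral over `A`; Witt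
vectors with coordinates in a subring form a subring.
-/

set_option autoImplicit false
set_option linter.unusedSectionVars false

universe u

namespace Groth.Agent.Lib.Helper21.WF

section Subring

variable (p : ℕ) [Fact p.Prime] {R : Type u} [CommRing R] (S : Subring R) (m : ℕ)

open Classical in
/-- Lift the coordinates lying in `S` to `S` (zero elsewhere). -/
noncomputable def liftS (P : WittVector p R) : WittVector p S :=
  WittVector.mk p fun j => if h : P.coeff j ∈ S then ⟨P.coeff j, h⟩ else 0

theorem truncate_map_liftS (P : WittVector p R) (hP : ∀ j < m, P.coeff j ∈ S) :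
    WittVector.truncate m (WittVector.map S.subtype (liftS p S P)) = WittVector.truncate m P := by
  ext j
  rw [WittVector.coeff_truncate, WittVector.coeff_truncate, WittVector.map_coeff]
  unfold liftS
  rw [WittVector.coeff_mk, dif_pos (hP j j.2)]
  rfl

theorem coeff_sub_mem (P Q : WittVector p R) (hP : ∀ j < m, P.coeff j ∈ S)
    (hQ : ∀ j < m, Q.coeff j ∈ S) (j : ℕ) (hj : j < m) : (P - Q).coeff j ∈ S := by
  have h : WittVector.truncate m (P - Q) =
      WittVector.truncate m (WittVector.map S.subtype (liftS p S P - liftS p S Q)) := by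
    rw [map_sub, map_sub, map_sub, truncate_map_liftS p S m P hP, truncate_map_liftS p S m Q hQ]
  have h2 := congrArg (TruncatedWittVector.coeff ⟨j, hj⟩) h
  rw [WittVector.coeff_truncate, WittVector.coeff_truncate, WittVector.map_coeff] at h2
  rw [show (P - Q).coeff j = _ from h2]
  exact Subtype.prop _

theorem coeff_mul_mem (P Q : WittVector p R) (hP : ∀ j < m, P.coeff j ∈ S)
    (hQ : ∀ j < m, Q.coeff j ∈ S) (j : ℕ) (hj : j < m) : (P * Q).coeff j ∈ S := by
  have h : WittVector.truncate m (P * Q) =
      WittVector.truncate m (WittVector.map S.subtype (liftS p S P * liftS p S Q)) := by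
    rw [map_mul, map_mul, map_mul, truncate_map_liftS p S m P hP, truncate_map_liftS p S m Q hQ]
  have h2 := congrArg (TruncatedWittVector.coeff ⟨j, hj⟩) h
  rw [WittVector.coeff_truncate, WittVector.coeff_truncate, WittVector.map_coeff] at h2
  rw [show (P * Q).coeff j = _ from h2]
  exact Subtype.prop _

end Subring

section General

variable {A B : Type u} [CommRing A] [CommRing B] [Algebra A B]
  (hic : ∀ y : B, IsIntegral A y → y ∈ (algebraMap A B).range)
  (p : ℕ) [Fact p.Prime] {B' : Type u} [CommRing B'] [Algebra A B'] [Algebra B B']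
  [IsScalarTower A B B'] (hι : Function.Injective (algebraMap B B'))

include hic hι in
theorem mem_fil_iff_of_ic (c : B) (s : B') (m : ℕ) (hs : s ^ p ^ (m - 1) = algebraMap B B' c)
    (a : TruncatedWittVector p m B) :
    a ∈ WittFil.fil p m (A := A) c ↔
      ∀ j : Fin m, IsIntegral A (algebraMap B B' (TruncatedWittVector.coeff j a) * s ^ p ^ (j : ℕ)) := by
  have key : ∀ j : Fin m, (algebraMap B B' (TruncatedWittVector.coeff j a) * s ^ p ^ (j : ℕ)) ^
      p ^ (m - 1 - (j : ℕ)) =
      algebraMap B B' ((TruncatedWittVector.coeff j a) ^ p ^ (m - 1 - (j : ℕ)) * c) := by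
    intro j
    have hj : (j : ℕ) + (m - 1 - (j : ℕ)) = m - 1 := by have := j.2; omega
    rw [mul_pow, ← pow_mul, ← pow_add, hj, hs, map_mul, map_pow]
  constructor
  · intro ha j
    obtain ⟨α, hα⟩ := ha j
    refine IsIntegral.of_pow (n := p ^ (m - 1 - (j : ℕ))) (pow_pos (Fact.out : p.Prime).pos _) ?_
    rw [key j, ← hα, ← IsScalarTower.algebraMap_apply]
    exact isIntegral_algebraMap
  · intro h j
    have h1 := (h j).pow (p ^ (m - 1 - (j : ℕ)))
    rw [key j] at h1
    have h2 : IsIntegral A ((TruncatedWittVector.coeff j a) ^ p ^ (m - 1 - (j : ℕ)) * c) :=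
      (isIntegral_algHom_iff (IsScalarTower.toAlgHom A B B') hι).mp h1
    exact hic _ h2

include hic hι in
/-- Reformulation with full Witt vectors. -/
theorem truncate_mem_fil_iff_of_ic (c : B) (s : B') (m : ℕ)
    (hs : s ^ p ^ (m - 1) = algebraMap B B' c) (X : WittVector p B) :
    WittVector.truncate m X ∈ WittFil.fil p m (A := A) c ↔
      ∀ j < m, (WittVector.teichmuller p s * WittVector.map (algebraMap B B') X).coeff j ∈
        (integralClosure A B').toSubring := by
  rw [mem_fil_iff_of_ic hic p hι c s m hs]
  constructor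
  · intro h j hj
    have := h ⟨j, hj⟩
    rw [WittVector.coeff_truncate] at this
    rw [Groth.Agent.Lib.Helper21.WT.coeff_teichmuller_mul, WittVector.map_coeff, mul_comm]
    exact this
  · intro h j
    have := h j j.2
    rw [Groth.Agent.Lib.Helper21.WT.coeff_teichmuller_mul, WittVector.map_coeff, mul_comm] at this
    rw [WittVector.coeff_truncate]
    exact this

include hic hι in
theorem sub_mem_fil_of_root_of_ic (c : B) (s : B') (m : ℕ)
    (hs : s ^ p ^ (m - 1) = algebraMap B B' c)
    (a b : TruncatedWittVector p m B) (ha : a ∈ WittFil.fil p m (A := A) c)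
    (hb : b ∈ WittFil.fil p m (A := A) c) : a - b ∈ WittFil.fil p m (A := A) c := by
  obtain ⟨X, rfl⟩ := WittVector.truncate_surjective p m B a
  obtain ⟨Y, rfl⟩ := WittVector.truncate_surjective p m B b
  rw [← map_sub, truncate_mem_fil_iff_of_ic hic p hι c s m hs]
  rw [truncate_mem_fil_iff_of_ic hic p hι c s m hs] at ha hb
  intro j hj
  rw [map_sub, mul_sub]
  exact coeff_sub_mem p _ m _ _ ha hb j hj

include hic hι in
theorem mul_mem_fil_of_root_of_ic (c c' : B) (s s' : B') (m : ℕ)
    (hs : s ^ p ^ (m - 1) = algebraMap B B' c) (hs' : s' ^ p ^ (m - 1) = algebraMap B B' c')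
    (a b : TruncatedWittVector p m B) (ha : a ∈ WittFil.fil p m (A := A) c)
    (hb : b ∈ WittFil.fil p m (A := A) c') : a * b ∈ WittFil.fil p m (A := A) (c * c') := by
  obtain ⟨X, rfl⟩ := WittVector.truncate_surjective p m B a
  obtain ⟨Y, rfl⟩ := WittVector.truncate_surjective p m B b
  have hss : (s * s') ^ p ^ (m - 1) = algebraMap B B' (c * c') := by
    rw [mul_pow, hs, hs', map_mul]
  rw [← map_mul, truncate_mem_fil_iff_of_ic hic p hι (c * c') (s * s') m hss]
  rw [truncate_mem_fil_iff_of_ic hic p hι c s m hs] at ha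
  rw [truncate_mem_fil_iff_of_ic hic p hι c' s' m hs'] at hb
  intro j hj
  have : WittVector.teichmuller p (s * s') * WittVector.map (algebraMap B B') (X * Y) =
      (WittVector.teichmuller p s * WittVector.map (algebraMap B B') X) *
        (WittVector.teichmuller p s' * WittVector.map (algebraMap B B') Y) := by
    rw [map_mul, map_mul]
    ring
  rw [this]
  exact coeff_mul_mem p _ m _ _ ha hb j hj

end General

section PerfectExt

variable (A : Type u) (B : Type u) [CommRing A] [CommRing B] [Algebra A B]
  (p : ℕ) [Fact p.Prime] [IsReduced B] [CharP B p]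

/-- An extension of `B` (the perfect closure) in which all `p^k`-th roots exist. -/
theorem exists_perfect_ext :
    ∃ (B' : Type u) (_ : CommRing B') (_ : Algebra A B') (_ : Algebra B B')
      (_ : IsScalarTower A B B'), Function.Injective (algebraMap B B') ∧
        ∀ (k : ℕ) (c : B), ∃ t : B', t ^ p ^ k = algebraMap B B' c := by
  let i1 : Algebra B (PerfectClosure B p) := (PerfectClosure.of B p).toAlgebra
  let i2 : Algebra A (PerfectClosure B p) :=
    ((PerfectClosure.of B p).comp (algebraMap A B)).toAlgebra
  have i3 : IsScalarTower A B (PerfectClosure B p) := IsScalarTower.of_algebraMap_eq fun _ => rfl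
  refine ⟨PerfectClosure B p, inferInstance, i2, i1, i3, ?_, ?_⟩
  · intro y z h
    have := (PerfectClosure.eq_iff B p (0, y) (0, z)).mp h
    simpa using this
  · intro k c
    refine ⟨PerfectClosure.mk B p (k, c), ?_⟩
    rw [← iterate_frobenius]
    exact PerfectClosure.iterate_frobenius_mk B p k c

variable {A B}

theorem sub_mem_fil_of_ic (hic : ∀ y : B, IsIntegral A y → y ∈ (algebraMap A B).range)
    (c : B) (m : ℕ) (a b : TruncatedWittVector p m B)
    (ha : a ∈ WittFil.fil p m (A := A) c) (hb : b ∈ WittFil.fil p m (A := A) c) :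
    a - b ∈ WittFil.fil p m (A := A) c := by
  obtain ⟨B', _, _, _, _, hι, hroot⟩ := exists_perfect_ext A B p
  obtain ⟨t, ht⟩ := hroot (m - 1) c
  exact sub_mem_fil_of_root_of_ic hic p hι c t m ht a b ha hb

theorem mul_mem_fil_of_ic (hic : ∀ y : B, IsIntegral A y → y ∈ (algebraMap A B).range)
    (c c' : B) (m : ℕ) (a b : TruncatedWittVector p m B)
    (ha : a ∈ WittFil.fil p m (A := A) c) (hb : b ∈ WittFil.fil p m (A := A) c') :
    a * b ∈ WittFil.fil p m (A := A) (c * c') := by
  obtain ⟨B', _, _, _, _, hι, hroot⟩ := exists_perfect_ext A B p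
  obtain ⟨t, ht⟩ := hroot (m - 1) c
  obtain ⟨t', ht'⟩ := hroot (m - 1) c'
  exact mul_mem_fil_of_root_of_ic hic p hι c c' t t' m ht ht' a b ha hb

end PerfectExt

section UFD

variable {A B : Type u} [CommRing A] [IsDomain A] [UniqueFactorizationMonoid A] [CommRing B]
  [Algebra A B] {r : ℕ} (x : Fin r → A) (hx : ∀ i, Prime (x i))
  [IsLocalization.Away (∏ i, x i) B]

include hx in
theorem isDomain_loc : IsDomain B :=
  IsLocalization.isDomain_of_le_nonZeroDivisors (R := A) B (M := Submonoid.powers (∏ i, x i))
    (powers_le_nonZeroDivisors_of_noZeroDivisors (prod_ne_zero x hx))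

include hx in
/-- `A` is integrally closed in `B = A[1/π]`. -/
theorem mem_range_of_isIntegral (y : B) (hy : IsIntegral A y) :
    y ∈ (algebraMap A B).range := by
  have hunit : ∀ z : Submonoid.powers (∏ i, x i),
      IsUnit (algebraMap A (FractionRing A) (z : A)) := by
    rintro ⟨_, k, rfl⟩
    rw [map_pow]
    exact (IsUnit.mk0 _ ((map_ne_zero_iff _ (IsFractionRing.injective A (FractionRing A))).mpr
      (prod_ne_zero x hx))).pow k
  let f : B →+* FractionRing A := IsLocalization.lift hunit
  have hf : ∀ a, f (algebraMap A B a) = algebraMap A (FractionRing A) a :=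
    IsLocalization.lift_eq hunit
  let f' : B →ₐ[A] FractionRing A := { f with commutes' := hf }
  have h1 : IsIntegral A (f' y) := hy.map f'
  obtain ⟨α, hα⟩ := IsIntegrallyClosed.isIntegral_iff.mp h1
  obtain ⟨k, a, hka⟩ := IsLocalization.Away.surj (∏ i, x i) y
  have h2 : α * (∏ i, x i) ^ k = a := by
    apply IsFractionRing.injective A (FractionRing A)
    rw [map_mul, hα, ← hf a, ← hka]
    change f y * _ = f _
    rw [map_mul, map_pow, map_pow, hf]
  refine ⟨α, ?_⟩
  have hu : IsUnit (algebraMap A B (∏ i, x i) ^ k) := (isUnit_prod (B := B) x).pow k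
  apply hu.mul_right_cancel
  rw [hka, ← h2, map_mul, map_pow]

variable (p : ℕ) [Fact p.Prime] [CharP A p]

include hx in
theorem sub_mem_fil (c : B) (m : ℕ) (a b : TruncatedWittVector p m B)
    (ha : a ∈ WittFil.fil p m (A := A) c) (hb : b ∈ WittFil.fil p m (A := A) c) :
    a - b ∈ WittFil.fil p m (A := A) c := by
  have : IsDomain B := isDomain_loc (B := B) x hx
  have : CharP B p := charP_of_injective_algebraMap (algebraMap_injective (B := B) x hx) p
  exact sub_mem_fil_of_ic p (mem_range_of_isIntegral x hx) c m a b ha hb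

include hx in
theorem mul_mem_fil (c c' : B) (m : ℕ) (a b : TruncatedWittVector p m B)
    (ha : a ∈ WittFil.fil p m (A := A) c) (hb : b ∈ WittFil.fil p m (A := A) c') :
    a * b ∈ WittFil.fil p m (A := A) (c * c') := by
  have : IsDomain B := isDomain_loc (B := B) x hx
  have : CharP B p := charP_of_injective_algebraMap (algebraMap_injective (B := B) x hx) p
  exact mul_mem_fil_of_ic p (mem_range_of_isIntegral x hx) c c' m a b ha hb

end UFD

end Groth.Agent.Lib.Helper21.WF
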