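import Groth.Agent.Lib.Helper21.WittFilLib2
import Mathlib.RingTheory.Polynomial.Eisenstein.Basic
import Mathlib.RingTheory.Multiplicity

/-!
# helper21: graded pieces of `WittFil.fil` for `B = A[1/π]`, `π` a prime element of a domain `A`
-/

set_option autoImplicit false
set_option linter.unusedSectionVars false

universe u

namespace Groth.Agent.Lib.Helper21.WF

section Ideal

variable (p : ℕ) [Fact p.Prime] {R : Type u} [CommRing R] (S : Subring R) (I : Ideal S) (m : ℕ)

theorem coe_coeff_liftS_sub (P Q : WittVector p R) (hP : ∀ j < m, P.coeff j ∈ S)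
    (hQ : ∀ j < m, Q.coeff j ∈ S) (j : ℕ) (hj : j < m) :
    (((liftS p S P - liftS p S Q).coeff j : S) : R) = (P - Q).coeff j := by
  have h : WittVector.truncate m (P - Q) =
      WittVector.truncate m (WittVector.map S.subtype (liftS p S P - liftS p S Q)) := by
    rw [map_sub, map_sub, map_sub, truncate_map_liftS p S m P hP, truncate_map_liftS p S m Q hQ]
  have h2 := congrArg (TruncatedWittVector.coeff ⟨j, hj⟩) h
  rw [WittVector.coeff_truncate, WittVector.coeff_truncate, WittVector.map_coeff] at h2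
  exact h2.symm

theorem coeff_sub_mem_ideal (P Q : WittVector p R) (hP : ∀ j < m, P.coeff j ∈ S)
    (hQ : ∀ j < m, Q.coeff j ∈ S)
    (h : ∀ j (hj : j < m), (⟨P.coeff j, hP j hj⟩ : S) - ⟨Q.coeff j, hQ j hj⟩ ∈ I)
    (j : ℕ) (hj : j < m) : ∃ z : S, z ∈ I ∧ (z : R) = (P - Q).coeff j := by
  refine ⟨(liftS p S P - liftS p S Q).coeff j, ?_, coe_coeff_liftS_sub p S m P Q hP hQ j hj⟩
  have h0 : WittVector.truncate m
      (WittVector.map (Ideal.Quotient.mk I) (liftS p S P - liftS p S Q)) = 0 := by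
    rw [map_sub, map_sub, sub_eq_zero]
    ext k
    rw [WittVector.coeff_truncate, WittVector.coeff_truncate, WittVector.map_coeff,
      WittVector.map_coeff]
    unfold liftS
    rw [WittVector.coeff_mk, WittVector.coeff_mk, dif_pos (hP k k.2), dif_pos (hQ k k.2)]
    exact (Ideal.Quotient.eq).mpr (h k k.2)
  have h1 := congrArg (TruncatedWittVector.coeff ⟨j, hj⟩) h0
  rw [WittVector.coeff_truncate, WittVector.map_coeff, TruncatedWittVector.coeff_zero] at h1
  exact Ideal.Quotient.eq_zero_iff_mem.mp h1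

end Ideal

section Coeff

variable (p : ℕ) [Fact p.Prime]

theorem map_iterate_verschiebung {R S : Type u} [CommRing R] [CommRing S] (f : R →+* S)
    (x : WittVector p R) (s : ℕ) :
    WittVector.map f ((WittVector.verschiebung)^[s] x) =
      (WittVector.verschiebung)^[s] (WittVector.map f x) := by
  induction s with
  | zero => rfl
  | succ s ih =>
    rw [Function.iterate_succ_apply', Function.iterate_succ_apply', WittVector.map_verschiebung, ih]

theorem coeff_iterate_verschiebung {R : Type u} [CommRing R] (x : WittVector p R) (s j : ℕ) :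
    ((WittVector.verschiebung)^[s] x).coeff j = if j < s then 0 else x.coeff (j - s) := by
  split_ifs with h
  · exact WittVector.iterate_verschiebung_coeff_eq_zero _ h
  · have hj : j = (j - s) + s := by omega
    conv_lhs => rw [hj]
    exact WittVector.iterate_verschiebung_coeff _ _ _

theorem coeff_vShiftTeich {S B : Type u} [CommRing S] [CommRing B] [Algebra S B] (m s : ℕ) (v : B)
    (c : WittVector p S) (j : Fin m) :
    TruncatedWittVector.coeff j (WittFil.vShiftTeich p m s v c) =
      if (j : ℕ) < s then 0 else algebraMap S B (c.coeff (j - s)) * v ^ p ^ ((j : ℕ) - s) := by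
  unfold WittFil.vShiftTeich
  rw [WittVector.coeff_truncate, coeff_iterate_verschiebung,
    Groth.Agent.Lib.Helper21.WT.coeff_mul_teichmuller, WittVector.map_coeff]

end Coeff

section Units

variable {B : Type u} [CommRing B] (u : Bˣ)

theorem zpow_val_pow (a : ℤ) (n : ℕ) : ((u ^ a : Bˣ) : B) ^ n = ((u ^ (a * n) : Bˣ) : B) := by
  rw [← Units.val_pow_eq_pow_val, ← zpow_natCast, ← zpow_mul]

theorem zpow_val_mul (a b : ℤ) :
    ((u ^ a : Bˣ) : B) * ((u ^ b : Bˣ) : B) = ((u ^ (a + b) : Bˣ) : B) := by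
  rw [zpow_add, Units.val_mul]

theorem zpow_val_mul_neg (a : ℤ) : ((u ^ a : Bˣ) : B) * ((u ^ (-a) : Bˣ) : B) = 1 := by
  rw [zpow_val_mul, add_neg_cancel, zpow_zero, Units.val_one]

end Units

section Prime

variable {A B : Type u} [CommRing A] [IsDomain A] [CommRing B] [Algebra A B] (π : A)
  (hπ : Prime π) [IsLocalization.Away π B]

include hπ in
theorem away_injective : Function.Injective (algebraMap A B) :=
  IsLocalization.injective B (M := Submonoid.powers π)
    (powers_le_nonZeroDivisors_of_noZeroDivisors hπ.ne_zero)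

include hπ in
theorem away_isDomain : IsDomain B :=
  IsLocalization.isDomain_of_le_nonZeroDivisors (R := A) B (M := Submonoid.powers π)
    (powers_le_nonZeroDivisors_of_noZeroDivisors hπ.ne_zero)

include hπ in
theorem dvd_of_isIntegral_of_mul_eq (y : B) (hy : IsIntegral A y) (k : ℕ) (a : A)
    (h : y * algebraMap A B π ^ (k + 1) = algebraMap A B a) : π ∣ a := by
  obtain ⟨P, hP, hPy⟩ := hy
  have := Polynomial.dvd_pow_natDegree_of_eval₂_eq_zero (away_injective (B := B) π hπ) hP
    (π ^ (k + 1)) a y hPy (by rw [map_pow, mul_comm, h])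
  exact hπ.dvd_of_dvd_pow (dvd_trans (dvd_pow_self π (Nat.succ_ne_zero k)) this)

include hπ in
/-- `A` is integrally closed in `A[1/π]` for a prime element `π` of a domain `A`. -/
theorem mem_range_of_isIntegral_away (y : B) (hy : IsIntegral A y) :
    y ∈ (algebraMap A B).range := by
  obtain ⟨k, a, hka⟩ := IsLocalization.Away.surj π y
  induction k generalizing a with
  | zero => exact ⟨a, by rw [← hka, pow_zero, mul_one]⟩
  | succ k ih =>
    obtain ⟨a', rfl⟩ := dvd_of_isIntegral_of_mul_eq π hπ y hy k a hka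
    apply ih a'
    have hu : IsUnit (algebraMap A B π) := IsLocalization.Away.algebraMap_isUnit π
    apply hu.mul_right_cancel
    rw [mul_assoc, ← pow_succ, hka, map_mul, mul_comm]

variable (u : Bˣ) (hu : (u : B) = algebraMap A B π)

include hu in
theorem zpow_natCast_val (n : ℕ) : ((u ^ (n : ℤ) : Bˣ) : B) = algebraMap A B (π ^ n) := by
  rw [zpow_natCast, Units.val_pow_eq_pow_val, hu, map_pow]

include hπ hu in
/-- If `u^(-i) * y^(p^l)` lies in `A`, with `p ∤ i` and `l ≥ 1`, then it is divisible by `π`. -/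
theorem dvd_of_zpow_mul_pow_eq (p : ℕ) (hp0 : p ≠ 0) (y : B) (i : ℤ) (l : ℕ) (hl : l ≠ 0)
    (hi : ¬ ((p : ℤ) ∣ i)) (g₀ : A)
    (h : ((u ^ (-i) : Bˣ) : B) * y ^ p ^ l = algebraMap A B g₀) : π ∣ g₀ := by
  have hinj := away_injective (B := B) π hπ
  obtain ⟨k, a, hka⟩ := IsLocalization.Away.surj π y
  have hy : y ^ p ^ l = ((u ^ i : Bˣ) : B) * algebraMap A B g₀ := by
    rw [← h, ← mul_assoc, zpow_val_mul_neg, one_mul]
  have key : ((u ^ (i + (k * p ^ l : ℕ)) : Bˣ) : B) * algebraMap A B g₀ =
      algebraMap A B (a ^ p ^ l) := by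
    rw [map_pow, ← hka, mul_pow, hy, ← zpow_val_mul, zpow_natCast_val π u hu, map_pow, ← pow_mul]
    ring
  by_contra hnd
  rcases lt_or_ge (i + (k * p ^ l : ℕ)) 0 with hneg | hpos
  · obtain ⟨e', he'⟩ : ∃ e' : ℕ, -(i + (k * p ^ l : ℕ)) = (e' + 1 : ℕ) :=
      ⟨(-(i + (k * p ^ l : ℕ))).toNat - 1, by omega⟩
    have h2 : algebraMap A B g₀ = algebraMap A B (π ^ (e' + 1) * a ^ p ^ l) := by
      rw [map_mul, ← key, ← zpow_natCast_val π u hu, ← he', ← mul_assoc, mul_comm _ (Units.val _),
        zpow_val_mul_neg, one_mul]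
    have h3 := hinj h2
    exact hnd ⟨π ^ e' * a ^ p ^ l, by rw [h3, pow_succ]; ring⟩
  · obtain ⟨e', he'⟩ : ∃ e' : ℕ, i + (k * p ^ l : ℕ) = (e' : ℕ) :=
      ⟨(i + (k * p ^ l : ℕ)).toNat, by omega⟩
    rw [he', zpow_natCast_val π u hu, ← map_mul] at key
    have h3 : π ^ e' * g₀ = a ^ p ^ l := hinj key
    have h4 : emultiplicity π (π ^ e' * g₀) = e' := by
      rw [emultiplicity_eq_coe]
      refine ⟨dvd_mul_right _ _, fun hd => hnd ?_⟩
      rw [pow_succ] at hd
      exact (mul_dvd_mul_iff_left (pow_ne_zero e' hπ.ne_zero)).mp hd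
    rw [h3, emultiplicity_pow hπ] at h4
    have hfin : emultiplicity π a ≠ ⊤ := by
      intro htop
      rw [htop] at h4
      have : ((p ^ l : ℕ) : ℕ∞) ≠ 0 := by
        exact_mod_cast pow_ne_zero l hp0
      rw [ENat.mul_top this] at h4
      exact ENat.top_ne_natCast _ h4
    obtain ⟨v, hv⟩ := ENat.ne_top_iff_exists.mp hfin
    rw [← hv] at h4
    have h5 : p ^ l * v = e' := by exact_mod_cast h4
    apply hi
    have h6 : (p : ℤ) ∣ (e' : ℤ) := by
      rw [← h5]
      push_cast
      exact Dvd.dvd.mul_right (dvd_pow_self _ hl) _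
    have h7 : (p : ℤ) ∣ ((k * p ^ l : ℕ) : ℤ) := by
      push_cast
      exact Dvd.dvd.mul_left (dvd_pow_self _ hl) _
    have : i = (e' : ℤ) - ((k * p ^ l : ℕ) : ℤ) := by omega
    rw [this]
    exact dvd_sub h6 h7

end Prime

end Groth.Agent.Lib.Helper21.WF
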