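import Groth.Agent.Lib.Helper21.WittFilLib3

/-!
# helper21: graded pieces of `WittFil.fil` for `B = A[1/π]` — the map `c ↦ V^s(c·[u^i])`
-/

set_option autoImplicit false
set_option linter.unusedSectionVars false

universe u

namespace Groth.Agent.Lib.Helper21.WF

section Main

variable {A B : Type u} [CommRing A] [IsDomain A] [CommRing B] [Algebra A B] (π : A)
  (hπ : Prime π) [IsLocalization.Away π B] (u : Bˣ) (hu : (u : B) = algebraMap A B π)
  (p : ℕ) [Fact p.Prime]

section Ext

variable {B' : Type u} [CommRing B'] [Algebra A B'] [Algebra B B']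
  [IsScalarTower A B B'] (hι : Function.Injective (algebraMap B B'))

/-- the element `π` of the integral closure of `A` in `B'`. -/
def piC (B' : Type u) [CommRing B'] [Algebra A B'] : (integralClosure A B').toSubring :=
  ⟨algebraMap A B' π, isIntegral_algebraMap⟩

include hπ hu hι in
theorem truncate_mem_fil_mul_inv (e : B) (t : B') (m : ℕ)
    (ht : t ^ p ^ (m - 1) = algebraMap B B' e) (Z : WittVector p B)
    (h : ∀ j < m, ∃ z : (integralClosure A B').toSubring,
      z ∈ (Ideal.span {piC π B'}).radical ∧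
      (z : B') = (WittVector.teichmuller p t * WittVector.map (algebraMap B B') Z).coeff j) :
    WittVector.truncate m Z ∈ WittFil.fil p m (A := A) (e * ((u⁻¹ : Bˣ) : B)) := by
  have hic := mem_range_of_isIntegral_away (B := B) π hπ
  have hinj := away_injective (B := B) π hπ
  intro j
  obtain ⟨z, hz, hzj⟩ := h j j.2
  rw [Groth.Agent.Lib.Helper21.WT.coeff_teichmuller_mul, WittVector.map_coeff] at hzj
  rw [WittVector.coeff_truncate]
  have hq0 : p ^ (m - 1 - (j : ℕ)) ≠ 0 := pow_ne_zero _ (Fact.out : p.Prime).ne_zero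
  have hwB : algebraMap B B' (Z.coeff j ^ p ^ (m - 1 - (j : ℕ)) * e) =
      (z : B') ^ p ^ (m - 1 - (j : ℕ)) := by
    rw [hzj, mul_pow, ← pow_mul, ← pow_add,
      (by have := j.2; omega : (j : ℕ) + (m - 1 - (j : ℕ)) = m - 1), ht, map_mul, map_pow,
      mul_comm]
  have hwBint : IsIntegral A (Z.coeff j ^ p ^ (m - 1 - (j : ℕ)) * e) := by
    rw [← isIntegral_algHom_iff (IsScalarTower.toAlgHom A B B') hι]
    change IsIntegral A (algebraMap B B' _)
    rw [hwB]
    exact IsIntegral.pow z.2 _
  obtain ⟨w₀, hw₀⟩ := hic _ hwBint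
  obtain ⟨M, hM⟩ := hz
  rw [Ideal.mem_span_singleton] at hM
  obtain ⟨w', hw'⟩ := dvd_pow hM hq0
  have h1 : algebraMap B B' ((Z.coeff j ^ p ^ (m - 1 - (j : ℕ)) * e) ^ M * ((u⁻¹ : Bˣ) : B)) =
      (w' : B') := by
    have hu' : IsUnit (algebraMap B B' (u : B)) := (u.isUnit).map _
    apply hu'.mul_left_cancel
    rw [← map_mul, mul_comm _ (Units.val u⁻¹), ← mul_assoc, Units.mul_inv, one_mul, map_pow, hwB,
      ← pow_mul, mul_comm _ M, pow_mul, hu, ← IsScalarTower.algebraMap_apply]
    exact congrArg Subtype.val hw'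
  have h2 : IsIntegral A ((Z.coeff j ^ p ^ (m - 1 - (j : ℕ)) * e) ^ M * ((u⁻¹ : Bˣ) : B)) := by
    rw [← isIntegral_algHom_iff (IsScalarTower.toAlgHom A B B') hι]
    change IsIntegral A (algebraMap B B' _)
    rw [h1]
    exact w'.2
  obtain ⟨a', ha'⟩ := hic _ h2
  have h3 : w₀ ^ M = π * a' := by
    apply hinj
    rw [map_pow, hw₀, map_mul, ha', ← hu, mul_comm (u : B), mul_assoc, Units.inv_mul, mul_one]
  obtain ⟨w₁, rfl⟩ := hπ.dvd_of_dvd_pow ⟨a', h3⟩
  refine ⟨w₁, ?_⟩
  rw [← mul_assoc, ← hw₀, map_mul, ← hu, mul_comm (u : B), mul_assoc, Units.mul_inv, mul_one]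

end Ext

variable {S : Type u} [CommRing S] [Algebra S A] [Algebra S B] [IsScalarTower S A B]

/-- (1): `Φ(c) ∈ fil(u^(-n))`. -/
theorem vShiftTeich_mem_fil (m s : ℕ) (hs : s < m) (i : ℤ) (c : WittVector p S) :
    WittFil.vShiftTeich p m s ((u ^ i : Bˣ) : B) c ∈
      WittFil.fil p m (A := A) ((u ^ (-((p : ℤ) ^ (m - 1 - s) * i)) : Bˣ) : B) := by
  intro j
  rw [coeff_vShiftTeich]
  split_ifs with hjs
  · rw [zero_pow (pow_ne_zero _ (Fact.out : p.Prime).ne_zero), zero_mul]
    exact ⟨0, map_zero _⟩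
  · refine ⟨algebraMap S A (c.coeff (j - s) ^ p ^ (m - 1 - j)), ?_⟩
    have h1 : (j : ℕ) - s + (m - 1 - j) = m - 1 - s := by have := j.2; omega
    have h2 : i * ((p ^ (m - 1 - s) : ℕ) : ℤ) + -((p : ℤ) ^ (m - 1 - s) * i) = 0 := by
      push_cast; ring
    rw [← IsScalarTower.algebraMap_apply, mul_pow, ← pow_mul, ← pow_add, map_pow, zpow_val_pow,
      mul_assoc, zpow_val_mul, h1, h2, zpow_zero, Units.val_one, mul_one]

include hπ hu in
/-- (2): `Φ(c) ∈ fil(u^(-n-1))` iff the truncation of `c` vanishes. -/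
theorem vShiftTeich_mem_fil_succ_iff [IsReduced S]
    (hinjS : ∀ c : S, π ∣ algebraMap S A c → c = 0) (m s : ℕ) (hs : s < m) (i : ℤ)
    (c : WittVector p S) :
    WittFil.vShiftTeich p m s ((u ^ i : Bˣ) : B) c ∈
        WittFil.fil p m (A := A) ((u ^ (-((p : ℤ) ^ (m - 1 - s) * i) - 1) : Bˣ) : B) ↔
      WittVector.truncate (m - s) c = 0 := by
  have hinj := away_injective (B := B) π hπ
  have hexp : ∀ j : Fin m, ¬ (j : ℕ) < s →
      (algebraMap S B (c.coeff (j - s)) * ((u ^ i : Bˣ) : B) ^ p ^ ((j : ℕ) - s)) ^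
        p ^ (m - 1 - (j : ℕ)) * ((u ^ (-((p : ℤ) ^ (m - 1 - s) * i) - 1) : Bˣ) : B) =
      algebraMap S B (c.coeff (j - s) ^ p ^ (m - 1 - (j : ℕ))) * ((u⁻¹ : Bˣ) : B) := by
    intro j hjs
    have h1 : (j : ℕ) - s + (m - 1 - j) = m - 1 - s := by have := j.2; omega
    have h2 : i * ((p ^ (m - 1 - s) : ℕ) : ℤ) + (-((p : ℤ) ^ (m - 1 - s) * i) - 1) = -1 := by
      push_cast; ring
    rw [mul_pow, ← pow_mul, ← pow_add, map_pow, zpow_val_pow, mul_assoc, zpow_val_mul, h1, h2,
      zpow_neg_one]
  constructor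
  · intro h
    ext k
    rw [WittVector.coeff_truncate, TruncatedWittVector.coeff_zero]
    have hk : (k : ℕ) + s < m := by have := k.2; omega
    obtain ⟨a, ha⟩ := h ⟨(k : ℕ) + s, hk⟩
    rw [coeff_vShiftTeich, if_neg (by simp), hexp _ (by simp)] at ha
    simp only [Nat.add_sub_cancel] at ha
    have h3 : algebraMap S A (c.coeff k ^ p ^ (m - 1 - ((k : ℕ) + s))) = π * a := by
      apply hinj
      rw [map_mul, ← IsScalarTower.algebraMap_apply, ha, ← hu, mul_comm (u : B),
        mul_assoc, Units.inv_mul, mul_one]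
    have h4 := hinjS _ ⟨a, h3⟩
    exact pow_eq_zero_iff (pow_ne_zero _ (Fact.out : p.Prime).ne_zero) |>.mp h4
  · intro h j
    have hc : ∀ k, k < m - s → c.coeff k = 0 := by
      intro k hk
      have := congrArg (TruncatedWittVector.coeff ⟨k, hk⟩) h
      rwa [WittVector.coeff_truncate, TruncatedWittVector.coeff_zero] at this
    rw [coeff_vShiftTeich]
    split_ifs with hjs
    · rw [zero_pow (pow_ne_zero _ (Fact.out : p.Prime).ne_zero), zero_mul]
      exact ⟨0, map_zero _⟩
    · rw [hc _ (by have := j.2; omega), map_zero, zero_mul,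
        zero_pow (pow_ne_zero _ (Fact.out : p.Prime).ne_zero), zero_mul]
      exact ⟨0, map_zero _⟩

include hπ hu in
/-- (3): every element of `fil(u^(-n))` is congruent to some `Φ(c)` modulo `fil(u^(-n-1))`. -/
theorem exists_sub_vShiftTeich_mem_fil [CharP B p]
    (hsec : ∀ a : A, ∃ c : S, π ∣ a - algebraMap S A c)
    (m s : ℕ) (hs : s < m) (i : ℤ) (hsi : s = 0 ∨ ¬ ((p : ℤ) ∣ i))
    (y : TruncatedWittVector p m B)
    (hy : y ∈ WittFil.fil p m (A := A) ((u ^ (-((p : ℤ) ^ (m - 1 - s) * i)) : Bˣ) : B)) :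
    ∃ c : WittVector p S, y - WittFil.vShiftTeich p m s ((u ^ i : Bˣ) : B) c ∈
      WittFil.fil p m (A := A) ((u ^ (-((p : ℤ) ^ (m - 1 - s) * i) - 1) : Bˣ) : B) := by
  classical
  have hic := mem_range_of_isIntegral_away (B := B) π hπ
  have hinj := away_injective (B := B) π hπ
  have : IsDomain B := away_isDomain (B := B) π hπ
  obtain ⟨B', _, _, _, _, hι, hroot⟩ := exists_perfect_ext A B p
  obtain ⟨t, ht⟩ := hroot s ((u ^ (-i) : Bˣ) : B)
  obtain ⟨Y, rfl⟩ := WittVector.truncate_surjective p m B y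
  have htN : t ^ p ^ (m - 1) =
      algebraMap B B' (((u ^ (-((p : ℤ) ^ (m - 1 - s) * i)) : Bˣ) : B)) := by
    have hexp : p ^ (m - 1) = p ^ s * p ^ (m - 1 - s) := by
      rw [← pow_add]; congr 1; omega
    rw [hexp, pow_mul, ht, ← map_pow, zpow_val_pow]
    congr 3
    push_cast; ring
  have hP := (truncate_mem_fil_iff_of_ic hic p hι _ t m htN Y).mp hy
  choose σ hσ using hsec
  let g : ℕ → B := fun k => ((u ^ (-(i * (p ^ k : ℕ))) : Bˣ) : B) * Y.coeff (k + s)
  let a : ℕ → A := fun k => if h : ∃ a, algebraMap A B a = g k then h.choose else 0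
  let c : WittVector p S := WittVector.mk p fun k => σ (a k)
  refine ⟨c, ?_⟩
  let Z : WittVector p B := (WittVector.verschiebung)^[s]
    (WittVector.map (algebraMap S B) c * WittVector.teichmuller p ((u ^ i : Bˣ) : B))
  have hZ : WittFil.vShiftTeich p m s ((u ^ i : Bˣ) : B) c = WittVector.truncate m Z := rfl
  have hQeq : WittVector.teichmuller p t * WittVector.map (algebraMap B B') Z =
      (WittVector.verschiebung)^[s]
        (WittVector.map ((algebraMap B B').comp (algebraMap S B)) c) := by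
    rw [mul_comm, map_iterate_verschiebung,
      ← Groth.Agent.Lib.Helper21.WT.iterate_verschiebung_mul_iterate_frobenius,
      Groth.Agent.Lib.Helper21.WT.iterate_frobenius_teichmuller, ht, map_mul,
      WittVector.map_teichmuller, mul_assoc, ← map_mul (WittVector.teichmuller p),
      ← map_mul (algebraMap B B'), zpow_val_mul_neg, map_one, map_one, mul_one]
    congr 1
  have hQc : ∀ j, (WittVector.teichmuller p t * WittVector.map (algebraMap B B') Z).coeff j =
      if j < s then 0 else algebraMap A B' (algebraMap S A (c.coeff (j - s))) := by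
    intro j
    rw [hQeq, coeff_iterate_verschiebung]
    split_ifs
    · rfl
    · rw [WittVector.map_coeff, RingHom.comp_apply, IsScalarTower.algebraMap_apply S A B,
        ← IsScalarTower.algebraMap_apply A B B']
  have hQ : ∀ j < m, (WittVector.teichmuller p t * WittVector.map (algebraMap B B') Z).coeff j ∈
      (integralClosure A B').toSubring := by
    intro j _
    rw [hQc]
    split_ifs
    · exact Subring.zero_mem _
    · exact isIntegral_algebraMap
  have hcong : ∀ j (hj : j < m),
      (⟨_, hP j hj⟩ : (integralClosure A B').toSubring) - ⟨_, hQ j hj⟩ ∈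
        (Ideal.span {piC π B'}).radical := by
    intro j hj
    by_cases hjs : j < s
    · refine ⟨p ^ (s - j), ?_⟩
      rw [Ideal.mem_span_singleton]
      have hPj : (WittVector.teichmuller p t * WittVector.map (algebraMap B B') Y).coeff j =
          t ^ p ^ j * algebraMap B B' (Y.coeff j) := by
        rw [Groth.Agent.Lib.Helper21.WT.coeff_teichmuller_mul, WittVector.map_coeff]
      have hpow : (t ^ p ^ j * algebraMap B B' (Y.coeff j)) ^ p ^ (s - j) =
          algebraMap B B' (((u ^ (-i) : Bˣ) : B) * Y.coeff j ^ p ^ (s - j)) := by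
        rw [mul_pow, ← pow_mul, ← pow_add, (by omega : j + (s - j) = s), ht, map_mul, map_pow]
      have hgint : IsIntegral A (((u ^ (-i) : Bˣ) : B) * Y.coeff j ^ p ^ (s - j)) := by
        rw [← isIntegral_algHom_iff (IsScalarTower.toAlgHom A B B') hι]
        change IsIntegral A (algebraMap B B' _)
        rw [← hpow, ← hPj]
        exact IsIntegral.pow (hP j hj) _
      obtain ⟨g₀, hg₀⟩ := hic _ hgint
      have hs0 : s ≠ 0 := by omega
      have hpi : ¬ ((p : ℤ) ∣ i) := hsi.resolve_left hs0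
      obtain ⟨g₁, rfl⟩ := dvd_of_zpow_mul_pow_eq π hπ u hu p (Fact.out : p.Prime).ne_zero
        (Y.coeff j) i (s - j) (by omega) hpi g₀ hg₀.symm
      refine ⟨⟨algebraMap A B' g₁, isIntegral_algebraMap⟩, ?_⟩
      apply Subtype.ext
      change ((WittVector.teichmuller p t * WittVector.map (algebraMap B B') Y).coeff j -
        (WittVector.teichmuller p t * WittVector.map (algebraMap B B') Z).coeff j) ^ p ^ (s - j) =
        algebraMap A B' π * algebraMap A B' g₁
      rw [hQc, if_pos hjs, sub_zero, hPj, hpow, ← hg₀, ← IsScalarTower.algebraMap_apply, map_mul]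
    · rw [not_lt] at hjs
      apply Ideal.le_radical
      rw [Ideal.mem_span_singleton]
      obtain ⟨k, rfl⟩ : ∃ k, j = k + s := ⟨j - s, by omega⟩
      have hPj : (WittVector.teichmuller p t * WittVector.map (algebraMap B B') Y).coeff (k + s) =
          algebraMap B B' (g k) := by
        rw [Groth.Agent.Lib.Helper21.WT.coeff_teichmuller_mul, WittVector.map_coeff]
        change _ = algebraMap B B' (((u ^ (-(i * (p ^ k : ℕ))) : Bˣ) : B) * Y.coeff (k + s))
        rw [map_mul]
        congr 1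
        rw [add_comm k s, pow_add, pow_mul, ht, ← map_pow, zpow_val_pow]
        congr 3
        push_cast; ring
      have hgint : IsIntegral A (g k) := by
        rw [← isIntegral_algHom_iff (IsScalarTower.toAlgHom A B B') hι]
        change IsIntegral A (algebraMap B B' _)
        rw [← hPj]
        exact hP _ hj
      have hex : ∃ a, algebraMap A B a = g k := hic _ hgint
      have hak : algebraMap A B (a k) = g k := by
        change algebraMap A B (if h : ∃ a, algebraMap A B a = g k then h.choose else 0) = g k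
        rw [dif_pos hex]
        exact hex.choose_spec
      obtain ⟨d, hd⟩ := hσ (a k)
      refine ⟨⟨algebraMap A B' d, isIntegral_algebraMap⟩, ?_⟩
      apply Subtype.ext
      change (WittVector.teichmuller p t * WittVector.map (algebraMap B B') Y).coeff (k + s) -
        (WittVector.teichmuller p t * WittVector.map (algebraMap B B') Z).coeff (k + s) =
        algebraMap A B' π * algebraMap A B' d
      rw [hQc, if_neg (by omega), hPj, ← hak, ← IsScalarTower.algebraMap_apply, ← map_sub,
        ← map_mul, Nat.add_sub_cancel]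
      exact congrArg (algebraMap A B') hd
  have hfinal := coeff_sub_mem_ideal p (integralClosure A B').toSubring
    (Ideal.span {piC π B'}).radical m _ _ hP hQ hcong
  have hsub : WittVector.truncate m Y - WittFil.vShiftTeich p m s ((u ^ i : Bˣ) : B) c =
      WittVector.truncate m (Y - Z) := by rw [hZ, map_sub]
  rw [hsub]
  have hexp : ((u ^ (-((p : ℤ) ^ (m - 1 - s) * i) - 1) : Bˣ) : B) =
      ((u ^ (-((p : ℤ) ^ (m - 1 - s) * i)) : Bˣ) : B) * ((u⁻¹ : Bˣ) : B) := by
    rw [← zpow_neg_one, zpow_val_mul]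
    rfl
  rw [hexp]
  apply truncate_mem_fil_mul_inv π hπ u hu p hι _ t m htN (Y - Z)
  intro j hj
  obtain ⟨z, hz, hzj⟩ := hfinal j hj
  refine ⟨z, hz, ?_⟩
  rw [hzj, map_sub, mul_sub]

end Main

end Groth.Agent.Lib.Helper21.WF
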