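import Mathlib.RingTheory.ZariskisMainTheorem
import Mathlib.RingTheory.IntegralClosure.IntegrallyClosed
import Mathlib.RingTheory.Localization.AtPrime.Basic
import Mathlib.RingTheory.Localization.Away.Basic

/-!
# A birational form of Zariski's main theorem (ring level)

`A` a domain with fraction field `K`, `D` a finite type `A`-algebra, `j : D →ₐ[A] K`.
If `q ⊇ ker j` is a prime of `D` which is isolated in the fibre of `V(ker j) → Spec A` over
`p = q ∩ A` and `A_p` is integrally closed, then `j(D) ⊆ A_f` for some `f ∉ p`.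
-/

set_option autoImplicit false
universe u

namespace Groth.Agent.Lib.Helper21.ZMTExt

open PrimeSpectrum

variable {A D : Type u} [CommRing A] [IsDomain A] [CommRing D] [Algebra A D]
  [Algebra.FiniteType A D]

/-- Pointwise form: every `j d` lies in `A_p ⊆ K`. -/
theorem exists_mul_eq_of_isolated {K : Type u} [Field K] [Algebra A K] [IsFractionRing A K]
    (j : D →ₐ[A] K) (q : Ideal D) [q.IsPrime] (hq : RingHom.ker j ≤ q)
    (hic : IsIntegrallyClosed (Localization.AtPrime (q.under A)))
    (W : Set (PrimeSpectrum D)) (hW : IsOpen W)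
    (hiso : W ∩ zeroLocus (RingHom.ker j : Set D) ∩
      comap (algebraMap A D) ⁻¹' {⟨q.under A, inferInstance⟩} = {⟨q, inferInstance⟩}) (d : D) :
    ∃ s : A, s ∉ q.under A ∧ ∃ c : A, j d * algebraMap A K s = algebraMap A K c := by
  classical
  set p : Ideal A := q.under A with hp
  set I : Ideal D := RingHom.ker j with hI
  let B := D ⧸ I
  let mk : D →ₐ[A] B := Ideal.Quotient.mkₐ A I
  have hmk : Function.Surjective mk := Ideal.Quotient.mkₐ_surjective A I
  have : Algebra.FiniteType A B := Algebra.FiniteType.of_surjective mk hmk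
  let jbar : B →ₐ[A] K := Ideal.kerLiftAlg j
  have hjbar : Function.Injective jbar := Ideal.kerLiftAlg_injective j
  have hjmk : ∀ d, jbar (mk d) = j d := fun d => Ideal.kerLiftAlg_mk j d
  have hkermk : RingHom.ker (mk : D →+* B) = I := by
    change RingHom.ker (Ideal.Quotient.mk I) = I
    exact Ideal.mk_ker
  let qb : Ideal B := q.map (mk : D →+* B)
  have hqb : qb.IsPrime := Ideal.map_isPrime_of_surjective (f := (mk : D →+* B)) hmk
    (by rw [hkermk]; exact hq)
  have hqbc : qb.comap (mk : D →+* B) = q := by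
    rw [Ideal.comap_map_of_surjective (mk : D →+* B) hmk]
    refine sup_eq_left.mpr ?_
    change Ideal.comap (mk : D →+* B) ⊥ ≤ q
    rw [← RingHom.ker_eq_comap_bot, hkermk]; exact hq
  have hqbp : qb.under A = p := by
    rw [hp, ← hqbc]
    ext t
    simp only [Ideal.mem_comap, Ideal.under_def]
    rw [← AlgHom.commutes mk t]
    exact Iff.rfl
  -- quasi-finiteness at `qb`
  let Qb : PrimeSpectrum B := ⟨qb, hqb⟩
  have hcomp : ∀ Q' : PrimeSpectrum B, comap (algebraMap A D) (comap (mk : D →+* B) Q') =
      comap (algebraMap A B) Q' := by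
    intro Q'
    rw [← comap_comp_apply]
    congr 2
  have hQbq : comap (mk : D →+* B) Qb = ⟨q, inferInstance⟩ := by
    ext1; exact hqbc
  have hqf : Algebra.QuasiFiniteAt A qb := by
    refine Algebra.QuasiFiniteAt.of_isOpen_singleton_fiber Qb ?_
    have hopen : IsOpen (Subtype.val ⁻¹' (comap (mk : D →+* B) ⁻¹' W) :
        Set (comap (algebraMap A B) ⁻¹' {Qb.comap (algebraMap A B)})) :=
      ((continuous_comap (mk : D →+* B)).isOpen_preimage W hW).preimage continuous_subtype_val
    convert hopen using 1
    ext ⟨Q', hQ'⟩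
    simp only [Set.mem_singleton_iff, Subtype.mk.injEq, Set.mem_preimage]
    constructor
    · rintro rfl
      rw [hQbq]
      have : (⟨q, inferInstance⟩ : PrimeSpectrum D) ∈ ({⟨q, inferInstance⟩} : Set _) := rfl
      rw [← hiso] at this
      exact this.1.1
    · intro hQW
      have hmem : comap (mk : D →+* B) Q' ∈ W ∩ zeroLocus (I : Set D) ∩
          comap (algebraMap A D) ⁻¹' {⟨p, inferInstance⟩} := by
        refine ⟨⟨hQW, ?_⟩, ?_⟩
        · rw [mem_zeroLocus, SetLike.coe_subset_coe]
          intro t ht
          change (mk : D →+* B) t ∈ Q'.asIdeal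
          have ht0 : (mk : D →+* B) t = 0 := by
            rw [← RingHom.mem_ker, hkermk]; exact ht
          rw [ht0]; exact zero_mem _
        · rw [Set.mem_preimage, Set.mem_singleton_iff, hcomp]
          have h1 : comap (algebraMap A B) Q' = comap (algebraMap A B) Qb := hQ'
          rw [h1, ← hcomp, hQbq]
          rfl
      rw [hiso, Set.mem_singleton_iff, ← hQbq] at hmem
      exact comap_injective_of_surjective (mk : D →+* B) hmk hmem
  obtain ⟨r, hr, hrint, H⟩ := Algebra.zariskisMainProperty_iff.mp
    (Algebra.ZariskisMainProperty.of_finiteType (R := A) qb)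
  -- the localization at `p` inside `K`
  let Ap := Localization.AtPrime p
  have hunits : ∀ y : p.primeCompl, IsUnit (algebraMap A K y) := by
    intro y
    refine IsUnit.mk0 _ ?_
    rw [Ne, FaithfulSMul.algebraMap_eq_zero_iff]
    rintro h0
    exact y.2 (h0 ▸ zero_mem p)
  let algApK : Algebra Ap K := (IsLocalization.lift (M := p.primeCompl) (S := Ap) hunits).toAlgebra
  have : IsScalarTower A Ap K := IsScalarTower.of_algebraMap_eq fun t =>
    (IsLocalization.lift_eq (M := p.primeCompl) (S := Ap) hunits t).symm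
  have : IsFractionRing Ap K :=
    IsFractionRing.isFractionRing_of_isDomain_of_isLocalization p.primeCompl Ap K
  have hmemAp : ∀ b : B, IsIntegral A b → ∃ y : Ap, algebraMap Ap K y = jbar b := by
    intro b hb
    have h1 : IsIntegral A (jbar b) := hb.map jbar
    have h2 : IsIntegral Ap (jbar b) := h1.tower_top
    exact IsIntegrallyClosed.isIntegral_iff.mp h2
  obtain ⟨ρ, hρ⟩ := hmemAp r hrint
  have hρunit : IsUnit ρ := by
    obtain ⟨a', s, rfl⟩ := IsLocalization.exists_mk'_eq p.primeCompl ρ
    have h1 : jbar r * algebraMap A K s = algebraMap A K a' := by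
      rw [← hρ, IsScalarTower.algebraMap_apply A Ap K, IsScalarTower.algebraMap_apply A Ap K,
        ← map_mul, IsLocalization.mk'_spec]
    have h2 : r * algebraMap A B s = algebraMap A B a' := by
      apply hjbar
      rw [map_mul, AlgHom.commutes, AlgHom.commutes, h1]
    have ha' : a' ∉ p := by
      intro ha'
      have h3 : algebraMap A B a' ∈ qb := by
        have : a' ∈ qb.under A := hqbp ▸ ha'
        exact this
      rw [← h2] at h3
      rcases hqb.mem_or_mem h3 with h4 | h4
      · exact hr h4
      · have : (s : A) ∈ qb.under A := h4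
        rw [hqbp] at this
        exact s.2 this
    exact (IsLocalization.AtPrime.isUnit_mk'_iff Ap p a' s).mpr ha'
  obtain ⟨m, hm⟩ := H (mk d)
  obtain ⟨β, hβ⟩ := hmemAp _ hm
  obtain ⟨ρi, hρi⟩ := hρunit.exists_right_inv
  have hjd : algebraMap Ap K (β * ρi ^ m) = j d := by
    have h1 : algebraMap Ap K (ρ ^ m * (β * ρi ^ m)) = algebraMap Ap K (ρ ^ m) * j d := by
      have : ρ ^ m * (β * ρi ^ m) = β := by
        rw [mul_left_comm, ← mul_pow, hρi, one_pow, mul_one]
      rw [this, hβ, map_mul, map_pow, map_pow, hρ, hjmk]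
    rw [map_mul] at h1
    have hne : algebraMap Ap K (ρ ^ m) ≠ 0 := by
      rw [Ne, FaithfulSMul.algebraMap_eq_zero_iff]
      exact (hρunit.pow m).ne_zero
    exact mul_left_cancel₀ hne h1
  obtain ⟨c, s, hcs⟩ := IsLocalization.exists_mk'_eq p.primeCompl (β * ρi ^ m)
  refine ⟨s, s.2, c, ?_⟩
  rw [← hjd, ← hcs, IsScalarTower.algebraMap_apply A Ap K, IsScalarTower.algebraMap_apply A Ap K,
    ← map_mul, IsLocalization.mk'_spec]

end Groth.Agent.Lib.Helper21.ZMTExt
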