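import Groth.Agent.Lib.Helper21.ZMTExt1

/-!
# Birational ZMT: extension of a rational section (ring level)

From `exists_mul_eq_of_isolated`: if `ψ : D →ₐ[A] A_a` and `q ⊇ ker ψ` is isolated in its
fibre in `V(ker ψ)` and `A_p` is integrally closed, then `ψ` extends to `θ : D →ₐ[A] A_f` with
`f ∉ p`, compatibly inside `A_{af}`.
-/

set_option autoImplicit false
universe u

namespace Groth.Agent.Lib.Helper21.ZMTExt

open PrimeSpectrum

section toK

variable {A : Type u} [CommRing A] [IsDomain A]

/-- The canonical embedding of a localization of a domain into its fraction field. -/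
noncomputable def toK (M : Submonoid A) (hM : M ≤ nonZeroDivisors A) (T : Type u) [CommRing T]
    [Algebra A T] [IsLocalization M T] (K : Type u) [Field K] [Algebra A K] [IsFractionRing A K] :
    T →ₐ[A] K :=
  IsLocalization.liftAlgHom (M := M) (f := Algebra.ofId A K)
    (fun y => IsLocalization.map_units K (⟨y.1, hM y.2⟩ : nonZeroDivisors A))

theorem toK_injective (M : Submonoid A) (hM : M ≤ nonZeroDivisors A) (T : Type u) [CommRing T]
    [Algebra A T] [IsLocalization M T] (K : Type u) [Field K] [Algebra A K] [IsFractionRing A K] :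
    Function.Injective (toK M hM T K) := by
  have : Function.Injective (IsLocalization.lift (M := M) (S := T) (g := algebraMap A K)
      (fun y => IsLocalization.map_units K (⟨y.1, hM y.2⟩ : nonZeroDivisors A))) := by
    rw [IsLocalization.lift_injective_iff]
    intro x y
    rw [(IsLocalization.injective T hM).eq_iff, (IsFractionRing.injective A K).eq_iff]
  exact this

theorem toK_mk'_eq_iff (M : Submonoid A) (hM : M ≤ nonZeroDivisors A) (T : Type u) [CommRing T]
    [Algebra A T] [IsLocalization M T] (K : Type u) [Field K] [Algebra A K] [IsFractionRing A K]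
    (x : A) (y : M) (z : K) :
    toK M hM T K (IsLocalization.mk' T x y) = z ↔ algebraMap A K x = algebraMap A K y * z :=
  IsLocalization.lift_mk'_spec _ _ _ _

end toK

variable {A D : Type u} [CommRing A] [IsDomain A] [CommRing D] [Algebra A D]
  [Algebra.FiniteType A D]

theorem exists_away_lift {T : Type u} [CommRing T] [Algebra A T] (a : A) (ha : a ≠ 0)
    [IsLocalization.Away a T] (ψ : D →ₐ[A] T) (q : Ideal D) [q.IsPrime]
    (hq : RingHom.ker ψ ≤ q)
    (hic : IsIntegrallyClosed (Localization.AtPrime (q.under A)))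
    (W : Set (PrimeSpectrum D)) (hW : IsOpen W)
    (hiso : W ∩ zeroLocus (RingHom.ker ψ : Set D) ∩
      comap (algebraMap A D) ⁻¹' {⟨q.under A, inferInstance⟩} = {⟨q, inferInstance⟩}) :
    ∃ f : A, f ∉ q.under A ∧ ∀ (T' : Type u) [CommRing T'] [Algebra A T']
      [IsLocalization.Away f T'], ∃ θ : D →ₐ[A] T',
      ∀ (T'' : Type u) [CommRing T''] [Algebra A T''] [IsLocalization.Away (a * f) T'']
        (r : T →ₐ[A] T'') (r' : T' →ₐ[A] T'') (d : D), r' (θ d) = r (ψ d) := by
  classical
  let K := FractionRing A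
  have hMa : Submonoid.powers a ≤ nonZeroDivisors A :=
    powers_le_nonZeroDivisors_of_noZeroDivisors ha
  let ιT : T →ₐ[A] K := toK (Submonoid.powers a) hMa T K
  have hιT : Function.Injective ιT := toK_injective _ hMa T K
  let j : D →ₐ[A] K := ιT.comp ψ
  have hker : RingHom.ker j = RingHom.ker ψ := by
    ext d
    simp only [RingHom.mem_ker]
    change ιT (ψ d) = 0 ↔ ψ d = 0
    exact map_eq_zero_iff ιT hιT
  have hq' : RingHom.ker j ≤ q := hker ▸ hq
  have hiso' : W ∩ zeroLocus (RingHom.ker j : Set D) ∩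
      comap (algebraMap A D) ⁻¹' {⟨q.under A, inferInstance⟩} = {⟨q, inferInstance⟩} := by
    rw [hker]; exact hiso
  have key := exists_mul_eq_of_isolated j q hq' hic W hW hiso'
  choose s hs c hc using key
  obtain ⟨t, ht⟩ := (Algebra.FiniteType.out : (⊤ : Subalgebra A D).FG)
  let f : A := ∏ d ∈ t, s d
  have hf : f ∉ q.under A := by
    intro hmem
    obtain ⟨d, -, hd⟩ := Ideal.IsPrime.prod_mem_iff.mp hmem
    exact hs d hd
  refine ⟨f, hf, ?_⟩
  intro T' _ _ _
  have hf0 : f ≠ 0 := fun h0 => hf (h0 ▸ zero_mem _)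
  have hMf : Submonoid.powers f ≤ nonZeroDivisors A :=
    powers_le_nonZeroDivisors_of_noZeroDivisors hf0
  let ιT' : T' →ₐ[A] K := toK (Submonoid.powers f) hMf T' K
  have hιT' : Function.Injective ιT' := toK_injective _ hMf T' K
  have hrange : ∀ d, j d ∈ ιT'.range := by
    have hle : Algebra.adjoin A (t : Set D) ≤ ιT'.range.comap j := by
      refine Algebra.adjoin_le ?_
      intro d hd
      have hdt : d ∈ t := hd
      change j d ∈ ιT'.range
      refine ⟨IsLocalization.mk' T' (c d * ∏ e ∈ t.erase d, s e)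
        (⟨f, Submonoid.mem_powers f⟩ : Submonoid.powers f), ?_⟩
      change toK (Submonoid.powers f) hMf T' K _ = j d
      rw [toK_mk'_eq_iff]
      have hfprod : f = s d * ∏ e ∈ t.erase d, s e := (Finset.mul_prod_erase t s hdt).symm
      change algebraMap A K (c d * ∏ e ∈ t.erase d, s e) = algebraMap A K f * j d
      rw [hfprod, map_mul, map_mul, ← hc d]
      ring
    intro d
    have : d ∈ Algebra.adjoin A (t : Set D) := by rw [ht]; exact Algebra.mem_top
    exact hle this
  let e := AlgEquiv.ofInjective ιT' hιT'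
  let θ : D →ₐ[A] T' := (e.symm : ιT'.range →ₐ[A] T').comp (j.codRestrict ιT'.range hrange)
  have hθ : ∀ d, ιT' (θ d) = j d := by
    intro d
    have h1 : (e (θ d) : K) = ιT' (θ d) := rfl
    rw [← h1]
    change ((e (e.symm (j.codRestrict ιT'.range hrange d)) : ιT'.range) : K) = j d
    rw [AlgEquiv.apply_symm_apply]
    rfl
  refine ⟨θ, ?_⟩
  intro T'' _ _ _ r r' d
  have haf : a * f ≠ 0 := mul_ne_zero ha hf0
  have hMaf : Submonoid.powers (a * f) ≤ nonZeroDivisors A :=
    powers_le_nonZeroDivisors_of_noZeroDivisors haf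
  let ιT'' : T'' →ₐ[A] K := toK (Submonoid.powers (a * f)) hMaf T'' K
  have hιT'' : Function.Injective ιT'' := toK_injective _ hMaf T'' K
  have h1 : ιT''.comp r = ιT :=
    (IsLocalization.algHom_subsingleton (Submonoid.powers a)).elim _ _
  have h2 : ιT''.comp r' = ιT' :=
    (IsLocalization.algHom_subsingleton (Submonoid.powers f)).elim _ _
  apply hιT''
  have h3 : ιT'' (r' (θ d)) = ιT' (θ d) := congrArg (fun g => g (θ d)) h2
  have h4 : ιT'' (r (ψ d)) = ιT (ψ d) := congrArg (fun g => g (ψ d)) h1
  rw [h3, h4, hθ]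
  rfl

end Groth.Agent.Lib.Helper21.ZMTExt
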