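import Groth.Agent.Lib.Helper21.ZMTExt3
import Mathlib.AlgebraicGeometry.Morphisms.UniversallyOpen
import Mathlib.AlgebraicGeometry.PullbackCarrier

/-!
# Rational maps from normal schemes: definedness descends along universally open morphisms
-/

set_option autoImplicit false
universe u
open AlgebraicGeometry CategoryTheory Limits TopologicalSpace

namespace Groth.Agent.Lib.Helper21.ZMTExt

variable {X X' Y S : Scheme.{u}}

/-- The image of a section (over an open `V`) of a separated morphism is closed in the preimage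
of `V`: here in the form "the closure of the image meets `p⁻¹ V` only in the image". -/
theorem closure_range_section_inter {P : Scheme.{u}} (p : P ⟶ X) [IsSeparated p] (V : X.Opens)
    (s : (V : Scheme.{u}) ⟶ P) (hs : s ≫ p = V.ι) (w : P) (hw : w ∈ closure (Set.range s))
    (hwV : p w ∈ V) : w ∈ Set.range s := by
  have hr : Set.range s ⊆ Set.range (p ⁻¹ᵁ V).ι := by
    rintro _ ⟨t, rfl⟩
    rw [Scheme.Opens.range_ι]
    change p (s t) ∈ V
    rw [← Scheme.Hom.comp_apply, hs]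
    exact t.2
  let s' : (V : Scheme.{u}) ⟶ (p ⁻¹ᵁ V : P.Opens) := IsOpenImmersion.lift (p ⁻¹ᵁ V).ι s hr
  have hs' : s' ≫ (p ⁻¹ᵁ V).ι = s := IsOpenImmersion.lift_fac _ _ _
  have hsec : s' ≫ (p ∣_ V) = 𝟙 _ := by
    rw [← cancel_mono V.ι, Category.assoc, morphismRestrict_ι, ← Category.assoc, hs', hs,
      Category.id_comp]
  have hci : IsClosedImmersion (s' ≫ (p ∣_ V)) := by rw [hsec]; infer_instance
  have hcl : IsClosedImmersion s' := IsClosedImmersion.of_comp s' (p ∣_ V)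
  have hclosed : IsClosed (Set.range s') := s'.isClosedEmbedding.isClosed_range
  -- transport to `P`
  let j := (p ⁻¹ᵁ V).ι
  let w' : ((p ⁻¹ᵁ V : P.Opens) : Scheme.{u}) := ⟨w, hwV⟩
  have hjw : j w' = w := rfl
  have hw' : w' ∈ closure (Set.range s') := by
    rw [j.isOpenEmbedding.isInducing.closure_eq_preimage_closure_image]
    change j w' ∈ closure (j '' Set.range s')
    rw [hjw]
    refine closure_mono ?_ hw
    rintro _ ⟨t, rfl⟩
    exact ⟨s' t, ⟨t, rfl⟩, by rw [← Scheme.Hom.comp_apply, hs']⟩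
  rw [hclosed.closure_eq] at hw'
  obtain ⟨t, ht⟩ := hw'
  refine ⟨t, ?_⟩
  rw [← hs', Scheme.Hom.comp_apply, ht]
  rfl

/-- **Definedness of a rational map on a normal scheme descends along universally open
morphisms.** -/
theorem extends_of_extends_after_universallyOpen (pX : X ⟶ S) (pY : Y ⟶ S)
    [LocallyOfFiniteType pY] [IsSeparated pY] (U : X.Opens) (hU : Dense (U : Set X))
    (h : (U : Scheme.{u}) ⟶ Y)
    (hh : h ≫ pY = U.ι ≫ pX) (f : X' ⟶ X) [UniversallyOpen f] (x' : X')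
    (hXx : ∃ W₀ : X.Opens, f x' ∈ W₀ ∧ IsIntegral (W₀ : Scheme.{u}))
    (hx : IsIntegrallyClosed (X.presheaf.stalk (f x')))
    (V' : X'.Opens) (v' : (V' : Scheme.{u}) ⟶ Y) (hx'V' : x' ∈ V')
    (hv' : v' ≫ pY = V'.ι ≫ f ≫ pX)
    (hagree : X'.homOfLE (inf_le_right : f ⁻¹ᵁ U ⊓ V' ≤ V') ≫ v' =
      X'.homOfLE (inf_le_left : f ⁻¹ᵁ U ⊓ V' ≤ f ⁻¹ᵁ U) ≫ (f ∣_ U) ≫ h) :
    ∃ (V : X.Opens) (v : (V : Scheme.{u}) ⟶ Y), f x' ∈ V ∧ v ≫ pY = V.ι ≫ pX ∧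
      X.homOfLE (inf_le_right : U ⊓ V ≤ V) ≫ v = X.homOfLE (inf_le_left : U ⊓ V ≤ U) ≫ h := by
  classical
  let P := pullback pX pY
  let p₁ : P ⟶ X := pullback.fst pX pY
  let p₂ : P ⟶ Y := pullback.snd pX pY
  have hp₁sep : IsSeparated p₁ := inferInstanceAs (IsSeparated (pullback.fst pX pY))
  have hp₁lft : LocallyOfFiniteType p₁ :=
    inferInstanceAs (LocallyOfFiniteType (pullback.fst pX pY))
  have hcond : p₁ ≫ pX = p₂ ≫ pY := pullback.condition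
  let γ : (U : Scheme.{u}) ⟶ P := pullback.lift U.ι h hh.symm
  have hγ₁ : γ ≫ p₁ = U.ι := pullback.lift_fst _ _ _
  have hγ₂ : γ ≫ p₂ = h := pullback.lift_snd _ _ _
  let P' := pullback f p₁
  let p₁' : P' ⟶ X' := pullback.fst f p₁
  let f' : P' ⟶ P := pullback.snd f p₁
  have hp₁'sep : IsSeparated p₁' := inferInstanceAs (IsSeparated (pullback.fst f p₁))
  have hsq : p₁' ≫ f = f' ≫ p₁ := pullback.condition
  have hf'uo : UniversallyOpen f' := inferInstanceAs (UniversallyOpen (pullback.snd f p₁))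
  have hf'open : IsOpenMap f' := f'.isOpenMap
  let γ' : ((f ⁻¹ᵁ U : X'.Opens) : Scheme.{u}) ⟶ P' :=
    pullback.lift (f ⁻¹ᵁ U).ι ((f ∣_ U) ≫ γ) (by rw [Category.assoc, hγ₁, morphismRestrict_ι])
  have hγ'₁ : γ' ≫ p₁' = (f ⁻¹ᵁ U).ι := pullback.lift_fst _ _ _
  have hγ'₂ : γ' ≫ f' = (f ∣_ U) ≫ γ := pullback.lift_snd _ _ _
  have hpb : IsPullback γ' (f ∣_ U) f' γ := by
    refine IsPullback.of_right ?_ hγ'₂ (IsPullback.of_hasPullback f p₁)
    rw [hγ'₁, hγ₁]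
    exact (isPullback_morphismRestrict f U).flip
  -- the graph of `v'`
  let σ : (V' : Scheme.{u}) ⟶ P := pullback.lift (V'.ι ≫ f) v' (by rw [Category.assoc, hv'])
  have hσ₁ : σ ≫ p₁ = V'.ι ≫ f := pullback.lift_fst _ _ _
  have hσ₂ : σ ≫ p₂ = v' := pullback.lift_snd _ _ _
  let σ' : (V' : Scheme.{u}) ⟶ P' := pullback.lift V'.ι σ hσ₁.symm
  have hσ'₁ : σ' ≫ p₁' = V'.ι := pullback.lift_fst _ _ _
  have hσ'₂ : σ' ≫ f' = σ := pullback.lift_snd _ _ _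
  have hσγ : X'.homOfLE (inf_le_right : f ⁻¹ᵁ U ⊓ V' ≤ V') ≫ σ' =
      X'.homOfLE (inf_le_left : f ⁻¹ᵁ U ⊓ V' ≤ f ⁻¹ᵁ U) ≫ γ' := by
    apply pullback.hom_ext
    · change (_ ≫ σ') ≫ p₁' = (_ ≫ γ') ≫ p₁'
      rw [Category.assoc, Category.assoc, hσ'₁, hγ'₁, Scheme.homOfLE_ι, Scheme.homOfLE_ι]
    · change (_ ≫ σ') ≫ f' = (_ ≫ γ') ≫ f'
      rw [Category.assoc, Category.assoc, hσ'₂, hγ'₂]
      apply pullback.hom_ext
      · change (_ ≫ σ) ≫ p₁ = (_ ≫ _ ≫ γ) ≫ p₁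
        rw [Category.assoc, Category.assoc, Category.assoc, hσ₁, hγ₁, morphismRestrict_ι,
          ← Category.assoc, ← Category.assoc, Scheme.homOfLE_ι, Scheme.homOfLE_ι]
      · change (_ ≫ σ) ≫ p₂ = (_ ≫ _ ≫ γ) ≫ p₂
        rw [Category.assoc, Category.assoc, Category.assoc, hσ₂, hγ₂]
        exact hagree
  have hσγpt : ∀ (t : X') (htU : t ∈ f ⁻¹ᵁ U) (htV : t ∈ V'), γ' ⟨t, htU⟩ = σ' ⟨t, htV⟩ := by
    intro t htU htV
    have e1 : X'.homOfLE (inf_le_right : f ⁻¹ᵁ U ⊓ V' ≤ V') ⟨t, htU, htV⟩ = ⟨t, htV⟩ := by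
      apply V'.ι.isOpenEmbedding.injective
      rw [← Scheme.Hom.comp_apply, Scheme.homOfLE_ι]; rfl
    have e2 : X'.homOfLE (inf_le_left : f ⁻¹ᵁ U ⊓ V' ≤ f ⁻¹ᵁ U) ⟨t, htU, htV⟩ = ⟨t, htU⟩ := by
      apply (f ⁻¹ᵁ U).ι.isOpenEmbedding.injective
      rw [← Scheme.Hom.comp_apply, Scheme.homOfLE_ι]; rfl
    rw [← e1, ← e2, ← Scheme.Hom.comp_apply, ← Scheme.Hom.comp_apply, hσγ]
  have hp₁'σ' : ∀ t, p₁' (σ' t) = V'.ι t := fun t => by rw [← Scheme.Hom.comp_apply, hσ'₁]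
  have hp₁'γ' : ∀ t, p₁' (γ' t) = (f ⁻¹ᵁ U).ι t := fun t => by
    rw [← Scheme.Hom.comp_apply, hγ'₁]
  let z' : P' := σ' ⟨x', hx'V'⟩
  let z : P := f' z'
  have hz'x' : p₁' z' = x' := hp₁'σ' _
  have hz : p₁ z = f x' := by
    change p₁ (f' z') = _
    rw [← Scheme.Hom.comp_apply, ← hsq, Scheme.Hom.comp_apply, hz'x']
  -- `z` lies in the closure of the graph
  have hdense' : Dense ((f ⁻¹ᵁ U : X'.Opens) : Set X') := hU.preimage f.isOpenMap
  have hzΓ : z ∈ closure (Set.range γ) := by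
    have h1 : z' ∈ closure (Set.range γ') := by
      rw [mem_closure_iff]
      intro N hN hz'N
      let N' : Set X' := V'.ι '' (σ' ⁻¹' N)
      have hN' : IsOpen N' := V'.ι.isOpenEmbedding.isOpenMap _ (hN.preimage σ'.continuous)
      obtain ⟨t, ⟨t₀, ht₀N, rfl⟩, htU⟩ := hdense'.inter_open_nonempty N' hN'
        ⟨x', ⟨⟨x', hx'V'⟩, hz'N, rfl⟩⟩
      refine ⟨σ' t₀, ht₀N, ?_⟩
      obtain ⟨t₀, ht₀V⟩ := t₀
      exact ⟨⟨t₀, htU⟩, hσγpt t₀ htU ht₀V⟩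
    have h2 : z ∈ closure (f' '' Set.range γ') :=
      image_closure_subset_closure_image f'.continuous ⟨z', h1, rfl⟩
    refine closure_mono ?_ h2
    rintro _ ⟨_, ⟨t, rfl⟩, rfl⟩
    exact ⟨(f ∣_ U) t, by rw [← Scheme.Hom.comp_apply, ← hγ'₂, Scheme.Hom.comp_apply]⟩
  -- the fibre of the closure of the graph over `f x'` is `{z}`
  have hmain : ∀ z₁ : P, z₁ ∈ closure (Set.range γ) → p₁ z₁ = f x' → z₁ = z := by
    intro z₁ hz₁ hz₁x
    obtain ⟨z₁', hz₁'a, hz₁'b⟩ := Scheme.exists_preimage_of_isPullback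
      (IsPullback.of_hasPullback f p₁) x' z₁ hz₁x.symm
    replace hz₁'a : p₁' z₁' = x' := hz₁'a
    replace hz₁'b : f' z₁' = z₁ := hz₁'b
    have h1 : z₁' ∈ closure (f' ⁻¹' Set.range γ) :=
      hf'open.preimage_closure_subset_closure_preimage (by
        change f' z₁' ∈ closure (Set.range γ); rw [hz₁'b]; exact hz₁)
    have h2 : f' ⁻¹' Set.range γ ⊆ Set.range γ' := by
      rintro w ⟨t, ht⟩
      obtain ⟨t', ht'a, -⟩ := Scheme.exists_preimage_of_isPullback hpb w t ht.symm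
      exact ⟨t', ht'a⟩
    have h3 : z₁' ∈ closure (Set.range γ') := closure_mono h2 h1
    have h4 : z₁' ∈ closure (Set.range σ') := by
      rw [mem_closure_iff] at h3 ⊢
      intro N hN hzN
      obtain ⟨_, ⟨hwN, hwV⟩, ⟨t, rfl⟩⟩ := h3 (N ∩ p₁' ⁻¹' (V' : Set X'))
        (hN.inter (V'.isOpen.preimage p₁'.continuous)) ⟨hzN, by
          change p₁' z₁' ∈ V'; rw [hz₁'a]; exact hx'V'⟩
      obtain ⟨t, htU⟩ := t
      have htV : t ∈ V' := by
        have : p₁' (γ' ⟨t, htU⟩) ∈ V' := hwV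
        rwa [hp₁'γ'] at this
      exact ⟨γ' ⟨t, htU⟩, hwN, ⟨⟨t, htV⟩, (hσγpt t htU htV).symm⟩⟩
    obtain ⟨t, ht⟩ := closure_range_section_inter p₁' V' σ' hσ'₁ z₁' h4 (by
      rw [hz₁'a]; exact hx'V')
    have htx : t = ⟨x', hx'V'⟩ := by
      apply V'.ι.isOpenEmbedding.injective
      rw [← hp₁'σ', ht, hz₁'a]
      rfl
    rw [← hz₁'b, ← ht, htx]
  have hiso : ((⊤ : P.Opens) : Set P) ∩ closure (Set.range γ) ∩ p₁ ⁻¹' {f x'} = {z} := by
    ext w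
    constructor
    · rintro ⟨⟨-, hw1⟩, hw2⟩
      exact hmain w hw1 hw2
    · rintro rfl
      exact ⟨⟨trivial, hzΓ⟩, hz⟩
  obtain ⟨V, v, hxV, hv, hvγ⟩ :=
    exists_extension_of_isSeparated p₁ U γ hγ₁ (f x') hXx hx z hz hzΓ ⊤ hiso
  refine ⟨V, v ≫ p₂, hxV, ?_, ?_⟩
  · rw [Category.assoc, ← hcond, ← Category.assoc, hv]
  · rw [← Category.assoc, hvγ, Category.assoc, hγ₂]

end Groth.Agent.Lib.Helper21.ZMTExt
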