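import Groth.Agent.Lib.Helper21.NagDvr1

set_option autoImplicit false
set_option linter.style.haveILetI false
set_option linter.unusedSectionVars false
universe u

namespace Groth.Agent.Lib.Helper21.ZmtIso

open Groth.Agent.Lib.Helper6.NormalTotalFrac

section RingI

variable {A B : Type*} [CommRing A] [CommRing B] [IsDomain A] [IsDomain B] (φ : A →+* B)

/-- If `A ⊆ B` are domains with `A_s = B_s`, `A_p` integrally closed, and `b ∈ B` is integral over
`A`, then `t b ∈ A` for some `t ∉ p`. -/
theorem exists_mul_eq_of_isIntegralElem (hφ : Function.Injective φ) (p : Ideal A) [p.IsPrime]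
    [IsIntegrallyClosed (Localization.AtPrime p)] (s : A) (hs : s ≠ 0) (b : B)
    (hb : φ.IsIntegralElem b) (hsb : ∃ (n : ℕ) (a : A), φ s ^ n * b = φ a) :
    ∃ t : A, t ∉ p ∧ ∃ c : A, φ t * b = φ c := by
  classical
  obtain ⟨n, a, hna⟩ := hsb
  have hginj : Function.Injective ((algebraMap B (FractionRing B)).comp φ) :=
    (IsFractionRing.injective B (FractionRing B)).comp hφ
  let Φ : FractionRing A →+* FractionRing B := IsFractionRing.lift hginj
  have hΦ : ∀ a : A, Φ (algebraMap A (FractionRing A) a) = algebraMap B (FractionRing B) (φ a) :=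
    fun a => IsFractionRing.lift_algebraMap hginj a
  have hs' : algebraMap A (FractionRing A) s ≠ 0 := by
    rw [Ne, IsFractionRing.to_map_eq_zero_iff]
    exact hs
  set κ : FractionRing A := algebraMap A (FractionRing A) a / (algebraMap A (FractionRing A) s) ^ n
    with hκdef
  have hκs : κ * (algebraMap A (FractionRing A) s) ^ n = algebraMap A (FractionRing A) a := by
    rw [hκdef, div_mul_cancel₀]
    exact pow_ne_zero _ hs'
  have hφs : algebraMap B (FractionRing B) (φ s) ≠ 0 := by
    rw [Ne, IsFractionRing.to_map_eq_zero_iff]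
    intro h0
    exact hs (hφ (by rw [h0, map_zero]))
  have hΦκ : Φ κ = algebraMap B (FractionRing B) b := by
    have h1 : Φ κ * (algebraMap B (FractionRing B) (φ s)) ^ n =
        algebraMap B (FractionRing B) b * (algebraMap B (FractionRing B) (φ s)) ^ n := by
      calc Φ κ * (algebraMap B (FractionRing B) (φ s)) ^ n
          = Φ (κ * (algebraMap A (FractionRing A) s) ^ n) := by
            rw [map_mul, map_pow, hΦ]
        _ = algebraMap B (FractionRing B) (φ a) := by rw [hκs, hΦ]
        _ = algebraMap B (FractionRing B) b * (algebraMap B (FractionRing B) (φ s)) ^ n := by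
            rw [← hna, map_mul, map_pow, mul_comm]
    exact mul_right_cancel₀ (pow_ne_zero _ hφs) h1
  have hκint : IsIntegral A κ := by
    obtain ⟨P, hP, hPb⟩ := hb
    refine ⟨P, hP, ?_⟩
    apply Φ.injective
    rw [map_zero, Polynomial.hom_eval₂, hΦκ]
    have hcomp : Φ.comp (algebraMap A (FractionRing A)) =
        (algebraMap B (FractionRing B)).comp φ := by
      ext x
      exact hΦ x
    rw [hcomp, ← Polynomial.hom_eval₂, hPb, map_zero]
  have hfin : (minimalPrimes A).Finite := by
    rw [IsDomain.minimalPrimes_eq_singleton_bot]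
    exact Set.finite_singleton _
  obtain ⟨t, htp, c, hc⟩ := (normal_at_iff (FractionRing A) hfin p).mp
    ⟨inferInstance, inferInstance⟩ κ hκint
  refine ⟨t, htp, c, ?_⟩
  apply IsFractionRing.injective B (FractionRing B)
  rw [map_mul, ← hΦκ, ← hΦ, ← map_mul, ← Algebra.smul_def, hc, hΦ]

end RingI

section RingR

variable {A B' Sx Sy : Type*} [CommRing A] [CommRing B'] [IsDomain B'] [CommRing Sx] [CommRing Sy]
  [Algebra A Sx] [Algebra B' Sy]

/-- Local criterion: the map on localisations `A_p → B'_q` is bijective when `A ⊆ B'` and every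
element of `B'` is brought into `A` by an element outside `p`. -/
theorem bijective_of_forall_exists_mul (φ : A →+* B') (hφ : Function.Injective φ)
    (p : Ideal A) [p.IsPrime] (q : Ideal B') [q.IsPrime] (hpq : q.comap φ = p)
    [IsLocalization.AtPrime Sx p] [IsLocalization.AtPrime Sy q]
    (ψ : Sx →+* Sy) (hψ : ∀ a, ψ (algebraMap A Sx a) = algebraMap B' Sy (φ a))
    (H : ∀ b : B', ∃ t : A, t ∉ p ∧ ∃ c : A, φ t * b = φ c) :
    Function.Bijective ψ := by
  have hnotq : ∀ t : A, t ∉ p → φ t ∉ q := by
    intro t ht hq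
    apply ht
    rw [← hpq]
    exact hq
  constructor
  · rw [injective_iff_map_eq_zero]
    intro z hz
    obtain ⟨a, v, rfl⟩ := IsLocalization.exists_mk'_eq p.primeCompl z
    have h1 : ψ (algebraMap A Sx a) = 0 := by
      rw [← IsLocalization.mk'_spec Sx a v, map_mul, hz, zero_mul]
    rw [hψ, IsLocalization.map_eq_zero_iff q.primeCompl] at h1
    obtain ⟨w, hw⟩ := h1
    have hw0 : (w : B') ≠ 0 := by
      intro h0
      exact w.2 (by rw [h0]; exact q.zero_mem)
    have h2 : φ a = 0 := by
      rcases mul_eq_zero.mp hw with h | h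
      · exact absurd h hw0
      · exact h
    have h3 : a = 0 := hφ (by rw [h2, map_zero])
    rw [h3, IsLocalization.mk'_zero]
  · intro w
    obtain ⟨b, u, rfl⟩ := IsLocalization.exists_mk'_eq q.primeCompl w
    obtain ⟨t, htp, c, hc⟩ := H b
    obtain ⟨t', ht'p, c', hc'⟩ := H u
    have hc'p : c' ∉ p := by
      intro hmem
      have h1 : φ c' ∈ q := by
        rw [← hpq] at hmem
        exact hmem
      rw [← hc'] at h1
      rcases Ideal.IsPrime.mem_or_mem inferInstance h1 with h | h
      · exact hnotq t' ht'p h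
      · exact u.2 h
    have htc' : t * c' ∈ p.primeCompl := by
      intro hmem
      rcases Ideal.IsPrime.mem_or_mem inferInstance hmem with h | h
      · exact htp h
      · exact hc'p h
    refine ⟨IsLocalization.mk' Sx (t' * c) ⟨t * c', htc'⟩, ?_⟩
    rw [IsLocalization.eq_mk'_iff_mul_eq]
    have hunit : IsUnit (algebraMap B' Sy (φ t * φ t')) := by
      apply IsLocalization.map_units Sy (⟨φ t * φ t', ?_⟩ : q.primeCompl)
      intro hmem
      rcases Ideal.IsPrime.mem_or_mem inferInstance hmem with h | h
      · exact hnotq t htp h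
      · exact hnotq t' ht'p h
    apply hunit.mul_left_injective
    have h1 : ψ (IsLocalization.mk' Sx (t' * c) ⟨t * c', htc'⟩) * algebraMap B' Sy (φ (t * c')) =
        algebraMap B' Sy (φ (t' * c)) := by
      rw [← hψ, ← hψ, ← map_mul]
      congr 1
      exact IsLocalization.mk'_spec Sx (t' * c) ⟨t * c', htc'⟩
    calc ψ (IsLocalization.mk' Sx (t' * c) ⟨t * c', htc'⟩) * algebraMap B' Sy ↑u *
          algebraMap B' Sy (φ t * φ t')
        = ψ (IsLocalization.mk' Sx (t' * c) ⟨t * c', htc'⟩) * algebraMap B' Sy (φ (t * c')) := by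
          rw [map_mul φ t c', ← hc', mul_assoc, ← map_mul]
          congr 2
          ring
      _ = algebraMap B' Sy (φ (t' * c)) := h1
      _ = algebraMap B' Sy b * algebraMap B' Sy (φ t * φ t') := by
          rw [map_mul φ t' c, ← hc, ← map_mul]
          congr 1
          ring

end RingR

end Groth.Agent.Lib.Helper21.ZmtIso
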