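import Groth.Agent.Lib.Helper21.ZmtIso1
import Groth.Agent.Lib.Helper21.NagDvr4

set_option autoImplicit false
set_option linter.style.haveILetI false
set_option linter.unusedSectionVars false
universe u
open AlgebraicGeometry CategoryTheory Limits TopologicalSpace

namespace Groth.Agent.Lib.Helper21.ZmtIso

section Bir

variable {X Y : Scheme.{u}} (f : Y ⟶ X) (W : X.Opens)

/-- If `f` is an isomorphism over `W`, then `f.app V` is an isomorphism for `V ≤ W`. -/
theorem isIso_app_of_le [hfW : IsIso (f ∣_ W)] (V : X.Opens) (hV : V ≤ W) : IsIso (f.app V) := by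
  have hV' : W.ι ''ᵁ (W.ι ⁻¹ᵁ V) = V := by
    rw [Scheme.Hom.image_preimage_eq_opensRange_inf]
    simpa using hV
  have h := morphismRestrict_app f W (W.ι ⁻¹ᵁ V)
  have h1 : IsIso ((f ∣_ W).app (W.ι ⁻¹ᵁ V)) := inferInstance
  rw [h] at h1
  have h2 : IsIso (f.app (W.ι ''ᵁ (W.ι ⁻¹ᵁ V))) := by
    haveI : IsIso (Y.presheaf.map
        (eqToHom (image_morphismRestrict_preimage f W (W.ι ⁻¹ᵁ V))).op) := by
      haveI : IsIso (eqToHom (image_morphismRestrict_preimage f W (W.ι ⁻¹ᵁ V))).op :=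
        inferInstance
      exact Functor.map_isIso _ _
    exact @IsIso.of_isIso_comp_right _ _ _ _ _ _ _ this h1
  exact hV' ▸ h2

/-- If `f` is an isomorphism over `W`, every point of `W` is in the image of `f`. -/
theorem exists_apply_eq_of_mem [hfW : IsIso (f ∣_ W)] (w : X) (hw : w ∈ W) : ∃ y : Y, f y = w := by
  have hsurj : Function.Surjective (f ∣_ W) :=
    (ConcreteCategory.bijective_of_isIso ((f ∣_ W).base)).2
  obtain ⟨y, hy⟩ := hsurj ⟨w, hw⟩
  refine ⟨y.1, ?_⟩
  rw [← morphismRestrict_base_coe, hy]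

end Bir

end Groth.Agent.Lib.Helper21.ZmtIso

namespace Groth.Agent.Lib.Helper21.ZmtIso

open Groth.Agent.Lib.Helper21.NagDvr

section Int

variable {X Y : Scheme.{u}} [IsIntegral X] [IsIntegral Y] (f : Y ⟶ X) (W : X.Opens)
  [hfW : IsIso (f ∣_ W)]
  (U : X.Opens) (hU : IsAffineOpen U) (s : Γ(X, U)) (hs : s ≠ 0) (hsW : X.basicOpen s ≤ W)

include hs in
theorem nonempty_basicOpen : Nonempty (X.basicOpen s) := by
  have h1 : X.basicOpen s ≠ ⊥ := fun h => hs ((AlgebraicGeometry.basicOpen_eq_bot_iff s).mp h)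
  obtain ⟨z, hz⟩ := (Opens.ne_bot_iff_nonempty _).mp h1
  exact ⟨⟨z, hz⟩⟩

include hs hsW hfW in
theorem nonempty_preimage_basicOpen : Nonempty (f ⁻¹ᵁ X.basicOpen s) := by
  obtain ⟨⟨z, hz⟩⟩ := nonempty_basicOpen U s hs
  obtain ⟨y, hy⟩ := exists_apply_eq_of_mem f W z (hsW hz)
  exact ⟨⟨y, show f y ∈ X.basicOpen s from hy ▸ hz⟩⟩

include hs hsW hfW in
theorem app_injective : Function.Injective (f.app U).hom := by
  rw [injective_iff_map_eq_zero]
  intro a ha
  haveI := isIso_app_of_le f W (X.basicOpen s) hsW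
  haveI : Nonempty (X.basicOpen s) := nonempty_basicOpen U s hs
  let i : X.basicOpen s ⟶ U := homOfLE (X.basicOpen_le s)
  have hnat := f.naturality i.op
  have h1 : (f.app (X.basicOpen s)).hom ((X.presheaf.map i.op).hom a) = 0 := by
    rw [← CommRingCat.comp_apply, hnat, CommRingCat.comp_apply, ha, map_zero]
  have h2 : (X.presheaf.map i.op).hom a = 0 :=
    (ConcreteCategory.bijective_of_isIso (f.app (X.basicOpen s))).1 (by rw [h1, map_zero])
  exact map_injective_of_isIntegral X i (by rw [h2, map_zero])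

include hU hs hsW hfW in
theorem exists_pow_mul_eq (b : Γ(Y, f ⁻¹ᵁ U)) :
    ∃ (n : ℕ) (a : Γ(X, U)), (f.app U).hom s ^ n * b = (f.app U).hom a := by
  haveI := isIso_app_of_le f W (X.basicOpen s) hsW
  let i : X.basicOpen s ⟶ U := homOfLE (X.basicOpen_le s)
  let j : f ⁻¹ᵁ X.basicOpen s ⟶ f ⁻¹ᵁ U := (Opens.map f.base).map i
  have hnat : X.presheaf.map i.op ≫ f.app (X.basicOpen s) = f.app U ≫ Y.presheaf.map j.op :=
    f.naturality i.op
  have hnat' : ∀ a : Γ(X, U), (f.app (X.basicOpen s)).hom ((X.presheaf.map i.op).hom a) =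
      (Y.presheaf.map j.op).hom ((f.app U).hom a) := by
    intro a
    rw [← CommRingCat.comp_apply, hnat, CommRingCat.comp_apply]
  obtain ⟨c, hc⟩ := (ConcreteCategory.bijective_of_isIso (f.app (X.basicOpen s))).2
    ((Y.presheaf.map j.op).hom b)
  letI : Algebra Γ(X, U) Γ(X, X.basicOpen s) := (X.presheaf.map i.op).hom.toAlgebra
  haveI : IsLocalization.Away s Γ(X, X.basicOpen s) := hU.isLocalization_basicOpen s
  obtain ⟨n, a, hna⟩ := IsLocalization.Away.surj s c
  refine ⟨n, a, ?_⟩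
  haveI : Nonempty (f ⁻¹ᵁ X.basicOpen s) := nonempty_preimage_basicOpen f W U s hs hsW
  apply map_injective_of_isIntegral Y j
  have hna' : c * ((X.presheaf.map i.op).hom s) ^ n = (X.presheaf.map i.op).hom a := hna
  have hc' : (f.app (X.basicOpen s)).hom c = (Y.presheaf.map j.op).hom b := hc
  change (Y.presheaf.map j.op).hom ((f.app U).hom s ^ n * b) =
    (Y.presheaf.map j.op).hom ((f.app U).hom a)
  rw [map_mul, map_pow, ← hnat', ← hnat', ← hna', map_mul, map_pow, hc', mul_comm]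

end Int

end Groth.Agent.Lib.Helper21.ZmtIso
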