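import Groth.Agent.Lib.Helper21.ZmtIso2

set_option autoImplicit false
set_option linter.style.haveILetI false
set_option linter.unusedSectionVars false
universe u
open AlgebraicGeometry CategoryTheory Limits TopologicalSpace

namespace Groth.Agent.Lib.Helper21.ZmtIso

open Groth.Agent.Lib.Helper21.NagDvr

section Stalk

variable {X Y : Scheme.{u}} [IsIntegral X] [IsIntegral Y] (f : Y ⟶ X) [QuasiCompact f]
  [QuasiSeparated f] (W : X.Opens) [hfW : IsIso (f ∣_ W)]

/-- For a birational (iso over nonempty `W`) qcqs morphism of integral schemes, the relative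
normalization `ν : N → X` induces bijections on stalks at points over normal points of `X`. -/
theorem bijective_stalkMap_fromNormalization (hW : (W : Set X).Nonempty)
    (n : f.normalization)
    (hn : IsIntegrallyClosed (X.presheaf.stalk (f.fromNormalization n))) :
    Function.Bijective (f.fromNormalization.stalkMap n).hom := by
  classical
  obtain ⟨_, ⟨U, hU, rfl⟩, hxU, -⟩ := X.isBasis_affineOpens.exists_subset_of_mem_open
    (Set.mem_univ (f.fromNormalization n)) isOpen_univ
  obtain ⟨w, hw⟩ := hW
  obtain ⟨z, hzU, hzW⟩ : ((U : Set X) ∩ (W : Set X)).Nonempty :=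
    nonempty_preirreducible_inter U.isOpen W.isOpen ⟨_, hxU⟩ ⟨w, hw⟩
  obtain ⟨s, hsW, hzs⟩ := hU.exists_basicOpen_le ⟨z, hzW⟩ hzU
  have hs : s ≠ 0 := by
    rintro rfl
    simp at hzs
  -- nonemptiness of `f ⁻¹ U`
  haveI : Nonempty (f ⁻¹ᵁ U) := by
    obtain ⟨y, hy⟩ := exists_apply_eq_of_mem f W z hzW
    exact ⟨⟨y, show f y ∈ U from hy ▸ hzU⟩⟩
  haveI : Nonempty U := ⟨⟨_, hxU⟩⟩
  have hinjB : Function.Injective (f.app U).hom := app_injective f W U s hs hsW
  have hphi : Function.Injective (phi f U).hom := phi_injective f hU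
  haveI : IsDomain Γ(f.normalization, f.fromNormalization ⁻¹ᵁ U) :=
    Function.Injective.isDomain (phi f U).hom hphi
  have hcompRing : (phi f U).hom.comp (f.fromNormalization.app U).hom = (f.app U).hom := by
    rw [← CommRingCat.hom_comp, fromNormalization_app_phi]
  have hφinj : Function.Injective (f.fromNormalization.app U).hom := by
    have : Function.Injective ((phi f U).hom.comp (f.fromNormalization.app U).hom) := by
      rw [hcompRing]; exact hinjB
    rw [RingHom.coe_comp] at this
    exact Function.Injective.of_comp this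
  have hN := isAffineOpen_preimage f U hU
  have hnN : n ∈ f.fromNormalization ⁻¹ᵁ U := hxU
  letI algA := X.presheaf.algebra_section_stalk ⟨f.fromNormalization n, hxU⟩
  letI algB := f.normalization.presheaf.algebra_section_stalk ⟨n, hnN⟩
  haveI locA := hU.isLocalization_stalk ⟨f.fromNormalization n, hxU⟩
  haveI locB := hN.isLocalization_stalk ⟨n, hnN⟩
  have hpq : (hN.primeIdealOf ⟨n, hnN⟩).asIdeal.comap (f.fromNormalization.app U).hom =
      (hU.primeIdealOf ⟨f.fromNormalization n, hxU⟩).asIdeal := by
    have := IsAffineOpen.comap_primeIdealOf_appLE (f := f.fromNormalization) U hU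
      (f.fromNormalization ⁻¹ᵁ U) hN le_rfl hnN
    rw [Scheme.Hom.appLE_eq_app] at this
    exact congrArg PrimeSpectrum.asIdeal this
  haveI hIC : IsIntegrallyClosed
      (Localization.AtPrime (hU.primeIdealOf ⟨f.fromNormalization n, hxU⟩).asIdeal) := by
    let e : Localization.AtPrime (hU.primeIdealOf ⟨f.fromNormalization n, hxU⟩).asIdeal ≃ₐ[Γ(X, U)]
        (X.presheaf.stalk (f.fromNormalization n)) :=
      IsLocalization.algEquiv (hU.primeIdealOf ⟨f.fromNormalization n, hxU⟩).asIdeal.primeCompl _ _
    exact IsIntegrallyClosed.of_equiv e.symm.toRingEquiv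
  have hψ : ∀ a : Γ(X, U), (f.fromNormalization.stalkMap n).hom
      (algebraMap Γ(X, U) (X.presheaf.stalk (f.fromNormalization n)) a) =
      algebraMap Γ(f.normalization, f.fromNormalization ⁻¹ᵁ U) (f.normalization.presheaf.stalk n)
        ((f.fromNormalization.app U).hom a) := by
    intro a
    change (f.fromNormalization.stalkMap n).hom
        (X.presheaf.germ U (f.fromNormalization n) hxU a) =
      f.normalization.presheaf.germ (f.fromNormalization ⁻¹ᵁ U) n hnN
        ((f.fromNormalization.app U).hom a)
    rw [Scheme.Hom.germ_stalkMap_apply]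
  refine bijective_of_forall_exists_mul (f.fromNormalization.app U).hom hφinj
    (hU.primeIdealOf ⟨f.fromNormalization n, hxU⟩).asIdeal (hN.primeIdealOf ⟨n, hnN⟩).asIdeal hpq
    (f.fromNormalization.stalkMap n).hom hψ ?_
  intro b'
  have hint : (f.app U).hom.IsIntegralElem ((phi f U).hom b') := by
    obtain ⟨P, hP, hPb⟩ := f.fromNormalization.isIntegral_app U hU b'
    refine ⟨P, hP, ?_⟩
    rw [← hcompRing, ← Polynomial.hom_eval₂, hPb, map_zero]
  obtain ⟨t, htp, c, hc⟩ := exists_mul_eq_of_isIntegralElem (f.app U).hom hinjB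
    (hU.primeIdealOf ⟨f.fromNormalization n, hxU⟩).asIdeal s hs ((phi f U).hom b') hint
    (exists_pow_mul_eq f W U hU s hs hsW _)
  refine ⟨t, htp, c, hphi ?_⟩
  rw [map_mul]
  have h1 : ∀ a, (phi f U).hom ((f.fromNormalization.app U).hom a) = (f.app U).hom a := by
    intro a
    rw [← hcompRing]
    rfl
  rw [h1, h1, hc]

end Stalk

end Groth.Agent.Lib.Helper21.ZmtIso
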