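import Groth.Agent.Lib.Helper21.ZmtIso3
import Groth.Agent.Lib.Helper21.OpenNbhd3
import Groth.Agent.Lib.Helper21.OpenImm2
import Mathlib.AlgebraicGeometry.ZariskisMainTheorem

set_option autoImplicit false
set_option linter.style.haveILetI false
set_option linter.unusedSectionVars false
universe u
open AlgebraicGeometry CategoryTheory Limits TopologicalSpace

namespace Groth.Agent.Lib.Helper21.ZmtIso

section Gen

variable {X Y : Scheme.{u}} (f : Y ⟶ X)

/-- If `f` restricted to an open `U` is an open immersion, the stalk maps at points of `U` are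
isomorphisms. -/
theorem isIso_stalkMap_of_mem (U : Y.Opens) [hU : IsOpenImmersion (U.ι ≫ f)] (y : Y) (hy : y ∈ U) :
    IsIso (f.stalkMap y) := by
  let y' : ↥(U : Scheme) := ⟨y, hy⟩
  have h := Scheme.Hom.stalkMap_comp U.ι f y'
  have h1 : IsIso ((U.ι ≫ f).stalkMap y') := inferInstance
  rw [h] at h1
  haveI : IsIso (U.ι.stalkMap y') := inferInstance
  exact @IsIso.of_isIso_comp_right _ _ _ _ _ (f.stalkMap (U.ι y')) (U.ι.stalkMap y') this h1

theorem isIso_stalkMap_comp {N : Scheme.{u}} (τ : Y ⟶ N) (ν : N ⟶ X) (y : Y)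
    (h1 : IsIso (τ.stalkMap y)) (h2 : IsIso (ν.stalkMap (τ y))) :
    IsIso ((τ ≫ ν).stalkMap y) := by
  rw [Scheme.Hom.stalkMap_comp]
  exact @IsIso.comp_isIso _ _ _ _ _ _ _ h2 h1

end Gen

section Main

variable {X Y : Scheme.{u}} [IsIntegral X] [IsIntegral Y] (f : Y ⟶ X) [LocallyOfFiniteType f]
  [IsSeparated f] [QuasiCompact f] (W : X.Opens) [hfW : IsIso (f ∣_ W)]

/-- Birational, separated, finite type morphism of integral schemes, quasi-finite at `y` with
`f y` a normal point: the stalk map at `y` is an isomorphism. -/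
theorem isIso_stalkMap_of_quasiFiniteAt (hW : (W : Set X).Nonempty) (y : Y)
    (hIC : IsIntegrallyClosed (X.presheaf.stalk (f y))) (hq : f.QuasiFiniteAt y) :
    IsIso (f.stalkMap y) := by
  have hτν : f.toNormalization ≫ f.fromNormalization = f := f.toNormalization_fromNormalization
  have hyQ : y ∈ f.quasiFiniteLocus := hq
  have h1 : IsIso (f.toNormalization.stalkMap y) :=
    isIso_stalkMap_of_mem f.toNormalization f.quasiFiniteLocus y hyQ
  have key : ∀ (g : Y ⟶ X) (_ : g = f), IsIntegrallyClosed (X.presheaf.stalk (g y)) := by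
    rintro g rfl
    exact hIC
  have h3 : IsIntegrallyClosed (X.presheaf.stalk (f.fromNormalization (f.toNormalization y))) :=
    key _ hτν
  have h2 : IsIso (f.fromNormalization.stalkMap (f.toNormalization y)) := by
    have hb := bijective_stalkMap_fromNormalization f W hW (f.toNormalization y) h3
    exact (ConcreteCategory.isIso_iff_bijective _).mpr hb
  have h4 := isIso_stalkMap_comp f.toNormalization f.fromNormalization y h1 h2
  have key2 : ∀ (g : Y ⟶ X) (_ : g = f), IsIso (g.stalkMap y) → IsIso (f.stalkMap y) := by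
    rintro g rfl h
    exact h
  exact key2 _ hτν h4

/-- **Stacks 0AB1-type statement**: birational, separated, finite type morphism of integral
schemes, quasi-finite at `y` over a normal point: `f` is an isomorphism over a neighbourhood of
`f y`. -/
theorem exists_isIso_morphismRestrict (hW : (W : Set X).Nonempty) (y : Y)
    (hIC : IsIntegrallyClosed (X.presheaf.stalk (f y))) (hq : f.QuasiFiniteAt y) :
    ∃ V : X.Opens, f y ∈ V ∧ IsIso (f ∣_ V) := by
  have h1 := isIso_stalkMap_of_quasiFiniteAt f W hW y hIC hq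
  have hfin : (irreducibleComponents (X : Type u)).Finite := by
    rw [irreducibleComponents_eq_singleton]
    exact Set.finite_singleton _
  obtain ⟨U, hyU, hU⟩ := OpenNbhd.exists_openImmersion_nhd f hfin y h1
  let V : X.Opens := (U.ι ≫ f).opensRange
  have hUV : U ≤ f ⁻¹ᵁ V := by
    intro a ha
    exact ⟨⟨a, ha⟩, by simp⟩
  have hV : f ⁻¹ᵁ V = U := by
    apply le_antisymm
    · intro z hz
      have hηU : genericPoint Y ∈ U :=
        ((genericPoint_spec Y).mem_open_set_iff U.isOpen).mpr ⟨y, Set.mem_univ _, hyU⟩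
      have hηz : genericPoint Y ⤳ z := genericPoint_specializes z
      refine OpenImm.mem_of_specializes f U hηU hηz ?_
      obtain ⟨a, ha⟩ := hz
      exact ⟨a.1, a.2, by simpa using ha⟩
    · exact hUV
  refine ⟨V, ⟨⟨y, hyU⟩, by simp⟩, ?_⟩
  have key : ∀ (U' : Y.Opens) (_ : U' = U), IsOpenImmersion (U'.ι ≫ f) := by
    rintro U' rfl
    exact hU
  have h2 : IsOpenImmersion ((f ⁻¹ᵁ V).ι ≫ f) := key _ hV
  have h3 : IsOpenImmersion (f ∣_ V ≫ V.ι) := by
    rw [morphismRestrict_ι]
    exact h2
  have h4 : IsOpenImmersion (f ∣_ V) := IsOpenImmersion.of_comp _ V.ι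
  have h5 : Function.Surjective (f ∣_ V) := by
    rintro ⟨v, a, rfl⟩
    refine ⟨⟨a.1, hUV a.2⟩, Subtype.ext ?_⟩
    rw [morphismRestrict_base_coe]
    simp
  exact (isIso_iff_isOpenImmersion_and_surjective _).mpr ⟨h4, ⟨h5⟩⟩

end Main

end Groth.Agent.Lib.Helper21.ZmtIso
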